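import Mathlib

set_option autoImplicit false
set_option linter.unusedSectionVars false
set_option linter.unusedVariables false
set_option linter.unusedSimpArgs false

/-! Finite `r`-subgroups of `SL_2(F)`, `r` an odd prime different from the characteristic, are
cyclic: they embed in the multiplicative group of the algebraic closure through a common
eigenvector. -/

namespace Cfsg.Agent.Lib.Helper5.SL2Cyclic

open Matrix

variable {F : Type*} [Field F]

/-- the matrix of an element of `SL_2(F)` over the algebraic closure -/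
noncomputable def ext (x : Matrix.SpecialLinearGroup (Fin 2) F) :
    Matrix (Fin 2) (Fin 2) (AlgebraicClosure F) :=
  (x : Matrix (Fin 2) (Fin 2) F).map (algebraMap F (AlgebraicClosure F))

theorem ext_mul (x y : Matrix.SpecialLinearGroup (Fin 2) F) : ext (x * y) = ext x * ext y := by
  unfold ext
  rw [Matrix.SpecialLinearGroup.coe_mul, Matrix.map_mul]

theorem ext_one : ext (1 : Matrix.SpecialLinearGroup (Fin 2) F) = 1 := by
  unfold ext
  rw [Matrix.SpecialLinearGroup.coe_one, Matrix.map_one _ (map_zero _) (map_one _)]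

/-- Cayley–Hamilton for `2 × 2` matrices -/
theorem cayley2 (X : Matrix (Fin 2) (Fin 2) F) : X * X = X.trace • X - X.det • 1 := by
  rw [trace_fin_two, det_fin_two]
  ext i j
  fin_cases i <;> fin_cases j <;> simp [mul_apply, Fin.sum_univ_two] <;> ring

theorem det_sub_one (X : Matrix (Fin 2) (Fin 2) F) : (X - 1).det = X.det - X.trace + 1 := by
  rw [trace_fin_two, det_fin_two, det_fin_two]
  simp
  ring

theorem one_add_pow_of_sq_zero (N : Matrix (Fin 2) (Fin 2) F) (hN : N * N = 0) (m : ℕ) :
    (1 + N) ^ m = 1 + (m : F) • N := by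
  induction m with
  | zero => simp
  | succ m ih =>
    rw [pow_succ, ih, add_mul, mul_add, mul_add, one_mul, mul_one, smul_mul_assoc, hN, smul_zero,
      add_zero, one_mul]
    push_cast
    module

/-- an element of finite order prime to the characteristic with a fixed vector is trivial -/
theorem eq_one_of_fix (x : Matrix.SpecialLinearGroup (Fin 2) F)
    (v : Fin 2 → AlgebraicClosure F) (hv0 : v ≠ 0) (hv : ext x *ᵥ v = v) (m : ℕ)
    (hm : (m : F) ≠ 0) (hxm : x ^ m = 1) : x = 1 := by
  set X : Matrix (Fin 2) (Fin 2) F := (x : Matrix (Fin 2) (Fin 2) F) with hX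
  have hdetL : (ext x - 1).det = 0 := by
    apply exists_mulVec_eq_zero_iff.mp
    exact ⟨v, hv0, by rw [sub_mulVec, hv, one_mulVec, sub_self]⟩
  have hdet0 : (X - 1).det = 0 := by
    have h1 : ext x - 1 = (X - 1).map (algebraMap F (AlgebraicClosure F)) := by
      unfold ext
      ext i j
      by_cases hij : i = j
      · subst hij; simp [hX]
      · simp [hX, hij]
    rw [h1] at hdetL
    have h2 := RingHom.map_det (algebraMap F (AlgebraicClosure F)) (X - 1)
    have h3 : (algebraMap F (AlgebraicClosure F)) (X - 1).det = 0 := by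
      rw [h2]
      exact hdetL
    exact (map_eq_zero _).mp h3
  have htr : X.trace = 2 := by
    rw [det_sub_one, hX, x.2] at hdet0
    linear_combination -hdet0
  set N : Matrix (Fin 2) (Fin 2) F := X - 1 with hN
  have hNN : N * N = 0 := by
    have h1 : N * N = X * X - (2 : F) • X + 1 := by
      rw [hN]
      rw [sub_mul, mul_sub, mul_sub, mul_one, one_mul, mul_one]
      module
    rw [h1, cayley2, htr, hX, x.2]
    module
  have hXN : X = 1 + N := by rw [hN]; abel
  have hpow : X ^ m = 1 := by
    have := congrArg (fun y : Matrix.SpecialLinearGroup (Fin 2) F =>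
      (y : Matrix (Fin 2) (Fin 2) F)) hxm
    simpa using this
  rw [hXN, one_add_pow_of_sq_zero N hNN m] at hpow
  have hmN : (m : F) • N = 0 := by
    have : (1 : Matrix (Fin 2) (Fin 2) F) + (m : F) • N - 1 = 0 := by rw [hpow, sub_self]
    rwa [add_sub_cancel_left] at this
  have hN0 : N = 0 := (smul_eq_zero.mp hmN).resolve_left hm
  apply Subtype.ext
  show X = 1
  rw [hXN, hN0, add_zero]

/-- a matrix of `SL_2(F)` which is scalar over the algebraic closure is scalar -/
theorem scalar_of_ext_scalar (z : Matrix.SpecialLinearGroup (Fin 2) F) (l : AlgebraicClosure F)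
    (h : ext z = l • 1) : (z : Matrix (Fin 2) (Fin 2) F) = (z : Matrix (Fin 2) (Fin 2) F) 0 0 • 1 := by
  have hinj := (algebraMap F (AlgebraicClosure F)).injective
  have e := fun i j => congrFun (congrFun h i) j
  unfold ext at e
  simp only [map_apply, Matrix.smul_apply, smul_eq_mul] at e
  have e00 := e 0 0
  have e01 := e 0 1
  have e10 := e 1 0
  have e11 := e 1 1
  rw [one_apply_eq, mul_one] at e00 e11
  rw [one_apply_ne (by decide), mul_zero] at e01 e10
  have h01 : (z : Matrix (Fin 2) (Fin 2) F) 0 1 = 0 := (map_eq_zero _).mp e01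
  have h10 : (z : Matrix (Fin 2) (Fin 2) F) 1 0 = 0 := (map_eq_zero _).mp e10
  have h11 : (z : Matrix (Fin 2) (Fin 2) F) 1 1 = (z : Matrix (Fin 2) (Fin 2) F) 0 0 :=
    hinj (by rw [e11, e00])
  ext i j
  fin_cases i <;> fin_cases j <;> simp [h01, h10, h11]

/-- finite `r`-subgroups of `SL_2(F)` are cyclic, for `r` an odd prime invertible in `F` -/
theorem isCyclic_of_isPGroup (r : ℕ) [Fact r.Prime] (hr2 : r ≠ 2) (hrF : (r : F) ≠ 0)
    (R : Subgroup (Matrix.SpecialLinearGroup (Fin 2) F)) [Finite ↥R] (hR : IsPGroup r ↥R) :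
    IsCyclic ↥R := by
  by_cases htriv : Subsingleton ↥R
  · exact isCyclic_of_subsingleton
  rw [not_subsingleton_iff_nontrivial] at htriv
  have hcn := hR.center_nontrivial
  obtain ⟨⟨z, hzc⟩, hz1⟩ := exists_ne (1 : ↥(Subgroup.center ↥R))
  have hz1' : z ≠ 1 := fun h => hz1 (Subtype.ext h)
  obtain ⟨k, hk⟩ := hR.exists_card_eq
  have hmF : ((r ^ k : ℕ) : F) ≠ 0 := by
    push_cast
    exact pow_ne_zero _ hrF
  have hpow : ∀ x : ↥R, x.1 ^ (r ^ k) = 1 := by
    intro x
    have h1 : x ^ Nat.card ↥R = 1 := pow_card_eq_one'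
    rw [hk] at h1
    have := congrArg Subtype.val h1
    simpa using this
  -- `z` is not scalar
  have hzns : ∀ s : F, (z.1 : Matrix (Fin 2) (Fin 2) F) ≠ s • 1 := by
    intro s hs
    have hs2 : s * s = 1 := by
      have := z.1.2
      rw [hs, det_smul, det_one, Fintype.card_fin, mul_one, pow_two] at this
      exact this
    have hz2 : z.1 ^ 2 = 1 := by
      apply Subtype.ext
      rw [Matrix.SpecialLinearGroup.coe_pow, hs, pow_two, smul_mul_smul_comm, hs2, one_smul,
        mul_one]
      rfl
    have ho : orderOf z.1 ∣ 2 := orderOf_dvd_of_pow_eq_one hz2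
    have ho' : orderOf z.1 ∣ r ^ k := orderOf_dvd_of_pow_eq_one (hpow z)
    have hcop : Nat.Coprime 2 (r ^ k) :=
      ((Nat.coprime_primes Nat.prime_two Fact.out).mpr (Ne.symm hr2)).pow_right k
    have h1 : orderOf z.1 ∣ 1 := by
      have := Nat.dvd_gcd ho ho'
      rwa [hcop] at this
    have h2 : z.1 = 1 := orderOf_eq_one_iff.mp (Nat.dvd_one.mp h1)
    exact hz1' (Subtype.ext h2)
  -- an eigenvector over the algebraic closure
  obtain ⟨l, hl⟩ := Module.End.exists_eigenvalue (toLin' (ext z.1))
  obtain ⟨v, hv⟩ := hl.exists_hasEigenvector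
  have hv0 : v ≠ 0 := hv.2
  have hzv : ext z.1 *ᵥ v = l • v := by
    have := hv.apply_eq_smul
    rwa [toLin'_apply] at this
  -- the eigenspace is a line
  set E := Module.End.eigenspace (toLin' (ext z.1)) l with hE
  have hEtop : E ≠ ⊤ := by
    intro h
    have hall : ∀ w : Fin 2 → AlgebraicClosure F, ext z.1 *ᵥ w = l • w := by
      intro w
      have hw : w ∈ E := by rw [h]; exact Submodule.mem_top
      rw [hE, Module.End.mem_eigenspace_iff, toLin'_apply] at hw
      exact hw
    have hsc : ext z.1 = l • 1 := by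
      rw [ext_iff_mulVec]
      intro w
      rw [hall w, smul_mulVec, one_mulVec]
    exact hzns _ (scalar_of_ext_scalar z.1 l hsc)
  have hvE : v ∈ E := hv.1
  have hfin : Module.finrank (AlgebraicClosure F) ↥E = 1 := by
    have h1 : Module.finrank (AlgebraicClosure F) ↥E < 2 := by
      have := Submodule.finrank_lt hEtop
      rwa [Module.finrank_fintype_fun_eq_card, Fintype.card_fin] at this
    have h2 : 0 < Module.finrank (AlgebraicClosure F) ↥E := by
      rw [Module.finrank_pos_iff_exists_ne_zero]
      exact ⟨⟨v, hvE⟩, fun h => hv0 (congrArg Subtype.val h)⟩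
    omega
  have hex : ∀ x : ↥R, ∃ c : AlgebraicClosure F, ext x.1 *ᵥ v = c • v := by
    intro x
    have hcomm : ext x.1 * ext z.1 = ext z.1 * ext x.1 := by
      have h1 : x * z = z * x := (Subgroup.mem_center_iff.mp hzc) x
      have h2 : x.1 * z.1 = z.1 * x.1 := congrArg Subtype.val h1
      rw [← ext_mul, ← ext_mul, h2]
    have hmem : ext x.1 *ᵥ v ∈ E := by
      rw [hE, Module.End.mem_eigenspace_iff, toLin'_apply, mulVec_mulVec, ← hcomm, ← mulVec_mulVec,
        hzv, mulVec_smul]
    obtain ⟨c, hc⟩ := exists_smul_eq_of_finrank_eq_one hfin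
      (x := (⟨v, hvE⟩ : ↥E)) (fun h => hv0 (congrArg Subtype.val h)) ⟨_, hmem⟩
    exact ⟨c, (congrArg Subtype.val hc).symm⟩
  choose f hf using hex
  have huniq : ∀ c c' : AlgebraicClosure F, c • v = c' • v → c = c' := by
    intro c c' h
    have : (c - c') • v = 0 := by rw [sub_smul, h, sub_self]
    rcases smul_eq_zero.mp this with h1 | h1
    · exact sub_eq_zero.mp h1
    · exact absurd h1 hv0
  let φ : ↥R →* AlgebraicClosure F :=
    { toFun := f
      map_one' := by
        apply huniq
        rw [← hf 1, one_smul]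
        show ext (1 : Matrix.SpecialLinearGroup (Fin 2) F) *ᵥ v = v
        rw [ext_one, one_mulVec]
      map_mul' := by
        intro x y
        apply huniq
        rw [← hf (x * y)]
        show ext (x.1 * y.1) *ᵥ v = _
        rw [ext_mul, ← mulVec_mulVec, hf y, mulVec_smul, hf x, smul_smul, mul_comm] }
  have hinj : Function.Injective φ := by
    rw [injective_iff_map_eq_one]
    intro x hx
    have hx' : f x = 1 := hx
    have hfix : ext x.1 *ᵥ v = v := by rw [hf x, hx', one_smul]
    exact Subtype.ext (eq_one_of_fix x.1 v hv0 hfix (r ^ k) hmF (hpow x))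
  exact isCyclic_of_injective_ringHom φ hinj

end Cfsg.Agent.Lib.Helper5.SL2Cyclic
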