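import Mathlib
import Cfsg.Prelude.Def_PLocal
import Cfsg.Prelude.Def_Solvable
import Cfsg.Prelude.Def_Transfer
import Cfsg.Agent.Lib.Helper1.PCore
import Cfsg.Agent.Lib.Helper1.ZJ9
import Cfsg.Agent.Lib.Helper1.Fsg1
import Cfsg.Agent.Lib.Helper1.NormalPComplement

set_option autoImplicit false
set_option maxHeartbeats 1000000
set_option linter.style.haveILetI false
set_option linter.unusedVariables false

/-!
# S2756, step 4 of helper8's plan (helper5): `C_G(O_q(G)) ≤ O_q(G)` in a minimal counterexample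
-/

universe u

namespace Cfsg.Agent.Lib.Helper5.ZJI

open Cfsg.Agent.Lib.Helper1

/-- An element of `M` normalizing `Z ≤ M` normalizes the image of `Z` in `G`. -/
theorem coe_mem_normalizer_map {G : Type u} [Group G] (M : Subgroup G) (Z : Subgroup M)
    (n : M) (hn : n ∈ Subgroup.normalizer (Z : Set M)) :
    (n : G) ∈ Subgroup.normalizer ((Z.map M.subtype : Subgroup G) : Set G) := by
  rw [Subgroup.mem_normalizer_iff] at hn ⊢
  intro h
  constructor
  · rintro ⟨z, hz, rfl⟩
    exact ⟨n * z * n⁻¹, (hn z).mp hz, by simp⟩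
  · rintro ⟨w, hw, hwe⟩
    have hw' : (w : G) = (n : G) * h * (n : G)⁻¹ := hwe
    have hh : h = ((n⁻¹ * w * n : M) : G) := by
      simp [hw', mul_assoc]
    refine ⟨n⁻¹ * w * n, ?_, hh.symm⟩
    have := (hn (n⁻¹ * w * n)).mpr (by simpa [mul_assoc] using hw)
    exact this

/-- `ZJ` of a Sylow subgroup of `M` obtained by restriction, seen in `G`. -/
theorem centerThompsonAOf_subgroupOf {G : Type u} [Group G] [Finite G] (M T : Subgroup G)
    (hTM : T ≤ M) :
    Cfsg.centerThompsonAOf T =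
      (Cfsg.centerThompsonAOf (T.subgroupOf M)).map M.subtype := by
  have h1 : (T.subgroupOf M).map M.subtype = T := by
    rw [Subgroup.subgroupOf_map_subtype]; exact inf_eq_left.mpr hTM
  have h2 := ZJ.centerThompsonAOf_map_of_injOn M.subtype (T.subgroupOf M)
    (fun a _ b _ hab => Subtype.ext hab)
  rw [h1] at h2
  exact h2

theorem centralizer_pCore_le {G : Type u} [Group G] [Finite G] (q : ℕ) [Fact q.Prime]
    (hIH : ∀ M : Subgroup G, M ≠ ⊤ →
      (∃ x s : M, x ≠ 1 ∧ (∃ k : ℕ, x ^ (q ^ k) = 1) ∧ s * x * s⁻¹ = x⁻¹) →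
      ∀ T : Sylow q M, ∃ y ∈ (T : Subgroup M), y ≠ 1 ∧
        ∃ n ∈ Subgroup.normalizer (Cfsg.centerThompsonAOf (T : Subgroup M) : Set M),
          n * y * n⁻¹ = y⁻¹)
    (hplus : ∀ T : Sylow q G, ∀ y ∈ (T : Subgroup G), y ≠ 1 →
      ∀ n ∈ Subgroup.normalizer (Cfsg.centerThompsonAOf (T : Subgroup G) : Set G),
        n * y * n⁻¹ ≠ y⁻¹)
    (hOq' : ∀ N : Subgroup G, N.Normal → (Nat.card N).Coprime q → N = ⊥)
    (x s : G) (hx1 : x ≠ 1) (hxP : x ∈ Cfsg.pCore q G) (hinv : s * x * s⁻¹ = x⁻¹) :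
    Subgroup.centralizer (Cfsg.pCore q G : Set G) ≤ Cfsg.pCore q G := by
  classical
  set P : Subgroup G := Cfsg.pCore q G with hPdef
  haveI hPn : P.Normal := Cfsg.Agent.Lib.Helper1.pCore_normal q
  have hPq : IsPGroup q P := Cfsg.Agent.Lib.Helper1.pCore_isPGroup q
  set C : Subgroup G := Subgroup.centralizer (P : Set G) with hCdef
  haveI hCn : C.Normal := by rw [hCdef]; infer_instance
  set Chat : Subgroup G := P ⊔ C with hChat
  haveI hChatn : Chat.Normal := by rw [hChat]; infer_instance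
  -- a Sylow q-subgroup of Chat
  obtain ⟨T1'⟩ : Nonempty (Sylow q Chat) := inferInstance
  set T1 : Subgroup G := (T1' : Subgroup Chat).map Chat.subtype with hT1def
  have hT1q : IsPGroup q T1 := T1'.isPGroup'.map _
  have hT1le : T1 ≤ Chat := by
    rintro _ ⟨z, _, rfl⟩; exact z.2
  obtain ⟨T, hT1T⟩ := hT1q.exists_le_sylow
  -- T ⊓ Chat = T1
  have hmax : ∀ R : Subgroup G, IsPGroup q R → T1 ≤ R → R ≤ Chat → R = T1 := by
    intro R hRq hT1R hRC
    have h1 : IsPGroup q (R.subgroupOf Chat) := hRq.comap_subtype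
    have h2 : (T1' : Subgroup Chat) ≤ R.subgroupOf Chat := by
      intro z hz
      rw [Subgroup.mem_subgroupOf]
      exact hT1R ⟨z, hz, rfl⟩
    have h3 := T1'.is_maximal' h1 h2
    have h4 : (R.subgroupOf Chat).map Chat.subtype = R := by
      rw [Subgroup.subgroupOf_map_subtype]; exact inf_eq_left.mpr hRC
    rw [← h4, h3]
  have hTC : (T : Subgroup G) ⊓ Chat = T1 :=
    hmax _ (T.isPGroup'.to_le inf_le_left) (le_inf hT1T hT1le) inf_le_right
  have hPT1 : P ≤ T1 := by
    rw [← hTC]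
    exact le_inf (Cfsg.Agent.Lib.Helper1.pCore_le_sylow q T) le_sup_left
  -- T normalizes T1
  have hTN : (T : Subgroup G) ≤ Subgroup.normalizer (T1 : Set G) := by
    intro t ht
    rw [Subgroup.mem_normalizer_iff]
    intro h
    rw [← hTC, Subgroup.mem_inf, Subgroup.mem_inf]
    constructor
    · rintro ⟨h1, h2⟩
      exact ⟨T.mul_mem (T.mul_mem ht h1) (T.inv_mem ht), hChatn.conj_mem h h2 t⟩
    · rintro ⟨h1, h2⟩
      refine ⟨?_, ?_⟩
      · have := T.mul_mem (T.mul_mem (T.inv_mem ht) h1) ht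
        simpa [mul_assoc] using this
      · have := hChatn.conj_mem _ h2 t⁻¹
        simpa [mul_assoc] using this
  -- Frattini
  have hFr : Subgroup.normalizer (T1 : Set G) ⊔ Chat = ⊤ := Sylow.normalizer_sup_eq_top T1'
  have hFr2 : Subgroup.normalizer (T1 : Set G) ⊔ C = ⊤ := by
    have hPN : P ≤ Subgroup.normalizer (T1 : Set G) := hPT1.trans Subgroup.le_normalizer
    rw [eq_top_iff, ← hFr, hChat]
    apply sup_le le_sup_left
    exact sup_le (hPN.trans le_sup_left) le_sup_right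
  -- decompose s
  have hs : s ∈ (Subgroup.normalizer (T1 : Set G) ⊔ C : Subgroup G) := by
    rw [hFr2]; exact Subgroup.mem_top s
  have hs' : s ∈ ((Subgroup.normalizer (T1 : Set G) ⊔ C : Subgroup G) : Set G) := hs
  rw [Subgroup.mul_normal] at hs'
  obtain ⟨n, hn, c, hc, hnc⟩ := Set.mem_mul.mp hs'
  have hcx : c * x * c⁻¹ = x := by
    have hc' : c ∈ Subgroup.centralizer (P : Set G) := hc
    rw [Subgroup.mem_centralizer_iff] at hc'
    have := hc' x hxP
    rw [← this, mul_assoc, mul_inv_cancel, mul_one]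
  have hninv : n * x * n⁻¹ = x⁻¹ := by
    have hsn : s = n * c := hnc.symm
    rw [hsn] at hinv
    calc n * x * n⁻¹ = n * (c * x * c⁻¹) * n⁻¹ := by rw [hcx]
      _ = n * c * x * (n * c)⁻¹ := by simp [mul_assoc]
      _ = x⁻¹ := hinv
  -- T1 is normal in G
  have hT1n : Subgroup.normalizer (T1 : Set G) = ⊤ := by
    by_contra hne
    set M : Subgroup G := Subgroup.normalizer (T1 : Set G) with hMdef
    have hxM : x ∈ M := Subgroup.le_normalizer (hPT1 hxP)
    obtain ⟨k, hk⟩ := hPq ⟨x, hxP⟩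
    have hk' : x ^ (q ^ k) = 1 := by
      have := congrArg Subtype.val hk
      simpa using this
    have hex : ∃ x' s' : M, x' ≠ 1 ∧ (∃ k : ℕ, x' ^ (q ^ k) = 1) ∧ s' * x' * s'⁻¹ = x'⁻¹ := by
      refine ⟨⟨x, hxM⟩, ⟨n, hn⟩, ?_, ⟨k, ?_⟩, ?_⟩
      · intro h; apply hx1; exact congrArg Subtype.val h
      · apply Subtype.ext; simpa using hk'
      · apply Subtype.ext; simpa using hninv
    obtain ⟨y, hy, hy1, n', hn', hyn⟩ := hIH M hne hex (T.subtype hTN)
    rw [Sylow.coe_subtype] at hy hn'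
    have hyT : (y : G) ∈ (T : Subgroup G) := by
      rw [Subgroup.mem_subgroupOf] at hy; exact hy
    have hy1' : (y : G) ≠ 1 := by
      intro h; apply hy1; exact Subtype.ext h
    have hn'' : (n' : G) ∈ Subgroup.normalizer
        (Cfsg.centerThompsonAOf (T : Subgroup G) : Set G) := by
      rw [centerThompsonAOf_subgroupOf M T hTN]
      exact coe_mem_normalizer_map M _ n' hn'
    apply hplus T y hyT hy1' n' hn''
    have := congrArg Subtype.val hyn
    simpa using this
  have hT1normal : T1.Normal := Subgroup.normalizer_eq_top_iff.mp hT1n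
  have hT1P : T1 = P := le_antisymm (Cfsg.Agent.Lib.Helper1.le_pCore hT1normal hT1q) hPT1
  -- every Sylow q-subgroup of C lies in P
  have hcore : Cfsg.pPrimeCore q G = ⊥ := by
    unfold Cfsg.pPrimeCore
    rw [sSup_eq_bot]
    intro N hN
    exact hOq' N hN.1 hN.2
  obtain ⟨Q'⟩ : Nonempty (Sylow q C) := inferInstance
  have hQP : ∀ a : C, a ∈ (Q' : Subgroup C) → (a : G) ∈ P := by
    intro a ha
    set Qg : Subgroup G := (Q' : Subgroup C).map C.subtype with hQg
    have hQgq : IsPGroup q Qg := Q'.isPGroup'.map _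
    have hQgC : Qg ≤ C := by
      rintro _ ⟨z, _, rfl⟩; exact z.2
    have hR : IsPGroup q (Qg ⊔ P : Subgroup G) := hQgq.to_sup_of_normal_right hPq
    have hRle : (Qg ⊔ P : Subgroup G) ≤ Chat :=
      sup_le (hQgC.trans le_sup_right) le_sup_left
    have hReq := hmax _ hR (hT1P ▸ le_sup_right) hRle
    rw [hT1P] at hReq
    rw [← hReq]
    exact le_sup_left (a := Qg) ⟨a, ha, rfl⟩
  have hNC : Subgroup.normalizer ((Q' : Subgroup C) : Set C) ≤
      Subgroup.centralizer ((Q' : Subgroup C) : Set C) := by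
    intro b _
    rw [Subgroup.mem_centralizer_iff]
    intro a ha
    have haP := hQP a ha
    have hb : (b : G) ∈ Subgroup.centralizer (P : Set G) := b.2
    rw [Subgroup.mem_centralizer_iff] at hb
    apply Subtype.ext
    simpa using hb a haP
  have hNPC : Cfsg.HasNormalPComplement q C :=
    hasNormalPComplement_of_normalizer_le_centralizer Q' hNC
  have hCq : IsPGroup q C := Fsg.isPGroup_of_normalPComplement hcore C hNPC
  exact Cfsg.Agent.Lib.Helper1.le_pCore hCn hCq

end Cfsg.Agent.Lib.Helper5.ZJI
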