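import Mathlib
import Cfsg.Agent.Lib.Helper1.AODefs
import Cfsg.Agent.Lib.Helper4.AOG1
import Cfsg.Agent.Lib.Helper6.AOG5b

set_option autoImplicit false
set_option linter.unusedVariables false
set_option linter.unusedSectionVars false
set_option linter.style.longLine false
set_option linter.style.haveILetI false

/-!
# S3406 (ii-b): pieces T1 (sylow2), T5 (class_eq), T7 (orderOf_dvd_of_comm), T7' (one_le_com)
-/

open Cfsg.Agent.Lib.Helper1.AO
universe u

namespace Cfsg.Agent.Lib.Helper5.AO

variable {G : Type u} [Group G] [Finite G] {p r : ℕ}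

/-- in a spectrum `{1,2,p,2p,r}` group an element of 2-power order has order `1` or `2`. -/
theorem sq_eq_one_of_two_pow (H : TwoP G p r) (x : G) (k : ℕ) (hx : x ^ (2 ^ k) = 1) : x ^ 2 = 1 := by
  have hd : orderOf x ∣ 2 ^ k := orderOf_dvd_of_pow_eq_one hx
  have hp := H.hp
  have hr := H.hr
  have hpodd : ¬ p ∣ 2 ^ k := by
    intro h
    have := (Nat.prime_dvd_prime_iff_eq hp Nat.prime_two).mp (hp.dvd_of_dvd_pow h)
    exact H.hp2 this
  have hrodd : ¬ r ∣ 2 ^ k := by
    intro h
    have := (Nat.prime_dvd_prime_iff_eq hr Nat.prime_two).mp (hr.dvd_of_dvd_pow h)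
    exact H.hr2 this
  rcases H.spec x with h | h | h | h | h
  · rw [orderOf_eq_one_iff] at h; rw [h]; simp
  · rw [← h]; exact pow_orderOf_eq_one x
  · exact absurd (h ▸ hd) hpodd
  · exact absurd (dvd_trans (Dvd.intro_left 2 rfl) (h ▸ hd)) hpodd
  · exact absurd (h ▸ hd) hrodd

/-- two elements of a group of order two different from one are equal. -/
theorem eq_of_card_two {K : Type*} [Group K] (hK : Nat.card K = 2) (x y : K) (hx : x ≠ 1)
    (hy : y ≠ 1) : x = y := by
  classical
  haveI : Finite K := Nat.finite_of_card_ne_zero (by omega)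
  haveI := Fintype.ofFinite K
  rw [Nat.card_eq_fintype_card] at hK
  by_contra hxy
  have h3 : ({1, x, y} : Finset K).card = 3 := by
    rw [Finset.card_insert_of_notMem, Finset.card_insert_of_notMem, Finset.card_singleton]
    · simpa using hxy
    · simp only [Finset.mem_insert, Finset.mem_singleton, not_or]
      exact ⟨fun h => hx h.symm, fun h => hy h.symm⟩
  have := Finset.card_le_univ ({1, x, y} : Finset K)
  omega

-- T1
theorem sylow2 (H : TwoP G p r) (S : Sylow 2 G) :
    (∀ x ∈ (S : Subgroup G), x ^ 2 = 1) ∧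
    (∀ x ∈ (S : Subgroup G), ∀ y ∈ (S : Subgroup G), x * y = y * x) ∧
    4 ≤ Nat.card (S : Subgroup G) := by
  have hexp : ∀ x ∈ (S : Subgroup G), x ^ 2 = 1 := by
    intro x hx
    obtain ⟨k, hk⟩ := S.isPGroup' ⟨x, hx⟩
    have hk' : x ^ (2 ^ k) = 1 := by
      have := congrArg Subtype.val hk
      simpa using this
    exact sq_eq_one_of_two_pow H x k hk'
  have hab : ∀ x ∈ (S : Subgroup G), ∀ y ∈ (S : Subgroup G), x * y = y * x := by
    intro x hx y hy
    have hxy := hexp (x * y) (mul_mem hx hy)
    have hx2 := hexp x hx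
    have hy2 := hexp y hy
    have hxi : x⁻¹ = x := by
      rw [inv_eq_iff_mul_eq_one, ← pow_two]; exact hx2
    have hyi : y⁻¹ = y := by
      rw [inv_eq_iff_mul_eq_one, ← pow_two]; exact hy2
    have hxyi : (x * y)⁻¹ = x * y := by
      rw [inv_eq_iff_mul_eq_one, ← pow_two]; exact hxy
    calc x * y = (x * y)⁻¹ := hxyi.symm
      _ = y⁻¹ * x⁻¹ := mul_inv_rev x y
      _ = y * x := by rw [hxi, hyi]
  refine ⟨hexp, hab, ?_⟩
  -- 2 ∣ |G|
  obtain ⟨w, hw⟩ := H.ex
  have h2G : 2 ∣ Nat.card G := by
    have : orderOf w ∣ Nat.card G := orderOf_dvd_natCard w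
    rw [hw] at this
    exact dvd_trans (Dvd.intro _ rfl) this
  haveI : Fact (Nat.Prime 2) := ⟨Nat.prime_two⟩
  obtain ⟨n, hn⟩ := (IsPGroup.iff_card.mp S.isPGroup')
  have hSne : (S : Subgroup G) ≠ ⊥ := Sylow.ne_bot_of_dvd_card S h2G
  have hn0 : n ≠ 0 := by
    intro h0
    rw [h0, pow_zero] at hn
    exact hSne ((Subgroup.card_eq_one).mp hn)
  by_cases hn1 : n = 1
  · exfalso
    rw [hn1, pow_one] at hn
    apply Cfsg.Agent.Lib.Helper6.AO.false_of_normalizer_le_centralizer H.simple H.nonab S hSne
    intro g hg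
    rw [Subgroup.mem_centralizer_iff]
    intro x hx
    by_cases hx1 : x = 1
    · rw [hx1]; simp
    · have hgx : g * x * g⁻¹ ∈ (S : Subgroup G) := by
        rw [Subgroup.mem_normalizer_iff] at hg
        exact (hg x).mp hx
      have hne : g * x * g⁻¹ ≠ 1 := by
        intro h
        apply hx1
        have : x = g⁻¹ * (g * x * g⁻¹) * g := by group
        rw [this, h]; group
      have := eq_of_card_two hn (⟨g * x * g⁻¹, hgx⟩ : (S : Subgroup G)) ⟨x, hx⟩
        (by intro h; exact hne (congrArg Subtype.val h))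
        (by intro h; exact hx1 (congrArg Subtype.val h))
      have h2 : g * x * g⁻¹ = x := congrArg Subtype.val this
      calc x * g = (g * x * g⁻¹) * g := by rw [h2]
        _ = g * x := by group
  · rw [hn]
    have : 2 ≤ n := by omega
    calc 4 = 2 ^ 2 := by norm_num
      _ ≤ 2 ^ n := Nat.pow_le_pow_right (by norm_num) this

-- T5
theorem class_eq (H : TwoP G p r) :
    Nat.card G = 1 + cnt G 2 + cnt G p + cnt G (2 * p) + cnt G r := by
  classical
  haveI := Fintype.ofFinite G
  have hp := H.hp
  have hr := H.hr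
  have hp2 := H.hp2
  have hr2 := H.hr2
  have hpr := H.hpr
  have hp1 : p ≠ 1 := hp.ne_one
  have hr1 : r ≠ 1 := hr.ne_one
  have hp0 : p ≠ 0 := hp.ne_zero
  have hcnt : ∀ m : ℕ, cnt G m = (Finset.univ.filter (fun x : G => orderOf x = m)).card := by
    intro m
    unfold cnt
    rw [Nat.card_eq_fintype_card, Fintype.card_subtype]
  have hsum := Finset.card_eq_sum_card_fiberwise (f := (orderOf : G → ℕ)) (s := Finset.univ)
    (t := ({1, 2, p, 2 * p, r} : Finset ℕ)) (by
      intro x _
      simp only [Finset.coe_insert, Finset.coe_singleton, Set.mem_insert_iff, Set.mem_singleton_iff]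
      exact H.spec x)
  have hr2p : r ≠ 2 * p := by
    intro h
    have h2r : 2 ∣ r := ⟨p, h⟩
    exact hr2 ((Nat.prime_dvd_prime_iff_eq Nat.prime_two hr).mp h2r).symm
  rw [Finset.sum_insert, Finset.sum_insert, Finset.sum_insert, Finset.sum_insert,
    Finset.sum_singleton] at hsum
  · rw [Nat.card_eq_fintype_card, ← Finset.card_univ, hsum, hcnt 2, hcnt p, hcnt (2 * p), hcnt r]
    have h1 : (Finset.univ.filter (fun x : G => orderOf x = 1)).card = 1 := by
      rw [Finset.card_eq_one]
      refine ⟨1, ?_⟩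
      ext x
      simp [orderOf_eq_one_iff]
    rw [h1]
    ring
  · simp only [Finset.mem_singleton]; omega
  · simp only [Finset.mem_insert, Finset.mem_singleton, not_or]
    refine ⟨by omega, hpr⟩
  · simp only [Finset.mem_insert, Finset.mem_singleton, not_or]
    refine ⟨fun h => hp2 h.symm, by omega, fun h => hr2 h.symm⟩
  · simp only [Finset.mem_insert, Finset.mem_singleton, not_or]
    refine ⟨by omega, fun h => hp1 h.symm, by omega, fun h => hr1 h.symm⟩

-- T7
theorem orderOf_dvd_of_comm (H : TwoP G p r) (t : G) (ht : orderOf t = 2 ∨ orderOf t = p) (c : G)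
    (hc : c * t = t * c) : orderOf c ∣ 2 * p := by
  have hp := H.hp
  have hr := H.hr
  have hp2 := H.hp2
  have hr2 := H.hr2
  have hpr := H.hpr
  rcases H.spec c with h | h | h | h | h
  · rw [h]; exact one_dvd _
  · rw [h]; exact Dvd.intro _ rfl
  · rw [h]; exact Dvd.intro_left _ rfl
  · rw [h]
  · exfalso
    have hcomm : Commute c t := hc
    have hp3 : 3 ≤ p := by
      have := hp.two_le
      omega
    have hr3 : 3 ≤ r := by
      have := hr.two_le
      omega
    rcases ht with ht | ht
    · have hcop : (orderOf c).Coprime (orderOf t) := by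
        rw [h, ht]
        exact (Nat.coprime_primes hr Nat.prime_two).mpr hr2
      have hord := hcomm.orderOf_mul_eq_mul_orderOf_of_coprime hcop
      rw [h, ht] at hord
      rcases H.spec (c * t) with h' | h' | h' | h' | h' <;> rw [hord] at h'
      · omega
      · omega
      · -- r * 2 = p : p even
        have : 2 ∣ p := ⟨r, by omega⟩
        exact hp2 ((Nat.prime_dvd_prime_iff_eq Nat.prime_two hp).mp this).symm
      · exact hpr (by omega)
      · omega
    · have hcop : (orderOf c).Coprime (orderOf t) := by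
        rw [h, ht]
        exact (Nat.coprime_primes hr hp).mpr (fun h => hpr h.symm)
      have hord := hcomm.orderOf_mul_eq_mul_orderOf_of_coprime hcop
      rw [h, ht] at hord
      have hrp9 : 9 ≤ r * p := by nlinarith
      rcases H.spec (c * t) with h' | h' | h' | h' | h' <;> rw [hord] at h'
      · omega
      · omega
      · -- r * p = p
        have : r * p = 1 * p := by omega
        have := Nat.eq_of_mul_eq_mul_right (by omega) this
        omega
      · -- r * p = 2 * p
        have := Nat.eq_of_mul_eq_mul_right (by omega : 0 < p) h'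
        exact hr2 this
      · -- r * p = r
        have : r * p = r * 1 := by omega
        have := Nat.eq_of_mul_eq_mul_left (by omega) this
        omega

-- T7'
theorem one_le_com (H : TwoP G p r) (t : G) (ht : orderOf t = 2) : 1 ≤ com p t := by
  have hp := H.hp
  obtain ⟨w, hw⟩ := H.ex
  have hp0 : 0 < p := hp.pos
  have ht0 : orderOf (w ^ p) = 2 := by
    rw [orderOf_pow' w hp.ne_zero, hw]
    have : Nat.gcd (2 * p) p = p := Nat.gcd_eq_right (Dvd.intro_left 2 rfl)
    rw [this]
    exact Nat.mul_div_cancel 2 hp0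
  have hx0 : orderOf (w ^ 2) = p := by
    rw [orderOf_pow' w (by norm_num), hw]
    have : Nat.gcd (2 * p) 2 = 2 := Nat.gcd_eq_right (Dvd.intro _ rfl)
    rw [this]
    exact Nat.mul_div_cancel_left p (by norm_num)
  have hcomm : w ^ 2 * w ^ p = w ^ p * w ^ 2 := by
    rw [← pow_add, ← pow_add, add_comm]
  have h1 : 1 ≤ com p (w ^ p) := by
    unfold com
    haveI : Nonempty {y : G // orderOf y = p ∧ y * w ^ p = w ^ p * y} := ⟨⟨w ^ 2, hx0, hcomm⟩⟩
    exact Nat.one_le_iff_ne_zero.mpr (Nat.card_ne_zero.mpr ⟨inferInstance, inferInstance⟩)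
  rw [Cfsg.Agent.Lib.Helper4.AO.com_eq H.aut p (x := t) (y := w ^ p) (by rw [ht, ht0])]
  exact h1

end Cfsg.Agent.Lib.Helper5.AO
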