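import Mathlib
import Cfsg.Agent.Lib.Helper1.AODefs
import Cfsg.Agent.Lib.Helper4.AOG1
import Cfsg.Agent.Lib.Helper4.AOG4
import Cfsg.Agent.Lib.Helper6.AOG5
import Cfsg.Agent.Lib.Helper6.AOG7
import Cfsg.Agent.Lib.Helper5.AOT1

set_option autoImplicit false
set_option linter.unusedVariables false
set_option linter.unusedSectionVars false
set_option linter.style.longLine false
set_option linter.style.haveILetI false

/-!
# S3406 (ii-b): pieces T2 (cz_r), T3 (r_count), T6 (inv_count)
-/

open Cfsg.Agent.Lib.Helper1.AO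
universe u

namespace Cfsg.Agent.Lib.Helper5.AO

variable {G : Type u} [Group G] [Finite G] {p r : ℕ}

/-- an element commuting with an element of order `r` has order `1` or `r`. -/
theorem pow_r_eq_one_of_comm (H : TwoP G p r) (y : G) (hy : orderOf y = r) (c : G)
    (hc : c * y = y * c) : c ^ r = 1 := by
  have hp := H.hp
  have hr := H.hr
  have hp2 := H.hp2
  have hr2 := H.hr2
  have hpr := H.hpr
  have hp3 : 3 ≤ p := by
    have := hp.two_le
    omega
  have hr3 : 3 ≤ r := by
    have := hr.two_le
    omega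
  -- key: no element of order 2 or p commutes with y
  have key2 : ∀ d : G, orderOf d = 2 → d * y = y * d → False := by
    intro d hd hdy
    have hcomm : Commute d y := hdy
    have hcop : (orderOf d).Coprime (orderOf y) := by
      rw [hd, hy]
      exact (Nat.coprime_primes Nat.prime_two hr).mpr (fun h => hr2 h.symm)
    have hord := hcomm.orderOf_mul_eq_mul_orderOf_of_coprime hcop
    rw [hd, hy] at hord
    rcases H.spec (d * y) with h' | h' | h' | h' | h' <;> rw [hord] at h'
    · omega
    · omega
    · have : 2 ∣ p := ⟨r, by omega⟩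
      exact hp2 ((Nat.prime_dvd_prime_iff_eq Nat.prime_two hp).mp this).symm
    · exact hpr (by omega)
    · omega
  have keyp : ∀ d : G, orderOf d = p → d * y = y * d → False := by
    intro d hd hdy
    have hcomm : Commute d y := hdy
    have hcop : (orderOf d).Coprime (orderOf y) := by
      rw [hd, hy]
      exact (Nat.coprime_primes hp hr).mpr hpr
    have hord := hcomm.orderOf_mul_eq_mul_orderOf_of_coprime hcop
    rw [hd, hy] at hord
    have hrp9 : 9 ≤ p * r := by nlinarith
    rcases H.spec (d * y) with h' | h' | h' | h' | h' <;> rw [hord] at h'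
    · omega
    · omega
    · have : p * r = p * 1 := by omega
      have := Nat.eq_of_mul_eq_mul_left (by omega) this
      omega
    · have : p * r = p * 2 := by omega
      have := Nat.eq_of_mul_eq_mul_left (by omega) this
      exact hr2 this
    · have : p * r = 1 * r := by omega
      have := Nat.eq_of_mul_eq_mul_right (by omega) this
      omega
  rcases H.spec c with h | h | h | h | h
  · rw [orderOf_eq_one_iff] at h; rw [h]; simp
  · exact (key2 c h hc).elim
  · exact (keyp c h hc).elim
  · exfalso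
    apply key2 (c ^ p)
    · rw [orderOf_pow' c hp.ne_zero, h]
      have : Nat.gcd (2 * p) p = p := Nat.gcd_eq_right (Dvd.intro_left 2 rfl)
      rw [this]
      exact Nat.mul_div_cancel 2 hp.pos
    · have hcomm : Commute c y := hc
      exact (hcomm.pow_left p).eq
  · rw [← h]; exact pow_orderOf_eq_one c

-- T2
theorem cz_r (H : TwoP G p r) [Fact r.Prime] (R : Sylow r G) :
    (∀ x ∈ (R : Subgroup G), x ^ r = 1) ∧
    ∀ y : G, orderOf y = r → cz y = Nat.card (R : Subgroup G) := by
  have hp := H.hp
  have hr := H.hr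
  have hp2 := H.hp2
  have hr2 := H.hr2
  have hpr := H.hpr
  have hexp : ∀ x ∈ (R : Subgroup G), x ^ r = 1 := by
    intro x hx
    obtain ⟨k, hk⟩ := R.isPGroup' ⟨x, hx⟩
    have hk' : x ^ (r ^ k) = 1 := by
      have := congrArg Subtype.val hk
      simpa using this
    have hd : orderOf x ∣ r ^ k := orderOf_dvd_of_pow_eq_one hk'
    have h2 : ¬ 2 ∣ r ^ k := by
      intro h
      have := (Nat.prime_dvd_prime_iff_eq Nat.prime_two hr).mp (Nat.prime_two.dvd_of_dvd_pow h)
      exact hr2 this.symm
    have hpp : ¬ p ∣ r ^ k := by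
      intro h
      have := (Nat.prime_dvd_prime_iff_eq hp hr).mp (hp.dvd_of_dvd_pow h)
      exact hpr this
    rcases H.spec x with h | h | h | h | h
    · rw [orderOf_eq_one_iff] at h; rw [h]; simp
    · exact absurd (h ▸ hd) h2
    · exact absurd (h ▸ hd) hpp
    · exact absurd (dvd_trans (Dvd.intro _ rfl) (h ▸ hd)) h2
    · rw [← h]; exact pow_orderOf_eq_one x
  refine ⟨hexp, ?_⟩
  -- centralizers of elements of order r are r-groups, hence of card ≤ |R|
  have hle : ∀ y : G, orderOf y = r → cz y ≤ Nat.card (R : Subgroup G) := by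
    intro y hy
    have hpg : IsPGroup r (Subgroup.centralizer ({y} : Set G)) := by
      intro c
      refine ⟨1, ?_⟩
      rw [pow_one]
      apply Subtype.ext
      have hc : (c : G) * y = y * c := by
        have := c.2
        rw [Subgroup.mem_centralizer_iff] at this
        exact (this y (Set.mem_singleton y)).symm
      simpa using pow_r_eq_one_of_comm H y hy c hc
    obtain ⟨Q, hQ⟩ := hpg.exists_le_sylow
    have h1 : cz y ≤ Nat.card (Q : Subgroup G) := by
      unfold cz
      exact Subgroup.card_le_of_le hQ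
    have h2 : Nat.card (Q : Subgroup G) = Nat.card (R : Subgroup G) := by
      rw [Sylow.card_eq_multiplicity, Sylow.card_eq_multiplicity]
    omega
  -- a central element of R
  obtain ⟨y0, hy0⟩ := H.exr
  have hrG : r ∣ Nat.card G := by
    have := orderOf_dvd_natCard y0
    rwa [hy0] at this
  have hRne : (R : Subgroup G) ≠ ⊥ := Sylow.ne_bot_of_dvd_card R hrG
  haveI : Nontrivial (R : Subgroup G) := (Subgroup.nontrivial_iff_ne_bot _).mpr hRne
  haveI : Nontrivial (Subgroup.center (R : Subgroup G)) := R.isPGroup'.center_nontrivial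
  obtain ⟨z, hz⟩ := exists_ne (1 : Subgroup.center (R : Subgroup G))
  have hz1 : ((z : (R : Subgroup G)) : G) ≠ 1 := by
    intro h
    apply hz
    apply Subtype.ext
    apply Subtype.ext
    simpa using h
  have hzR : ((z : (R : Subgroup G)) : G) ∈ (R : Subgroup G) := (z : (R : Subgroup G)).2
  have hzord : orderOf ((z : (R : Subgroup G)) : G) = r :=
    orderOf_eq_prime (hexp _ hzR) hz1
  have hRle : (R : Subgroup G) ≤ Subgroup.centralizer ({((z : (R : Subgroup G)) : G)} : Set G) := by
    intro x hx
    rw [Subgroup.mem_centralizer_iff]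
    intro w hw
    rw [Set.mem_singleton_iff] at hw
    rw [hw]
    have := z.2
    rw [Subgroup.mem_center_iff] at this
    have h2 := this ⟨x, hx⟩
    have h3 := congrArg Subtype.val h2
    simpa using h3.symm
  have hge : Nat.card (R : Subgroup G) ≤ cz ((z : (R : Subgroup G)) : G) := by
    unfold cz
    exact Subgroup.card_le_of_le hRle
  intro y hy
  have := Cfsg.Agent.Lib.Helper4.AO.cz_eq H.aut (x := y) (y := ((z : (R : Subgroup G)) : G))
    (by rw [hy, hzord])
  have h1 := hle _ hzord
  omega

-- T3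
theorem r_count (H : TwoP G p r) : 2 * cnt G r + 2 < Nat.card G := by
  have hp := H.hp
  have hr := H.hr
  have hp2 := H.hp2
  have hr2 := H.hr2
  have hpr := H.hpr
  haveI : Fact r.Prime := ⟨hr⟩
  obtain ⟨x0, hx0⟩ := H.exr
  obtain ⟨R⟩ : Nonempty (Sylow r G) := inferInstance
  obtain ⟨hexp, hcz⟩ := cz_r H R
  have hG4 := Cfsg.Agent.Lib.Helper4.AO.count_class H.aut R hexp x0 hx0
  have hG5 := Cfsg.Agent.Lib.Helper6.AO.two_le_kap H.simple H.nonab H.aut R hexp x0 hx0
  rw [hcz x0 hx0] at hG4
  -- |G| = |R| * m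
  obtain ⟨m, hm⟩ : Nat.card (R : Subgroup G) ∣ Nat.card G := Subgroup.card_subgroup_dvd_card _
  set g := Nat.card G with hg
  set R' := Nat.card (R : Subgroup G) with hR'
  set k := kap (R : Subgroup G) x0 with hk
  set c := cnt G r with hc
  have hRpos : 0 < R' := Nat.card_pos
  have hgpos : 0 < g := Nat.card_pos
  -- c * k = (R' - 1) * m
  have h1 : c * k * R' = (R' - 1) * m * R' := by
    rw [hG4, hm]; ring
  have h2 : c * k = (R' - 1) * m := Nat.eq_of_mul_eq_mul_right hRpos h1
  -- 2p ∣ m
  obtain ⟨w, hw⟩ := H.ex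
  have h2pg : 2 * p ∣ g := by
    have := orderOf_dvd_natCard w
    rwa [hw] at this
  obtain ⟨n, hn⟩ := (IsPGroup.iff_card.mp R.isPGroup')
  have hcop : (2 * p).Coprime R' := by
    rw [hR', hn]
    apply Nat.Coprime.pow_right
    apply Nat.Coprime.mul_left
    · exact (Nat.coprime_primes Nat.prime_two hr).mpr (fun h => hr2 h.symm)
    · exact (Nat.coprime_primes hp hr).mpr hpr
  have h2pm : 2 * p ∣ m := by
    rw [hm] at h2pg
    exact hcop.dvd_of_dvd_mul_left h2pg
  have hmpos : 0 < m := by
    rcases Nat.eq_zero_or_pos m with h | h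
    · rw [h, mul_zero] at hm; omega
    · exact h
  have hm6 : 6 ≤ m := by
    have h1 := Nat.le_of_dvd hmpos h2pm
    have := hp.two_le
    have : 3 ≤ p := by omega
    omega
  -- 2c ≤ c k = (R'-1) m = g - m
  have h3 : 2 * c ≤ c * k := by
    calc 2 * c = c * 2 := by ring
      _ ≤ c * k := Nat.mul_le_mul_left c hG5
  have h4 : (R' - 1) * m + m = g := by
    rw [hm]
    have : R' - 1 + 1 = R' := Nat.sub_add_cancel hRpos
    calc (R' - 1) * m + m = (R' - 1 + 1) * m := by ring
      _ = R' * m := by rw [this]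
  omega

-- T6
theorem inv_count (H : TwoP G p r) (S : Sylow 2 G) (t : G) (ht : orderOf t = 2) :
    cnt G 2 * kap (S : Subgroup G) t * cz t = (Nat.card (S : Subgroup G) - 1) * Nat.card G ∧
      3 ≤ kap (S : Subgroup G) t := by
  haveI : Fact (Nat.Prime 2) := ⟨Nat.prime_two⟩
  obtain ⟨hexp, hab, _⟩ := sylow2 H S
  refine ⟨Cfsg.Agent.Lib.Helper4.AO.count_class H.aut S hexp t ht, ?_⟩
  have h2 := Cfsg.Agent.Lib.Helper6.AO.two_le_kap H.simple H.nonab H.aut S hexp t ht
  have h1 := Cfsg.Agent.Lib.Helper4.AO.one_le_kap S t ht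
  -- a conjugate of t in S
  have hne : Nonempty {z : G // z ∈ (S : Subgroup G) ∧ IsConj t z} := by
    unfold kap at h1
    by_contra hcon
    rw [not_nonempty_iff] at hcon
    rw [Nat.card_of_isEmpty] at h1
    omega
  obtain ⟨⟨z, hzS, hzc⟩⟩ := hne
  have hzord : orderOf t = orderOf z := by
    obtain ⟨c, hc⟩ := isConj_iff.mp hzc
    rw [← hc]
    have := MulEquiv.orderOf_eq (MulAut.conj c) t
    rw [MulAut.conj_apply] at this
    exact this.symm
  have hkz := Cfsg.Agent.Lib.Helper4.AO.kap_eq H.aut S (x := t) (y := z) hzord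
  have hcop := Cfsg.Agent.Lib.Helper6.AO.kap_coprime S hab z hzS
  rw [← hkz] at hcop
  have hodd : ¬ 2 ∣ kap (S : Subgroup G) t := by
    intro h
    have := Nat.Coprime.eq_one_of_dvd hcop.symm h
    omega
  omega

end Cfsg.Agent.Lib.Helper5.AO
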