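import Mathlib
import Cfsg.Prelude.Def_ChevStructure

set_option autoImplicit false

/-!
A small symbolic calculus for words in root elements of a Chevalley datum: column vectors with
coefficients in `ℤ[a, b]`, kept as flat lists of terms `c * a^ea * b^eb * e_idx`.  The column of a
word is computed by kernel-friendly list functions; soundness theorems connect it with `wordMat`.
-/

namespace Cfsg.Agent.Lib.Helper5.ChevSym

open Cfsg Cfsg.Lie

/-- A term `c * a^ea * b^eb * e_idx` of a column vector. -/
structure Term where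
  idx : ℕ
  ea : ℕ
  eb : ℕ
  c : ℤ

abbrev Vec := List Term
/-- monomial `(ea, eb, c)` -/
abbrev Mono := ℕ × ℕ × ℤ
abbrev Poly := List Mono
/-- entries `(idx, coef, k)` of a column of `x_r(t)`: `coef * t^k * e_idx` -/
abbrev XData := List (ℕ × ℤ × ℕ)

/-! ### Computation -/

def pmulMono (m : Mono) (p : Poly) : Poly :=
  p.map fun x => (Nat.add m.1 x.1, Nat.add m.2.1 x.2.1, Int.mul m.2.2 x.2.2)

def pmul (p q : Poly) : Poly := p.flatMap fun m => pmulMono m q

def ppow (p : Poly) : ℕ → Poly
  | 0 => [(0, 0, 1)]
  | n + 1 => pmul p (ppow p n)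

def unit (col : ℕ) : Term := ⟨col, 0, 0, 1⟩

/-- The column `col` of `x_r(t)`; indices `i < rank` stand for `h_i`, `rank + s` for `e_s`. -/
def xData (D : ChevalleyDatum) (r col : ℕ) : XData :=
  bif Nat.blt r D.nroots then
    bif Nat.blt col D.rank then
      [(col, 1, 0), (Nat.add D.rank r, Int.neg ((D.cartanSR.getD col #[]).getD r 0), 1)]
    else
      bif Nat.beq (Nat.sub col D.rank) r then [(col, 1, 0)]
      else bif Nat.beq (Nat.sub col D.rank) (D.negIdx.getD r 0) then
        (col, 1, 0) :: (Nat.add D.rank r, -1, 2) ::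
          (List.range D.rank).map fun i => (i, (D.coroot.getD r #[]).getD i 0, 1)
      else
        (col, 1, 0) ::
          (((D.chain.getD r #[]).toList.filter
              (fun e => Nat.beq e.1 (Nat.sub col D.rank))).flatMap fun e =>
            (e.2.toList.zipIdx).flatMap fun q =>
              bif Nat.blt q.1.1 D.nroots then [(Nat.add D.rank q.1.1, q.1.2, Nat.succ q.2)]
              else [])
  else [(col, 1, 0)]

/-- `xData` with the column index in a canonical shape (helps the kernel to share work). -/
def xDataM (D : ChevalleyDatum) (r : ℕ) : ℕ → XData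
  | 0 => xData D r 0
  | k + 1 => xData D r (Nat.succ k)

theorem xDataM_eq (D : ChevalleyDatum) (r col : ℕ) : xDataM D r col = xData D r col := by
  cases col <;> rfl

/-- powers of a polynomial, the small ones in a shape that the kernel can share -/
def ppowM (p : Poly) : ℕ → Poly
  | 0 => [(0, 0, 1)]
  | 1 => p
  | 2 => pmul p p
  | 3 => pmul p (pmul p p)
  | k + 4 => ppow p (k + 4)

def keyEq (σ τ : Term) : Bool :=
  Nat.beq σ.idx τ.idx && (Nat.beq σ.ea τ.ea && Nat.beq σ.eb τ.eb)

def keyRel (σ τ : Term) : Bool :=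
  Nat.beq σ.idx τ.idx && Nat.beq (Nat.add σ.ea τ.eb) (Nat.add τ.ea σ.eb)

def isZ : ℤ → Bool
  | Int.ofNat n => Nat.beq n 0
  | Int.negSucc _ => false

def insertT (k : Term → Term → Bool) (τ : Term) : Vec → Vec
  | [] => bif isZ τ.c then [] else [τ]
  | σ :: rest =>
    bif k σ τ then
      (bif isZ (Int.add σ.c τ.c) then rest else ⟨σ.idx, σ.ea, σ.eb, Int.add σ.c τ.c⟩ :: rest)
    else σ :: insertT k τ rest

/-- the product term of a vector term, a column entry and a monomial of the parameter power -/
def prodTerm (τ : Term) (d : ℕ × ℤ × ℕ) (m : Mono) : Term :=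
  ⟨d.1, Nat.add τ.ea m.1, Nat.add τ.eb m.2.1, Int.mul τ.c (Int.mul d.2.1 m.2.2)⟩

/-- apply `x_r(p)` to a vector, merging terms with equal keys on the fly -/
def applyNorm (D : ChevalleyDatum) (k : Term → Term → Bool) (r : ℕ) (p : Poly) (v : Vec) : Vec :=
  v.foldr (fun τ acc => (xDataM D r τ.idx).foldr (fun d acc =>
    (ppowM p d.2.2).foldr (fun m acc => insertT k (prodTerm τ d m) acc) acc) acc) []

def wordCol (D : ChevalleyDatum) (k : Term → Term → Bool) (w : List (ℕ × Poly)) (col : ℕ) : Vec :=
  w.foldr (fun rp acc => applyNorm D k rp.1 rp.2 acc) [unit col]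

def negTerm (τ : Term) : Term := ⟨τ.idx, τ.ea, τ.eb, Int.neg τ.c⟩

/-- `v - w`, merged -/
def subVec (k : Term → Term → Bool) (v w : Vec) : Vec :=
  w.foldr (fun τ acc => insertT k (negTerm τ) acc) v

def isNil : Vec → Bool
  | [] => true
  | _ :: _ => false

def vecEq (k : Term → Term → Bool) (v w : Vec) : Bool := isNil (subVec k v w)

/-- The columns on which `x_r(t)` may differ from the identity. -/
def supp (D : ChevalleyDatum) (r : ℕ) : List ℕ :=
  List.range D.rank ++ (Nat.add D.rank r) :: (Nat.add D.rank (D.negIdx.getD r 0)) ::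
    (D.chain.getD r #[]).toList.map (fun e => Nat.add D.rank e.1)

def canon (f : ℕ → Bool) : ℕ → Bool
  | 0 => f 0
  | k + 1 => f (Nat.succ k)

theorem canon_eq (f : ℕ → Bool) (n : ℕ) : canon f n = f n := by cases n <;> rfl

/-! ### Semantics -/

section sem

variable {F : Type*} [Field F]

def mval (a b : F) (ea eb : ℕ) (c : ℤ) : F := (c : F) * a ^ ea * b ^ eb

def Term.val (a b : F) (τ : Term) : F := mval a b τ.ea τ.eb τ.c

def evalVec (a b : F) (v : Vec) (n : ℕ) : F :=
  (v.map fun τ => if τ.idx = n then τ.val a b else 0).sum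

def evalMono (a b : F) (m : Mono) : F := mval a b m.1 m.2.1 m.2.2

def evalPoly (a b : F) (p : Poly) : F := (p.map (evalMono a b)).sum

def dataVal (t : F) (l : XData) (n : ℕ) : F :=
  (l.map fun d => if d.1 = n then ((d.2.1 : ℤ) : F) * t ^ d.2.2 else 0).sum

@[simp] theorem evalVec_nil (a b : F) (n : ℕ) : evalVec a b [] n = 0 := rfl

theorem evalVec_cons (a b : F) (τ : Term) (v : Vec) (n : ℕ) :
    evalVec a b (τ :: v) n = (if τ.idx = n then τ.val a b else 0) + evalVec a b v n := by
  simp [evalVec]

theorem evalVec_append (a b : F) (v w : Vec) (n : ℕ) :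
    evalVec a b (v ++ w) n = evalVec a b v n + evalVec a b w n := by
  simp [evalVec]

theorem evalVec_flatMap {α : Type*} (a b : F) (l : List α) (f : α → Vec) (n : ℕ) :
    evalVec a b (l.flatMap f) n = (l.map fun x => evalVec a b (f x) n).sum := by
  induction l with
  | nil => simp
  | cons x l ih => simp [List.flatMap_cons, evalVec_append, ih]

@[simp] theorem evalPoly_nil (a b : F) : evalPoly a b [] = 0 := rfl

theorem evalPoly_cons (a b : F) (m : Mono) (p : Poly) :
    evalPoly a b (m :: p) = evalMono a b m + evalPoly a b p := by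
  simp [evalPoly]

theorem evalPoly_append (a b : F) (p q : Poly) :
    evalPoly a b (p ++ q) = evalPoly a b p + evalPoly a b q := by
  simp [evalPoly]

theorem evalPoly_pmulMono (a b : F) (m : Mono) (p : Poly) :
    evalPoly a b (pmulMono m p) = evalMono a b m * evalPoly a b p := by
  induction p with
  | nil => simp [pmulMono]
  | cons x p ih =>
    have : pmulMono m (x :: p)
        = (Nat.add m.1 x.1, Nat.add m.2.1 x.2.1, Int.mul m.2.2 x.2.2) :: pmulMono m p := rfl
    rw [this, evalPoly_cons, evalPoly_cons, ih, mul_add]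
    congr 1
    simp only [evalMono, mval, Nat.add_eq, Int.mul_def, Int.cast_mul, pow_add]
    ring

theorem evalPoly_pmul (a b : F) (p q : Poly) :
    evalPoly a b (pmul p q) = evalPoly a b p * evalPoly a b q := by
  induction p with
  | nil => simp [pmul]
  | cons m p ih =>
    have : pmul (m :: p) q = pmulMono m q ++ pmul p q := by simp [pmul]
    rw [this, evalPoly_append, evalPoly_pmulMono, ih, evalPoly_cons, add_mul]

theorem evalPoly_ppow (a b : F) (p : Poly) (n : ℕ) :
    evalPoly a b (ppow p n) = evalPoly a b p ^ n := by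
  induction n with
  | zero => simp [ppow, evalPoly, evalMono, mval]
  | succ n ih => rw [ppow, evalPoly_pmul, ih, pow_succ, mul_comm]

@[simp] theorem dataVal_nil (t : F) (n : ℕ) : dataVal t [] n = 0 := rfl

theorem dataVal_cons (t : F) (d : ℕ × ℤ × ℕ) (l : XData) (n : ℕ) :
    dataVal t (d :: l) n
      = (if d.1 = n then ((d.2.1 : ℤ) : F) * t ^ d.2.2 else 0) + dataVal t l n := by
  simp [dataVal]

theorem dataVal_append (t : F) (l l' : XData) (n : ℕ) :
    dataVal t (l ++ l') n = dataVal t l n + dataVal t l' n := by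
  simp [dataVal]

theorem dataVal_flatMap {α : Type*} (t : F) (l : List α) (f : α → XData) (n : ℕ) :
    dataVal t (l.flatMap f) n = (l.map fun x => dataVal t (f x) n).sum := by
  induction l with
  | nil => simp
  | cons x l ih => simp [List.flatMap_cons, dataVal_append, ih]

theorem evalPoly_ppowM (a b : F) (p : Poly) (n : ℕ) :
    evalPoly a b (ppowM p n) = evalPoly a b p ^ n := by
  match n with
  | 0 => simp [ppowM, evalPoly, evalMono, mval]
  | 1 => simp [ppowM]
  | 2 => simp only [ppowM, evalPoly_pmul]; ring
  | 3 => simp only [ppowM, evalPoly_pmul]; ring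
  | k + 4 => simp only [ppowM, evalPoly_ppow]

theorem prodTerm_val (a b : F) (τ : Term) (d : ℕ × ℤ × ℕ) (m : Mono) :
    (prodTerm τ d m).val a b = τ.val a b * ((d.2.1 : F) * evalMono a b m) := by
  simp only [prodTerm, Term.val, mval, evalMono, Nat.add_eq, Int.mul_def, Int.cast_mul, pow_add]
  ring

/-- A key function only identifies terms that have the same index and the same monomial value. -/
def KeySound (k : Term → Term → Bool) (a b : F) : Prop :=
  ∀ σ τ, k σ τ = true → σ.idx = τ.idx ∧ a ^ σ.ea * b ^ σ.eb = a ^ τ.ea * b ^ τ.eb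

theorem keyEq_sound (a b : F) : KeySound keyEq a b := by
  intro σ τ h
  simp only [keyEq, Bool.and_eq_true] at h
  obtain ⟨h1, h2, h3⟩ := h
  exact ⟨Nat.eq_of_beq_eq_true h1,
    by rw [Nat.eq_of_beq_eq_true h2, Nat.eq_of_beq_eq_true h3]⟩

theorem keyRel_sound (a b : F) (hab : a * b = 1) : KeySound keyRel a b := by
  intro σ τ h
  simp only [keyRel, Bool.and_eq_true, Nat.add_eq] at h
  obtain ⟨h1, h2⟩ := h
  have h2 := Nat.eq_of_beq_eq_true h2
  refine ⟨Nat.eq_of_beq_eq_true h1, ?_⟩
  have ha : a ≠ 0 := left_ne_zero_of_mul_eq_one hab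
  have hb : b ≠ 0 := right_ne_zero_of_mul_eq_one hab
  have hbinv : b = a⁻¹ := eq_inv_of_mul_eq_one_right hab
  have key : a ^ σ.ea * b ^ σ.eb * (a ^ τ.eb * a ^ σ.eb) = a ^ τ.ea * b ^ τ.eb * (a ^ τ.eb * a ^ σ.eb) := by
    have e1 : a ^ σ.ea * b ^ σ.eb * (a ^ τ.eb * a ^ σ.eb) = a ^ (σ.ea + τ.eb) * (a * b) ^ σ.eb := by
      rw [pow_add, mul_pow]; ring
    have e2 : a ^ τ.ea * b ^ τ.eb * (a ^ τ.eb * a ^ σ.eb) = a ^ (τ.ea + σ.eb) * (a * b) ^ τ.eb := by
      rw [pow_add, mul_pow]; ring
    rw [e1, e2, hab, one_pow, one_pow, h2]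
  exact mul_right_cancel₀ (mul_ne_zero (pow_ne_zero _ ha) (pow_ne_zero _ ha)) key

theorem isZ_eq_true {z : ℤ} (h : isZ z = true) : z = 0 := by
  cases z with
  | ofNat n =>
    simp only [isZ] at h
    have := Nat.eq_of_beq_eq_true h
    subst this
    rfl
  | negSucc n => simp [isZ] at h

theorem evalVec_insertT (k : Term → Term → Bool) (a b : F) (hk : KeySound k a b) (τ : Term)
    (v : Vec) (n : ℕ) :
    evalVec a b (insertT k τ v) n = (if τ.idx = n then τ.val a b else 0) + evalVec a b v n := by
  induction v with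
  | nil =>
    simp only [insertT]
    cases hz : isZ τ.c
    · simp [evalVec_cons]
    · have := isZ_eq_true hz
      simp [Term.val, mval, this]
  | cons σ rest ih =>
    simp only [insertT]
    cases hkσ : k σ τ
    · simp only [cond_false]
      rw [evalVec_cons, ih, evalVec_cons]
      ring
    · obtain ⟨hidx, hval⟩ := hk σ τ hkσ
      simp only [cond_true]
      have hsum : (if τ.idx = n then τ.val a b else 0) + (if σ.idx = n then σ.val a b else 0)
          = if σ.idx = n then ((Int.add σ.c τ.c : ℤ) : F) * a ^ σ.ea * b ^ σ.eb else 0 := by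
        rw [← hidx]
        by_cases h : σ.idx = n
        · simp only [h, if_true, Term.val, mval, Int.add_def, Int.cast_add]
          have e1 : ((τ.c : ℤ) : F) * a ^ τ.ea * b ^ τ.eb = (τ.c : F) * (a ^ σ.ea * b ^ σ.eb) := by
            rw [hval]; ring
          rw [e1]
          ring
        · simp [h]
      cases hz : isZ (Int.add σ.c τ.c)
      · simp only [cond_false]
        rw [evalVec_cons, evalVec_cons, ← add_assoc, hsum]
        simp [Term.val, mval]
      · simp only [cond_true]
        rw [evalVec_cons, ← add_assoc, hsum, isZ_eq_true hz]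
        simp

theorem evalVec_foldr_insertT {α : Type*} (k : Term → Term → Bool) (a b : F)
    (hk : KeySound k a b) (l : List α) (f : α → Term) (acc : Vec) (n : ℕ) :
    evalVec a b (l.foldr (fun x acc => insertT k (f x) acc) acc) n
      = (l.map fun x => if (f x).idx = n then (f x).val a b else 0).sum + evalVec a b acc n := by
  induction l with
  | nil => simp
  | cons x l ih =>
    rw [List.foldr_cons, evalVec_insertT k a b hk, ih, List.map_cons, List.sum_cons, add_assoc]

theorem evalVec_applyNorm (D : ChevalleyDatum) (k : Term → Term → Bool) (a b : F)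
    (hk : KeySound k a b) (r : ℕ) (p : Poly) (v : Vec) (n : ℕ) :
    evalVec a b (applyNorm D k r p v) n
      = (v.map fun τ => τ.val a b * dataVal (evalPoly a b p) (xData D r τ.idx) n).sum := by
  unfold applyNorm
  induction v with
  | nil => simp
  | cons τ v ih =>
    rw [List.foldr_cons, List.map_cons, List.sum_cons, ← ih, xDataM_eq]
    generalize List.foldr _ [] v = acc
    generalize xData D r τ.idx = l
    induction l with
    | nil => simp
    | cons d l ihl =>
      rw [List.foldr_cons, evalVec_foldr_insertT k a b hk, ihl, dataVal_cons, mul_add, ← add_assoc]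
      congr 1
      have : ∀ m : Mono, (if (prodTerm τ d m).idx = n then (prodTerm τ d m).val a b else 0)
          = if d.1 = n then τ.val a b * ((d.2.1 : F) * evalMono a b m) else 0 := by
        intro m
        rw [prodTerm_val]
        rfl
      simp only [this]
      by_cases h : d.1 = n
      · simp only [h, if_true]
        rw [List.sum_map_mul_left, List.sum_map_mul_left,
          show (List.map (evalMono a b) (ppowM p d.2.2)).sum = evalPoly a b (ppowM p d.2.2) from rfl,
          evalPoly_ppowM]
      · simp [h]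

theorem negTerm_val (a b : F) (τ : Term) : (negTerm τ).val a b = - τ.val a b := by
  simp only [negTerm, Term.val, mval]
  have : ((Int.neg τ.c : ℤ) : F) = -((τ.c : ℤ) : F) := by
    rw [show Int.neg τ.c = -τ.c from rfl, Int.cast_neg]
  rw [this]
  ring

theorem evalVec_subVec (k : Term → Term → Bool) (a b : F) (hk : KeySound k a b) (v w : Vec)
    (n : ℕ) : evalVec a b (subVec k v w) n = evalVec a b v n - evalVec a b w n := by
  unfold subVec
  rw [evalVec_foldr_insertT k a b hk]
  have : (w.map fun x => if (negTerm x).idx = n then (negTerm x).val a b else 0).sum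
      = - evalVec a b w n := by
    unfold evalVec
    induction w with
    | nil => simp
    | cons τ w ih =>
      rw [List.map_cons, List.sum_cons, ih, List.map_cons, List.sum_cons, neg_add, negTerm_val]
      congr 1
      have : (negTerm τ).idx = τ.idx := rfl
      rw [this]
      by_cases h : τ.idx = n <;> simp [h]
  rw [this]
  ring

theorem eq_of_vecEq (k : Term → Term → Bool) (a b : F) (hk : KeySound k a b) (v w : Vec)
    (h : vecEq k v w = true) (n : ℕ) : evalVec a b v n = evalVec a b w n := by
  unfold vecEq at h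
  have hnil : subVec k v w = [] := by
    cases hl : subVec k v w with
    | nil => rfl
    | cons x l => rw [hl] at h; simp [isNil] at h
  have := evalVec_subVec k a b hk v w n
  rw [hnil, evalVec_nil] at this
  exact sub_eq_zero.1 this.symm

end sem

end Cfsg.Agent.Lib.Helper5.ChevSym
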