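import Mathlib
import Cfsg.Prelude.Def_ChevStructure
import Cfsg.Agent.Lib.Helper5.ChevSymCore

set_option autoImplicit false

/-!
Soundness of the symbolic column calculus of `ChevSymCore` with respect to `xMat` and `wordMat`.
-/

namespace Cfsg.Agent.Lib.Helper5.ChevSym

open Cfsg Cfsg.Lie

/-- the number attached to a coordinate: `h_i ↦ i`, `e_s ↦ rank + s` -/
def code (D : ChevalleyDatum) : D.Idx → ℕ
  | Sum.inl i => i.val
  | Sum.inr s => D.rank + s.val

theorem code_lt (D : ChevalleyDatum) (j : D.Idx) : code D j < D.rank + D.nroots := by
  rcases j with i | s
  · have := i.2; simp only [code]; omega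
  · have := s.2; simp only [code]; omega

theorem code_injective (D : ChevalleyDatum) : Function.Injective (code D) := by
  intro x y h
  rcases x with i | s <;> rcases y with i' | s'
  · simp only [code] at h; exact congrArg _ (Fin.ext h)
  · have := i.2; simp only [code] at h; omega
  · have := i'.2; simp only [code] at h; omega
  · simp only [code] at h; exact congrArg _ (Fin.ext (by omega))

def decode (D : ChevalleyDatum) (n : ℕ) (h : n < D.rank + D.nroots) : D.Idx :=
  if h' : n < D.rank then Sum.inl ⟨n, h'⟩ else Sum.inr ⟨n - D.rank, by omega⟩

theorem code_decode (D : ChevalleyDatum) (n : ℕ) (h : n < D.rank + D.nroots) :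
    code D (decode D n h) = n := by
  unfold decode
  split_ifs with h'
  · rfl
  · simp only [code]; omega

variable {F : Type*} [Field F]

theorem cond_blt_pos {α : Type*} {a b : ℕ} (h : a < b) (x y : α) :
    (bif Nat.blt a b then x else y) = x := by
  have : Nat.blt a b = true := by rw [Nat.blt_eq]; exact h
  rw [this, cond_true]

theorem cond_blt_neg {α : Type*} {a b : ℕ} (h : ¬ a < b) (x y : α) :
    (bif Nat.blt a b then x else y) = y := by
  have : Nat.blt a b = false := by
    cases hb : Nat.blt a b
    · rfl
    · rw [Nat.blt_eq] at hb; exact absurd hb h
  rw [this, cond_false]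

theorem cond_beq_pos {α : Type*} {a b : ℕ} (h : a = b) (x y : α) :
    (bif Nat.beq a b then x else y) = x := by
  have : Nat.beq a b = true := by rw [Nat.beq_eq]; exact h
  rw [this, cond_true]

theorem cond_beq_neg {α : Type*} {a b : ℕ} (h : ¬ a = b) (x y : α) :
    (bif Nat.beq a b then x else y) = y := by
  have : Nat.beq a b = false := by
    cases hb : Nat.beq a b
    · rfl
    · rw [Nat.beq_eq] at hb; exact absurd hb h
  rw [this, cond_false]

/-- the chain part of a column of `x_r(t)` agrees with `chainCoeff` -/
theorem dataVal_chain (D : ChevalleyDatum) (r s u : ℕ) (hu : u < D.nroots) (t : F) :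
    dataVal t (((D.chain.getD r #[]).toList.filter (fun e => Nat.beq e.1 s)).flatMap fun e =>
        (e.2.toList.zipIdx).flatMap fun q =>
          bif Nat.blt q.1.1 D.nroots then [(D.rank + q.1.1, q.1.2, Nat.succ q.2)] else [])
      (D.rank + u)
    = ((D.chainCoeff r s u).map fun km => ((km.2 : ℤ) : F) * t ^ km.1).sum := by
  unfold ChevalleyDatum.chainCoeff
  have hf : (fun e : ℕ × Array (ℕ × ℤ) => Nat.beq e.1 s) = (fun e => decide (e.1 = s)) := by
    funext e
    cases hb : Nat.beq e.1 s
    · have : ¬ e.1 = s := by
        intro h
        rw [← Nat.beq_eq] at h
        rw [h] at hb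
        exact Bool.noConfusion hb
      simp [this]
    · rw [Nat.beq_eq] at hb
      simp [hb]
  rw [hf]
  generalize (D.chain.getD r #[]).toList.filter (fun e => decide (e.1 = s)) = L
  induction L with
  | nil => simp
  | cons e L ih =>
    rw [List.flatMap_cons, dataVal_append, ih, List.flatMap_cons, List.map_append, List.sum_append]
    congr 1
    generalize e.2.toList.zipIdx = Z
    induction Z with
    | nil => simp
    | cons q Z ihZ =>
      rw [List.flatMap_cons, dataVal_append, ihZ, List.filter_cons]
      by_cases hq : q.1.1 < D.nroots
      · rw [cond_blt_pos hq]
        by_cases hqu : q.1.1 = u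
        · simp [dataVal_cons, hqu]
        · have : ¬ (D.rank + q.1.1 = D.rank + u) := by omega
          simp [dataVal_cons, hqu, this]
      · rw [cond_blt_neg hq]
        have hqu : ¬ q.1.1 = u := by omega
        simp [hqu]

theorem xData_sound (D : ChevalleyDatum) (r : ℕ) (t : F) (row col : D.Idx) :
    dataVal t (xData D r (code D col)) (code D row) = D.x F r t row col := by
  unfold ChevalleyDatum.x
  by_cases hr : r < D.nroots
  · rw [dif_pos hr]
    unfold xData
    rw [cond_blt_pos hr]
    simp only [Nat.add_eq, Nat.sub_eq]
    rcases col with i | s
    · have hi := i.2
      simp only [code]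
      rw [cond_blt_pos hi, dataVal_cons, dataVal_cons, dataVal_nil]
      rcases row with i' | u
      · have hi' := i'.2
        have h1 : ¬ (D.rank + r = i'.val) := by omega
        simp only [code, h1, if_false, add_zero, ChevalleyDatum.xMat, Matrix.of_apply]
        by_cases h : i' = i
        · subst h; simp
        · have : ¬ i.val = i'.val := fun h' => h (Fin.ext h'.symm)
          simp [h, this]
      · have h1 : ¬ (i.val = D.rank + u.val) := by omega
        simp only [code, h1, if_false, zero_add, ChevalleyDatum.xMat, Matrix.of_apply]
        by_cases h : u = ⟨r, hr⟩
        · subst h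
          simp only [if_true, pow_one]
          rw [show Int.neg ((D.cartanSR.getD i.val #[]).getD r 0)
            = -((D.cartanSR.getD i.val #[]).getD r 0) from rfl, Int.cast_neg, add_zero]
        · have hru : ¬ (r = u.val) := by
            intro h'
            apply h
            apply Fin.ext
            simp only
            omega
          simp [h, hru]
    · have hs := s.2
      have hnlt : ¬ (code D (Sum.inr s) < D.rank) := by simp only [code]; omega
      have hsub : code D (Sum.inr s) - D.rank = s.val := by
        simp only [code]; omega
      rw [cond_blt_neg hnlt, hsub]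
      by_cases hsr : s.val = r
      · rw [cond_beq_pos hsr, dataVal_cons, dataVal_nil]
        have hsr' : s = ⟨r, hr⟩ := Fin.ext hsr
        simp only [ChevalleyDatum.xMat, Matrix.of_apply, hsr', if_true]
        rcases row with i' | u
        · have := i'.2
          have : ¬ (code D (Sum.inr (⟨r, hr⟩ : Fin D.nroots)) = code D (Sum.inl i')) := by
            simp only [code]; omega
          simp [this]
        · by_cases hu : u = ⟨r, hr⟩
          · subst hu; simp
          · have : ¬ (code D (Sum.inr (⟨r, hr⟩ : Fin D.nroots)) = code D (Sum.inr u)) := by
              intro h'
              exact hu ((Sum.inr.inj (code_injective D h')).symm)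
            simp [this, hu]
      · rw [cond_beq_neg hsr]
        have hsr' : ¬ s = ⟨r, hr⟩ := fun h => hsr (congrArg Fin.val h)
        by_cases hsn : s.val = D.negIdx.getD r 0
        · rw [cond_beq_pos hsn, dataVal_cons, dataVal_cons]
          simp only [ChevalleyDatum.xMat, Matrix.of_apply, hsr', if_false, hsn, if_true]
          rcases row with i' | u
          · have hi' := i'.2
            have h1 : ¬ (code D (Sum.inr s) = code D (Sum.inl i')) := by
              simp only [code]; omega
            have h2 : ¬ (D.rank + r = code D (Sum.inl i')) := by
              simp only [code]; omega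
            simp only [h1, h2, if_false, zero_add]
            have : ∀ (n : ℕ), i'.val < n →
                dataVal t ((List.range n).map fun i => (i, (D.coroot.getD r #[]).getD i 0, 1))
                  (code D (Sum.inl i'))
                = (((D.coroot.getD r #[]).getD i'.val 0 : ℤ) : F) * t := by
              intro n hn
              induction n with
              | zero => omega
              | succ n ih =>
                rw [List.range_succ, List.map_append, dataVal_append, List.map_cons, List.map_nil,
                  dataVal_cons, dataVal_nil]
                by_cases hin : i'.val < n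
                · rw [ih hin]
                  have : ¬ (n = code D (Sum.inl i')) := by simp only [code]; omega
                  simp [this]
                · have hn' : n = i'.val := by omega
                  have hz : dataVal t ((List.range n).map fun i =>
                      (i, (D.coroot.getD r #[]).getD i 0, 1)) (code D (Sum.inl i')) = 0 := by
                    unfold dataVal
                    apply List.sum_eq_zero
                    intro x hx
                    simp only [List.map_map, List.mem_map, List.mem_range, Function.comp] at hx
                    obtain ⟨j, hj, rfl⟩ := hx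
                    have : ¬ (j = code D (Sum.inl i')) := by simp only [code]; omega
                    simp [this]
                  rw [hz, zero_add]
                  simp [code, hn']
            exact this D.rank hi'
          · have hz : dataVal t ((List.range D.rank).map fun i =>
                (i, (D.coroot.getD r #[]).getD i 0, 1)) (code D (Sum.inr u)) = 0 := by
              unfold dataVal
              apply List.sum_eq_zero
              intro x hx
              simp only [List.map_map, List.mem_map, List.mem_range, Function.comp] at hx
              obtain ⟨j, hj, rfl⟩ := hx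
              have : ¬ (j = code D (Sum.inr u)) := by simp only [code]; omega
              simp [this]
            rw [hz, add_zero]
            by_cases hus : u = s
            · subst hus
              have h2 : ¬ (D.rank + r = code D (Sum.inr u)) := by
                simp only [code]; omega
              simp [h2]
            · have h1 : ¬ (code D (Sum.inr s) = code D (Sum.inr u)) := by
                intro h'
                exact hus ((Sum.inr.inj (code_injective D h')).symm)
              by_cases hur : u = ⟨r, hr⟩
              · subst hur
                have hus' : ¬ (s.val = r) := hsr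
                simp [h1, code, hus', hus]
              · have h2 : ¬ (D.rank + r = code D (Sum.inr u)) := by
                  simp only [code]
                  intro h'
                  apply hur
                  apply Fin.ext
                  simp only
                  omega
                simp [h1, h2, hus, hur]
        · rw [cond_beq_neg hsn, dataVal_cons]
          simp only [ChevalleyDatum.xMat, Matrix.of_apply, hsr', if_false, hsn]
          rcases row with i' | u
          · have hi' := i'.2
            have h1 : ¬ (code D (Sum.inr s) = code D (Sum.inl i')) := by
              simp only [code]; omega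
            simp only [h1, if_false, zero_add]
            unfold dataVal
            apply List.sum_eq_zero
            intro x hx
            simp only [List.mem_map, List.mem_flatMap] at hx
            obtain ⟨d, ⟨e, _, q, _, hd⟩, rfl⟩ := hx
            by_cases hq : q.1.1 < D.nroots
            · rw [cond_blt_pos hq, List.mem_singleton] at hd
              subst hd
              have : ¬ (D.rank + q.1.1 = code D (Sum.inl i')) := by
                simp only [code]; omega
              simp [this]
            · rw [cond_blt_neg hq] at hd
              simp at hd
          · have hcu : code D (Sum.inr u) = D.rank + u.val := rfl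
            rw [hcu, dataVal_chain D r s.val u.val u.2 t]
            congr 1
            by_cases hus : u = s
            · subst hus; simp [code]
            · have : ¬ (code D (Sum.inr s) = D.rank + u.val) := by
                simp only [code]
                intro h'
                apply hus
                apply Fin.ext
                omega
              simp [this, hus]
  · rw [dif_neg hr]
    unfold xData
    rw [cond_blt_neg hr, dataVal_cons, dataVal_nil, Matrix.one_apply]
    by_cases h : row = col
    · subst h; simp
    · have : ¬ (code D col = code D row) := fun h' => h (code_injective D h').symm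
      simp [h, this]

/-! ### Indices stay in range -/

def InRange (D : ChevalleyDatum) (v : Vec) : Prop := ∀ τ ∈ v, τ.idx < D.rank + D.nroots

theorem xData_inRange (D : ChevalleyDatum) (r col : ℕ) (hcol : col < D.rank + D.nroots) :
    ∀ d ∈ xData D r col, d.1 < D.rank + D.nroots := by
  intro d hd
  unfold xData at hd
  by_cases hr : r < D.nroots
  · rw [cond_blt_pos hr] at hd
    simp only [Nat.add_eq, Nat.sub_eq] at hd
    by_cases hc : col < D.rank
    · rw [cond_blt_pos hc] at hd
      simp only [List.mem_cons, List.not_mem_nil, or_false] at hd
      rcases hd with rfl | rfl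
      · exact hcol
      · simp only; omega
    · rw [cond_blt_neg hc] at hd
      by_cases h1 : col - D.rank = r
      · rw [cond_beq_pos h1, List.mem_singleton] at hd
        subst hd; exact hcol
      · rw [cond_beq_neg h1] at hd
        by_cases h2 : col - D.rank = D.negIdx.getD r 0
        · rw [cond_beq_pos h2] at hd
          simp only [List.mem_cons, List.mem_map, List.mem_range] at hd
          rcases hd with rfl | rfl | ⟨i, hi, rfl⟩
          · exact hcol
          · simp only; omega
          · simp only; omega
        · rw [cond_beq_neg h2] at hd
          simp only [List.mem_cons, List.mem_flatMap] at hd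
          rcases hd with rfl | ⟨e, _, q, _, hq⟩
          · exact hcol
          · by_cases hq' : q.1.1 < D.nroots
            · rw [cond_blt_pos hq', List.mem_singleton] at hq
              subst hq; simp only; omega
            · rw [cond_blt_neg hq'] at hq
              simp at hq
  · rw [cond_blt_neg hr, List.mem_singleton] at hd
    subst hd; exact hcol

theorem inRange_insertT (D : ChevalleyDatum) (k : Term → Term → Bool) (τ : Term) (v : Vec)
    (hτ : τ.idx < D.rank + D.nroots) (hv : InRange D v) : InRange D (insertT k τ v) := by
  induction v with
  | nil =>
    simp only [insertT]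
    cases isZ τ.c
    · intro σ hσ
      simp only [cond_false, List.mem_singleton] at hσ
      subst hσ; exact hτ
    · intro σ hσ
      simp at hσ
  | cons σ rest ih =>
    have hσ : σ.idx < D.rank + D.nroots := hv σ (List.mem_cons_self ..)
    have hrest : InRange D rest := fun x hx => hv x (List.mem_cons_of_mem _ hx)
    simp only [insertT]
    cases k σ τ
    · simp only [cond_false]
      intro x hx
      rw [List.mem_cons] at hx
      rcases hx with rfl | hx
      · exact hσ
      · exact ih hrest x hx
    · simp only [cond_true]
      cases isZ (Int.add σ.c τ.c)
      · simp only [cond_false]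
        intro x hx
        rw [List.mem_cons] at hx
        rcases hx with rfl | hx
        · exact hσ
        · exact hrest x hx
      · exact hrest

theorem inRange_foldr_insertT {α : Type*} (D : ChevalleyDatum) (k : Term → Term → Bool)
    (l : List α) (f : α → Term) (acc : Vec) (hf : ∀ x ∈ l, (f x).idx < D.rank + D.nroots)
    (hacc : InRange D acc) : InRange D (l.foldr (fun x acc => insertT k (f x) acc) acc) := by
  induction l with
  | nil => exact hacc
  | cons x l ih =>
    rw [List.foldr_cons]
    exact inRange_insertT D k _ _ (hf x (List.mem_cons_self ..))
      (ih fun y hy => hf y (List.mem_cons_of_mem _ hy))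

theorem inRange_applyNorm (D : ChevalleyDatum) (k : Term → Term → Bool) (r : ℕ) (p : Poly)
    (v : Vec) (hv : InRange D v) : InRange D (applyNorm D k r p v) := by
  unfold applyNorm
  induction v with
  | nil => intro σ hσ; simp at hσ
  | cons τ v ih =>
    rw [List.foldr_cons]
    have hτ : τ.idx < D.rank + D.nroots := hv τ (List.mem_cons_self ..)
    have hacc := ih fun x hx => hv x (List.mem_cons_of_mem _ hx)
    generalize List.foldr _ [] v = acc at hacc ⊢
    have hdata : ∀ d ∈ xDataM D r τ.idx, d.1 < D.rank + D.nroots := by
      rw [xDataM_eq]
      exact xData_inRange D r τ.idx hτ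
    generalize xDataM D r τ.idx = l at hdata
    induction l with
    | nil => exact hacc
    | cons d l ihl =>
      rw [List.foldr_cons]
      apply inRange_foldr_insertT
      · intro m _
        exact hdata d (List.mem_cons_self ..)
      · exact ihl fun d' hd' => hdata d' (List.mem_cons_of_mem _ hd')

theorem inRange_wordCol (D : ChevalleyDatum) (k : Term → Term → Bool) (w : List (ℕ × Poly))
    (col : ℕ) (hcol : col < D.rank + D.nroots) : InRange D (wordCol D k w col) := by
  induction w with
  | nil =>
    intro σ hσ
    simp only [wordCol, List.foldr_nil, List.mem_singleton] at hσ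
    subst hσ; exact hcol
  | cons rp w ih =>
    have : wordCol D k (rp :: w) col = applyNorm D k rp.1 rp.2 (wordCol D k w col) := rfl
    rw [this]
    exact inRange_applyNorm D k rp.1 rp.2 _ ih

/-! ### Soundness for words -/

theorem sum_code_single (D : ChevalleyDatum) (n : ℕ) (hn : n < D.rank + D.nroots) (g : D.Idx → F) :
    (∑ j : D.Idx, if n = code D j then g j else 0) = g (decode D n hn) := by
  rw [Finset.sum_eq_single (decode D n hn)]
  · rw [code_decode, if_pos rfl]
  · intro j _ hj
    have : ¬ n = code D j := by
      intro h
      apply hj
      apply code_injective D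
      rw [code_decode, h]
    rw [if_neg this]
  · intro h; exact absurd (Finset.mem_univ _) h

theorem sum_mul_evalVec (D : ChevalleyDatum) (a b : F) (G : ℕ → F) (v : Vec) (hv : InRange D v) :
    (∑ j : D.Idx, G (code D j) * evalVec a b v (code D j))
      = (v.map fun τ => τ.val a b * G τ.idx).sum := by
  induction v with
  | nil => simp
  | cons τ v ih =>
    have hτ : τ.idx < D.rank + D.nroots := hv τ (List.mem_cons_self ..)
    have hv' : InRange D v := fun x hx => hv x (List.mem_cons_of_mem _ hx)
    rw [List.map_cons, List.sum_cons, ← ih hv']
    simp only [evalVec_cons, mul_add]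
    rw [Finset.sum_add_distrib]
    congr 1
    have : ∀ j : D.Idx, G (code D j) * (if τ.idx = code D j then τ.val a b else 0)
        = if τ.idx = code D j then G (code D j) * τ.val a b else 0 := by
      intro j; split_ifs <;> simp
    simp only [this]
    rw [sum_code_single D τ.idx hτ (fun j => G (code D j) * τ.val a b), code_decode, mul_comm]

/-- the word with its parameters evaluated at `(a, b)` -/
def evalW (a b : F) (w : List (ℕ × Poly)) : List (ℕ × F) := w.map fun rp => (rp.1, evalPoly a b rp.2)

theorem wordCol_sound (D : ChevalleyDatum) (k : Term → Term → Bool) (a b : F)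
    (hk : KeySound k a b) (w : List (ℕ × Poly)) (row col : D.Idx) :
    evalVec a b (wordCol D k w (code D col)) (code D row) = D.wordMat F (evalW a b w) row col := by
  induction w generalizing row with
  | nil =>
    simp only [wordCol, List.foldr_nil, evalW, List.map_nil, ChevalleyDatum.wordMat, List.prod_nil,
      evalVec_cons, evalVec_nil, add_zero, Matrix.one_apply, unit, Term.val, mval]
    by_cases h : row = col
    · subst h; simp
    · have : ¬ code D col = code D row := fun h' => h (code_injective D h').symm
      simp [h, this]
  | cons rp w ih =>
    have h1 : wordCol D k (rp :: w) (code D col)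
        = applyNorm D k rp.1 rp.2 (wordCol D k w (code D col)) := rfl
    have h2 : D.wordMat F (evalW a b (rp :: w))
        = D.x F rp.1 (evalPoly a b rp.2) * D.wordMat F (evalW a b w) := by
      simp [ChevalleyDatum.wordMat, evalW]
    rw [h1, h2, evalVec_applyNorm D k a b hk, Matrix.mul_apply]
    have hin := inRange_wordCol D k w (code D col) (code_lt D col)
    rw [← sum_mul_evalVec D a b
      (fun n => dataVal (evalPoly a b rp.2) (xData D rp.1 n) (code D row)) _ hin]
    apply Finset.sum_congr rfl
    intro j _
    rw [xData_sound, ih]

/-! ### Columns outside the support -/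

theorem xData_eq_of_not_mem_supp (D : ChevalleyDatum) (r col : ℕ) (h : col ∉ supp D r) :
    xData D r col = [(col, 1, 0)] := by
  unfold supp at h
  simp only [Nat.add_eq, List.mem_append, List.mem_range, List.mem_cons, List.mem_map, not_or,
    not_exists, not_and] at h
  obtain ⟨h1, h2, h3, h4⟩ := h
  unfold xData
  by_cases hr : r < D.nroots
  · rw [cond_blt_pos hr, cond_blt_neg h1]
    simp only [Nat.add_eq, Nat.sub_eq]
    have hcol : D.rank + (col - D.rank) = col := by omega
    by_cases hs : col - D.rank = r
    · rw [cond_beq_pos hs]
    · rw [cond_beq_neg hs]
      have hs2 : ¬ col - D.rank = D.negIdx.getD r 0 := by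
        intro h'
        apply h3
        rw [← h', hcol]
      rw [cond_beq_neg hs2]
      have : (D.chain.getD r #[]).toList.filter (fun e => Nat.beq e.1 (col - D.rank)) = [] := by
        rw [List.filter_eq_nil_iff]
        intro e he hbe
        rw [Nat.beq_eq] at hbe
        apply h4 e he
        rw [hbe, hcol]
      rw [this]
      rfl
  · rw [cond_blt_neg hr]

theorem x_col_trivial (D : ChevalleyDatum) (r : ℕ) (t : F) (col : D.Idx)
    (h : code D col ∉ supp D r) (row : D.Idx) :
    D.x F r t row col = (1 : Matrix D.Idx D.Idx F) row col := by
  rw [← xData_sound, xData_eq_of_not_mem_supp D r _ h, dataVal_cons, dataVal_nil, Matrix.one_apply]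
  by_cases h' : row = col
  · subst h'; simp
  · have : ¬ code D col = code D row := fun h'' => h' (code_injective D h'').symm
    simp [h', this]

theorem wordMat_col_trivial (D : ChevalleyDatum) (w : List (ℕ × F)) (col : D.Idx)
    (h : ∀ rt ∈ w, code D col ∉ supp D rt.1) (row : D.Idx) :
    D.wordMat F w row col = (1 : Matrix D.Idx D.Idx F) row col := by
  induction w generalizing row with
  | nil => simp [ChevalleyDatum.wordMat]
  | cons rt w ih =>
    have h2 : D.wordMat F (rt :: w) = D.x F rt.1 rt.2 * D.wordMat F w := by
      simp [ChevalleyDatum.wordMat]
    rw [h2, Matrix.mul_apply]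
    have : ∀ j : D.Idx, D.x F rt.1 rt.2 row j * D.wordMat F w j col
        = D.x F rt.1 rt.2 row j * (1 : Matrix D.Idx D.Idx F) j col := by
      intro j
      rw [ih (fun x hx => h x (List.mem_cons_of_mem _ hx))]
    simp only [this]
    rw [← Matrix.mul_apply, Matrix.mul_one]
    exact x_col_trivial D rt.1 rt.2 col (h rt (List.mem_cons_self ..)) row

/-! ### Turning column checks into matrix identities -/

/-- Two words with equal symbolic columns on a list `L` of columns covering the supports of all
letters have equal matrices. -/
theorem wordMat_eq_of_cols (D : ChevalleyDatum) (k : Term → Term → Bool) (a b : F)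
    (hk : KeySound k a b) (w1 w2 : List (ℕ × Poly)) (L : List ℕ)
    (hL : ∀ rp ∈ w1 ++ w2, ∀ c ∈ supp D rp.1, c ∈ L)
    (h : ∀ col ∈ L, vecEq k (wordCol D k w1 col) (wordCol D k w2 col) = true) :
    D.wordMat F (evalW a b w1) = D.wordMat F (evalW a b w2) := by
  ext row col
  by_cases hc : code D col ∈ L
  · rw [← wordCol_sound D k a b hk, ← wordCol_sound D k a b hk]
    exact eq_of_vecEq k a b hk _ _ (h _ hc) _
  · have ht : ∀ (w : List (ℕ × Poly)), (∀ rp ∈ w, ∀ c ∈ supp D rp.1, c ∈ L) →
        ∀ rt ∈ evalW a b w, code D col ∉ supp D rt.1 := by
      intro w hw rt hrt
      unfold evalW at hrt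
      rw [List.mem_map] at hrt
      obtain ⟨rp, hrp, rfl⟩ := hrt
      exact fun hmem => hc (hw rp hrp _ hmem)
    rw [wordMat_col_trivial D _ col (ht w1 fun rp hrp => hL rp (List.mem_append_left _ hrp)),
      wordMat_col_trivial D _ col (ht w2 fun rp hrp => hL rp (List.mem_append_right _ hrp))]

/-- A word whose symbolic columns on `L` equal claimed columns, the claim being the unit column
outside `L`, has the claimed matrix. -/
theorem wordMat_eq_of_claim (D : ChevalleyDatum) (k : Term → Term → Bool) (a b : F)
    (hk : KeySound k a b) (w : List (ℕ × Poly)) (claim : ℕ → Vec) (L : List ℕ)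
    (hL : ∀ rp ∈ w, ∀ c ∈ supp D rp.1, c ∈ L)
    (h : ∀ col ∈ L, vecEq k (wordCol D k w col) (claim col) = true)
    (htriv : ∀ col : D.Idx, code D col ∉ L →
      ∀ row : D.Idx, evalVec a b (claim (code D col)) (code D row)
        = (1 : Matrix D.Idx D.Idx F) row col)
    (row col : D.Idx) :
    D.wordMat F (evalW a b w) row col = evalVec a b (claim (code D col)) (code D row) := by
  by_cases hc : code D col ∈ L
  · rw [← wordCol_sound D k a b hk]
    exact eq_of_vecEq k a b hk _ _ (h _ hc) _
  · rw [htriv col hc row]
    apply wordMat_col_trivial
    intro rt hrt
    unfold evalW at hrt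
    rw [List.mem_map] at hrt
    obtain ⟨rp, hrp, rfl⟩ := hrt
    exact fun hmem => hc (hL rp hrp _ hmem)

end Cfsg.Agent.Lib.Helper5.ChevSym
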