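import Mathlib
import Cfsg.Prelude.Def_ChevStructure
import Cfsg.Agent.Lib.Helper5.ChevSymSound

set_option autoImplicit false

/-!
The check behind `x_r(t₁) x_r(t₂) = x_r(t₁ + t₂)`.
-/

namespace Cfsg.Agent.Lib.Helper5.ChevSym

open Cfsg Cfsg.Lie

def checkRange (f : ℕ → Bool) (lo n : ℕ) : Bool := (List.range n).all fun k => f (Nat.add lo k)

theorem of_checkRange {f : ℕ → Bool} {lo n : ℕ} (h : checkRange f lo n = true) (r : ℕ)
    (h1 : lo ≤ r) (h2 : r < lo + n) : f r = true := by
  unfold checkRange at h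
  rw [List.all_eq_true] at h
  have := h (r - lo) (List.mem_range.2 (by omega))
  have e : Nat.add lo (r - lo) = r := by simp only [Nat.add_eq]; omega
  rwa [e] at this

/-- the polynomial `a` -/
def pA : Poly := [(1, 0, 1)]
/-- the polynomial `b` -/
def pB : Poly := [(0, 1, 1)]

def checkAdd (D : ChevalleyDatum) (r : ℕ) : Bool :=
  canon (fun r => (supp D r).all fun col =>
    vecEq keyEq (wordCol D keyEq [(r, pA), (r, pB)] col) (wordCol D keyEq [(r, pA ++ pB)] col)) r

variable {F : Type*} [Field F]

theorem evalPoly_pA (a b : F) : evalPoly a b pA = a := by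
  simp [pA, evalPoly, evalMono, mval]

theorem evalPoly_pB (a b : F) : evalPoly a b pB = b := by
  simp [pB, evalPoly, evalMono, mval]

theorem x_add_of_check (D : ChevalleyDatum) (r : ℕ) (h : checkAdd D r = true) (t₁ t₂ : F) :
    D.x F r t₁ * D.x F r t₂ = D.x F r (t₁ + t₂) := by
  unfold checkAdd at h
  rw [canon_eq, List.all_eq_true] at h
  have key := wordMat_eq_of_cols D keyEq t₁ t₂ (keyEq_sound t₁ t₂)
    [(r, pA), (r, pB)] [(r, pA ++ pB)] (supp D r)
    (by
      intro rp hrp c hc
      simp only [List.cons_append, List.nil_append, List.mem_cons, List.not_mem_nil,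
        or_false] at hrp
      rcases hrp with rfl | rfl | rfl <;> exact hc)
    h
  simpa [evalW, ChevalleyDatum.wordMat, evalPoly_append, evalPoly_pA, evalPoly_pB] using key

end Cfsg.Agent.Lib.Helper5.ChevSym
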