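import Mathlib
import Cfsg.Prelude.Def_ChevStructure
import Cfsg.Agent.Lib.Helper5.ChevChk.AddAll

set_option autoImplicit false

/-!
Root elements as elements of `GL`, and the words `n_r(t)`, `h_r(t)` as products.
-/

namespace Cfsg.Agent.Lib.Helper5.ChevStruct

open Cfsg Cfsg.Lie Cfsg.Agent.Lib.Helper5.ChevSym

variable {F : Type*} [Field F]

theorem chainCoeff_fst_ne_zero (D : ChevalleyDatum) (r s u : ℕ) (km : ℕ × ℤ)
    (h : km ∈ D.chainCoeff r s u) : km.1 ≠ 0 := by
  unfold ChevalleyDatum.chainCoeff at h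
  rw [List.mem_flatMap] at h
  obtain ⟨e, _, he⟩ := h
  rw [List.mem_map] at he
  obtain ⟨q, _, rfl⟩ := he
  exact Nat.succ_ne_zero _

theorem chain_sum_at_zero (D : ChevalleyDatum) (r s u : ℕ) :
    ((D.chainCoeff r s u).map fun km => ((km.2 : ℤ) : F) * (0 : F) ^ km.1).sum = 0 := by
  apply List.sum_eq_zero
  intro x hx
  rw [List.mem_map] at hx
  obtain ⟨km, hkm, rfl⟩ := hx
  rw [zero_pow (chainCoeff_fst_ne_zero D r s u km hkm), mul_zero]

theorem xMat_at_zero (D : ChevalleyDatum) (r : Fin D.nroots) : D.xMat F r 0 = 1 := by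
  ext row col
  unfold ChevalleyDatum.xMat
  rcases col with i | s <;> rcases row with i' | u
  · simp [Matrix.one_apply]
  · simp [Matrix.one_apply]
  · simp only [Matrix.of_apply]
    split_ifs <;> simp [Matrix.one_apply]
  · simp only [Matrix.of_apply]
    split_ifs
    all_goals first
      | (simp [*, Matrix.one_apply, chain_sum_at_zero]; done)
      | (subst_vars; simp [*, Matrix.one_apply, chain_sum_at_zero]; done)

theorem x_at_zero (D : ChevalleyDatum) (r : ℕ) : D.x F r 0 = 1 := by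
  unfold ChevalleyDatum.x
  split_ifs
  · exact xMat_at_zero D _
  · rfl

abbrev Seven : List ChevalleyDatum := [chevG2, chevB2, chevD4, chevF4, chevE6, chevE7, chevE8]

theorem x_mul_neg (D : ChevalleyDatum) (hD : D ∈ Seven) (r : ℕ) (t : F) :
    D.x F r t * D.x F r (-t) = 1 := by
  rw [x_add D hD, add_neg_cancel, x_at_zero]

theorem x_neg_mul (D : ChevalleyDatum) (hD : D ∈ Seven) (r : ℕ) (t : F) :
    D.x F r (-t) * D.x F r t = 1 := by
  rw [x_add D hD, neg_add_cancel, x_at_zero]

/-- the root element `x_r(t)` as an element of `GL` -/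
def xGL (D : ChevalleyDatum) (hD : D ∈ Seven) (r : ℕ) (t : F) : GL D.Idx F where
  val := D.x F r t
  inv := D.x F r (-t)
  val_inv := x_mul_neg D hD r t
  inv_val := x_neg_mul D hD r t

@[simp] theorem xGL_val (D : ChevalleyDatum) (hD : D ∈ Seven) (r : ℕ) (t : F) :
    ((xGL D hD r t : GL D.Idx F) : Matrix D.Idx D.Idx F) = D.x F r t := rfl

theorem xGL_mem_group (D : ChevalleyDatum) (hD : D ∈ Seven) (r : ℕ) (t : F) :
    xGL D hD r t ∈ D.group F := by
  by_cases hr : r < D.nroots
  · apply Subgroup.subset_closure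
    refine ⟨⟨r, hr⟩, t, ?_⟩
    rw [xGL_val]
    unfold ChevalleyDatum.x
    rw [dif_pos hr]
  · have : xGL D hD r t = 1 := by
      apply Units.ext
      rw [xGL_val, Units.val_one]
      unfold ChevalleyDatum.x
      rw [dif_neg hr]
    rw [this]
    exact Subgroup.one_mem _

/-- the element of `GL` attached to a word -/
def wordGL (D : ChevalleyDatum) (hD : D ∈ Seven) (w : List (ℕ × F)) : GL D.Idx F :=
  (w.map fun p => xGL D hD p.1 p.2).prod

theorem wordGL_val (D : ChevalleyDatum) (hD : D ∈ Seven) (w : List (ℕ × F)) :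
    ((wordGL D hD w : GL D.Idx F) : Matrix D.Idx D.Idx F) = D.wordMat F w := by
  induction w with
  | nil => simp [wordGL, ChevalleyDatum.wordMat]
  | cons p w ih =>
    have h1 : wordGL D hD (p :: w) = xGL D hD p.1 p.2 * wordGL D hD w := by
      simp [wordGL]
    have h2 : D.wordMat F (p :: w) = D.x F p.1 p.2 * D.wordMat F w := by
      simp [ChevalleyDatum.wordMat]
    rw [h1, h2, Units.val_mul, ih, xGL_val]

theorem wordGL_mem_group (D : ChevalleyDatum) (hD : D ∈ Seven) (w : List (ℕ × F)) :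
    wordGL D hD w ∈ D.group F := by
  unfold wordGL
  apply Subgroup.list_prod_mem
  intro g hg
  rw [List.mem_map] at hg
  obtain ⟨p, _, rfl⟩ := hg
  exact xGL_mem_group D hD p.1 p.2

/-- an element of `GL` whose matrix is that of a word lies in the Chevalley group -/
theorem mem_group_of_val_eq_wordMat (D : ChevalleyDatum) (hD : D ∈ Seven) (g : GL D.Idx F)
    (w : List (ℕ × F)) (h : (g : Matrix D.Idx D.Idx F) = D.wordMat F w) : g ∈ D.group F := by
  have : g = wordGL D hD w := by
    apply Units.ext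
    rw [h, wordGL_val]
  rw [this]
  exact wordGL_mem_group D hD w

theorem nMat_eq (D : ChevalleyDatum) (r : ℕ) (t : F) :
    D.nMat F r t = D.x F r t * D.x F (D.neg r) (-t⁻¹) * D.x F r t := by
  simp [ChevalleyDatum.nMat, ChevalleyDatum.wordMat, ChevalleyDatum.nWord, mul_assoc]

theorem hMat_eq (D : ChevalleyDatum) (r : ℕ) (t : F) :
    D.hMat F r t = D.nMat F r t * D.nMat F r (-1) := by
  simp [ChevalleyDatum.hMat, ChevalleyDatum.nMat, ChevalleyDatum.wordMat, ChevalleyDatum.hWord,
    mul_assoc]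

/-- `n_r(t) n_r(-t) = 1` -/
theorem nMat_mul_neg (D : ChevalleyDatum) (hD : D ∈ Seven) (r : ℕ) (t : F) :
    D.nMat F r t * D.nMat F r (-t) = 1 := by
  rw [nMat_eq, nMat_eq]
  have e : -(-t)⁻¹ = -(-t⁻¹) := by rw [inv_neg]
  rw [e]
  calc D.x F r t * D.x F (D.neg r) (-t⁻¹) * D.x F r t
        * (D.x F r (-t) * D.x F (D.neg r) (-(-t⁻¹)) * D.x F r (-t))
      = D.x F r t * (D.x F (D.neg r) (-t⁻¹) * ((D.x F r t * D.x F r (-t))
          * D.x F (D.neg r) (-(-t⁻¹)))) * D.x F r (-t) := by
        simp only [mul_assoc]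
    _ = 1 := by
        rw [x_mul_neg D hD, one_mul, x_mul_neg D hD, mul_one, x_mul_neg D hD]

/-- `n_r(t) = h_r(t) n_r(1)` -/
theorem nMat_eq_hMat_mul (D : ChevalleyDatum) (hD : D ∈ Seven) (r : ℕ) (t : F) :
    D.nMat F r t = D.hMat F r t * D.nMat F r 1 := by
  rw [hMat_eq, mul_assoc]
  have : D.nMat F r (-1) * D.nMat F r 1 = 1 := by
    have := nMat_mul_neg D hD r (-1 : F)
    rwa [neg_neg] at this
  rw [this, mul_one]

end Cfsg.Agent.Lib.Helper5.ChevStruct
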