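import Mathlib
import Cfsg.Prelude.Def_ChevStructure
import Cfsg.Agent.Lib.Helper5.ChevXGL

set_option autoImplicit false

/-!
`B`, `N ≤ G` and `G = ⟨B, N⟩`.
-/

namespace Cfsg.Agent.Lib.Helper5.ChevStruct

open Cfsg Cfsg.Lie Cfsg.Agent.Lib.Helper5.ChevSym

variable {F : Type*} [Field F]

/-- every root is positive or the negative of a positive root -/
def posOrNeg (D : ChevalleyDatum) : Bool :=
  (List.range D.nroots).all fun r =>
    decide (D.IsPosRoot r) || (decide (D.IsPosRoot (D.neg r)) && Nat.beq (D.neg (D.neg r)) r)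

set_option maxRecDepth 1000000 in
theorem posOrNeg_G2 : posOrNeg chevG2 = true := by decide +kernel

set_option maxRecDepth 1000000 in
theorem posOrNeg_B2 : posOrNeg chevB2 = true := by decide +kernel

set_option maxRecDepth 1000000 in
theorem posOrNeg_D4 : posOrNeg chevD4 = true := by decide +kernel

set_option maxRecDepth 1000000 in
theorem posOrNeg_F4 : posOrNeg chevF4 = true := by decide +kernel

set_option maxRecDepth 1000000 in
theorem posOrNeg_E6 : posOrNeg chevE6 = true := by decide +kernel

set_option maxRecDepth 1000000 in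
theorem posOrNeg_E7 : posOrNeg chevE7 = true := by decide +kernel

set_option maxRecDepth 1000000 in
theorem posOrNeg_E8 : posOrNeg chevE8 = true := by decide +kernel

theorem posOrNeg_all (D : ChevalleyDatum) (hD : D ∈ Seven) : posOrNeg D = true := by
  simp only [List.mem_cons, List.not_mem_nil, or_false] at hD
  rcases hD with rfl | rfl | rfl | rfl | rfl | rfl | rfl
  · exact posOrNeg_G2
  · exact posOrNeg_B2
  · exact posOrNeg_D4
  · exact posOrNeg_F4
  · exact posOrNeg_E6
  · exact posOrNeg_E7
  · exact posOrNeg_E8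

theorem pos_or_neg (D : ChevalleyDatum) (hD : D ∈ Seven) (r : ℕ) (hr : r < D.nroots) :
    D.IsPosRoot r ∨ (D.IsPosRoot (D.neg r) ∧ D.neg (D.neg r) = r) := by
  have h := posOrNeg_all D hD
  unfold posOrNeg at h
  rw [List.all_eq_true] at h
  have := h r (List.mem_range.2 hr)
  rw [Bool.or_eq_true, Bool.and_eq_true, decide_eq_true_iff, decide_eq_true_iff] at this
  rcases this with h1 | ⟨h1, h2⟩
  · exact Or.inl h1
  · exact Or.inr ⟨h1, Nat.eq_of_beq_eq_true h2⟩

theorem wordMat_single (D : ChevalleyDatum) (r : ℕ) (t : F) :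
    D.wordMat F [(r, t)] = D.x F r t := by
  simp [ChevalleyDatum.wordMat]

theorem pos_le_group (D : ChevalleyDatum) (hD : D ∈ Seven) : D.posUnipotent F ≤ D.group F := by
  unfold ChevalleyDatum.posUnipotent
  rw [Subgroup.closure_le]
  rintro g ⟨r, t, _, hg⟩
  exact mem_group_of_val_eq_wordMat D hD g [(r, t)] (by rw [hg, wordMat_single])

theorem neg_le_group (D : ChevalleyDatum) (hD : D ∈ Seven) : D.negUnipotent F ≤ D.group F := by
  unfold ChevalleyDatum.negUnipotent
  rw [Subgroup.closure_le]
  rintro g ⟨r, t, _, hg⟩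
  exact mem_group_of_val_eq_wordMat D hD g [(r, t)] (by rw [hg, wordMat_single])

theorem diagonal_le_group (D : ChevalleyDatum) (hD : D ∈ Seven) :
    D.diagonalSubgroup F ≤ D.group F := by
  unfold ChevalleyDatum.diagonalSubgroup
  rw [Subgroup.closure_le]
  rintro g ⟨r, t, _, _, hg⟩
  exact mem_group_of_val_eq_wordMat D hD g (D.hWord r t) hg

theorem borel_le_group (D : ChevalleyDatum) (hD : D ∈ Seven) : D.borelSubgroup F ≤ D.group F :=
  sup_le (pos_le_group D hD) (diagonal_le_group D hD)

theorem monomial_le_group (D : ChevalleyDatum) (hD : D ∈ Seven) :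
    D.monomialSubgroup F ≤ D.group F := by
  apply sup_le (diagonal_le_group D hD)
  rw [Subgroup.closure_le]
  rintro g ⟨r, _, hg⟩
  exact mem_group_of_val_eq_wordMat D hD g (D.nWord r 1) hg

theorem xGL_mem_pos (D : ChevalleyDatum) (hD : D ∈ Seven) (r : ℕ) (hr : D.IsPosRoot r) (t : F) :
    xGL D hD r t ∈ D.posUnipotent F :=
  Subgroup.subset_closure ⟨r, t, hr, rfl⟩

/-- `n_r(t) ∈ N` for `t ≠ 0` -/
theorem nGL_mem_monomial (D : ChevalleyDatum) (hD : D ∈ Seven) (r : ℕ) (hr : r < D.nroots)
    (t : F) (ht : t ≠ 0) : wordGL D hD (D.nWord r t) ∈ D.monomialSubgroup F := by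
  have h1 : wordGL D hD (D.hWord r t) ∈ D.diagonalSubgroup F :=
    Subgroup.subset_closure ⟨r, t, hr, ht, wordGL_val D hD _⟩
  have h2 : wordGL D hD (D.nWord r (1 : F)) ∈
      Subgroup.closure {g : GL D.Idx F | ∃ r : ℕ, r < D.nroots ∧
        (g : Matrix D.Idx D.Idx F) = D.nMat F r 1} :=
    Subgroup.subset_closure ⟨r, hr, wordGL_val D hD _⟩
  have e : wordGL D hD (D.nWord r t) = wordGL D hD (D.hWord r t) * wordGL D hD (D.nWord r (1 : F)) := by
    apply Units.ext
    rw [Units.val_mul, wordGL_val, wordGL_val, wordGL_val]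
    exact nMat_eq_hMat_mul D hD r t
  rw [e]
  unfold ChevalleyDatum.monomialSubgroup
  exact mul_mem (Subgroup.mem_sup_left h1) (Subgroup.mem_sup_right h2)

theorem group_le_sup (D : ChevalleyDatum) (hD : D ∈ Seven) :
    D.group F ≤ D.borelSubgroup F ⊔ D.monomialSubgroup F := by
  unfold ChevalleyDatum.group
  rw [Subgroup.closure_le]
  rintro g ⟨r, t, hg⟩
  have hgx : (g : Matrix D.Idx D.Idx F) = D.x F r.val t := by
    rw [hg]
    unfold ChevalleyDatum.x
    rw [dif_pos r.2]
  rcases pos_or_neg D hD r.val r.2 with hp | ⟨hp, hnn⟩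
  · apply Subgroup.mem_sup_left
    unfold ChevalleyDatum.borelSubgroup
    apply Subgroup.mem_sup_left
    exact Subgroup.subset_closure ⟨r.val, t, hp, hgx⟩
  · by_cases ht : t = 0
    · have : g = 1 := by
        apply Units.ext
        rw [hgx, ht, x_at_zero, Units.val_one]
      rw [this]
      exact one_mem _
    · set r' := D.neg r.val with hr'
      set t' : F := -t⁻¹ with ht'
      have ht'0 : t' ≠ 0 := neg_ne_zero.2 (inv_ne_zero ht)
      have ht'' : -t'⁻¹ = t := by
        rw [ht', inv_neg, inv_inv, neg_neg]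
      have e : g = xGL D hD r' (-t') * wordGL D hD (D.nWord r' t') * xGL D hD r' (-t') := by
        apply Units.ext
        rw [Units.val_mul, Units.val_mul, xGL_val, wordGL_val]
        have : D.wordMat F (D.nWord r' t') = D.nMat F r' t' := rfl
        rw [this, nMat_eq, hnn, ht'', hgx]
        calc D.x F r.val t
            = (D.x F r' (-t') * D.x F r' t') * D.x F r.val t * (D.x F r' t' * D.x F r' (-t')) := by
              rw [x_neg_mul D hD, x_mul_neg D hD, one_mul, mul_one]
          _ = _ := by simp only [mul_assoc]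
      rw [e]
      have hu : xGL D hD r' (-t') ∈ D.borelSubgroup F ⊔ D.monomialSubgroup F := by
        apply Subgroup.mem_sup_left
        unfold ChevalleyDatum.borelSubgroup
        exact Subgroup.mem_sup_left (xGL_mem_pos D hD r' hp _)
      exact mul_mem (mul_mem hu (Subgroup.mem_sup_right (nGL_mem_monomial D hD r' hp.1 t' ht'0))) hu

/-- `B ≤ G`, `N ≤ G`, `⟨B, N⟩ = G` -/
theorem borel_sup_monomial (D : ChevalleyDatum) (hD : D ∈ Seven) :
    D.borelSubgroup F ≤ D.group F ∧ D.monomialSubgroup F ≤ D.group F ∧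
      D.borelSubgroup F ⊔ D.monomialSubgroup F = D.group F :=
  ⟨borel_le_group D hD, monomial_le_group D hD,
    le_antisymm (sup_le (borel_le_group D hD) (monomial_le_group D hD)) (group_le_sup D hD)⟩

end Cfsg.Agent.Lib.Helper5.ChevStruct
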