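import Mathlib
import Cfsg.Prelude.Def_ChevStructure

set_option autoImplicit false

/-!
Torus elements `torusMat D c = ∏_i h_{p_i}(c_i)` as explicit diagonal matrices.
-/

namespace Cfsg.Agent.Lib.Helper5.ChevStruct

open Cfsg Cfsg.Lie

variable {F : Type*} [Field F]

/-- the value of the character attached to `c` at the root `s` -/
def chi (D : ChevalleyDatum) (c : ℕ → F) (s : ℕ) : F :=
  ((List.range D.rank).map fun i => (c i) ^ (D.cartan i s)).prod

/-- the diagonal matrix `∏_i h_{p_i}(c_i)` -/
def torusMat (D : ChevalleyDatum) (c : ℕ → F) : Matrix D.Idx D.Idx F :=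
  Matrix.diagonal (Sum.elim (fun _ => (1 : F)) (fun s : Fin D.nroots => chi D c s.val))

theorem chi_mul (D : ChevalleyDatum) (c c' : ℕ → F) (s : ℕ) :
    chi D (fun i => c i * c' i) s = chi D c s * chi D c' s := by
  unfold chi
  rw [← List.prod_map_mul]
  congr 1
  apply List.map_congr_left
  intro i _
  rw [mul_zpow]

theorem chi_one (D : ChevalleyDatum) (s : ℕ) : chi D (fun _ => (1 : F)) s = 1 := by
  unfold chi
  apply List.prod_eq_one
  intro x hx
  rw [List.mem_map] at hx
  obtain ⟨i, _, rfl⟩ := hx
  rw [one_zpow]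

theorem chi_congr (D : ChevalleyDatum) (c c' : ℕ → F) (h : ∀ i < D.rank, c i = c' i) (s : ℕ) :
    chi D c s = chi D c' s := by
  unfold chi
  congr 1
  apply List.map_congr_left
  intro i hi
  rw [h i (List.mem_range.1 hi)]

theorem torusMat_mul (D : ChevalleyDatum) (c c' : ℕ → F) :
    torusMat D c * torusMat D c' = torusMat D (fun i => c i * c' i) := by
  unfold torusMat
  rw [Matrix.diagonal_mul_diagonal]
  congr 1
  funext j
  rcases j with i | s
  · simp
  · simp only [Sum.elim_inr]
    rw [chi_mul]

theorem torusMat_one (D : ChevalleyDatum) : torusMat D (fun _ => (1 : F)) = 1 := by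
  unfold torusMat
  rw [← Matrix.diagonal_one]
  congr 1
  funext j
  rcases j with i | s
  · simp
  · simp only [Sum.elim_inr]
    rw [chi_one]

end Cfsg.Agent.Lib.Helper5.ChevStruct
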