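import Mathlib
import Cfsg.Prelude.Def_ChevStructure
import Cfsg.Prelude.Def_ChevG2
import Cfsg.Prelude.Def_ChevB2
import Cfsg.Prelude.Def_ChevD4
import Cfsg.Prelude.Def_ChevF4
import Cfsg.Prelude.Def_ChevE6
import Cfsg.Prelude.Def_ChevE7
import Cfsg.Prelude.Def_ChevE8
import Cfsg.Agent.Lib.Helper5.ChevTorusDef

set_option autoImplicit false

/-!
The weights `(A_{p_i, s})_i` of the roots are additive along the chains of the table; hence torus
elements normalise root subgroups: `torusMat c * x_r(t) = x_r(χ_c(r) t) * torusMat c`.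
-/

namespace Cfsg.Agent.Lib.Helper5.ChevStruct

open Cfsg Cfsg.Lie

/-! ### Reading a list at increasing positions -/

/-- `keys.map (full.getD · d)`, computed with a cursor moving forward whenever possible -/
def pickAll {α : Type} (full : List α) (d : α) : List α → ℕ → List ℕ → List α
  | _, _, [] => []
  | cur, pos, k :: ks =>
    bif Nat.ble pos k then
      (cur.drop (Nat.sub k pos)).headD d :: pickAll full d (cur.drop (Nat.sub k pos)) k ks
    else (full.drop k).headD d :: pickAll full d (full.drop k) k ks

theorem headD_drop {α : Type} (l : List α) (k : ℕ) (d : α) : (l.drop k).headD d = l.getD k d := by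
  rw [List.headD_eq_head?_getD, List.head?_drop, List.getD_eq_getElem?_getD]

theorem pickAll_eq {α : Type} (full : List α) (d : α) (keys : List ℕ) (cur : List α) (pos : ℕ)
    (h : cur = full.drop pos) : pickAll full d cur pos keys = keys.map fun k => full.getD k d := by
  induction keys generalizing cur pos with
  | nil => rfl
  | cons k ks ih =>
    simp only [pickAll, List.map_cons, Nat.sub_eq]
    cases hle : Nat.ble pos k
    · simp only [cond_false]
      rw [headD_drop, ih _ _ rfl]
    · simp only [cond_true]
      have hpk : pos ≤ k := Nat.le_of_ble_eq_true hle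
      have : cur.drop (k - pos) = full.drop k := by
        rw [h, List.drop_drop]
        congr 1
        omega
      rw [this, headD_drop, ih _ _ rfl]

/-! ### The table of weights -/

/-- the list of weights: entry `v` is `[A_{p_0,v}, …, A_{p_{l-1},v}]` -/
def wtTable (D : ChevalleyDatum) : List (List ℤ) :=
  (List.range D.rank).foldr (fun i acc =>
    List.zipWith (fun x w => x :: w) (D.cartanSR.getD i #[]).toList acc)
    (List.replicate D.nroots [])

/-- `wq = k * wr + ws` for lists of integers -/
def linEq : List ℤ → ℤ → List ℤ → List ℤ → Bool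
  | [], _, [], [] => true
  | q :: wq, k, r :: wr, s :: ws =>
    (decide (q = Int.add (Int.mul k r) s)) && linEq wq k wr ws
  | _, _, _, _ => false

/-- `wq = -wr` -/
def negEq : List ℤ → List ℤ → Bool
  | [], [] => true
  | q :: wq, r :: wr => (decide (q = Int.neg r)) && negEq wq wr
  | _, _ => false

/-- the chain entries of a root as triples `(s, u, k)`: `u = s + (k+1) r` -/
def flatChain (D : ChevalleyDatum) (r : ℕ) : List (ℕ × ℕ × ℕ) :=
  (D.chain.getD r #[]).toList.flatMap fun e => e.2.toList.zipIdx.map fun q => (e.1, q.1.1, q.2)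

def checkWeightsAt (D : ChevalleyDatum) (W : List (List ℤ)) (r : ℕ) : Bool :=
  let wr := W.getD r []
  let fl := flatChain D r
  Nat.blt (D.negIdx.getD r 0) D.nroots && negEq (W.getD (D.negIdx.getD r 0) []) wr &&
  ((fl.zip ((pickAll W [] W 0 (fl.map fun x => x.1)).zip
      (pickAll W [] W 0 (fl.map fun x => x.2.1)))).all fun x =>
    Nat.blt x.1.1 D.nroots && Nat.blt x.1.2.1 D.nroots &&
      linEq x.2.2 (Int.ofNat (Nat.succ x.1.2.2)) wr x.2.1)

def checkShape (D : ChevalleyDatum) : Bool :=
  (List.range D.rank).all (fun i => Nat.beq (D.cartanSR.getD i #[]).size D.nroots)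

def checkWeightsR (D : ChevalleyDatum) (lo n : ℕ) : Bool :=
  (List.range n).all fun k => checkWeightsAt D (wtTable D) (Nat.add lo k)

/-! ### Meaning of the checks -/

theorem cartan_eq_getD' (D : ChevalleyDatum) (i s : ℕ) :
    D.cartan i s = (D.cartanSR.getD i #[]).toList.getD s 0 := by
  unfold ChevalleyDatum.cartan
  generalize D.cartanSR.getD i #[] = a
  rw [List.getD_eq_getElem?_getD, Array.getElem?_toList]
  simp [Array.getD]
  split_ifs with h
  · simp [h]
  · simp [h]

theorem getD_foldr_zipWith_cons (n : ℕ) (rows : ℕ → List ℤ) (l : List ℕ)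
    (hrows : ∀ i ∈ l, (rows i).length = n) :
    (l.foldr (fun i acc => List.zipWith (fun x w => x :: w) (rows i) acc)
        (List.replicate n [])).length = n ∧
    ∀ s, s < n →
      (l.foldr (fun i acc => List.zipWith (fun x w => x :: w) (rows i) acc)
        (List.replicate n [])).getD s [] = l.map fun i => (rows i).getD s 0 := by
  induction l with
  | nil =>
    refine ⟨by simp, ?_⟩
    intro s hs
    simp [List.getD, hs]
  | cons i l ih =>
    obtain ⟨ih1, ih2⟩ := ih fun j hj => hrows j (List.mem_cons_of_mem _ hj)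
    have hri := hrows i (List.mem_cons_self ..)
    rw [List.foldr_cons]
    refine ⟨by rw [List.length_zipWith, hri, ih1, min_self], ?_⟩
    intro s hs
    have h1 : s < (rows i).length := by omega
    rw [List.map_cons, ← ih2 s hs]
    rw [List.getD_eq_getElem _ _ (by rw [List.length_zipWith, hri, ih1, min_self]; exact hs),
      List.getElem_zipWith, List.getD_eq_getElem _ _ h1, List.getD_eq_getElem _ _ (by omega)]

theorem checkShape_spec (D : ChevalleyDatum) (h : checkShape D = true) (i : ℕ) (hi : i < D.rank) :
    (D.cartanSR.getD i #[]).toList.length = D.nroots := by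
  unfold checkShape at h
  rw [List.all_eq_true] at h
  rw [Array.length_toList]
  exact Nat.eq_of_beq_eq_true (h i (List.mem_range.2 hi))

theorem wtTable_getD (D : ChevalleyDatum) (h : checkShape D = true) (v : ℕ) (hv : v < D.nroots) :
    (wtTable D).getD v [] = (List.range D.rank).map fun i => D.cartan i v := by
  unfold wtTable
  rw [(getD_foldr_zipWith_cons D.nroots (fun i => (D.cartanSR.getD i #[]).toList)
    (List.range D.rank) (fun i hi => checkShape_spec D h i (List.mem_range.1 hi))).2 v hv]
  apply List.map_congr_left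
  intro i _
  rw [cartan_eq_getD']

theorem linEq_map (l : List ℕ) (a b c : ℕ → ℤ) (k : ℤ)
    (h : linEq (l.map a) k (l.map b) (l.map c) = true) : ∀ i ∈ l, a i = k * b i + c i := by
  induction l with
  | nil => intro i hi; simp at hi
  | cons j l ih =>
    simp only [List.map_cons, linEq, Bool.and_eq_true, decide_eq_true_eq] at h
    intro i hi
    rw [List.mem_cons] at hi
    rcases hi with rfl | hi
    · exact h.1
    · exact ih h.2 i hi

theorem negEq_map (l : List ℕ) (a b : ℕ → ℤ) (h : negEq (l.map a) (l.map b) = true) :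
    ∀ i ∈ l, a i = - b i := by
  induction l with
  | nil => intro i hi; simp at hi
  | cons j l ih =>
    simp only [List.map_cons, negEq, Bool.and_eq_true, decide_eq_true_eq] at h
    intro i hi
    rw [List.mem_cons] at hi
    rcases hi with rfl | hi
    · exact h.1
    · exact ih h.2 i hi

theorem zip_map_self {α β : Type} (l : List α) (g : α → β) :
    l.zip (l.map g) = l.map fun x => (x, g x) := by
  induction l with
  | nil => rfl
  | cons x l ih => simp [ih]

/-- the semantic content of the weight checks -/
structure WeightsOK (D : ChevalleyDatum) : Prop where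
  neg_lt : ∀ r < D.nroots, D.negIdx.getD r 0 < D.nroots
  neg : ∀ r < D.nroots, ∀ i < D.rank, D.cartan i (D.negIdx.getD r 0) = - D.cartan i r
  chain : ∀ r < D.nroots, ∀ x ∈ flatChain D r, x.1 < D.nroots ∧ x.2.1 < D.nroots ∧
    ∀ i < D.rank, D.cartan i x.2.1 = ((x.2.2 + 1 : ℕ) : ℤ) * D.cartan i r + D.cartan i x.1

theorem checkWeightsAt_spec (D : ChevalleyDatum) (hs : checkShape D = true) (r : ℕ)
    (hr : r < D.nroots) (h : checkWeightsAt D (wtTable D) r = true) :
    D.negIdx.getD r 0 < D.nroots ∧
    (∀ i < D.rank, D.cartan i (D.negIdx.getD r 0) = - D.cartan i r) ∧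
    (∀ x ∈ flatChain D r, x.1 < D.nroots ∧ x.2.1 < D.nroots ∧
      ∀ i < D.rank, D.cartan i x.2.1 = ((x.2.2 + 1 : ℕ) : ℤ) * D.cartan i r + D.cartan i x.1) := by
  unfold checkWeightsAt at h
  simp only [Bool.and_eq_true] at h
  obtain ⟨⟨h0, h1⟩, h2⟩ := h
  rw [Nat.blt_eq] at h0
  refine ⟨h0, ?_, ?_⟩
  · rw [wtTable_getD D hs _ h0, wtTable_getD D hs r hr] at h1
    intro i hi
    exact negEq_map _ _ _ h1 i (List.mem_range.2 hi)
  · rw [pickAll_eq _ _ _ _ _ (by simp), pickAll_eq _ _ _ _ _ (by simp), List.map_map, List.map_map,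
      List.zip_map', zip_map_self, List.all_eq_true] at h2
    intro x hx
    have := h2 (x, (wtTable D).getD x.1 [], (wtTable D).getD x.2.1 []) (by
      rw [List.mem_map]
      exact ⟨x, hx, rfl⟩)
    simp only [Bool.and_eq_true] at this
    obtain ⟨⟨hx1, hx2⟩, hx3⟩ := this
    rw [Nat.blt_eq] at hx1 hx2
    refine ⟨hx1, hx2, ?_⟩
    rw [wtTable_getD D hs _ hx1, wtTable_getD D hs _ hx2, wtTable_getD D hs r hr] at hx3
    intro i hi
    have := linEq_map _ _ _ _ _ hx3 i (List.mem_range.2 hi)
    rw [this]
    rfl

theorem weightsOK_of_checks (D : ChevalleyDatum) (hs : checkShape D = true)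
    (h : ∀ r < D.nroots, checkWeightsAt D (wtTable D) r = true) : WeightsOK D where
  neg_lt := fun r hr => (checkWeightsAt_spec D hs r hr (h r hr)).1
  neg := fun r hr => (checkWeightsAt_spec D hs r hr (h r hr)).2.1
  chain := fun r hr => (checkWeightsAt_spec D hs r hr (h r hr)).2.2

theorem of_checkWeightsR {D : ChevalleyDatum} {lo n : ℕ} (h : checkWeightsR D lo n = true) (r : ℕ)
    (h1 : lo ≤ r) (h2 : r < lo + n) : checkWeightsAt D (wtTable D) r = true := by
  unfold checkWeightsR at h
  rw [List.all_eq_true] at h
  have := h (r - lo) (List.mem_range.2 (by omega))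
  have e : Nat.add lo (r - lo) = r := by simp only [Nat.add_eq]; omega
  rwa [e] at this

end Cfsg.Agent.Lib.Helper5.ChevStruct
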