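import Mathlib
import Cfsg.Prelude.Def_ChevStructure
import Cfsg.Agent.Lib.Helper5.ChevSymAdd

set_option autoImplicit false

/-!
The check behind `h_r(t) = diag(1, …, 1; t^{A(r,s)})`.
-/

namespace Cfsg.Agent.Lib.Helper5.ChevSym

open Cfsg Cfsg.Lie

/-- the row `s ↦ Σ_i c_i(r) A_{p_i,s}` of Cartan integers of the root `r`, computed in lockstep -/
def cartanRow (D : ChevalleyDatum) (r : ℕ) : List ℤ :=
  (List.range D.rank).foldr (fun i acc =>
    List.zipWith (fun x y => Int.add (Int.mul ((D.coroot.getD r #[]).getD i 0) x) y)
      (D.cartanSR.getD i #[]).toList acc) (List.replicate D.nroots 0)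

def expTerm (col : ℕ) : ℤ → Vec
  | Int.ofNat n => [⟨col, n, 0, 1⟩]
  | Int.negSucc n => [⟨col, 0, Nat.succ n, 1⟩]

def hClaim (D : ChevalleyDatum) (row : List ℤ) (col : ℕ) : Vec :=
  bif Nat.blt col D.rank then [unit col]
  else expTerm col (row.getD (Nat.sub col D.rank) 0)

/-- the word `h_r(a)` in the variables `a`, `b = a⁻¹` -/
def hWordSym (r nr : ℕ) : List (ℕ × Poly) :=
  [(r, pA), (nr, [(0, 1, -1)]), (r, pA), (r, [(0, 0, -1)]), (nr, [(0, 0, 1)]), (r, [(0, 0, -1)])]

def hCols (D : ChevalleyDatum) (r nr : ℕ) : List ℕ :=
  supp D r ++ (Nat.add D.rank (D.negIdx.getD nr 0)) ::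
    (D.chain.getD nr #[]).toList.map (fun e => Nat.add D.rank e.1)

def memNat (x : ℕ) : List ℕ → Bool
  | [] => false
  | y :: ys => Nat.beq x y || memNat x ys

theorem memNat_iff (x : ℕ) (l : List ℕ) : memNat x l = true ↔ x ∈ l := by
  induction l with
  | nil => simp [memNat]
  | cons y ys ih =>
    simp only [memNat, Bool.or_eq_true, ih, List.mem_cons]
    constructor
    · rintro (h | h)
      · exact Or.inl (Nat.eq_of_beq_eq_true h)
      · exact Or.inr h
    · rintro (h | h)
      · left; rw [Nat.beq_eq]; exact h
      · exact Or.inr h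

def checkH (D : ChevalleyDatum) (r : ℕ) : Bool :=
  canon (fun r => canon (fun nr =>
    (hCols D r nr).all (fun col =>
      vecEq keyRel (wordCol D keyRel (hWordSym r nr) col) (hClaim D (cartanRow D r) col)) &&
    ((cartanRow D r).zipIdx).all (fun As => isZ As.1 || memNat (Nat.add D.rank As.2) (hCols D r nr)))
    (D.negIdx.getD r 0)) r

variable {F : Type*} [Field F]

theorem evalVec_expTerm (t : F) (col : ℕ) (A : ℤ) (n : ℕ) :
    evalVec t t⁻¹ (expTerm col A) n = if col = n then t ^ A else 0 := by
  cases A with
  | ofNat k =>
    simp only [expTerm, evalVec_cons, evalVec_nil, add_zero, Term.val, mval]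
    by_cases h : col = n
    · simp [h]
    · simp [h]
  | negSucc k =>
    simp only [expTerm, evalVec_cons, evalVec_nil, add_zero, Term.val, mval]
    by_cases h : col = n
    · simp only [h, if_true, Int.cast_one, pow_zero, mul_one, one_mul]
      rw [zpow_negSucc, inv_pow]
    · simp [h]

theorem evalW_hWordSym (D : ChevalleyDatum) (r : ℕ) (t : F) :
    evalW t t⁻¹ (hWordSym r (D.neg r)) = D.hWord r t := by
  simp only [evalW, hWordSym, List.map_cons, List.map_nil, evalPoly_pA, ChevalleyDatum.hWord,
    ChevalleyDatum.nWord, List.cons_append, List.nil_append]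
  have e1 : evalPoly t t⁻¹ [(0, 1, -1)] = -t⁻¹ := by
    simp [evalPoly, evalMono, mval]
  have e2 : evalPoly t t⁻¹ [(0, 0, -1)] = -1 := by
    simp [evalPoly, evalMono, mval]
  have e3 : evalPoly t t⁻¹ [(0, 0, 1)] = -(-1 : F)⁻¹ := by
    have : (-1 : F)⁻¹ = -1 := by rw [inv_neg, inv_one]
    simp [evalPoly, evalMono, mval, this]
  rw [e1, e2, e3]

theorem hMat_eq_of_check (D : ChevalleyDatum) (r : ℕ) (h : checkH D r = true) (t : F)
    (ht : t ≠ 0) :
    D.hMat F r t = Matrix.diagonal
      (Sum.elim (fun _ => (1 : F)) (fun s : Fin D.nroots => t ^ ((cartanRow D r).getD s.val 0))) := by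
  unfold checkH at h
  rw [canon_eq, canon_eq, Bool.and_eq_true, List.all_eq_true, List.all_eq_true] at h
  obtain ⟨h1, h2⟩ := h
  have hab : t * t⁻¹ = 1 := mul_inv_cancel₀ ht
  have hk := keyRel_sound t t⁻¹ hab
  have hL : ∀ rp ∈ hWordSym r (D.negIdx.getD r 0), ∀ c ∈ supp D rp.1,
      c ∈ hCols D r (D.negIdx.getD r 0) := by
    intro rp hrp c hc
    have hr : ∀ c ∈ supp D r, c ∈ hCols D r (D.negIdx.getD r 0) := by
      intro c hc
      unfold hCols
      exact List.mem_append_left _ hc
    have hnr : ∀ c ∈ supp D (D.negIdx.getD r 0), c ∈ hCols D r (D.negIdx.getD r 0) := by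
      intro c hc
      unfold supp at hc
      rw [List.mem_append, List.mem_cons, List.mem_cons] at hc
      unfold hCols
      rcases hc with hc | rfl | rfl | hc
      · apply List.mem_append_left
        unfold supp
        exact List.mem_append_left _ hc
      · apply List.mem_append_left
        unfold supp
        apply List.mem_append_right
        exact List.mem_cons_of_mem _ (List.mem_cons_self ..)
      · apply List.mem_append_right
        exact List.mem_cons_self ..
      · apply List.mem_append_right
        exact List.mem_cons_of_mem _ hc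
    simp only [hWordSym, List.mem_cons, List.not_mem_nil, or_false] at hrp
    rcases hrp with rfl | rfl | rfl | rfl | rfl | rfl
    · exact hr c hc
    · exact hnr c hc
    · exact hr c hc
    · exact hr c hc
    · exact hnr c hc
    · exact hr c hc
  have htriv : ∀ col : D.Idx, code D col ∉ hCols D r (D.negIdx.getD r 0) →
      ∀ row : D.Idx, evalVec t t⁻¹ (hClaim D (cartanRow D r) (code D col)) (code D row)
        = (1 : Matrix D.Idx D.Idx F) row col := by
    intro col hcol row
    rcases col with i | s
    · exfalso
      apply hcol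
      unfold hCols supp
      apply List.mem_append_left
      apply List.mem_append_left
      simp only [code, List.mem_range]
      exact i.2
    · have hnlt : ¬ code D (Sum.inr s) < D.rank := by simp only [code]; omega
      have hsub : Nat.sub (code D (Sum.inr s)) D.rank = s.val := by
        simp only [code, Nat.sub_eq]; omega
      have hzero : (cartanRow D r).getD s.val 0 = 0 := by
        by_cases hlen : s.val < (cartanRow D r).length
        · have hmem : ((cartanRow D r)[s.val], s.val) ∈ (cartanRow D r).zipIdx := by
            rw [List.mem_zipIdx_iff_getElem?]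
            simp [hlen]
          have := h2 _ hmem
          rw [Bool.or_eq_true] at this
          rcases this with hz | hm
          · rw [List.getD_eq_getElem _ _ hlen]
            exact isZ_eq_true hz
          · exfalso
            apply hcol
            rw [memNat_iff] at hm
            exact hm
        · rw [List.getD_eq_default _ _ (by omega)]
      unfold hClaim
      rw [cond_blt_neg hnlt, hsub, hzero]
      simp only [expTerm, Int.ofNat_eq_natCast, evalVec_cons, evalVec_nil,
        add_zero, Term.val, mval, Matrix.one_apply]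
      by_cases hrc : row = Sum.inr s
      · subst hrc; simp
      · have : ¬ code D (Sum.inr s) = code D row := fun h' => hrc (code_injective D h').symm
        simp [hrc, this]
  ext row col
  have key := wordMat_eq_of_claim D keyRel t t⁻¹ hk (hWordSym r (D.negIdx.getD r 0))
    (hClaim D (cartanRow D r)) (hCols D r (D.negIdx.getD r 0)) hL h1 htriv row col
  have hw : D.hMat F r t = D.wordMat F (evalW t t⁻¹ (hWordSym r (D.negIdx.getD r 0))) := by
    rw [show D.negIdx.getD r 0 = D.neg r from rfl, evalW_hWordSym]
    rfl
  rw [hw, key]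
  unfold hClaim
  rcases col with i | s
  · rw [cond_blt_pos (show code D (Sum.inl i) < D.rank from i.2)]
    simp only [evalVec_cons, evalVec_nil, add_zero, unit, Term.val, mval, Matrix.diagonal_apply]
    by_cases hrc : Sum.inl i = row
    · subst hrc; simp
    · have : ¬ code D (Sum.inl i) = code D row := fun h' => hrc (code_injective D h')
      have hrc' : ¬ row = Sum.inl i := fun h' => hrc h'.symm
      simp [hrc', this]
  · have hnlt : ¬ code D (Sum.inr s) < D.rank := by simp only [code]; omega
    have hsub : Nat.sub (code D (Sum.inr s)) D.rank = s.val := by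
      simp only [code, Nat.sub_eq]; omega
    rw [cond_blt_neg hnlt, hsub, evalVec_expTerm t, Matrix.diagonal_apply]
    by_cases hrc : Sum.inr s = row
    · subst hrc; simp
    · have : ¬ code D (Sum.inr s) = code D row := fun h' => hrc (code_injective D h')
      have hrc' : ¬ row = Sum.inr s := fun h' => hrc h'.symm
      simp [hrc', this]

end Cfsg.Agent.Lib.Helper5.ChevSym
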