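import Mathlib
import Cfsg.Prelude.Def_ChevStructure
import Cfsg.Prelude.Def_ChevG2
import Cfsg.Prelude.Def_ChevB2
import Cfsg.Prelude.Def_ChevD4
import Cfsg.Prelude.Def_ChevF4
import Cfsg.Prelude.Def_ChevE6
import Cfsg.Prelude.Def_ChevE7
import Cfsg.Prelude.Def_ChevE8
import Cfsg.Agent.Lib.Helper5.ChevSymH

set_option autoImplicit false

/-!
The row of Cartan integers `cartanRow D r` in terms of the tables: its entry at `s` is
`Σ_i c_i(r) A_{p_i,s}`, and for a fundamental root it is the row of the table `cartanSR`.
-/

namespace Cfsg.Agent.Lib.Helper5.ChevSym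

open Cfsg Cfsg.Lie

/-- the shape of the Cartan table and the rows of the fundamental roots -/
def checkRows (D : ChevalleyDatum) : Bool :=
  (List.range D.rank).all fun i =>
    Nat.beq (D.cartanSR.getD i #[]).size D.nroots && Nat.blt (D.simple i) D.nroots &&
      decide (cartanRow D (D.simple i) = (D.cartanSR.getD i #[]).toList)

set_option maxRecDepth 1000000 in
theorem checkRows_G2 : checkRows chevG2 = true := by decide +kernel
set_option maxRecDepth 1000000 in
theorem checkRows_B2 : checkRows chevB2 = true := by decide +kernel
set_option maxRecDepth 1000000 in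
theorem checkRows_D4 : checkRows chevD4 = true := by decide +kernel
set_option maxRecDepth 1000000 in
theorem checkRows_F4 : checkRows chevF4 = true := by decide +kernel
set_option maxRecDepth 1000000 in
theorem checkRows_E6 : checkRows chevE6 = true := by decide +kernel
set_option maxRecDepth 1000000 in
theorem checkRows_E7 : checkRows chevE7 = true := by decide +kernel
set_option maxRecDepth 1000000 in
theorem checkRows_E8 : checkRows chevE8 = true := by decide +kernel

theorem checkRows_all (D : ChevalleyDatum)
    (hD : D ∈ [chevG2, chevB2, chevD4, chevF4, chevE6, chevE7, chevE8]) : checkRows D = true := by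
  simp only [List.mem_cons, List.not_mem_nil, or_false] at hD
  rcases hD with rfl | rfl | rfl | rfl | rfl | rfl | rfl
  · exact checkRows_G2
  · exact checkRows_B2
  · exact checkRows_D4
  · exact checkRows_F4
  · exact checkRows_E6
  · exact checkRows_E7
  · exact checkRows_E8

theorem checkRows_spec (D : ChevalleyDatum) (h : checkRows D = true) (i : ℕ) (hi : i < D.rank) :
    (D.cartanSR.getD i #[]).size = D.nroots ∧ D.simple i < D.nroots ∧
      cartanRow D (D.simple i) = (D.cartanSR.getD i #[]).toList := by
  unfold checkRows at h
  rw [List.all_eq_true] at h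
  have := h i (List.mem_range.2 hi)
  simp only [Bool.and_eq_true, decide_eq_true_eq] at this
  obtain ⟨⟨h1, h2⟩, h3⟩ := this
  exact ⟨Nat.eq_of_beq_eq_true h1, by rwa [Nat.blt_eq] at h2, h3⟩

theorem cartan_eq_getD (D : ChevalleyDatum) (i s : ℕ) :
    D.cartan i s = (D.cartanSR.getD i #[]).toList.getD s 0 := by
  unfold ChevalleyDatum.cartan
  generalize D.cartanSR.getD i #[] = a
  rw [List.getD_eq_getElem?_getD, Array.getElem?_toList]
  simp [Array.getD]
  split_ifs with h
  · simp [h]
  · simp [h]

theorem cartanRow_simple (D : ChevalleyDatum) (h : checkRows D = true) (i : ℕ) (hi : i < D.rank)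
    (s : ℕ) : (cartanRow D (D.simple i)).getD s 0 = D.cartan i s := by
  rw [(checkRows_spec D h i hi).2.2, cartan_eq_getD]

theorem getD_foldr_zipWith (n : ℕ) (rows : ℕ → List ℤ) (c : ℕ → ℤ) (l : List ℕ)
    (hrows : ∀ i ∈ l, (rows i).length = n) :
    (l.foldr (fun i acc => List.zipWith (fun x y => Int.add (Int.mul (c i) x) y) (rows i) acc)
        (List.replicate n 0)).length = n ∧
    ∀ s, s < n →
      (l.foldr (fun i acc => List.zipWith (fun x y => Int.add (Int.mul (c i) x) y) (rows i) acc)
        (List.replicate n 0)).getD s 0 = (l.map fun i => c i * (rows i).getD s 0).sum := by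
  induction l with
  | nil =>
    refine ⟨by simp, ?_⟩
    intro s hs
    simp [List.getD, hs]
  | cons i l ih =>
    obtain ⟨ih1, ih2⟩ := ih fun j hj => hrows j (List.mem_cons_of_mem _ hj)
    have hri := hrows i (List.mem_cons_self ..)
    rw [List.foldr_cons]
    refine ⟨by rw [List.length_zipWith, hri, ih1, min_self], ?_⟩
    intro s hs
    have h1 : s < (rows i).length := by omega
    rw [List.map_cons, List.sum_cons, ← ih2 s hs]
    rw [List.getD_eq_getElem _ _ (by rw [List.length_zipWith, hri, ih1, min_self]; exact hs),
      List.getElem_zipWith, List.getD_eq_getElem _ _ h1, List.getD_eq_getElem _ _ (by omega)]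
    rfl

theorem getD_cartanRow (D : ChevalleyDatum) (h : checkRows D = true) (r s : ℕ)
    (hs : s < D.nroots) :
    (cartanRow D r).getD s 0
      = ((List.range D.rank).map fun i => (D.coroot.getD r #[]).getD i 0 * D.cartan i s).sum := by
  unfold cartanRow
  have := (getD_foldr_zipWith D.nroots (fun i => (D.cartanSR.getD i #[]).toList)
    (fun i => (D.coroot.getD r #[]).getD i 0) (List.range D.rank)
    (by
      intro i hi
      rw [Array.length_toList]
      exact (checkRows_spec D h i (List.mem_range.1 hi)).1)).2 s hs
  rw [this]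
  congr 1
  apply List.map_congr_left
  intro i _
  rw [cartan_eq_getD]

end Cfsg.Agent.Lib.Helper5.ChevSym
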