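import Mathlib
import Cfsg.Prelude.Def_ChevStructure
import Cfsg.Agent.Lib.Helper5.ChevChk.HAll
import Cfsg.Agent.Lib.Helper5.ChevCartanRow
import Cfsg.Agent.Lib.Helper5.ChevTorusDef

set_option autoImplicit false

/-!
The diagonal subgroup `H` consists of the matrices `torusMat D c`.
-/

namespace Cfsg.Agent.Lib.Helper5.ChevStruct

open Cfsg Cfsg.Lie Cfsg.Agent.Lib.Helper5.ChevSym

variable {F : Type*} [Field F]

theorem prod_zpow_eq (t : F) (ht : t ≠ 0) (l : List ℕ) (a b : ℕ → ℤ) :
    (l.map fun i => (t ^ (a i)) ^ (b i)).prod = t ^ (l.map fun i => a i * b i).sum := by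
  induction l with
  | nil => simp
  | cons i l ih =>
    rw [List.map_cons, List.prod_cons, ih, List.map_cons, List.sum_cons, zpow_add₀ ht, zpow_mul]

/-- `h_r(t)` is the torus element with parameters `t^{c_i(r)}` -/
theorem hMat_eq_torusMat (D : ChevalleyDatum)
    (hD : D ∈ [chevG2, chevB2, chevD4, chevF4, chevE6, chevE7, chevE8]) (r : ℕ)
    (hr : r < D.nroots) (t : F) (ht : t ≠ 0) :
    D.hMat F r t = torusMat D (fun i => t ^ ((D.coroot.getD r #[]).getD i 0)) := by
  rw [hMat_diag D hD r hr t ht]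
  unfold torusMat
  congr 1
  funext j
  rcases j with i | s
  · rfl
  · simp only [Sum.elim_inr]
    unfold chi
    rw [prod_zpow_eq t ht, getD_cartanRow D (checkRows_all D hD) r s.val s.2]

/-- `h_{p_i}(c)` as a torus element -/
theorem hMat_simple (D : ChevalleyDatum)
    (hD : D ∈ [chevG2, chevB2, chevD4, chevF4, chevE6, chevE7, chevE8]) (i : ℕ)
    (hi : i < D.rank) (c : F) (hc : c ≠ 0) :
    D.hMat F (D.simple i) c = Matrix.diagonal
      (Sum.elim (fun _ => (1 : F)) (fun s : Fin D.nroots => c ^ (D.cartan i s))) := by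
  have h := checkRows_all D hD
  rw [hMat_diag D hD (D.simple i) (checkRows_spec D h i hi).2.1 c hc]
  congr 1
  funext j
  rcases j with j | s
  · rfl
  · simp only [Sum.elim_inr]
    rw [cartanRow_simple D h i hi]

theorem wordMat_append (D : ChevalleyDatum) (w1 w2 : List (ℕ × F)) :
    D.wordMat F (w1 ++ w2) = D.wordMat F w1 * D.wordMat F w2 := by
  simp [ChevalleyDatum.wordMat]

/-- the product `h_{p_1}(c_1) ⋯ h_{p_l}(c_l)` is `torusMat D c` -/
theorem wordMat_simple_hWords (D : ChevalleyDatum)
    (hD : D ∈ [chevG2, chevB2, chevD4, chevF4, chevE6, chevE7, chevE8]) (c : ℕ → F)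
    (hc : ∀ i < D.rank, c i ≠ 0) :
    D.wordMat F ((List.range D.rank).flatMap fun i => D.hWord (D.simple i) (c i))
      = torusMat D c := by
  have key : ∀ l : List ℕ, (∀ i ∈ l, i < D.rank) →
      D.wordMat F (l.flatMap fun i => D.hWord (D.simple i) (c i))
        = Matrix.diagonal (Sum.elim (fun _ => (1 : F)) (fun s : Fin D.nroots =>
            (l.map fun i => (c i) ^ (D.cartan i s.val)).prod)) := by
    intro l hl
    induction l with
    | nil =>
      simp only [List.flatMap_nil, List.map_nil, List.prod_nil, ChevalleyDatum.wordMat]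
      rw [← Matrix.diagonal_one]
      congr 1
      funext j
      rcases j with j | s <;> rfl
    | cons i l ih =>
      rw [List.flatMap_cons, wordMat_append, ih fun j hj => hl j (List.mem_cons_of_mem _ hj)]
      have hi := hl i (List.mem_cons_self ..)
      have : D.wordMat F (D.hWord (D.simple i) (c i)) = D.hMat F (D.simple i) (c i) := rfl
      rw [this, hMat_simple D hD i hi (c i) (hc i hi), Matrix.diagonal_mul_diagonal]
      congr 1
      funext j
      rcases j with j | s
      · simp
      · simp only [Sum.elim_inr, List.map_cons, List.prod_cons]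
  rw [key (List.range D.rank) fun i hi => List.mem_range.1 hi]
  rfl

/-- every element of `H` is a torus element -/
theorem exists_torusMat_of_mem (D : ChevalleyDatum)
    (hD : D ∈ [chevG2, chevB2, chevD4, chevF4, chevE6, chevE7, chevE8]) (g : GL D.Idx F)
    (hg : g ∈ D.diagonalSubgroup F) :
    ∃ c : ℕ → F, (∀ i, c i ≠ 0) ∧ (g : Matrix D.Idx D.Idx F) = torusMat D c := by
  unfold ChevalleyDatum.diagonalSubgroup at hg
  induction hg using Subgroup.closure_induction with
  | mem x hx =>
    obtain ⟨r, t, hr, ht, hx⟩ := hx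
    exact ⟨fun i => t ^ ((D.coroot.getD r #[]).getD i 0), fun i => zpow_ne_zero _ ht,
      by rw [hx, hMat_eq_torusMat D hD r hr t ht]⟩
  | one => exact ⟨fun _ => 1, fun _ => one_ne_zero, by rw [Units.val_one, torusMat_one]⟩
  | mul x y _ _ hx hy =>
    obtain ⟨c, hc, hxc⟩ := hx
    obtain ⟨c', hc', hyc⟩ := hy
    exact ⟨fun i => c i * c' i, fun i => mul_ne_zero (hc i) (hc' i),
      by rw [Units.val_mul, hxc, hyc, torusMat_mul]⟩
  | inv x _ hx =>
    obtain ⟨c, hc, hxc⟩ := hx
    refine ⟨fun i => (c i)⁻¹, fun i => inv_ne_zero (hc i), ?_⟩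
    have h1 : (x : Matrix D.Idx D.Idx F) * torusMat D (fun i => (c i)⁻¹) = 1 := by
      rw [hxc, torusMat_mul]
      have : (fun i => c i * (c i)⁻¹) = fun _ => (1 : F) := by
        funext i
        exact mul_inv_cancel₀ (hc i)
      rw [this, torusMat_one]
    calc ((x⁻¹ : GL D.Idx F) : Matrix D.Idx D.Idx F)
        = ((x⁻¹ : GL D.Idx F) : Matrix D.Idx D.Idx F)
            * ((x : Matrix D.Idx D.Idx F) * torusMat D (fun i => (c i)⁻¹)) := by rw [h1, mul_one]
      _ = torusMat D (fun i => (c i)⁻¹) := by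
          rw [← mul_assoc, ← Units.val_mul, inv_mul_cancel, Units.val_one, one_mul]

end Cfsg.Agent.Lib.Helper5.ChevStruct
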