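import Mathlib
import Cfsg.Prelude.Def_ChevStructure
import Cfsg.Agent.Lib.Helper5.ChevWeights

set_option autoImplicit false

/-!
Torus elements normalise the root subgroups: `torusMat c * x_r(t) = x_r(χ_c(r) t) * torusMat c`.
-/

namespace Cfsg.Agent.Lib.Helper5.ChevStruct

open Cfsg Cfsg.Lie

variable {F : Type*} [Field F]

theorem prod_zpow_lin (c : ℕ → F) (hc : ∀ i, c i ≠ 0) (l : List ℕ) (a b : ℕ → ℤ) (k : ℕ) :
    (l.map fun i => c i ^ ((k : ℤ) * a i + b i)).prod
      = ((l.map fun i => c i ^ a i).prod) ^ k * (l.map fun i => c i ^ b i).prod := by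
  induction l with
  | nil => simp
  | cons i l ih =>
    rw [List.map_cons, List.prod_cons, ih, List.map_cons, List.prod_cons, List.map_cons,
      List.prod_cons, zpow_add₀ (hc i), mul_comm (k : ℤ) (a i), zpow_mul, zpow_natCast, mul_pow]
    ring

theorem chi_chain (D : ChevalleyDatum) (hW : WeightsOK D) (c : ℕ → F) (hc : ∀ i, c i ≠ 0)
    (r : ℕ) (hr : r < D.nroots) (x : ℕ × ℕ × ℕ) (hx : x ∈ flatChain D r) :
    chi D c x.2.1 = (chi D c r) ^ (x.2.2 + 1) * chi D c x.1 := by
  obtain ⟨_, _, h3⟩ := hW.chain r hr x hx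
  unfold chi
  rw [← prod_zpow_lin c hc]
  congr 1
  apply List.map_congr_left
  intro i hi
  rw [h3 i (List.mem_range.1 hi)]

theorem chi_neg (D : ChevalleyDatum) (hW : WeightsOK D) (c : ℕ → F) (hc : ∀ i, c i ≠ 0)
    (r : ℕ) (hr : r < D.nroots) : chi D c (D.negIdx.getD r 0) * chi D c r = 1 := by
  unfold chi
  rw [← List.prod_map_mul]
  apply List.prod_eq_one
  intro y hy
  rw [List.mem_map] at hy
  obtain ⟨i, hi, rfl⟩ := hy
  rw [hW.neg r hr i (List.mem_range.1 hi), zpow_neg, inv_mul_cancel₀ (zpow_ne_zero _ (hc i))]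

theorem mem_flatChain_of_mem_chainCoeff (D : ChevalleyDatum) (r s u : ℕ) (km : ℕ × ℤ)
    (h : km ∈ D.chainCoeff r s u) : ∃ k, km.1 = k + 1 ∧ (s, u, k) ∈ flatChain D r := by
  unfold ChevalleyDatum.chainCoeff at h
  rw [List.mem_flatMap] at h
  obtain ⟨e, he, h⟩ := h
  rw [List.mem_filter] at he
  rw [List.mem_map] at h
  obtain ⟨q, hq, rfl⟩ := h
  rw [List.mem_filter] at hq
  refine ⟨q.2, rfl, ?_⟩
  unfold flatChain
  rw [List.mem_flatMap]
  refine ⟨e, he.1, ?_⟩
  rw [List.mem_map]
  refine ⟨q, hq.1, ?_⟩
  have h1 : e.1 = s := by simpa using he.2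
  have h2 : q.1.1 = u := by simpa using hq.2
  rw [h1, h2]

theorem chi_ne_zero (D : ChevalleyDatum) (c : ℕ → F) (hc : ∀ i, c i ≠ 0) (s : ℕ) :
    chi D c s ≠ 0 := by
  unfold chi
  apply List.prod_ne_zero
  intro h
  rw [List.mem_map] at h
  obtain ⟨i, _, hi⟩ := h
  exact zpow_ne_zero _ (hc i) hi

theorem torus_xMat (D : ChevalleyDatum) (hW : WeightsOK D) (c : ℕ → F) (hc : ∀ i, c i ≠ 0)
    (r : ℕ) (hr : r < D.nroots) (t : F) :
    torusMat D c * D.xMat F ⟨r, hr⟩ t = D.xMat F ⟨r, hr⟩ (chi D c r * t) * torusMat D c := by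
  ext row col
  unfold torusMat
  rw [Matrix.diagonal_mul, Matrix.mul_diagonal]
  rcases col with i | s
  · rcases row with i' | u
    · simp [ChevalleyDatum.xMat]
    · by_cases hur : u = ⟨r, hr⟩
      · subst hur
        simp only [ChevalleyDatum.xMat, Matrix.of_apply, Sum.elim_inr, Sum.elim_inl, if_true]
        ring
      · simp [ChevalleyDatum.xMat, hur]
  · by_cases hsr : s = ⟨r, hr⟩
    · subst hsr
      rcases row with i' | u
      · simp [ChevalleyDatum.xMat]
      · by_cases hur : u = ⟨r, hr⟩
        · subst hur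
          simp [ChevalleyDatum.xMat, mul_comm]
        · simp [ChevalleyDatum.xMat, hur]
    · by_cases hsn : s.val = D.negIdx.getD r 0
      · have hneg := chi_neg D hW c hc r hr
        rw [← hsn] at hneg
        rcases row with i' | u
        · simp only [ChevalleyDatum.xMat, Matrix.of_apply, hsr, if_false, hsn, if_true,
            Sum.elim_inl, Sum.elim_inr, one_mul]
          rw [← hsn]
          calc (((D.coroot.getD r #[]).getD i'.val 0 : ℤ) : F) * t
              = (((D.coroot.getD r #[]).getD i'.val 0 : ℤ) : F) * t * (chi D c s.val * chi D c r) := by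
                rw [hneg, mul_one]
            _ = _ := by ring
        · by_cases hus : u = s
          · subst hus
            simp [ChevalleyDatum.xMat, hsr, hsn, mul_comm]
          · by_cases hur : u = ⟨r, hr⟩
            · subst hur
              simp only [ChevalleyDatum.xMat, Matrix.of_apply, hsr, if_false, hsn, if_true,
                Sum.elim_inr, hus]
              rw [← hsn]
              calc chi D c r * -(t ^ 2)
                  = chi D c r * -(t ^ 2) * (chi D c s.val * chi D c r) := by rw [hneg, mul_one]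
                _ = _ := by ring
            · simp [ChevalleyDatum.xMat, hsr, hsn, hus, hur]
      · rcases row with i' | u
        · simp only [ChevalleyDatum.xMat, Matrix.of_apply, hsr, if_false, hsn]
          simp
        · simp only [ChevalleyDatum.xMat, Matrix.of_apply, hsr, if_false, hsn, Sum.elim_inr]
          rw [mul_add, add_mul]
          congr 1
          · by_cases hus : u = s
            · subst hus; simp [mul_comm]
            · simp [hus]
          · rw [← List.sum_map_mul_left, ← List.sum_map_mul_right]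
            congr 1
            apply List.map_congr_left
            intro km hkm
            obtain ⟨k, hk, hmem⟩ := mem_flatChain_of_mem_chainCoeff D r s.val u.val km hkm
            have := chi_chain D hW c hc r hr _ hmem
            simp only at this
            rw [this, hk, mul_pow]
            ring

theorem torus_x (D : ChevalleyDatum) (hW : WeightsOK D) (c : ℕ → F) (hc : ∀ i, c i ≠ 0)
    (r : ℕ) (t : F) :
    torusMat D c * D.x F r t = D.x F r (chi D c r * t) * torusMat D c := by
  unfold ChevalleyDatum.x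
  by_cases hr : r < D.nroots
  · rw [dif_pos hr, dif_pos hr]
    exact torus_xMat D hW c hc r hr t
  · rw [dif_neg hr, dif_neg hr, mul_one, one_mul]

end Cfsg.Agent.Lib.Helper5.ChevStruct
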