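import Mathlib
import Cfsg.Prelude.Def_ChevStructure
import Cfsg.Agent.Lib.Helper5.ChevTorus
import Cfsg.Agent.Lib.Helper5.ChevTorusX
import Cfsg.Agent.Lib.Helper5.ChevChk.WtAll
import Cfsg.Agent.Lib.Helper5.ChevXGL

set_option autoImplicit false

/-!
The action of the diagonal subgroup `H` on root elements.
-/

namespace Cfsg.Agent.Lib.Helper5.ChevStruct

open Cfsg Cfsg.Lie Cfsg.Agent.Lib.Helper5.ChevSym

variable {F : Type*} [Field F]

theorem prod_single (i : ℕ) (c : F) (a : ℕ → ℤ) (n : ℕ) :
    ((List.range n).map fun j => (if j = i then c else 1) ^ (a j)).prod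
      = if i < n then c ^ (a i) else 1 := by
  induction n with
  | zero => simp
  | succ n ih =>
    rw [List.range_succ, List.map_append, List.prod_append, ih]
    simp only [List.map_cons, List.map_nil, List.prod_cons, List.prod_nil, mul_one]
    by_cases h1 : i < n
    · have h2 : ¬ n = i := by omega
      have h3 : i < n + 1 := by omega
      rw [if_pos h1, if_neg h2, if_pos h3, one_zpow, mul_one]
    · by_cases h2 : n = i
      · have h3 : i < n + 1 := by omega
        rw [if_neg h1, if_pos h2, if_pos h3, one_mul, h2]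
      · have h3 : ¬ i < n + 1 := by omega
        rw [if_neg h1, if_neg h2, if_neg h3, one_zpow, mul_one]

theorem chi_single (D : ChevalleyDatum) (i : ℕ) (hi : i < D.rank) (c : F) (s : ℕ) :
    chi D (fun j => if j = i then c else 1) s = c ^ (D.cartan i s) := by
  unfold chi
  rw [prod_single i c (fun j => D.cartan j s) D.rank, if_pos hi]

theorem hMat_simple_eq_torusMat (D : ChevalleyDatum) (hD : D ∈ Seven) (i : ℕ)
    (hi : i < D.rank) (c : F) (hc : c ≠ 0) :
    D.hMat F (D.simple i) c = torusMat D (fun j => if j = i then c else 1) := by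
  rw [hMat_simple D hD i hi c hc]
  unfold torusMat
  congr 1
  funext j
  rcases j with j | s
  · rfl
  · simp only [Sum.elim_inr]
    rw [chi_single D i hi]

/-- `h_p(c) x_s(t) = x_s(c^{A_{p,s}} t) h_p(c)` -/
theorem hMat_simple_x (D : ChevalleyDatum) (hD : D ∈ Seven) (i s : ℕ)
    (hi : i < D.rank) (c : F) (hc : c ≠ 0) (t : F) :
    D.hMat F (D.simple i) c * D.x F s t
      = D.x F s (c ^ (D.cartan i s) * t) * D.hMat F (D.simple i) c := by
  rw [hMat_simple_eq_torusMat D hD i hi c hc]
  have h : ∀ j, (fun j => if j = i then c else (1 : F)) j ≠ 0 := by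
    intro j
    by_cases hj : j = i
    · simp [hj, hc]
    · simp [hj]
  rw [torus_x D (weightsOK_all D hD) _ h, chi_single D i hi]

/-- conjugating a root element by a torus element -/
theorem torus_conj_x (D : ChevalleyDatum) (hD : D ∈ Seven) (g x : GL D.Idx F) (c : ℕ → F)
    (hc : ∀ i, c i ≠ 0) (hg : (g : Matrix D.Idx D.Idx F) = torusMat D c) (r : ℕ) (t : F)
    (hx : (x : Matrix D.Idx D.Idx F) = D.x F r t) :
    ((g * x * g⁻¹ : GL D.Idx F) : Matrix D.Idx D.Idx F) = D.x F r (chi D c r * t) := by
  rw [Units.val_mul, Units.val_mul, hx, hg, torus_x D (weightsOK_all D hD) c hc, mul_assoc, ← hg,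
    ← Units.val_mul, mul_inv_cancel, Units.val_one, mul_one]

/-- conjugating a word by a torus element -/
theorem torus_conj_word (D : ChevalleyDatum) (hD : D ∈ Seven) (c : ℕ → F)
    (hc : ∀ i, c i ≠ 0) (w : List (ℕ × F)) :
    torusMat D c * D.wordMat F w
      = D.wordMat F (w.map fun p => (p.1, chi D c p.1 * p.2)) * torusMat D c := by
  induction w with
  | nil => simp [ChevalleyDatum.wordMat]
  | cons p w ih =>
    have h1 : D.wordMat F (p :: w) = D.x F p.1 p.2 * D.wordMat F w := by
      simp [ChevalleyDatum.wordMat]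
    have h2 : D.wordMat F ((p :: w).map fun p => (p.1, chi D c p.1 * p.2))
        = D.x F p.1 (chi D c p.1 * p.2)
          * D.wordMat F (w.map fun p => (p.1, chi D c p.1 * p.2)) := by
      simp [ChevalleyDatum.wordMat]
    rw [h1, h2, ← mul_assoc, torus_x D (weightsOK_all D hD) c hc, mul_assoc, ih, mul_assoc]

theorem diagonal_le_normalizer_pos (D : ChevalleyDatum) (hD : D ∈ Seven) :
    D.diagonalSubgroup F ≤ Subgroup.normalizer (D.posUnipotent F : Set (GL D.Idx F)) := by
  unfold ChevalleyDatum.posUnipotent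
  rw [Subgroup.le_normalizer_closure_iff]
  rintro h hh g ⟨r, t, hr, hg⟩
  obtain ⟨c, hc, hhc⟩ := exists_torusMat_of_mem D hD h hh
  apply Subgroup.subset_closure
  exact ⟨r, chi D c r * t, hr, torus_conj_x D hD h g c hc hhc r t hg⟩

theorem diagonal_le_normalizer_neg (D : ChevalleyDatum) (hD : D ∈ Seven) :
    D.diagonalSubgroup F ≤ Subgroup.normalizer (D.negUnipotent F : Set (GL D.Idx F)) := by
  unfold ChevalleyDatum.negUnipotent
  rw [Subgroup.le_normalizer_closure_iff]
  rintro h hh g ⟨r, t, hr, hg⟩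
  obtain ⟨c, hc, hhc⟩ := exists_torusMat_of_mem D hD h hh
  apply Subgroup.subset_closure
  exact ⟨r, chi D c r * t, hr, torus_conj_x D hD h g c hc hhc r t hg⟩

end Cfsg.Agent.Lib.Helper5.ChevStruct
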