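import Mathlib
import Cfsg.Prelude.Def_ChevStructure
import Cfsg.Agent.Lib.Helper5.ChevTorusAct

set_option autoImplicit false

/-!
`H` is normal in `N`; `B`, `N ≤ G` and `G = ⟨B, N⟩`.
-/

namespace Cfsg.Agent.Lib.Helper5.ChevStruct

open Cfsg Cfsg.Lie Cfsg.Agent.Lib.Helper5.ChevSym

variable {F : Type*} [Field F]

theorem val_inv_eq_of_mul_eq_one {n : Type*} [Fintype n] [DecidableEq n] (g : GL n F)
    (M : Matrix n n F) (h : (g : Matrix n n F) * M = 1) :
    ((g⁻¹ : GL n F) : Matrix n n F) = M := by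
  calc ((g⁻¹ : GL n F) : Matrix n n F)
      = ((g⁻¹ : GL n F) : Matrix n n F) * ((g : Matrix n n F) * M) := by rw [h, mul_one]
    _ = M := by rw [← mul_assoc, ← Units.val_mul, inv_mul_cancel, Units.val_one, one_mul]

/-- `h n_r(t) = n_r(χ_r(h) t) h` -/
theorem torus_nMat (D : ChevalleyDatum) (hD : D ∈ Seven) (c : ℕ → F) (hc : ∀ i, c i ≠ 0)
    (r : ℕ) (hr : r < D.nroots) (t : F) :
    torusMat D c * D.nMat F r t = D.nMat F r (chi D c r * t) * torusMat D c := by
  unfold ChevalleyDatum.nMat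
  rw [torus_conj_word D hD c hc]
  congr 2
  simp only [ChevalleyDatum.nWord, List.map_cons, List.map_nil]
  have h1 : chi D c (D.neg r) * chi D c r = 1 := chi_neg D (weightsOK_all D hD) c hc r hr
  have h2 : chi D c (D.neg r) = (chi D c r)⁻¹ := eq_inv_of_mul_eq_one_left h1
  rw [h2, mul_inv, mul_neg]

/-- the generators `h_r(t)` lie in `H` -/
theorem mem_diagonal_of_val (D : ChevalleyDatum) (g : GL D.Idx F) (r : ℕ) (hr : r < D.nroots)
    (t : F) (ht : t ≠ 0) (hg : (g : Matrix D.Idx D.Idx F) = D.hMat F r t) :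
    g ∈ D.diagonalSubgroup F :=
  Subgroup.subset_closure ⟨r, t, hr, ht, hg⟩

theorem conj_n_diag_mem (D : ChevalleyDatum) (hD : D ∈ Seven) (n : GL D.Idx F) (r : ℕ)
    (hr : r < D.nroots) (hn : (n : Matrix D.Idx D.Idx F) = D.nMat F r 1) (h : GL D.Idx F)
    (hh : h ∈ D.diagonalSubgroup F) : n * h * n⁻¹ ∈ D.diagonalSubgroup F := by
  have hh' : h⁻¹ ∈ D.diagonalSubgroup F := inv_mem hh
  obtain ⟨c, hc, hc'⟩ := exists_torusMat_of_mem D hD h⁻¹ hh'
  -- k = h⁻¹ n h n⁻¹ has matrix h_r(χ_r)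
  have hk : ((h⁻¹ * n * h * n⁻¹ : GL D.Idx F) : Matrix D.Idx D.Idx F)
      = D.hMat F r (chi D c r * 1) := by
    have e1 : ((h⁻¹ * n : GL D.Idx F) : Matrix D.Idx D.Idx F)
        = D.hMat F r (chi D c r * 1) * ((n * h⁻¹ : GL D.Idx F) : Matrix D.Idx D.Idx F) := by
      rw [Units.val_mul, Units.val_mul, hc', hn, torus_nMat D hD c hc r hr,
        nMat_eq_hMat_mul D hD r (chi D c r * 1), mul_assoc]
    have e2 : (h⁻¹ * n * h * n⁻¹ : GL D.Idx F) = (h⁻¹ * n) * (n * h⁻¹)⁻¹ := by group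
    rw [e2, Units.val_mul, e1, mul_assoc, ← Units.val_mul, mul_inv_cancel, Units.val_one, mul_one]
  have hk' : h⁻¹ * n * h * n⁻¹ ∈ D.diagonalSubgroup F :=
    mem_diagonal_of_val D _ r hr _ (mul_ne_zero (chi_ne_zero D c hc r) one_ne_zero) hk
  have : n * h * n⁻¹ = h * (h⁻¹ * n * h * n⁻¹) := by group
  rw [this]
  exact mul_mem hh hk'

theorem conj_n_inv_diag_mem (D : ChevalleyDatum) (hD : D ∈ Seven) (n : GL D.Idx F) (r : ℕ)
    (hr : r < D.nroots) (hn : (n : Matrix D.Idx D.Idx F) = D.nMat F r 1) (h : GL D.Idx F)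
    (hh : h ∈ D.diagonalSubgroup F) : n⁻¹ * h * n ∈ D.diagonalSubgroup F := by
  have hinv : ((n⁻¹ : GL D.Idx F) : Matrix D.Idx D.Idx F) = D.nMat F r (-1) := by
    apply val_inv_eq_of_mul_eq_one
    rw [hn]
    exact nMat_mul_neg D hD r 1
  have hk : n⁻¹ * n⁻¹ ∈ D.diagonalSubgroup F := by
    apply mem_diagonal_of_val D _ r hr (-1) (neg_ne_zero.2 one_ne_zero)
    rw [Units.val_mul, hinv, hMat_eq]
  have : n⁻¹ * h * n = (n⁻¹ * n⁻¹) * (n * h * n⁻¹) * (n⁻¹ * n⁻¹)⁻¹ := by group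
  rw [this]
  exact mul_mem (mul_mem hk (conj_n_diag_mem D hD n r hr hn h hh)) (inv_mem hk)

theorem conj_monomial_diag_mem (D : ChevalleyDatum) (hD : D ∈ Seven) (g : GL D.Idx F)
    (hg : g ∈ D.monomialSubgroup F) :
    ∀ h ∈ D.diagonalSubgroup F, g * h * g⁻¹ ∈ D.diagonalSubgroup F ∧
      g⁻¹ * h * g ∈ D.diagonalSubgroup F := by
  unfold ChevalleyDatum.monomialSubgroup at hg
  rw [← Subgroup.closure_eq (D.diagonalSubgroup F), ← Subgroup.closure_union] at hg
  induction hg using Subgroup.closure_induction with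
  | mem x hx =>
    intro h hh
    rcases hx with hx | ⟨r, hr, hx⟩
    · exact ⟨mul_mem (mul_mem hx hh) (inv_mem hx), mul_mem (mul_mem (inv_mem hx) hh) hx⟩
    · exact ⟨conj_n_diag_mem D hD x r hr hx h hh, conj_n_inv_diag_mem D hD x r hr hx h hh⟩
  | one =>
    intro h hh
    simpa using hh
  | mul x y _ _ hx hy =>
    intro h hh
    constructor
    · have := (hx _ (hy h hh).1).1
      have e : x * y * h * (x * y)⁻¹ = x * (y * h * y⁻¹) * x⁻¹ := by group
      rw [e]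
      exact this
    · have := (hy _ (hx h hh).2).2
      have e : (x * y)⁻¹ * h * (x * y) = y⁻¹ * (x⁻¹ * h * x) * y := by group
      rw [e]
      exact this
  | inv x _ hx =>
    intro h hh
    constructor
    · have := (hx h hh).2
      rwa [inv_inv]
    · have := (hx h hh).1
      rwa [inv_inv]

/-- `H` is normal in `N` -/
theorem diagonal_normal_monomial (D : ChevalleyDatum) (hD : D ∈ Seven) :
    ((D.diagonalSubgroup F).subgroupOf (D.monomialSubgroup F)).Normal := by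
  constructor
  intro h hh g
  rw [Subgroup.mem_subgroupOf] at hh ⊢
  have := (conj_monomial_diag_mem D hD g.1 g.2 h.1 hh).1
  simpa using this

end Cfsg.Agent.Lib.Helper5.ChevStruct
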