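import Mathlib
import Cfsg.Prelude.Def_ChevStructure
import Cfsg.Agent.Lib.Helper5.ChevSymCore

set_option autoImplicit false

/-!
Table facts for the subgroup `U_p`: for a fundamental root `p` and a positive root `s ≠ p`, all
roots `i(±p) + js` (`i, j > 0`) are positive and different from `p`.
-/

namespace Cfsg.Agent.Lib.Helper5.ChevSym

open Cfsg Cfsg.Lie

def checkUp (D : ChevalleyDatum) (i : ℕ) : Bool :=
  canon (fun p => canon (fun np =>
    decide (D.IsPosRoot p) && !(decide (D.IsPosRoot np)) && Nat.beq (D.neg np) p &&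
      Nat.blt np D.nroots &&
    (List.range D.nroots).all fun s => canon (fun s =>
      !(decide (D.IsPosRoot s)) || Nat.beq s p ||
        ((D.commTerms p s).all (fun c => decide (D.IsPosRoot c.1) && !(Nat.beq c.1 p)) &&
         (D.commTerms np s).all (fun c => decide (D.IsPosRoot c.1) && !(Nat.beq c.1 p)))) s)
    (D.neg p)) (D.simple i)

theorem checkUp_spec (D : ChevalleyDatum) (i : ℕ) (h : checkUp D i = true) :
    D.IsPosRoot (D.simple i) ∧ ¬ D.IsPosRoot (D.neg (D.simple i)) ∧
    D.neg (D.neg (D.simple i)) = D.simple i ∧ D.neg (D.simple i) < D.nroots ∧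
    ∀ s, D.IsPosRoot s → s ≠ D.simple i →
      (∀ c ∈ D.commTerms (D.simple i) s, D.IsPosRoot c.1 ∧ c.1 ≠ D.simple i) ∧
      (∀ c ∈ D.commTerms (D.neg (D.simple i)) s, D.IsPosRoot c.1 ∧ c.1 ≠ D.simple i) := by
  unfold checkUp at h
  rw [canon_eq, canon_eq] at h
  simp only [Bool.and_eq_true, Bool.not_eq_true', decide_eq_true_eq, decide_eq_false_iff_not,
    Nat.blt_eq, List.all_eq_true] at h
  obtain ⟨⟨⟨⟨h1, h2⟩, h3⟩, h4⟩, h5⟩ := h
  refine ⟨h1, h2, Nat.eq_of_beq_eq_true h3, h4, ?_⟩
  intro s hs hsp
  have := h5 s (List.mem_range.2 hs.1)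
  rw [canon_eq] at this
  simp only [Bool.or_eq_true, Bool.not_eq_true', decide_eq_false_iff_not, Bool.and_eq_true,
    List.all_eq_true, decide_eq_true_eq] at this
  rcases this with (h6 | h6) | h6
  · exact absurd hs h6
  · exact absurd (Nat.eq_of_beq_eq_true h6) hsp
  · constructor
    · intro c hc
      have := h6.1 c hc
      refine ⟨this.1, fun heq => ?_⟩
      have h7 := this.2
      rw [heq] at h7
      have : Nat.beq (D.simple i) (D.simple i) = true := by rw [Nat.beq_eq]
      rw [this] at h7
      exact Bool.noConfusion h7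
    · intro c hc
      have := h6.2 c hc
      refine ⟨this.1, fun heq => ?_⟩
      have h7 := this.2
      rw [heq] at h7
      have : Nat.beq (D.simple i) (D.simple i) = true := by rw [Nat.beq_eq]
      rw [this] at h7
      exact Bool.noConfusion h7

end Cfsg.Agent.Lib.Helper5.ChevSym
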