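import Mathlib
import Cfsg.Prelude.Def_ChevStructure
import Cfsg.Agent.Lib.Helper5.ChevSymAdd

set_option autoImplicit false

/-!
A checker for Chevalley's commutator formula for a pair of roots.
-/

namespace Cfsg.Agent.Lib.Helper5.ChevSym

open Cfsg Cfsg.Lie

def sgnNat (i : ℕ) : ℤ := bif Nat.beq (Nat.mod i 2) 0 then 1 else -1

/-- the word `∏ x_{ir+js}(C_{ij} (-a)^i b^j)` -/
def commWordSym (D : ChevalleyDatum) (r s : ℕ) : List (ℕ × Poly) :=
  (D.commTerms r s).map fun c => (c.1, [(c.2.2.1, c.2.2.2, Int.mul c.2.1 (sgnNat c.2.2.1))])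

def checkComm (D : ChevalleyDatum) (r s : ℕ) : Bool :=
  canon (fun r => canon (fun s =>
    (supp D r ++ supp D s ++ (commWordSym D r s).flatMap fun rp => supp D rp.1).all fun col =>
      vecEq keyEq (wordCol D keyEq [(s, pB), (r, pA)] col)
        (wordCol D keyEq ((r, pA) :: (s, pB) :: commWordSym D r s) col)) s) r

variable {F : Type*} [Field F]

theorem sgnNat_cast (i : ℕ) : ((sgnNat i : ℤ) : F) = (-1) ^ i := by
  unfold sgnNat
  rcases Nat.even_or_odd i with h | h
  · rw [cond_beq_pos (show Nat.mod i 2 = 0 from Nat.even_iff.1 h), h.neg_one_pow, Int.cast_one]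
  · rw [cond_beq_neg (show ¬ Nat.mod i 2 = 0 by
        rw [show Nat.mod i 2 = i % 2 from rfl, Nat.odd_iff.1 h]; omega),
      h.neg_one_pow, Int.cast_neg, Int.cast_one]

theorem evalW_commWordSym (D : ChevalleyDatum) (r s : ℕ) (t u : F) :
    evalW t u (commWordSym D r s) = D.commWord F r s t u := by
  unfold evalW commWordSym ChevalleyDatum.commWord
  rw [List.map_map]
  apply List.map_congr_left
  intro c _
  simp only [Function.comp, evalPoly, evalMono, mval, List.map_cons, List.map_nil, List.sum_cons,
    List.sum_nil, add_zero, Int.mul_def, Int.cast_mul, sgnNat_cast, neg_pow t]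
  congr 1
  ring

theorem comm_of_check (D : ChevalleyDatum) (r s : ℕ) (h : checkComm D r s = true) (t u : F) :
    D.x F s u * D.x F r t = D.x F r t * D.x F s u * D.wordMat F (D.commWord F r s t u) := by
  unfold checkComm at h
  rw [canon_eq, canon_eq, List.all_eq_true] at h
  have key := wordMat_eq_of_cols D keyEq t u (keyEq_sound t u) [(s, pB), (r, pA)]
    ((r, pA) :: (s, pB) :: commWordSym D r s)
    (supp D r ++ supp D s ++ (commWordSym D r s).flatMap fun rp => supp D rp.1) (by
      intro rp hrp c hc
      simp only [List.mem_append, List.mem_cons, List.not_mem_nil, or_false] at hrp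
      rcases hrp with (rfl | rfl) | rfl | rfl | hrp
      · exact List.mem_append_left _ (List.mem_append_right _ hc)
      · exact List.mem_append_left _ (List.mem_append_left _ hc)
      · exact List.mem_append_left _ (List.mem_append_left _ hc)
      · exact List.mem_append_left _ (List.mem_append_right _ hc)
      · apply List.mem_append_right
        rw [List.mem_flatMap]
        exact ⟨rp, hrp, hc⟩) h
  have e1 : evalW t u [(s, pB), (r, pA)] = [(s, u), (r, t)] := by
    simp [evalW, evalPoly_pA, evalPoly_pB]
  have e2 : evalW t u ((r, pA) :: (s, pB) :: commWordSym D r s)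
      = (r, t) :: (s, u) :: D.commWord F r s t u := by
    have := evalW_commWordSym D r s t u
    unfold evalW at this ⊢
    rw [List.map_cons, List.map_cons, this, evalPoly_pA, evalPoly_pB]
  rw [e1, e2] at key
  have e3 : D.wordMat F [(s, u), (r, t)] = D.x F s u * D.x F r t := by
    simp [ChevalleyDatum.wordMat]
  have e4 : D.wordMat F ((r, t) :: (s, u) :: D.commWord F r s t u)
      = D.x F r t * D.x F s u * D.wordMat F (D.commWord F r s t u) := by
    simp [ChevalleyDatum.wordMat, mul_assoc]
  rw [← e3, ← e4]
  exact key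

/-- the commutator formula for the root `r` and all roots `s` in a range -/
def checkCommRow (D : ChevalleyDatum) (r lo n : ℕ) : Bool :=
  (List.range n).all fun k =>
    canon (fun s => Nat.beq s r || Nat.beq s (D.neg r) || checkComm D r s) (Nat.add lo k)

theorem comm_of_checkRow (D : ChevalleyDatum) (r lo n : ℕ) (h : checkCommRow D r lo n = true)
    (s : ℕ) (h1 : lo ≤ s) (h2 : s < lo + n) (hrs : s ≠ r) (hneg : s ≠ D.neg r) (t u : F) :
    D.x F s u * D.x F r t = D.x F r t * D.x F s u * D.wordMat F (D.commWord F r s t u) := by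
  unfold checkCommRow at h
  rw [List.all_eq_true] at h
  have := h (s - lo) (List.mem_range.2 (by omega))
  have e : Nat.add lo (s - lo) = s := by
    show lo + (s - lo) = s
    omega
  rw [canon_eq, e, Bool.or_eq_true, Bool.or_eq_true] at this
  rcases this with (h3 | h3) | h3
  · exact absurd (Nat.eq_of_beq_eq_true h3) hrs
  · exact absurd (Nat.eq_of_beq_eq_true h3) hneg
  · exact comm_of_check D r s h3 t u

end Cfsg.Agent.Lib.Helper5.ChevSym
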