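import Mathlib
import Cfsg.Prelude.Def_ChevStructure

set_option autoImplicit false

/-!
In the simply laced types every chain has length one, and the right hand side of the commutator
formula has at most one factor.
-/

namespace Cfsg.Agent.Lib.Helper5.ChevSym

open Cfsg Cfsg.Lie

/-- all chains have length exactly one -/
def checkSL (D : ChevalleyDatum) : Bool :=
  D.chain.toList.all fun row => row.toList.all fun e => Nat.beq e.2.size 1

theorem chain_getD_mem (D : ChevalleyDatum) (r : ℕ) (e : ℕ × Array (ℕ × ℤ))
    (he : e ∈ (D.chain.getD r #[]).toList) : ∃ row ∈ D.chain.toList, e ∈ row.toList := by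
  by_cases hr : r < D.chain.size
  · refine ⟨D.chain[r], ?_, ?_⟩
    · exact Array.getElem_mem_toList hr
    · have : D.chain.getD r #[] = D.chain[r] := by
        simp [Array.getD, hr]
      rwa [this] at he
  · have : D.chain.getD r #[] = #[] := by
      simp [Array.getD, hr]
    rw [this] at he
    simp at he

theorem chainEntry_length (D : ChevalleyDatum) (h : checkSL D = true) (r s : ℕ) :
    D.chainEntry r s = [] ∨ ∃ km, D.chainEntry r s = [km] := by
  unfold ChevalleyDatum.chainEntry
  cases hf : (D.chain.getD r #[]).toList.find? (fun e => e.1 = s) with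
  | none => exact Or.inl rfl
  | some e =>
    right
    have hmem := List.mem_of_find?_eq_some hf
    obtain ⟨row, hrow, he⟩ := chain_getD_mem D r e hmem
    unfold checkSL at h
    rw [List.all_eq_true] at h
    have h1 := h row hrow
    rw [List.all_eq_true] at h1
    have h2 := Nat.eq_of_beq_eq_true (h1 e he)
    have h3 : e.2.toList.length = 1 := by simpa using h2
    match hl : e.2.toList, h3 with
    | [km], _ => exact ⟨km, hl⟩

theorem chainRoot_ge_two (D : ChevalleyDatum) (h : checkSL D = true) (r s i : ℕ) (hi : 2 ≤ i) :
    D.chainRoot r s i = none := by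
  unfold ChevalleyDatum.chainRoot
  rcases chainEntry_length D h r s with h1 | ⟨km, h1⟩
  · rw [h1]; simp
  · rw [h1]
    have : i - 1 = (i - 2) + 1 := by omega
    rw [this]
    simp

/-- in a simply laced datum the right hand side of the commutator formula has at most one
factor, read off the chain table -/
theorem commTerms_of_SL (D : ChevalleyDatum) (h : checkSL D = true) (r s : ℕ) :
    D.commTerms r s = (D.chainEntry r s).map fun km => (km.1, km.2, 1, 1) := by
  unfold ChevalleyDatum.commTerms
  simp only [chainRoot_ge_two D h _ _ 2 le_rfl, chainRoot_ge_two D h _ _ 3 (by omega),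
    Option.bind_none]
  unfold ChevalleyDatum.chainRoot ChevalleyDatum.chainM
  rcases chainEntry_length D h r s with h1 | ⟨km, h1⟩
  · rw [h1]; simp
  · rw [h1]; simp

end Cfsg.Agent.Lib.Helper5.ChevSym
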