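import Mathlib
import Cfsg.Prelude.Def_ChevStructure
import Cfsg.Agent.Lib.Helper5.ChevSymH

set_option autoImplicit false

/-!
The matrix of `n_p = n_p(1)` for a fundamental root `p`, computed symbolically: a signed
permutation of the root vectors.
-/

namespace Cfsg.Agent.Lib.Helper5.ChevSym

open Cfsg Cfsg.Lie

/-- the word `n_r(1)` -/
def nWordSym (r nr : ℕ) : List (ℕ × Poly) :=
  [(r, [(0, 0, 1)]), (nr, [(0, 0, -1)]), (r, [(0, 0, 1)])]

def nCol (D : ChevalleyDatum) (p np col : ℕ) : Vec := wordCol D keyEq (nWordSym p np) col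

/-- index and coefficient of a column consisting of a single constant term -/
def colInfo : Vec → ℕ × ℤ
  | [τ] => bif Nat.beq τ.ea 0 && Nat.beq τ.eb 0 then (τ.idx, τ.c) else (0, 0)
  | _ => (0, 0)

/-- the images and signs `(rank + w_p(s), η_s)`, read off from the computed columns -/
def nTab (D : ChevalleyDatum) (p np : ℕ) : List (ℕ × ℤ) :=
  (List.range D.nroots).map fun s => colInfo (nCol D p np (Nat.add D.rank s))

def forceNat {β : Type} (n : ℕ) (k : ℕ → β) : β :=
  match n with
  | 0 => k 0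
  | Nat.succ m => k (Nat.succ m)

def forceInt {β : Type} (z : ℤ) (k : ℤ → β) : β :=
  match z with
  | Int.ofNat n => forceNat n fun n' => k (Int.ofNat n')
  | Int.negSucc n => forceNat n fun n' => k (Int.negSucc n')

def forceTab {β : Type} : List (ℕ × ℤ) → (List (ℕ × ℤ) → β) → β
  | [], k => k []
  | x :: l, k => forceNat x.1 fun a => forceInt x.2 fun z => forceTab l fun l' => k ((a, z) :: l')

theorem forceNat_eq {β : Type} (n : ℕ) (k : ℕ → β) : forceNat n k = k n := by
  cases n <;> rfl

theorem forceInt_eq {β : Type} (z : ℤ) (k : ℤ → β) : forceInt z k = k z := by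
  cases z <;> simp [forceInt, forceNat_eq]

theorem forceTab_eq {β : Type} (l : List (ℕ × ℤ)) (k : List (ℕ × ℤ) → β) :
    forceTab l k = k l := by
  induction l generalizing k with
  | nil => rfl
  | cons x l ih => simp [forceTab, forceNat_eq, forceInt_eq, ih]

def nthTab : List (ℕ × ℤ) → ℕ → ℕ × ℤ
  | [], _ => (0, 0)
  | x :: _, 0 => x
  | _ :: l, Nat.succ n => nthTab l n

theorem nthTab_eq (l : List (ℕ × ℤ)) (n : ℕ) : nthTab l n = l.getD n (0, 0) := by
  induction l generalizing n with
  | nil => simp [nthTab]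
  | cons x l ih =>
    cases n with
    | zero => simp [nthTab]
    | succ n => simp [nthTab, ih]

def isPM : ℤ → Bool
  | Int.ofNat n => Nat.beq n 1
  | Int.negSucc n => Nat.beq n 0

def sgnPow (A : ℤ) : ℤ := bif Nat.beq (A.natAbs % 2) 0 then 1 else -1

def hClaimN (D : ChevalleyDatum) (i j : ℕ) : Vec :=
  [unit j, ⟨i, 0, 0, Int.neg (D.cartan j (D.simple i))⟩]

def checkNTab (D : ChevalleyDatum) (i p np : ℕ) (tab : List (ℕ × ℤ)) : Bool :=
  (List.range D.nroots).all (fun s =>
    Nat.beq (nthTab tab s).1 (Nat.add D.rank (D.reflectRoot i s)) &&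
    isPM (nthTab tab s).2 &&
    isZ (Int.sub (Int.mul (nthTab tab s).2 (nthTab tab (D.reflectRoot i s)).2)
      (sgnPow (D.cartan i s))) &&
    isZ (Int.sub (Int.mul (nthTab tab s).2 (nthTab tab (D.neg s)).2) 1)) &&
  isZ (Int.add (nthTab tab p).2 1) && isZ (Int.add (nthTab tab np).2 1)

def checkN (D : ChevalleyDatum) (i : ℕ) : Bool :=
  canon (fun p => canon (fun np =>
    (List.range D.rank).all (fun j => vecEq keyEq (nCol D p np j) (hClaimN D i j)) &&
    forceTab (nTab D p np) (fun tab => checkNTab D i p np tab))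
    (D.neg p)) (D.simple i)

end Cfsg.Agent.Lib.Helper5.ChevSym
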