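import Mathlib
import Cfsg.Prelude.Def_ChevStructure
import Cfsg.Agent.Lib.Helper5.ChevSymN

set_option autoImplicit false

/-!
Binary tries for fast table lookup inside kernel computations, and the application of a matrix
given by constant symbolic columns to a symbolic vector.
-/

namespace Cfsg.Agent.Lib.Helper5.ChevSym

open Cfsg Cfsg.Lie

inductive BT where
  | leaf : BT
  | node : BT → ℕ → ℤ → BT → BT

def BT.get : BT → ℕ → ℕ × ℤ
  | .leaf, _ => (0, 0)
  | .node l a z r, n =>
    match n with
    | 0 => (a, z)
    | Nat.succ m => bif Nat.beq (Nat.mod m 2) 0 then l.get (Nat.div m 2) else r.get (Nat.div m 2)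

def evens : List (ℕ × ℤ) → List (ℕ × ℤ)
  | [] => []
  | [x] => [x]
  | x :: _ :: l => x :: evens l

def odds : List (ℕ × ℤ) → List (ℕ × ℤ)
  | [] => []
  | [_] => []
  | _ :: y :: l => y :: odds l

def BT.ofList : ℕ → List (ℕ × ℤ) → BT
  | 0, _ => .leaf
  | Nat.succ _, [] => .leaf
  | Nat.succ f, x :: l => .node (BT.ofList f (evens l)) x.1 x.2 (BT.ofList f (odds l))

def forceBT {β : Type} : BT → (BT → β) → β
  | .leaf, k => k .leaf
  | .node l a z r, k =>
    forceBT l fun l' => forceNat a fun a' => forceInt z fun z' => forceBT r fun r' =>
      k (.node l' a' z' r')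

theorem forceBT_eq {β : Type} (T : BT) (k : BT → β) : forceBT T k = k T := by
  induction T generalizing k with
  | leaf => rfl
  | node l a z r ihl ihr => simp [forceBT, ihl, ihr, forceNat_eq, forceInt_eq]

theorem evens_getD (l : List (ℕ × ℤ)) (k : ℕ) (d : ℕ × ℤ) :
    (evens l).getD k d = l.getD (2 * k) d := by
  induction l using evens.induct generalizing k with
  | case1 => simp [evens]
  | case2 x =>
    cases k with
    | zero => simp [evens]
    | succ k => simp [evens]
  | case3 x y l ih =>
    cases k with
    | zero => simp [evens]
    | succ k =>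
      simp only [evens, List.getD_cons_succ]
      rw [ih k, show 2 * (k + 1) = (2 * k) + 1 + 1 by ring, List.getD_cons_succ,
        List.getD_cons_succ]

theorem odds_getD (l : List (ℕ × ℤ)) (k : ℕ) (d : ℕ × ℤ) :
    (odds l).getD k d = l.getD (2 * k + 1) d := by
  induction l using odds.induct generalizing k with
  | case1 => simp [odds]
  | case2 x => simp [odds]
  | case3 x y l ih =>
    cases k with
    | zero => simp [odds]
    | succ k =>
      simp only [odds, List.getD_cons_succ]
      rw [ih k, show 2 * (k + 1) = (2 * k + 1) + 1 by ring, List.getD_cons_succ]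

theorem evens_length (l : List (ℕ × ℤ)) : (evens l).length = (l.length + 1) / 2 := by
  induction l using evens.induct with
  | case1 => simp [evens]
  | case2 x => simp [evens]
  | case3 x y l ih =>
    simp only [evens, List.length_cons, ih]
    omega

theorem odds_length (l : List (ℕ × ℤ)) : (odds l).length = l.length / 2 := by
  induction l using odds.induct with
  | case1 => simp [odds]
  | case2 x => simp [odds]
  | case3 x y l ih =>
    simp only [odds, List.length_cons, ih]
    omega

theorem BT.get_ofList (f : ℕ) (l : List (ℕ × ℤ)) (hl : l.length < 2 ^ f) (n : ℕ) :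
    (BT.ofList f l).get n = l.getD n (0, 0) := by
  induction f generalizing l n with
  | zero =>
    have : l = [] := by
      cases l with
      | nil => rfl
      | cons x l => simp at hl
    subst this
    simp [BT.ofList, BT.get]
  | succ f ih =>
    cases l with
    | nil => simp [BT.ofList, BT.get]
    | cons x l =>
      have hlen : l.length + 1 < 2 ^ (f + 1) := by simpa using hl
      have h2 : 2 ^ (f + 1) = 2 * 2 ^ f := by ring
      cases n with
      | zero => simp [BT.ofList, BT.get]
      | succ m =>
        simp only [BT.ofList, BT.get, List.getD_cons_succ]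
        by_cases hm : m % 2 = 0
        · rw [cond_beq_pos (show Nat.mod m 2 = 0 from hm), ih _ (by rw [evens_length]; omega),
            evens_getD]
          congr 1
          show 2 * (m / 2) = m
          omega
        · rw [cond_beq_neg (show ¬ Nat.mod m 2 = 0 from hm), ih _ (by rw [odds_length]; omega),
            odds_getD]
          congr 1
          show 2 * (m / 2) + 1 = m
          omega

/-! ### Applying a matrix with constant columns -/

/-- apply the matrix whose `n`-th column is the symbolic vector `f n` to a symbolic vector -/
def applyCols (f : ℕ → Vec) (v : Vec) : Vec :=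
  v.foldr (fun τ acc => (f τ.idx).foldr (fun σ acc =>
    insertT keyEq ⟨σ.idx, Nat.add τ.ea σ.ea, Nat.add τ.eb σ.eb, Int.mul τ.c σ.c⟩ acc) acc) []

variable {F : Type*} [Field F]

theorem evalVec_applyCols (a b : F) (f : ℕ → Vec) (v : Vec) (n : ℕ) :
    evalVec a b (applyCols f v) n = (v.map fun τ => τ.val a b * evalVec a b (f τ.idx) n).sum := by
  unfold applyCols
  have hk := keyEq_sound a b
  induction v with
  | nil => simp
  | cons τ v ih =>
    rw [List.foldr_cons, List.map_cons, List.sum_cons, ← ih]
    generalize List.foldr _ [] v = acc
    rw [evalVec_foldr_insertT keyEq a b hk]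
    congr 1
    unfold evalVec
    rw [← List.sum_map_mul_left]
    congr 1
    apply List.map_congr_left
    intro σ _
    simp only [Term.val, mval]
    by_cases h : σ.idx = n
    · simp only [h, if_true, Nat.add_eq, Int.mul_def, Int.cast_mul, pow_add]
      ring
    · simp [h]

end Cfsg.Agent.Lib.Helper5.ChevSym
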