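import Mathlib
import Cfsg.Prelude.Def_ChevStructure
import Cfsg.Agent.Lib.Helper5.ChevSymTrie
import Cfsg.Agent.Lib.Helper5.ChevSL

set_option autoImplicit false

/-!
Transport of the chain table along a fundamental reflection (simply laced types):
`chain[w r][w s] = (w k, M η_r η_s η_k)` for `chain[r][s] = (k, M)`.
-/

namespace Cfsg.Agent.Lib.Helper5.ChevSym

open Cfsg Cfsg.Lie

/-- every entry of the chain of `r'` is carried to the corresponding entry of the chain
of `w r'` -/
def checkHalfEdge (D : ChevalleyDatum) (T : BT) (r' : ℕ) : Bool :=
  canon (fun r' => match T.get r' with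
    | (k, e) => canon (fun wr =>
        (D.chain.getD r' #[]).toList.all fun en =>
          canon (fun s => match T.get s with
            | (k2, e2) => Nat.blt s D.nroots &&
              (match en.2.toList with
               | [km] => Nat.blt km.1 D.nroots &&
                  decide (D.chainEntry wr (Nat.sub k2 D.rank)
                    = [(Nat.sub (T.get km.1).1 D.rank,
                        Int.mul (Int.mul (Int.mul km.2 e) e2) (T.get km.1).2)])
               | _ => false)) en.1) (Nat.sub k D.rank)) r'

def checkEdgeAt (D : ChevalleyDatum) (T : BT) (r' : ℕ) : Bool :=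
  checkHalfEdge D T r' && canon (fun wr => checkHalfEdge D T wr) (Nat.sub (T.get r').1 D.rank)

/-- the edges `(i, r')`, `r'` in the list -/
def checkEdges (D : ChevalleyDatum) (i : ℕ) (l : List ℕ) : Bool :=
  Nat.blt D.nroots 512 &&
  canon (fun p => canon (fun np =>
    forceTab (nTab D p np) fun tab => forceBT (BT.ofList 9 tab) fun T =>
      l.all fun r' => checkEdgeAt D T r') (D.neg p)) (D.simple i)

end Cfsg.Agent.Lib.Helper5.ChevSym
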