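import Mathlib
import Cfsg.Prelude.Def_ChevStructure
import Cfsg.Agent.Lib.Helper5.ChevSymN

set_option autoImplicit false

/-!
Spanning trees of the set of roots under the fundamental reflections.
-/

namespace Cfsg.Agent.Lib.Helper5.ChevSym

open Cfsg Cfsg.Lie

/-- follow the edges `(i, r')` (meaning `r' ↦ w_i(r')`), collecting the roots reached -/
def grow (D : ChevalleyDatum) : List (ℕ × ℕ) → List ℕ → Option (List ℕ)
  | [], acc => some acc
  | e :: es, acc =>
    bif Nat.blt e.1 D.rank && memNat e.2 acc then
      forceNat (D.reflectRoot e.1 e.2) fun r => grow D es (r :: acc)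
    else none

/-- the edges reach every root from `r0` -/
def checkTree (D : ChevalleyDatum) (r0 : ℕ) (edges : List (ℕ × ℕ)) : Bool :=
  match grow D edges [r0] with
  | some acc => (List.range D.nroots).all fun r => memNat r acc
  | none => false

/-- the starting points of the edges labelled `i` -/
def edgesOf (edges : List (ℕ × ℕ)) (i : ℕ) : List ℕ :=
  (edges.filter fun e => Nat.beq e.1 i).map Prod.snd

theorem mem_edgesOf (edges : List (ℕ × ℕ)) (e : ℕ × ℕ) (he : e ∈ edges) :
    e.2 ∈ edgesOf edges e.1 := by
  unfold edgesOf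
  rw [List.mem_map]
  refine ⟨e, ?_, rfl⟩
  rw [List.mem_filter]
  exact ⟨he, by rw [Nat.beq_eq]⟩

theorem grow_invariant (D : ChevalleyDatum) (P : ℕ → Prop) (edges : List (ℕ × ℕ))
    (hstep : ∀ e ∈ edges, e.1 < D.rank → P e.2 → P (D.reflectRoot e.1 e.2)) :
    ∀ (acc acc' : List ℕ), (∀ r ∈ acc, P r) → grow D edges acc = some acc' → ∀ r ∈ acc', P r := by
  induction edges with
  | nil =>
    intro acc acc' hacc hg
    simp only [grow, Option.some.injEq] at hg
    rw [← hg]
    exact hacc
  | cons e es ih =>
    intro acc acc' hacc hg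
    simp only [grow] at hg
    cases hc : (Nat.blt e.1 D.rank && memNat e.2 acc) with
    | false => rw [hc] at hg; simp at hg
    | true =>
      rw [hc, cond_true, forceNat_eq] at hg
      rw [Bool.and_eq_true, Nat.blt_eq, memNat_iff] at hc
      apply ih (fun e' he' => hstep e' (List.mem_cons_of_mem _ he')) _ acc' _ hg
      intro r hr
      rw [List.mem_cons] at hr
      rcases hr with rfl | hr
      · exact hstep e (List.mem_cons_self ..) hc.1 (hacc _ hc.2)
      · exact hacc r hr

theorem of_checkTree (D : ChevalleyDatum) (P : ℕ → Prop) (r0 : ℕ) (edges : List (ℕ × ℕ))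
    (h : checkTree D r0 edges = true) (h0 : P r0)
    (hstep : ∀ e ∈ edges, e.1 < D.rank → P e.2 → P (D.reflectRoot e.1 e.2)) :
    ∀ r < D.nroots, P r := by
  unfold checkTree at h
  cases hg : grow D edges [r0] with
  | none => rw [hg] at h; simp at h
  | some acc =>
    rw [hg] at h
    simp only [List.all_eq_true] at h
    intro r hr
    have hmem := (memNat_iff r acc).1 (h r (List.mem_range.2 hr))
    refine grow_invariant D P edges hstep [r0] acc ?_ hg r hmem
    intro x hx
    simp only [List.mem_cons, List.not_mem_nil, or_false] at hx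
    rw [hx]
    exact h0

/-- `w_i(-u) = -w_i(u)` -/
def checkNegRefl (D : ChevalleyDatum) (i : ℕ) : Bool :=
  (List.range D.nroots).all fun u =>
    canon (fun u => Nat.beq (D.reflectRoot i (D.neg u)) (D.neg (D.reflectRoot i u))) u

theorem checkNegRefl_spec (D : ChevalleyDatum) (i : ℕ) (h : checkNegRefl D i = true) (u : ℕ)
    (hu : u < D.nroots) : D.reflectRoot i (D.neg u) = D.neg (D.reflectRoot i u) := by
  unfold checkNegRefl at h
  rw [List.all_eq_true] at h
  have := h u (List.mem_range.2 hu)
  rw [canon_eq] at this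
  exact Nat.eq_of_beq_eq_true this

end Cfsg.Agent.Lib.Helper5.ChevSym
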