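import Mathlib
import Cfsg.Prelude.Def_ChevStructure
import Cfsg.Agent.Lib.Helper5.ChevSymN

set_option autoImplicit false

/-!
Invariance of the Cartan integers under the fundamental reflections:
`⟨w_i(p_j), w_i(s)⟩ = ⟨p_j, s⟩`.
-/

namespace Cfsg.Agent.Lib.Helper5.ChevSym

open Cfsg Cfsg.Lie

def nthInt : List ℤ → ℕ → ℤ
  | [], _ => 0
  | z :: _, 0 => z
  | _ :: l, Nat.succ n => nthInt l n

theorem nthInt_eq (l : List ℤ) (n : ℕ) : nthInt l n = l.getD n 0 := by
  induction l generalizing n with
  | nil => simp [nthInt]
  | cons x l ih =>
    cases n with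
    | zero => simp [nthInt]
    | succ n => simp [nthInt, ih]

def forceInts {β : Type} : List ℤ → (List ℤ → β) → β
  | [], k => k []
  | z :: l, k => forceInt z fun z' => forceInts l fun l' => k (z' :: l')

theorem forceInts_eq {β : Type} (l : List ℤ) (k : List ℤ → β) : forceInts l k = k l := by
  induction l generalizing k with
  | nil => rfl
  | cons x l ih => simp [forceInts, forceInt_eq, ih]

def forceNats {β : Type} : List ℕ → (List ℕ → β) → β
  | [], k => k []
  | z :: l, k => forceNat z fun z' => forceNats l fun l' => k (z' :: l')

theorem forceNats_eq {β : Type} (l : List ℕ) (k : List ℕ → β) : forceNats l k = k l := by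
  induction l generalizing k with
  | nil => rfl
  | cons x l ih => simp [forceNats, forceNat_eq, ih]

def checkZip (row : List ℤ) : List ℕ → List ℤ → Bool
  | [], _ => true
  | w :: W, a :: A => isZ (Int.sub (nthInt row w) a) && checkZip row W A
  | _ :: _, [] => false

theorem checkZip_spec (row : List ℤ) (W : List ℕ) (A : List ℤ) (h : checkZip row W A = true)
    (s : ℕ) (hs : s < W.length) : row.getD (W.getD s 0) 0 = A.getD s 0 := by
  induction W generalizing A s with
  | nil => simp at hs
  | cons w W ih =>
    cases A with
    | nil => simp [checkZip] at h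
    | cons a A =>
      simp only [checkZip, Bool.and_eq_true] at h
      cases s with
      | zero =>
        have := isZ_eq_true h.1
        rw [nthInt_eq] at this
        simpa using sub_eq_zero.1 this
      | succ s =>
        have := ih A h.2 s (by simpa using hs)
        simpa using this

/-- for all `j`, `s`: `⟨w_i(p_j), w_i(s)⟩ = ⟨p_j, s⟩` -/
def checkRefl (D : ChevalleyDatum) (i : ℕ) : Bool :=
  forceNats ((List.range D.nroots).map (D.reflectRoot i)) fun W =>
    (List.range D.rank).all fun j =>
      canon (fun r' => Nat.blt r' D.nroots &&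
        forceInts (cartanRow D r') fun row =>
          checkZip row W (D.cartanSR.getD j #[]).toList) (D.reflectRoot i (D.simple j))

theorem checkRefl_spec (D : ChevalleyDatum) (i : ℕ) (h : checkRefl D i = true) (j : ℕ)
    (hj : j < D.rank) :
    D.reflectRoot i (D.simple j) < D.nroots ∧ ∀ s < D.nroots,
      (cartanRow D (D.reflectRoot i (D.simple j))).getD (D.reflectRoot i s) 0 = D.cartan j s := by
  unfold checkRefl at h
  rw [forceNats_eq, List.all_eq_true] at h
  have := h j (List.mem_range.2 hj)
  rw [canon_eq, Bool.and_eq_true, forceInts_eq, Nat.blt_eq] at this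
  refine ⟨this.1, fun s hs => ?_⟩
  have h2 := checkZip_spec _ _ _ this.2 s (by simpa using hs)
  have h3 : ((List.range D.nroots).map (D.reflectRoot i)).getD s 0 = D.reflectRoot i s := by
    rw [List.getD_eq_getElem?_getD, List.getElem?_map, List.getElem?_range hs]
    rfl
  rw [h3] at h2
  rw [h2]
  unfold ChevalleyDatum.cartan
  simp

end Cfsg.Agent.Lib.Helper5.ChevSym
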