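import Mathlib
import Cfsg.Prelude.Def_ChevStructure
import Cfsg.Agent.Lib.Helper5.ChevSymTrie
import Cfsg.Agent.Lib.Helper5.ChevSymRefl
import Cfsg.Agent.Lib.Helper5.ChevSymAdd

set_option autoImplicit false

/-!
The checker for `n_p x_s(t) n_p⁻¹ = x_{w_p(s)}(η_s t)`.
-/

namespace Cfsg.Agent.Lib.Helper5.ChevSym

open Cfsg Cfsg.Lie

/-- the `col`-th column of `n_{p_i}`, from the tables -/
def nColT (rank i : ℕ) (T : BT) (cp : List ℤ) (col : ℕ) : Vec :=
  bif Nat.blt col rank then [unit col, ⟨i, 0, 0, Int.neg (nthInt cp col)⟩]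
  else match T.get (Nat.sub col rank) with
    | (k, e) => [⟨k, 0, 0, e⟩]

def conjColOK (D : ChevalleyDatum) (i : ℕ) (T : BT) (cp : List ℤ) (s ws : ℕ) (e : ℤ)
    (col : ℕ) : Bool :=
  vecEq keyEq (applyCols (nColT D.rank i T cp) (applyNorm D keyEq s pA [unit col]))
    (applyNorm D keyEq ws [(1, 0, e)] (nColT D.rank i T cp col))

def checkConjAt (D : ChevalleyDatum) (i : ℕ) (T : BT) (cp : List ℤ) (s : ℕ) : Bool :=
  canon (fun s =>
    match T.get s with
    | (k, e) => canon (fun ws =>
        forceNats (supp D s) fun L =>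
          L.all (conjColOK D i T cp s ws e) &&
          (supp D ws).all (fun c => Nat.blt c D.rank ||
            canon (fun c' => memNat c' L || conjColOK D i T cp s ws e c')
              (T.get (Nat.sub c D.rank)).1))
        (Nat.sub k D.rank)) s

def checkConj (D : ChevalleyDatum) (i lo n : ℕ) : Bool :=
  Nat.blt D.nroots 512 &&
  canon (fun p => canon (fun np =>
    forceTab (nTab D p np) fun tab => forceBT (BT.ofList 9 tab) fun T =>
      forceInts ((List.range D.rank).map fun j => D.cartan j p) fun cp =>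
        (List.range n).all fun k => checkConjAt D i T cp (Nat.add lo k)) (D.neg p)) (D.simple i)

/-- the reflection table is an involution -/
def checkInv (D : ChevalleyDatum) (i : ℕ) : Bool :=
  (List.range D.nroots).all fun u =>
    canon (fun w => Nat.blt w D.nroots && Nat.beq (D.reflectRoot i w) u) (D.reflectRoot i u)

end Cfsg.Agent.Lib.Helper5.ChevSym
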