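import Mathlib
import Cfsg.Prelude.Def_ChevStructure
import Cfsg.Agent.Lib.Helper5.ChevSymN

set_option autoImplicit false

/-!
Soundness of `checkN`: the matrix of `n_p(1)`.
-/

namespace Cfsg.Agent.Lib.Helper5.ChevSym

open Cfsg Cfsg.Lie

/-- the sign `η_s` of `n_{p_i}` -/
def eta (D : ChevalleyDatum) (i s : ℕ) : ℤ :=
  (nthTab (nTab D (D.simple i) (D.neg (D.simple i))) s).2

theorem colInfo_spec (v : Vec) (k : ℕ) (e : ℤ) (h : colInfo v = (k, e)) (he : e ≠ 0) :
    v = [⟨k, 0, 0, e⟩] := by
  match v, h with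
  | [], h =>
    simp only [colInfo, Prod.mk.injEq] at h
    exact absurd h.2.symm he
  | [τ], h =>
    simp only [colInfo] at h
    cases hc : (Nat.beq τ.ea 0 && Nat.beq τ.eb 0) with
    | false =>
      rw [hc, cond_false, Prod.mk.injEq] at h
      exact absurd h.2.symm he
    | true =>
      rw [hc, cond_true, Prod.mk.injEq] at h
      rw [Bool.and_eq_true] at hc
      have h1 := Nat.eq_of_beq_eq_true hc.1
      have h2 := Nat.eq_of_beq_eq_true hc.2
      obtain ⟨idx, ea, eb, c⟩ := τ
      simp only at h h1 h2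
      rw [h1, h2, h.1, h.2]
  | τ :: σ :: l, h =>
    simp only [colInfo, Prod.mk.injEq] at h
    exact absurd h.2.symm he

theorem nthTab_nTab (D : ChevalleyDatum) (p np s : ℕ) (hs : s < D.nroots) :
    nthTab (nTab D p np) s = colInfo (nCol D p np (D.rank + s)) := by
  rw [nthTab_eq, nTab, List.getD_eq_getElem?_getD, List.getElem?_map, List.getElem?_range hs]
  rfl

theorem isPM_spec (e : ℤ) (h : isPM e = true) : e = 1 ∨ e = -1 := by
  cases e with
  | ofNat n =>
    left
    simp only [isPM] at h
    rw [Nat.eq_of_beq_eq_true h]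
    rfl
  | negSucc n =>
    right
    simp only [isPM] at h
    rw [Nat.eq_of_beq_eq_true h]
    rfl

theorem sgnPow_eq (A : ℤ) : sgnPow A = (-1) ^ A.natAbs := by
  unfold sgnPow
  rcases Nat.even_or_odd A.natAbs with h | h
  · rw [cond_beq_pos (Nat.even_iff.1 h), h.neg_one_pow]
  · rw [cond_beq_neg (by rw [Nat.odd_iff.1 h]; omega), h.neg_one_pow]

variable {F : Type*} [Field F]

theorem evalW_nWordSym (D : ChevalleyDatum) (r : ℕ) :
    evalW (1 : F) 1 (nWordSym r (D.neg r)) = D.nWord r 1 := by
  simp only [evalW, nWordSym, List.map_cons, List.map_nil, ChevalleyDatum.nWord]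
  have e1 : evalPoly (1 : F) 1 [(0, 0, 1)] = 1 := by
    simp [evalPoly, evalMono, mval]
  have e2 : evalPoly (1 : F) 1 [(0, 0, -1)] = -(1 : F)⁻¹ := by
    simp [evalPoly, evalMono, mval]
  rw [e1, e2]

/-- the matrix of a signed permutation of the root vectors which maps `h_j` to
`h_j - A_{j,p} h_i` -/
def monoMat (D : ChevalleyDatum) (F : Type*) [Field F] (i : ℕ) (η : ℕ → ℤ) :
    Matrix D.Idx D.Idx F :=
  Matrix.of (fun (row col : D.Idx) =>
    Sum.elim
      (fun j' : Fin D.rank => Sum.elim
        (fun j : Fin D.rank => (if j' = j then (1 : F) else 0)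
          - (if (j' : ℕ) = i then ((D.cartan j (D.simple i) : ℤ) : F) else 0))
        (fun _ => (0 : F)) col)
      (fun s' : Fin D.nroots => Sum.elim
        (fun _ => (0 : F))
        (fun s : Fin D.nroots => if (s' : ℕ) = D.reflectRoot i s then ((η s : ℤ) : F) else 0) col)
      row)

/-- what `checkN` verifies about the tables -/
theorem checkN_spec (D : ChevalleyDatum) (i : ℕ) (h : checkN D i = true) :
    (∀ j < D.rank, vecEq keyEq (nCol D (D.simple i) (D.neg (D.simple i)) j) (hClaimN D i j) = true) ∧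
    (∀ s < D.nroots,
      (nthTab (nTab D (D.simple i) (D.neg (D.simple i))) s).1 = D.rank + D.reflectRoot i s ∧
      (eta D i s = 1 ∨ eta D i s = -1) ∧
      eta D i s * eta D i (D.reflectRoot i s) = (-1) ^ (D.cartan i s).natAbs ∧
      eta D i s * eta D i (D.neg s) = 1) ∧
    eta D i (D.simple i) = -1 ∧ eta D i (D.neg (D.simple i)) = -1 := by
  unfold checkN at h
  rw [canon_eq, canon_eq, Bool.and_eq_true, forceTab_eq] at h
  obtain ⟨hH, hT⟩ := h
  unfold checkNTab at hT
  rw [Bool.and_eq_true, Bool.and_eq_true, List.all_eq_true] at hT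
  obtain ⟨⟨hT, hp⟩, hnp⟩ := hT
  rw [List.all_eq_true] at hH
  refine ⟨fun j hj => hH j (List.mem_range.2 hj), ?_, ?_, ?_⟩
  · intro s hs
    have := hT s (List.mem_range.2 hs)
    simp only [Bool.and_eq_true] at this
    obtain ⟨⟨⟨h1, h2⟩, h3⟩, h4⟩ := this
    refine ⟨Nat.eq_of_beq_eq_true h1, isPM_spec _ h2, ?_, ?_⟩
    · have := isZ_eq_true h3
      rw [← sgnPow_eq]
      unfold eta
      exact sub_eq_zero.1 this
    · have := isZ_eq_true h4
      unfold eta
      exact sub_eq_zero.1 this
  · have := isZ_eq_true hp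
    unfold eta
    exact eq_neg_of_add_eq_zero_left this
  · have := isZ_eq_true hnp
    unfold eta
    exact eq_neg_of_add_eq_zero_left this

/-- the root columns of `n_p`, as computed -/
theorem nCol_root_of_checkN (D : ChevalleyDatum) (i : ℕ) (h : checkN D i = true) (s : ℕ)
    (hs : s < D.nroots) :
    nCol D (D.simple i) (D.neg (D.simple i)) (D.rank + s)
      = [⟨D.rank + D.reflectRoot i s, 0, 0, eta D i s⟩] := by
  obtain ⟨h1, h2, _, _⟩ := (checkN_spec D i h).2.1 s hs
  have hne : eta D i s ≠ 0 := by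
    rcases h2 with h2 | h2 <;> rw [h2] <;> decide
  exact colInfo_spec _ _ _ (by
    rw [← nthTab_nTab D _ _ s hs, ← h1]
    rfl) hne

/-- the entries of `n_p` from the symbolic columns -/
theorem nMat_apply_eq_evalVec (D : ChevalleyDatum) (r : ℕ) (row col : D.Idx) :
    D.nMat F r 1 row col
      = evalVec (1 : F) 1 (nCol D r (D.neg r) (code D col)) (code D row) := by
  unfold ChevalleyDatum.nMat nCol
  rw [wordCol_sound D keyEq 1 1 (keyEq_sound (1 : F) 1), evalW_nWordSym]

theorem nMat_of_checkN (D : ChevalleyDatum) (i : ℕ) (hi : i < D.rank)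
    (h : checkN D i = true) :
    (∀ s < D.nroots, eta D i s = 1 ∨ eta D i s = -1) ∧ eta D i (D.simple i) = -1 ∧
    eta D i (D.neg (D.simple i)) = -1 ∧
    (∀ s < D.nroots, eta D i s * eta D i (D.reflectRoot i s) = (-1) ^ (D.cartan i s).natAbs ∧
      eta D i s * eta D i (D.neg s) = 1) ∧
    D.nMat F (D.simple i) 1 = monoMat D F i (eta D i) := by
  obtain ⟨hH, hS, hp, hnp⟩ := checkN_spec D i h
  refine ⟨fun s hs => (hS s hs).2.1, hp, hnp, fun s hs => (hS s hs).2.2, ?_⟩
  ext row col
  have hk := keyEq_sound (1 : F) 1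
  rw [nMat_apply_eq_evalVec]
  rcases col with j | s
  · have hj := hH j.val j.2
    have e1 : code D (Sum.inl j : D.Idx) = j.val := rfl
    rw [e1, eq_of_vecEq keyEq 1 1 hk _ _ hj]
    simp only [hClaimN, evalVec_cons, evalVec_nil, add_zero, unit, Term.val, mval, monoMat,
      Matrix.of_apply, Sum.elim_inl]
    rcases row with j' | s'
    · simp only [code, Sum.elim_inl]
      have hneg : (((D.cartan j.val (D.simple i)).neg : ℤ) : F)
          = -((D.cartan j.val (D.simple i) : ℤ) : F) := Int.cast_neg _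
      rw [hneg]
      have hc1 : (j.val = j'.val) ↔ (j' = j) := ⟨fun h => Fin.ext h.symm, fun h => by rw [h]⟩
      have hc2 : (i = j'.val) ↔ (j'.val = i) := ⟨fun h => h.symm, fun h => h.symm⟩
      simp only [hc1, hc2, Int.cast_one, pow_zero, mul_one]
      by_cases h2 : j'.val = i
      · rw [if_pos h2, if_pos h2]
        ring
      · rw [if_neg h2, if_neg h2]
        ring
    · simp only [code, Sum.elim_inr]
      have h1 : ¬ j.val = D.rank + s'.val := by have := j.2; omega
      have h2 : ¬ i = D.rank + s'.val := by omega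
      simp [h1, h2]
  · have e1 : code D (Sum.inr s : D.Idx) = D.rank + s.val := rfl
    rw [e1, nCol_root_of_checkN D i h s.val s.2]
    simp only [evalVec_cons, evalVec_nil, add_zero, Term.val, mval, monoMat,
      Matrix.of_apply, Sum.elim_inr]
    rcases row with j' | s'
    · simp only [code, Sum.elim_inl]
      have h3 : ¬ D.rank + D.reflectRoot i s.val = j'.val := by have := j'.2; omega
      simp [h3]
    · simp only [code, Sum.elim_inr]
      by_cases h3 : s'.val = D.reflectRoot i s.val
      · simp [h3]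
      · have h3' : ¬ D.reflectRoot i s.val = s'.val := fun h => h3 h.symm
        simp [h3, h3']

end Cfsg.Agent.Lib.Helper5.ChevSym
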