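import Mathlib
import Cfsg.Prelude.Def_ChevStructure
import Cfsg.Agent.Lib.Helper5.ChevSymConj
import Cfsg.Agent.Lib.Helper5.ChevSymNSound

set_option autoImplicit false

/-!
Soundness of `checkConj`: `n_p x_s(t) = x_{w_p(s)}(η_s t) n_p`.
-/

namespace Cfsg.Agent.Lib.Helper5.ChevSym

open Cfsg Cfsg.Lie

theorem checkInv_spec (D : ChevalleyDatum) (i : ℕ) (h : checkInv D i = true) (u : ℕ)
    (hu : u < D.nroots) :
    D.reflectRoot i u < D.nroots ∧ D.reflectRoot i (D.reflectRoot i u) = u := by
  unfold checkInv at h
  rw [List.all_eq_true] at h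
  have := h u (List.mem_range.2 hu)
  rw [canon_eq, Bool.and_eq_true, Nat.blt_eq] at this
  exact ⟨this.1, Nat.eq_of_beq_eq_true this.2⟩

variable {F : Type*} [Field F]

/-- constant vectors do not depend on the parameters -/
theorem evalVec_const (a b : F) (v : Vec) (hv : ∀ τ ∈ v, τ.ea = 0 ∧ τ.eb = 0) (n : ℕ) :
    evalVec a b v n = evalVec (1 : F) 1 v n := by
  induction v with
  | nil => rfl
  | cons τ v ih =>
    rw [evalVec_cons, evalVec_cons, ih fun σ hσ => hv σ (List.mem_cons_of_mem _ hσ)]
    obtain ⟨h1, h2⟩ := hv τ (List.mem_cons_self ..)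
    simp only [Term.val, mval, h1, h2, pow_zero, mul_one]

/-- the hypotheses on the tables `T`, `cp` -/
structure ConjTables (D : ChevalleyDatum) (i : ℕ) (T : BT) (cp : List ℤ) : Prop where
  get : ∀ u < D.nroots, T.get u = (D.rank + D.reflectRoot i u, eta D i u)
  cp : ∀ j < D.rank, nthInt cp j = D.cartan j (D.simple i)

theorem conjTables_of (D : ChevalleyDatum) (i : ℕ) (hN : checkN D i = true)
    (hn : D.nroots < 512) :
    ConjTables D i (BT.ofList 9 (nTab D (D.simple i) (D.neg (D.simple i))))
      ((List.range D.rank).map fun j => D.cartan j (D.simple i)) := by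
  constructor
  · intro u hu
    rw [BT.get_ofList 9 _ (by simpa [nTab] using hn), ← nthTab_eq]
    apply Prod.ext
    · exact ((checkN_spec D i hN).2.1 u hu).1
    · rfl
  · intro j hj
    rw [nthInt_eq, List.getD_eq_getElem?_getD, List.getElem?_map, List.getElem?_range hj]
    rfl

section core

variable (D : ChevalleyDatum) (i : ℕ) (hi : i < D.rank) (T : BT) (cp : List ℤ)
  (hT : ConjTables D i T cp) (hN : checkN D i = true) (hInv : checkInv D i = true)

include hi hT hN hInv

theorem nColT_cartan (j : ℕ) (hj : j < D.rank) : nColT D.rank i T cp j = hClaimN D i j := by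
  unfold nColT hClaimN
  rw [cond_blt_pos hj, hT.cp j hj]

theorem nColT_root (u : ℕ) (hu : u < D.nroots) :
    nColT D.rank i T cp (D.rank + u) = [⟨D.rank + D.reflectRoot i u, 0, 0, eta D i u⟩] := by
  unfold nColT
  rw [cond_blt_neg (by omega)]
  have : Nat.sub (D.rank + u) D.rank = u := by
    show D.rank + u - D.rank = u
    omega
  rw [this, hT.get u hu]

theorem nColT_inRange (col : D.Idx) : InRange D (nColT D.rank i T cp (code D col)) := by
  rcases col with j | u
  · have e : code D (Sum.inl j : D.Idx) = j.val := rfl
    rw [e, nColT_cartan D i hi T cp hT hN hInv j.val j.2]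
    intro τ hτ
    simp only [hClaimN, unit, List.mem_cons, List.not_mem_nil, or_false] at hτ
    have := j.2
    rcases hτ with rfl | rfl
    · show j.val < _
      omega
    · show i < _
      omega
  · have e : code D (Sum.inr u : D.Idx) = D.rank + u.val := rfl
    rw [e, nColT_root D i hi T cp hT hN hInv u.val u.2]
    intro τ hτ
    simp only [List.mem_cons, List.not_mem_nil, or_false] at hτ
    rw [hτ]
    have := (checkInv_spec D i hInv u.val u.2).1
    show D.rank + D.reflectRoot i u.val < _
    omega

/-- the entries of `n_p` from the table columns -/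
theorem nMat_apply_nColT (a b : F) (row col : D.Idx) :
    D.nMat F (D.simple i) 1 row col
      = evalVec a b (nColT D.rank i T cp (code D col)) (code D row) := by
  rw [nMat_apply_eq_evalVec]
  rcases col with j | u
  · have e : code D (Sum.inl j : D.Idx) = j.val := rfl
    rw [e, nColT_cartan D i hi T cp hT hN hInv j.val j.2,
      eq_of_vecEq keyEq 1 1 (keyEq_sound (1 : F) 1) _ _ ((checkN_spec D i hN).1 j.val j.2)]
    symm
    apply evalVec_const
    intro τ hτ
    simp only [hClaimN, unit, List.mem_cons, List.not_mem_nil, or_false] at hτ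
    rcases hτ with rfl | rfl <;> exact ⟨rfl, rfl⟩
  · have e : code D (Sum.inr u : D.Idx) = D.rank + u.val := rfl
    rw [e, nColT_root D i hi T cp hT hN hInv u.val u.2, nCol_root_of_checkN D i hN u.val u.2]
    symm
    apply evalVec_const
    intro τ hτ
    simp only [List.mem_cons, List.not_mem_nil, or_false] at hτ
    rw [hτ]
    exact ⟨rfl, rfl⟩

/-- a checked column -/
theorem conj_col_of_ok (s ws : ℕ) (e : ℤ) (t : F) (col : D.Idx)
    (h : conjColOK D i T cp s ws e (code D col) = true) (row : D.Idx) :
    (D.nMat F (D.simple i) 1 * D.x F s t) row col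
      = (D.x F ws ((e : F) * t) * D.nMat F (D.simple i) 1) row col := by
  unfold conjColOK at h
  have hk := keyEq_sound t (1 : F)
  have hcol := code_lt D col
  have hV : InRange D (applyNorm D keyEq s pA [unit (code D col)]) := by
    apply inRange_applyNorm
    intro τ hτ
    simp only [List.mem_cons, List.not_mem_nil, or_false] at hτ
    rw [hτ]
    exact hcol
  have hW := nColT_inRange D i hi T cp hT hN hInv col
  -- left hand side
  have hL : (D.nMat F (D.simple i) 1 * D.x F s t) row col
      = evalVec t 1 (applyCols (nColT D.rank i T cp)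
          (applyNorm D keyEq s pA [unit (code D col)])) (code D row) := by
    rw [Matrix.mul_apply, evalVec_applyCols,
      ← sum_mul_evalVec D t 1 (fun n => evalVec t 1 (nColT D.rank i T cp n) (code D row)) _ hV]
    apply Finset.sum_congr rfl
    intro j _
    rw [nMat_apply_nColT D i hi T cp hT hN hInv t 1 row j, evalVec_applyNorm D keyEq t 1 hk]
    simp only [List.map_cons, List.map_nil, List.sum_cons, List.sum_nil, add_zero, unit, Term.val,
      mval, Int.cast_one, pow_zero, mul_one, one_mul, evalPoly_pA]
    rw [xData_sound]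
  -- right hand side
  have hR : (D.x F ws ((e : F) * t) * D.nMat F (D.simple i) 1) row col
      = evalVec t 1 (applyNorm D keyEq ws [(1, 0, e)] (nColT D.rank i T cp (code D col)))
          (code D row) := by
    have hp : evalPoly t (1 : F) [(1, 0, e)] = (e : F) * t := by
      simp [evalPoly, evalMono, mval]
    rw [Matrix.mul_apply, evalVec_applyNorm D keyEq t 1 hk, hp,
      ← sum_mul_evalVec D t 1
        (fun n => dataVal ((e : F) * t) (xData D ws n) (code D row)) _ hW]
    apply Finset.sum_congr rfl
    intro j _
    rw [xData_sound, nMat_apply_nColT D i hi T cp hT hN hInv t 1 j col]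
  rw [hL, hR]
  exact eq_of_vecEq keyEq t 1 hk _ _ h _

/-- a column on which both root elements act trivially -/
theorem conj_col_trivial (s ws : ℕ) (t' t : F) (u : Fin D.nroots)
    (h1 : D.rank + u.val ∉ supp D s) (h2 : D.rank + D.reflectRoot i u.val ∉ supp D ws)
    (row : D.Idx) :
    (D.nMat F (D.simple i) 1 * D.x F s t) row (Sum.inr u)
      = (D.x F ws t' * D.nMat F (D.simple i) 1) row (Sum.inr u) := by
  have hw := (checkInv_spec D i hInv u.val u.2).1
  set j0 : D.Idx := Sum.inr ⟨D.reflectRoot i u.val, hw⟩ with hj0
  have hcode : code D j0 = D.rank + D.reflectRoot i u.val := rfl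
  have hNcol : ∀ j : D.Idx, j ≠ j0 → D.nMat F (D.simple i) 1 j (Sum.inr u) = 0 := by
    intro j hj
    rw [nMat_apply_nColT D i hi T cp hT hN hInv 1 1 j (Sum.inr u)]
    have e : code D (Sum.inr u : D.Idx) = D.rank + u.val := rfl
    rw [e, nColT_root D i hi T cp hT hN hInv u.val u.2, evalVec_cons, evalVec_nil, add_zero,
      if_neg]
    intro hidx
    apply hj
    apply code_injective D
    rw [hcode]
    exact hidx.symm
  have hL : (D.nMat F (D.simple i) 1 * D.x F s t) row (Sum.inr u)
      = D.nMat F (D.simple i) 1 row (Sum.inr u) := by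
    rw [Matrix.mul_apply]
    have : ∀ j : D.Idx, D.x F s t j (Sum.inr u) = (1 : Matrix D.Idx D.Idx F) j (Sum.inr u) :=
      fun j => x_col_trivial D s t (Sum.inr u) h1 j
    simp only [this]
    rw [← Matrix.mul_apply, Matrix.mul_one]
  have hR : (D.x F ws t' * D.nMat F (D.simple i) 1) row (Sum.inr u)
      = D.x F ws t' row j0 * D.nMat F (D.simple i) 1 j0 (Sum.inr u) := by
    rw [Matrix.mul_apply]
    apply Finset.sum_eq_single j0
    · intro j _ hj
      rw [hNcol j hj, mul_zero]
    · intro h
      exact absurd (Finset.mem_univ j0) h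
  rw [hL, hR, x_col_trivial D ws t' j0 (by rw [hcode]; exact h2) row, Matrix.one_apply]
  by_cases hrow : row = j0
  · rw [if_pos hrow, one_mul, hrow]
  · rw [if_neg hrow, zero_mul, hNcol row hrow]

theorem conj_of_checkConjAt (s : ℕ) (hs : s < D.nroots) (h : checkConjAt D i T cp s = true)
    (t : F) :
    D.nMat F (D.simple i) 1 * D.x F s t
      = D.x F (D.reflectRoot i s) ((eta D i s : F) * t) * D.nMat F (D.simple i) 1 := by
  unfold checkConjAt at h
  rw [canon_eq, hT.get s hs] at h
  simp only [] at h
  have hsub : Nat.sub (D.rank + D.reflectRoot i s) D.rank = D.reflectRoot i s := by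
    show D.rank + D.reflectRoot i s - D.rank = D.reflectRoot i s
    omega
  rw [canon_eq, hsub, forceNats_eq, Bool.and_eq_true, List.all_eq_true, List.all_eq_true] at h
  obtain ⟨h1, h2⟩ := h
  ext row col
  by_cases hc : code D col ∈ supp D s
  · exact conj_col_of_ok D i hi T cp hT hN hInv s _ _ t col (h1 _ hc) row
  · rcases col with j | u
    · exfalso
      apply hc
      unfold supp
      apply List.mem_append_left
      exact List.mem_range.2 j.2
    · have e : code D (Sum.inr u : D.Idx) = D.rank + u.val := rfl
      rw [e] at hc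
      by_cases hc' : D.rank + D.reflectRoot i u.val ∈ supp D (D.reflectRoot i s)
      · have := h2 _ hc'
        obtain ⟨hw, hww⟩ := checkInv_spec D i hInv u.val u.2
        have hsub' : Nat.sub (D.rank + D.reflectRoot i u.val) D.rank = D.reflectRoot i u.val := by
          show D.rank + D.reflectRoot i u.val - D.rank = D.reflectRoot i u.val
          omega
        rw [Bool.or_eq_true, canon_eq, hsub', hT.get _ hw] at this
        simp only [] at this
        rw [hww] at this
        rcases this with hlt | hmem
        · rw [Nat.blt_eq] at hlt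
          omega
        · rw [Bool.or_eq_true, memNat_iff] at hmem
          rcases hmem with hmem | hok
          · exact absurd hmem hc
          · exact conj_col_of_ok D i hi T cp hT hN hInv s _ _ t (Sum.inr u) hok row
      · exact conj_col_trivial D i hi T cp hT hN hInv s _ _ t u hc hc' row

end core

/-- soundness of `checkConj` -/
theorem conj_of_checkConj (D : ChevalleyDatum) (i : ℕ) (hi : i < D.rank)
    (hN : checkN D i = true) (hInv : checkInv D i = true) (lo n : ℕ)
    (h : checkConj D i lo n = true) (s : ℕ) (h1 : lo ≤ s) (h2 : s < lo + n) (hs : s < D.nroots)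
    (t : F) :
    D.nMat F (D.simple i) 1 * D.x F s t
      = D.x F (D.reflectRoot i s) ((eta D i s : F) * t) * D.nMat F (D.simple i) 1 := by
  unfold checkConj at h
  rw [Bool.and_eq_true, Nat.blt_eq, canon_eq, canon_eq, forceTab_eq, forceBT_eq, forceInts_eq,
    List.all_eq_true] at h
  obtain ⟨hn, h⟩ := h
  have hT := conjTables_of D i hN hn
  have := h (s - lo) (List.mem_range.2 (by omega))
  have e : Nat.add lo (s - lo) = s := by
    show lo + (s - lo) = s
    omega
  rw [e] at this
  exact conj_of_checkConjAt D i hi _ _ hT hN hInv s hs this t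

end Cfsg.Agent.Lib.Helper5.ChevSym
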