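import Mathlib
import Cfsg.Prelude.Def_ChevStructure
import Cfsg.Agent.Lib.Helper5.ChevSymConjSound
import Cfsg.Agent.Lib.Helper5.ChevChk.NAll
import Cfsg.Agent.Lib.Helper5.ChevChk.InvAll
import Cfsg.Agent.Lib.Helper5.ChevChk.ConjAll

set_option autoImplicit false

/-!
`n_p x_s(t) n_p⁻¹ = x_{w_p(s)}(η_s t)` for fundamental roots `p`.
-/

namespace Cfsg.Agent.Lib.Helper5.ChevStruct

open Cfsg Cfsg.Lie Cfsg.Agent.Lib.Helper5.ChevSym

variable {F : Type*} [Field F]

/-- the fundamental reflections are involutions of the set of roots -/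
theorem reflectRoot_invol (D : ChevalleyDatum)
    (hD : D ∈ [chevG2, chevB2, chevD4, chevF4, chevE6, chevE7, chevE8]) (i : ℕ)
    (hi : i < D.rank) (u : ℕ) (hu : u < D.nroots) :
    D.reflectRoot i u < D.nroots ∧ D.reflectRoot i (D.reflectRoot i u) = u :=
  checkInv_spec D i (chkInv_all D hD i hi) u hu

theorem eta_sq (D : ChevalleyDatum)
    (hD : D ∈ [chevG2, chevB2, chevD4, chevF4, chevE6, chevE7, chevE8]) (i : ℕ)
    (hi : i < D.rank) (s : ℕ) (hs : s < D.nroots) : eta D i s = 1 ∨ eta D i s = -1 :=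
  ((checkN_spec D i (chkN_all D hD i hi)).2.1 s hs).2.1

/-- `n_p x_s(t) = x_{w_p(s)}(η_s t) n_p` -/
theorem nMat_simple_conj_x (D : ChevalleyDatum)
    (hD : D ∈ [chevG2, chevB2, chevD4, chevF4, chevE6, chevE7, chevE8]) (i s : ℕ)
    (hi : i < D.rank) (hs : s < D.nroots) (t : F) :
    D.nMat F (D.simple i) 1 * D.x F s t
      = D.x F (D.reflectRoot i s) ((eta D i s : F) * t) * D.nMat F (D.simple i) 1 := by
  obtain ⟨lo, n, h, h1, h2⟩ := chkConj_all D hD i hi s hs
  exact conj_of_checkConj D i hi (chkN_all D hD i hi) (chkInv_all D hD i hi) lo n h s h1 h2 hs t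

end Cfsg.Agent.Lib.Helper5.ChevStruct
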