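import Mathlib
import Cfsg.Prelude.Def_ChevStructure
import Cfsg.Agent.Lib.Helper5.ChevSymEdge
import Cfsg.Agent.Lib.Helper5.ChevSymConjSound

set_option autoImplicit false

/-!
Soundness of `checkEdges`.
-/

namespace Cfsg.Agent.Lib.Helper5.ChevSym

open Cfsg Cfsg.Lie

/-- the twisted chain entry -/
def twistChain (D : ChevalleyDatum) (i r' s : ℕ) (l : List (ℕ × ℤ)) : List (ℕ × ℤ) :=
  l.map fun km => (D.reflectRoot i km.1, km.2 * eta D i r' * eta D i s * eta D i km.1)

section

variable (D : ChevalleyDatum) (i : ℕ) (T : BT)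
  (hget : ∀ u < D.nroots, T.get u = (D.rank + D.reflectRoot i u, eta D i u))
  (hInv : checkInv D i = true)

include hget hInv

theorem halfEdge_spec (r' : ℕ) (hr' : r' < D.nroots) (h : checkHalfEdge D T r' = true)
    (en : ℕ × Array (ℕ × ℤ)) (hen : en ∈ (D.chain.getD r' #[]).toList) :
    en.1 < D.nroots ∧ ∃ km, en.2.toList = [km] ∧ km.1 < D.nroots ∧
      D.chainEntry (D.reflectRoot i r') (D.reflectRoot i en.1)
        = [(D.reflectRoot i km.1, km.2 * eta D i r' * eta D i en.1 * eta D i km.1)] := by
  unfold checkHalfEdge at h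
  rw [canon_eq, hget r' hr'] at h
  simp only [] at h
  have hsub : ∀ x, Nat.sub (D.rank + x) D.rank = x := by
    intro x
    show D.rank + x - D.rank = x
    omega
  rw [canon_eq, hsub, List.all_eq_true] at h
  have := h en hen
  rw [canon_eq] at this
  have hlt : en.1 < D.nroots := by
    cases hg : T.get en.1 with
    | mk k2 e2 =>
      rw [hg] at this
      simp only [Bool.and_eq_true, Nat.blt_eq] at this
      exact this.1
  rw [hget en.1 hlt] at this
  simp only [Bool.and_eq_true] at this
  refine ⟨hlt, ?_⟩
  obtain ⟨_, h2⟩ := this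
  match hl : en.2.toList, h2 with
  | [km], h2 =>
    simp only [Bool.and_eq_true, Nat.blt_eq, decide_eq_true_eq] at h2
    obtain ⟨hk, h3⟩ := h2
    refine ⟨km, rfl, hk, ?_⟩
    rw [hsub, hget km.1 hk, hsub] at h3
    rw [h3]
    rfl

theorem edge_spec (r' : ℕ) (hr' : r' < D.nroots) (hSL : checkSL D = true)
    (h : checkEdgeAt D T r' = true) (s : ℕ) (hs : s < D.nroots) :
    (∀ km ∈ D.chainEntry r' s, km.1 < D.nroots) ∧
      D.chainEntry (D.reflectRoot i r') (D.reflectRoot i s)
        = twistChain D i r' s (D.chainEntry r' s) := by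
  unfold checkEdgeAt at h
  rw [Bool.and_eq_true, canon_eq, hget r' hr'] at h
  have hsub : ∀ x, Nat.sub (D.rank + x) D.rank = x := by
    intro x
    show D.rank + x - D.rank = x
    omega
  simp only [hsub] at h
  obtain ⟨h1, h2⟩ := h
  obtain ⟨hwr, hwwr⟩ := checkInv_spec D i hInv r' hr'
  obtain ⟨hws, hwws⟩ := checkInv_spec D i hInv s hs
  cases hf : (D.chain.getD r' #[]).toList.find? (fun e => e.1 = s) with
  | some en =>
    have hmem := List.mem_of_find?_eq_some hf
    have hkey : en.1 = s := by simpa using List.find?_some hf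
    obtain ⟨_, km, hkm, hk, hent⟩ := halfEdge_spec D i T hget hInv r' hr' h1 en hmem
    have hce : D.chainEntry r' s = [km] := by
      unfold ChevalleyDatum.chainEntry
      rw [hf]
      exact hkm
    rw [hce]
    constructor
    · intro km' hkm'
      simp only [List.mem_cons, List.not_mem_nil, or_false] at hkm'
      rw [hkm']
      exact hk
    · rw [hkey] at hent
      rw [hent]
      rfl
  | none =>
    have hce : D.chainEntry r' s = [] := by
      unfold ChevalleyDatum.chainEntry
      rw [hf]
    rw [hce]
    refine ⟨fun km hkm => by simp at hkm, ?_⟩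
    show D.chainEntry (D.reflectRoot i r') (D.reflectRoot i s) = []
    by_contra hne
    -- an entry of the chain of `w r'` at `w s` goes back to an entry at `s`
    cases hf' : (D.chain.getD (D.reflectRoot i r') #[]).toList.find?
        (fun e => e.1 = D.reflectRoot i s) with
    | none =>
      apply hne
      unfold ChevalleyDatum.chainEntry
      rw [hf']
    | some en' =>
      have hmem' := List.mem_of_find?_eq_some hf'
      have hkey' : en'.1 = D.reflectRoot i s := by simpa using List.find?_some hf'
      obtain ⟨_, km', _, _, hent'⟩ := halfEdge_spec D i T hget hInv _ hwr h2 en' hmem'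
      rw [hkey', hwwr, hwws, hce] at hent'
      simp at hent'

end

end Cfsg.Agent.Lib.Helper5.ChevSym
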