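import Mathlib
import Cfsg.Prelude.Def_ChevStructure
import Cfsg.Agent.Lib.Helper5.ChevConj
import Cfsg.Agent.Lib.Helper5.ChevSymEdgeSound
import Cfsg.Agent.Lib.Helper5.ChevXGL

set_option autoImplicit false

/-!
Transport of the commutator formula along fundamental reflections (simply laced types).
-/

namespace Cfsg.Agent.Lib.Helper5.ChevStruct

open Cfsg Cfsg.Lie Cfsg.Agent.Lib.Helper5.ChevSym

variable {F : Type*} [Field F]

/-- the commutator formula for the root `r` and all roots `s ≠ ±r` -/
def CommOK (D : ChevalleyDatum) (F : Type*) [Field F] (r : ℕ) : Prop :=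
  ∀ s < D.nroots, s ≠ r → s ≠ D.neg r → ∀ t u : F,
    D.x F s u * D.x F r t = D.x F r t * D.x F s u * D.wordMat F (D.commWord F r s t u)

/-- conjugating a word by `n_{p_i}` -/
theorem nMat_simple_conj_word (D : ChevalleyDatum) (hD : D ∈ Seven) (i : ℕ) (hi : i < D.rank)
    (w : List (ℕ × F)) (hw : ∀ p ∈ w, p.1 < D.nroots) :
    D.nMat F (D.simple i) 1 * D.wordMat F w
      = D.wordMat F (w.map fun p => (D.reflectRoot i p.1, (eta D i p.1 : F) * p.2))
          * D.nMat F (D.simple i) 1 := by
  induction w with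
  | nil => simp [ChevalleyDatum.wordMat]
  | cons p w ih =>
    have h1 : D.wordMat F (p :: w) = D.x F p.1 p.2 * D.wordMat F w := by
      simp [ChevalleyDatum.wordMat]
    have h2 : D.wordMat F ((p :: w).map fun p => (D.reflectRoot i p.1, (eta D i p.1 : F) * p.2))
        = D.x F (D.reflectRoot i p.1) ((eta D i p.1 : F) * p.2)
          * D.wordMat F (w.map fun p => (D.reflectRoot i p.1, (eta D i p.1 : F) * p.2)) := by
      simp [ChevalleyDatum.wordMat]
    rw [h1, h2, ← mul_assoc,
      nMat_simple_conj_x D hD i p.1 hi (hw p (List.mem_cons_self ..)) p.2, mul_assoc,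
      ih fun q hq => hw q (List.mem_cons_of_mem _ hq), mul_assoc]

theorem nMat_right_cancel (D : ChevalleyDatum) (hD : D ∈ Seven) (r : ℕ)
    (A B : Matrix D.Idx D.Idx F) (h : A * D.nMat F r 1 = B * D.nMat F r 1) : A = B := by
  have := congrArg (· * D.nMat F r (-1)) h
  simp only [mul_assoc] at this
  rw [nMat_mul_neg D hD r (1 : F), mul_one, mul_one] at this
  exact this

theorem eta_cast_sq (D : ChevalleyDatum) (hD : D ∈ Seven) (i : ℕ) (hi : i < D.rank) (s : ℕ)
    (hs : s < D.nroots) : (eta D i s : F) * (eta D i s : F) = 1 := by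
  rcases eta_sq D hD i hi s hs with h | h <;> rw [h] <;> simp

/-- the right hand side of the commutator formula in a simply laced datum -/
theorem commWord_of_SL (D : ChevalleyDatum) (hSL : checkSL D = true) (r s : ℕ) (t u : F) :
    D.commWord F r s t u
      = (D.chainEntry r s).map fun km => (km.1, ((km.2 : ℤ) : F) * (-t) ^ 1 * u ^ 1) := by
  unfold ChevalleyDatum.commWord
  rw [commTerms_of_SL D hSL, List.map_map]
  rfl

/-- transport of the commutator formula from `r'` to `w_i(r')` -/
theorem comm_transport (D : ChevalleyDatum) (hD : D ∈ Seven) (i : ℕ) (hi : i < D.rank)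
    (hSL : checkSL D = true) (r' : ℕ) (hr' : r' < D.nroots)
    (hedge : ∀ s < D.nroots, (∀ km ∈ D.chainEntry r' s, km.1 < D.nroots) ∧
      D.chainEntry (D.reflectRoot i r') (D.reflectRoot i s)
        = twistChain D i r' s (D.chainEntry r' s))
    (hnegw : D.reflectRoot i (D.neg r') = D.neg (D.reflectRoot i r'))
    (h : CommOK D F r') : CommOK D F (D.reflectRoot i r') := by
  intro s' hs' hne hne' t u
  obtain ⟨hs, hws⟩ := reflectRoot_invol D hD i hi s' hs'
  set s := D.reflectRoot i s' with hsdef
  have hsr : s ≠ r' := fun h => hne (by rw [← hws, h])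
  have hsn : s ≠ D.neg r' := fun h => hne' (by rw [← hws, h, hnegw])
  have her := eta_cast_sq (F := F) D hD i hi r' hr'
  have hes := eta_cast_sq (F := F) D hD i hi s hs
  have h0 := h s hs hsr hsn ((eta D i r' : F) * t) ((eta D i s : F) * u)
  obtain ⟨hkm, hchain⟩ := hedge s hs
  rw [hws] at hchain
  have hcw : (D.commWord F r' s ((eta D i r' : F) * t) ((eta D i s : F) * u)).map
      (fun p => (D.reflectRoot i p.1, (eta D i p.1 : F) * p.2))
      = D.commWord F (D.reflectRoot i r') s' t u := by
    rw [commWord_of_SL D hSL, commWord_of_SL D hSL, hchain, twistChain, List.map_map,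
      List.map_map]
    apply List.map_congr_left
    intro km _
    simp only [Function.comp, Prod.mk.injEq, true_and]
    push_cast
    have e1 : (eta D i r' : F) ^ 2 = 1 := by rw [pow_two]; exact her
    have e2 : (eta D i s : F) ^ 2 = 1 := by rw [pow_two]; exact hes
    have : (eta D i km.1 : F) * ((km.2 : F) * (-((eta D i r' : F) * t)) ^ 1 * ((eta D i s : F) * u) ^ 1)
        = (km.2 : F) * (eta D i r' : F) * (eta D i s : F) * (eta D i km.1 : F) * (-t) ^ 1 * u ^ 1 := by
      ring
    exact this
  have hwlt : ∀ p ∈ D.commWord F r' s ((eta D i r' : F) * t) ((eta D i s : F) * u),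
      p.1 < D.nroots := by
    intro p hp
    rw [commWord_of_SL D hSL, List.mem_map] at hp
    obtain ⟨km, hkm', rfl⟩ := hp
    exact hkm km hkm'
  -- conjugate both sides of `h0` by `n`
  have hL : D.nMat F (D.simple i) 1 * (D.x F s ((eta D i s : F) * u) * D.x F r' ((eta D i r' : F) * t))
      = (D.x F s' u * D.x F (D.reflectRoot i r') t) * D.nMat F (D.simple i) 1 := by
    rw [← mul_assoc, nMat_simple_conj_x D hD i s hi hs, mul_assoc,
      nMat_simple_conj_x D hD i r' hi hr', ← mul_assoc, ← mul_assoc, ← mul_assoc, hes, one_mul,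
      her, one_mul, hws]
  have hR : D.nMat F (D.simple i) 1 * (D.x F r' ((eta D i r' : F) * t) * D.x F s ((eta D i s : F) * u)
        * D.wordMat F (D.commWord F r' s ((eta D i r' : F) * t) ((eta D i s : F) * u)))
      = (D.x F (D.reflectRoot i r') t * D.x F s' u
        * D.wordMat F (D.commWord F (D.reflectRoot i r') s' t u)) * D.nMat F (D.simple i) 1 := by
    rw [mul_assoc, mul_assoc, ← mul_assoc (D.nMat F (D.simple i) 1),
      nMat_simple_conj_x D hD i r' hi hr', mul_assoc, ← mul_assoc (D.nMat F (D.simple i) 1),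
      nMat_simple_conj_x D hD i s hi hs, mul_assoc,
      nMat_simple_conj_word D hD i hi _ hwlt, hcw, ← mul_assoc (eta D i r' : F), her, one_mul,
      ← mul_assoc (eta D i s : F), hes, one_mul, hws]
    simp only [mul_assoc]
  apply nMat_right_cancel D hD (D.simple i)
  rw [← hL, ← hR, h0]

end Cfsg.Agent.Lib.Helper5.ChevStruct
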