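import Mathlib
import Cfsg.Prelude.Def_ChevStructure
import Cfsg.Agent.Lib.Helper5.ChevCommTransport
import Cfsg.Agent.Lib.Helper5.ChevTreeDef
import Cfsg.Agent.Lib.Helper5.ChevSymComm
import Cfsg.Agent.Lib.Helper5.ChevChk.CommG2
import Cfsg.Agent.Lib.Helper5.ChevChk.CommB2
import Cfsg.Agent.Lib.Helper5.ChevChk.CommD4
import Cfsg.Agent.Lib.Helper5.ChevChk.CommF4
import Cfsg.Agent.Lib.Helper5.ChevChk.TreeE6
import Cfsg.Agent.Lib.Helper5.ChevChk.TreeE7
import Cfsg.Agent.Lib.Helper5.ChevChk.TreeE8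

set_option autoImplicit false

/-!
Chevalley's commutator formula.
-/

namespace Cfsg.Agent.Lib.Helper5.ChevStruct

open Cfsg Cfsg.Lie Cfsg.Agent.Lib.Helper5.ChevSym

variable {F : Type*} [Field F]

/-- the commutator formula from row checks for all roots -/
theorem comm_of_rows (D : ChevalleyDatum)
    (hrows : ∀ r < D.nroots, checkCommRow D r 0 D.nroots = true) :
    ∀ r < D.nroots, CommOK D F r := by
  intro r hr s hs hsr hsn t u
  exact comm_of_checkRow D r 0 D.nroots (hrows r hr) s (Nat.zero_le _) (by omega) hsr hsn t u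

/-- the commutator formula from a base root and a spanning tree (simply laced types) -/
theorem comm_of_tree (D : ChevalleyDatum) (hD : D ∈ Seven) (hSL : checkSL D = true) (r0 : ℕ)
    (hr0 : r0 < D.nroots) (tree : List (ℕ × ℕ)) (hTree : checkTree D r0 tree = true)
    (hEdges : ∀ i < D.rank, checkEdges D i (edgesOf tree i) = true ∧ checkNegRefl D i = true)
    (hBase : ∀ s < D.nroots, ∃ lo n, checkCommRow D r0 lo n = true ∧ lo ≤ s ∧ s < lo + n) :
    ∀ r < D.nroots, CommOK D F r := by
  have key := of_checkTree D (fun r => r < D.nroots ∧ CommOK D F r) r0 tree hTree ?_ ?_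
  · exact fun r hr => (key r hr).2
  · refine ⟨hr0, ?_⟩
    intro s hs hsr hsn t u
    obtain ⟨lo, n, h, h1, h2⟩ := hBase s hs
    exact comm_of_checkRow D r0 lo n h s h1 h2 hsr hsn t u
  · intro e he hi ⟨hr', hP⟩
    obtain ⟨hE, hNeg⟩ := hEdges e.1 hi
    refine ⟨(reflectRoot_invol D hD e.1 hi e.2 hr').1, ?_⟩
    unfold checkEdges at hE
    rw [Bool.and_eq_true, Nat.blt_eq, canon_eq, canon_eq, forceTab_eq, forceBT_eq,
      List.all_eq_true] at hE
    obtain ⟨hn, hE⟩ := hE
    have hN := chkN_all D hD e.1 hi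
    have hT := conjTables_of D e.1 hN hn
    have hInv := chkInv_all D hD e.1 hi
    have hedge := hE e.2 (mem_edgesOf tree e he)
    apply comm_transport D hD e.1 hi hSL e.2 hr' _ (checkNegRefl_spec D e.1 hNeg e.2 hr') hP
    intro s hs
    exact edge_spec D e.1 _ hT.get hInv e.2 hr' hSL hedge s hs

/-- Chevalley's commutator formula -/
theorem comm_formula (D : ChevalleyDatum) (hD : D ∈ Seven) (r s : ℕ) (hr : r < D.nroots)
    (hs : s < D.nroots) (hrs : s ≠ r) (hneg : s ≠ D.neg r) (t u : F) :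
    D.x F s u * D.x F r t = D.x F r t * D.x F s u * D.wordMat F (D.commWord F r s t u) := by
  have hD' := hD
  simp only [Seven, List.mem_cons, List.not_mem_nil, or_false] at hD
  rcases hD with rfl | rfl | rfl | rfl | rfl | rfl | rfl
  · exact comm_of_rows chevG2 chkComm_G2 r hr s hs hrs hneg t u
  · exact comm_of_rows chevB2 chkComm_B2 r hr s hs hrs hneg t u
  · exact comm_of_rows chevD4 chkComm_D4 r hr s hs hrs hneg t u
  · exact comm_of_rows chevF4 chkComm_F4 r hr s hs hrs hneg t u
  · exact comm_of_tree chevE6 hD' chkSL_E6 _ (by decide) treeE6 chkTree_E6 chkEdges_E6 chkBase_E6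
      r hr s hs hrs hneg t u
  · exact comm_of_tree chevE7 hD' chkSL_E7 _ (by decide) treeE7 chkTree_E7 chkEdges_E7 chkBase_E7
      r hr s hs hrs hneg t u
  · exact comm_of_tree chevE8 hD' chkSL_E8 _ (by decide) treeE8 chkTree_E8 chkEdges_E8 chkBase_E8
      r hr s hs hrs hneg t u

end Cfsg.Agent.Lib.Helper5.ChevStruct
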