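import Mathlib
import Cfsg.Prelude.Def_ChevStructure
import Cfsg.Agent.Lib.Helper5.ChevComm
import Cfsg.Agent.Lib.Helper5.ChevChk.UpAll
import Cfsg.Agent.Lib.Helper5.ChevNormal

set_option autoImplicit false

/-!
For a fundamental root `p`, the subgroup `U_p` generated by the `X_s`, `s` positive, `s ≠ p`, is
normalised by `X_p` and `X_{-p}`, and `U = ⟨U_p, X_p⟩`.
-/

namespace Cfsg.Agent.Lib.Helper5.ChevStruct

open Cfsg Cfsg.Lie Cfsg.Agent.Lib.Helper5.ChevSym

variable {F : Type*} [Field F]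

/-- the subgroup `U_p` -/
def upSub (D : ChevalleyDatum) (F : Type*) [Field F] (p : ℕ) : Subgroup (GL D.Idx F) :=
  Subgroup.closure {g : GL D.Idx F | ∃ (s : ℕ) (t : F), D.IsPosRoot s ∧ s ≠ p ∧
    (g : Matrix D.Idx D.Idx F) = D.x F s t}

theorem xGL_mem_upSub (D : ChevalleyDatum) (hD : D ∈ Seven) (p s : ℕ) (hs : D.IsPosRoot s)
    (hsp : s ≠ p) (t : F) : xGL D hD s t ∈ upSub D F p :=
  Subgroup.subset_closure ⟨s, t, hs, hsp, rfl⟩

theorem wordGL_mem_upSub (D : ChevalleyDatum) (hD : D ∈ Seven) (p : ℕ) (w : List (ℕ × F))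
    (hw : ∀ q ∈ w, D.IsPosRoot q.1 ∧ q.1 ≠ p) : wordGL D hD w ∈ upSub D F p := by
  unfold wordGL
  apply Subgroup.list_prod_mem
  intro g hg
  rw [List.mem_map] at hg
  obtain ⟨q, hq, rfl⟩ := hg
  exact xGL_mem_upSub D hD p q.1 (hw q hq).1 (hw q hq).2 q.2

/-- conjugating a generator of `U_p` by `x_r(t)`, `r = ±p` -/
theorem conj_gen_mem_upSub (D : ChevalleyDatum) (hD : D ∈ Seven) (p r : ℕ) (hr : r < D.nroots)
    (hterms : ∀ s, D.IsPosRoot s → s ≠ p → s ≠ r ∧ s ≠ D.neg r ∧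
      ∀ c ∈ D.commTerms r s, D.IsPosRoot c.1 ∧ c.1 ≠ p)
    (x : GL D.Idx F) (t : F) (hx : (x : Matrix D.Idx D.Idx F) = D.x F r t)
    (g : GL D.Idx F) (hg : g ∈ upSub D F p) : x * g * x⁻¹ ∈ upSub D F p := by
  have hxinv : ((x⁻¹ : GL D.Idx F) : Matrix D.Idx D.Idx F) = D.x F r (-t) := by
    apply val_inv_eq_of_mul_eq_one
    rw [hx]
    exact x_mul_neg D hD r t
  unfold upSub at hg
  induction hg using Subgroup.closure_induction with
  | mem y hy =>
    obtain ⟨s, u, hs, hsp, hy⟩ := hy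
    obtain ⟨hsr, hsn, hc⟩ := hterms s hs hsp
    have hform := comm_formula D hD r s hr hs.1 hsr hsn (-t) u
    have e : x * y * x⁻¹ = xGL D hD s u * wordGL D hD (D.commWord F r s (-t) u) := by
      apply Units.ext
      rw [Units.val_mul, Units.val_mul, Units.val_mul, hx, hy, hxinv, xGL_val, wordGL_val,
        mul_assoc, hform, ← mul_assoc, ← mul_assoc, x_mul_neg D hD, one_mul]
    rw [e]
    apply mul_mem (xGL_mem_upSub D hD p s hs hsp u)
    apply wordGL_mem_upSub
    intro q hq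
    unfold ChevalleyDatum.commWord at hq
    rw [List.mem_map] at hq
    obtain ⟨c, hc', rfl⟩ := hq
    exact hc c hc'
  | one =>
    simp only [mul_one, mul_inv_cancel]
    exact one_mem _
  | mul a b _ _ ha hb =>
    have e : x * (a * b) * x⁻¹ = (x * a * x⁻¹) * (x * b * x⁻¹) := by group
    rw [e]
    exact mul_mem ha hb
  | inv a _ ha =>
    have e : x * a⁻¹ * x⁻¹ = (x * a * x⁻¹)⁻¹ := by group
    rw [e]
    exact inv_mem ha

/-- `X_r ≤ N(U_p)` for `r = ±p` -/
theorem rootSubgroup_le_normalizer_upSub (D : ChevalleyDatum) (hD : D ∈ Seven) (p r : ℕ)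
    (hr : r < D.nroots)
    (hterms : ∀ s, D.IsPosRoot s → s ≠ p → s ≠ r ∧ s ≠ D.neg r ∧
      ∀ c ∈ D.commTerms r s, D.IsPosRoot c.1 ∧ c.1 ≠ p) :
    D.rootSubgroup F r ≤ Subgroup.normalizer (upSub D F p : Set (GL D.Idx F)) := by
  unfold ChevalleyDatum.rootSubgroup
  rw [Subgroup.closure_le]
  rintro x ⟨t, hx⟩
  have hxinv : ((x⁻¹ : GL D.Idx F) : Matrix D.Idx D.Idx F) = D.x F r (-t) := by
    apply val_inv_eq_of_mul_eq_one
    rw [hx]
    exact x_mul_neg D hD r t
  show x ∈ Subgroup.normalizer (upSub D F p : Set (GL D.Idx F))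
  rw [Subgroup.mem_normalizer_iff]
  intro g
  constructor
  · exact conj_gen_mem_upSub D hD p r hr hterms x t hx g
  · intro hg
    have := conj_gen_mem_upSub D hD p r hr hterms x⁻¹ (-t) hxinv _ hg
    have e : x⁻¹ * (x * g * x⁻¹) * x⁻¹⁻¹ = g := by group
    rwa [e] at this

/-- `X_p`, `X_{-p}` normalise `U_p`, and `U = ⟨U_p, X_p⟩` -/
theorem upSub_facts (D : ChevalleyDatum) (hD : D ∈ Seven) (i : ℕ) (hi : i < D.rank) :
    D.rootSubgroup F (D.simple i) ⊔ D.rootSubgroup F (D.neg (D.simple i)) ≤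
        Subgroup.normalizer (upSub D F (D.simple i) : Set (GL D.Idx F)) ∧
      upSub D F (D.simple i) ⊔ D.rootSubgroup F (D.simple i) = D.posUnipotent F := by
  obtain ⟨hp, hnp, hnn, hnlt, hall⟩ := checkUp_spec D i (chkUp_all D hD i hi)
  constructor
  · apply sup_le
    · apply rootSubgroup_le_normalizer_upSub D hD _ _ hp.1
      intro s hs hsp
      refine ⟨hsp, fun h => hnp (h ▸ hs), (hall s hs hsp).1⟩
    · apply rootSubgroup_le_normalizer_upSub D hD _ _ hnlt
      intro s hs hsp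
      refine ⟨fun h => hnp (h ▸ hs), ?_, (hall s hs hsp).2⟩
      rw [hnn]
      exact hsp
  · apply le_antisymm
    · apply sup_le
      · unfold upSub ChevalleyDatum.posUnipotent
        apply Subgroup.closure_mono
        rintro g ⟨s, t, hs, _, hg⟩
        exact ⟨s, t, hs, hg⟩
      · unfold ChevalleyDatum.rootSubgroup ChevalleyDatum.posUnipotent
        apply Subgroup.closure_mono
        rintro g ⟨t, hg⟩
        exact ⟨_, t, hp, hg⟩
    · unfold ChevalleyDatum.posUnipotent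
      rw [Subgroup.closure_le]
      rintro g ⟨s, t, hs, hg⟩
      by_cases hsp : s = D.simple i
      · apply Subgroup.mem_sup_right
        unfold ChevalleyDatum.rootSubgroup
        apply Subgroup.subset_closure
        exact ⟨t, hsp ▸ hg⟩
      · apply Subgroup.mem_sup_left
        exact Subgroup.subset_closure ⟨s, t, hs, hsp, hg⟩

end Cfsg.Agent.Lib.Helper5.ChevStruct
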