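import Mathlib
import Cfsg.Prelude.Def_ChevStructure

set_option autoImplicit false

/-!
Words in the fundamental reflections acting on roots; a checker for a word mapping the positive
roots onto the negative ones.
-/

namespace Cfsg.Agent.Lib.Helper5.ChevSym

open Cfsg Cfsg.Lie

def canonN (f : ℕ → ℕ) : ℕ → ℕ
  | 0 => f 0
  | k + 1 => f (Nat.succ k)

theorem canonN_eq (f : ℕ → ℕ) (n : ℕ) : canonN f n = f n := by cases n <;> rfl

/-- the action of the word `w` of fundamental reflections on the root `r`
(the last letter acts first) -/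
def wAct (D : ChevalleyDatum) (w : List ℕ) (r : ℕ) : ℕ :=
  w.foldr (fun i r => D.reflectRoot i r) r

/-- the same, in a shape in which the kernel shares work -/
def wActC (D : ChevalleyDatum) (w : List ℕ) (r : ℕ) : ℕ :=
  w.foldr (fun i r => canonN (fun r => D.reflectRoot i r) r) r

theorem wActC_eq (D : ChevalleyDatum) (w : List ℕ) (r : ℕ) : wActC D w r = wAct D w r := by
  unfold wActC wAct
  induction w with
  | nil => rfl
  | cons i w ih => rw [List.foldr_cons, List.foldr_cons, canonN_eq, ih]

def checkW0 (D : ChevalleyDatum) (w : List ℕ) : Bool :=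
  w.all (fun i => Nat.blt i D.rank) &&
  (List.range D.nroots).all fun r =>
    (!(decide (D.IsPosRoot r)) || decide (D.IsNegRoot (wActC D w r))) &&
    (!(decide (D.IsNegRoot r)) || decide (D.IsPosRoot (wActC D w.reverse r)))

end Cfsg.Agent.Lib.Helper5.ChevSym
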