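import Mathlib
import Cfsg.Prelude.Def_ChevStructure
import Cfsg.Agent.Lib.Helper5.ChevConj
import Cfsg.Agent.Lib.Helper5.ChevW0Def
import Cfsg.Agent.Lib.Helper5.ChevXGL
import Cfsg.Agent.Lib.Helper5.ChevCartanRow

set_option autoImplicit false

/-!
An element of `N` conjugating `U` onto `V`.
-/

namespace Cfsg.Agent.Lib.Helper5.ChevStruct

open Cfsg Cfsg.Lie Cfsg.Agent.Lib.Helper5.ChevSym

variable {F : Type*} [Field F]

theorem wAct_append (D : ChevalleyDatum) (w1 w2 : List ℕ) (r : ℕ) :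
    wAct D (w1 ++ w2) r = wAct D w1 (wAct D w2 r) := by
  unfold wAct
  rw [List.foldr_append]

theorem wAct_lt (D : ChevalleyDatum) (hD : D ∈ Seven) (w : List ℕ) (hw : ∀ i ∈ w, i < D.rank)
    (r : ℕ) (hr : r < D.nroots) : wAct D w r < D.nroots := by
  induction w with
  | nil => exact hr
  | cons i w ih =>
    exact (reflectRoot_invol D hD i (hw i (List.mem_cons_self ..)) _
      (ih fun j hj => hw j (List.mem_cons_of_mem _ hj))).1

theorem wAct_reverse (D : ChevalleyDatum) (hD : D ∈ Seven) (w : List ℕ)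
    (hw : ∀ i ∈ w, i < D.rank) (r : ℕ) (hr : r < D.nroots) :
    wAct D w (wAct D w.reverse r) = r := by
  induction w generalizing r with
  | nil => rfl
  | cons i w ih =>
    have hi := hw i (List.mem_cons_self ..)
    have hw' : ∀ j ∈ w, j < D.rank := fun j hj => hw j (List.mem_cons_of_mem _ hj)
    rw [List.reverse_cons, wAct_append]
    have e1 : wAct D [i] r = D.reflectRoot i r := rfl
    have e2 : ∀ x, wAct D (i :: w) x = D.reflectRoot i (wAct D w x) := fun x => rfl
    rw [e1, e2, ih hw' _ (reflectRoot_invol D hD i hi r hr).1]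
    exact (reflectRoot_invol D hD i hi r hr).2

/-- the element `n_{p_i}` of `GL` -/
def nGL (D : ChevalleyDatum) (hD : D ∈ Seven) (i : ℕ) : GL D.Idx F :=
  wordGL D hD (D.nWord (D.simple i) (1 : F))

theorem nGL_val (D : ChevalleyDatum) (hD : D ∈ Seven) (i : ℕ) :
    ((nGL D hD i : GL D.Idx F) : Matrix D.Idx D.Idx F) = D.nMat F (D.simple i) 1 :=
  wordGL_val D hD _

theorem nGL_mem (D : ChevalleyDatum) (hD : D ∈ Seven) (i : ℕ) (hi : i < D.rank) :
    (nGL D hD i : GL D.Idx F) ∈ D.monomialSubgroup F := by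
  unfold ChevalleyDatum.monomialSubgroup
  apply Subgroup.mem_sup_right
  apply Subgroup.subset_closure
  exact ⟨D.simple i, (checkRows_spec D (checkRows_all D hD) i hi).2.1, nGL_val D hD i⟩

/-- conjugation by `n_{p_i}` in `GL` -/
theorem nGL_conj (D : ChevalleyDatum) (hD : D ∈ Seven) (i : ℕ) (hi : i < D.rank) (r : ℕ)
    (hr : r < D.nroots) (t : F) (x : GL D.Idx F) (hx : (x : Matrix D.Idx D.Idx F) = D.x F r t) :
    ((nGL D hD i * x * (nGL D hD i)⁻¹ : GL D.Idx F) : Matrix D.Idx D.Idx F)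
      = D.x F (D.reflectRoot i r) ((eta D i r : F) * t) := by
  rw [Units.val_mul, Units.val_mul, hx, nGL_val, nMat_simple_conj_x D hD i r hi hr t, mul_assoc,
    ← nGL_val D hD i, ← Units.val_mul, mul_inv_cancel, Units.val_one, mul_one]

/-- the element of `N` attached to a word in the fundamental reflections -/
def wGL (D : ChevalleyDatum) (hD : D ∈ Seven) (w : List ℕ) : GL D.Idx F :=
  (w.map fun i => (nGL D hD i : GL D.Idx F)).prod

theorem wGL_mem (D : ChevalleyDatum) (hD : D ∈ Seven) (w : List ℕ) (hw : ∀ i ∈ w, i < D.rank) :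
    (wGL D hD w : GL D.Idx F) ∈ D.monomialSubgroup F := by
  unfold wGL
  apply Subgroup.list_prod_mem
  intro g hg
  rw [List.mem_map] at hg
  obtain ⟨i, hi, rfl⟩ := hg
  exact nGL_mem D hD i (hw i hi)

theorem wGL_conj (D : ChevalleyDatum) (hD : D ∈ Seven) (w : List ℕ) (hw : ∀ i ∈ w, i < D.rank)
    (r : ℕ) (hr : r < D.nroots) :
    ∃ ε : F, (ε = 1 ∨ ε = -1) ∧ ∀ (t : F) (x : GL D.Idx F),
      (x : Matrix D.Idx D.Idx F) = D.x F r t →
      ((wGL D hD w * x * (wGL D hD w)⁻¹ : GL D.Idx F) : Matrix D.Idx D.Idx F)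
        = D.x F (wAct D w r) (ε * t) := by
  induction w with
  | nil =>
    refine ⟨1, Or.inl rfl, fun t x hx => ?_⟩
    simp [wGL, wAct, hx]
  | cons i w ih =>
    have hi := hw i (List.mem_cons_self ..)
    have hw' : ∀ j ∈ w, j < D.rank := fun j hj => hw j (List.mem_cons_of_mem _ hj)
    obtain ⟨ε, hε, h⟩ := ih hw'
    have hr' := wAct_lt D hD w hw' r hr
    refine ⟨(eta D i (wAct D w r) : F) * ε, ?_, fun t x hx => ?_⟩
    · rcases eta_sq D hD i hi _ hr' with h1 | h1 <;> rcases hε with h2 | h2 <;>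
        rw [h1, h2] <;> simp
    · have e1 : (wGL D hD (i :: w) : GL D.Idx F) = nGL D hD i * wGL D hD w := by
        simp [wGL]
      have e2 : (wGL D hD (i :: w) * x * (wGL D hD (i :: w))⁻¹ : GL D.Idx F)
          = nGL D hD i * (wGL D hD w * x * (wGL D hD w)⁻¹) * (nGL D hD i)⁻¹ := by
        rw [e1]
        group
      rw [e2, nGL_conj D hD i hi _ hr' (ε * t) _ (h t x hx), mul_assoc]
      rfl

theorem xGL_mem_neg (D : ChevalleyDatum) (hD : D ∈ Seven) (r : ℕ) (hr : D.IsNegRoot r) (t : F) :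
    xGL D hD r t ∈ D.negUnipotent F :=
  Subgroup.subset_closure ⟨r, t, hr, rfl⟩

/-- a word mapping the positive roots onto the negative roots gives an element of `N`
conjugating `U` onto `V` -/
theorem conj_pos_eq_neg (D : ChevalleyDatum) (hD : D ∈ Seven) (w : List ℕ)
    (h : checkW0 D w = true) :
    ∃ n ∈ D.monomialSubgroup F,
      (D.posUnipotent F).map (MulAut.conj n).toMonoidHom = D.negUnipotent F := by
  unfold checkW0 at h
  rw [Bool.and_eq_true, List.all_eq_true, List.all_eq_true] at h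
  obtain ⟨hw, hroots⟩ := h
  have hw' : ∀ i ∈ w, i < D.rank := fun i hi => by
    have := hw i hi
    rwa [Nat.blt_eq] at this
  have hpos : ∀ r, D.IsPosRoot r → D.IsNegRoot (wAct D w r) := by
    intro r hr
    have := hroots r (List.mem_range.2 hr.1)
    rw [Bool.and_eq_true, Bool.or_eq_true, Bool.or_eq_true, wActC_eq, wActC_eq] at this
    rcases this.1 with h1 | h1
    · simp [hr] at h1
    · exact of_decide_eq_true h1
  have hneg : ∀ r, D.IsNegRoot r → D.IsPosRoot (wAct D w.reverse r) := by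
    intro r hr
    have := hroots r (List.mem_range.2 hr.1)
    rw [Bool.and_eq_true, Bool.or_eq_true, Bool.or_eq_true, wActC_eq, wActC_eq] at this
    rcases this.2 with h1 | h1
    · simp [hr] at h1
    · exact of_decide_eq_true h1
  refine ⟨wGL D hD w, wGL_mem D hD w hw', ?_⟩
  apply le_antisymm
  · unfold ChevalleyDatum.posUnipotent
    rw [MonoidHom.map_closure, Subgroup.closure_le]
    rintro g ⟨x, ⟨r, t, hr, hx⟩, rfl⟩
    obtain ⟨ε, _, hconj⟩ := wGL_conj (F := F) D hD w hw' r hr.1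
    apply Subgroup.subset_closure
    refine ⟨wAct D w r, ε * t, hpos r hr, ?_⟩
    exact hconj t x hx
  · unfold ChevalleyDatum.negUnipotent
    rw [Subgroup.closure_le]
    rintro g ⟨r', t', hr', hg⟩
    have hr := hneg r' hr'
    obtain ⟨ε, hε, hconj⟩ := wGL_conj (F := F) D hD w hw' (wAct D w.reverse r') hr.1
    have hεε : ε * (ε * t') = t' := by
      rcases hε with h1 | h1 <;> rw [h1] <;> simp
    have hval := hconj (ε * t') (xGL D hD _ (ε * t')) rfl
    rw [wAct_reverse D hD w hw' r' hr'.1, hεε] at hval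
    have hg' : g = (MulAut.conj (wGL D hD w)).toMonoidHom
        (xGL D hD (wAct D w.reverse r') (ε * t')) := by
      apply Units.ext
      rw [hg]
      exact hval.symm
    rw [hg']
    exact Subgroup.mem_map_of_mem _ (Subgroup.subset_closure ⟨_, _, hr, rfl⟩)

end Cfsg.Agent.Lib.Helper5.ChevStruct
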