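import Mathlib
import Cfsg.Prelude.Def_ChevStructure
import Cfsg.Agent.Lib.Helper5.ChevUp
import Cfsg.Agent.Lib.Helper5.ChevW0
import Cfsg.Agent.Lib.Helper5.ChevChk.AddAll
import Cfsg.Agent.Lib.Helper5.ChevGen
import Cfsg.Agent.Lib.Helper5.ChevNormal
import Cfsg.Agent.Lib.Helper5.ChevTorusAct

set_option autoImplicit false

/-!
`B ∪ B n_p B` is a subgroup, for a fundamental root `p`.
-/

namespace Cfsg.Agent.Lib.Helper5.ChevStruct

open Cfsg Cfsg.Lie Cfsg.Agent.Lib.Helper5.ChevSym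

variable {F : Type*} [Field F]

/-- abstract criterion: `B ∪ B n B` is a subgroup as soon as `n⁻¹ ∈ B n B` and
`n B n ⊆ B ∪ B n B` -/
theorem bnb_subgroup {G : Type*} [Group G] (B : Subgroup G) (n : G)
    (hinv : n⁻¹ ∈ DoubleCoset.doubleCoset n (B : Set G) B)
    (hnn : ∀ b ∈ B, n * b * n ∈ (B : Set G) ∪ DoubleCoset.doubleCoset n (B : Set G) B) :
    ∃ P : Subgroup G, (P : Set G) = (B : Set G) ∪ DoubleCoset.doubleCoset n (B : Set G) B := by
  set T : Set G := (B : Set G) ∪ DoubleCoset.doubleCoset n (B : Set G) B with hT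
  have hBT : ∀ b ∈ B, ∀ x ∈ T, b * x ∈ T := by
    intro b hb x hx
    rcases hx with hx | hx
    · exact Or.inl (B.mul_mem hb hx)
    · right
      rw [DoubleCoset.mem_doubleCoset] at hx ⊢
      obtain ⟨b1, hb1, b2, hb2, rfl⟩ := hx
      exact ⟨b * b1, B.mul_mem hb hb1, b2, hb2, by group⟩
  have hTB : ∀ b ∈ B, ∀ x ∈ T, x * b ∈ T := by
    intro b hb x hx
    rcases hx with hx | hx
    · exact Or.inl (B.mul_mem hx hb)
    · right
      rw [DoubleCoset.mem_doubleCoset] at hx ⊢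
      obtain ⟨b1, hb1, b2, hb2, rfl⟩ := hx
      exact ⟨b1, hb1, b2 * b, B.mul_mem hb2 hb, by group⟩
  refine ⟨{ carrier := T, mul_mem' := ?_, one_mem' := Or.inl B.one_mem, inv_mem' := ?_ }, rfl⟩
  · intro x y hx hy
    rcases hx with hx | hx
    · exact hBT x hx y hy
    · rcases hy with hy | hy
      · exact hTB y hy x (Or.inr hx)
      · rw [DoubleCoset.mem_doubleCoset] at hx hy
        obtain ⟨b1, hb1, b2, hb2, rfl⟩ := hx
        obtain ⟨b3, hb3, b4, hb4, rfl⟩ := hy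
        have e : b1 * n * b2 * (b3 * n * b4) = b1 * (n * (b2 * b3) * n) * b4 := by group
        rw [e]
        exact hTB b4 hb4 _ (hBT b1 hb1 _ (hnn _ (B.mul_mem hb2 hb3)))
  · intro x hx
    rcases hx with hx | hx
    · exact Or.inl (B.inv_mem hx)
    · rw [DoubleCoset.mem_doubleCoset] at hx
      obtain ⟨b1, hb1, b2, hb2, rfl⟩ := hx
      have e : (b1 * n * b2)⁻¹ = b2⁻¹ * n⁻¹ * b1⁻¹ := by group
      rw [e]
      exact hTB _ (B.inv_mem hb1) _ (hBT _ (B.inv_mem hb2) _ (Or.inr hinv))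

/-- the elements of a root subgroup -/
theorem mem_rootSubgroup (D : ChevalleyDatum) (hD : D ∈ Seven) (r : ℕ) (g : GL D.Idx F)
    (hg : g ∈ D.rootSubgroup F r) : ∃ t : F, (g : Matrix D.Idx D.Idx F) = D.x F r t := by
  unfold ChevalleyDatum.rootSubgroup at hg
  induction hg using Subgroup.closure_induction with
  | mem y hy => exact hy
  | one => exact ⟨0, by rw [x_at_zero]; rfl⟩
  | mul a b _ _ ha hb =>
    obtain ⟨t1, h1⟩ := ha
    obtain ⟨t2, h2⟩ := hb
    exact ⟨t1 + t2, by rw [Units.val_mul, h1, h2, x_add D hD]⟩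
  | inv a _ ha =>
    obtain ⟨t, h⟩ := ha
    refine ⟨-t, ?_⟩
    apply val_inv_eq_of_mul_eq_one
    rw [h]
    exact x_mul_neg D hD r t

theorem xGL_mem_rootSubgroup (D : ChevalleyDatum) (hD : D ∈ Seven) (r : ℕ) (t : F) :
    xGL D hD r t ∈ D.rootSubgroup F r :=
  Subgroup.subset_closure ⟨t, rfl⟩

/-- `n_p ∈ ⟨X_p, X_{-p}⟩` -/
theorem nGL_mem_sup (D : ChevalleyDatum) (hD : D ∈ Seven) (i : ℕ) :
    (nGL D hD i : GL D.Idx F) ∈
      D.rootSubgroup F (D.simple i) ⊔ D.rootSubgroup F (D.neg (D.simple i)) := by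
  have e : (nGL D hD i : GL D.Idx F) = xGL D hD (D.simple i) 1 *
      xGL D hD (D.neg (D.simple i)) (-(1 : F)⁻¹) * xGL D hD (D.simple i) 1 := by
    apply Units.ext
    rw [nGL_val, nMat_eq, Units.val_mul, Units.val_mul, xGL_val, xGL_val]
  rw [e]
  apply mul_mem (mul_mem _ _)
  · exact Subgroup.mem_sup_left (xGL_mem_rootSubgroup D hD _ _)
  · exact Subgroup.mem_sup_left (xGL_mem_rootSubgroup D hD _ _)
  · exact Subgroup.mem_sup_right (xGL_mem_rootSubgroup D hD _ _)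

/-- `n_p` normalises `U_p` -/
theorem nGL_conj_upSub (D : ChevalleyDatum) (hD : D ∈ Seven) (i : ℕ) (hi : i < D.rank)
    (g : GL D.Idx F) (hg : g ∈ upSub D F (D.simple i)) :
    nGL D hD i * g * (nGL D hD i)⁻¹ ∈ upSub D F (D.simple i) ∧
      (nGL D hD i)⁻¹ * g * nGL D hD i ∈ upSub D F (D.simple i) := by
  have hn := (upSub_facts (F := F) D hD i hi).1 (nGL_mem_sup D hD i)
  constructor
  · exact (Subgroup.mem_normalizer_iff.1 hn g).1 hg
  · have hn' := Subgroup.inv_mem _ hn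
    have := (Subgroup.mem_normalizer_iff.1 hn' g).1 hg
    rwa [inv_inv] at this

/-- `U = U_p X_p` -/
theorem pos_decomp (D : ChevalleyDatum) (hD : D ∈ Seven) (i : ℕ) (hi : i < D.rank)
    (u : GL D.Idx F) (hu : u ∈ D.posUnipotent F) :
    ∃ u' ∈ upSub D F (D.simple i), ∃ t : F, u = u' * xGL D hD (D.simple i) t := by
  obtain ⟨hnorm, hsup⟩ := upSub_facts (F := F) D hD i hi
  rw [← hsup] at hu
  have hle : D.rootSubgroup F (D.simple i) ≤
      Subgroup.normalizer (upSub D F (D.simple i) : Set (GL D.Idx F)) := le_trans le_sup_left hnorm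
  have hu' : u ∈ ((upSub D F (D.simple i) ⊔ D.rootSubgroup F (D.simple i) :
      Subgroup (GL D.Idx F)) : Set (GL D.Idx F)) := hu
  rw [Subgroup.coe_mul_of_right_le_normalizer_left _ _ hle] at hu'
  obtain ⟨u', hu'mem, x, hx, rfl⟩ := Set.mem_mul.1 hu'
  obtain ⟨t, ht⟩ := mem_rootSubgroup D hD _ x hx
  refine ⟨u', hu'mem, t, ?_⟩
  congr 1
  exact Units.ext ht

/-- `B = U_p X_p H` -/
theorem borel_decomp (D : ChevalleyDatum) (hD : D ∈ Seven) (i : ℕ) (hi : i < D.rank)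
    (b : GL D.Idx F) (hb : b ∈ D.borelSubgroup F) :
    ∃ u' ∈ upSub D F (D.simple i), ∃ t : F, ∃ h ∈ D.diagonalSubgroup F,
      b = u' * xGL D hD (D.simple i) t * h := by
  unfold ChevalleyDatum.borelSubgroup at hb
  have hb' : b ∈ ((D.posUnipotent F ⊔ D.diagonalSubgroup F : Subgroup (GL D.Idx F)) :
      Set (GL D.Idx F)) := hb
  rw [Subgroup.coe_mul_of_right_le_normalizer_left _ _ (diagonal_le_normalizer_pos D hD)] at hb'
  obtain ⟨u, hu, h, hh, rfl⟩ := Set.mem_mul.1 hb'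
  obtain ⟨u', hu', t, rfl⟩ := pos_decomp D hD i hi u hu
  exact ⟨u', hu', t, h, hh, rfl⟩

theorem upSub_le_pos (D : ChevalleyDatum) (p : ℕ) : upSub D F p ≤ D.posUnipotent F := by
  unfold upSub ChevalleyDatum.posUnipotent
  apply Subgroup.closure_mono
  rintro g ⟨s, t, hs, _, hg⟩
  exact ⟨s, t, hs, hg⟩

theorem pos_le_borel (D : ChevalleyDatum) : D.posUnipotent F ≤ D.borelSubgroup F := by
  unfold ChevalleyDatum.borelSubgroup
  exact le_sup_left

theorem diagonal_le_borel (D : ChevalleyDatum) : D.diagonalSubgroup F ≤ D.borelSubgroup F := by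
  unfold ChevalleyDatum.borelSubgroup
  exact le_sup_right

/-- `n_p² = h_p(-1) ∈ H` -/
theorem nGL_sq_mem (D : ChevalleyDatum) (hD : D ∈ Seven) (i : ℕ) (hi : i < D.rank) :
    (nGL D hD i * nGL D hD i : GL D.Idx F) ∈ D.diagonalSubgroup F ∧
      ((nGL D hD i)⁻¹ * (nGL D hD i)⁻¹ : GL D.Idx F) ∈ D.diagonalSubgroup F := by
  have hr : D.simple i < D.nroots := (checkRows_spec D (checkRows_all D hD) i hi).2.1
  -- `h_p(-1) = n_p(-1) n_p(-1)`, and `n_p(-1) = n_p(1)⁻¹`
  have hinv : ((nGL D hD i)⁻¹ : GL D.Idx F).val = D.nMat F (D.simple i) (-1) := by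
    apply val_inv_eq_of_mul_eq_one
    rw [nGL_val]
    exact nMat_mul_neg D hD _ 1
  have hmem : ((nGL D hD i)⁻¹ * (nGL D hD i)⁻¹ : GL D.Idx F) ∈ D.diagonalSubgroup F := by
    apply mem_diagonal_of_val D _ (D.simple i) hr (-1) (by simp)
    rw [Units.val_mul, hinv, hMat_eq]
  refine ⟨?_, hmem⟩
  have := Subgroup.inv_mem _ hmem
  rwa [mul_inv_rev, inv_inv] at this

/-- `x_{-p}(t) ∈ B ∪ B n_p B` -/
theorem xGL_neg_mem_bnb (D : ChevalleyDatum) (hD : D ∈ Seven) (i : ℕ) (hi : i < D.rank) (t : F) :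
    xGL D hD (D.neg (D.simple i)) t ∈ (D.borelSubgroup F : Set (GL D.Idx F)) ∪
      DoubleCoset.doubleCoset (nGL D hD i) (D.borelSubgroup F : Set (GL D.Idx F))
        (D.borelSubgroup F) := by
  have hr : D.simple i < D.nroots := (checkRows_spec D (checkRows_all D hD) i hi).2.1
  obtain ⟨hp, -, -, -, -⟩ := checkUp_spec D i (chkUp_all D hD i hi)
  by_cases ht : t = 0
  · left
    have : xGL D hD (D.neg (D.simple i)) t = 1 := by
      apply Units.ext
      rw [xGL_val, ht, x_at_zero]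
      rfl
    rw [this]
    exact (D.borelSubgroup F).one_mem
  · right
    rw [DoubleCoset.mem_doubleCoset]
    -- `n_p(s) = x_p(s) x_{-p}(t) x_p(s)` with `s = -t⁻¹`
    have hs : -t⁻¹ ≠ 0 := by simpa using ht
    -- the element `h_p(s)`
    set hh : GL D.Idx F := wordGL D hD (D.hWord (D.simple i) (-t⁻¹)) with hhdef
    have hhval : (hh : Matrix D.Idx D.Idx F) = D.hMat F (D.simple i) (-t⁻¹) := by
      rw [hhdef, wordGL_val]
      rfl
    have hhmem : hh ∈ D.diagonalSubgroup F := mem_diagonal_of_val D hh _ hr _ hs hhval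
    refine ⟨xGL D hD (D.simple i) t⁻¹ * hh, ?_, xGL D hD (D.simple i) t⁻¹, ?_, ?_⟩
    · exact (D.borelSubgroup F).mul_mem (pos_le_borel D (xGL_mem_pos D hD _ hp _))
        (diagonal_le_borel D hhmem)
    · exact pos_le_borel D (xGL_mem_pos D hD _ hp _)
    · apply Units.ext
      rw [Units.val_mul, Units.val_mul, Units.val_mul, xGL_val, xGL_val, hhval, nGL_val,
        mul_assoc (D.x F (D.simple i) t⁻¹), ← nMat_eq_hMat_mul D hD, nMat_eq]
      have hst : -(-t⁻¹)⁻¹ = t := by rw [inv_neg, inv_inv, neg_neg]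
      rw [hst]
      have e1 := x_mul_neg D hD (D.simple i) t⁻¹
      have e2 := x_neg_mul D hD (D.simple i) t⁻¹
      calc D.x F (D.neg (D.simple i)) t
          = (D.x F (D.simple i) t⁻¹ * D.x F (D.simple i) (-t⁻¹)) * D.x F (D.neg (D.simple i)) t *
              (D.x F (D.simple i) (-t⁻¹) * D.x F (D.simple i) t⁻¹) := by
            rw [e1, e2, one_mul, mul_one]
        _ = _ := by simp only [mul_assoc]

/-- `n_p B n_p ⊆ B ∪ B n_p B` -/
theorem nGL_borel_nGL (D : ChevalleyDatum) (hD : D ∈ Seven) (i : ℕ) (hi : i < D.rank)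
    (b : GL D.Idx F) (hb : b ∈ D.borelSubgroup F) :
    nGL D hD i * b * nGL D hD i ∈ (D.borelSubgroup F : Set (GL D.Idx F)) ∪
      DoubleCoset.doubleCoset (nGL D hD i) (D.borelSubgroup F : Set (GL D.Idx F))
        (D.borelSubgroup F) := by
  have hr : D.simple i < D.nroots := (checkRows_spec D (checkRows_all D hD) i hi).2.1
  obtain ⟨u', hu', t, h, hh, rfl⟩ := borel_decomp D hD i hi b hb
  set n : GL D.Idx F := nGL D hD i with hn
  -- `n u' x h n = (n u' n⁻¹) (n x n⁻¹) (n h n⁻¹ n²)`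
  have e : n * (u' * xGL D hD (D.simple i) t * h) * n
      = (n * u' * n⁻¹) * (n * xGL D hD (D.simple i) t * n⁻¹) * ((n * h * n⁻¹) * (n * n)) := by
    group
  rw [e]
  have h1 : n * u' * n⁻¹ ∈ D.borelSubgroup F :=
    pos_le_borel D (upSub_le_pos D _ (nGL_conj_upSub D hD i hi u' hu').1)
  have h3 : (n * h * n⁻¹) * (n * n) ∈ D.borelSubgroup F := by
    apply diagonal_le_borel D
    apply (D.diagonalSubgroup F).mul_mem
    · exact conj_n_diag_mem D hD n _ hr (nGL_val D hD i) h hh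
    · exact (nGL_sq_mem D hD i hi).1
  have h2 : n * xGL D hD (D.simple i) t * n⁻¹
      = xGL D hD (D.neg (D.simple i)) ((eta D i (D.simple i) : F) * t) := by
    apply Units.ext
    rw [nGL_conj D hD i hi _ hr t _ rfl, xGL_val]
    congr 1
    unfold ChevalleyDatum.reflectRoot
    simp only [if_true]
  rw [h2]
  have key := xGL_neg_mem_bnb D hD i hi ((eta D i (D.simple i) : F) * t)
  rcases key with key | key
  · left
    exact (D.borelSubgroup F).mul_mem ((D.borelSubgroup F).mul_mem h1 key) h3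
  · right
    rw [DoubleCoset.mem_doubleCoset] at key ⊢
    obtain ⟨b1, hb1, b2, hb2, hk⟩ := key
    refine ⟨n * u' * n⁻¹ * b1, (D.borelSubgroup F).mul_mem h1 hb1,
      b2 * ((n * h * n⁻¹) * (n * n)), (D.borelSubgroup F).mul_mem hb2 h3, ?_⟩
    rw [hk, ← hn]
    group

/-- `B ∪ B n_p B` is a subgroup -/
theorem borel_union_bnb (D : ChevalleyDatum) (hD : D ∈ Seven) (i : ℕ) (hi : i < D.rank) :
    ∃ P : Subgroup (GL D.Idx F), (P : Set (GL D.Idx F)) =
      (D.borelSubgroup F : Set (GL D.Idx F)) ∪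
        DoubleCoset.doubleCoset (nGL D hD i) (D.borelSubgroup F : Set (GL D.Idx F))
          (D.borelSubgroup F) := by
  apply bnb_subgroup
  · rw [DoubleCoset.mem_doubleCoset]
    refine ⟨1, (D.borelSubgroup F).one_mem, (nGL D hD i)⁻¹ * (nGL D hD i)⁻¹,
      diagonal_le_borel D (nGL_sq_mem D hD i hi).2, ?_⟩
    group
  · exact nGL_borel_nGL D hD i hi

end Cfsg.Agent.Lib.Helper5.ChevStruct
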