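import Mathlib
import Cfsg.Prelude.Def_ChevStructure
import Cfsg.Agent.Lib.Helper5.ChevTreeDef

set_option autoImplicit false

/-!
Table checks for the `(B,N)`-pair of a Chevalley group: a spanning forest of the set of roots
(rooted at the fundamental roots), injectivity of `i ↦ w_i`, and connectedness of the Dynkin diagram.
-/

namespace Cfsg.Agent.Lib.Helper5.ChevSym

open Cfsg Cfsg.Lie

/-- the edges reach every root from the fundamental roots -/
def checkForest (D : ChevalleyDatum) (edges : List (ℕ × ℕ)) : Bool :=
  match grow D edges ((List.range D.rank).map D.simple) with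
  | some acc => (List.range D.nroots).all fun r => memNat r acc
  | none => false

theorem of_checkForest (D : ChevalleyDatum) (P : ℕ → Prop) (edges : List (ℕ × ℕ))
    (h : checkForest D edges = true) (h0 : ∀ i < D.rank, P (D.simple i))
    (hstep : ∀ e ∈ edges, e.1 < D.rank → P e.2 → P (D.reflectRoot e.1 e.2)) :
    ∀ r < D.nroots, P r := by
  unfold checkForest at h
  cases hg : grow D edges ((List.range D.rank).map D.simple) with
  | none => rw [hg] at h; simp at h
  | some acc =>
    rw [hg] at h
    simp only [List.all_eq_true] at h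
    intro r hr
    have hmem := (memNat_iff r acc).1 (h r (List.mem_range.2 hr))
    refine grow_invariant D P edges hstep _ acc ?_ hg r hmem
    intro x hx
    rw [List.mem_map] at hx
    obtain ⟨i, hi, rfl⟩ := hx
    exact h0 i (List.mem_range.1 hi)

/-- `w_i(p_j) ≠ -p_j` for `i ≠ j` -/
def checkInjS (D : ChevalleyDatum) : Bool :=
  (List.range D.rank).all fun i => (List.range D.rank).all fun j =>
    Nat.beq i j || !(Nat.beq (D.reflectRoot i (D.simple j)) (D.neg (D.simple j)))

theorem checkInjS_spec (D : ChevalleyDatum) (h : checkInjS D = true) (i j : ℕ) (hi : i < D.rank)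
    (hj : j < D.rank) (he : D.reflectRoot i (D.simple j) = D.neg (D.simple j)) : i = j := by
  unfold checkInjS at h
  rw [List.all_eq_true] at h
  have := h i (List.mem_range.2 hi)
  rw [List.all_eq_true] at this
  have := this j (List.mem_range.2 hj)
  rw [Bool.or_eq_true] at this
  rcases this with h1 | h1
  · exact Nat.eq_of_beq_eq_true h1
  · rw [he] at h1
    have : Nat.beq (D.neg (D.simple j)) (D.neg (D.simple j)) = true := by rw [Nat.beq_eq]
    rw [this] at h1
    exact Bool.noConfusion h1

/-- the condition on an edge `(a, b)` of the Dynkin diagram: `w_a w_b ≠ w_b w_a` at `p_b` -/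
def edgeOK (D : ChevalleyDatum) (e : ℕ × ℕ) : Bool :=
  Nat.blt e.1 D.rank && Nat.blt e.2 D.rank &&
    !(Nat.beq (D.reflectRoot e.1 (D.reflectRoot e.2 (D.simple e.2)))
      (D.reflectRoot e.2 (D.reflectRoot e.1 (D.simple e.2))))

/-- follow the edges of the Dynkin diagram -/
def growC (D : ChevalleyDatum) : List (ℕ × ℕ) → List ℕ → Option (List ℕ)
  | [], acc => some acc
  | e :: es, acc =>
    bif memNat e.1 acc && edgeOK D e then growC D es (e.2 :: acc) else none

/-- the edges form a connected graph on the fundamental roots, starting from `p_0` -/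
def checkConn (D : ChevalleyDatum) (edges : List (ℕ × ℕ)) : Bool :=
  match growC D edges [0] with
  | some acc => (List.range D.rank).all fun r => memNat r acc
  | none => false

theorem growC_edges (D : ChevalleyDatum) (edges : List (ℕ × ℕ)) :
    ∀ (acc acc' : List ℕ), growC D edges acc = some acc' → ∀ e ∈ edges, edgeOK D e = true := by
  induction edges with
  | nil => intro _ _ _ e he; simp at he
  | cons e es ih =>
    intro acc acc' hg e' he'
    simp only [growC] at hg
    cases hc : (memNat e.1 acc && edgeOK D e) with
    | false => rw [hc] at hg; simp at hg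
    | true =>
      rw [hc, cond_true] at hg
      rw [Bool.and_eq_true] at hc
      rw [List.mem_cons] at he'
      rcases he' with rfl | he'
      · exact hc.2
      · exact ih _ _ hg e' he'

theorem growC_invariant (D : ChevalleyDatum) (P : ℕ → Prop) (edges : List (ℕ × ℕ))
    (hstep : ∀ e ∈ edges, P e.1 → P e.2) :
    ∀ (acc acc' : List ℕ), (∀ r ∈ acc, P r) → growC D edges acc = some acc' →
      ∀ r ∈ acc', P r := by
  induction edges with
  | nil =>
    intro acc acc' hacc hg
    simp only [growC, Option.some.injEq] at hg
    rw [← hg]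
    exact hacc
  | cons e es ih =>
    intro acc acc' hacc hg
    simp only [growC] at hg
    cases hc : (memNat e.1 acc && edgeOK D e) with
    | false => rw [hc] at hg; simp at hg
    | true =>
      rw [hc, cond_true] at hg
      rw [Bool.and_eq_true, memNat_iff] at hc
      apply ih (fun e' he' => hstep e' (List.mem_cons_of_mem _ he')) _ acc' _ hg
      intro r hr
      rw [List.mem_cons] at hr
      rcases hr with rfl | hr
      · exact hstep e (List.mem_cons_self ..) (hacc _ hc.1)
      · exact hacc r hr

theorem edgeOK_spec (D : ChevalleyDatum) (e : ℕ × ℕ) (h : edgeOK D e = true) :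
    e.1 < D.rank ∧ e.2 < D.rank ∧
      D.reflectRoot e.1 (D.reflectRoot e.2 (D.simple e.2)) ≠
        D.reflectRoot e.2 (D.reflectRoot e.1 (D.simple e.2)) := by
  unfold edgeOK at h
  simp only [Bool.and_eq_true, Nat.blt_eq, Bool.not_eq_true'] at h
  refine ⟨h.1.1, h.1.2, fun he => ?_⟩
  have h2 := h.2
  rw [he] at h2
  have : ∀ x : ℕ, Nat.beq x x = true := fun x => by rw [Nat.beq_eq]
  rw [this] at h2
  exact Bool.noConfusion h2

/-- a non-trivial partition of the fundamental roots is crossed by an edge -/
theorem checkConn_spec (D : ChevalleyDatum) (edges : List (ℕ × ℕ))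
    (h : checkConn D edges = true) (p : ℕ → Prop) (hi : ∃ i < D.rank, p i)
    (hj : ∃ j < D.rank, ¬ p j) :
    ∃ e ∈ edges, edgeOK D e = true ∧ ((p e.1 ∧ ¬ p e.2) ∨ (¬ p e.1 ∧ p e.2)) := by
  unfold checkConn at h
  cases hg : growC D edges [0] with
  | none => rw [hg] at h; simp at h
  | some acc =>
    rw [hg] at h
    simp only [List.all_eq_true] at h
    by_contra hcon
    push Not at hcon
    have hstep : ∀ e ∈ edges, (p e.1 ↔ p 0) → (p e.2 ↔ p 0) := by
      intro e he h1
      have hok := growC_edges D edges _ _ hg e he
      have := hcon e he hok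
      by_cases h2 : p e.1
      · have h3 : p e.2 := this.1 h2
        exact ⟨fun _ => h1.1 h2, fun _ => h3⟩
      · have h3 : ¬ p e.2 := fun h3 => this.2 h2 h3
        exact ⟨fun h4 => absurd h4 h3, fun h4 => absurd (h1.2 h4) h2⟩
    have hall : ∀ r ∈ acc, (p r ↔ p 0) := by
      refine growC_invariant D (fun r => p r ↔ p 0) edges hstep [0] acc ?_ hg
      intro r hr
      simp only [List.mem_cons, List.not_mem_nil, or_false] at hr
      rw [hr]
    obtain ⟨i, hi, hpi⟩ := hi
    obtain ⟨j, hj, hpj⟩ := hj
    have h1 := hall i ((memNat_iff i acc).1 (h i (List.mem_range.2 hi)))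
    have h2 := hall j ((memNat_iff j acc).1 (h j (List.mem_range.2 hj)))
    exact hpj (h2.2 (h1.1 hpi))

end Cfsg.Agent.Lib.Helper5.ChevSym
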