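import Mathlib
import Cfsg.Prelude.Def_ChevStructure
import Cfsg.Agent.Lib.Helper5.ChevSymNSound
import Cfsg.Agent.Lib.Helper5.ChevChk.NAll
import Cfsg.Agent.Lib.Helper5.ChevChk.ReflAll
import Cfsg.Agent.Lib.Helper5.ChevChk.HAll
import Cfsg.Agent.Lib.Helper5.ChevTorus

set_option autoImplicit false

/-!
The elements `n_p = n_p(1)` for fundamental roots `p`: signed permutation matrices, and their
action on the `h_{p_j}(t)`.
-/

namespace Cfsg.Agent.Lib.Helper5.ChevStruct

open Cfsg Cfsg.Lie Cfsg.Agent.Lib.Helper5.ChevSym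

variable {F : Type*} [Field F]

/-- the matrix of `n_p`, `p` fundamental -/
theorem nMat_simple (D : ChevalleyDatum)
    (hD : D ∈ [chevG2, chevB2, chevD4, chevF4, chevE6, chevE7, chevE8]) (i : ℕ)
    (hi : i < D.rank) :
    (∀ s < D.nroots, eta D i s = 1 ∨ eta D i s = -1) ∧ eta D i (D.simple i) = -1 ∧
    eta D i (D.neg (D.simple i)) = -1 ∧
    (∀ s < D.nroots, eta D i s * eta D i (D.reflectRoot i s) = (-1) ^ (D.cartan i s).natAbs ∧
      eta D i s * eta D i (D.neg s) = 1) ∧
    D.nMat F (D.simple i) 1 = monoMat D F i (eta D i) :=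
  nMat_of_checkN D i hi (chkN_all D hD i hi)

/-- `n_p h_{p_j}(t) = h_{w_p(p_j)}(t) n_p` -/
theorem nMat_simple_hMat (D : ChevalleyDatum)
    (hD : D ∈ [chevG2, chevB2, chevD4, chevF4, chevE6, chevE7, chevE8]) (i j : ℕ)
    (hi : i < D.rank) (hj : j < D.rank) (t : F) (ht : t ≠ 0) :
    D.nMat F (D.simple i) 1 * D.hMat F (D.simple j) t
      = D.hMat F (D.reflectRoot i (D.simple j)) t * D.nMat F (D.simple i) 1 := by
  obtain ⟨hr', hrefl⟩ := checkRefl_spec D i (chkRefl_all D hD i hi) j hj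
  rw [(nMat_simple D hD i hi).2.2.2.2, hMat_simple D hD j hj t ht,
    hMat_diag D hD _ hr' t ht]
  ext row col
  rw [Matrix.mul_diagonal, Matrix.diagonal_mul]
  rcases row with j' | s' <;> rcases col with j₁ | s
  · simp only [Sum.elim_inl, mul_one, one_mul]
  · simp only [monoMat, Matrix.of_apply, Sum.elim_inl, Sum.elim_inr, zero_mul, mul_zero]
  · simp only [monoMat, Matrix.of_apply, Sum.elim_inl, Sum.elim_inr, zero_mul, mul_zero]
  · simp only [monoMat, Matrix.of_apply, Sum.elim_inr]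
    by_cases h : s'.val = D.reflectRoot i s.val
    · rw [if_pos h, h, hrefl s.val s.2, mul_comm]
    · rw [if_neg h, zero_mul, mul_zero]

end Cfsg.Agent.Lib.Helper5.ChevStruct
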