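import Mathlib
import Cfsg.Prelude.Def_ChevStructure
import Cfsg.Prelude.Def_ChevG2
import Cfsg.Prelude.Def_ChevB2
import Cfsg.Prelude.Def_ChevD4
import Cfsg.Prelude.Def_ChevF4
import Cfsg.Prelude.Def_ChevE6
import Cfsg.Prelude.Def_ChevE7
import Cfsg.Prelude.Def_ChevE8
import Cfsg.Agent.Lib.Helper5.ChevSymCore

set_option autoImplicit false

/-!
Distinct roots have distinct root elements: `x_a(t) = x_b(u)`, `t ≠ 0`, forces `a = b`.
-/

namespace Cfsg.Agent.Lib.Helper5.ChevSym

open Cfsg Cfsg.Lie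

/-- some coefficient of the coroot of `a` has absolute value `m` -/
def hasCo (D : ChevalleyDatum) (a m : ℕ) : Bool :=
  (List.range D.rank).any fun i => Nat.beq ((D.coroot.getD a #[]).getD i 0).natAbs m

theorem hasCo_spec (D : ChevalleyDatum) (a m : ℕ) (h : hasCo D a m = true) :
    ∃ i < D.rank, ((D.coroot.getD a #[]).getD i 0).natAbs = m := by
  unfold hasCo at h
  rw [List.any_eq_true] at h
  obtain ⟨i, hi, h⟩ := h
  exact ⟨i, List.mem_range.1 hi, Nat.eq_of_beq_eq_true h⟩

/-- the coroots are primitive vectors, and `r ↦ -r` is a fixed point free involution -/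
def checkCoPrim (D : ChevalleyDatum) : Bool :=
  (List.range D.nroots).all fun a =>
    canon (fun a => (hasCo D a 1 || (hasCo D a 2 && hasCo D a 3)) &&
      canon (fun na => Nat.blt na D.nroots && !(Nat.beq na a) && Nat.beq (D.neg na) a) (D.neg a)) a

theorem checkCoPrim_spec (D : ChevalleyDatum) (h : checkCoPrim D = true) (a : ℕ)
    (ha : a < D.nroots) :
    ((∃ i < D.rank, ((D.coroot.getD a #[]).getD i 0).natAbs = 1) ∨
      ((∃ i < D.rank, ((D.coroot.getD a #[]).getD i 0).natAbs = 2) ∧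
        (∃ i < D.rank, ((D.coroot.getD a #[]).getD i 0).natAbs = 3))) ∧
    D.neg a < D.nroots ∧ D.neg a ≠ a ∧ D.neg (D.neg a) = a := by
  unfold checkCoPrim at h
  rw [List.all_eq_true] at h
  have := h a (List.mem_range.2 ha)
  rw [canon_eq, canon_eq] at this
  simp only [Bool.and_eq_true, Bool.or_eq_true, Nat.blt_eq, Bool.not_eq_true'] at this
  obtain ⟨h1, ⟨h2, h3⟩, h4⟩ := this
  refine ⟨?_, h2, ?_, Nat.eq_of_beq_eq_true h4⟩
  · rcases h1 with h1 | h1
    · exact Or.inl (hasCo_spec D a 1 h1)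
    · exact Or.inr ⟨hasCo_spec D a 2 h1.1, hasCo_spec D a 3 h1.2⟩
  · intro e
    rw [e] at h3
    have : Nat.beq a a = true := by rw [Nat.beq_eq]
    rw [this] at h3
    exact Bool.noConfusion h3

set_option maxRecDepth 1000000 in
theorem chkCoPrim_G2 : checkCoPrim chevG2 = true := by decide +kernel

set_option maxRecDepth 1000000 in
theorem chkCoPrim_B2 : checkCoPrim chevB2 = true := by decide +kernel

set_option maxRecDepth 1000000 in
theorem chkCoPrim_D4 : checkCoPrim chevD4 = true := by decide +kernel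

set_option maxRecDepth 1000000 in
theorem chkCoPrim_F4 : checkCoPrim chevF4 = true := by decide +kernel

set_option maxRecDepth 1000000 in
theorem chkCoPrim_E6 : checkCoPrim chevE6 = true := by decide +kernel

set_option maxRecDepth 1000000 in
theorem chkCoPrim_E7 : checkCoPrim chevE7 = true := by decide +kernel

set_option maxRecDepth 1000000 in
theorem chkCoPrim_E8 : checkCoPrim chevE8 = true := by decide +kernel

theorem chkCoPrim_all (D : ChevalleyDatum)
    (hD : D ∈ [chevG2, chevB2, chevD4, chevF4, chevE6, chevE7, chevE8]) :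
    checkCoPrim D = true := by
  simp only [List.mem_cons, List.not_mem_nil, or_false] at hD
  rcases hD with rfl | rfl | rfl | rfl | rfl | rfl | rfl
  · exact chkCoPrim_G2
  · exact chkCoPrim_B2
  · exact chkCoPrim_D4
  · exact chkCoPrim_F4
  · exact chkCoPrim_E6
  · exact chkCoPrim_E7
  · exact chkCoPrim_E8

variable {F : Type*} [Field F]

theorem intCast_ne_zero_of_natAbs_one (c : ℤ) (hc : c.natAbs = 1) : (c : F) ≠ 0 := by
  rcases Int.natAbs_eq c with e | e
  · rw [e, hc]; simp
  · rw [e, hc]; simp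

/-- some coefficient of the coroot is non-zero in any field -/
theorem exists_coroot_ne_zero (D : ChevalleyDatum)
    (hD : D ∈ [chevG2, chevB2, chevD4, chevF4, chevE6, chevE7, chevE8]) (a : ℕ)
    (ha : a < D.nroots) :
    ∃ i < D.rank, (((D.coroot.getD a #[]).getD i 0 : ℤ) : F) ≠ 0 := by
  rcases (checkCoPrim_spec D (chkCoPrim_all D hD) a ha).1 with ⟨i, hi, h⟩ | ⟨⟨i, hi, h⟩, ⟨j, hj, h'⟩⟩
  · exact ⟨i, hi, intCast_ne_zero_of_natAbs_one _ h⟩
  · by_cases h2 : (2 : F) = 0
    · refine ⟨j, hj, ?_⟩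
      have h3 : (3 : F) ≠ 0 := by
        have : (3 : F) = 2 + 1 := by norm_num
        rw [this, h2, zero_add]
        exact one_ne_zero
      rcases Int.natAbs_eq ((D.coroot.getD a #[]).getD j 0) with e | e
      · rw [e, h']
        simpa using h3
      · rw [e, h']
        simpa using h3
    · refine ⟨i, hi, ?_⟩
      rcases Int.natAbs_eq ((D.coroot.getD a #[]).getD i 0) with e | e
      · rw [e, h]
        simpa using h2
      · rw [e, h]
        simpa using h2

/-- the Cartan part of the column `e_{-a}` of `x_a(t)` -/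
theorem xMat_inl_neg (D : ChevalleyDatum) (a : Fin D.nroots) (na : Fin D.nroots)
    (hna : na.val = D.neg a.val) (hne : na ≠ a) (t : F) (i : Fin D.rank) :
    D.xMat F a t (Sum.inl i) (Sum.inr na)
      = (((D.coroot.getD a.val #[]).getD i.val 0 : ℤ) : F) * t := by
  unfold ChevalleyDatum.xMat
  simp only [Matrix.of_apply]
  rw [if_neg hne, if_pos (by rw [hna]; rfl)]

/-- the Cartan part of the column `e_{-a}` of `x_b(u)`, `b ≠ a` -/
theorem xMat_inl_neg_ne (D : ChevalleyDatum) (a b : Fin D.nroots) (na : Fin D.nroots)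
    (hna : na.val = D.neg a.val) (hnb : D.neg b.val ≠ D.neg a.val) (u : F) (i : Fin D.rank) :
    D.xMat F b u (Sum.inl i) (Sum.inr na) = 0 := by
  unfold ChevalleyDatum.xMat
  simp only [Matrix.of_apply]
  by_cases h1 : na = b
  · rw [if_pos h1]
  · rw [if_neg h1]
    have : ¬ (na.val = D.negIdx.getD b.val 0) := by
      rw [hna]
      intro e
      exact hnb e.symm
    rw [if_neg this]

/-- distinct roots have distinct root elements -/
theorem x_root_inj (D : ChevalleyDatum)
    (hD : D ∈ [chevG2, chevB2, chevD4, chevF4, chevE6, chevE7, chevE8]) (a b : ℕ)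
    (ha : a < D.nroots) (hb : b < D.nroots) (t u : F) (ht : t ≠ 0)
    (h : D.x F a t = D.x F b u) : a = b := by
  by_contra hab
  obtain ⟨-, hna, hnea, hnna⟩ := checkCoPrim_spec D (chkCoPrim_all D hD) a ha
  obtain ⟨-, hnb, hneb, hnnb⟩ := checkCoPrim_spec D (chkCoPrim_all D hD) b hb
  obtain ⟨i, hi, hci⟩ := exists_coroot_ne_zero (F := F) D hD a ha
  unfold ChevalleyDatum.x at h
  rw [dif_pos ha, dif_pos hb] at h
  have h1 := xMat_inl_neg D ⟨a, ha⟩ ⟨D.neg a, hna⟩ rfl
    (fun e => hnea (congrArg Fin.val e)) t ⟨i, hi⟩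
  have h2 := xMat_inl_neg_ne D ⟨a, ha⟩ ⟨b, hb⟩ ⟨D.neg a, hna⟩ rfl
    (fun e => hab (by rw [← hnna, ← hnnb]; exact (congrArg D.neg e).symm)) u ⟨i, hi⟩
  rw [h, h2] at h1
  rcases mul_eq_zero.1 h1.symm with h3 | h3
  · exact hci h3
  · exact ht h3

end Cfsg.Agent.Lib.Helper5.ChevSym
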