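import Mathlib
import Cfsg.Prelude.Def_ChevStructure
import Cfsg.Agent.Lib.Helper5.ChevBnB
import Cfsg.Agent.Lib.Helper5.ChevXInj
import Cfsg.Agent.Lib.Helper5.ChevNSimple
import Cfsg.Agent.Lib.Helper5.ChevChk.BNAll
import Cfsg.Agent.Lib.Helper5.ChevChk.NegRAll

set_option autoImplicit false

/-!
The monomial subgroup `N` is generated by `H` and the `n_p`, `p` fundamental; every element of `N`
is `n_w h` for a word `w` in the fundamental reflections and `h ∈ H`.
-/

namespace Cfsg.Agent.Lib.Helper5.ChevStruct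

open Cfsg Cfsg.Lie Cfsg.Agent.Lib.Helper5.ChevSym

variable {F : Type*} [Field F]

theorem neg_lt (D : ChevalleyDatum) (hD : D ∈ Seven) (r : ℕ) (hr : r < D.nroots) :
    D.neg r < D.nroots ∧ D.neg r ≠ r ∧ D.neg (D.neg r) = r :=
  (checkCoPrim_spec D (chkCoPrim_all D hD) r hr).2

theorem reflectRoot_neg (D : ChevalleyDatum) (hD : D ∈ Seven) (i : ℕ) (hi : i < D.rank) (r : ℕ)
    (hr : r < D.nroots) : D.reflectRoot i (D.neg r) = D.neg (D.reflectRoot i r) :=
  checkNegRefl_spec D i (chkNegR_all D hD i hi) r hr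

theorem eta_neg (D : ChevalleyDatum) (hD : D ∈ Seven) (i : ℕ) (hi : i < D.rank) (r : ℕ)
    (hr : r < D.nroots) : eta D i (D.neg r) = eta D i r := by
  have h1 := ((nMat_simple (F := ℚ) D hD i hi).2.2.2.1 r hr).2
  rcases (nMat_simple (F := ℚ) D hD i hi).1 r hr with h | h
  · rw [h, one_mul] at h1
    rw [h1, h]
  · rw [h] at h1
    rw [h]
    omega

/-- `n_p n_r(t) = n_{w_p(r)}(η_r t) n_p` -/
theorem nMat_simple_conj_nMat (D : ChevalleyDatum) (hD : D ∈ Seven) (i r : ℕ) (hi : i < D.rank)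
    (hr : r < D.nroots) (t : F) :
    D.nMat F (D.simple i) 1 * D.nMat F r t
      = D.nMat F (D.reflectRoot i r) ((eta D i r : F) * t) * D.nMat F (D.simple i) 1 := by
  have hnr := (neg_lt D hD r hr).1
  rw [nMat_eq D r t, nMat_eq D (D.reflectRoot i r)]
  rw [← mul_assoc, ← mul_assoc, nMat_simple_conj_x D hD i r hi hr t,
    mul_assoc (D.x F (D.reflectRoot i r) _), nMat_simple_conj_x D hD i (D.neg r) hi hnr,
    ← mul_assoc, mul_assoc (D.x F (D.reflectRoot i r) _ * _),
    nMat_simple_conj_x D hD i r hi hr t, ← mul_assoc]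
  rw [reflectRoot_neg D hD i hi r hr, eta_neg D hD i hi r hr]
  congr 3
  -- `η (-t⁻¹) = -(η t)⁻¹`
  rw [mul_inv]
  have h1 := eta_cast_sq (F := F) D hD i hi r hr
  have h2 : ((eta D i r : ℤ) : F)⁻¹ = ((eta D i r : ℤ) : F) := by
    apply inv_eq_of_mul_eq_one_left h1
  rw [h2]
  ring_nf

/-- the set of the `n_p`, `p` fundamental -/
def simpleN (D : ChevalleyDatum) (F : Type*) [Field F] : Set (GL D.Idx F) :=
  {g | ∃ i < D.rank, (g : Matrix D.Idx D.Idx F) = D.nMat F (D.simple i) 1}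

/-- the subgroup generated by the `n_p`, `p` fundamental -/
def weylGen (D : ChevalleyDatum) (F : Type*) [Field F] : Subgroup (GL D.Idx F) :=
  Subgroup.closure (simpleN D F)

theorem nGL_mem_weylGen (D : ChevalleyDatum) (hD : D ∈ Seven) (i : ℕ) (hi : i < D.rank) :
    (nGL D hD i : GL D.Idx F) ∈ weylGen D F :=
  Subgroup.subset_closure ⟨i, hi, nGL_val D hD i⟩

theorem weylGen_le_monomial (D : ChevalleyDatum) (hD : D ∈ Seven) :
    weylGen D F ≤ D.monomialSubgroup F := by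
  unfold weylGen
  rw [Subgroup.closure_le]
  rintro g ⟨i, hi, hg⟩
  have : g = nGL D hD i := Units.ext (by rw [hg, nGL_val])
  rw [this]
  exact nGL_mem D hD i hi

theorem diagonal_le_monomial (D : ChevalleyDatum) :
    D.diagonalSubgroup F ≤ D.monomialSubgroup F := by
  unfold ChevalleyDatum.monomialSubgroup
  exact le_sup_left

/-- every `n_r` lies in `⟨n_p⟩ H` -/
theorem nMat_mem_sup (D : ChevalleyDatum) (hD : D ∈ Seven) (r : ℕ) (hr : r < D.nroots) :
    r < D.nroots ∧ ∀ g : GL D.Idx F, (g : Matrix D.Idx D.Idx F) = D.nMat F r 1 →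
      g ∈ weylGen D F ⊔ D.diagonalSubgroup F := by
  refine of_checkForest D (fun r => r < D.nroots ∧ ∀ g : GL D.Idx F,
      (g : Matrix D.Idx D.Idx F) = D.nMat F r 1 → g ∈ weylGen D F ⊔ D.diagonalSubgroup F)
    (forestOf D) (chkBN_all D hD).1 ?_ ?_ r hr
  · intro i hi
    refine ⟨(checkRows_spec D (checkRows_all D hD) i hi).2.1, fun g hg => ?_⟩
    apply Subgroup.mem_sup_left
    exact Subgroup.subset_closure ⟨i, hi, hg⟩
  · rintro ⟨i, r'⟩ _ hi ⟨hr', hP⟩
    simp only at hi hr' hP ⊢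
    refine ⟨(reflectRoot_invol D hD i hi r' hr').1, fun g hg => ?_⟩
    -- `g = n_i n_{r'}(η) n_i⁻¹`
    have hη0 : ((eta D i r' : ℤ) : F) ≠ 0 := by
      rcases eta_sq D hD i hi r' hr' with h | h <;> rw [h] <;> simp
    set g1 : GL D.Idx F := wordGL D hD (D.nWord r' (1 : F)) with hg1
    set hh : GL D.Idx F := wordGL D hD (D.hWord r' ((eta D i r' : ℤ) : F)) with hhh
    have hg1v : (g1 : Matrix D.Idx D.Idx F) = D.nMat F r' 1 := by
      rw [hg1, wordGL_val]; rfl
    have hhv : (hh : Matrix D.Idx D.Idx F) = D.hMat F r' ((eta D i r' : ℤ) : F) := by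
      rw [hhh, wordGL_val]; rfl
    have hg1m := hP g1 hg1v
    have hhm : hh ∈ D.diagonalSubgroup F := mem_diagonal_of_val D hh r' hr' _ hη0 hhv
    have e : g = nGL D hD i * (hh * g1) * (nGL D hD i)⁻¹ := by
      rw [eq_mul_inv_iff_mul_eq]
      apply Units.ext
      rw [Units.val_mul, Units.val_mul, Units.val_mul, hg, nGL_val, hhv, hg1v,
        ← nMat_eq_hMat_mul D hD, nMat_simple_conj_nMat D hD i r' hi hr', eta_cast_sq D hD i hi r' hr']
    rw [e]
    have hn : (nGL D hD i : GL D.Idx F) ∈ weylGen D F ⊔ D.diagonalSubgroup F :=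
      Subgroup.mem_sup_left (nGL_mem_weylGen D hD i hi)
    exact mul_mem (mul_mem hn (mul_mem (Subgroup.mem_sup_right hhm) hg1m)) (inv_mem hn)

/-- `N = ⟨n_p⟩ H` -/
theorem monomial_eq_sup (D : ChevalleyDatum) (hD : D ∈ Seven) :
    D.monomialSubgroup F = weylGen D F ⊔ D.diagonalSubgroup F := by
  apply le_antisymm
  · unfold ChevalleyDatum.monomialSubgroup
    apply sup_le le_sup_right
    rw [Subgroup.closure_le]
    rintro g ⟨r, hr, hg⟩
    exact (nMat_mem_sup D hD r hr).2 g hg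
  · exact sup_le (weylGen_le_monomial D hD) (diagonal_le_monomial D)

theorem wGL_nil (D : ChevalleyDatum) (hD : D ∈ Seven) : (wGL D hD [] : GL D.Idx F) = 1 := by
  simp [wGL]

theorem wGL_cons (D : ChevalleyDatum) (hD : D ∈ Seven) (i : ℕ) (w : List ℕ) :
    (wGL D hD (i :: w) : GL D.Idx F) = nGL D hD i * wGL D hD w := by
  simp [wGL]

theorem wGL_append (D : ChevalleyDatum) (hD : D ∈ Seven) (w1 w2 : List ℕ) :
    (wGL D hD (w1 ++ w2) : GL D.Idx F) = wGL D hD w1 * wGL D hD w2 := by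
  simp [wGL]

/-- `(n_w)⁻¹ = n_{w⁻¹} h` -/
theorem wGL_inv (D : ChevalleyDatum) (hD : D ∈ Seven) (w : List ℕ) (hw : ∀ i ∈ w, i < D.rank) :
    ∃ h ∈ D.diagonalSubgroup F, ((wGL D hD w)⁻¹ : GL D.Idx F) = wGL D hD w.reverse * h := by
  induction w with
  | nil => exact ⟨1, Subgroup.one_mem _, by simp [wGL]⟩
  | cons i w ih =>
    have hi := hw i (List.mem_cons_self ..)
    have hw' : ∀ j ∈ w, j < D.rank := fun j hj => hw j (List.mem_cons_of_mem _ hj)
    obtain ⟨h, hh, e⟩ := ih hw'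
    have hr : D.simple i < D.nroots := (checkRows_spec D (checkRows_all D hD) i hi).2.1
    refine ⟨((nGL D hD i)⁻¹ * h * nGL D hD i) * ((nGL D hD i)⁻¹ * (nGL D hD i)⁻¹), ?_, ?_⟩
    · apply (D.diagonalSubgroup F).mul_mem
      · exact conj_n_inv_diag_mem D hD _ _ hr (nGL_val D hD i) h hh
      · exact (nGL_sq_mem D hD i hi).2
    · rw [wGL_cons, mul_inv_rev, e, List.reverse_cons, wGL_append, wGL_cons, wGL_nil]
      group

/-- every element of `⟨n_p⟩` is `n_w h` -/
theorem exists_word_of_mem_weylGen (D : ChevalleyDatum) (hD : D ∈ Seven) (g : GL D.Idx F)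
    (hg : g ∈ weylGen D F) :
    ∃ w : List ℕ, (∀ i ∈ w, i < D.rank) ∧ ∃ h ∈ D.diagonalSubgroup F, g = wGL D hD w * h := by
  unfold weylGen at hg
  induction hg using Subgroup.closure_induction with
  | mem y hy =>
    obtain ⟨i, hi, hy⟩ := hy
    refine ⟨[i], ?_, 1, Subgroup.one_mem _, ?_⟩
    · intro j hj
      rw [List.mem_singleton] at hj
      rw [hj]; exact hi
    · apply Units.ext
      rw [hy, mul_one, wGL_cons, wGL_nil, mul_one, nGL_val]
  | one => exact ⟨[], by simp, 1, Subgroup.one_mem _, by simp [wGL]⟩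
  | mul a b _ _ iha ihb =>
    obtain ⟨w1, hw1, h1, hh1, rfl⟩ := iha
    obtain ⟨w2, hw2, h2, hh2, rfl⟩ := ihb
    refine ⟨w1 ++ w2, ?_, ((wGL D hD w2)⁻¹ * h1 * wGL D hD w2) * h2, ?_, ?_⟩
    · intro i hi
      rcases List.mem_append.1 hi with h | h
      · exact hw1 i h
      · exact hw2 i h
    · apply (D.diagonalSubgroup F).mul_mem _ hh2
      exact (conj_monomial_diag_mem D hD _ (wGL_mem D hD w2 hw2) h1 hh1).2
    · rw [wGL_append]
      group
  | inv a _ iha =>
    obtain ⟨w, hw, h, hh, rfl⟩ := iha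
    obtain ⟨h', hh', e⟩ := wGL_inv (F := F) D hD w hw
    have hwr : ∀ i ∈ w.reverse, i < D.rank := fun i hi => hw i (List.mem_reverse.1 hi)
    refine ⟨w.reverse, hwr, ((wGL D hD w.reverse)⁻¹ * h⁻¹ * wGL D hD w.reverse) * h', ?_, ?_⟩
    · apply (D.diagonalSubgroup F).mul_mem _ hh'
      exact (conj_monomial_diag_mem D hD _ (wGL_mem D hD _ hwr) _
        ((D.diagonalSubgroup F).inv_mem hh)).2
    · rw [mul_inv_rev, e]
      group

/-- every element of `N` is `n_w h` -/
theorem exists_word_of_mem_monomial (D : ChevalleyDatum) (hD : D ∈ Seven) (n : GL D.Idx F)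
    (hn : n ∈ D.monomialSubgroup F) :
    ∃ w : List ℕ, (∀ i ∈ w, i < D.rank) ∧ ∃ h ∈ D.diagonalSubgroup F, n = wGL D hD w * h := by
  rw [monomial_eq_sup D hD] at hn
  have hle : weylGen D F ≤ Subgroup.normalizer (D.diagonalSubgroup F : Set (GL D.Idx F)) := by
    intro g hg
    have hgN := weylGen_le_monomial D hD hg
    rw [Subgroup.mem_normalizer_iff]
    intro h
    constructor
    · intro hh
      exact (conj_monomial_diag_mem D hD g hgN h hh).1
    · intro hh
      have := (conj_monomial_diag_mem D hD g hgN _ hh).2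
      have e : g⁻¹ * (g * h * g⁻¹) * g = h := by group
      rwa [e] at this
  have hn' : n ∈ ((weylGen D F ⊔ D.diagonalSubgroup F : Subgroup (GL D.Idx F)) :
      Set (GL D.Idx F)) := hn
  rw [Subgroup.coe_mul_of_left_le_normalizer_right _ _ hle] at hn'
  obtain ⟨g, hg, h0, hh0, rfl⟩ := Set.mem_mul.1 hn'
  obtain ⟨w, hw, h, hh, rfl⟩ := exists_word_of_mem_weylGen D hD g hg
  exact ⟨w, hw, h * h0, (D.diagonalSubgroup F).mul_mem hh hh0, by group⟩

end Cfsg.Agent.Lib.Helper5.ChevStruct
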