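import Mathlib
import Cfsg.Prelude.Def_ChevStructure
import Cfsg.Agent.Lib.Helper5.ChevNConj

set_option autoImplicit false

/-!
The double coset condition `n_p B n ⊆ B n_p n B ∪ B n B` for `n ∈ N`.
-/

namespace Cfsg.Agent.Lib.Helper5.ChevStruct

open Cfsg Cfsg.Lie Cfsg.Agent.Lib.Helper5.ChevSym

variable {F : Type*} [Field F]

theorem wAct_neg (D : ChevalleyDatum) (hD : D ∈ Seven) (w : List ℕ) (hw : ∀ i ∈ w, i < D.rank)
    (r : ℕ) (hr : r < D.nroots) : wAct D w (D.neg r) = D.neg (wAct D w r) := by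
  induction w with
  | nil => rfl
  | cons i w ih =>
    have hi := hw i (List.mem_cons_self ..)
    have hw' : ∀ j ∈ w, j < D.rank := fun j hj => hw j (List.mem_cons_of_mem _ hj)
    have e1 : ∀ x, wAct D (i :: w) x = D.reflectRoot i (wAct D w x) := fun x => rfl
    rw [e1, e1, ih hw', reflectRoot_neg D hD i hi _ (wAct_lt D hD w hw' r hr)]

/-- conjugation of a root element by `(n_w)⁻¹` -/
theorem wGL_conj_inv (D : ChevalleyDatum) (hD : D ∈ Seven) (w : List ℕ)
    (hw : ∀ i ∈ w, i < D.rank) (r : ℕ) (hr : r < D.nroots) :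
    ∃ c : F, c ≠ 0 ∧ ∀ (t : F) (x : GL D.Idx F), (x : Matrix D.Idx D.Idx F) = D.x F r t →
      (((wGL D hD w)⁻¹ * x * wGL D hD w : GL D.Idx F) : Matrix D.Idx D.Idx F)
        = D.x F (wAct D w.reverse r) (c * t) := by
  obtain ⟨h, hh, e⟩ := wGL_inv (F := F) D hD w hw
  have hwr : ∀ i ∈ w.reverse, i < D.rank := fun i hi => hw i (List.mem_reverse.1 hi)
  obtain ⟨ε, hε, hconj⟩ := wGL_conj (F := F) D hD w.reverse hwr r hr
  obtain ⟨c, hc, hval⟩ := exists_torusMat_of_mem D hD h hh
  refine ⟨ε * chi D c r, ?_, fun t x hx => ?_⟩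
  · apply mul_ne_zero
    · rcases hε with h1 | h1 <;> rw [h1] <;> simp
    · exact chi_ne_zero D c hc r
  · have e2 : (wGL D hD w : GL D.Idx F) = h⁻¹ * (wGL D hD w.reverse)⁻¹ := by
      rw [← inv_inv (wGL D hD w), e, mul_inv_rev]
    have e3 : ((wGL D hD w)⁻¹ * x * wGL D hD w : GL D.Idx F)
        = wGL D hD w.reverse * (h * x * h⁻¹) * (wGL D hD w.reverse)⁻¹ := by
      conv_lhs => rw [e2]
      rw [mul_inv_rev, inv_inv, inv_inv]
      group
    rw [e3, hconj (chi D c r * t) (h * x * h⁻¹) (torus_conj_x D hD h x c hc hval r t hx), mul_assoc]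

/-- right multiplication of a double coset by an element of the subgroup -/
theorem doubleCoset_mul_right {G : Type*} [Group G] (B : Subgroup G) (a x h : G) (hh : h ∈ B)
    (hx : x ∈ DoubleCoset.doubleCoset a (B : Set G) B) :
    x * h ∈ DoubleCoset.doubleCoset (a * h) (B : Set G) B := by
  rw [DoubleCoset.mem_doubleCoset] at hx ⊢
  obtain ⟨b1, hb1, b2, hb2, rfl⟩ := hx
  exact ⟨b1, hb1, h⁻¹ * b2 * h, B.mul_mem (B.mul_mem (B.inv_mem hh) hb2) hh, by group⟩

/-- the case `w⁻¹(p) > 0` -/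
theorem nGL_borel_wGL_pos (D : ChevalleyDatum) (hD : D ∈ Seven) (i : ℕ) (hi : i < D.rank)
    (w : List ℕ) (hw : ∀ j ∈ w, j < D.rank)
    (hpos : D.IsPosRoot (wAct D w.reverse (D.simple i))) (b : GL D.Idx F)
    (hb : b ∈ D.borelSubgroup F) :
    nGL D hD i * b * wGL D hD w ∈
      DoubleCoset.doubleCoset (nGL D hD i * wGL D hD w) (D.borelSubgroup F : Set (GL D.Idx F))
        (D.borelSubgroup F) := by
  have hr : D.simple i < D.nroots := (checkRows_spec D (checkRows_all D hD) i hi).2.1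
  obtain ⟨u', hu', t, h, hh, rfl⟩ := borel_decomp D hD i hi b hb
  obtain ⟨c, -, hconj⟩ := wGL_conj_inv (F := F) D hD w hw (D.simple i) hr
  set s : GL D.Idx F := nGL D hD i with hs
  set n : GL D.Idx F := wGL D hD w with hn
  rw [DoubleCoset.mem_doubleCoset]
  refine ⟨s * u' * s⁻¹, pos_le_borel D (upSub_le_pos D _ (nGL_conj_upSub D hD i hi u' hu').1),
    (n⁻¹ * xGL D hD (D.simple i) t * n) * (n⁻¹ * h * n), ?_, by group⟩
  apply (D.borelSubgroup F).mul_mem
  · apply pos_le_borel D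
    have : n⁻¹ * xGL D hD (D.simple i) t * n
        = xGL D hD (wAct D w.reverse (D.simple i)) (c * t) := by
      apply Units.ext
      rw [hconj t _ rfl, xGL_val]
    rw [this]
    exact xGL_mem_pos D hD _ hpos _
  · apply diagonal_le_borel D
    exact (conj_monomial_diag_mem D hD n (wGL_mem D hD w hw) h hh).2

/-- the case `w⁻¹(p) < 0` -/
theorem nGL_borel_wGL_neg (D : ChevalleyDatum) (hD : D ∈ Seven) (i : ℕ) (hi : i < D.rank)
    (w : List ℕ) (hw : ∀ j ∈ w, j < D.rank)
    (hneg : D.IsPosRoot (D.neg (wAct D w.reverse (D.simple i)))) (b : GL D.Idx F)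
    (hb : b ∈ D.borelSubgroup F) :
    nGL D hD i * b * wGL D hD w ∈
      DoubleCoset.doubleCoset (nGL D hD i * wGL D hD w) (D.borelSubgroup F : Set (GL D.Idx F))
        (D.borelSubgroup F) ∪
      DoubleCoset.doubleCoset (wGL D hD w) (D.borelSubgroup F : Set (GL D.Idx F))
        (D.borelSubgroup F) := by
  have hr : D.simple i < D.nroots := (checkRows_spec D (checkRows_all D hD) i hi).2.1
  set s : GL D.Idx F := nGL D hD i with hs
  set n : GL D.Idx F := wGL D hD w with hn
  have hsq : s⁻¹ * s⁻¹ ∈ D.borelSubgroup F := diagonal_le_borel D (nGL_sq_mem D hD i hi).2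
  have hsq' : s * s ∈ D.borelSubgroup F := diagonal_le_borel D (nGL_sq_mem D hD i hi).1
  rcases nGL_borel_nGL D hD i hi b hb with h1 | h1
  · -- `s b s = b' ∈ B`
    left
    rw [DoubleCoset.mem_doubleCoset]
    refine ⟨(s * b * s) * (s⁻¹ * s⁻¹), (D.borelSubgroup F).mul_mem h1 hsq, 1,
      (D.borelSubgroup F).one_mem, by group⟩
  · -- `s b s = b1 s b2`
    right
    rw [DoubleCoset.mem_doubleCoset] at h1
    obtain ⟨b1, hb1, b2, hb2, e⟩ := h1
    -- the word `i :: w`
    have hw' : ∀ j ∈ i :: w, j < D.rank := by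
      intro j hj
      rcases List.mem_cons.1 hj with rfl | hj
      · exact hi
      · exact hw j hj
    have hwr : ∀ j ∈ w.reverse, j < D.rank := fun j hj => hw j (List.mem_reverse.1 hj)
    have hpos : D.IsPosRoot (wAct D (i :: w).reverse (D.simple i)) := by
      rw [List.reverse_cons, wAct_append]
      have : wAct D [i] (D.simple i) = D.neg (D.simple i) := by
        show D.reflectRoot i (D.simple i) = D.neg (D.simple i)
        unfold ChevalleyDatum.reflectRoot
        simp only [if_true]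
      rw [this, wAct_neg D hD _ hwr _ hr]
      exact hneg
    have key := nGL_borel_wGL_pos D hD i hi (i :: w) hw' hpos (b2 * (s⁻¹ * s⁻¹))
      ((D.borelSubgroup F).mul_mem hb2 hsq)
    rw [wGL_cons, ← hs, ← hn, DoubleCoset.mem_doubleCoset] at key
    obtain ⟨c1, hc1, c2, hc2, e'⟩ := key
    rw [DoubleCoset.mem_doubleCoset]
    refine ⟨b1 * c1 * (s * s), (D.borelSubgroup F).mul_mem ((D.borelSubgroup F).mul_mem hb1 hc1) hsq',
      c2, hc2, ?_⟩
    have e1 : s * b * n = (s * b * s) * (s⁻¹ * n) := by group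
    have e2 : b1 * s * b2 * (s⁻¹ * n) = b1 * (s * (b2 * (s⁻¹ * s⁻¹)) * (s * n)) := by group
    rw [e1, e, e2, e']
    group

/-- the double coset condition -/
theorem nGL_borel_monomial (D : ChevalleyDatum) (hD : D ∈ Seven) (i : ℕ) (hi : i < D.rank)
    (n : GL D.Idx F) (hn : n ∈ D.monomialSubgroup F) (b : GL D.Idx F)
    (hb : b ∈ D.borelSubgroup F) :
    nGL D hD i * b * n ∈
      DoubleCoset.doubleCoset (nGL D hD i * n) (D.borelSubgroup F : Set (GL D.Idx F))
        (D.borelSubgroup F) ∪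
      DoubleCoset.doubleCoset n (D.borelSubgroup F : Set (GL D.Idx F)) (D.borelSubgroup F) := by
  have hr : D.simple i < D.nroots := (checkRows_spec D (checkRows_all D hD) i hi).2.1
  obtain ⟨w, hw, h, hh, rfl⟩ := exists_word_of_mem_monomial D hD n hn
  have hwr : ∀ j ∈ w.reverse, j < D.rank := fun j hj => hw j (List.mem_reverse.1 hj)
  have hhB := diagonal_le_borel D hh
  have hlt := wAct_lt D hD w.reverse hwr _ hr
  have e1 : nGL D hD i * b * (wGL D hD w * h) = (nGL D hD i * b * wGL D hD w) * h := by group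
  have e2 : nGL D hD i * (wGL D hD w * h) = (nGL D hD i * wGL D hD w) * h := by group
  rw [e1, e2]
  rcases pos_or_neg D hD _ hlt with hpos | ⟨hneg, -⟩
  · left
    exact doubleCoset_mul_right _ _ _ h hhB (nGL_borel_wGL_pos D hD i hi w hw hpos b hb)
  · rcases nGL_borel_wGL_neg D hD i hi w hw hneg b hb with h1 | h1
    · left
      exact doubleCoset_mul_right _ _ _ h hhB h1
    · right
      exact doubleCoset_mul_right _ _ _ h hhB h1

end Cfsg.Agent.Lib.Helper5.ChevStruct
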