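import Mathlib
import Cfsg.Prelude.Def_ChevStructure
import Cfsg.Agent.Lib.Helper5.ChevW0Def
import Cfsg.Agent.Lib.Helper5.ChevSymCore

set_option autoImplicit false

/-!
Table facts for the parabolic subgroups: every root is positive or negative, a negative root can
be moved towards the positive roots by a fundamental reflection in its support.
-/

namespace Cfsg.Agent.Lib.Helper5.ChevSym

open Cfsg Cfsg.Lie

/-- the `i`-th coefficient of the coroot of `r` -/
def crt (D : ChevalleyDatum) (r i : ℕ) : ℤ := (D.coroot.getD r #[]).getD i 0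

/-- the sum of the absolute values of the coroot coefficients -/
def msum (D : ChevalleyDatum) (r : ℕ) : ℕ := ((List.range D.rank).map fun i => (crt D r i).natAbs).sum

def negStepOK (D : ChevalleyDatum) (r j : ℕ) : Bool :=
  decide (crt D r j < 0) &&
  canon (fun r' => decide (D.IsPosRoot r') ||
    (decide (D.IsNegRoot r') && Nat.blt (msum D r') (msum D r) &&
      (List.range D.rank).all fun i => decide (crt D r i = 0 → crt D r' i = 0)))
    (D.reflectRoot j r)

/-- the simple roots are positive, their negatives have coroot `-e_j`; every root is positive or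
negative; every negative root has a good reflection -/
def checkPara (D : ChevalleyDatum) : Bool :=
  (List.range D.rank).all (fun j =>
    decide (D.IsPosRoot (D.simple j)) && Nat.blt (D.neg (D.simple j)) D.nroots &&
      (List.range D.rank).all fun i => Nat.beq i j || decide (crt D (D.neg (D.simple j)) i = 0)) &&
  (List.range D.nroots).all fun r =>
    canon (fun r => decide (D.IsPosRoot r) ||
      (decide (D.IsNegRoot r) && (List.range D.rank).any fun j => negStepOK D r j)) r

theorem checkPara_simple (D : ChevalleyDatum) (h : checkPara D = true) (j : ℕ) (hj : j < D.rank) :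
    D.IsPosRoot (D.simple j) ∧ D.neg (D.simple j) < D.nroots ∧
      ∀ i < D.rank, i ≠ j → crt D (D.neg (D.simple j)) i = 0 := by
  unfold checkPara at h
  rw [Bool.and_eq_true, List.all_eq_true] at h
  have := h.1 j (List.mem_range.2 hj)
  rw [Bool.and_eq_true, Bool.and_eq_true, List.all_eq_true, Nat.blt_eq] at this
  refine ⟨of_decide_eq_true this.1.1, this.1.2, fun i hi hij => ?_⟩
  have h2 := this.2 i (List.mem_range.2 hi)
  rw [Bool.or_eq_true] at h2
  rcases h2 with h2 | h2
  · exact absurd (Nat.eq_of_beq_eq_true h2) hij
  · exact of_decide_eq_true h2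

theorem checkPara_root (D : ChevalleyDatum) (h : checkPara D = true) (r : ℕ) (hr : r < D.nroots) :
    D.IsPosRoot r ∨ (D.IsNegRoot r ∧ ∃ j < D.rank, crt D r j < 0 ∧
      (D.IsPosRoot (D.reflectRoot j r) ∨
        (D.IsNegRoot (D.reflectRoot j r) ∧ msum D (D.reflectRoot j r) < msum D r ∧
          ∀ i < D.rank, crt D r i = 0 → crt D (D.reflectRoot j r) i = 0))) := by
  unfold checkPara at h
  rw [Bool.and_eq_true, List.all_eq_true, List.all_eq_true] at h
  have := h.2 r (List.mem_range.2 hr)
  rw [canon_eq, Bool.or_eq_true] at this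
  rcases this with h1 | h1
  · exact Or.inl (of_decide_eq_true h1)
  · right
    rw [Bool.and_eq_true, List.any_eq_true] at h1
    obtain ⟨hneg, j, hj, hok⟩ := h1
    refine ⟨of_decide_eq_true hneg, j, List.mem_range.1 hj, ?_⟩
    unfold negStepOK at hok
    rw [Bool.and_eq_true, canon_eq, Bool.or_eq_true] at hok
    refine ⟨of_decide_eq_true hok.1, ?_⟩
    rcases hok.2 with h2 | h2
    · exact Or.inl (of_decide_eq_true h2)
    · right
      rw [Bool.and_eq_true, Bool.and_eq_true, List.all_eq_true, Nat.blt_eq] at h2
      refine ⟨of_decide_eq_true h2.1.1, h2.1.2, fun i hi => ?_⟩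
      exact of_decide_eq_true (h2.2 i (List.mem_range.2 hi))

end Cfsg.Agent.Lib.Helper5.ChevSym
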