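import Mathlib

set_option autoImplicit false

/-!
Generic "unitriangular with respect to a level function" matrices: nilpotency of `A` and of the group.
-/

namespace Cfsg.Agent.Lib.Helper5.UniTri

variable {ι : Type*} [Fintype ι] [DecidableEq ι] {F : Type*} [Field F]

/-- `A` raises levels by at least `k`: nonzero entries `(row, col)` only when `lvl col + k ≤ lvl row`. -/
def Lower (lvl : ι → ℕ) (k : ℕ) (A : Matrix ι ι F) : Prop :=
  ∀ row col, A row col ≠ 0 → lvl col + k ≤ lvl row

variable {lvl : ι → ℕ}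

theorem Lower.mono {k k' : ℕ} {A : Matrix ι ι F} (h : Lower lvl k A) (hk : k' ≤ k) :
    Lower lvl k' A := fun r c hne => by
  have := h r c hne
  omega

theorem lower_zero (k : ℕ) : Lower lvl k (0 : Matrix ι ι F) := fun r c h => by
  simp at h

theorem lower_one : Lower lvl 0 (1 : Matrix ι ι F) := fun r c h => by
  by_cases hrc : r = c
  · subst hrc; simp
  · exact absurd (Matrix.one_apply_ne hrc) h

theorem Lower.add {k : ℕ} {A B : Matrix ι ι F} (hA : Lower lvl k A) (hB : Lower lvl k B) :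
    Lower lvl k (A + B) := fun r c h => by
  rw [Matrix.add_apply] at h
  by_cases h1 : A r c = 0
  · rw [h1, zero_add] at h
    exact hB r c h
  · exact hA r c h1

theorem Lower.neg {k : ℕ} {A : Matrix ι ι F} (hA : Lower lvl k A) :
    Lower lvl k (-A) := fun r c h => by
  rw [Matrix.neg_apply, neg_ne_zero] at h
  exact hA r c h

theorem Lower.sub {k : ℕ} {A B : Matrix ι ι F} (hA : Lower lvl k A) (hB : Lower lvl k B) :
    Lower lvl k (A - B) := by
  rw [sub_eq_add_neg]
  exact hA.add hB.neg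

theorem Lower.mul {a b : ℕ} {A B : Matrix ι ι F} (hA : Lower lvl a A) (hB : Lower lvl b B) :
    Lower lvl (a + b) (A * B) := by
  intro r c h
  rw [Matrix.mul_apply] at h
  obtain ⟨j, -, hj⟩ := Finset.exists_ne_zero_of_sum_ne_zero h
  have h1 := hA r j (left_ne_zero_of_mul hj)
  have h2 := hB j c (right_ne_zero_of_mul hj)
  omega

theorem Lower.pow {a : ℕ} {A : Matrix ι ι F} (hA : Lower lvl a A) (n : ℕ) :
    Lower lvl (n * a) (A ^ n) := by
  induction n with
  | zero => simpa using (lower_one (lvl := lvl) (F := F))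
  | succ n ih =>
    rw [pow_succ, Nat.succ_mul]
    exact ih.mul hA

theorem lower_sum {k : ℕ} {α : Type*} (s : Finset α) (f : α → Matrix ι ι F)
    (h : ∀ i ∈ s, Lower lvl k (f i)) : Lower lvl k (∑ i ∈ s, f i) := by
  classical
  induction s using Finset.induction_on with
  | empty => simpa using (lower_zero (lvl := lvl) (F := F) k)
  | insert a s ha ih =>
    rw [Finset.sum_insert ha]
    exact (h a (Finset.mem_insert_self a s)).add
      (ih fun i hi => h i (Finset.mem_insert_of_mem hi))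

theorem Lower.eq_zero {L : ℕ} (hL : ∀ i, lvl i < L) {A : Matrix ι ι F} (hA : Lower lvl L A) :
    A = 0 := by
  ext r c
  by_contra h
  have := hA r c h
  have := hL r
  omega

/-- A matrix which strictly raises levels is nilpotent. -/
theorem Lower.pow_eq_zero {L : ℕ} (hL : ∀ i, lvl i < L) {A : Matrix ι ι F} (hA : Lower lvl 1 A) :
    A ^ L = 0 := by
  apply Lower.eq_zero hL
  simpa using hA.pow L

theorem exists_bound (lvl : ι → ℕ) : ∃ L : ℕ, ∀ i, lvl i < L :=
  ⟨Finset.univ.sup lvl + 1, fun i => Nat.lt_succ_of_le (Finset.le_sup (Finset.mem_univ i))⟩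

theorem lower_inv_aux {k : ℕ} (g : GL ι F)
    (hg : Lower lvl (k + 1) ((g : Matrix ι ι F) - 1)) :
    Lower lvl 0 ((g⁻¹ : GL ι F) : Matrix ι ι F) := by
  obtain ⟨L, hL⟩ := exists_bound lvl
  set A : Matrix ι ι F := (g : Matrix ι ι F) - 1 with hA
  have hAL : A ^ L = 0 := Lower.pow_eq_zero hL (hg.mono (by omega))
  have hgA : (g : Matrix ι ι F) = 1 - (-A) := by rw [hA]; abel
  have hS : (g : Matrix ι ι F) * ∑ i ∈ Finset.range L, (-A) ^ i = 1 := by
    rw [hgA, mul_neg_geom_sum, neg_pow, hAL, mul_zero, sub_zero]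
  have hinv : ((g⁻¹ : GL ι F) : Matrix ι ι F) = ∑ i ∈ Finset.range L, (-A) ^ i := by
    calc ((g⁻¹ : GL ι F) : Matrix ι ι F)
        = ((g⁻¹ : GL ι F) : Matrix ι ι F) * ((g : Matrix ι ι F) * ∑ i ∈ Finset.range L, (-A) ^ i) := by
          rw [hS, mul_one]
      _ = (((g⁻¹ : GL ι F) : Matrix ι ι F) * (g : Matrix ι ι F)) * ∑ i ∈ Finset.range L, (-A) ^ i := by
          rw [mul_assoc]
      _ = ∑ i ∈ Finset.range L, (-A) ^ i := by
          rw [← Units.val_mul, inv_mul_cancel, Units.val_one, one_mul]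
  rw [hinv]
  apply lower_sum
  intro i _
  exact (hg.neg.pow i).mono (Nat.zero_le _)

theorem lower_inv {k : ℕ} (g : GL ι F)
    (hg : Lower lvl (k + 1) ((g : Matrix ι ι F) - 1)) :
    Lower lvl (k + 1) (((g⁻¹ : GL ι F) : Matrix ι ι F) - 1) := by
  have h0 := lower_inv_aux g hg
  have : ((g⁻¹ : GL ι F) : Matrix ι ι F) - 1
      = -(((g⁻¹ : GL ι F) : Matrix ι ι F) * ((g : Matrix ι ι F) - 1)) := by
    rw [mul_sub, ← Units.val_mul, inv_mul_cancel, Units.val_one, mul_one]
    abel
  rw [this]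
  simpa using (h0.mul hg).neg

/-- The subgroup of matrices `g` with `g - 1` raising levels by at least `k + 1`. -/
def unitri (lvl : ι → ℕ) (F : Type*) [Field F] (k : ℕ) : Subgroup (GL ι F) where
  carrier := {g | Lower lvl (k + 1) ((g : Matrix ι ι F) - 1)}
  one_mem' := by
    show Lower lvl (k + 1) (((1 : GL ι F) : Matrix ι ι F) - 1)
    rw [Units.val_one, sub_self]
    exact lower_zero _
  mul_mem' := by
    intro g h hg hh
    show Lower lvl (k + 1) (((g * h : GL ι F) : Matrix ι ι F) - 1)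
    have : ((g * h : GL ι F) : Matrix ι ι F) - 1
        = ((g : Matrix ι ι F) - 1) * ((h : Matrix ι ι F) - 1) + ((g : Matrix ι ι F) - 1)
          + ((h : Matrix ι ι F) - 1) := by
      rw [Units.val_mul, sub_mul, mul_sub, mul_sub, mul_one, one_mul, one_mul]
      abel
    rw [this]
    exact (((Lower.mul hg hh).mono (by omega)).add hg).add hh
  inv_mem' := by
    intro g hg
    exact lower_inv g hg

theorem mem_unitri {k : ℕ} {g : GL ι F} :
    g ∈ unitri lvl F k ↔ Lower lvl (k + 1) ((g : Matrix ι ι F) - 1) := Iff.rfl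

theorem lower_zero_of_mem {k : ℕ} {g : GL ι F} (hg : g ∈ unitri lvl F k) :
    Lower lvl 0 (g : Matrix ι ι F) := by
  have : (g : Matrix ι ι F) = ((g : Matrix ι ι F) - 1) + 1 := by abel
  rw [this]
  exact ((mem_unitri.1 hg).mono (Nat.zero_le _)).add lower_one

theorem commutator_mem {a b : ℕ} {g h : GL ι F} (hg : g ∈ unitri lvl F a)
    (hh : h ∈ unitri lvl F b) : g * h * g⁻¹ * h⁻¹ ∈ unitri lvl F (a + b + 1) := by
  rw [mem_unitri]
  have hGG' : (g : Matrix ι ι F) * ((g⁻¹ : GL ι F) : Matrix ι ι F) = 1 := by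
    rw [← Units.val_mul, mul_inv_cancel, Units.val_one]
  have hHH' : (h : Matrix ι ι F) * ((h⁻¹ : GL ι F) : Matrix ι ι F) = 1 := by
    rw [← Units.val_mul, mul_inv_cancel, Units.val_one]
  have key : ((g * h * g⁻¹ * h⁻¹ : GL ι F) : Matrix ι ι F) - 1
      = (((g : Matrix ι ι F) - 1) * ((h : Matrix ι ι F) - 1)
          - ((h : Matrix ι ι F) - 1) * ((g : Matrix ι ι F) - 1))
        * (((g⁻¹ : GL ι F) : Matrix ι ι F) * ((h⁻¹ : GL ι F) : Matrix ι ι F)) := by
    have e1 : ((g : Matrix ι ι F) - 1) * ((h : Matrix ι ι F) - 1)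
          - ((h : Matrix ι ι F) - 1) * ((g : Matrix ι ι F) - 1)
        = (g : Matrix ι ι F) * (h : Matrix ι ι F) - (h : Matrix ι ι F) * (g : Matrix ι ι F) := by
      rw [sub_mul, mul_sub, mul_sub, sub_mul, mul_sub, mul_sub]
      simp only [mul_one, one_mul]
      abel
    rw [e1, sub_mul]
    have e2 : (h : Matrix ι ι F) * (g : Matrix ι ι F)
        * (((g⁻¹ : GL ι F) : Matrix ι ι F) * ((h⁻¹ : GL ι F) : Matrix ι ι F)) = 1 := by
      rw [mul_assoc, ← mul_assoc (g : Matrix ι ι F), hGG', one_mul, hHH']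
    rw [e2]
    simp only [Units.val_mul, mul_assoc]
  rw [key]
  have h1 := (Lower.mul (mem_unitri.1 hg) (mem_unitri.1 hh)).sub
    ((Lower.mul (mem_unitri.1 hh) (mem_unitri.1 hg)).mono (by omega))
  have h2 := Lower.mul (lower_zero_of_mem (g := g⁻¹) (inv_mem hg))
    (lower_zero_of_mem (g := h⁻¹) (inv_mem hh))
  exact (h1.mul h2).mono (by omega)

theorem unitri_eq_bot {L : ℕ} (hL : ∀ i, lvl i < L) {k : ℕ} (hk : L ≤ k + 1) :
    unitri lvl F k = ⊥ := by
  rw [eq_bot_iff]
  intro g hg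
  rw [Subgroup.mem_bot]
  have := Lower.eq_zero hL ((mem_unitri.1 hg).mono hk)
  apply Units.ext
  rw [Units.val_one]
  exact sub_eq_zero.1 this

/-- Any subgroup of the unitriangular group is nilpotent. -/
theorem isNilpotent_of_le (U : Subgroup (GL ι F)) (hU : U ≤ unitri lvl F 0) :
    Group.IsNilpotent U := by
  rw [Subgroup.nilpotent_iff_finite_descending_central_series]
  obtain ⟨L, hL⟩ := exists_bound lvl
  refine ⟨L, fun n => (unitri lvl F n).subgroupOf U, ⟨?_, ?_⟩, ?_⟩
  · show (unitri lvl F 0).subgroupOf U = ⊤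
    rw [Subgroup.subgroupOf_eq_top]
    exact hU
  · intro x n hx g
    rw [Subgroup.mem_subgroupOf] at hx ⊢
    have := commutator_mem hx (hU g.2)
    rw [commutatorElement_def]
    simpa using this
  · show (unitri lvl F L).subgroupOf U = ⊥
    rw [unitri_eq_bot hL (Nat.le_succ L)]
    exact Subgroup.bot_subgroupOf U

end Cfsg.Agent.Lib.Helper5.UniTri
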