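import Mathlib
import Cfsg.Prelude.Def_ChevStructure
import Cfsg.Prelude.Def_ChevG2
import Cfsg.Prelude.Def_ChevB2
import Cfsg.Prelude.Def_ChevD4
import Cfsg.Prelude.Def_ChevF4
import Cfsg.Prelude.Def_ChevE6
import Cfsg.Prelude.Def_ChevE7
import Cfsg.Prelude.Def_ChevE8
import Cfsg.Agent.Lib.Helper5.UniTri

set_option autoImplicit false

/-!
The positive unipotent subgroup `U` of a Chevalley group is unitriangular with respect to a level
function on the index set (negative roots < Cartan part < positive roots).
-/

namespace Cfsg.Agent.Lib.Helper5.ChevPosUni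

open Cfsg Cfsg.Lie Cfsg.Agent.Lib.Helper5.UniTri

/-- The level function: negative roots first, then the fundamental coroots, then positive roots. -/
def lvl (D : ChevalleyDatum) : D.Idx → ℕ
  | Sum.inl i => D.nroots / 2 + i.val
  | Sum.inr s => if s.val < D.nroots / 2 then s.val else s.val + D.rank

theorem lvl_lt (D : ChevalleyDatum) (i : D.Idx) : lvl D i < D.rank + D.nroots := by
  rcases i with i | s
  · have := i.2
    have : D.nroots / 2 ≤ D.nroots := Nat.div_le_self _ _
    simp only [lvl]
    omega
  · have := s.2
    simp only [lvl]
    split_ifs <;> omega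

/-- The table conditions needed: positive roots sit in the upper half of the index range, their
negatives in the lower half, and every chain of a positive root moves upwards in the index order. -/
def Good (D : ChevalleyDatum) : Prop :=
  ∀ r ∈ List.range D.nroots, D.IsPosRoot r →
    (D.nroots / 2 ≤ r ∧ D.negIdx.getD r 0 < D.nroots / 2 ∧
      ∀ e ∈ (D.chain.getD r #[]).toList, ∀ p ∈ e.2.toList, e.1 < p.1)

instance (D : ChevalleyDatum) : Decidable (Good D) := by
  unfold Good
  infer_instance

set_option maxRecDepth 1000000 in
theorem good_G2 : Good chevG2 := by decide +kernel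

set_option maxRecDepth 1000000 in
theorem good_B2 : Good chevB2 := by decide +kernel

set_option maxRecDepth 1000000 in
theorem good_D4 : Good chevD4 := by decide +kernel

set_option maxRecDepth 1000000 in
theorem good_F4 : Good chevF4 := by decide +kernel

set_option maxRecDepth 1000000 in
theorem good_E6 : Good chevE6 := by decide +kernel

set_option maxRecDepth 1000000 in
theorem good_E7 : Good chevE7 := by decide +kernel

set_option maxRecDepth 1000000 in
theorem good_E8 : Good chevE8 := by decide +kernel

theorem good_of_mem (D : ChevalleyDatum)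
    (hD : D ∈ [chevG2, chevB2, chevD4, chevF4, chevE6, chevE7, chevE8]) : Good D := by
  simp only [List.mem_cons, List.not_mem_nil, or_false] at hD
  rcases hD with rfl | rfl | rfl | rfl | rfl | rfl | rfl
  · exact good_G2
  · exact good_B2
  · exact good_D4
  · exact good_F4
  · exact good_E6
  · exact good_E7
  · exact good_E8

theorem chainCoeff_ne_nil {D : ChevalleyDatum} {r s u : ℕ} (h : D.chainCoeff r s u ≠ []) :
    ∃ e ∈ (D.chain.getD r #[]).toList, ∃ p ∈ e.2.toList, e.1 = s ∧ p.1 = u := by
  unfold ChevalleyDatum.chainCoeff at h
  rw [Ne, List.flatMap_eq_nil_iff] at h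
  push Not at h
  obtain ⟨e, he, hne⟩ := h
  rw [List.mem_filter] at he
  rw [Ne, List.map_eq_nil_iff, List.filter_eq_nil_iff] at hne
  push Not at hne
  obtain ⟨q, hq, hqu⟩ := hne
  refine ⟨e, he.1, q.1, List.fst_mem_of_mem_zipIdx hq, ?_, ?_⟩
  · simpa using he.2
  · simpa using hqu

variable {F : Type*} [Field F]

theorem xMat_sub_one_lower (D : ChevalleyDatum) (hD : Good D) (r : ℕ) (hr : D.IsPosRoot r)
    (t : F) : Lower (lvl D) 1 (D.xMat F ⟨r, hr.1⟩ t - 1) := by
  obtain ⟨h1, h2, h3⟩ := hD r (List.mem_range.2 hr.1) hr
  intro row col hne
  rw [Matrix.sub_apply] at hne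
  rcases col with i | s
  · rcases row with i' | u
    · exfalso
      apply hne
      simp only [ChevalleyDatum.xMat, Matrix.of_apply, Matrix.one_apply, Sum.inl.injEq]
      exact sub_self _
    · have hur : u = ⟨r, hr.1⟩ := by
        by_contra hur
        apply hne
        simp [ChevalleyDatum.xMat, Matrix.of_apply, hur]
      subst hur
      have := i.2
      simp only [lvl]
      rw [if_neg (by omega)]
      omega
  · by_cases hsr : s = ⟨r, hr.1⟩
    · exfalso
      apply hne
      subst hsr
      rcases row with i' | u
      · simp [ChevalleyDatum.xMat, Matrix.of_apply]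
      · by_cases hu : u = ⟨r, hr.1⟩
        · subst hu
          simp [ChevalleyDatum.xMat, Matrix.of_apply]
        · simp [ChevalleyDatum.xMat, Matrix.of_apply, hu, Matrix.one_apply]
    · by_cases hsn : s.val = D.negIdx.getD r 0
      · have hs : s.val < D.nroots / 2 := by rw [hsn]; exact h2
        rcases row with i' | u
        · simp only [lvl]
          rw [if_pos hs]
          omega
        · have hur : u = ⟨r, hr.1⟩ := by
            by_contra hur
            apply hne
            by_cases hus : u = s
            · subst hus
              simp [ChevalleyDatum.xMat, Matrix.of_apply, hsr, hsn]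
            · simp [ChevalleyDatum.xMat, Matrix.of_apply, hsr, hsn, hus, hur, Matrix.one_apply]
          subst hur
          simp only [lvl]
          rw [if_pos hs, if_neg (by omega)]
          omega
      · rcases row with i' | u
        · exfalso
          apply hne
          simp only [ChevalleyDatum.xMat, Matrix.of_apply, hsr, hsn, if_false]
          simp
        · have hc : D.chainCoeff r s.val u.val ≠ [] := by
            intro hc
            apply hne
            simp only [ChevalleyDatum.xMat, Matrix.of_apply, hsr, hsn, if_false, hc, List.map_nil,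
              List.sum_nil, add_zero, Matrix.one_apply, Sum.inr.injEq]
            exact sub_self _
          obtain ⟨e, he, p, hp, hes, hpu⟩ := chainCoeff_ne_nil hc
          have hlt := h3 e he p hp
          rw [hes, hpu] at hlt
          simp only [lvl]
          split_ifs <;> omega

theorem x_sub_one_lower (D : ChevalleyDatum) (hD : Good D) (r : ℕ) (hr : D.IsPosRoot r)
    (t : F) : Lower (lvl D) 1 (D.x F r t - 1) := by
  unfold ChevalleyDatum.x
  rw [dif_pos hr.1]
  exact xMat_sub_one_lower D hD r hr t

theorem posUnipotent_le (D : ChevalleyDatum) (hD : Good D) :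
    D.posUnipotent F ≤ unitri (lvl D) F 0 := by
  unfold ChevalleyDatum.posUnipotent
  rw [Subgroup.closure_le]
  rintro g ⟨r, t, hr, hg⟩
  show Lower (lvl D) (0 + 1) ((g : Matrix D.Idx D.Idx F) - 1)
  rw [hg]
  exact x_sub_one_lower D hD r hr t

theorem sub_one_pow_eq_zero (D : ChevalleyDatum) (hD : Good D) (g : GL D.Idx F)
    (hg : g ∈ D.posUnipotent F) :
    ((g : Matrix D.Idx D.Idx F) - 1) ^ (D.rank + D.nroots) = 0 :=
  Lower.pow_eq_zero (lvl_lt D) (posUnipotent_le D hD hg)

theorem posUnipotent_isNilpotent (D : ChevalleyDatum) (hD : Good D) :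
    Group.IsNilpotent (D.posUnipotent F) :=
  isNilpotent_of_le _ (posUnipotent_le D hD)

end Cfsg.Agent.Lib.Helper5.ChevPosUni
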