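import Mathlib
import Cfsg.Agent.Lib.Helper5.UniTri

set_option autoImplicit false

/-!
Triangular and diagonal matrices with respect to an injective level function.
-/

namespace Cfsg.Agent.Lib.Helper5.UniTri

variable {ι : Type*} [Fintype ι] [DecidableEq ι] {F : Type*} [Field F]

/-- invertible matrices which are lower triangular together with their inverse -/
def triSub (lvl : ι → ℕ) (F : Type*) [Field F] : Subgroup (GL ι F) where
  carrier := {g | Lower lvl 0 (g : Matrix ι ι F) ∧ Lower lvl 0 ((g⁻¹ : GL ι F) : Matrix ι ι F)}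
  one_mem' := by
    refine ⟨?_, ?_⟩
    · rw [Units.val_one]; exact lower_one
    · rw [inv_one, Units.val_one]; exact lower_one
  mul_mem' := by
    intro g h hg hh
    refine ⟨?_, ?_⟩
    · rw [Units.val_mul]; simpa using hg.1.mul hh.1
    · rw [mul_inv_rev, Units.val_mul]; simpa using hh.2.mul hg.2
  inv_mem' := by
    intro g hg
    refine ⟨hg.2, ?_⟩
    rw [inv_inv]; exact hg.1

variable {lvl : ι → ℕ}

theorem mem_triSub {g : GL ι F} : g ∈ triSub lvl F ↔
    Lower lvl 0 (g : Matrix ι ι F) ∧ Lower lvl 0 ((g⁻¹ : GL ι F) : Matrix ι ι F) := Iff.rfl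

theorem unitri_le_triSub (k : ℕ) : unitri lvl F k ≤ triSub lvl F := fun g hg =>
  ⟨lower_zero_of_mem hg, lower_zero_of_mem (inv_mem hg)⟩

/-- the diagonal part of a matrix -/
def dg (A : Matrix ι ι F) : Matrix ι ι F := Matrix.diagonal fun i => A i i

/-- a matrix is diagonal -/
def IsDiag (A : Matrix ι ι F) : Prop := ∀ i j, i ≠ j → A i j = 0

theorem isDiag_iff (A : Matrix ι ι F) : IsDiag A ↔ A = dg A := by
  constructor
  · intro h
    ext i j
    by_cases hij : i = j
    · subst hij; simp [dg]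
    · rw [h i j hij]; simp [dg, hij]
  · intro h i j hij
    rw [h]; simp [dg, hij]

theorem isDiag_diagonal (d : ι → F) : IsDiag (Matrix.diagonal d) := fun i j hij => by
  simp [hij]

theorem IsDiag.lower {A : Matrix ι ι F} (h : IsDiag A) : Lower lvl 0 A := fun r c hne => by
  by_cases hrc : r = c
  · subst hrc; omega
  · exact absurd (h r c hrc) hne

theorem IsDiag.mul {A B : Matrix ι ι F} (hA : IsDiag A) (hB : IsDiag B) : IsDiag (A * B) := by
  rw [(isDiag_iff A).1 hA, (isDiag_iff B).1 hB, dg, dg, Matrix.diagonal_mul_diagonal]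
  exact isDiag_diagonal _

/-- the diagonal entries of a product of triangular matrices -/
theorem mul_apply_diag_of_lower (hinj : Function.Injective lvl) {A B : Matrix ι ι F}
    (hA : Lower lvl 0 A) (hB : Lower lvl 0 B) (i : ι) : (A * B) i i = A i i * B i i := by
  rw [Matrix.mul_apply]
  apply Finset.sum_eq_single i
  · intro j _ hji
    by_contra hne
    have h1 := hA i j (left_ne_zero_of_mul hne)
    have h2 := hB j i (right_ne_zero_of_mul hne)
    exact hji (hinj (by omega))
  · intro h; exact absurd (Finset.mem_univ i) h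

theorem dg_mul_of_lower (hinj : Function.Injective lvl) {A B : Matrix ι ι F}
    (hA : Lower lvl 0 A) (hB : Lower lvl 0 B) : dg (A * B) = dg A * dg B := by
  rw [dg, dg, dg, Matrix.diagonal_mul_diagonal]
  congr 1
  funext i
  exact mul_apply_diag_of_lower hinj hA hB i

theorem dg_one : dg (1 : Matrix ι ι F) = 1 := by
  rw [dg, ← Matrix.diagonal_one]
  congr 1
  funext i
  simp

/-- a triangular matrix with unit diagonal is unitriangular -/
theorem lower_one_of_diag_one (hinj : Function.Injective lvl) {A : Matrix ι ι F}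
    (hA : Lower lvl 0 A) (hd : ∀ i, A i i = 1) : Lower lvl 1 (A - 1) := by
  intro r c hne
  by_cases hrc : r = c
  · subst hrc
    rw [Matrix.sub_apply, hd, Matrix.one_apply_eq, sub_self] at hne
    exact absurd rfl hne
  · rw [Matrix.sub_apply, Matrix.one_apply_ne hrc, sub_zero] at hne
    have h1 := hA r c hne
    have h2 : lvl c ≠ lvl r := fun h => hrc (hinj h.symm)
    omega

/-- a unitriangular diagonal matrix is the identity -/
theorem eq_one_of_lower_one_of_isDiag {A : Matrix ι ι F} (hA : Lower lvl 1 (A - 1))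
    (hd : IsDiag A) : A = 1 := by
  ext i j
  by_cases hij : i = j
  · subst hij
    rw [Matrix.one_apply_eq]
    by_contra hne
    have : (A - 1) i i ≠ 0 := by
      rw [Matrix.sub_apply, Matrix.one_apply_eq]
      exact sub_ne_zero.2 hne
    have := hA i i this
    omega
  · rw [hd i j hij, Matrix.one_apply_ne hij]

/-- the level function read backwards -/
def rev (lvl : ι → ℕ) (L : ℕ) : ι → ℕ := fun i => L - lvl i

/-- lower triangular for `lvl` and strictly upper unitriangular is trivial -/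
theorem eq_one_of_lower_of_upper {L : ℕ} (hL : ∀ i, lvl i ≤ L) {A : Matrix ι ι F}
    (h1 : Lower lvl 0 A) (h2 : Lower (rev lvl L) 1 (A - 1)) : A = 1 := by
  have hz : A - 1 = 0 := by
    ext r c
    by_contra hne
    have h3 := h2 r c hne
    simp only [rev] at h3
    have hr := hL r
    have hc := hL c
    by_cases hrc : r = c
    · subst hrc; omega
    · have : A r c ≠ 0 := by
        rw [Matrix.sub_apply, Matrix.one_apply_ne hrc, sub_zero] at hne
        exact hne
      have h4 := h1 r c this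
      omega
  exact sub_eq_zero.1 hz

/-- lower and upper triangular is diagonal -/
theorem isDiag_of_lower_of_upper (hinj : Function.Injective lvl) {L : ℕ} (hL : ∀ i, lvl i ≤ L)
    {A : Matrix ι ι F} (h1 : Lower lvl 0 A) (h2 : Lower (rev lvl L) 0 A) : IsDiag A := by
  intro i j hij
  by_contra hne
  have h3 := h1 i j hne
  have h4 := h2 i j hne
  simp only [rev] at h4
  have hr := hL i
  have hc := hL j
  exact hij (hinj (by omega))

theorem rev_injective (hinj : Function.Injective lvl) {L : ℕ} (hL : ∀ i, lvl i ≤ L) :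
    Function.Injective (rev lvl L) := by
  intro i j h
  simp only [rev] at h
  have := hL i
  have := hL j
  exact hinj (by omega)

/-- the subgroup of diagonal invertible matrices -/
def diagSub (ι : Type*) [Fintype ι] [DecidableEq ι] (F : Type*) [Field F] : Subgroup (GL ι F) where
  carrier := {g | IsDiag (g : Matrix ι ι F) ∧ IsDiag ((g⁻¹ : GL ι F) : Matrix ι ι F)}
  one_mem' := by
    refine ⟨?_, ?_⟩
    · rw [Units.val_one, ← Matrix.diagonal_one]; exact isDiag_diagonal _
    · rw [inv_one, Units.val_one, ← Matrix.diagonal_one]; exact isDiag_diagonal _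
  mul_mem' := by
    intro g h hg hh
    refine ⟨?_, ?_⟩
    · rw [Units.val_mul]; exact hg.1.mul hh.1
    · rw [mul_inv_rev, Units.val_mul]; exact hh.2.mul hg.2
  inv_mem' := by
    intro g hg
    refine ⟨hg.2, ?_⟩
    rw [inv_inv]; exact hg.1

theorem mem_diagSub {g : GL ι F} : g ∈ diagSub ι F ↔
    IsDiag (g : Matrix ι ι F) ∧ IsDiag ((g⁻¹ : GL ι F) : Matrix ι ι F) := Iff.rfl

/-- an invertible diagonal matrix has a diagonal inverse -/
theorem mem_diagSub_of_isDiag {g : GL ι F} (h : IsDiag (g : Matrix ι ι F)) : g ∈ diagSub ι F := by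
  refine ⟨h, ?_⟩
  obtain ⟨d, hd⟩ : ∃ d : ι → F, (g : Matrix ι ι F) = Matrix.diagonal d :=
    ⟨fun i => (g : Matrix ι ι F) i i, (isDiag_iff _).1 h⟩
  have hdet : (Matrix.diagonal d).det ≠ 0 := by
    rw [← hd]
    have := (Matrix.isUnit_iff_isUnit_det _).1 g.isUnit
    exact this.ne_zero
  rw [Matrix.det_diagonal, Finset.prod_ne_zero_iff] at hdet
  have h1 : (g : Matrix ι ι F) * (Matrix.diagonal fun i => (d i)⁻¹) = 1 := by
    rw [hd, Matrix.diagonal_mul_diagonal, ← Matrix.diagonal_one]
    congr 1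
    funext i
    exact mul_inv_cancel₀ (hdet i (Finset.mem_univ i))
  have hinv : ((g⁻¹ : GL ι F) : Matrix ι ι F) = Matrix.diagonal fun i => (d i)⁻¹ := by
    calc ((g⁻¹ : GL ι F) : Matrix ι ι F)
        = ((g⁻¹ : GL ι F) : Matrix ι ι F) * ((g : Matrix ι ι F)
            * (Matrix.diagonal fun i => (d i)⁻¹)) := by rw [h1, mul_one]
      _ = Matrix.diagonal fun i => (d i)⁻¹ := by
          rw [← mul_assoc, ← Units.val_mul, inv_mul_cancel, Units.val_one, one_mul]
  rw [hinv]
  exact isDiag_diagonal _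

theorem diagSub_le_triSub : diagSub ι F ≤ triSub lvl F := fun _ hg => ⟨hg.1.lower, hg.2.lower⟩

/-- `unitri ⊓ diagSub = ⊥` -/
theorem unitri_inf_diagSub : unitri lvl F 0 ⊓ diagSub ι F = ⊥ := by
  rw [eq_bot_iff]
  rintro g ⟨hu, hd⟩
  rw [Subgroup.mem_bot]
  apply Units.ext
  rw [Units.val_one]
  exact eq_one_of_lower_one_of_isDiag (mem_unitri.1 hu) hd.1

/-- The diagonal entries of `g ∈ U ⊔ H` (with `U` unitriangular and `H` diagonal) form an element
of `H`. -/
theorem exists_diag_of_mem_sup (hinj : Function.Injective lvl) (U H : Subgroup (GL ι F))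
    (hU : U ≤ unitri lvl F 0) (hH : H ≤ diagSub ι F) (g : GL ι F) (hg : g ∈ U ⊔ H) :
    g ∈ triSub lvl F ∧ ∃ h ∈ H, (h : Matrix ι ι F) = dg (g : Matrix ι ι F) := by
  have hsup : U ⊔ H = Subgroup.closure ((U : Set (GL ι F)) ∪ H) := by
    rw [Subgroup.closure_union, Subgroup.closure_eq, Subgroup.closure_eq]
  rw [hsup] at hg
  induction hg using Subgroup.closure_induction with
  | mem x hx =>
    rcases hx with hx | hx
    · refine ⟨unitri_le_triSub 0 (hU hx), 1, H.one_mem, ?_⟩
      have h1 := mem_unitri.1 (hU hx)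
      rw [Units.val_one, dg, ← Matrix.diagonal_one]
      congr 1
      funext i
      by_contra hne
      have : ((x : Matrix ι ι F) - 1) i i ≠ 0 := by
        rw [Matrix.sub_apply, Matrix.one_apply_eq]
        exact sub_ne_zero.2 (Ne.symm hne)
      have := h1 i i this
      omega
    · exact ⟨diagSub_le_triSub (hH hx), x, hx, (isDiag_iff _).1 (hH hx).1⟩
  | one =>
    refine ⟨Subgroup.one_mem _, 1, H.one_mem, ?_⟩
    rw [Units.val_one, dg_one]
  | mul x y _ _ hx hy =>
    obtain ⟨hx1, hx', hx'm, hx'e⟩ := hx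
    obtain ⟨hy1, hy', hy'm, hy'e⟩ := hy
    refine ⟨Subgroup.mul_mem _ hx1 hy1, hx' * hy', H.mul_mem hx'm hy'm, ?_⟩
    rw [Units.val_mul, Units.val_mul, dg_mul_of_lower hinj hx1.1 hy1.1, hx'e, hy'e]
  | inv x _ hx =>
    obtain ⟨hx1, hx', hx'm, hx'e⟩ := hx
    refine ⟨Subgroup.inv_mem _ hx1, hx'⁻¹, H.inv_mem hx'm, ?_⟩
    have h1 : (hx' : Matrix ι ι F) * dg ((x⁻¹ : GL ι F) : Matrix ι ι F) = 1 := by
      rw [hx'e, ← dg_mul_of_lower hinj hx1.1 hx1.2, ← Units.val_mul, mul_inv_cancel,
        Units.val_one, dg_one]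
    calc ((hx'⁻¹ : GL ι F) : Matrix ι ι F)
        = ((hx'⁻¹ : GL ι F) : Matrix ι ι F)
            * ((hx' : Matrix ι ι F) * dg ((x⁻¹ : GL ι F) : Matrix ι ι F)) := by rw [h1, mul_one]
      _ = dg ((x⁻¹ : GL ι F) : Matrix ι ι F) := by
          rw [← mul_assoc, ← Units.val_mul, inv_mul_cancel, Units.val_one, one_mul]

/-- a diagonal element of `U ⊔ H` lies in `H` -/
theorem mem_of_mem_sup_of_isDiag (hinj : Function.Injective lvl) (U H : Subgroup (GL ι F))
    (hU : U ≤ unitri lvl F 0) (hH : H ≤ diagSub ι F) (g : GL ι F) (hg : g ∈ U ⊔ H)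
    (hd : IsDiag (g : Matrix ι ι F)) : g ∈ H := by
  obtain ⟨_, h, hh, he⟩ := exists_diag_of_mem_sup hinj U H hU hH g hg
  have : g = h := by
    apply Units.ext
    rw [he]
    exact (isDiag_iff _).1 hd
  rw [this]
  exact hh

theorem sup_le_triSub (U H : Subgroup (GL ι F)) (hU : U ≤ unitri lvl F 0)
    (hH : H ≤ diagSub ι F) : U ⊔ H ≤ triSub lvl F :=
  sup_le (hU.trans (unitri_le_triSub 0)) (hH.trans diagSub_le_triSub)

end Cfsg.Agent.Lib.Helper5.UniTri
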