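import Mathlib
import Cfsg.Prelude.Def_ChevStructure
import Cfsg.Prelude.Def_ChevG2
import Cfsg.Prelude.Def_ChevB2
import Cfsg.Prelude.Def_ChevD4
import Cfsg.Prelude.Def_ChevF4
import Cfsg.Prelude.Def_ChevE6
import Cfsg.Prelude.Def_ChevE7
import Cfsg.Prelude.Def_ChevE8
import Cfsg.Agent.Lib.Helper5.UniTri2
import Cfsg.Agent.Lib.Helper5.ChevPosUni

set_option autoImplicit false

/-!
The negative unipotent subgroup `V` is upper unitriangular for the level function of `ChevPosUni`.
-/

namespace Cfsg.Agent.Lib.Helper5.ChevPosUni

open Cfsg Cfsg.Lie Cfsg.Agent.Lib.Helper5.UniTri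

theorem lvl_le (D : ChevalleyDatum) (i : D.Idx) : lvl D i ≤ D.rank + D.nroots :=
  (lvl_lt D i).le

theorem lvl_injective (D : ChevalleyDatum) : Function.Injective (lvl D) := by
  intro x y h
  rcases x with i | s <;> rcases y with i' | s'
  · simp only [lvl] at h
    exact congrArg _ (Fin.ext (by omega))
  · have := i.2
    simp only [lvl] at h
    split_ifs at h <;> omega
  · have := i'.2
    simp only [lvl] at h
    split_ifs at h <;> omega
  · simp only [lvl] at h
    apply congrArg
    apply Fin.ext
    split_ifs at h <;> omega

/-- The table conditions for negative roots. -/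
def GoodNeg (D : ChevalleyDatum) : Prop :=
  ∀ r ∈ List.range D.nroots, D.IsNegRoot r →
    (r < D.nroots / 2 ∧ D.nroots / 2 ≤ D.negIdx.getD r 0 ∧
      ∀ e ∈ (D.chain.getD r #[]).toList, ∀ p ∈ e.2.toList, p.1 < e.1)

instance (D : ChevalleyDatum) : Decidable (GoodNeg D) := by
  unfold GoodNeg
  infer_instance

set_option maxRecDepth 1000000 in
theorem goodNeg_G2 : GoodNeg chevG2 := by decide +kernel

set_option maxRecDepth 1000000 in
theorem goodNeg_B2 : GoodNeg chevB2 := by decide +kernel

set_option maxRecDepth 1000000 in
theorem goodNeg_D4 : GoodNeg chevD4 := by decide +kernel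

set_option maxRecDepth 1000000 in
theorem goodNeg_F4 : GoodNeg chevF4 := by decide +kernel

set_option maxRecDepth 1000000 in
theorem goodNeg_E6 : GoodNeg chevE6 := by decide +kernel

set_option maxRecDepth 1000000 in
theorem goodNeg_E7 : GoodNeg chevE7 := by decide +kernel

set_option maxRecDepth 1000000 in
theorem goodNeg_E8 : GoodNeg chevE8 := by decide +kernel

theorem goodNeg_of_mem (D : ChevalleyDatum)
    (hD : D ∈ [chevG2, chevB2, chevD4, chevF4, chevE6, chevE7, chevE8]) : GoodNeg D := by
  simp only [List.mem_cons, List.not_mem_nil, or_false] at hD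
  rcases hD with rfl | rfl | rfl | rfl | rfl | rfl | rfl
  · exact goodNeg_G2
  · exact goodNeg_B2
  · exact goodNeg_D4
  · exact goodNeg_F4
  · exact goodNeg_E6
  · exact goodNeg_E7
  · exact goodNeg_E8

variable {F : Type*} [Field F]

theorem xMat_sub_one_upper (D : ChevalleyDatum) (hD : GoodNeg D) (r : ℕ) (hr : D.IsNegRoot r)
    (t : F) : Lower (rev (lvl D) (D.rank + D.nroots)) 1 (D.xMat F ⟨r, hr.1⟩ t - 1) := by
  obtain ⟨h1, h2, h3⟩ := hD r (List.mem_range.2 hr.1) hr
  have key : ∀ row col : D.Idx, lvl D row < lvl D col →
      rev (lvl D) (D.rank + D.nroots) col + 1 ≤ rev (lvl D) (D.rank + D.nroots) row := by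
    intro row col h
    have := lvl_lt D row
    have := lvl_lt D col
    simp only [rev]
    omega
  intro row col hne
  apply key
  rw [Matrix.sub_apply] at hne
  rcases col with i | s
  · rcases row with i' | u
    · exfalso
      apply hne
      simp only [ChevalleyDatum.xMat, Matrix.of_apply, Matrix.one_apply, Sum.inl.injEq]
      exact sub_self _
    · have hur : u = ⟨r, hr.1⟩ := by
        by_contra hur
        apply hne
        simp [ChevalleyDatum.xMat, Matrix.of_apply, hur]
      subst hur
      have := i.2
      simp only [lvl]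
      rw [if_pos (by omega)]
      omega
  · by_cases hsr : s = ⟨r, hr.1⟩
    · exfalso
      apply hne
      subst hsr
      rcases row with i' | u
      · simp [ChevalleyDatum.xMat, Matrix.of_apply]
      · by_cases hu : u = ⟨r, hr.1⟩
        · subst hu
          simp [ChevalleyDatum.xMat, Matrix.of_apply]
        · simp [ChevalleyDatum.xMat, Matrix.of_apply, hu, Matrix.one_apply]
    · by_cases hsn : s.val = D.negIdx.getD r 0
      · have hs : ¬ s.val < D.nroots / 2 := by rw [hsn]; omega
        rcases row with i' | u
        · have := i'.2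
          simp only [lvl]
          rw [if_neg hs]
          omega
        · have hur : u = ⟨r, hr.1⟩ := by
            by_contra hur
            apply hne
            by_cases hus : u = s
            · subst hus
              simp [ChevalleyDatum.xMat, Matrix.of_apply, hsr, hsn]
            · simp [ChevalleyDatum.xMat, Matrix.of_apply, hsr, hsn, hus, hur, Matrix.one_apply]
          subst hur
          simp only [lvl]
          rw [if_neg hs, if_pos (by omega)]
          omega
      · rcases row with i' | u
        · exfalso
          apply hne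
          simp only [ChevalleyDatum.xMat, Matrix.of_apply, hsr, hsn, if_false]
          simp
        · have hc : D.chainCoeff r s.val u.val ≠ [] := by
            intro hc
            apply hne
            simp only [ChevalleyDatum.xMat, Matrix.of_apply, hsr, hsn, if_false, hc, List.map_nil,
              List.sum_nil, add_zero, Matrix.one_apply, Sum.inr.injEq]
            exact sub_self _
          obtain ⟨e, he, p, hp, hes, hpu⟩ := chainCoeff_ne_nil hc
          have hlt := h3 e he p hp
          rw [hes, hpu] at hlt
          simp only [lvl]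
          split_ifs <;> omega

theorem x_sub_one_upper (D : ChevalleyDatum) (hD : GoodNeg D) (r : ℕ) (hr : D.IsNegRoot r)
    (t : F) : Lower (rev (lvl D) (D.rank + D.nroots)) 1 (D.x F r t - 1) := by
  unfold ChevalleyDatum.x
  rw [dif_pos hr.1]
  exact xMat_sub_one_upper D hD r hr t

theorem negUnipotent_le (D : ChevalleyDatum) (hD : GoodNeg D) :
    D.negUnipotent F ≤ unitri (rev (lvl D) (D.rank + D.nroots)) F 0 := by
  unfold ChevalleyDatum.negUnipotent
  rw [Subgroup.closure_le]
  rintro g ⟨r, t, hr, hg⟩
  show Lower (rev (lvl D) (D.rank + D.nroots)) (0 + 1) ((g : Matrix D.Idx D.Idx F) - 1)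
  rw [hg]
  exact x_sub_one_upper D hD r hr t

end Cfsg.Agent.Lib.Helper5.ChevPosUni
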