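import Mathlib
import Cfsg.Agent.Lib.Helper5.UniTri2

set_option autoImplicit false

/-!
The group of triangular matrices (for an injective level function) is solvable.
-/

namespace Cfsg.Agent.Lib.Helper5.UniTri

variable {ι : Type*} [Fintype ι] [DecidableEq ι] {F : Type*} [Field F] {lvl : ι → ℕ}

theorem diag_ne_zero_of_mem_triSub (hinj : Function.Injective lvl) {g : GL ι F}
    (hg : g ∈ triSub lvl F) (i : ι) : (g : Matrix ι ι F) i i ≠ 0 := by
  intro h0
  have h1 := mul_apply_diag_of_lower hinj hg.1 hg.2 i
  rw [← Units.val_mul, mul_inv_cancel, Units.val_one, Matrix.one_apply_eq, h0, zero_mul] at h1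
  exact one_ne_zero h1

/-- the diagonal entries, as a homomorphism to the torus -/
noncomputable def diagHom (hinj : Function.Injective lvl) : triSub lvl F →* (ι → Fˣ) where
  toFun g := fun i => Units.mk0 (((g : GL ι F) : Matrix ι ι F) i i)
      (diag_ne_zero_of_mem_triSub hinj g.2 i)
  map_one' := by
    funext i
    apply Units.ext
    simp
  map_mul' := by
    intro g h
    funext i
    apply Units.ext
    simp only [Subgroup.coe_mul, Units.val_mul, Pi.mul_apply, Units.val_mk0]
    exact mul_apply_diag_of_lower hinj g.2.1 h.2.1 i

theorem isSolvable_triSub (hinj : Function.Injective lvl) : Group.IsSolvable (triSub lvl F) := by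
  have hnil : Group.IsNilpotent (unitri lvl F 0) := isNilpotent_of_le _ le_rfl
  have hker : ∀ g : (diagHom (F := F) hinj).ker, ((g : triSub lvl F) : GL ι F) ∈ unitri lvl F 0 := by
    intro g
    have hg := g.2
    rw [MonoidHom.mem_ker] at hg
    have hd : ∀ i, (((g : triSub lvl F) : GL ι F) : Matrix ι ι F) i i = 1 := by
      intro i
      have := congrArg (fun f => ((f i : Fˣ) : F)) hg
      simpa [diagHom] using this
    rw [mem_unitri]
    exact lower_one_of_diag_one hinj (g : triSub lvl F).2.1 hd
  let f : (diagHom (F := F) hinj).ker →* unitri lvl F 0 :=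
    { toFun := fun g => ⟨((g : triSub lvl F) : GL ι F), hker g⟩
      map_one' := rfl
      map_mul' := fun _ _ => rfl }
  have hf : Function.Injective f := by
    intro x y hxy
    have := congrArg (fun z : unitri lvl F 0 => (z : GL ι F)) hxy
    exact Subtype.ext (Subtype.ext this)
  have hsk : Group.IsSolvable (diagHom (F := F) hinj).ker := Group.isSolvable_of_isSolvable_injective hf
  exact Group.isSolvable_of_ker_le_range (diagHom (F := F) hinj).ker.subtype (diagHom (F := F) hinj)
    (by rw [Subgroup.range_subtype])

theorem isSolvable_of_le_triSub (hinj : Function.Injective lvl) (B : Subgroup (GL ι F))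
    (hB : B ≤ triSub lvl F) : Group.IsSolvable B := by
  have := isSolvable_triSub (F := F) hinj
  exact Group.isSolvable_of_isSolvable_injective (Subgroup.inclusion_injective hB)

end Cfsg.Agent.Lib.Helper5.UniTri
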