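import Mathlib
import Cfsg.Prelude.Def_ChevStructure
import Cfsg.Agent.Lib.Helper5.ChevChk.HAll
import Cfsg.Agent.Lib.Helper5.UniTri3
import Cfsg.Agent.Lib.Helper5.ChevNegUni

set_option autoImplicit false

/-!
Consequences of `h_r(t)` being diagonal: `H` is a group of diagonal matrices, `B = UH` is
triangular, hence solvable; `UH ∩ V = 1`, `UH ∩ VH = H`, `U ∩ H = 1`.
-/

namespace Cfsg.Agent.Lib.Helper5.ChevStruct

open Cfsg Cfsg.Lie Cfsg.Agent.Lib.Helper5.UniTri Cfsg.Agent.Lib.Helper5.ChevPosUni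
  Cfsg.Agent.Lib.Helper5.ChevSym

variable {F : Type*} [Field F]

abbrev SevenTypes : List ChevalleyDatum :=
  [chevG2, chevB2, chevD4, chevF4, chevE6, chevE7, chevE8]

theorem diagonalSubgroup_le_diagSub (D : ChevalleyDatum) (hD : D ∈ SevenTypes) :
    D.diagonalSubgroup F ≤ diagSub D.Idx F := by
  unfold ChevalleyDatum.diagonalSubgroup
  rw [Subgroup.closure_le]
  rintro g ⟨r, t, hr, ht, hg⟩
  apply mem_diagSub_of_isDiag
  rw [hg, hMat_diag D hD r hr t ht]
  exact isDiag_diagonal _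

theorem borel_le_triSub (D : ChevalleyDatum) (hD : D ∈ SevenTypes) :
    D.borelSubgroup F ≤ triSub (lvl D) F :=
  sup_le_triSub _ _ (posUnipotent_le D (good_of_mem D hD)) (diagonalSubgroup_le_diagSub D hD)

theorem borel_isSolvable (D : ChevalleyDatum) (hD : D ∈ SevenTypes) :
    Group.IsSolvable (D.borelSubgroup F) :=
  isSolvable_of_le_triSub (lvl_injective D) _ (borel_le_triSub D hD)

theorem pos_inf_diagonal (D : ChevalleyDatum) (hD : D ∈ SevenTypes) :
    D.posUnipotent F ⊓ D.diagonalSubgroup F = ⊥ := by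
  rw [eq_bot_iff]
  have := unitri_inf_diagSub (lvl := lvl D) (F := F)
  rw [← this]
  exact inf_le_inf (posUnipotent_le D (good_of_mem D hD)) (diagonalSubgroup_le_diagSub D hD)

theorem borel_inf_neg (D : ChevalleyDatum) (hD : D ∈ SevenTypes) :
    D.borelSubgroup F ⊓ D.negUnipotent F = ⊥ := by
  rw [eq_bot_iff]
  rintro g ⟨hB, hV⟩
  rw [Subgroup.mem_bot]
  have h1 := (borel_le_triSub D hD hB).1
  have h2 := mem_unitri.1 (negUnipotent_le D (goodNeg_of_mem D hD) hV)
  apply Units.ext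
  rw [Units.val_one]
  exact eq_one_of_lower_of_upper (lvl_le D) h1 h2

theorem borel_inf_negBorel (D : ChevalleyDatum) (hD : D ∈ SevenTypes) :
    D.borelSubgroup F ⊓ (D.negUnipotent F ⊔ D.diagonalSubgroup F) = D.diagonalSubgroup F := by
  apply le_antisymm
  · rintro g ⟨hB, hVH⟩
    have h1 := (borel_le_triSub D hD hB).1
    have h2 := (sup_le_triSub (lvl := rev (lvl D) (D.rank + D.nroots)) _ _
      (negUnipotent_le D (goodNeg_of_mem D hD)) (diagonalSubgroup_le_diagSub D hD) hVH).1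
    have hd : IsDiag (g : Matrix D.Idx D.Idx F) :=
      isDiag_of_lower_of_upper (lvl_injective D) (lvl_le D) h1 h2
    exact mem_of_mem_sup_of_isDiag (lvl_injective D) _ _ (posUnipotent_le D (good_of_mem D hD))
      (diagonalSubgroup_le_diagSub D hD) g hB hd
  · exact le_inf le_sup_right le_sup_right

end Cfsg.Agent.Lib.Helper5.ChevStruct
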