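import Mathlib
import Cfsg.Prelude.Def_ChevStructure
import Cfsg.Agent.Lib.Helper5.ChevSymNSound

set_option autoImplicit false

/-!
`n_r(1)`, for every root `r`, maps every root vector to a multiple of a root vector and the
Cartan part into itself.
-/

namespace Cfsg.Agent.Lib.Helper5.ChevSym

open Cfsg Cfsg.Lie

/-- at most one term, at a root index -/
def rootCol (rank : ℕ) : Vec → Bool
  | [] => true
  | [τ] => Nat.ble rank τ.idx
  | _ :: _ :: _ => false

/-- all terms at Cartan indices -/
def cartanCol (rank : ℕ) : Vec → Bool
  | [] => true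
  | τ :: v => Nat.blt τ.idx rank && cartanCol rank v

def checkMonoR (D : ChevalleyDatum) (r : ℕ) : Bool :=
  canon (fun r => canon (fun nr =>
    (supp D r ++ supp D nr).all fun col =>
      bif Nat.blt col D.rank then cartanCol D.rank (nCol D r nr col)
      else rootCol D.rank (nCol D r nr col)) (D.negIdx.getD r 0)) r

variable {F : Type*} [Field F]

/-- root vectors go to multiples of root vectors, the Cartan part into itself -/
def IsRootMono (D : ChevalleyDatum) (M : Matrix D.Idx D.Idx F) : Prop :=
  (∀ s : Fin D.nroots, ∃ s' : Fin D.nroots, ∀ row, row ≠ Sum.inr s' → M row (Sum.inr s) = 0) ∧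
  (∀ (k : Fin D.rank) (s' : Fin D.nroots), M (Sum.inr s') (Sum.inl k) = 0)

theorem isRootMono_one (D : ChevalleyDatum) : IsRootMono D (1 : Matrix D.Idx D.Idx F) := by
  constructor
  · intro s
    exact ⟨s, fun row hrow => Matrix.one_apply_ne hrow⟩
  · intro k s'
    exact Matrix.one_apply_ne (by simp)

theorem isRootMono_diagonal (D : ChevalleyDatum) (d : D.Idx → F) :
    IsRootMono D (Matrix.diagonal d) := by
  constructor
  · intro s
    exact ⟨s, fun row hrow => Matrix.diagonal_apply_ne _ hrow⟩
  · intro k s'
    exact Matrix.diagonal_apply_ne _ (by simp)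

theorem IsRootMono.mul (D : ChevalleyDatum) {A B : Matrix D.Idx D.Idx F} (hA : IsRootMono D A)
    (hB : IsRootMono D B) : IsRootMono D (A * B) := by
  constructor
  · intro s
    obtain ⟨s', hs'⟩ := hB.1 s
    obtain ⟨s'', hs''⟩ := hA.1 s'
    refine ⟨s'', fun row hrow => ?_⟩
    rw [Matrix.mul_apply]
    apply Finset.sum_eq_zero
    intro j _
    by_cases hj : j = Sum.inr s'
    · rw [hj, hs'' row hrow, zero_mul]
    · rw [hs' j hj, mul_zero]
  · intro k s'
    rw [Matrix.mul_apply]
    apply Finset.sum_eq_zero
    intro j _
    rcases j with k' | u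
    · rw [hA.2 k' s', zero_mul]
    · rw [hB.2 k u, mul_zero]

theorem evalVec_cartanCol (rank : ℕ) (v : Vec) (h : cartanCol rank v = true) (n : ℕ)
    (hn : rank ≤ n) : evalVec (1 : F) 1 v n = 0 := by
  induction v with
  | nil => rfl
  | cons τ v ih =>
    simp only [cartanCol, Bool.and_eq_true, Nat.blt_eq] at h
    rw [evalVec_cons, ih h.2, add_zero, if_neg (by omega)]

theorem nMat_isRootMono_of_check (D : ChevalleyDatum) (r : ℕ) (h : checkMonoR D r = true) :
    IsRootMono D (D.nMat F r 1) := by
  unfold checkMonoR at h
  rw [canon_eq, canon_eq, List.all_eq_true] at h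
  have hk := keyEq_sound (1 : F) 1
  have e0 : ∀ row col : D.Idx, D.nMat F r 1 row col
      = evalVec (1 : F) 1 (nCol D r (D.neg r) (code D col)) (code D row) := by
    intro row col
    unfold ChevalleyDatum.nMat nCol
    rw [wordCol_sound D keyEq 1 1 hk, evalW_nWordSym]
  have htriv : ∀ col : D.Idx, code D col ∉ supp D r ++ supp D (D.neg r) →
      ∀ row : D.Idx, D.nMat F r 1 row col = (1 : Matrix D.Idx D.Idx F) row col := by
    intro col hc row
    unfold ChevalleyDatum.nMat
    apply wordMat_col_trivial
    intro rt hrt
    simp only [ChevalleyDatum.nWord, List.mem_cons, List.not_mem_nil, or_false] at hrt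
    rcases hrt with rfl | rfl | rfl
    · exact fun hm => hc (List.mem_append_left _ hm)
    · exact fun hm => hc (List.mem_append_right _ hm)
    · exact fun hm => hc (List.mem_append_left _ hm)
  constructor
  · intro s
    by_cases hc : code D (Sum.inr s : D.Idx) ∈ supp D r ++ supp D (D.neg r)
    · have hchk := h _ hc
      have hcode : code D (Sum.inr s : D.Idx) = D.rank + s.val := rfl
      rw [cond_blt_neg (by rw [hcode]; omega)] at hchk
      have hin := inRange_wordCol D keyEq (nWordSym r (D.neg r)) _ (code_lt D (Sum.inr s))
      match hv : nCol D r (D.neg r) (code D (Sum.inr s : D.Idx)), hchk with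
      | [], _ =>
        refine ⟨s, fun row _ => ?_⟩
        rw [e0, hv]
        rfl
      | [τ], hchk =>
        simp only [rootCol] at hchk
        have h1 : D.rank ≤ τ.idx := Nat.le_of_ble_eq_true hchk
        have h2 : τ.idx < D.rank + D.nroots := by
          apply hin
          unfold nCol at hv
          rw [hv]
          exact List.mem_cons_self ..
        refine ⟨⟨τ.idx - D.rank, by omega⟩, fun row hrow => ?_⟩
        rw [e0, hv, evalVec_cons, evalVec_nil, add_zero, if_neg]
        intro hidx
        apply hrow
        apply code_injective D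
        rw [← hidx]
        simp only [code]
        omega
    · refine ⟨s, fun row hrow => ?_⟩
      rw [htriv _ hc]
      exact Matrix.one_apply_ne hrow
  · intro k s'
    by_cases hc : code D (Sum.inl k : D.Idx) ∈ supp D r ++ supp D (D.neg r)
    · have hchk := h _ hc
      have hcode : code D (Sum.inl k : D.Idx) = k.val := rfl
      rw [cond_blt_pos (by rw [hcode]; exact k.2)] at hchk
      rw [e0]
      apply evalVec_cartanCol _ _ hchk
      simp only [code]
      omega
    · rw [htriv _ hc]
      exact Matrix.one_apply_ne (by simp)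

end Cfsg.Agent.Lib.Helper5.ChevSym
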