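import Mathlib
import Cfsg.Prelude.Def_ChevStructure
import Cfsg.Agent.Lib.Helper5.ChevPosUni

set_option autoImplicit false

/-!
A second level function, constant on the Cartan part: `U` is unitriangular for it as well, so the
Cartan block of every element of `U` is the identity.
-/

namespace Cfsg.Agent.Lib.Helper5.ChevPosUni

open Cfsg Cfsg.Lie Cfsg.Agent.Lib.Helper5.UniTri

/-- negative roots first, then the whole Cartan part on one level, then the positive roots -/
def lvl2 (D : ChevalleyDatum) : D.Idx → ℕ
  | Sum.inl _ => D.nroots / 2
  | Sum.inr s => if s.val < D.nroots / 2 then s.val else s.val + 1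

variable {F : Type*} [Field F]

theorem xMat_sub_one_lower2 (D : ChevalleyDatum) (hD : Good D) (r : ℕ) (hr : D.IsPosRoot r)
    (t : F) : Lower (lvl2 D) 1 (D.xMat F ⟨r, hr.1⟩ t - 1) := by
  obtain ⟨h1, h2, h3⟩ := hD r (List.mem_range.2 hr.1) hr
  intro row col hne
  rw [Matrix.sub_apply] at hne
  rcases col with i | s
  · rcases row with i' | u
    · exfalso
      apply hne
      simp only [ChevalleyDatum.xMat, Matrix.of_apply, Matrix.one_apply, Sum.inl.injEq]
      exact sub_self _
    · have hur : u = ⟨r, hr.1⟩ := by
        by_contra hur
        apply hne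
        simp [ChevalleyDatum.xMat, Matrix.of_apply, hur]
      subst hur
      have := i.2
      simp only [lvl2]
      rw [if_neg (by omega)]
      omega
  · by_cases hsr : s = ⟨r, hr.1⟩
    · exfalso
      apply hne
      subst hsr
      rcases row with i' | u
      · simp [ChevalleyDatum.xMat, Matrix.of_apply]
      · by_cases hu : u = ⟨r, hr.1⟩
        · subst hu
          simp [ChevalleyDatum.xMat, Matrix.of_apply]
        · simp [ChevalleyDatum.xMat, Matrix.of_apply, hu, Matrix.one_apply]
    · by_cases hsn : s.val = D.negIdx.getD r 0
      · have hs : s.val < D.nroots / 2 := by rw [hsn]; exact h2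
        rcases row with i' | u
        · simp only [lvl2]
          rw [if_pos hs]
          omega
        · have hur : u = ⟨r, hr.1⟩ := by
            by_contra hur
            apply hne
            by_cases hus : u = s
            · subst hus
              simp [ChevalleyDatum.xMat, Matrix.of_apply, hsr, hsn]
            · simp [ChevalleyDatum.xMat, Matrix.of_apply, hsr, hsn, hus, hur, Matrix.one_apply]
          subst hur
          simp only [lvl2]
          rw [if_pos hs, if_neg (by omega)]
          omega
      · rcases row with i' | u
        · exfalso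
          apply hne
          simp only [ChevalleyDatum.xMat, Matrix.of_apply, hsr, hsn, if_false]
          simp
        · have hc : D.chainCoeff r s.val u.val ≠ [] := by
            intro hc
            apply hne
            simp only [ChevalleyDatum.xMat, Matrix.of_apply, hsr, hsn, if_false, hc, List.map_nil,
              List.sum_nil, add_zero, Matrix.one_apply, Sum.inr.injEq]
            exact sub_self _
          obtain ⟨e, he, p, hp, hes, hpu⟩ := chainCoeff_ne_nil hc
          have hlt := h3 e he p hp
          rw [hes, hpu] at hlt
          simp only [lvl2]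
          split_ifs <;> omega

theorem x_sub_one_lower2 (D : ChevalleyDatum) (hD : Good D) (r : ℕ) (hr : D.IsPosRoot r)
    (t : F) : Lower (lvl2 D) 1 (D.x F r t - 1) := by
  unfold ChevalleyDatum.x
  rw [dif_pos hr.1]
  exact xMat_sub_one_lower2 D hD r hr t

theorem posUnipotent_le2 (D : ChevalleyDatum) (hD : Good D) :
    D.posUnipotent F ≤ unitri (lvl2 D) F 0 := by
  unfold ChevalleyDatum.posUnipotent
  rw [Subgroup.closure_le]
  rintro g ⟨r, t, hr, hg⟩
  show Lower (lvl2 D) (0 + 1) ((g : Matrix D.Idx D.Idx F) - 1)
  rw [hg]
  exact x_sub_one_lower2 D hD r hr t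

/-- the Cartan block of an element of `U` is the identity, its diagonal is `1` -/
theorem posUnipotent_cartan_block (D : ChevalleyDatum) (hD : Good D) (g : GL D.Idx F)
    (hg : g ∈ D.posUnipotent F) (i i' : Fin D.rank) :
    (g : Matrix D.Idx D.Idx F) (Sum.inl i') (Sum.inl i)
      = (1 : Matrix D.Idx D.Idx F) (Sum.inl i') (Sum.inl i) := by
  have h := mem_unitri.1 (posUnipotent_le2 D hD hg)
  by_contra hne
  have := h (Sum.inl i') (Sum.inl i) (by
    rw [Matrix.sub_apply]
    exact sub_ne_zero.2 hne)
  simp only [lvl2] at this
  omega

theorem posUnipotent_diag (D : ChevalleyDatum) (hD : Good D) (g : GL D.Idx F)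
    (hg : g ∈ D.posUnipotent F) (j : D.Idx) : (g : Matrix D.Idx D.Idx F) j j = 1 := by
  have h := mem_unitri.1 (posUnipotent_le2 D hD hg)
  by_contra hne
  have := h j j (by
    rw [Matrix.sub_apply, Matrix.one_apply_eq]
    exact sub_ne_zero.2 hne)
  omega

end Cfsg.Agent.Lib.Helper5.ChevPosUni
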