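import Mathlib
import Cfsg.Prelude.Def_ChevStructure
import Cfsg.Agent.Lib.Helper5.ChevChk.MonoRAll
import Cfsg.Agent.Lib.Helper5.ChevPosUni2
import Cfsg.Agent.Lib.Helper5.ChevNormal
import Cfsg.Agent.Lib.Helper5.ChevDiag

set_option autoImplicit false

/-!
`U ∩ N = 1` and `B ∩ N = H`.
-/

namespace Cfsg.Agent.Lib.Helper5.ChevStruct

open Cfsg Cfsg.Lie Cfsg.Agent.Lib.Helper5.ChevSym Cfsg.Agent.Lib.Helper5.ChevPosUni

variable {F : Type*} [Field F]

theorem diagonal_isRootMono (D : ChevalleyDatum) (hD : D ∈ Seven) (g : GL D.Idx F)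
    (hg : g ∈ D.diagonalSubgroup F) : IsRootMono D (g : Matrix D.Idx D.Idx F) := by
  obtain ⟨c, _, hgc⟩ := exists_torusMat_of_mem D hD g hg
  rw [hgc]
  exact isRootMono_diagonal D _

theorem monomial_isRootMono (D : ChevalleyDatum) (hD : D ∈ Seven) (g : GL D.Idx F)
    (hg : g ∈ D.monomialSubgroup F) : IsRootMono D (g : Matrix D.Idx D.Idx F) := by
  unfold ChevalleyDatum.monomialSubgroup at hg
  rw [← Subgroup.closure_eq (D.diagonalSubgroup F), ← Subgroup.closure_union] at hg
  induction hg using Subgroup.closure_induction'' with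
  | mem x hx =>
    rcases hx with hx | ⟨r, hr, hx⟩
    · exact diagonal_isRootMono D hD x hx
    · rw [hx]
      exact nMat_isRootMono D hD r hr
  | inv_mem x hx =>
    rcases hx with hx | ⟨r, hr, hx⟩
    · exact diagonal_isRootMono D hD x⁻¹ (inv_mem hx)
    · have hinv : ((x⁻¹ : GL D.Idx F) : Matrix D.Idx D.Idx F) = D.nMat F r (-1) := by
        apply val_inv_eq_of_mul_eq_one
        rw [hx]
        exact nMat_mul_neg D hD r 1
      rw [hinv, nMat_eq_hMat_mul D hD r (-1),
        hMat_diag D hD r hr (-1) (neg_ne_zero.2 one_ne_zero)]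
      exact IsRootMono.mul D (isRootMono_diagonal D _) (nMat_isRootMono D hD r hr)
  | one =>
    rw [Units.val_one]
    exact isRootMono_one D
  | mul x y _ _ hx hy =>
    rw [Units.val_mul]
    exact IsRootMono.mul D hx hy

/-- `U ∩ N = 1` -/
theorem pos_inf_monomial (D : ChevalleyDatum) (hD : D ∈ Seven) :
    D.posUnipotent F ⊓ D.monomialSubgroup F = ⊥ := by
  rw [eq_bot_iff]
  rintro u ⟨hU, hN⟩
  rw [Subgroup.mem_bot]
  have hG := good_of_mem D hD
  obtain ⟨h1, h2⟩ := monomial_isRootMono D hD u hN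
  apply Units.ext
  rw [Units.val_one]
  ext row col
  rcases col with k | s
  · rcases row with k' | s'
    · exact posUnipotent_cartan_block D hG u hU k k'
    · rw [h2 k s']
      exact (Matrix.one_apply_ne (by simp)).symm
  · obtain ⟨s', hs'⟩ := h1 s
    have hd := posUnipotent_diag D hG u hU (Sum.inr s)
    have hss : (Sum.inr s : D.Idx) = Sum.inr s' := by
      by_contra hne
      rw [hs' _ hne] at hd
      exact zero_ne_one hd
    by_cases hrow : row = Sum.inr s
    · rw [hrow, hd, Matrix.one_apply_eq]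
    · rw [hs' row (by rw [← hss]; exact hrow), Matrix.one_apply_ne hrow]

/-- `B ∩ N = H` -/
theorem borel_inf_monomial (D : ChevalleyDatum) (hD : D ∈ Seven) :
    D.borelSubgroup F ⊓ D.monomialSubgroup F = D.diagonalSubgroup F := by
  apply le_antisymm
  · rintro g ⟨hB, hN⟩
    have hB' : g ∈ ((D.posUnipotent F ⊔ D.diagonalSubgroup F : Subgroup (GL D.Idx F)) :
        Set (GL D.Idx F)) := hB
    rw [Subgroup.coe_mul_of_right_le_normalizer_left _ _ (diagonal_le_normalizer_pos D hD),
      Set.mem_mul] at hB'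
    obtain ⟨u, hu, h, hh, rfl⟩ := hB'
    have hu' : u ∈ D.posUnipotent F ⊓ D.monomialSubgroup F := by
      refine ⟨hu, ?_⟩
      have : u = (u * h) * h⁻¹ := by group
      rw [this]
      have hhN : h ∈ D.monomialSubgroup F := by
        unfold ChevalleyDatum.monomialSubgroup
        exact Subgroup.mem_sup_left hh
      exact (D.monomialSubgroup F).mul_mem hN ((D.monomialSubgroup F).inv_mem hhN)
    rw [pos_inf_monomial D hD, Subgroup.mem_bot] at hu'
    rw [hu', one_mul]
    exact hh
  · exact le_inf le_sup_right le_sup_left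

end Cfsg.Agent.Lib.Helper5.ChevStruct
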