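import Mathlib
import Cfsg.Prelude.Def_ChevStructure
import Cfsg.Prelude.Def_LieExceptional
import Cfsg.Agent.S1024
import Cfsg.Agent.Lib.Helper5.ChevBN
import Cfsg.Agent.Lib.Helper5.ChevMonoN
import Cfsg.Agent.Lib.Helper5.ChevDiag
import Cfsg.Agent.Lib.Helper5.ChevChk.ParaAll

set_option autoImplicit false

/-!
The `(B,N)`-pair of a Chevalley group.
-/

namespace Cfsg.Agent.Lib.Helper5.ChevStruct

open Cfsg Cfsg.Lie Cfsg.Agent.Lib.Helper5.ChevSym

variable {F : Type*} [Field F]

/-- `n_i⁻¹ n_j ∈ B` forces `i = j` -/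
theorem nGL_inj (D : ChevalleyDatum) (hD : D ∈ Seven) (i j : ℕ) (hi : i < D.rank)
    (hj : j < D.rank)
    (h : ((nGL D hD i)⁻¹ * nGL D hD j : GL D.Idx F) ∈ D.borelSubgroup F) : i = j := by
  have hrj : D.simple j < D.nroots := (checkRows_spec D (checkRows_all D hD) j hj).2.1
  have hN : ((nGL D hD i)⁻¹ * nGL D hD j : GL D.Idx F) ∈ D.monomialSubgroup F :=
    (D.monomialSubgroup F).mul_mem ((D.monomialSubgroup F).inv_mem (nGL_mem D hD i hi))
      (nGL_mem D hD j hj)
  have hH : ((nGL D hD i)⁻¹ * nGL D hD j : GL D.Idx F) ∈ D.diagonalSubgroup F := by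
    rw [← borel_inf_monomial D hD]
    exact ⟨h, hN⟩
  set hh : GL D.Idx F := (nGL D hD i)⁻¹ * nGL D hD j with hhdef
  obtain ⟨c, hc, hval⟩ := exists_torusMat_of_mem D hD hh hH
  have e : (nGL D hD j : GL D.Idx F) = nGL D hD i * hh := by rw [hhdef]; group
  -- conjugate `x_{p_j}(1)`
  have h1 := nGL_conj (F := F) D hD j hj _ hrj 1 (xGL D hD (D.simple j) 1) rfl
  have h2 : (nGL D hD j * xGL D hD (D.simple j) (1 : F) * (nGL D hD j)⁻¹ : GL D.Idx F)
      = nGL D hD i * (hh * xGL D hD (D.simple j) 1 * hh⁻¹) * (nGL D hD i)⁻¹ := by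
    rw [e]; group
  rw [h2, nGL_conj (F := F) D hD i hi _ hrj (chi D c (D.simple j) * 1) _
    (torus_conj_x D hD hh _ c hc hval _ 1 rfl)] at h1
  have hη : ((eta D j (D.simple j) : ℤ) : F) * 1 ≠ 0 := by
    rw [(nMat_simple (F := F) D hD j hj).2.1]
    simp
  have := x_root_inj D hD _ _ (reflectRoot_invol D hD j hj _ hrj).1
    (reflectRoot_invol D hD i hi _ hrj).1 _ _ hη h1.symm
  have e2 : D.reflectRoot j (D.simple j) = D.neg (D.simple j) := by
    unfold ChevalleyDatum.reflectRoot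
    simp only [if_true]
  rw [e2] at this
  exact checkInjS_spec D (chkBN_all D hD).2.1 i j hi hj this.symm

theorem isNegRoot_neg_simple (D : ChevalleyDatum) (hD : D ∈ Seven) (i : ℕ) (hi : i < D.rank) :
    D.IsNegRoot (D.neg (D.simple i)) := by
  obtain ⟨_, hnp, _, hlt, _⟩ := checkUp_spec D i (chkUp_all D hD i hi)
  rcases checkPara_root D (chkPara_all D hD) _ hlt with h | h
  · exact absurd h hnp
  · exact h.1

/-- `n_p B n_p ≠ B` -/
theorem nGL_conj_borel_ne (D : ChevalleyDatum) (hD : D ∈ Seven) (i : ℕ) (hi : i < D.rank) :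
    ∃ b ∈ D.borelSubgroup F, (nGL D hD i * b * nGL D hD i : GL D.Idx F) ∉ D.borelSubgroup F := by
  have hr : D.simple i < D.nroots := (checkRows_spec D (checkRows_all D hD) i hi).2.1
  obtain ⟨hp, -, -, hlt, -⟩ := checkUp_spec D i (chkUp_all D hD i hi)
  refine ⟨xGL D hD (D.simple i) 1, pos_le_borel D (xGL_mem_pos D hD _ hp _), fun hy => ?_⟩
  set s : GL D.Idx F := nGL D hD i with hs
  have hz : s * xGL D hD (D.simple i) (1 : F) * s⁻¹ ∈ D.borelSubgroup F := by
    have e : s * xGL D hD (D.simple i) (1 : F) * s⁻¹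
        = (s * xGL D hD (D.simple i) 1 * s) * (s⁻¹ * s⁻¹) := by group
    rw [e]
    exact (D.borelSubgroup F).mul_mem hy (diagonal_le_borel D (nGL_sq_mem D hD i hi).2)
  have e2 : D.reflectRoot i (D.simple i) = D.neg (D.simple i) := by
    unfold ChevalleyDatum.reflectRoot
    simp only [if_true]
  have hzv : s * xGL D hD (D.simple i) (1 : F) * s⁻¹
      = xGL D hD (D.neg (D.simple i)) ((eta D i (D.simple i) : F) * 1) := by
    apply Units.ext
    rw [nGL_conj D hD i hi _ hr 1 _ rfl, xGL_val, e2]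
  rw [hzv] at hz
  have hV : xGL D hD (D.neg (D.simple i)) (((eta D i (D.simple i) : ℤ) : F) * 1)
      ∈ D.negUnipotent F := xGL_mem_neg D hD _ (isNegRoot_neg_simple D hD i hi) _
  have h1 : xGL D hD (D.neg (D.simple i)) (((eta D i (D.simple i) : ℤ) : F) * 1)
      ∈ D.borelSubgroup F ⊓ D.negUnipotent F := ⟨hz, hV⟩
  rw [borel_inf_neg D hD, Subgroup.mem_bot] at h1
  have h2 : D.x F (D.neg (D.simple i)) (((eta D i (D.simple i) : ℤ) : F) * 1) = 1 := by
    rw [← xGL_val D hD, h1]
    rfl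
  have h3 := (Cfsg.Agent.S1024.result D hD _ hlt _).1 h2
  rw [(nMat_simple (F := F) D hD i hi).2.1] at h3
  simp at h3

/-- lifting a double coset membership to a subgroup -/
theorem doubleCoset_subgroupOf {G : Type*} [Group G] (K B : Subgroup G) (hB : B ≤ K) (a x : K)
    (h : (x : G) ∈ DoubleCoset.doubleCoset (a : G) (B : Set G) B) :
    x ∈ DoubleCoset.doubleCoset a (B.subgroupOf K : Set K) (B.subgroupOf K) := by
  rw [DoubleCoset.mem_doubleCoset] at h ⊢
  obtain ⟨b1, hb1, b2, hb2, e⟩ := h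
  refine ⟨⟨b1, hB hb1⟩, hb1, ⟨b2, hB hb2⟩, hb2, ?_⟩
  apply Subtype.ext
  rw [e]
  rfl

/-- the lift of `n_w` to the Chevalley group -/
theorem wGL_mem_closure (D : ChevalleyDatum) (hD : D ∈ Seven) (w : List ℕ)
    (hw : ∀ i ∈ w, i < D.rank) (hmem : (wGL D hD w : GL D.Idx F) ∈ D.group F) :
    (⟨wGL D hD w, hmem⟩ : ↥(D.group F)) ∈ Subgroup.closure
      {n : ↥(D.group F) | ∃ i < D.rank,
        ((n : GL D.Idx F) : Matrix D.Idx D.Idx F) = D.nMat F (D.simple i) 1} := by
  induction w with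
  | nil =>
    have : (⟨wGL D hD [], hmem⟩ : ↥(D.group F)) = 1 := by
      apply Subtype.ext
      exact wGL_nil D hD
    rw [this]
    exact Subgroup.one_mem _
  | cons i w ih =>
    have hi := hw i (List.mem_cons_self ..)
    have hw' : ∀ j ∈ w, j < D.rank := fun j hj => hw j (List.mem_cons_of_mem _ hj)
    have h1 : (nGL D hD i : GL D.Idx F) ∈ D.group F :=
      monomial_le_group D hD (nGL_mem D hD i hi)
    have h2 : (wGL D hD w : GL D.Idx F) ∈ D.group F :=
      monomial_le_group D hD (wGL_mem D hD w hw')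
    have : (⟨wGL D hD (i :: w), hmem⟩ : ↥(D.group F)) = ⟨nGL D hD i, h1⟩ * ⟨wGL D hD w, h2⟩ := by
      apply Subtype.ext
      exact wGL_cons D hD i w
    rw [this]
    apply Subgroup.mul_mem _ _ (ih hw' h2)
    apply Subgroup.subset_closure
    exact ⟨i, hi, nGL_val D hD i⟩

/-- the `(B,N)`-pair of a Chevalley group -/
def chevBNPair (D : ChevalleyDatum) (hD : D ∈ Seven) (F : Type*) [Field F] :
    Cfsg.BNPair ↥(D.group F) where
  B := (D.borelSubgroup F).subgroupOf (D.group F)
  N := (D.monomialSubgroup F).subgroupOf (D.group F)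
  S := {n : ↥(D.group F) | ∃ i < D.rank,
    ((n : GL D.Idx F) : Matrix D.Idx D.Idx F) = D.nMat F (D.simple i) 1}
  sup_eq_top := by
    rw [← Subgroup.subgroupOf_sup (borel_le_group D hD) (monomial_le_group D hD),
      (borel_sup_monomial D hD).2.2, Subgroup.subgroupOf_self]
  conj_mem := by
    intro n hn t ht
    have hn' : (n : GL D.Idx F) ∈ D.monomialSubgroup F := hn
    have ht' : (t : GL D.Idx F) ∈ D.diagonalSubgroup F := by
      rw [← borel_inf_monomial D hD]
      exact ⟨ht.1, ht.2⟩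
    exact diagonal_le_borel D (conj_monomial_diag_mem D hD _ hn' _ ht').1
  subset := by
    rintro n ⟨i, hi, hn⟩
    have : (n : GL D.Idx F) = nGL D hD i := Units.ext (by rw [hn, nGL_val])
    show (n : GL D.Idx F) ∈ D.monomialSubgroup F
    rw [this]
    exact nGL_mem D hD i hi
  sq_mem := by
    rintro n ⟨i, hi, hn⟩
    have : (n : GL D.Idx F) = nGL D hD i := Units.ext (by rw [hn, nGL_val])
    show (n : GL D.Idx F) * (n : GL D.Idx F) ∈ D.borelSubgroup F
    rw [this]
    exact diagonal_le_borel D (nGL_sq_mem D hD i hi).1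
  inj := by
    rintro n ⟨i, hi, hn⟩ n' ⟨j, hj, hn'⟩ h
    have e1 : (n : GL D.Idx F) = nGL D hD i := Units.ext (by rw [hn, nGL_val])
    have e2 : (n' : GL D.Idx F) = nGL D hD j := Units.ext (by rw [hn', nGL_val])
    have h' : (n : GL D.Idx F)⁻¹ * (n' : GL D.Idx F) ∈ D.borelSubgroup F := h
    rw [e1, e2] at h'
    have hij := nGL_inj D hD i j hi hj h'
    apply Subtype.ext
    rw [e1, e2, hij]
  closure_sup := by
    apply le_antisymm
    · apply sup_le
      · rw [Subgroup.closure_le]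
        rintro n ⟨i, hi, hn⟩
        have : (n : GL D.Idx F) = nGL D hD i := Units.ext (by rw [hn, nGL_val])
        show (n : GL D.Idx F) ∈ D.monomialSubgroup F
        rw [this]
        exact nGL_mem D hD i hi
      · exact inf_le_right
    · intro x hx
      have hx' : (x : GL D.Idx F) ∈ D.monomialSubgroup F := hx
      obtain ⟨w, hw, h, hh, e⟩ := exists_word_of_mem_monomial D hD _ hx'
      have h1 : (wGL D hD w : GL D.Idx F) ∈ D.group F :=
        monomial_le_group D hD (wGL_mem D hD w hw)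
      have h2 : h ∈ D.group F := diagonal_le_group D hD hh
      have ex : x = ⟨wGL D hD w, h1⟩ * ⟨h, h2⟩ := Subtype.ext e
      rw [ex]
      apply Subgroup.mul_mem
      · exact Subgroup.mem_sup_left (wGL_mem_closure D hD w hw h1)
      · apply Subgroup.mem_sup_right
        exact ⟨diagonal_le_borel D hh, diagonal_le_monomial D hh⟩
  mul_mem_union := by
    rintro s ⟨i, hi, hs⟩ n hn b hb
    have e1 : (s : GL D.Idx F) = nGL D hD i := Units.ext (by rw [hs, nGL_val])
    have hn' : (n : GL D.Idx F) ∈ D.monomialSubgroup F := hn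
    have hb' : (b : GL D.Idx F) ∈ D.borelSubgroup F := hb
    have key := nGL_borel_monomial D hD i hi _ hn' _ hb'
    rw [← e1] at key
    rcases key with key | key
    · left
      exact doubleCoset_subgroupOf (D.group F) (D.borelSubgroup F) (borel_le_group D hD)
        (s * n) (s * b * n) key
    · right
      exact doubleCoset_subgroupOf (D.group F) (D.borelSubgroup F) (borel_le_group D hD)
        n (s * b * n) key
  conj_ne := by
    rintro s ⟨i, hi, hs⟩ heq
    have e1 : (s : GL D.Idx F) = nGL D hD i := Units.ext (by rw [hs, nGL_val])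
    obtain ⟨b, hb, hnb⟩ := nGL_conj_borel_ne (F := F) D hD i hi
    have hbG : b ∈ D.group F := borel_le_group D hD hb
    have : s * ⟨b, hbG⟩ * s ∈ (fun b : ↥(D.group F) => s * b * s) ''
        (((D.borelSubgroup F).subgroupOf (D.group F) : Subgroup ↥(D.group F)) :
          Set ↥(D.group F)) := ⟨⟨b, hbG⟩, hb, rfl⟩
    rw [heq] at this
    apply hnb
    have h' : ((s * ⟨b, hbG⟩ * s : ↥(D.group F)) : GL D.Idx F) ∈ D.borelSubgroup F := this
    rw [← e1]
    exact h'

theorem chevBNPair_B (D : ChevalleyDatum) (hD : D ∈ Seven) :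
    (chevBNPair D hD F).B = (D.borelSubgroup F).subgroupOf (D.group F) := rfl

theorem chevBNPair_N (D : ChevalleyDatum) (hD : D ∈ Seven) :
    (chevBNPair D hD F).N = (D.monomialSubgroup F).subgroupOf (D.group F) := rfl

theorem chevBNPair_S (D : ChevalleyDatum) (hD : D ∈ Seven) :
    (chevBNPair D hD F).S = {n : ↥(D.group F) | ∃ i < D.rank,
      ((n : GL D.Idx F) : Matrix D.Idx D.Idx F) = D.nMat F (D.simple i) 1} := rfl

end Cfsg.Agent.Lib.Helper5.ChevStruct
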