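import Mathlib
import Cfsg.Prelude.Def_ChevStructure
import Cfsg.Agent.Lib.Helper5.ChevSymN

set_option autoImplicit false

/-!
Table checks for the linear action of the fundamental reflections on the coroot coordinates:
`c_k(w_i v) = c_k(v) - δ_{ki} ⟨p_i, v^∨⟩`, where `⟨p_i, v^∨⟩ = ∑_m c_m(v) A_{p_m, p_i}`.
-/

namespace Cfsg.Agent.Lib.Helper5.ChevSym

open Cfsg Cfsg.Lie

/-- the `k`-th coordinate of the coroot of `v` -/
def co (D : ChevalleyDatum) (v k : ℕ) : ℤ := (D.coroot.getD v #[]).getD k 0

/-- the pairing `⟨p_i, y⟩` of a vector `y` in the coroot lattice with the fundamental root `p_i` -/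
def pairVec (D : ChevalleyDatum) (i : ℕ) (y : ℕ → ℤ) : ℤ :=
  ((List.range D.rank).map fun m => y m * D.cartan m (D.simple i)).sum

/-- the fundamental reflection `σ_i` on vectors -/
def reflVec (D : ChevalleyDatum) (i : ℕ) (y : ℕ → ℤ) : ℕ → ℤ :=
  fun k => y k - (if k = i then pairVec D i y else 0)

/-- the reflection `w_i` acts on the coroot coordinates through `σ_i`, and maps the positive roots
other than `p_i` to positive roots -/
def checkCoLin (D : ChevalleyDatum) (i : ℕ) : Bool :=
  canon (fun p => (List.range D.nroots).all fun v => canon (fun v =>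
    forceNat (D.reflectRoot i v) fun v' =>
      ((List.range D.rank).all fun k => decide (co D v' k = reflVec D i (co D v) k)) &&
      (!(decide (D.IsPosRoot v)) || Nat.beq v p || decide (D.IsPosRoot v'))) v) (D.simple i)

theorem checkCoLin_spec (D : ChevalleyDatum) (i : ℕ) (h : checkCoLin D i = true) (v : ℕ)
    (hv : v < D.nroots) :
    (∀ k < D.rank, co D (D.reflectRoot i v) k = reflVec D i (co D v) k) ∧
    (D.IsPosRoot v → v ≠ D.simple i → D.IsPosRoot (D.reflectRoot i v)) := by
  unfold checkCoLin at h
  rw [canon_eq, List.all_eq_true] at h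
  have := h v (List.mem_range.2 hv)
  rw [canon_eq, forceNat_eq, Bool.and_eq_true, List.all_eq_true] at this
  obtain ⟨h1, h2⟩ := this
  refine ⟨fun k hk => of_decide_eq_true (h1 k (List.mem_range.2 hk)), fun hp hne => ?_⟩
  rw [Bool.or_eq_true, Bool.or_eq_true] at h2
  rcases h2 with (h2 | h2) | h2
  · rw [Bool.not_eq_true', decide_eq_false_iff_not] at h2
    exact absurd hp h2
  · exact absurd (Nat.eq_of_beq_eq_true h2) hne
  · exact of_decide_eq_true h2

/-- the coroots of the fundamental roots are the basis vectors, and all coroot vectors have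
`rank` coordinates -/
def checkCoBasis (D : ChevalleyDatum) : Bool :=
  ((List.range D.rank).all fun k => (List.range D.rank).all fun m =>
    decide (co D (D.simple k) m = if m = k then 1 else 0)) &&
  ((List.range D.nroots).all fun v => Nat.beq (D.coroot.getD v #[]).size D.rank)

theorem checkCoBasis_spec (D : ChevalleyDatum) (h : checkCoBasis D = true) :
    (∀ k < D.rank, ∀ m < D.rank, co D (D.simple k) m = if m = k then 1 else 0) ∧
    (∀ v < D.nroots, (D.coroot.getD v #[]).size = D.rank) := by
  unfold checkCoBasis at h
  rw [Bool.and_eq_true, List.all_eq_true, List.all_eq_true] at h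
  constructor
  · intro k hk m hm
    have := h.1 k (List.mem_range.2 hk)
    rw [List.all_eq_true] at this
    exact of_decide_eq_true (this m (List.mem_range.2 hm))
  · intro v hv
    exact Nat.eq_of_beq_eq_true (h.2 v (List.mem_range.2 hv))

end Cfsg.Agent.Lib.Helper5.ChevSym
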