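import Mathlib
import Cfsg.Prelude.Def_ChevStructure
import Cfsg.Agent.Lib.Helper5.ChevW0
import Cfsg.Agent.Lib.Helper5.ChevChk.CoLinAll
import Cfsg.Agent.Lib.Helper5.ChevChk.CoBasisAll

set_option autoImplicit false

/-!
The words in the fundamental reflections act linearly on the coroot coordinates. Consequence: a
word mapping all fundamental roots to positive roots maps all positive roots to positive roots.
-/

namespace Cfsg.Agent.Lib.Helper5.ChevStruct

open Cfsg Cfsg.Lie Cfsg.Agent.Lib.Helper5.ChevSym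

/-- `σ_i` as a linear map -/
def reflLin (D : ChevalleyDatum) (i : ℕ) : (ℕ → ℤ) →ₗ[ℤ] (ℕ → ℤ) where
  toFun := reflVec D i
  map_add' y z := by
    funext k
    simp only [reflVec, pairVec, Pi.add_apply]
    have : ((List.range D.rank).map fun m => (y m + z m) * D.cartan m (D.simple i)).sum
        = ((List.range D.rank).map fun m => y m * D.cartan m (D.simple i)).sum
          + ((List.range D.rank).map fun m => z m * D.cartan m (D.simple i)).sum := by
      rw [← List.sum_map_add]
      congr 1
      apply List.map_congr_left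
      intro m _
      ring
    rw [this]
    split_ifs <;> ring
  map_smul' a y := by
    funext k
    simp only [reflVec, pairVec, Pi.smul_apply, smul_eq_mul, RingHom.id_apply]
    have : ((List.range D.rank).map fun m => a * y m * D.cartan m (D.simple i)).sum
        = a * ((List.range D.rank).map fun m => y m * D.cartan m (D.simple i)).sum := by
      rw [← List.sum_map_mul_left]
      congr 1
      apply List.map_congr_left
      intro m _
      ring
    rw [this]
    split_ifs <;> ring

/-- the action of a word on vectors -/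
def wLin (D : ChevalleyDatum) : List ℕ → ((ℕ → ℤ) →ₗ[ℤ] (ℕ → ℤ))
  | [] => LinearMap.id
  | i :: w => (reflLin D i).comp (wLin D w)

theorem reflVec_congr (D : ChevalleyDatum) (i : ℕ) (y z : ℕ → ℤ)
    (h : ∀ m < D.rank, y m = z m) (k : ℕ) (hk : k < D.rank) :
    reflVec D i y k = reflVec D i z k := by
  unfold reflVec pairVec
  rw [h k hk]
  congr 2
  congr 1
  apply List.map_congr_left
  intro m hm
  rw [h m (List.mem_range.1 hm)]

theorem wLin_congr (D : ChevalleyDatum) (w : List ℕ) (y z : ℕ → ℤ)
    (h : ∀ m < D.rank, y m = z m) : ∀ k < D.rank, wLin D w y k = wLin D w z k := by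
  induction w with
  | nil => exact h
  | cons i w ih =>
    intro k hk
    exact reflVec_congr D i _ _ ih k hk

/-- the coroot coordinates of `w(v)` -/
theorem co_wAct (D : ChevalleyDatum) (hD : D ∈ Seven) (w : List ℕ) (hw : ∀ i ∈ w, i < D.rank)
    (v : ℕ) (hv : v < D.nroots) : ∀ k < D.rank, co D (wAct D w v) k = wLin D w (co D v) k := by
  induction w with
  | nil => intro k _; rfl
  | cons i w ih =>
    have hi := hw i (List.mem_cons_self ..)
    have hw' : ∀ j ∈ w, j < D.rank := fun j hj => hw j (List.mem_cons_of_mem _ hj)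
    intro k hk
    have e1 : wAct D (i :: w) v = D.reflectRoot i (wAct D w v) := rfl
    rw [e1, (checkCoLin_spec D i (chkCoLin_all D hD i hi) _ (wAct_lt D hD w hw' v hv)).1 k hk]
    exact reflVec_congr D i _ _ (ih hw') k hk

/-- the basis vectors -/
def basisVec (j : ℕ) : ℕ → ℤ := fun k => if k = j then 1 else 0

theorem sum_basisVec (l : ℕ) (y : ℕ → ℤ) (k : ℕ) (hk : k < l) :
    (∑ j ∈ Finset.range l, y j • basisVec j) k = y k := by
  rw [Finset.sum_apply]
  simp only [Pi.smul_apply, basisVec, smul_eq_mul, mul_ite, mul_one, mul_zero]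
  rw [Finset.sum_ite_eq]
  simp [hk]

/-- linearity: `c(w v) = ∑_j c_j(v) c(w p_j)` -/
theorem co_wAct_eq_sum (D : ChevalleyDatum) (hD : D ∈ Seven) (w : List ℕ)
    (hw : ∀ i ∈ w, i < D.rank) (v : ℕ) (hv : v < D.nroots) (k : ℕ) (hk : k < D.rank) :
    co D (wAct D w v) k
      = ∑ j ∈ Finset.range D.rank, co D v j * co D (wAct D w (D.simple j)) k := by
  rw [co_wAct D hD w hw v hv k hk]
  have h1 : wLin D w (co D v) k
      = wLin D w (∑ j ∈ Finset.range D.rank, co D v j • basisVec j) k := by
    apply wLin_congr D w _ _ _ k hk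
    intro m hm
    rw [sum_basisVec D.rank _ m hm]
  rw [h1, map_sum, Finset.sum_apply]
  apply Finset.sum_congr rfl
  intro j hj
  have hj' := Finset.mem_range.1 hj
  rw [map_smul, Pi.smul_apply, smul_eq_mul]
  congr 1
  have hsj : D.simple j < D.nroots := (checkRows_spec D (checkRows_all D hD) j hj').2.1
  rw [co_wAct D hD w hw _ hsj k hk]
  apply wLin_congr D w _ _ _ k hk
  intro m hm
  rw [(checkCoBasis_spec D (chkCoBasis_all D hD)).1 j hj' m hm]
  rfl

theorem getD_mem_toList (a : Array ℤ) (k : ℕ) (hk : k < a.size) : a.getD k 0 ∈ a.toList := by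
  simp [Array.getD, hk]

theorem exists_getD_of_mem (a : Array ℤ) (c : ℤ) (hc : c ∈ a.toList) :
    ∃ k < a.size, a.getD k 0 = c := by
  rw [Array.mem_toList_iff, Array.mem_iff_getElem] at hc
  obtain ⟨k, hk, rfl⟩ := hc
  exact ⟨k, hk, by simp [Array.getD, hk]⟩

/-- positivity in terms of the coroot coordinates -/
theorem isPosRoot_iff_co (D : ChevalleyDatum) (hD : D ∈ Seven) (r : ℕ) :
    D.IsPosRoot r ↔ r < D.nroots ∧ ∀ k < D.rank, 0 ≤ co D r k := by
  unfold ChevalleyDatum.IsPosRoot
  constructor
  · rintro ⟨hr, h⟩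
    refine ⟨hr, fun k hk => ?_⟩
    have hsize := (checkCoBasis_spec D (chkCoBasis_all D hD)).2 r hr
    apply h
    unfold co
    exact getD_mem_toList _ k (by rw [hsize]; exact hk)
  · rintro ⟨hr, h⟩
    refine ⟨hr, fun c hc => ?_⟩
    have hsize := (checkCoBasis_spec D (chkCoBasis_all D hD)).2 r hr
    obtain ⟨k, hk, rfl⟩ := exists_getD_of_mem _ c hc
    rw [hsize] at hk
    exact h k hk

/-- a word mapping the fundamental roots to positive roots maps positive roots to positive roots -/
theorem wAct_pos_of_simple (D : ChevalleyDatum) (hD : D ∈ Seven) (w : List ℕ)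
    (hw : ∀ i ∈ w, i < D.rank) (h : ∀ j < D.rank, D.IsPosRoot (wAct D w (D.simple j)))
    (v : ℕ) (hv : D.IsPosRoot v) : D.IsPosRoot (wAct D w v) := by
  rw [isPosRoot_iff_co D hD]
  refine ⟨wAct_lt D hD w hw v hv.1, fun k hk => ?_⟩
  rw [co_wAct_eq_sum D hD w hw v hv.1 k hk]
  apply Finset.sum_nonneg
  intro j hj
  have hj' := Finset.mem_range.1 hj
  apply mul_nonneg
  · exact ((isPosRoot_iff_co D hD v).1 hv).2 j hj'
  · exact ((isPosRoot_iff_co D hD _).1 (h j hj')).2 k hk

end Cfsg.Agent.Lib.Helper5.ChevStruct
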