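import Mathlib
import Cfsg.Prelude.Def_ChevStructure
import Cfsg.Agent.Lib.Helper5.ChevComm
import Cfsg.Agent.Lib.Helper5.ChevNormal

set_option autoImplicit false

/-!
The subgroup generated by the root subgroups of a set `T` of roots, and a criterion for a root
subgroup `X_r` to normalise it: the commutator terms of `(r, s)`, `s ∈ T`, lie in `T`.
-/

namespace Cfsg.Agent.Lib.Helper5.ChevStruct

open Cfsg Cfsg.Lie Cfsg.Agent.Lib.Helper5.ChevSym

variable {F : Type*} [Field F]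

/-- the subgroup generated by the `X_s`, `s ∈ T` -/
def rootSetSub (D : ChevalleyDatum) (F : Type*) [Field F] (T : Set ℕ) : Subgroup (GL D.Idx F) :=
  Subgroup.closure {g : GL D.Idx F | ∃ (s : ℕ) (t : F), s ∈ T ∧
    (g : Matrix D.Idx D.Idx F) = D.x F s t}

theorem xGL_mem_rootSetSub (D : ChevalleyDatum) (hD : D ∈ Seven) (T : Set ℕ) (s : ℕ)
    (hs : s ∈ T) (t : F) : xGL D hD s t ∈ rootSetSub D F T :=
  Subgroup.subset_closure ⟨s, t, hs, rfl⟩

theorem wordGL_mem_rootSetSub (D : ChevalleyDatum) (hD : D ∈ Seven) (T : Set ℕ)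
    (w : List (ℕ × F)) (hw : ∀ q ∈ w, q.1 ∈ T) : wordGL D hD w ∈ rootSetSub D F T := by
  unfold wordGL
  apply Subgroup.list_prod_mem
  intro g hg
  rw [List.mem_map] at hg
  obtain ⟨q, hq, rfl⟩ := hg
  exact xGL_mem_rootSetSub D hD T q.1 (hw q hq) q.2

theorem rootSetSub_mono (D : ChevalleyDatum) {T T' : Set ℕ} (h : T ⊆ T') :
    rootSetSub D F T ≤ rootSetSub D F T' := by
  unfold rootSetSub
  apply Subgroup.closure_mono
  rintro g ⟨s, t, hs, hg⟩
  exact ⟨s, t, h hs, hg⟩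

/-- conjugating an element of `⟨X_s : s ∈ T⟩` by `x_r(t)` -/
theorem conj_mem_rootSetSub (D : ChevalleyDatum) (hD : D ∈ Seven) (T : Set ℕ) (r : ℕ)
    (hr : r < D.nroots)
    (hT : ∀ s ∈ T, s < D.nroots ∧ s ≠ r ∧ s ≠ D.neg r ∧ ∀ c ∈ D.commTerms r s, c.1 ∈ T)
    (x : GL D.Idx F) (t : F) (hx : (x : Matrix D.Idx D.Idx F) = D.x F r t)
    (g : GL D.Idx F) (hg : g ∈ rootSetSub D F T) : x * g * x⁻¹ ∈ rootSetSub D F T := by
  have hxinv : ((x⁻¹ : GL D.Idx F) : Matrix D.Idx D.Idx F) = D.x F r (-t) := by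
    apply val_inv_eq_of_mul_eq_one
    rw [hx]
    exact x_mul_neg D hD r t
  unfold rootSetSub at hg
  induction hg using Subgroup.closure_induction with
  | mem y hy =>
    obtain ⟨s, u, hs, hy⟩ := hy
    obtain ⟨hsn, hsr, hsneg, hc⟩ := hT s hs
    have hform := comm_formula D hD r s hr hsn hsr hsneg (-t) u
    have e : x * y * x⁻¹ = xGL D hD s u * wordGL D hD (D.commWord F r s (-t) u) := by
      apply Units.ext
      rw [Units.val_mul, Units.val_mul, Units.val_mul, hx, hy, hxinv, xGL_val, wordGL_val,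
        mul_assoc, hform, ← mul_assoc, ← mul_assoc, x_mul_neg D hD, one_mul]
    rw [e]
    apply mul_mem (xGL_mem_rootSetSub D hD T s hs u)
    apply wordGL_mem_rootSetSub
    intro q hq
    unfold ChevalleyDatum.commWord at hq
    rw [List.mem_map] at hq
    obtain ⟨c, hc', rfl⟩ := hq
    exact hc c hc'
  | one =>
    simp only [mul_one, mul_inv_cancel]
    exact one_mem _
  | mul a b _ _ ha hb =>
    have e : x * (a * b) * x⁻¹ = (x * a * x⁻¹) * (x * b * x⁻¹) := by group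
    rw [e]
    exact mul_mem ha hb
  | inv a _ ha =>
    have e : x * a⁻¹ * x⁻¹ = (x * a * x⁻¹)⁻¹ := by group
    rw [e]
    exact inv_mem ha

/-- `X_r ≤ N(⟨X_s : s ∈ T⟩)` -/
theorem rootSubgroup_le_normalizer_rootSetSub (D : ChevalleyDatum) (hD : D ∈ Seven) (T : Set ℕ)
    (r : ℕ) (hr : r < D.nroots)
    (hT : ∀ s ∈ T, s < D.nroots ∧ s ≠ r ∧ s ≠ D.neg r ∧ ∀ c ∈ D.commTerms r s, c.1 ∈ T) :
    D.rootSubgroup F r ≤ Subgroup.normalizer (rootSetSub D F T : Set (GL D.Idx F)) := by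
  unfold ChevalleyDatum.rootSubgroup
  rw [Subgroup.closure_le]
  rintro x ⟨t, hx⟩
  have hxinv : ((x⁻¹ : GL D.Idx F) : Matrix D.Idx D.Idx F) = D.x F r (-t) := by
    apply val_inv_eq_of_mul_eq_one
    rw [hx]
    exact x_mul_neg D hD r t
  show x ∈ Subgroup.normalizer (rootSetSub D F T : Set (GL D.Idx F))
  rw [Subgroup.mem_normalizer_iff]
  intro g
  constructor
  · exact conj_mem_rootSetSub D hD T r hr hT x t hx g
  · intro hg
    have := conj_mem_rootSetSub D hD T r hr hT x⁻¹ (-t) hxinv _ hg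
    have e : x⁻¹ * (x * g * x⁻¹) * x⁻¹⁻¹ = g := by group
    rwa [e] at this

end Cfsg.Agent.Lib.Helper5.ChevStruct
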