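import Mathlib
import Cfsg.Prelude.Def_ChevStructure
import Cfsg.Agent.Lib.Helper5.ChevSymAdd

set_option autoImplicit false

/-!
Table checks for the ordered product decomposition of `U`: the commutator of two positive root
elements `x_k`, `x_s` (`k < s`) only involves roots of index above `k`; the chain of a positive
root `r` through a negative root `-r'`, `r' < r`, consists of positive roots; and `-r` has index
`n - 1 - r`.
-/

namespace Cfsg.Agent.Lib.Helper5.ChevSym

open Cfsg Cfsg.Lie

/-- the commutator terms of `(k, s)`, `k < s` both in the upper half, lie above `k` -/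
def checkOrd (D : ChevalleyDatum) (k : ℕ) : Bool :=
  !(Nat.ble (D.nroots / 2) k && Nat.blt k D.nroots) ||
  canon (fun nk => (List.range D.nroots).all fun s => canon (fun s =>
    !(Nat.blt k s) ||
      (!(Nat.beq s nk) &&
        (D.commTerms k s).all fun c => Nat.blt k c.1 && Nat.blt c.1 D.nroots)) s) (D.neg k)

theorem checkOrd_spec (D : ChevalleyDatum) (k : ℕ) (h : checkOrd D k = true)
    (hk1 : D.nroots / 2 ≤ k) (hk2 : k < D.nroots) (s : ℕ) (hs : s < D.nroots) (hks : k < s) :
    s ≠ D.neg k ∧ ∀ c ∈ D.commTerms k s, k < c.1 ∧ c.1 < D.nroots := by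
  unfold checkOrd at h
  rw [Bool.or_eq_true] at h
  rcases h with h | h
  · exfalso
    rw [Bool.not_eq_true', Bool.and_eq_false_iff] at h
    rcases h with h | h
    · have : Nat.ble (D.nroots / 2) k = true := Nat.ble_eq_true_of_le hk1
      rw [this] at h
      exact Bool.noConfusion h
    · have : Nat.blt k D.nroots = true := by rw [Nat.blt_eq]; exact hk2
      rw [this] at h
      exact Bool.noConfusion h
  · rw [canon_eq, List.all_eq_true] at h
    have := h s (List.mem_range.2 hs)
    rw [canon_eq, Bool.or_eq_true] at this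
    rcases this with h1 | h1
    · exfalso
      have : Nat.blt k s = true := by rw [Nat.blt_eq]; exact hks
      rw [this] at h1
      exact Bool.noConfusion h1
    · rw [Bool.and_eq_true, List.all_eq_true] at h1
      refine ⟨fun e => ?_, fun c hc => ?_⟩
      · have h2 := h1.1
        rw [e] at h2
        have : Nat.beq (D.neg k) (D.neg k) = true := by rw [Nat.beq_eq]
        rw [this] at h2
        exact Bool.noConfusion h2
      · have := h1.2 c hc
        rw [Bool.and_eq_true, Nat.blt_eq, Nat.blt_eq] at this
        exact this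

/-- the chains of the positive root `r` through the negative roots above `-r` consist of positive
roots, and `-r` has index `n - 1 - r` -/
def checkChainPos (D : ChevalleyDatum) (r : ℕ) : Bool :=
  canon (fun nr => Nat.beq (nr + r + 1) D.nroots &&
    (!(Nat.ble (D.nroots / 2) r) ||
      (D.chain.getD r #[]).toList.all fun e =>
        !(Nat.blt nr e.1 && Nat.blt e.1 (D.nroots / 2)) ||
          e.2.toList.all fun p => Nat.ble (D.nroots / 2) p.1)) (D.negIdx.getD r 0)

theorem checkChainPos_spec (D : ChevalleyDatum) (r : ℕ) (h : checkChainPos D r = true) :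
    D.negIdx.getD r 0 + r + 1 = D.nroots ∧
    (D.nroots / 2 ≤ r → ∀ e ∈ (D.chain.getD r #[]).toList, D.negIdx.getD r 0 < e.1 →
      e.1 < D.nroots / 2 → ∀ p ∈ e.2.toList, D.nroots / 2 ≤ p.1) := by
  unfold checkChainPos at h
  rw [canon_eq, Bool.and_eq_true] at h
  refine ⟨Nat.eq_of_beq_eq_true h.1, fun hr e he h1 h2 p hp => ?_⟩
  have h3 := h.2
  rw [Bool.or_eq_true] at h3
  rcases h3 with h3 | h3
  · exfalso
    have : Nat.ble (D.nroots / 2) r = true := Nat.ble_eq_true_of_le hr
    rw [this] at h3
    exact Bool.noConfusion h3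
  · rw [List.all_eq_true] at h3
    have h4 := h3 e he
    rw [Bool.or_eq_true] at h4
    rcases h4 with h4 | h4
    · exfalso
      have e1 : Nat.blt (D.negIdx.getD r 0) e.1 = true := by rw [Nat.blt_eq]; exact h1
      have e2 : Nat.blt e.1 (D.nroots / 2) = true := by rw [Nat.blt_eq]; exact h2
      rw [e1, e2] at h4
      exact Bool.noConfusion h4
    · rw [List.all_eq_true] at h4
      exact Nat.le_of_ble_eq_true (h4 p hp)

end Cfsg.Agent.Lib.Helper5.ChevSym
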