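import Mathlib
import Cfsg.Prelude.Def_ChevStructure
import Cfsg.Agent.Lib.Helper5.ChevPosUni2

set_option autoImplicit false

/-!
A family of level functions: the negative roots of index at least `m` are put on the level of
the Cartan part. The root elements `x_r(t)`, `r` positive with `-r` of index below `m`, are
unitriangular for it, provided the chains of `r` through the negative roots above `-r` consist of
positive roots.
-/

namespace Cfsg.Agent.Lib.Helper5.ChevPosUni

open Cfsg Cfsg.Lie Cfsg.Agent.Lib.Helper5.UniTri

/-- negative roots of index below `m` first, then the other negative roots and the Cartan part on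
one level, then the positive roots -/
def lvl3 (D : ChevalleyDatum) (m : ℕ) : D.Idx → ℕ
  | Sum.inl _ => D.nroots / 2
  | Sum.inr s => if s.val < m then s.val else if s.val < D.nroots / 2 then D.nroots / 2
      else s.val + 1

variable {F : Type*} [Field F]

theorem xMat_sub_one_lower3 (D : ChevalleyDatum) (hD : Good D) (m : ℕ) (hm : m ≤ D.nroots / 2)
    (r : ℕ) (hr : D.IsPosRoot r) (hrm : D.negIdx.getD r 0 < m)
    (hch : ∀ e ∈ (D.chain.getD r #[]).toList, D.negIdx.getD r 0 < e.1 →
      e.1 < D.nroots / 2 → ∀ p ∈ e.2.toList, D.nroots / 2 ≤ p.1)
    (t : F) : Lower (lvl3 D m) 1 (D.xMat F ⟨r, hr.1⟩ t - 1) := by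
  obtain ⟨h1, h2, h3⟩ := hD r (List.mem_range.2 hr.1) hr
  intro row col hne
  rw [Matrix.sub_apply] at hne
  rcases col with i | s
  · rcases row with i' | u
    · exfalso
      apply hne
      simp only [ChevalleyDatum.xMat, Matrix.of_apply, Matrix.one_apply, Sum.inl.injEq]
      exact sub_self _
    · have hur : u = ⟨r, hr.1⟩ := by
        by_contra hur
        apply hne
        simp [ChevalleyDatum.xMat, Matrix.of_apply, hur]
      subst hur
      simp only [lvl3]
      rw [if_neg (by omega), if_neg (by omega)]
      omega
  · by_cases hsr : s = ⟨r, hr.1⟩
    · exfalso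
      apply hne
      subst hsr
      rcases row with i' | u
      · simp [ChevalleyDatum.xMat, Matrix.of_apply]
      · by_cases hu : u = ⟨r, hr.1⟩
        · subst hu
          simp [ChevalleyDatum.xMat, Matrix.of_apply]
        · simp [ChevalleyDatum.xMat, Matrix.of_apply, hu, Matrix.one_apply]
    · by_cases hsn : s.val = D.negIdx.getD r 0
      · have hs : s.val < m := by rw [hsn]; exact hrm
        rcases row with i' | u
        · simp only [lvl3]
          rw [if_pos hs]
          omega
        · have hur : u = ⟨r, hr.1⟩ := by
            by_contra hur
            apply hne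
            by_cases hus : u = s
            · subst hus
              simp [ChevalleyDatum.xMat, Matrix.of_apply, hsr, hsn]
            · simp [ChevalleyDatum.xMat, Matrix.of_apply, hsr, hsn, hus, hur, Matrix.one_apply]
          subst hur
          simp only [lvl3]
          rw [if_pos hs, if_neg (by omega), if_neg (by omega)]
          omega
      · rcases row with i' | u
        · exfalso
          apply hne
          simp only [ChevalleyDatum.xMat, Matrix.of_apply, hsr, hsn, if_false]
          simp
        · have hc : D.chainCoeff r s.val u.val ≠ [] := by
            intro hc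
            apply hne
            simp only [ChevalleyDatum.xMat, Matrix.of_apply, hsr, hsn, if_false, hc, List.map_nil,
              List.sum_nil, add_zero, Matrix.one_apply, Sum.inr.injEq]
            exact sub_self _
          obtain ⟨e, he, p, hp, hes, hpu⟩ := chainCoeff_ne_nil hc
          have hlt := h3 e he p hp
          rw [hes, hpu] at hlt
          simp only [lvl3]
          by_cases hsm : s.val < m
          · rw [if_pos hsm]
            split_ifs <;> omega
          · rw [if_neg hsm]
            by_cases hsN : s.val < D.nroots / 2
            · rw [if_pos hsN]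
              have hpos := hch e he (by rw [hes]; omega) (by rw [hes]; exact hsN) p hp
              rw [hpu] at hpos
              rw [if_neg (by omega), if_neg (by omega)]
              omega
            · rw [if_neg hsN, if_neg (by omega), if_neg (by omega)]
              omega

theorem x_sub_one_lower3 (D : ChevalleyDatum) (hD : Good D) (m : ℕ) (hm : m ≤ D.nroots / 2)
    (r : ℕ) (hr : D.IsPosRoot r) (hrm : D.negIdx.getD r 0 < m)
    (hch : ∀ e ∈ (D.chain.getD r #[]).toList, D.negIdx.getD r 0 < e.1 →
      e.1 < D.nroots / 2 → ∀ p ∈ e.2.toList, D.nroots / 2 ≤ p.1)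
    (t : F) : Lower (lvl3 D m) 1 (D.x F r t - 1) := by
  unfold ChevalleyDatum.x
  rw [dif_pos hr.1]
  exact xMat_sub_one_lower3 D hD m hm r hr hrm hch t

end Cfsg.Agent.Lib.Helper5.ChevPosUni
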