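import Mathlib
import Cfsg.Prelude.Def_ChevStructure
import Cfsg.Agent.Lib.Helper5.ChevRootSet
import Cfsg.Agent.Lib.Helper5.ChevBnB
import Cfsg.Agent.Lib.Helper5.ChevXInj
import Cfsg.Agent.Lib.Helper5.ChevPosUni3
import Cfsg.Agent.Lib.Helper5.ChevChk.OrdAll

set_option autoImplicit false

/-!
Every element of `U` is uniquely a product `∏ x_r(t_r)` over the positive roots in increasing order.
-/

namespace Cfsg.Agent.Lib.Helper5.ChevStruct

open Cfsg Cfsg.Lie Cfsg.Agent.Lib.Helper5.ChevSym Cfsg.Agent.Lib.Helper5.ChevPosUni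
  Cfsg.Agent.Lib.Helper5.UniTri

variable {F : Type*} [Field F]

theorem wordMat_cons (D : ChevalleyDatum) (p : ℕ × F) (w : List (ℕ × F)) :
    D.wordMat F (p :: w) = D.x F p.1 p.2 * D.wordMat F w := by
  unfold ChevalleyDatum.wordMat
  rw [List.map_cons, List.prod_cons]

/-- the positive roots are the roots of the upper half of the index range -/
theorem isPosRoot_iff (D : ChevalleyDatum) (hD : D ∈ Seven) (r : ℕ) :
    D.IsPosRoot r ↔ D.nroots / 2 ≤ r ∧ r < D.nroots := by
  constructor
  · intro hr
    exact ⟨(good_of_mem D hD r (List.mem_range.2 hr.1) hr).1, hr.1⟩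
  · rintro ⟨h1, h2⟩
    rcases pos_or_neg D hD r h2 with hp | ⟨hp, hnn⟩
    · exact hp
    · exfalso
      have := (good_of_mem D hD _ (List.mem_range.2 hp.1) hp).2.1
      have e : D.negIdx.getD (D.neg r) 0 = r := hnn
      omega

theorem neg_eq (D : ChevalleyDatum) (hD : D ∈ Seven) (r : ℕ) (hr : r < D.nroots) :
    D.neg r + r + 1 = D.nroots :=
  (checkChainPos_spec D r (chkChainPos_all D hD r hr)).1

/-- the positive roots of index at least `k`, in increasing order -/
def posFrom (D : ChevalleyDatum) (k : ℕ) : List ℕ :=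
  (List.range' k (D.nroots - k)).filter fun r => decide (D.IsPosRoot r)

theorem posFrom_zero (D : ChevalleyDatum) : posFrom D 0 = D.posRoots := by
  unfold posFrom ChevalleyDatum.posRoots
  rw [List.range_eq_range']
  rfl

theorem mem_posFrom (D : ChevalleyDatum) (k r : ℕ) :
    r ∈ posFrom D k ↔ k ≤ r ∧ D.IsPosRoot r := by
  unfold posFrom
  rw [List.mem_filter, List.mem_range'_1, decide_eq_true_eq]
  constructor
  · rintro ⟨⟨h1, _⟩, h3⟩
    exact ⟨h1, h3⟩
  · rintro ⟨h1, h3⟩
    have := h3.1
    exact ⟨⟨h1, by omega⟩, h3⟩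

theorem posFrom_of_ge (D : ChevalleyDatum) (k : ℕ) (hk : D.nroots ≤ k) : posFrom D k = [] := by
  unfold posFrom
  have : D.nroots - k = 0 := by omega
  rw [this]
  rfl

theorem posFrom_succ (D : ChevalleyDatum) (k : ℕ) (hk : k < D.nroots) :
    posFrom D k = if D.IsPosRoot k then k :: posFrom D (k + 1) else posFrom D (k + 1) := by
  unfold posFrom
  have : D.nroots - k = (D.nroots - (k + 1)) + 1 := by omega
  rw [this, List.range'_succ, List.filter_cons]
  by_cases h : D.IsPosRoot k
  · rw [if_pos (by simpa using h), if_pos h]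
  · rw [if_neg (by simpa using h), if_neg h]

/-- the subgroup generated by the `X_s`, `s` positive of index at least `k` -/
def upperSub (D : ChevalleyDatum) (F : Type*) [Field F] (k : ℕ) : Subgroup (GL D.Idx F) :=
  rootSetSub D F {s | k ≤ s ∧ D.IsPosRoot s}

theorem upperSub_zero (D : ChevalleyDatum) : upperSub D F 0 = D.posUnipotent F := by
  unfold upperSub rootSetSub ChevalleyDatum.posUnipotent
  congr 1
  ext g
  constructor
  · rintro ⟨s, t, hs, hg⟩
    exact ⟨s, t, hs.2, hg⟩
  · rintro ⟨s, t, hs, hg⟩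
    exact ⟨s, t, ⟨Nat.zero_le _, hs⟩, hg⟩

theorem upperSub_of_ge (D : ChevalleyDatum) (k : ℕ) (hk : D.nroots ≤ k) :
    upperSub D F k = ⊥ := by
  unfold upperSub rootSetSub
  rw [Subgroup.closure_eq_bot_iff]
  rintro g ⟨s, t, hs, -⟩
  exfalso
  have := hs.2.1
  have := hs.1
  omega

theorem upperSub_succ_le (D : ChevalleyDatum) (k : ℕ) : upperSub D F (k + 1) ≤ upperSub D F k := by
  apply rootSetSub_mono
  rintro s ⟨h1, h2⟩
  exact ⟨by omega, h2⟩

theorem upperSub_of_not_pos (D : ChevalleyDatum) (k : ℕ) (hk : ¬ D.IsPosRoot k) :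
    upperSub D F k = upperSub D F (k + 1) := by
  unfold upperSub
  congr 1
  ext s
  constructor
  · rintro ⟨h1, h2⟩
    refine ⟨?_, h2⟩
    by_contra h
    have : s = k := by omega
    rw [this] at h2
    exact hk h2
  · rintro ⟨h1, h2⟩
    exact ⟨by omega, h2⟩

/-- `X_k` normalises `U_{>k}` -/
theorem rootSubgroup_le_normalizer_upperSub (D : ChevalleyDatum) (hD : D ∈ Seven) (k : ℕ)
    (hk : D.IsPosRoot k) :
    D.rootSubgroup F k ≤ Subgroup.normalizer (upperSub D F (k + 1) : Set (GL D.Idx F)) := by
  have hk' := (isPosRoot_iff D hD k).1 hk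
  apply rootSubgroup_le_normalizer_rootSetSub D hD _ k hk.1
  rintro s ⟨hs1, hs2⟩
  obtain ⟨h1, h2⟩ := checkOrd_spec D k (chkOrd_all D hD k hk.1) hk'.1 hk'.2 s hs2.1 (by omega)
  refine ⟨hs2.1, by omega, h1, fun c hc => ?_⟩
  obtain ⟨h3, h4⟩ := h2 c hc
  exact ⟨by omega, (isPosRoot_iff D hD c.1).2 ⟨by omega, h4⟩⟩

/-- `U_{≥k} = X_k U_{>k}` -/
theorem upperSub_decomp (D : ChevalleyDatum) (hD : D ∈ Seven) (k : ℕ) (hk : D.IsPosRoot k)
    (g : GL D.Idx F) (hg : g ∈ upperSub D F k) :
    ∃ t : F, ∃ u ∈ upperSub D F (k + 1), g = xGL D hD k t * u := by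
  have hle : upperSub D F k ≤ D.rootSubgroup F k ⊔ upperSub D F (k + 1) := by
    unfold upperSub rootSetSub
    rw [Subgroup.closure_le]
    rintro y ⟨s, t, ⟨hs1, hs2⟩, hy⟩
    by_cases hsk : s = k
    · apply Subgroup.mem_sup_left
      exact Subgroup.subset_closure ⟨t, hsk ▸ hy⟩
    · apply Subgroup.mem_sup_right
      exact Subgroup.subset_closure ⟨s, t, ⟨by omega, hs2⟩, hy⟩
  have hg' : g ∈ ((D.rootSubgroup F k ⊔ upperSub D F (k + 1) : Subgroup (GL D.Idx F)) :
      Set (GL D.Idx F)) := hle hg
  rw [Subgroup.coe_mul_of_left_le_normalizer_right _ _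
    (rootSubgroup_le_normalizer_upperSub D hD k hk)] at hg'
  obtain ⟨x, hx, u, hu, rfl⟩ := Set.mem_mul.1 hg'
  obtain ⟨t, ht⟩ := mem_rootSubgroup D hD _ x hx
  refine ⟨t, u, hu, ?_⟩
  congr 1
  exact Units.ext ht

/-- existence of the ordered product decomposition -/
theorem upperSub_exists (D : ChevalleyDatum) (hD : D ∈ Seven) (m : ℕ) :
    ∀ k, D.nroots ≤ k + m → ∀ g : GL D.Idx F, g ∈ upperSub D F k →
      ∃ t : ℕ → F, (g : Matrix D.Idx D.Idx F)
        = D.wordMat F ((posFrom D k).map fun r => (r, t r)) := by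
  induction m with
  | zero =>
    intro k hk g hg
    rw [upperSub_of_ge D k (by omega), Subgroup.mem_bot] at hg
    refine ⟨fun _ => 0, ?_⟩
    rw [hg, posFrom_of_ge D k (by omega)]
    rfl
  | succ m ih =>
    intro k hk g hg
    by_cases hkn : D.nroots ≤ k
    · rw [upperSub_of_ge D k hkn, Subgroup.mem_bot] at hg
      refine ⟨fun _ => 0, ?_⟩
      rw [hg, posFrom_of_ge D k hkn]
      rfl
    · rw [posFrom_succ D k (by omega)]
      by_cases hp : D.IsPosRoot k
      · rw [if_pos hp]
        obtain ⟨t0, u, hu, rfl⟩ := upperSub_decomp D hD k hp g hg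
        obtain ⟨t, ht⟩ := ih (k + 1) (by omega) u hu
        refine ⟨Function.update t k t0, ?_⟩
        have e : (posFrom D (k + 1)).map (fun r => (r, Function.update t k t0 r))
            = (posFrom D (k + 1)).map (fun r => (r, t r)) := by
          apply List.map_congr_left
          intro r hr
          have := ((mem_posFrom D (k + 1) r).1 hr).1
          rw [Function.update_of_ne (by omega)]
        rw [List.map_cons, wordMat_cons, e, Units.val_mul, xGL_val, ht, Function.update_self]
      · rw [if_neg hp]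
        rw [upperSub_of_not_pos D k hp] at hg
        exact ih (k + 1) (by omega) g hg

/-- the entries of `u ∈ U_{>k}` in the column `e_{-k}` and the Cartan rows vanish -/
theorem upperSub_entry (D : ChevalleyDatum) (hD : D ∈ Seven) (k : ℕ) (hk : D.IsPosRoot k)
    (u : GL D.Idx F) (hu : u ∈ upperSub D F (k + 1)) (i : Fin D.rank) (nk : Fin D.nroots)
    (hnk : nk.val = D.neg k) : (u : Matrix D.Idx D.Idx F) (Sum.inl i) (Sum.inr nk) = 0 := by
  have hk' := (isPosRoot_iff D hD k).1 hk
  have hnegk := neg_eq D hD k hk.1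
  have hnlt : D.neg k < D.nroots / 2 := (good_of_mem D hD k (List.mem_range.2 hk.1) hk).2.1
  have hm : D.neg k ≤ D.nroots / 2 := by omega
  have hle : upperSub D F (k + 1) ≤ unitri (lvl3 D (D.neg k)) F 0 := by
    unfold upperSub rootSetSub
    rw [Subgroup.closure_le]
    rintro g ⟨s, t, ⟨hs1, hs2⟩, hg⟩
    show Lower (lvl3 D (D.neg k)) (0 + 1) ((g : Matrix D.Idx D.Idx F) - 1)
    rw [hg]
    have hnegs := neg_eq D hD s hs2.1
    have hs' := (isPosRoot_iff D hD s).1 hs2
    apply x_sub_one_lower3 D (good_of_mem D hD) _ hm s hs2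
    · show D.neg s < D.neg k
      omega
    · exact (checkChainPos_spec D s (chkChainPos_all D hD s hs2.1)).2 hs'.1
  have h := mem_unitri.1 (hle hu)
  by_contra hne
  have := h (Sum.inl i) (Sum.inr nk) (by
    rw [Matrix.sub_apply, Matrix.one_apply_ne (by simp), sub_zero]
    exact hne)
  have h1 : lvl3 D (D.neg k) (Sum.inr nk) = D.nroots / 2 := by
    simp only [lvl3]
    rw [if_neg (by omega), if_pos (by omega)]
  have h2 : lvl3 D (D.neg k) (Sum.inl i) = D.nroots / 2 := rfl
  rw [h1, h2] at this
  omega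

/-- uniqueness of the ordered product decomposition -/
theorem upperSub_unique (D : ChevalleyDatum) (hD : D ∈ Seven) (m : ℕ) :
    ∀ k, D.nroots ≤ k + m → ∀ t t' : ℕ → F,
      D.wordMat F ((posFrom D k).map fun r => (r, t r))
        = D.wordMat F ((posFrom D k).map fun r => (r, t' r)) →
      ∀ r ∈ posFrom D k, t r = t' r := by
  induction m with
  | zero =>
    intro k hk t t' _ r hr
    rw [posFrom_of_ge D k (by omega)] at hr
    simp at hr
  | succ m ih =>
    intro k hk t t' h r hr
    by_cases hkn : D.nroots ≤ k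
    · rw [posFrom_of_ge D k hkn] at hr
      simp at hr
    · rw [posFrom_succ D k (by omega)] at h hr
      by_cases hp : D.IsPosRoot k
      · rw [if_pos hp] at h hr
        set w : List (ℕ × F) := (posFrom D (k + 1)).map fun r => (r, t r) with hw
        set w' : List (ℕ × F) := (posFrom D (k + 1)).map fun r => (r, t' r) with hw'
        have hmem : ∀ (τ : ℕ → F), wordGL D hD ((posFrom D (k + 1)).map fun r => (r, τ r))
            ∈ upperSub D F (k + 1) := by
          intro τ
          apply wordGL_mem_rootSetSub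
          intro q hq
          rw [List.mem_map] at hq
          obtain ⟨s, hs, rfl⟩ := hq
          exact (mem_posFrom D (k + 1) s).1 hs
        -- `x_k(t_k) u = x_k(t'_k) u'`
        rw [List.map_cons, List.map_cons, wordMat_cons, wordMat_cons] at h
        have e : xGL D hD k (t k) * wordGL D hD w = xGL D hD k (t' k) * wordGL D hD w' := by
          apply Units.ext
          rw [Units.val_mul, Units.val_mul, xGL_val, xGL_val, wordGL_val, wordGL_val]
          exact h
        have e2 : xGL D hD k (t k - t' k) = wordGL D hD w' * (wordGL D hD w)⁻¹ := by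
          have e3 : xGL D hD k (t k - t' k) = (xGL D hD k (t' k))⁻¹ * xGL D hD k (t k) := by
            rw [eq_inv_mul_iff_mul_eq]
            apply Units.ext
            rw [Units.val_mul, xGL_val, xGL_val, xGL_val, x_add D hD]
            congr 1
            ring
          rw [e3, eq_mul_inv_iff_mul_eq, mul_assoc, e, ← mul_assoc, inv_mul_cancel, one_mul]
        have hu : xGL D hD k (t k - t' k) ∈ upperSub D F (k + 1) := by
          rw [e2]
          exact mul_mem (hmem t') (inv_mem (hmem t))
        have hnk : D.neg k < D.nroots := (checkCoPrim_spec D (chkCoPrim_all D hD) k hp.1).2.1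
        have hnek : D.neg k ≠ k := (checkCoPrim_spec D (chkCoPrim_all D hD) k hp.1).2.2.1
        obtain ⟨i, hi, hci⟩ := exists_coroot_ne_zero (F := F) D hD k hp.1
        have hz := upperSub_entry D hD k hp _ hu ⟨i, hi⟩ ⟨D.neg k, hnk⟩ rfl
        rw [xGL_val] at hz
        unfold ChevalleyDatum.x at hz
        rw [dif_pos hp.1, xMat_inl_neg D ⟨k, hp.1⟩ ⟨D.neg k, hnk⟩ rfl
          (fun e => hnek (congrArg Fin.val e))] at hz
        have htk : t k = t' k := by
          rcases mul_eq_zero.1 hz with h1 | h1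
          · exact absurd h1 hci
          · exact sub_eq_zero.1 h1
        rw [List.mem_cons] at hr
        rcases hr with rfl | hr
        · exact htk
        · apply ih (k + 1) (by omega) t t' _ r hr
          have e4 : wordGL D hD w = wordGL D hD w' := by
            rw [htk] at e
            exact mul_left_cancel e
          have := congrArg (fun g : GL D.Idx F => (g : Matrix D.Idx D.Idx F)) e4
          simpa [wordGL_val] using this
      · rw [if_neg hp] at h hr
        exact ih (k + 1) (by omega) t t' h r hr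

/-- the unique ordered product decomposition of the elements of `U` -/
theorem pos_unique_product (D : ChevalleyDatum) (hD : D ∈ Seven) :
    (∀ g : GL D.Idx F, g ∈ D.posUnipotent F →
      ∃! t : ℕ → F, (∀ r, ¬ D.IsPosRoot r → t r = 0) ∧
        (g : Matrix D.Idx D.Idx F) = D.wordMat F (D.posRoots.map fun r => (r, t r))) ∧
    (∀ t : ℕ → F, ∃ g : GL D.Idx F, g ∈ D.posUnipotent F ∧
      (g : Matrix D.Idx D.Idx F) = D.wordMat F (D.posRoots.map fun r => (r, t r))) := by
  have hmemP : ∀ r ∈ D.posRoots, D.IsPosRoot r := by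
    intro r hr
    rw [← posFrom_zero, mem_posFrom] at hr
    exact hr.2
  constructor
  · intro g hg
    rw [← upperSub_zero] at hg
    obtain ⟨t, ht⟩ := upperSub_exists D hD D.nroots 0 (by omega) g hg
    rw [posFrom_zero] at ht
    classical
    refine ⟨fun r => if D.IsPosRoot r then t r else 0, ⟨fun r hr => if_neg hr, ?_⟩, ?_⟩
    · rw [ht]
      congr 1
      apply List.map_congr_left
      intro r hr
      simp only [if_pos (hmemP r hr)]
    · rintro t' ⟨h1, h2⟩
      funext r
      by_cases hr : D.IsPosRoot r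
      · simp only [if_pos hr]
        have := upperSub_unique D hD D.nroots 0 (by omega) t' t (by
          rw [posFrom_zero, ← h2, ← ht]) r (by
          rw [mem_posFrom]
          exact ⟨Nat.zero_le _, hr⟩)
        exact this
      · simp only [if_neg hr]
        exact h1 r hr
  · intro t
    refine ⟨wordGL D hD (D.posRoots.map fun r => (r, t r)), ?_, wordGL_val D hD _⟩
    unfold wordGL
    apply Subgroup.list_prod_mem
    intro g hg
    rw [List.mem_map] at hg
    obtain ⟨q, hq, rfl⟩ := hg
    rw [List.mem_map] at hq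
    obtain ⟨r, hr, rfl⟩ := hq
    exact xGL_mem_pos D hD r (hmemP r hr) (t r)

end Cfsg.Agent.Lib.Helper5.ChevStruct
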