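import Mathlib
import Cfsg.Prelude.Def_ChevStructure
import Cfsg.Agent.Lib.Helper5.ChevCoLin
import Cfsg.Agent.Lib.Helper5.ChevBN
import Cfsg.Agent.Lib.Helper5.ChevRootSet
import Cfsg.Agent.Lib.Helper5.ChevUOrd
import Cfsg.Agent.Lib.Helper5.ChevChk.ParaAll

set_option autoImplicit false

/-!
The sharp form of the Bruhat decomposition: `B n_w B = B n_w U_w⁻`.
-/

namespace Cfsg.Agent.Lib.Helper5.ChevStruct

open Cfsg Cfsg.Lie Cfsg.Agent.Lib.Helper5.ChevSym

variable {F : Type*} [Field F]

theorem not_pos_neg (D : ChevalleyDatum) (hD : D ∈ Seven) (r : ℕ) (hr : D.IsPosRoot r) :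
    ¬ D.IsPosRoot (D.neg r) := by
  intro h
  have h2 := (isPosRoot_iff D hD _).1 h
  have h3 : D.neg r < D.nroots / 2 :=
    (Cfsg.Agent.Lib.Helper5.ChevPosUni.good_of_mem D hD r (List.mem_range.2 hr.1) hr).2.1
  omega

theorem pos_neg_of_not_pos (D : ChevalleyDatum) (hD : D ∈ Seven) (r : ℕ) (hr : r < D.nroots)
    (h : ¬ D.IsPosRoot r) : D.IsPosRoot (D.neg r) := by
  rcases pos_or_neg D hD r hr with hp | ⟨hp, -⟩
  · exact absurd hp h
  · exact hp

theorem isNegRoot_of_not_pos (D : ChevalleyDatum) (hD : D ∈ Seven) (r : ℕ) (hr : r < D.nroots)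
    (h : ¬ D.IsPosRoot r) : D.IsNegRoot r := by
  rcases checkPara_root D (chkPara_all D hD) r hr with hp | hn
  · exact absurd hp h
  · exact hn.1

theorem reflectRoot_simple (D : ChevalleyDatum) (i : ℕ) :
    D.reflectRoot i (D.simple i) = D.neg (D.simple i) := by
  unfold ChevalleyDatum.reflectRoot
  simp only [if_true]

theorem wAct_append_single (D : ChevalleyDatum) (w : List ℕ) (i r : ℕ) :
    wAct D (w ++ [i]) r = wAct D w (D.reflectRoot i r) := by
  rw [wAct_append]
  rfl

/-- the set of positive roots made negative by `w` -/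
def negSet (D : ChevalleyDatum) (w : List ℕ) : Finset ℕ :=
  (Finset.range D.nroots).filter fun r => D.IsPosRoot r ∧ ¬ D.IsPosRoot (wAct D w r)

theorem mem_negSet (D : ChevalleyDatum) (w : List ℕ) (r : ℕ) :
    r ∈ negSet D w ↔ D.IsPosRoot r ∧ ¬ D.IsPosRoot (wAct D w r) := by
  unfold negSet
  rw [Finset.mem_filter, Finset.mem_range]
  constructor
  · rintro ⟨_, h⟩
    exact h
  · intro h
    exact ⟨h.1.1, h⟩

/-- `ℓ(w s_i) = ℓ(w) - 1` when `w(p_i) < 0` -/
theorem card_negSet_append (D : ChevalleyDatum) (hD : D ∈ Seven) (w : List ℕ)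
    (hw : ∀ j ∈ w, j < D.rank) (i : ℕ) (hi : i < D.rank)
    (hneg : ¬ D.IsPosRoot (wAct D w (D.simple i))) :
    (negSet D (w ++ [i])).card + 1 = (negSet D w).card := by
  have hp : D.simple i < D.nroots := (checkRows_spec D (checkRows_all D hD) i hi).2.1
  have hpp : D.IsPosRoot (D.simple i) := (checkUp_spec D i (chkUp_all D hD i hi)).1
  have hσ := fun r hr => reflectRoot_invol D hD i hi r hr
  have hP1 := fun r hr => (checkCoLin_spec D i (chkCoLin_all D hD i hi) r hr).2
  have hnp : D.neg (D.simple i) < D.nroots := (neg_lt D hD _ hp).1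
  have e : negSet D w = insert (D.simple i) ((negSet D (w ++ [i])).image (D.reflectRoot i)) := by
    ext s
    rw [Finset.mem_insert, Finset.mem_image, mem_negSet]
    constructor
    · rintro ⟨hs, hns⟩
      by_cases hsp : s = D.simple i
      · exact Or.inl hsp
      · right
        refine ⟨D.reflectRoot i s, ?_, (hσ s hs.1).2⟩
        rw [mem_negSet, wAct_append_single, (hσ s hs.1).2]
        exact ⟨hP1 s hs.1 hs hsp, hns⟩
    · rintro (rfl | ⟨r, hr, rfl⟩)
      · exact ⟨hpp, hneg⟩
      · rw [mem_negSet, wAct_append_single] at hr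
        obtain ⟨hr1, hr2⟩ := hr
        have hrp : r ≠ D.simple i := by
          rintro rfl
          apply hr2
          rw [reflectRoot_simple, wAct_neg D hD w hw _ hp]
          exact pos_neg_of_not_pos D hD _ (wAct_lt D hD w hw _ hp) hneg
        exact ⟨hP1 r hr1.1 hr1 hrp, hr2⟩
  have hnot : D.simple i ∉ (negSet D (w ++ [i])).image (D.reflectRoot i) := by
    rw [Finset.mem_image]
    rintro ⟨r, hr, hrp⟩
    rw [mem_negSet] at hr
    have : r = D.neg (D.simple i) := by
      rw [← (hσ r hr.1.1).2, hrp, reflectRoot_simple]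
    rw [this] at hr
    exact not_pos_neg D hD _ hpp hr.1
  rw [e, Finset.card_insert_of_notMem hnot, Finset.card_image_of_injOn]
  intro a ha b hb hab
  have ha' := ((mem_negSet D _ a).1 ha).1.1
  have hb' := ((mem_negSet D _ b).1 hb).1.1
  rw [← (hσ a ha').2, ← (hσ b hb').2, hab]

/-- the subgroup `U_w⁻` generated by the `X_r`, `r > 0`, `w(r) < 0` -/
def unegSub (D : ChevalleyDatum) (F : Type*) [Field F] (w : List ℕ) : Subgroup (GL D.Idx F) :=
  rootSetSub D F {r | D.IsPosRoot r ∧ ¬ D.IsPosRoot (wAct D w r)}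

/-- `H` normalises every `⟨X_s : s ∈ T⟩` -/
theorem diag_conj_mem_rootSetSub (D : ChevalleyDatum) (hD : D ∈ Seven) (T : Set ℕ)
    (h : GL D.Idx F) (hh : h ∈ D.diagonalSubgroup F) (g : GL D.Idx F)
    (hg : g ∈ rootSetSub D F T) : h * g * h⁻¹ ∈ rootSetSub D F T := by
  obtain ⟨c, hc, hval⟩ := exists_torusMat_of_mem D hD h hh
  unfold rootSetSub at hg
  induction hg using Subgroup.closure_induction with
  | mem y hy =>
    obtain ⟨s, u, hs, hy⟩ := hy
    apply Subgroup.subset_closure
    exact ⟨s, chi D c s * u, hs, torus_conj_x D hD h y c hc hval s u hy⟩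
  | one =>
    simp only [mul_one, mul_inv_cancel]
    exact one_mem _
  | mul a b _ _ ha hb =>
    have e : h * (a * b) * h⁻¹ = (h * a * h⁻¹) * (h * b * h⁻¹) := by group
    rw [e]
    exact mul_mem ha hb
  | inv a _ ha =>
    have e : h * a⁻¹ * h⁻¹ = (h * a * h⁻¹)⁻¹ := by group
    rw [e]
    exact inv_mem ha

/-- if `w` keeps all positive roots positive, `n_w` normalises `U` -/
theorem wGL_conj_pos_mem (D : ChevalleyDatum) (hD : D ∈ Seven) (w : List ℕ)
    (hw : ∀ j ∈ w, j < D.rank) (h : ∀ r, D.IsPosRoot r → D.IsPosRoot (wAct D w r))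
    (u : GL D.Idx F) (hu : u ∈ D.posUnipotent F) :
    wGL D hD w * u * (wGL D hD w)⁻¹ ∈ D.posUnipotent F := by
  unfold ChevalleyDatum.posUnipotent at hu
  induction hu using Subgroup.closure_induction with
  | mem y hy =>
    obtain ⟨r, t, hr, hy⟩ := hy
    obtain ⟨ε, -, hconj⟩ := wGL_conj (F := F) D hD w hw r hr.1
    exact Subgroup.subset_closure ⟨wAct D w r, ε * t, h r hr, hconj t y hy⟩
  | one =>
    simp only [mul_one, mul_inv_cancel]
    exact one_mem _
  | mul a b _ _ ha hb =>
    have e : wGL D hD w * (a * b) * (wGL D hD w)⁻¹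
        = (wGL D hD w * a * (wGL D hD w)⁻¹) * (wGL D hD w * b * (wGL D hD w)⁻¹) := by group
    rw [e]
    exact mul_mem ha hb
  | inv a _ ha =>
    have e : wGL D hD w * a⁻¹ * (wGL D hD w)⁻¹ = (wGL D hD w * a * (wGL D hD w)⁻¹)⁻¹ := by group
    rw [e]
    exact inv_mem ha

/-- the statement `n_w U ⊆ B n_w U_w⁻` -/
def SharpAt (D : ChevalleyDatum) (hD : D ∈ Seven) (F : Type*) [Field F] (w : List ℕ) : Prop :=
  ∀ u ∈ D.posUnipotent F, ∃ b ∈ D.borelSubgroup F, ∃ v ∈ unegSub D F w,
    wGL D hD w * u = b * wGL D hD w * v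

/-- conjugating `U_{w}⁻` by `n_i⁻¹`, when `w(p_i) > 0` -/
theorem nGL_inv_conj_unegSub (D : ChevalleyDatum) (hD : D ∈ Seven) (w : List ℕ)
    (hw : ∀ j ∈ w, j < D.rank) (i : ℕ) (hi : i < D.rank)
    (hpos : D.IsPosRoot (wAct D w (D.simple i))) (v : GL D.Idx F) (hv : v ∈ unegSub D F w) :
    (nGL D hD i)⁻¹ * v * nGL D hD i ∈ unegSub D F (w ++ [i]) := by
  have hi' : ∀ j ∈ [i], j < D.rank := by
    intro j hj
    rw [List.mem_singleton] at hj
    rw [hj]; exact hi
  have e0 : (wGL D hD [i] : GL D.Idx F) = nGL D hD i := by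
    rw [wGL_cons, wGL_nil, mul_one]
  unfold unegSub rootSetSub at hv
  induction hv using Subgroup.closure_induction with
  | mem y hy =>
    obtain ⟨r, t, ⟨hr, hnr⟩, hy⟩ := hy
    obtain ⟨c, -, hconj⟩ := wGL_conj_inv (F := F) D hD [i] hi' r hr.1
    have hrp : r ≠ D.simple i := by
      rintro rfl
      exact hnr hpos
    have h1 := hconj t y hy
    rw [e0] at h1
    apply Subgroup.subset_closure
    refine ⟨D.reflectRoot i r, c * t, ⟨?_, ?_⟩, h1⟩
    · exact (checkCoLin_spec D i (chkCoLin_all D hD i hi) r hr.1).2 hr hrp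
    · rw [wAct_append_single, (reflectRoot_invol D hD i hi r hr.1).2]
      exact hnr
  | one =>
    simp only [mul_one, inv_mul_cancel]
    exact one_mem _
  | mul a b _ _ ha hb =>
    have e : (nGL D hD i)⁻¹ * (a * b) * nGL D hD i
        = ((nGL D hD i)⁻¹ * a * nGL D hD i) * ((nGL D hD i)⁻¹ * b * nGL D hD i) := by group
    rw [e]
    exact mul_mem ha hb
  | inv a _ ha =>
    have e : (nGL D hD i)⁻¹ * a⁻¹ * nGL D hD i = ((nGL D hD i)⁻¹ * a * nGL D hD i)⁻¹ := by group
    rw [e]
    exact inv_mem ha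

/-- the step `w ↦ w s_i` when `w(p_i) > 0` -/
theorem sharpAt_append (D : ChevalleyDatum) (hD : D ∈ Seven) (w : List ℕ)
    (hw : ∀ j ∈ w, j < D.rank) (i : ℕ) (hi : i < D.rank)
    (hpos : D.IsPosRoot (wAct D w (D.simple i))) (h : SharpAt D hD F w) :
    SharpAt D hD F (w ++ [i]) := by
  have hp : D.simple i < D.nroots := (checkRows_spec D (checkRows_all D hD) i hi).2.1
  have hpp : D.IsPosRoot (D.simple i) := (checkUp_spec D i (chkUp_all D hD i hi)).1
  intro u hu
  obtain ⟨u', hu', t, rfl⟩ := pos_decomp D hD i hi u hu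
  have hu'' : nGL D hD i * u' * (nGL D hD i)⁻¹ ∈ D.posUnipotent F :=
    upSub_le_pos D _ (nGL_conj_upSub D hD i hi u' hu').1
  obtain ⟨b, hb, v, hv, e⟩ := h _ hu''
  refine ⟨b, hb, ((nGL D hD i)⁻¹ * v * nGL D hD i) * xGL D hD (D.simple i) t, ?_, ?_⟩
  · apply mul_mem (nGL_inv_conj_unegSub D hD w hw i hi hpos v hv)
    apply xGL_mem_rootSetSub
    refine ⟨hpp, ?_⟩
    rw [wAct_append_single, reflectRoot_simple, wAct_neg D hD w hw _ hp]
    exact not_pos_neg D hD _ hpos
  · have e1 : (wGL D hD (w ++ [i]) : GL D.Idx F) = wGL D hD w * nGL D hD i := by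
      rw [wGL_append, wGL_cons, wGL_nil, mul_one]
    rw [e1]
    calc wGL D hD w * nGL D hD i * (u' * xGL D hD (D.simple i) t)
        = (wGL D hD w * (nGL D hD i * u' * (nGL D hD i)⁻¹)) * nGL D hD i *
            xGL D hD (D.simple i) t := by group
      _ = (b * wGL D hD w * v) * nGL D hD i * xGL D hD (D.simple i) t := by rw [e]
      _ = _ := by group

/-- `n_w U ⊆ B n_w U_w⁻` for every word `w` -/
theorem sharpAt_all (D : ChevalleyDatum) (hD : D ∈ Seven) (m : ℕ) :
    ∀ w : List ℕ, (∀ j ∈ w, j < D.rank) → (negSet D w).card = m → SharpAt D hD F w := by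
  induction m with
  | zero =>
    intro w hw hcard u hu
    have hall : ∀ r, D.IsPosRoot r → D.IsPosRoot (wAct D w r) := by
      intro r hr
      by_contra hn
      have : r ∈ negSet D w := (mem_negSet D w r).2 ⟨hr, hn⟩
      rw [Finset.card_eq_zero] at hcard
      rw [hcard] at this
      simp at this
    refine ⟨wGL D hD w * u * (wGL D hD w)⁻¹, pos_le_borel D (wGL_conj_pos_mem D hD w hw hall u hu),
      1, one_mem _, by group⟩
  | succ m ih =>
    intro w hw hcard
    -- a fundamental root made negative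
    have hex : ∃ i < D.rank, ¬ D.IsPosRoot (wAct D w (D.simple i)) := by
      by_contra hcon
      push Not at hcon
      have hall := wAct_pos_of_simple D hD w hw hcon
      have : negSet D w = ∅ := by
        rw [Finset.eq_empty_iff_forall_notMem]
        intro r hr
        rw [mem_negSet] at hr
        exact hr.2 (hall r hr.1)
      rw [this] at hcard
      simp at hcard
    obtain ⟨i, hi, hneg⟩ := hex
    have hp : D.simple i < D.nroots := (checkRows_spec D (checkRows_all D hD) i hi).2.1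
    have hw' : ∀ j ∈ w ++ [i], j < D.rank := by
      intro j hj
      rcases List.mem_append.1 hj with h | h
      · exact hw j h
      · rw [List.mem_singleton] at h
        rw [h]; exact hi
    have hcard' : (negSet D (w ++ [i])).card = m := by
      have := card_negSet_append D hD w hw i hi hneg
      omega
    have h1 : SharpAt D hD F (w ++ [i]) := ih _ hw' hcard'
    have hpos' : D.IsPosRoot (wAct D (w ++ [i]) (D.simple i)) := by
      rw [wAct_append_single, reflectRoot_simple, wAct_neg D hD w hw _ hp]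
      exact pos_neg_of_not_pos D hD _ (wAct_lt D hD w hw _ hp) hneg
    have h2 : SharpAt D hD F (w ++ [i] ++ [i]) := sharpAt_append D hD _ hw' i hi hpos' h1
    -- `n_{w s_i s_i} = n_w h₀`
    set h0 : GL D.Idx F := nGL D hD i * nGL D hD i with hh0
    have hh0m : h0 ∈ D.diagonalSubgroup F := (nGL_sq_mem D hD i hi).1
    have e1 : (wGL D hD (w ++ [i] ++ [i]) : GL D.Idx F) = wGL D hD w * h0 := by
      rw [wGL_append, wGL_append, wGL_cons, wGL_nil, mul_one, mul_assoc]
    have e2 : unegSub D F (w ++ [i] ++ [i]) = unegSub D F w := by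
      unfold unegSub
      congr 1
      ext r
      constructor
      · rintro ⟨hr, hn⟩
        refine ⟨hr, ?_⟩
        rwa [wAct_append_single, wAct_append_single, (reflectRoot_invol D hD i hi r hr.1).2] at hn
      · rintro ⟨hr, hn⟩
        refine ⟨hr, ?_⟩
        rwa [wAct_append_single, wAct_append_single, (reflectRoot_invol D hD i hi r hr.1).2]
    intro u hu
    have hu' : h0⁻¹ * u * h0 ∈ D.posUnipotent F := by
      have hn := diagonal_le_normalizer_pos (F := F) D hD (inv_mem hh0m)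
      have := (Subgroup.mem_normalizer_iff.1 hn u).1 hu
      rwa [inv_inv] at this
    obtain ⟨b, hb, v, hv, e⟩ := h2 _ hu'
    rw [e1] at e
    rw [e2] at hv
    refine ⟨b, hb, h0 * v * h0⁻¹, diag_conj_mem_rootSetSub D hD _ h0 hh0m v hv, ?_⟩
    calc wGL D hD w * u = (wGL D hD w * h0 * (h0⁻¹ * u * h0)) * h0⁻¹ := by group
      _ = (b * (wGL D hD w * h0) * v) * h0⁻¹ := by rw [e]
      _ = _ := by group

end Cfsg.Agent.Lib.Helper5.ChevStruct
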