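import Mathlib
import Cfsg.Prelude.Def_ChevStructure
import Cfsg.Agent.S0308
import Cfsg.Agent.S0309
import Cfsg.Agent.Lib.Helper5.ChevBruhat
import Cfsg.Agent.Lib.Helper5.ChevBNPair

set_option autoImplicit false

/-!
Bruhat normal form `g = b n u`, `u ∈ U_n⁻`.
-/

namespace Cfsg.Agent.Lib.Helper5.ChevStruct

open Cfsg Cfsg.Lie Cfsg.Agent.Lib.Helper5.ChevSym

variable {F : Type*} [Field F]

/-- the subgroup `U_n⁻` of the statement -/
def unegOf (D : ChevalleyDatum) (F : Type*) [Field F] (n : GL D.Idx F) : Subgroup (GL D.Idx F) :=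
  Subgroup.closure {x : GL D.Idx F | ∃ (r : ℕ) (t : F), D.IsPosRoot r ∧
    (D.rootSubgroup F r).map (MulAut.conj n).toMonoidHom ≤ D.negUnipotent F ∧
    (x : Matrix D.Idx D.Idx F) = D.x F r t}

theorem unegOf_le_pos (D : ChevalleyDatum) (n : GL D.Idx F) : unegOf D F n ≤ D.posUnipotent F := by
  unfold unegOf ChevalleyDatum.posUnipotent
  apply Subgroup.closure_mono
  rintro x ⟨r, t, hr, -, hx⟩
  exact ⟨r, t, hr, hx⟩

/-- `n U_n⁻ n⁻¹ ≤ V` -/
theorem conj_unegOf_le_neg (D : ChevalleyDatum) (n : GL D.Idx F) (u : GL D.Idx F)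
    (hu : u ∈ unegOf D F n) : n * u * n⁻¹ ∈ D.negUnipotent F := by
  unfold unegOf at hu
  induction hu using Subgroup.closure_induction with
  | mem y hy =>
    obtain ⟨r, t, -, hle, hy⟩ := hy
    apply hle
    refine ⟨y, Subgroup.subset_closure ⟨t, hy⟩, rfl⟩
  | one =>
    simp only [mul_one, mul_inv_cancel]
    exact one_mem _
  | mul a b _ _ ha hb =>
    have e : n * (a * b) * n⁻¹ = (n * a * n⁻¹) * (n * b * n⁻¹) := by group
    rw [e]
    exact mul_mem ha hb
  | inv a _ ha =>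
    have e : n * a⁻¹ * n⁻¹ = (n * a * n⁻¹)⁻¹ := by group
    rw [e]
    exact inv_mem ha

/-- `U_w⁻ ≤ U_{n_w}⁻` -/
theorem unegSub_le_unegOf (D : ChevalleyDatum) (hD : D ∈ Seven) (w : List ℕ)
    (hw : ∀ j ∈ w, j < D.rank) : unegSub D F w ≤ unegOf D F (wGL D hD w) := by
  unfold unegSub rootSetSub unegOf
  apply Subgroup.closure_mono
  rintro x ⟨r, t, ⟨hr, hnr⟩, hx⟩
  refine ⟨r, t, hr, ?_, hx⟩
  obtain ⟨ε, -, hconj⟩ := wGL_conj (F := F) D hD w hw r hr.1
  have hneg := isNegRoot_of_not_pos D hD _ (wAct_lt D hD w hw r hr.1) hnr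
  rw [Subgroup.map_le_iff_le_comap]
  unfold ChevalleyDatum.rootSubgroup
  rw [Subgroup.closure_le]
  rintro y ⟨t', hy⟩
  show wGL D hD w * y * (wGL D hD w)⁻¹ ∈ D.negUnipotent F
  exact Subgroup.subset_closure ⟨wAct D w r, ε * t', hneg, hconj t' y hy⟩

/-- existence of the normal form -/
theorem bruhat_exists (D : ChevalleyDatum) (hD : D ∈ Seven) (g : GL D.Idx F)
    (hg : g ∈ D.group F) :
    ∃ b ∈ D.borelSubgroup F, ∃ n ∈ D.monomialSubgroup F, ∃ u ∈ unegOf D F n, g = b * n * u := by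
  obtain ⟨n, hn, hmem⟩ := Cfsg.Agent.S0308.result (chevBNPair D hD F) ⟨g, hg⟩
  rw [DoubleCoset.mem_doubleCoset] at hmem
  obtain ⟨b1, hb1, b2, hb2, e⟩ := hmem
  have hn' : (n : GL D.Idx F) ∈ D.monomialSubgroup F := hn
  have hb1' : (b1 : GL D.Idx F) ∈ D.borelSubgroup F := hb1
  have hb2' : (b2 : GL D.Idx F) ∈ D.borelSubgroup F := hb2
  have e' : g = (b1 : GL D.Idx F) * (n : GL D.Idx F) * (b2 : GL D.Idx F) :=
    congrArg Subtype.val e
  -- `b2 = h u`
  have hb2'' : (b2 : GL D.Idx F) ∈ ((D.diagonalSubgroup F ⊔ D.posUnipotent F :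
      Subgroup (GL D.Idx F)) : Set (GL D.Idx F)) := by
    rw [sup_comm]
    exact hb2'
  rw [Subgroup.coe_mul_of_left_le_normalizer_right _ _ (diagonal_le_normalizer_pos D hD)] at hb2''
  obtain ⟨h, hh, u, hu, e2⟩ := Set.mem_mul.1 hb2''
  obtain ⟨w, hw, h', hh', e3⟩ := exists_word_of_mem_monomial D hD _ hn'
  have hcard : (negSet D w).card = (negSet D w).card := rfl
  obtain ⟨b, hb, v, hv, e4⟩ := sharpAt_all (F := F) D hD _ w hw hcard u hu
  have hwN := wGL_mem (F := F) D hD w hw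
  refine ⟨(b1 : GL D.Idx F) * (wGL D hD w * (h' * h) * (wGL D hD w)⁻¹) * b, ?_, wGL D hD w, hwN, v,
    unegSub_le_unegOf D hD w hw hv, ?_⟩
  · apply (D.borelSubgroup F).mul_mem ((D.borelSubgroup F).mul_mem hb1' _) hb
    apply diagonal_le_borel D
    exact (conj_monomial_diag_mem D hD _ hwN _ ((D.diagonalSubgroup F).mul_mem hh' hh)).1
  · rw [e', e3, ← e2]
    calc (b1 : GL D.Idx F) * (wGL D hD w * h') * (h * u)
        = (b1 : GL D.Idx F) * (wGL D hD w * (h' * h) * (wGL D hD w)⁻¹) * (wGL D hD w * u) := by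
          group
      _ = _ := by rw [e4]; group

/-- uniqueness of the normal form -/
theorem bruhat_unique (D : ChevalleyDatum) (hD : D ∈ Seven) (b b' n n' u u' : GL D.Idx F)
    (hb : b ∈ D.borelSubgroup F) (hb' : b' ∈ D.borelSubgroup F)
    (hn : n ∈ D.monomialSubgroup F) (hn' : n' ∈ D.monomialSubgroup F)
    (hu : u ∈ unegOf D F n) (hu' : u' ∈ unegOf D F n') (e : b * n * u = b' * n' * u') :
    n⁻¹ * n' ∈ D.diagonalSubgroup F ∧ (n = n' → b = b' ∧ u = u') := by
  have hnG := monomial_le_group D hD hn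
  have hn'G := monomial_le_group D hD hn'
  have huB := pos_le_borel D (unegOf_le_pos D n hu)
  have hu'B := pos_le_borel D (unegOf_le_pos D n' hu')
  constructor
  · -- the double cosets coincide
    have hgG : b * n * u ∈ D.group F :=
      mul_mem (mul_mem (borel_le_group D hD hb) hnG) (borel_le_group D hD huB)
    have h1 : (⟨b * n * u, hgG⟩ : ↥(D.group F)) ∈ DoubleCoset.doubleCoset (⟨n, hnG⟩ : ↥(D.group F))
        ((chevBNPair D hD F).B : Set ↥(D.group F)) (chevBNPair D hD F).B := by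
      apply doubleCoset_subgroupOf (D.group F) (D.borelSubgroup F) (borel_le_group D hD)
      rw [DoubleCoset.mem_doubleCoset]
      exact ⟨b, hb, u, huB, rfl⟩
    have h2 : (⟨b * n * u, hgG⟩ : ↥(D.group F)) ∈ DoubleCoset.doubleCoset
        (⟨n', hn'G⟩ : ↥(D.group F))
        ((chevBNPair D hD F).B : Set ↥(D.group F)) (chevBNPair D hD F).B := by
      apply doubleCoset_subgroupOf (D.group F) (D.borelSubgroup F) (borel_le_group D hD)
      rw [DoubleCoset.mem_doubleCoset]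
      exact ⟨b', hb', u', hu'B, e⟩
    have heq : DoubleCoset.doubleCoset (⟨n, hnG⟩ : ↥(D.group F))
        ((chevBNPair D hD F).B : Set ↥(D.group F)) (chevBNPair D hD F).B
        = DoubleCoset.doubleCoset (⟨n', hn'G⟩ : ↥(D.group F))
        ((chevBNPair D hD F).B : Set ↥(D.group F)) (chevBNPair D hD F).B := by
      apply DoubleCoset.eq_of_not_disjoint
      rw [Set.not_disjoint_iff]
      exact ⟨_, h1, h2⟩
    have h3 := (Cfsg.Agent.S0309.result (chevBNPair D hD F) (n := ⟨n, hnG⟩) (n' := ⟨n', hn'G⟩)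
      hn hn').1 heq
    have h4 : n⁻¹ * n' ∈ D.borelSubgroup F := h3
    rw [← borel_inf_monomial D hD]
    exact ⟨h4, (D.monomialSubgroup F).mul_mem ((D.monomialSubgroup F).inv_mem hn) hn'⟩
  · rintro rfl
    -- `b'⁻¹ b = n (u' u⁻¹) n⁻¹ ∈ B ∩ V`
    have h1 : b'⁻¹ * b = n * (u' * u⁻¹) * n⁻¹ := by
      have : b = b' * n * u' * u⁻¹ * n⁻¹ := by
        rw [← e]; group
      rw [this]; group
    have h2 : b'⁻¹ * b ∈ D.borelSubgroup F ⊓ D.negUnipotent F := by
      refine ⟨(D.borelSubgroup F).mul_mem ((D.borelSubgroup F).inv_mem hb') hb, ?_⟩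
      rw [h1]
      exact conj_unegOf_le_neg D n _ (mul_mem hu' (inv_mem hu))
    rw [borel_inf_neg D hD, Subgroup.mem_bot] at h2
    have hbb : b = b' := by
      have := congrArg (fun x => b' * x) h2
      simpa using this
    refine ⟨hbb, ?_⟩
    rw [hbb] at e
    exact mul_left_cancel e

end Cfsg.Agent.Lib.Helper5.ChevStruct
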