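import Mathlib
import Cfsg.Prelude.Def_ChevStructure
import Cfsg.Agent.Lib.Helper5.ChevUOrd

set_option autoImplicit false

/-!
`|U| = q^N`.
-/

namespace Cfsg.Agent.Lib.Helper5.ChevStruct

open Cfsg Cfsg.Lie Cfsg.Agent.Lib.Helper5.ChevSym

variable {F : Type*} [Field F]

theorem nroots_even (D : ChevalleyDatum) (hD : D ∈ Seven) : D.nroots / 2 + D.nroots / 2 = D.nroots := by
  simp only [Seven, List.mem_cons, List.not_mem_nil, or_false] at hD
  rcases hD with rfl | rfl | rfl | rfl | rfl | rfl | rfl <;> decide

/-- extension of a family indexed by the positive roots to all indices -/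
def extFam (D : ChevalleyDatum) (τ : Fin (D.nroots / 2) → F) (r : ℕ) : F :=
  if h : D.nroots / 2 ≤ r ∧ r < D.nroots / 2 + D.nroots / 2 then τ ⟨r - D.nroots / 2, by omega⟩
  else 0

/-- the ordered product attached to a family -/
def prodOf (D : ChevalleyDatum) (hD : D ∈ Seven) (τ : Fin (D.nroots / 2) → F) :
    ↥(D.posUnipotent F) :=
  ⟨wordGL D hD (D.posRoots.map fun r => (r, extFam D τ r)), by
    unfold wordGL
    apply Subgroup.list_prod_mem
    intro g hg
    rw [List.mem_map] at hg
    obtain ⟨q, hq, rfl⟩ := hg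
    rw [List.mem_map] at hq
    obtain ⟨r, hr, rfl⟩ := hq
    rw [← posFrom_zero, mem_posFrom] at hr
    exact xGL_mem_pos D hD r hr.2 _⟩

theorem prodOf_bijective (D : ChevalleyDatum) (hD : D ∈ Seven) :
    Function.Bijective (prodOf (F := F) D hD) := by
  have hev := nroots_even D hD
  constructor
  · intro τ τ' h
    have h1 : D.wordMat F (D.posRoots.map fun r => (r, extFam D τ r))
        = D.wordMat F (D.posRoots.map fun r => (r, extFam D τ' r)) := by
      have := congrArg (fun g : ↥(D.posUnipotent F) => ((g : GL D.Idx F) : Matrix D.Idx D.Idx F)) h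
      simpa [prodOf, wordGL_val] using this
    rw [← posFrom_zero] at h1
    have h2 := upperSub_unique D hD D.nroots 0 (by omega) _ _ h1
    funext j
    have hj := j.2
    have hmem : D.nroots / 2 + j.val ∈ posFrom D 0 := by
      rw [mem_posFrom]
      exact ⟨Nat.zero_le _, (isPosRoot_iff D hD _).2 ⟨by omega, by omega⟩⟩
    have := h2 _ hmem
    unfold extFam at this
    rw [dif_pos ⟨by omega, by omega⟩, dif_pos ⟨by omega, by omega⟩] at this
    have e : (⟨D.nroots / 2 + j.val - D.nroots / 2, by omega⟩ : Fin (D.nroots / 2)) = j := by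
      apply Fin.ext
      simp
    rwa [e] at this
  · intro g
    have hg : (g : GL D.Idx F) ∈ upperSub D F 0 := by
      rw [upperSub_zero]
      exact g.2
    obtain ⟨t, ht⟩ := upperSub_exists D hD D.nroots 0 (by omega) g.1 hg
    refine ⟨fun j => t (D.nroots / 2 + j.val), ?_⟩
    apply Subtype.ext
    apply Units.ext
    rw [ht, posFrom_zero]
    show ((wordGL D hD _ : GL D.Idx F) : Matrix D.Idx D.Idx F) = _
    rw [wordGL_val]
    congr 1
    apply List.map_congr_left
    intro r hr
    rw [← posFrom_zero, mem_posFrom] at hr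
    have := (isPosRoot_iff D hD r).1 hr.2
    unfold extFam
    rw [dif_pos ⟨by omega, by omega⟩]
    simp only
    congr 2
    omega

/-- `|U| = q^N` -/
theorem card_posUnipotent [Fintype F] (D : ChevalleyDatum) (hD : D ∈ Seven) :
    Nat.card (D.posUnipotent F) = Fintype.card F ^ (D.nroots / 2) := by
  rw [← Nat.card_congr (Equiv.ofBijective _ (prodOf_bijective (F := F) D hD)),
    Nat.card_eq_fintype_card, Fintype.card_fun, Fintype.card_fin]

end Cfsg.Agent.Lib.Helper5.ChevStruct
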