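import Mathlib
import Cfsg.Prelude.Def_ChevStructure
import Cfsg.Agent.Lib.Helper5.ChevCoLinDef

set_option autoImplicit false

/-!
Table checks for the Weyl group combinatorics: invariance of the pairing between roots and the
coroot lattice under the fundamental reflections, and injectivity of `r ↦ r^∨`.
-/

namespace Cfsg.Agent.Lib.Helper5.ChevSym

open Cfsg Cfsg.Lie

/-- `⟨w_i r, σ_i e_m⟩ = ⟨r, e_m⟩` for all roots `r` and all `m` -/
def checkCInv (D : ChevalleyDatum) (i : ℕ) : Bool :=
  canon (fun p => (List.range D.nroots).all fun r => canon (fun r =>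
    forceNat (D.reflectRoot i r) fun r' =>
      (List.range D.rank).all fun m =>
        decide (D.cartan m r' - D.cartan m p * D.cartan i r' = D.cartan m r)) r) (D.simple i)

theorem checkCInv_spec (D : ChevalleyDatum) (i : ℕ) (h : checkCInv D i = true) (r : ℕ)
    (hr : r < D.nroots) (m : ℕ) (hm : m < D.rank) :
    D.cartan m (D.reflectRoot i r) - D.cartan m (D.simple i) * D.cartan i (D.reflectRoot i r)
      = D.cartan m r := by
  unfold checkCInv at h
  rw [canon_eq, List.all_eq_true] at h
  have := h r (List.mem_range.2 hr)
  rw [canon_eq, forceNat_eq, List.all_eq_true] at this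
  exact of_decide_eq_true (this m (List.mem_range.2 hm))

/-- the coroot vectors of the roots are pairwise distinct -/
def checkCoInj (D : ChevalleyDatum) : Bool :=
  Nat.ble D.nroots D.coroot.size && decide ((D.coroot.toList.take D.nroots).Nodup)

theorem checkCoInj_spec (D : ChevalleyDatum) (h : checkCoInj D = true) (r s : ℕ)
    (hr : r < D.nroots) (hs : s < D.nroots) (e : D.coroot.getD r #[] = D.coroot.getD s #[]) :
    r = s := by
  unfold checkCoInj at h
  rw [Bool.and_eq_true] at h
  have hsize : D.nroots ≤ D.coroot.size := Nat.le_of_ble_eq_true h.1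
  have hnd := of_decide_eq_true h.2
  have hlen : (D.coroot.toList.take D.nroots).length = D.nroots := by
    rw [List.length_take, Array.length_toList]
    exact Nat.min_eq_left hsize
  have hr' : r < (D.coroot.toList.take D.nroots).length := by rw [hlen]; exact hr
  have hs' : s < (D.coroot.toList.take D.nroots).length := by rw [hlen]; exact hs
  have e1 : ∀ k (hk : k < D.nroots) (hk' : k < (D.coroot.toList.take D.nroots).length),
      (D.coroot.toList.take D.nroots)[k] = D.coroot.getD k #[] := by
    intro k hk hk'
    have hk2 : k < D.coroot.size := lt_of_lt_of_le hk hsize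
    rw [List.getElem_take, Array.getElem_toList]
    simp [Array.getD, hk2]
  have : (D.coroot.toList.take D.nroots)[r] = (D.coroot.toList.take D.nroots)[s] := by
    rw [e1 r hr hr', e1 s hs hs', e]
  exact (hnd.getElem_inj_iff).1 this

end Cfsg.Agent.Lib.Helper5.ChevSym
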