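import Mathlib
import Cfsg.Prelude.Def_ChevStructure
import Cfsg.Agent.Lib.Helper5.ChevBruhat
import Cfsg.Agent.Lib.Helper5.ChevChk.CInvAll
import Cfsg.Agent.Lib.Helper5.ChevChk.CoInjAll

set_option autoImplicit false

/-!
Combinatorics of words in the fundamental reflections acting on the roots: the pairing between
roots and the coroot lattice, the relation `w s_j = s_a w` when `w(p_j) = p_a`, the deletion
lemma and reduced words.
-/

namespace Cfsg.Agent.Lib.Helper5.ChevStruct

open Cfsg Cfsg.Lie Cfsg.Agent.Lib.Helper5.ChevSym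

/-- words in the fundamental reflections -/
def Wd (D : ChevalleyDatum) (w : List ℕ) : Prop := ∀ i ∈ w, i < D.rank

theorem Wd.nil (D : ChevalleyDatum) : Wd D [] := by
  intro i hi
  simp at hi

theorem Wd.cons {D : ChevalleyDatum} {i : ℕ} {w : List ℕ} (hi : i < D.rank) (hw : Wd D w) :
    Wd D (i :: w) := by
  intro j hj
  rcases List.mem_cons.1 hj with rfl | hj
  · exact hi
  · exact hw j hj

theorem Wd.head {D : ChevalleyDatum} {i : ℕ} {w : List ℕ} (h : Wd D (i :: w)) : i < D.rank :=
  h i (List.mem_cons_self ..)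

theorem Wd.tail {D : ChevalleyDatum} {i : ℕ} {w : List ℕ} (h : Wd D (i :: w)) : Wd D w :=
  fun j hj => h j (List.mem_cons_of_mem _ hj)

theorem Wd.append {D : ChevalleyDatum} {a b : List ℕ} (ha : Wd D a) (hb : Wd D b) :
    Wd D (a ++ b) := by
  intro j hj
  rcases List.mem_append.1 hj with hj | hj
  · exact ha j hj
  · exact hb j hj

theorem Wd.left {D : ChevalleyDatum} {a b : List ℕ} (h : Wd D (a ++ b)) : Wd D a :=
  fun j hj => h j (List.mem_append_left _ hj)

theorem Wd.right {D : ChevalleyDatum} {a b : List ℕ} (h : Wd D (a ++ b)) : Wd D b :=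
  fun j hj => h j (List.mem_append_right _ hj)

theorem Wd.single {D : ChevalleyDatum} {i : ℕ} (hi : i < D.rank) : Wd D [i] :=
  Wd.cons hi (Wd.nil D)

theorem Wd.reverse {D : ChevalleyDatum} {a : List ℕ} (h : Wd D a) : Wd D a.reverse :=
  fun j hj => h j (List.mem_reverse.1 hj)

/-- the pairing of the root `r` with a vector of the coroot lattice -/
def fpair (D : ChevalleyDatum) (r : ℕ) (y : ℕ → ℤ) : ℤ :=
  ((List.range D.rank).map fun m => y m * D.cartan m r).sum

theorem list_range_map_sum (n : ℕ) (f : ℕ → ℤ) :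
    ((List.range n).map f).sum = ∑ m ∈ Finset.range n, f m := by
  induction n with
  | zero => simp
  | succ n ih =>
    rw [List.range_succ, List.map_append, List.sum_append, ih, Finset.sum_range_succ]
    simp

theorem fpair_eq (D : ChevalleyDatum) (r : ℕ) (y : ℕ → ℤ) :
    fpair D r y = ∑ m ∈ Finset.range D.rank, y m * D.cartan m r :=
  list_range_map_sum _ _

theorem pairVec_eq (D : ChevalleyDatum) (i : ℕ) (y : ℕ → ℤ) :
    pairVec D i y = fpair D (D.simple i) y := rfl

theorem fpair_congr (D : ChevalleyDatum) (r : ℕ) (y z : ℕ → ℤ) (h : ∀ m < D.rank, y m = z m) :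
    fpair D r y = fpair D r z := by
  rw [fpair_eq, fpair_eq]
  apply Finset.sum_congr rfl
  intro m hm
  rw [h m (Finset.mem_range.1 hm)]

/-- invariance of the pairing under a fundamental reflection -/
theorem fpair_reflect (D : ChevalleyDatum) (hD : D ∈ Seven) (i : ℕ) (hi : i < D.rank) (r : ℕ)
    (hr : r < D.nroots) (y : ℕ → ℤ) :
    fpair D (D.reflectRoot i r) (reflVec D i y) = fpair D r y := by
  have hc := checkCInv_spec D i (chkCInv_all D hD i hi) r hr
  rw [fpair_eq, fpair_eq]
  have hP : pairVec D i y = ∑ m ∈ Finset.range D.rank, y m * D.cartan m (D.simple i) := by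
    rw [pairVec_eq, fpair_eq]
  have e1 : ∀ m ∈ Finset.range D.rank, reflVec D i y m * D.cartan m (D.reflectRoot i r)
      = y m * D.cartan m r + (y m * D.cartan m (D.simple i)) * D.cartan i (D.reflectRoot i r)
        - (if m = i then pairVec D i y * D.cartan i (D.reflectRoot i r) else 0) := by
    intro m hm
    have := hc m (Finset.mem_range.1 hm)
    unfold reflVec
    split_ifs with h
    · subst h
      rw [← this]; ring
    · rw [← this]; ring
  rw [Finset.sum_congr rfl e1, Finset.sum_sub_distrib, Finset.sum_add_distrib,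
    ← Finset.sum_mul, ← hP, Finset.sum_ite_eq' (Finset.range D.rank) i]
  rw [if_pos (Finset.mem_range.2 hi)]
  ring

/-- invariance of the pairing under words -/
theorem fpair_wAct (D : ChevalleyDatum) (hD : D ∈ Seven) (w : List ℕ) (hw : Wd D w) (r : ℕ)
    (hr : r < D.nroots) (y : ℕ → ℤ) : fpair D (wAct D w r) (wLin D w y) = fpair D r y := by
  induction w with
  | nil => rfl
  | cons i w ih =>
    have e1 : wAct D (i :: w) r = D.reflectRoot i (wAct D w r) := rfl
    have e2 : wLin D (i :: w) y = reflVec D i (wLin D w y) := rfl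
    rw [e1, e2, fpair_reflect D hD i hw.head _ (wAct_lt D hD w hw.tail r hr), ih hw.tail]

/-- a root is determined by its coroot coordinates -/
theorem co_inj (D : ChevalleyDatum) (hD : D ∈ Seven) (r s : ℕ) (hr : r < D.nroots)
    (hs : s < D.nroots) (h : ∀ k < D.rank, co D r k = co D s k) : r = s := by
  apply checkCoInj_spec D (chkCoInj_all D hD) r s hr hs
  have h1 := (checkCoBasis_spec D (chkCoBasis_all D hD)).2 r hr
  have h2 := (checkCoBasis_spec D (chkCoBasis_all D hD)).2 s hs
  have key : ∀ (A B : Array ℤ), A.size = D.rank → B.size = D.rank →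
      (∀ k < D.rank, A.getD k 0 = B.getD k 0) → A = B := by
    intro A B hA hB hk
    apply Array.ext (by rw [hA, hB])
    intro k hk1 hk2
    have := hk k (by rw [← hA]; exact hk1)
    simpa [Array.getD, hk1, hk2] using this
  exact key _ _ h1 h2 h

theorem simple_lt (D : ChevalleyDatum) (hD : D ∈ Seven) (i : ℕ) (hi : i < D.rank) :
    D.simple i < D.nroots := (checkRows_spec D (checkRows_all D hD) i hi).2.1

theorem simple_pos (D : ChevalleyDatum) (hD : D ∈ Seven) (i : ℕ) (hi : i < D.rank) :
    D.IsPosRoot (D.simple i) := (checkUp_spec D i (chkUp_all D hD i hi)).1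

theorem co_simple (D : ChevalleyDatum) (hD : D ∈ Seven) (j : ℕ) (hj : j < D.rank) (m : ℕ)
    (hm : m < D.rank) : co D (D.simple j) m = basisVec j m :=
  (checkCoBasis_spec D (chkCoBasis_all D hD)).1 j hj m hm

theorem reflVec_eq_sub (D : ChevalleyDatum) (i : ℕ) (y : ℕ → ℤ) :
    reflVec D i y = y - pairVec D i y • basisVec i := by
  funext k
  simp only [reflVec, Pi.sub_apply, Pi.smul_apply, basisVec, smul_eq_mul]
  split_ifs <;> ring

/-- if `w(p_j) = p_a` then `w s_j = s_a w` on the roots -/
theorem wAct_braid (D : ChevalleyDatum) (hD : D ∈ Seven) (y : List ℕ) (hy : Wd D y) (j a : ℕ)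
    (hj : j < D.rank) (ha : a < D.rank) (h : wAct D y (D.simple j) = D.simple a) (r : ℕ)
    (hr : r < D.nroots) : wAct D y (D.reflectRoot j r) = D.reflectRoot a (wAct D y r) := by
  have hjr := (reflectRoot_invol D hD j hj r hr).1
  have hyr := wAct_lt D hD y hy r hr
  apply co_inj D hD _ _ (wAct_lt D hD y hy _ hjr) (reflectRoot_invol D hD a ha _ hyr).1
  intro k hk
  -- the left hand side
  have hL : co D (wAct D y (D.reflectRoot j r)) k
      = wLin D y (co D r) k - pairVec D j (co D r) * basisVec a k := by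
    rw [co_wAct D hD y hy _ hjr k hk]
    have e1 : wLin D y (co D (D.reflectRoot j r)) k = wLin D y (reflVec D j (co D r)) k := by
      apply wLin_congr D y _ _ _ k hk
      intro m hm
      exact (checkCoLin_spec D j (chkCoLin_all D hD j hj) r hr).1 m hm
    rw [e1, reflVec_eq_sub, map_sub, map_smul, Pi.sub_apply, Pi.smul_apply, smul_eq_mul]
    congr 2
    have e2 : wLin D y (basisVec j) k = wLin D y (co D (D.simple j)) k := by
      apply wLin_congr D y _ _ _ k hk
      intro m hm
      rw [co_simple D hD j hj m hm]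
    rw [e2, ← co_wAct D hD y hy _ (simple_lt D hD j hj) k hk, h, co_simple D hD a ha k hk]
  -- the right hand side
  have hR : co D (D.reflectRoot a (wAct D y r)) k
      = wLin D y (co D r) k - pairVec D j (co D r) * basisVec a k := by
    rw [(checkCoLin_spec D a (chkCoLin_all D hD a ha) _ hyr).1 k hk, reflVec_eq_sub,
      Pi.sub_apply, Pi.smul_apply, smul_eq_mul, co_wAct D hD y hy r hr k hk]
    congr 2
    rw [pairVec_eq, pairVec_eq,
      fpair_congr D (D.simple a) (co D (wAct D y r)) (wLin D y (co D r))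
        (fun m hm => co_wAct D hD y hy r hr m hm),
      ← h, fpair_wAct D hD y hy _ (simple_lt D hD j hj)]
  rw [hL, hR]

/-- the relations between words: involutions and `w s_j = s_a w` when `w(p_j) = p_a` -/
inductive WRel (D : ChevalleyDatum) : List ℕ → List ℕ → Prop
  | refl (w : List ℕ) (hw : Wd D w) : WRel D w w
  | symm {a b : List ℕ} : WRel D a b → WRel D b a
  | trans {a b c : List ℕ} : WRel D a b → WRel D b c → WRel D a c
  | app {a b c d : List ℕ} : WRel D a b → WRel D c d → WRel D (a ++ c) (b ++ d)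
  | sq (i : ℕ) (hi : i < D.rank) : WRel D [i, i] []
  | braid (y : List ℕ) (j a : ℕ) (hy : Wd D y) (hj : j < D.rank) (ha : a < D.rank)
      (h : wAct D y (D.simple j) = D.simple a) : WRel D (y ++ [j]) (a :: y)

theorem WRel.wd {D : ChevalleyDatum} {a b : List ℕ} (h : WRel D a b) : Wd D a ∧ Wd D b := by
  induction h with
  | refl w hw => exact ⟨hw, hw⟩
  | symm _ ih => exact ⟨ih.2, ih.1⟩
  | trans _ _ ih1 ih2 => exact ⟨ih1.1, ih2.2⟩
  | app _ _ ih1 ih2 => exact ⟨ih1.1.append ih2.1, ih1.2.append ih2.2⟩
  | sq i hi => exact ⟨Wd.cons hi (Wd.single hi), Wd.nil D⟩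
  | braid y j a hy hj ha _ => exact ⟨hy.append (Wd.single hj), Wd.cons ha hy⟩

/-- related words act in the same way on the roots -/
theorem WRel.act {D : ChevalleyDatum} (hD : D ∈ Seven) {a b : List ℕ} (h : WRel D a b) :
    ∀ r < D.nroots, wAct D a r = wAct D b r := by
  induction h with
  | refl w hw => intro r _; rfl
  | symm _ ih => intro r hr; exact (ih r hr).symm
  | trans _ _ ih1 ih2 => intro r hr; exact (ih1 r hr).trans (ih2 r hr)
  | @app a b c d _ h2 ih1 ih2 =>
    intro r hr
    rw [wAct_append, wAct_append, ih2 r hr, ih1 _ (wAct_lt D hD d h2.wd.2 r hr)]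
  | sq i hi =>
    intro r hr
    exact (reflectRoot_invol D hD i hi r hr).2
  | braid y j a hy hj ha h =>
    intro r hr
    rw [wAct_append_single]
    exact wAct_braid D hD y hy j a hj ha h r hr

theorem WRel.cons {D : ChevalleyDatum} {a b : List ℕ} (i : ℕ) (hi : i < D.rank)
    (h : WRel D a b) : WRel D (i :: a) (i :: b) :=
  WRel.app (WRel.refl [i] (Wd.single hi)) h

theorem WRel.snoc {D : ChevalleyDatum} {a b : List ℕ} (i : ℕ) (hi : i < D.rank)
    (h : WRel D a b) : WRel D (a ++ [i]) (b ++ [i]) :=
  WRel.app h (WRel.refl [i] (Wd.single hi))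

/-- the deletion lemma -/
theorem deletion (D : ChevalleyDatum) (hD : D ∈ Seven) (w : List ℕ) (hw : Wd D w) (j : ℕ)
    (hj : j < D.rank) (hneg : ¬ D.IsPosRoot (wAct D w (D.simple j))) :
    ∃ w' : List ℕ, w'.length + 1 = w.length ∧ WRel D (w ++ [j]) w' := by
  induction w with
  | nil => exact absurd (simple_pos D hD j hj) hneg
  | cons a y ih =>
    have ha := hw.head
    have hy := hw.tail
    by_cases hp : D.IsPosRoot (wAct D y (D.simple j))
    · -- `y(p_j) = p_a`
      have e : wAct D y (D.simple j) = D.simple a := by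
        by_contra hne
        exact hneg ((checkCoLin_spec D a (chkCoLin_all D hD a ha) _ hp.1).2 hp hne)
      refine ⟨y, rfl, ?_⟩
      have h1 : WRel D (a :: (y ++ [j])) (a :: a :: y) :=
        WRel.cons a ha (WRel.braid y j a hy hj ha e)
      have h2 : WRel D ([a, a] ++ y) ([] ++ y) := WRel.app (WRel.sq a ha) (WRel.refl y hy)
      exact WRel.trans h1 h2
    · obtain ⟨y', hlen, hrel⟩ := ih hy hp
      refine ⟨a :: y', by simp [hlen], ?_⟩
      exact WRel.cons a ha hrel

/-- the length `N(w)` only depends on the action -/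
theorem negSet_congr (D : ChevalleyDatum) (a b : List ℕ)
    (h : ∀ r < D.nroots, wAct D a r = wAct D b r) : negSet D a = negSet D b := by
  ext r
  rw [mem_negSet, mem_negSet]
  constructor
  · rintro ⟨h1, h2⟩
    exact ⟨h1, by rw [← h r h1.1]; exact h2⟩
  · rintro ⟨h1, h2⟩
    exact ⟨h1, by rw [h r h1.1]; exact h2⟩

/-- `N(w s_i) = N(w) + 1` when `w(p_i) > 0` -/
theorem card_negSet_append_pos (D : ChevalleyDatum) (hD : D ∈ Seven) (w : List ℕ) (hw : Wd D w)
    (i : ℕ) (hi : i < D.rank) (hpos : D.IsPosRoot (wAct D w (D.simple i))) :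
    (negSet D (w ++ [i])).card = (negSet D w).card + 1 := by
  have hp := simple_lt D hD i hi
  have hneg : ¬ D.IsPosRoot (wAct D (w ++ [i]) (D.simple i)) := by
    rw [wAct_append_single, reflectRoot_simple, wAct_neg D hD w hw _ hp]
    exact not_pos_neg D hD _ hpos
  have h1 := card_negSet_append D hD (w ++ [i]) (hw.append (Wd.single hi)) i hi hneg
  have h2 : negSet D (w ++ [i] ++ [i]) = negSet D w := by
    apply negSet_congr
    intro r hr
    rw [wAct_append_single, wAct_append_single, (reflectRoot_invol D hD i hi r hr).2]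
  rw [h2] at h1
  exact h1.symm

theorem negSet_nil (D : ChevalleyDatum) : negSet D [] = ∅ := by
  rw [Finset.eq_empty_iff_forall_notMem]
  intro r hr
  rw [mem_negSet] at hr
  exact hr.2 hr.1

/-- every word is related to a reduced word -/
theorem exists_reduced (D : ChevalleyDatum) (hD : D ∈ Seven) (w : List ℕ) (hw : Wd D w) :
    ∃ w₀ : List ℕ, WRel D w w₀ ∧ w₀.length = (negSet D w₀).card ∧ w₀.length ≤ w.length := by
  induction w using List.reverseRecOn with
  | nil => exact ⟨[], WRel.refl [] (Wd.nil D), by rw [negSet_nil]; rfl, le_refl _⟩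
  | append_singleton w j ih =>
    have hj : j < D.rank := hw j (by simp)
    obtain ⟨w₁, hrel, hred, hle⟩ := ih hw.left
    have hw₁ := hrel.wd.2
    by_cases hp : D.IsPosRoot (wAct D w₁ (D.simple j))
    · refine ⟨w₁ ++ [j], WRel.snoc j hj hrel, ?_, by simp [hle]⟩
      rw [card_negSet_append_pos D hD w₁ hw₁ j hj hp, List.length_append, hred]
      rfl
    · obtain ⟨w', hlen, hrel'⟩ := deletion D hD w₁ hw₁ j hj hp
      refine ⟨w', WRel.trans (WRel.snoc j hj hrel) hrel', ?_, ?_⟩
      · have h1 := card_negSet_append D hD w₁ hw₁ j hj hp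
        rw [negSet_congr D _ _ (hrel'.act hD)] at h1
        omega
      · simp only [List.length_append, List.length_singleton]
        omega

/-- a word fixing the set of positive roots is related to the empty word -/
theorem wrel_nil_of_card_eq_zero (D : ChevalleyDatum) (hD : D ∈ Seven) (w : List ℕ) (hw : Wd D w)
    (h : (negSet D w).card = 0) : WRel D w [] := by
  obtain ⟨w₀, hrel, hred, -⟩ := exists_reduced D hD w hw
  rw [← negSet_congr D _ _ (hrel.act hD), h] at hred
  rw [List.length_eq_zero_iff] at hred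
  rw [hred] at hrel
  exact hrel

theorem wrel_reverse_append (D : ChevalleyDatum) (w : List ℕ) (hw : Wd D w) :
    WRel D (w.reverse ++ w) [] := by
  induction w with
  | nil => exact WRel.refl [] (Wd.nil D)
  | cons i w ih =>
    have hi := hw.head
    have hw' := hw.tail
    have e : (i :: w).reverse ++ (i :: w) = w.reverse ++ ([i, i] ++ w) := by simp
    rw [e]
    have h1 : WRel D ([i, i] ++ w) ([] ++ w) := WRel.app (WRel.sq i hi) (WRel.refl w hw')
    have h2 : WRel D (w.reverse ++ ([i, i] ++ w)) (w.reverse ++ ([] ++ w)) :=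
      WRel.app (WRel.refl _ hw'.reverse) h1
    exact WRel.trans h2 (ih hw')

/-- words acting in the same way on the roots are related -/
theorem wrel_of_act_eq (D : ChevalleyDatum) (hD : D ∈ Seven) (a b : List ℕ) (ha : Wd D a)
    (hb : Wd D b) (h : ∀ r < D.nroots, wAct D a r = wAct D b r) : WRel D a b := by
  have h0 : (negSet D (a ++ b.reverse)).card = 0 := by
    rw [Finset.card_eq_zero, Finset.eq_empty_iff_forall_notMem]
    intro r hr
    rw [mem_negSet, wAct_append, h _ (wAct_lt D hD _ hb.reverse r hr.1.1),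
      wAct_reverse D hD b hb r hr.1.1] at hr
    exact hr.2 hr.1
  have h1 := wrel_nil_of_card_eq_zero D hD _ (ha.append hb.reverse) h0
  have h2 : WRel D (a ++ b.reverse ++ b) ([] ++ b) := WRel.app h1 (WRel.refl b hb)
  have h3 : WRel D (a ++ (b.reverse ++ b)) (a ++ []) :=
    WRel.app (WRel.refl a ha) (wrel_reverse_append D b hb)
  rw [List.append_nil] at h3
  rw [List.append_assoc] at h2
  exact WRel.trans h3.symm h2

end Cfsg.Agent.Lib.Helper5.ChevStruct
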