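import Mathlib
import Cfsg.Prelude.Def_ChevStructure
import Cfsg.Agent.Lib.Helper5.ChevBruhatNF
import Cfsg.Agent.Lib.Helper5.ChevUCard
import Cfsg.Agent.Lib.Helper5.ChevWRel

set_option autoImplicit false

/-!
The order of `U_w⁻`: `|U_w⁻| = q^{N(w)}`.
-/

namespace Cfsg.Agent.Lib.Helper5.ChevStruct

open Cfsg Cfsg.Lie Cfsg.Agent.Lib.Helper5.ChevSym

variable {F : Type*} [Field F]

/-- the family attached to a function on a finite set of roots -/
def famOf (T : Finset ℕ) (f : ↥T → F) (r : ℕ) : F := if h : r ∈ T then f ⟨r, h⟩ else 0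

/-- the ordered product attached to a function on a finite set of positive roots -/
def prodOn (D : ChevalleyDatum) (hD : D ∈ Seven) (T : Finset ℕ) (f : ↥T → F) :
    ↥(rootSetSub D F (T : Set ℕ)) :=
  ⟨wordGL D hD (D.posRoots.map fun r => (r, famOf T f r)), by
    unfold wordGL
    apply Subgroup.list_prod_mem
    intro g hg
    rw [List.mem_map] at hg
    obtain ⟨p, hp, rfl⟩ := hg
    rw [List.mem_map] at hp
    obtain ⟨r, -, rfl⟩ := hp
    by_cases hr : r ∈ T
    · exact xGL_mem_rootSetSub D hD _ r hr _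
    · have : xGL D hD r (famOf T f r) = (1 : GL D.Idx F) := by
        apply Units.ext
        unfold famOf
        rw [dif_neg hr, xGL_val, x_at_zero]
        rfl
      simp only
      rw [this]
      exact one_mem _⟩

theorem prodOn_injective (D : ChevalleyDatum) (hD : D ∈ Seven) (T : Finset ℕ)
    (hT : ∀ r ∈ T, D.IsPosRoot r) : Function.Injective (prodOn (F := F) D hD T) := by
  intro f f' h
  have h1 : D.wordMat F (D.posRoots.map fun r => (r, famOf T f r))
      = D.wordMat F (D.posRoots.map fun r => (r, famOf T f' r)) := by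
    have := congrArg (fun g : ↥(rootSetSub D F (T : Set ℕ)) =>
      ((g : GL D.Idx F) : Matrix D.Idx D.Idx F)) h
    simpa [prodOn, wordGL_val] using this
  have hmem : (wordGL D hD (D.posRoots.map fun r => (r, famOf T f r)) : GL D.Idx F)
      ∈ D.posUnipotent F := by
    unfold wordGL
    apply Subgroup.list_prod_mem
    intro g hg
    rw [List.mem_map] at hg
    obtain ⟨p, hp, rfl⟩ := hg
    rw [List.mem_map] at hp
    obtain ⟨r, hr, rfl⟩ := hp
    rw [← posFrom_zero, mem_posFrom] at hr
    exact xGL_mem_pos D hD r hr.2 _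
  obtain ⟨t, -, huniq⟩ := (pos_unique_product (F := F) D hD).1 _ hmem
  have hz : ∀ (g : ↥T → F) r, ¬ D.IsPosRoot r → famOf T g r = 0 := by
    intro g r hr
    unfold famOf
    rw [dif_neg]
    exact fun hrT => hr (hT r hrT)
  have e1 := huniq (famOf T f) ⟨hz f, by rw [wordGL_val]⟩
  have e2 := huniq (famOf T f') ⟨hz f', by rw [wordGL_val, h1]⟩
  funext ⟨r, hr⟩
  have := congrFun (e1.trans e2.symm) r
  unfold famOf at this
  rwa [dif_pos hr, dif_pos hr] at this

/-- `q^{|T|} ≤ |⟨X_r : r ∈ T⟩|` for a set `T` of positive roots -/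
theorem card_le_rootSetSub [Fintype F] (D : ChevalleyDatum) (hD : D ∈ Seven) (T : Finset ℕ)
    (hT : ∀ r ∈ T, D.IsPosRoot r) :
    Fintype.card F ^ T.card ≤ Nat.card (rootSetSub D F (T : Set ℕ)) := by
  have h := Nat.card_le_card_of_injective _ (prodOn_injective (F := F) D hD T hT)
  rwa [Nat.card_eq_fintype_card, Fintype.card_fun, Fintype.card_coe] at h

/-- conjugation by `n_w` maps `⟨X_r : r ∈ T⟩` into `U` when `w` maps `T` to positive roots -/
theorem wGL_conj_rootSetSub_pos (D : ChevalleyDatum) (hD : D ∈ Seven) (w : List ℕ) (hw : Wd D w)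
    (T : Set ℕ) (hT : ∀ r ∈ T, r < D.nroots ∧ D.IsPosRoot (wAct D w r))
    (u : GL D.Idx F) (hu : u ∈ rootSetSub D F T) :
    wGL D hD w * u * (wGL D hD w)⁻¹ ∈ D.posUnipotent F := by
  unfold rootSetSub at hu
  induction hu using Subgroup.closure_induction with
  | mem y hy =>
    obtain ⟨r, t, hr, hy⟩ := hy
    obtain ⟨ε, -, hconj⟩ := wGL_conj (F := F) D hD w hw r (hT r hr).1
    exact Subgroup.subset_closure ⟨wAct D w r, ε * t, (hT r hr).2, hconj t y hy⟩
  | one =>
    simp only [mul_one, mul_inv_cancel]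
    exact one_mem _
  | mul a b _ _ ha hb =>
    have e : wGL D hD w * (a * b) * (wGL D hD w)⁻¹
        = (wGL D hD w * a * (wGL D hD w)⁻¹) * (wGL D hD w * b * (wGL D hD w)⁻¹) := by group
    rw [e]
    exact mul_mem ha hb
  | inv a _ ha =>
    have e : wGL D hD w * a⁻¹ * (wGL D hD w)⁻¹ = (wGL D hD w * a * (wGL D hD w)⁻¹)⁻¹ := by group
    rw [e]
    exact inv_mem ha

theorem rootSetSub_le_pos (D : ChevalleyDatum) (T : Set ℕ) (hT : ∀ r ∈ T, D.IsPosRoot r) :
    rootSetSub D F T ≤ D.posUnipotent F := by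
  unfold rootSetSub ChevalleyDatum.posUnipotent
  apply Subgroup.closure_mono
  rintro g ⟨s, t, hs, hg⟩
  exact ⟨s, t, hT s hs, hg⟩

/-- the positive roots kept positive by `w` -/
def posSet (D : ChevalleyDatum) (w : List ℕ) : Finset ℕ :=
  (Finset.range D.nroots).filter fun r => D.IsPosRoot r ∧ D.IsPosRoot (wAct D w r)

theorem mem_posSet (D : ChevalleyDatum) (w : List ℕ) (r : ℕ) :
    r ∈ posSet D w ↔ D.IsPosRoot r ∧ D.IsPosRoot (wAct D w r) := by
  unfold posSet
  rw [Finset.mem_filter, Finset.mem_range]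
  exact ⟨fun h => h.2, fun h => ⟨h.1.1, h⟩⟩

theorem card_negSet_add_card_posSet (D : ChevalleyDatum) (hD : D ∈ Seven) (w : List ℕ) :
    (negSet D w).card + (posSet D w).card = D.nroots / 2 := by
  have hev := nroots_even D hD
  have hdisj : Disjoint (negSet D w) (posSet D w) := by
    rw [Finset.disjoint_left]
    intro r h1 h2
    rw [mem_negSet] at h1
    rw [mem_posSet] at h2
    exact h1.2 h2.2
  have hunion : negSet D w ∪ posSet D w = Finset.Ico (D.nroots / 2) D.nroots := by
    ext r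
    rw [Finset.mem_union, mem_negSet, mem_posSet, Finset.mem_Ico, ← isPosRoot_iff D hD r]
    constructor
    · rintro (h | h) <;> exact h.1
    · intro h
      by_cases hp : D.IsPosRoot (wAct D w r)
      · exact Or.inr ⟨h, hp⟩
      · exact Or.inl ⟨h, hp⟩
  rw [← Finset.card_union_of_disjoint hdisj, hunion, Nat.card_Ico]
  omega

theorem unegSub_eq (D : ChevalleyDatum) (w : List ℕ) :
    unegSub D F w = rootSetSub D F ((negSet D w : Finset ℕ) : Set ℕ) := by
  unfold unegSub
  congr 1
  ext r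
  rw [Finset.mem_coe, mem_negSet]
  rfl

/-- `|U_w⁻| = q^{N(w)}` -/
theorem card_unegSub [Fintype F] (D : ChevalleyDatum) (hD : D ∈ Seven) (w : List ℕ)
    (hw : Wd D w) : Nat.card (unegSub D F w) = Fintype.card F ^ (negSet D w).card := by
  classical
  have hq : 0 < Fintype.card F := Fintype.card_pos
  rw [unegSub_eq]
  set A := rootSetSub D F ((negSet D w : Finset ℕ) : Set ℕ) with hA
  set B := rootSetSub D F ((posSet D w : Finset ℕ) : Set ℕ) with hB
  have hTn : ∀ r ∈ negSet D w, D.IsPosRoot r := fun r hr => ((mem_negSet D w r).1 hr).1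
  have hTp : ∀ r ∈ posSet D w, D.IsPosRoot r := fun r hr => ((mem_posSet D w r).1 hr).1
  have h1 := card_le_rootSetSub (F := F) D hD (negSet D w) hTn
  have h2 := card_le_rootSetSub (F := F) D hD (posSet D w) hTp
  have hAle : A ≤ D.posUnipotent F :=
    rootSetSub_le_pos D _ (fun r hr => hTn r (Finset.mem_coe.1 hr))
  have hBle : B ≤ D.posUnipotent F :=
    rootSetSub_le_pos D _ (fun r hr => hTp r (Finset.mem_coe.1 hr))
  -- the intersection is trivial
  have hinf : ∀ x : GL D.Idx F, x ∈ A → x ∈ B → x = 1 := by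
    intro x hxA hxB
    have hV : wGL D hD w * x * (wGL D hD w)⁻¹ ∈ D.negUnipotent F := by
      apply conj_unegOf_le_neg D (wGL D hD w) x
      apply unegSub_le_unegOf D hD w hw
      rw [unegSub_eq]
      exact hxA
    have hU : wGL D hD w * x * (wGL D hD w)⁻¹ ∈ D.posUnipotent F := by
      apply wGL_conj_rootSetSub_pos D hD w hw _ _ x hxB
      intro r hr
      have := (mem_posSet D w r).1 (Finset.mem_coe.1 hr)
      exact ⟨this.1.1, this.2⟩
    have h3 : wGL D hD w * x * (wGL D hD w)⁻¹ ∈ D.borelSubgroup F ⊓ D.negUnipotent F :=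
      ⟨pos_le_borel D hU, hV⟩
    rw [borel_inf_neg D hD, Subgroup.mem_bot] at h3
    have : x = (wGL D hD w)⁻¹ * (wGL D hD w * x * (wGL D hD w)⁻¹) * wGL D hD w := by group
    rw [this, h3]
    group
  -- the product map is injective
  have hinj : Function.Injective (fun p : ↥A × ↥B =>
      (⟨(p.1 : GL D.Idx F) * (p.2 : GL D.Idx F), mul_mem (hAle p.1.2) (hBle p.2.2)⟩ :
        ↥(D.posUnipotent F))) := by
    rintro ⟨a, b⟩ ⟨a', b'⟩ h
    have h' : (a : GL D.Idx F) * (b : GL D.Idx F) = (a' : GL D.Idx F) * (b' : GL D.Idx F) :=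
      congrArg Subtype.val h
    have e : (a' : GL D.Idx F)⁻¹ * (a : GL D.Idx F) = (b' : GL D.Idx F) * (b : GL D.Idx F)⁻¹ := by
      have : (a : GL D.Idx F) = (a' : GL D.Idx F) * (b' : GL D.Idx F) * (b : GL D.Idx F)⁻¹ := by
        rw [← h']; group
      rw [this]; group
    have h4 := hinf _ (A.mul_mem (A.inv_mem a'.2) a.2)
      (by rw [e]; exact B.mul_mem b'.2 (B.inv_mem b.2))
    have ha : (a : GL D.Idx F) = a' := by
      have := congrArg (fun y => (a' : GL D.Idx F) * y) h4
      simpa using this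
    have hb : (b : GL D.Idx F) = b' := by
      rw [ha] at h'
      exact mul_left_cancel h'
    exact Prod.ext (Subtype.ext ha) (Subtype.ext hb)
  have h3 := Nat.card_le_card_of_injective _ hinj
  rw [Nat.card_prod, card_posUnipotent D hD, ← card_negSet_add_card_posSet D hD w, pow_add] at h3
  -- conclude
  apply le_antisymm _ h1
  by_contra hlt
  push Not at hlt
  have hBpos : 0 < Nat.card ↥B := lt_of_lt_of_le (pow_pos hq _) h2
  have : Fintype.card F ^ (negSet D w).card * Fintype.card F ^ (posSet D w).card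
      < Nat.card ↥A * Nat.card ↥B :=
    Nat.mul_lt_mul_of_lt_of_le hlt h2 hBpos
  omega

end Cfsg.Agent.Lib.Helper5.ChevStruct
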