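import Mathlib
import Cfsg.Prelude.Def_ChevStructure
import Cfsg.Agent.Lib.Helper5.ChevWRel

set_option autoImplicit false

/-!
The Weyl group as a group of permutations of the roots, its parabolic subgroups, and the
additivity of the length on `W^J × W_J`.
-/

namespace Cfsg.Agent.Lib.Helper5.ChevStruct

open Cfsg Cfsg.Lie Cfsg.Agent.Lib.Helper5.ChevSym

/-- words in the fundamental reflections `s_j`, `j ∈ J` -/
def WdIn (D : ChevalleyDatum) (J : Set ℕ) (w : List ℕ) : Prop := ∀ i ∈ w, i < D.rank ∧ i ∈ J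

theorem WdIn.wd {D : ChevalleyDatum} {J : Set ℕ} {w : List ℕ} (h : WdIn D J w) : Wd D w :=
  fun i hi => (h i hi).1

theorem WdIn.nil (D : ChevalleyDatum) (J : Set ℕ) : WdIn D J [] := by
  intro i hi
  simp at hi

theorem WdIn.cons {D : ChevalleyDatum} {J : Set ℕ} {i : ℕ} {w : List ℕ} (hi : i < D.rank)
    (hiJ : i ∈ J) (hw : WdIn D J w) : WdIn D J (i :: w) := by
  intro j hj
  rcases List.mem_cons.1 hj with rfl | hj
  · exact ⟨hi, hiJ⟩
  · exact hw j hj

theorem WdIn.head {D : ChevalleyDatum} {J : Set ℕ} {i : ℕ} {w : List ℕ} (h : WdIn D J (i :: w)) :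
    i < D.rank ∧ i ∈ J := h i (List.mem_cons_self ..)

theorem WdIn.tail {D : ChevalleyDatum} {J : Set ℕ} {i : ℕ} {w : List ℕ} (h : WdIn D J (i :: w)) :
    WdIn D J w := fun j hj => h j (List.mem_cons_of_mem _ hj)

theorem WdIn.append {D : ChevalleyDatum} {J : Set ℕ} {a b : List ℕ} (ha : WdIn D J a)
    (hb : WdIn D J b) : WdIn D J (a ++ b) := by
  intro j hj
  rcases List.mem_append.1 hj with hj | hj
  · exact ha j hj
  · exact hb j hj

theorem WdIn.left {D : ChevalleyDatum} {J : Set ℕ} {a b : List ℕ} (h : WdIn D J (a ++ b)) :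
    WdIn D J a := fun j hj => h j (List.mem_append_left _ hj)

theorem WdIn.right {D : ChevalleyDatum} {J : Set ℕ} {a b : List ℕ} (h : WdIn D J (a ++ b)) :
    WdIn D J b := fun j hj => h j (List.mem_append_right _ hj)

theorem WdIn.single {D : ChevalleyDatum} {J : Set ℕ} {i : ℕ} (hi : i < D.rank) (hiJ : i ∈ J) :
    WdIn D J [i] := WdIn.cons hi hiJ (WdIn.nil D J)

theorem WdIn.reverse {D : ChevalleyDatum} {J : Set ℕ} {a : List ℕ} (h : WdIn D J a) :
    WdIn D J a.reverse := fun j hj => h j (List.mem_reverse.1 hj)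

theorem WdIn.mono {D : ChevalleyDatum} {J K : Set ℕ} {a : List ℕ} (hJK : J ⊆ K)
    (h : WdIn D J a) : WdIn D K a := fun j hj => ⟨(h j hj).1, hJK (h j hj).2⟩

theorem co_reflect_of_ne (D : ChevalleyDatum) (hD : D ∈ Seven) (i : ℕ) (hi : i < D.rank) (r : ℕ)
    (hr : r < D.nroots) (k : ℕ) (hk : k < D.rank) (hki : k ≠ i) :
    co D (D.reflectRoot i r) k = co D r k := by
  rw [(checkCoLin_spec D i (chkCoLin_all D hD i hi) r hr).1 k hk]
  unfold reflVec
  rw [if_neg hki, sub_zero]

theorem inRootSub_reflect (D : ChevalleyDatum) (hD : D ∈ Seven) (J : Set ℕ) (i : ℕ)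
    (hi : i < D.rank) (hiJ : i ∈ J) (r : ℕ) (hr : D.InRootSub J r) :
    D.InRootSub J (D.reflectRoot i r) := by
  refine ⟨(reflectRoot_invol D hD i hi r hr.1).1, fun k hk hkJ => ?_⟩
  have hki : k ≠ i := by
    rintro rfl
    exact hkJ hiJ
  have := co_reflect_of_ne D hD i hi r hr.1 k hk hki
  unfold co at this
  rw [this]
  exact hr.2 k hk hkJ

theorem inRootSub_wAct (D : ChevalleyDatum) (hD : D ∈ Seven) (J : Set ℕ) (v : List ℕ)
    (hv : WdIn D J v) (r : ℕ) (hr : D.InRootSub J r) : D.InRootSub J (wAct D v r) := by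
  induction v with
  | nil => exact hr
  | cons i v ih => exact inRootSub_reflect D hD J i hv.head.1 hv.head.2 _ (ih hv.tail)

theorem inRootSub_simple (D : ChevalleyDatum) (hD : D ∈ Seven) (J : Set ℕ) (j : ℕ)
    (hj : j < D.rank) (hjJ : j ∈ J) : D.InRootSub J (D.simple j) := by
  refine ⟨simple_lt D hD j hj, fun k hk hkJ => ?_⟩
  have := co_simple D hD j hj k hk
  unfold co basisVec at this
  rw [this, if_neg]
  rintro rfl
  exact hkJ hjJ

theorem isNegRoot_iff_co (D : ChevalleyDatum) (hD : D ∈ Seven) (r : ℕ) :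
    D.IsNegRoot r ↔ r < D.nroots ∧ ∀ k < D.rank, co D r k ≤ 0 := by
  unfold ChevalleyDatum.IsNegRoot
  constructor
  · rintro ⟨hr, h⟩
    refine ⟨hr, fun k hk => ?_⟩
    have hsize := (checkCoBasis_spec D (chkCoBasis_all D hD)).2 r hr
    apply h
    unfold co
    exact getD_mem_toList _ k (by rw [hsize]; exact hk)
  · rintro ⟨hr, h⟩
    refine ⟨hr, fun c hc => ?_⟩
    have hsize := (checkCoBasis_spec D (chkCoBasis_all D hD)).2 r hr
    obtain ⟨k, hk, rfl⟩ := exists_getD_of_mem _ c hc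
    rw [hsize] at hk
    exact h k hk

theorem exists_co_ne_zero (D : ChevalleyDatum) (hD : D ∈ Seven) (r : ℕ) (hr : r < D.nroots) :
    ∃ k < D.rank, co D r k ≠ 0 := by
  obtain ⟨k, hk, h⟩ := exists_coroot_ne_zero (F := ℚ) D hD r hr
  refine ⟨k, hk, ?_⟩
  intro h0
  apply h
  unfold co at h0
  rw [h0]
  simp

/-- an element of `W^J` preserves the sign of the roots of `Φ_J` -/
theorem wAct_sign_of_para (D : ChevalleyDatum) (hD : D ∈ Seven) (J : Set ℕ) (u : List ℕ)
    (hu : Wd D u) (hpos : ∀ j < D.rank, j ∈ J → D.IsPosRoot (wAct D u (D.simple j))) (r : ℕ)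
    (hr : D.InRootSub J r) : D.IsPosRoot (wAct D u r) ↔ D.IsPosRoot r := by
  have hur := wAct_lt D hD u hu r hr.1
  have hterm : ∀ k < D.rank, ∀ j ∈ Finset.range D.rank, j ∉ J →
      co D r j * co D (wAct D u (D.simple j)) k = 0 := by
    intro k _ j hj hjJ
    have := hr.2 j (Finset.mem_range.1 hj) hjJ
    unfold co
    rw [this, zero_mul]
  constructor
  · intro h
    by_contra hn
    have hneg := (isNegRoot_iff_co D hD r).1 (isNegRoot_of_not_pos D hD r hr.1 hn)
    have hle : ∀ k < D.rank, co D (wAct D u r) k ≤ 0 := by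
      intro k hk
      rw [co_wAct_eq_sum D hD u hu r hr.1 k hk]
      apply Finset.sum_nonpos
      intro j hj
      by_cases hjJ : j ∈ J
      · apply mul_nonpos_of_nonpos_of_nonneg (hneg.2 j (Finset.mem_range.1 hj))
        exact ((isPosRoot_iff_co D hD _).1 (hpos j (Finset.mem_range.1 hj) hjJ)).2 k hk
      · rw [hterm k hk j hj hjJ]
    obtain ⟨k, hk, hne⟩ := exists_co_ne_zero D hD _ hur
    have hge := ((isPosRoot_iff_co D hD _).1 h).2 k hk
    exact hne (le_antisymm (hle k hk) hge)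
  · intro h
    rw [isPosRoot_iff_co D hD]
    refine ⟨hur, fun k hk => ?_⟩
    rw [co_wAct_eq_sum D hD u hu r hr.1 k hk]
    apply Finset.sum_nonneg
    intro j hj
    by_cases hjJ : j ∈ J
    · apply mul_nonneg (((isPosRoot_iff_co D hD r).1 h).2 j (Finset.mem_range.1 hj))
      exact ((isPosRoot_iff_co D hD _).1 (hpos j (Finset.mem_range.1 hj) hjJ)).2 k hk
    · rw [hterm k hk j hj hjJ]

/-- additivity of the length on `W^J × W_J` -/
theorem card_negSet_append_para (D : ChevalleyDatum) (hD : D ∈ Seven) (J : Set ℕ) (u : List ℕ)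
    (hu : Wd D u) (hpos : ∀ j < D.rank, j ∈ J → D.IsPosRoot (wAct D u (D.simple j)))
    (v : List ℕ) (hv : WdIn D J v) :
    (negSet D (u ++ v)).card = (negSet D u).card + (negSet D v).card := by
  induction v using List.reverseRecOn with
  | nil => simp [negSet_nil]
  | append_singleton v j ih =>
    have hj := hv j (by simp)
    have hv' : WdIn D J v := hv.left
    have ih' := ih hv'
    have hr : D.InRootSub J (wAct D v (D.simple j)) :=
      inRootSub_wAct D hD J v hv' _ (inRootSub_simple D hD J j hj.1 hj.2)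
    have hsign := wAct_sign_of_para D hD J u hu hpos _ hr
    rw [← List.append_assoc]
    by_cases hp : D.IsPosRoot (wAct D v (D.simple j))
    · have hp' : D.IsPosRoot (wAct D (u ++ v) (D.simple j)) := by
        rw [wAct_append]
        exact hsign.2 hp
      rw [card_negSet_append_pos D hD (u ++ v) (hu.append hv'.wd) j hj.1 hp',
        card_negSet_append_pos D hD v hv'.wd j hj.1 hp, ih']
      ring
    · have hp' : ¬ D.IsPosRoot (wAct D (u ++ v) (D.simple j)) := by
        rw [wAct_append]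
        exact fun h => hp (hsign.1 h)
      have h1 := card_negSet_append D hD (u ++ v) (hu.append hv'.wd) j hj.1 hp'
      have h2 := card_negSet_append D hD v hv'.wd j hj.1 hp
      omega

/-- the fundamental reflection as a permutation of the roots -/
def sPerm (D : ChevalleyDatum) (hD : D ∈ Seven) (i : ℕ) : Equiv.Perm (Fin D.nroots) :=
  if hi : i < D.rank then
    { toFun := fun r => ⟨D.reflectRoot i r.val, (reflectRoot_invol D hD i hi r.val r.isLt).1⟩
      invFun := fun r => ⟨D.reflectRoot i r.val, (reflectRoot_invol D hD i hi r.val r.isLt).1⟩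
      left_inv := fun r => Fin.ext (reflectRoot_invol D hD i hi r.val r.isLt).2
      right_inv := fun r => Fin.ext (reflectRoot_invol D hD i hi r.val r.isLt).2 }
  else 1

theorem sPerm_apply (D : ChevalleyDatum) (hD : D ∈ Seven) (i : ℕ) (hi : i < D.rank)
    (r : Fin D.nroots) : ((sPerm D hD i) r).val = D.reflectRoot i r.val := by
  unfold sPerm
  rw [dif_pos hi]
  rfl

theorem sPerm_mul_self (D : ChevalleyDatum) (hD : D ∈ Seven) (i : ℕ) (hi : i < D.rank) :
    sPerm D hD i * sPerm D hD i = 1 := by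
  ext r
  rw [Equiv.Perm.mul_apply, sPerm_apply D hD i hi, sPerm_apply D hD i hi, Equiv.Perm.one_apply]
  exact (reflectRoot_invol D hD i hi r.val r.isLt).2

theorem sPerm_inv (D : ChevalleyDatum) (hD : D ∈ Seven) (i : ℕ) (hi : i < D.rank) :
    (sPerm D hD i)⁻¹ = sPerm D hD i :=
  inv_eq_of_mul_eq_one_left (sPerm_mul_self D hD i hi)

/-- the permutation of the roots attached to a word -/
def wPerm (D : ChevalleyDatum) (hD : D ∈ Seven) (w : List ℕ) : Equiv.Perm (Fin D.nroots) :=
  (w.map (sPerm D hD)).prod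

theorem wPerm_nil (D : ChevalleyDatum) (hD : D ∈ Seven) : wPerm D hD [] = 1 := rfl

theorem wPerm_cons (D : ChevalleyDatum) (hD : D ∈ Seven) (i : ℕ) (w : List ℕ) :
    wPerm D hD (i :: w) = sPerm D hD i * wPerm D hD w := by
  unfold wPerm
  rw [List.map_cons, List.prod_cons]

theorem wPerm_append (D : ChevalleyDatum) (hD : D ∈ Seven) (a b : List ℕ) :
    wPerm D hD (a ++ b) = wPerm D hD a * wPerm D hD b := by
  unfold wPerm
  rw [List.map_append, List.prod_append]

theorem wPerm_single (D : ChevalleyDatum) (hD : D ∈ Seven) (i : ℕ) :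
    wPerm D hD [i] = sPerm D hD i := by
  rw [wPerm_cons, wPerm_nil, mul_one]

theorem wPerm_apply (D : ChevalleyDatum) (hD : D ∈ Seven) (w : List ℕ) (hw : Wd D w)
    (r : Fin D.nroots) : ((wPerm D hD w) r).val = wAct D w r.val := by
  induction w with
  | nil => rfl
  | cons i w ih =>
    rw [wPerm_cons, Equiv.Perm.mul_apply, sPerm_apply D hD i hw.head, ih hw.tail]
    rfl

theorem wPerm_eq_iff (D : ChevalleyDatum) (hD : D ∈ Seven) (a b : List ℕ) (ha : Wd D a)
    (hb : Wd D b) : wPerm D hD a = wPerm D hD b ↔ ∀ r < D.nroots, wAct D a r = wAct D b r := by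
  constructor
  · intro h r hr
    have e1 := wPerm_apply D hD a ha ⟨r, hr⟩
    have e2 := wPerm_apply D hD b hb ⟨r, hr⟩
    rw [h] at e1
    exact e1.symm.trans e2
  · intro h
    ext r
    rw [wPerm_apply D hD a ha, wPerm_apply D hD b hb]
    exact h r.val r.isLt

theorem wPerm_reverse (D : ChevalleyDatum) (hD : D ∈ Seven) (w : List ℕ) (hw : Wd D w) :
    wPerm D hD w.reverse = (wPerm D hD w)⁻¹ := by
  induction w with
  | nil => simp [wPerm_nil]
  | cons i w ih =>
    rw [List.reverse_cons, wPerm_append, wPerm_single, wPerm_cons, mul_inv_rev, ih hw.tail,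
      sPerm_inv D hD i hw.head]

theorem wPerm_of_wrel (D : ChevalleyDatum) (hD : D ∈ Seven) (a b : List ℕ) (h : WRel D a b) :
    wPerm D hD a = wPerm D hD b :=
  (wPerm_eq_iff D hD a b h.wd.1 h.wd.2).2 (h.act hD)

/-- the number of positive roots made negative by a permutation of the roots -/
def Nf (D : ChevalleyDatum) (σ : Equiv.Perm (Fin D.nroots)) : ℕ :=
  (Finset.univ.filter fun r : Fin D.nroots =>
    D.IsPosRoot r.val ∧ ¬ D.IsPosRoot (σ r).val).card

theorem Nf_wPerm (D : ChevalleyDatum) (hD : D ∈ Seven) (w : List ℕ) (hw : Wd D w) :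
    Nf D (wPerm D hD w) = (negSet D w).card := by
  unfold Nf
  have e : negSet D w = (Finset.univ.filter fun r : Fin D.nroots =>
      D.IsPosRoot r.val ∧ ¬ D.IsPosRoot ((wPerm D hD w) r).val).map Fin.valEmbedding := by
    ext r
    rw [mem_negSet, Finset.mem_map]
    constructor
    · rintro ⟨h1, h2⟩
      refine ⟨⟨r, h1.1⟩, ?_, rfl⟩
      rw [Finset.mem_filter]
      refine ⟨Finset.mem_univ _, h1, ?_⟩
      rw [wPerm_apply D hD w hw]
      exact h2
    · rintro ⟨s, hs, rfl⟩
      rw [Finset.mem_filter, wPerm_apply D hD w hw] at hs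
      exact hs.2
  rw [e, Finset.card_map]

/-- the parabolic subgroup `W_J` -/
def parab (D : ChevalleyDatum) (hD : D ∈ Seven) (J : Set ℕ) :
    Subgroup (Equiv.Perm (Fin D.nroots)) :=
  Subgroup.closure {σ | ∃ i, i < D.rank ∧ i ∈ J ∧ σ = sPerm D hD i}

theorem sPerm_mem_parab (D : ChevalleyDatum) (hD : D ∈ Seven) (J : Set ℕ) (i : ℕ)
    (hi : i < D.rank) (hiJ : i ∈ J) : sPerm D hD i ∈ parab D hD J :=
  Subgroup.subset_closure ⟨i, hi, hiJ, rfl⟩

theorem wPerm_mem_parab (D : ChevalleyDatum) (hD : D ∈ Seven) (J : Set ℕ) (w : List ℕ)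
    (hw : WdIn D J w) : wPerm D hD w ∈ parab D hD J := by
  induction w with
  | nil => exact one_mem _
  | cons i w ih =>
    rw [wPerm_cons]
    exact mul_mem (sPerm_mem_parab D hD J i hw.head.1 hw.head.2) (ih hw.tail)

theorem exists_word_of_mem_parab (D : ChevalleyDatum) (hD : D ∈ Seven) (J : Set ℕ)
    (σ : Equiv.Perm (Fin D.nroots)) (hσ : σ ∈ parab D hD J) :
    ∃ w, WdIn D J w ∧ wPerm D hD w = σ := by
  unfold parab at hσ
  induction hσ using Subgroup.closure_induction with
  | mem y hy =>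
    obtain ⟨i, hi, hiJ, rfl⟩ := hy
    exact ⟨[i], WdIn.single hi hiJ, wPerm_single D hD i⟩
  | one => exact ⟨[], WdIn.nil D J, rfl⟩
  | mul a b _ _ ha hb =>
    obtain ⟨wa, hwa, rfl⟩ := ha
    obtain ⟨wb, hwb, rfl⟩ := hb
    exact ⟨wa ++ wb, hwa.append hwb, wPerm_append D hD wa wb⟩
  | inv a _ ha =>
    obtain ⟨wa, hwa, rfl⟩ := ha
    exact ⟨wa.reverse, hwa.reverse, wPerm_reverse D hD wa hwa.wd⟩

theorem parab_mono (D : ChevalleyDatum) (hD : D ∈ Seven) {J K : Set ℕ} (hJK : J ⊆ K) :
    parab D hD J ≤ parab D hD K := by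
  apply Subgroup.closure_mono
  rintro σ ⟨i, hi, hiJ, rfl⟩
  exact ⟨i, hi, hJK hiJ, rfl⟩

/-- a word of length zero (in the sense of `N`) is the identity -/
theorem wPerm_eq_one_of_card (D : ChevalleyDatum) (hD : D ∈ Seven) (w : List ℕ) (hw : Wd D w)
    (h : (negSet D w).card = 0) : wPerm D hD w = 1 :=
  wPerm_of_wrel D hD w [] (wrel_nil_of_card_eq_zero D hD w hw h)

/-- two elements of `W^J` in the same coset of `W_J` are equal -/
theorem para_min_unique (D : ChevalleyDatum) (hD : D ∈ Seven) (J : Set ℕ) (u u' : List ℕ)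
    (hu : Wd D u) (hu' : Wd D u')
    (hpos : ∀ j < D.rank, j ∈ J → D.IsPosRoot (wAct D u (D.simple j)))
    (hpos' : ∀ j < D.rank, j ∈ J → D.IsPosRoot (wAct D u' (D.simple j)))
    (h : (wPerm D hD u)⁻¹ * wPerm D hD u' ∈ parab D hD J) : wPerm D hD u = wPerm D hD u' := by
  obtain ⟨x, hx, ex⟩ := exists_word_of_mem_parab D hD J _ h
  have e1 : wPerm D hD u' = wPerm D hD (u ++ x) := by
    rw [wPerm_append, ex]
    group
  have e2 : wPerm D hD u = wPerm D hD (u' ++ x.reverse) := by
    rw [wPerm_append, wPerm_reverse D hD x hx.wd, ex]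
    group
  have n1 : (negSet D u').card = (negSet D u).card + (negSet D x).card := by
    rw [← card_negSet_append_para D hD J u hu hpos x hx]
    congr 1
    exact negSet_congr D _ _ ((wPerm_eq_iff D hD _ _ hu' (hu.append hx.wd)).1 e1)
  have n2 : (negSet D u).card = (negSet D u').card + (negSet D x.reverse).card := by
    rw [← card_negSet_append_para D hD J u' hu' hpos' x.reverse hx.reverse]
    congr 1
    exact negSet_congr D _ _ ((wPerm_eq_iff D hD _ _ hu (hu'.append hx.reverse.wd)).1 e2)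
  have h0 : (negSet D x).card = 0 := by omega
  have hx1 := wPerm_eq_one_of_card D hD x hx.wd h0
  rw [e1, wPerm_append, hx1, mul_one]

end Cfsg.Agent.Lib.Helper5.ChevStruct
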