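import Mathlib
import Cfsg.Prelude.Def_ChevStructure
import Cfsg.Agent.Lib.Helper5.ChevWPerm

set_option autoImplicit false

/-!
Counting in the Weyl group: the sums `∑_{w ∈ W_J} q^{N(w)}` and their factorisation along a
transversal of minimal coset representatives.
-/

namespace Cfsg.Agent.Lib.Helper5.ChevStruct

open Cfsg Cfsg.Lie Cfsg.Agent.Lib.Helper5.ChevSym

/-- factorisation of a sum over a subgroup along a transversal on which the exponent is additive -/
theorem sum_pow_transversal {G : Type*} [Group G] [Fintype G] [DecidableEq G]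
    (H K : Subgroup G) [DecidablePred (· ∈ H)] [DecidablePred (· ∈ K)] (hHK : H ≤ K)
    (f : G → ℕ) (q : ℕ) {m : ℕ} (u : Fin m → G) (hu : ∀ t, u t ∈ K)
    (hcov : ∀ k ∈ K, ∃ t, (u t)⁻¹ * k ∈ H)
    (hinj : ∀ t t', (u t)⁻¹ * u t' ∈ H → t = t')
    (hadd : ∀ t, ∀ h ∈ H, f (u t * h) = f (u t) + f h) :
    ∑ k ∈ Finset.univ.filter (· ∈ K), q ^ f k
      = (∑ t, q ^ f (u t)) * ∑ h ∈ Finset.univ.filter (· ∈ H), q ^ f h := by
  rw [Finset.sum_mul_sum, ← Finset.sum_product']
  symm
  apply Finset.sum_bij (fun p _ => u p.1 * p.2)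
  · intro p hp
    rw [Finset.mem_product, Finset.mem_filter] at hp
    rw [Finset.mem_filter]
    exact ⟨Finset.mem_univ _, K.mul_mem (hu p.1) (hHK hp.2.2)⟩
  · intro p hp p' hp' e
    rw [Finset.mem_product, Finset.mem_filter] at hp hp'
    have e1 : (u p.1)⁻¹ * u p'.1 = p.2 * p'.2⁻¹ := by
      have : u p'.1 = u p.1 * p.2 * p'.2⁻¹ := by
        rw [e]; group
      rw [this]; group
    have ht := hinj p.1 p'.1 (by rw [e1]; exact H.mul_mem hp.2.2 (H.inv_mem hp'.2.2))
    apply Prod.ext ht
    rw [ht] at e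
    exact mul_left_cancel e
  · intro k hk
    rw [Finset.mem_filter] at hk
    obtain ⟨t, ht⟩ := hcov k hk.2
    refine ⟨(t, (u t)⁻¹ * k), ?_, by simp⟩
    rw [Finset.mem_product, Finset.mem_filter]
    exact ⟨Finset.mem_univ _, Finset.mem_univ _, ht⟩
  · intro p hp
    rw [Finset.mem_product, Finset.mem_filter] at hp
    rw [hadd p.1 p.2 hp.2.2, pow_add]

open Classical in
/-- the sum `∑_{w ∈ W_J} q^{N(w)}` -/
noncomputable def poinc (D : ChevalleyDatum) (hD : D ∈ Seven) (J : Set ℕ) (q : ℕ) : ℕ :=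
  ∑ σ ∈ Finset.univ.filter (fun σ => σ ∈ parab D hD J), q ^ Nf D σ

theorem parab_empty (D : ChevalleyDatum) (hD : D ∈ Seven) : parab D hD ∅ = ⊥ := by
  unfold parab
  rw [Subgroup.closure_eq_bot_iff]
  rintro σ ⟨i, -, hi, -⟩
  exact absurd hi (Set.notMem_empty i)

theorem Nf_one (D : ChevalleyDatum) : Nf D 1 = 0 := by
  unfold Nf
  rw [Finset.card_eq_zero, Finset.filter_eq_empty_iff]
  rintro r - ⟨h1, h2⟩
  exact h2 h1

theorem poinc_empty (D : ChevalleyDatum) (hD : D ∈ Seven) (q : ℕ) : poinc D hD ∅ q = 1 := by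
  classical
  unfold poinc
  have : Finset.univ.filter (fun σ => σ ∈ parab D hD ∅)
      = {(1 : Equiv.Perm (Fin D.nroots))} := by
    ext σ
    rw [Finset.mem_filter, parab_empty, Subgroup.mem_bot, Finset.mem_singleton]
    simp
  rw [this, Finset.sum_singleton, Nf_one, pow_zero]

theorem wAct_injective (D : ChevalleyDatum) (hD : D ∈ Seven) (w : List ℕ) (hw : Wd D w)
    (r s : ℕ) (hr : r < D.nroots) (hs : s < D.nroots) (h : wAct D w r = wAct D w s) : r = s := by
  have h1 := wAct_reverse D hD w.reverse hw.reverse r hr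
  have h2 := wAct_reverse D hD w.reverse hw.reverse s hs
  rw [List.reverse_reverse] at h1 h2
  rw [← h1, ← h2, h]

/-- `N(s_i w) = N(w) + 1` when `w⁻¹(p_i)` is a positive root -/
theorem card_negSet_cons_of_witness (D : ChevalleyDatum) (hD : D ∈ Seven) (i : ℕ)
    (hi : i < D.rank) (w : List ℕ) (hw : Wd D w) (ρ : ℕ) (hρ : D.IsPosRoot ρ)
    (h : wAct D w ρ = D.simple i) : (negSet D (i :: w)).card = (negSet D w).card + 1 := by
  have hp := simple_lt D hD i hi
  have hpp := simple_pos D hD i hi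
  have hP1 := fun r hr => (checkCoLin_spec D i (chkCoLin_all D hD i hi) r hr).2
  have hσ := fun r hr => reflectRoot_invol D hD i hi r hr
  have e1 : ∀ x, wAct D (i :: w) x = D.reflectRoot i (wAct D w x) := fun x => rfl
  have hnot : ρ ∉ negSet D w := by
    rw [mem_negSet, h]
    exact fun hh => hh.2 hpp
  have e : negSet D (i :: w) = insert ρ (negSet D w) := by
    ext r
    rw [Finset.mem_insert, mem_negSet, mem_negSet, e1]
    constructor
    · rintro ⟨hr, hn⟩
      by_cases hx : D.IsPosRoot (wAct D w r)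
      · left
        have : wAct D w r = D.simple i := by
          by_contra hne
          exact hn (hP1 _ hx.1 hx hne)
        exact wAct_injective D hD w hw r ρ hr.1 hρ.1 (this.trans h.symm)
      · exact Or.inr ⟨hr, hx⟩
    · rintro (rfl | ⟨hr, hx⟩)
      · refine ⟨hρ, ?_⟩
        rw [h, reflectRoot_simple]
        exact not_pos_neg D hD _ hpp
      · refine ⟨hr, fun hpos => ?_⟩
        have hxlt := wAct_lt D hD w hw r hr.1
        have : D.reflectRoot i (wAct D w r) = D.simple i := by
          by_contra hne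
          have := hP1 _ hpos.1 hpos hne
          rw [(hσ _ hxlt).2] at this
          exact hx this
        have h2 : wAct D w r = D.neg (D.simple i) := by
          rw [← (hσ _ hxlt).2, this, reflectRoot_simple]
        rw [← h, ← wAct_neg D hD w hw ρ hρ.1] at h2
        have h3 := wAct_injective D hD w hw r _ hr.1 (neg_lt D hD ρ hρ.1).1 h2
        rw [h3] at hr
        exact not_pos_neg D hD ρ hρ hr
  rw [e, Finset.card_insert_of_notMem hnot]

/-- one step of the factorisation of `∑_{w ∈ W_K} q^{N(w)}` along `W_K = W_K^J W_J` -/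
theorem poinc_step (D : ChevalleyDatum) (hD : D ∈ Seven) (K J : Set ℕ) (hJK : J ⊆ K) (q : ℕ)
    {m : ℕ} (u : Fin m → List ℕ) (hu : ∀ t, WdIn D K (u t))
    (hpos : ∀ t, ∀ j < D.rank, j ∈ J → D.IsPosRoot (wAct D (u t) (D.simple j)))
    (hinj : ∀ t t', wPerm D hD (u t) = wPerm D hD (u t') → t = t')
    (h0 : ∃ t, wPerm D hD (u t) = 1)
    (hcov : ∀ t, ∀ i < D.rank, i ∈ K →
      (∃ t', wPerm D hD (u t') = sPerm D hD i * wPerm D hD (u t)) ∨
      (∃ j < D.rank, j ∈ J ∧ sPerm D hD i * wPerm D hD (u t) = wPerm D hD (u t) * sPerm D hD j)) :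
    poinc D hD K q = (∑ t, q ^ (negSet D (u t)).card) * poinc D hD J q := by
  classical
  unfold poinc
  have hsum : ∑ t, q ^ (negSet D (u t)).card = ∑ t, q ^ Nf D (wPerm D hD (u t)) := by
    apply Finset.sum_congr rfl
    intro t _
    rw [Nf_wPerm D hD (u t) (hu t).wd]
  rw [hsum]
  apply sum_pow_transversal (parab D hD J) (parab D hD K) (parab_mono D hD hJK) (Nf D) q
    (fun t => wPerm D hD (u t))
  · intro t
    exact wPerm_mem_parab D hD K (u t) (hu t)
  · intro k hk
    obtain ⟨w, hw, rfl⟩ := exists_word_of_mem_parab D hD K k hk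
    induction w with
    | nil =>
      obtain ⟨t, ht⟩ := h0
      refine ⟨t, ?_⟩
      rw [ht, wPerm_nil, inv_one, one_mul]
      exact one_mem _
    | cons i w ih =>
      obtain ⟨t, ht⟩ := ih hw.tail (wPerm_mem_parab D hD K w hw.tail)
      rcases hcov t i hw.head.1 hw.head.2 with ⟨t', ht'⟩ | ⟨j, hj, hjJ, hcomm⟩
      · refine ⟨t', ?_⟩
        rw [ht', wPerm_cons]
        have : (sPerm D hD i * wPerm D hD (u t))⁻¹ * (sPerm D hD i * wPerm D hD w)
            = (wPerm D hD (u t))⁻¹ * wPerm D hD w := by group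
        rw [this]
        exact ht
      · refine ⟨t, ?_⟩
        rw [wPerm_cons]
        have e : (wPerm D hD (u t))⁻¹ * (sPerm D hD i * wPerm D hD w)
            = sPerm D hD j * ((wPerm D hD (u t))⁻¹ * wPerm D hD w) := by
          have : sPerm D hD i = wPerm D hD (u t) * sPerm D hD j * (wPerm D hD (u t))⁻¹ := by
            rw [← hcomm]; group
          rw [this]; group
        rw [e]
        exact mul_mem (sPerm_mem_parab D hD J j hj hjJ) ht
  · intro t t' h
    apply hinj
    exact para_min_unique D hD J (u t) (u t') (hu t).wd (hu t').wd (hpos t) (hpos t') h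
  · intro t h hh
    obtain ⟨x, hx, rfl⟩ := exists_word_of_mem_parab D hD J h hh
    rw [← wPerm_append, Nf_wPerm D hD _ ((hu t).wd.append hx.wd), Nf_wPerm D hD _ (hu t).wd,
      Nf_wPerm D hD _ hx.wd]
    exact card_negSet_append_para D hD J (u t) (hu t).wd (hpos t) x hx

end Cfsg.Agent.Lib.Helper5.ChevStruct
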