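import Mathlib
import Cfsg.Prelude.Def_ChevStructure
import Cfsg.Agent.Lib.Helper5.ChevWRel
import Cfsg.Agent.Lib.Helper5.ChevBNPair

set_option autoImplicit false

/-!
Words in the fundamental reflections acting in the same way on the roots give the same element of
`N / H`.
-/

namespace Cfsg.Agent.Lib.Helper5.ChevStruct

open Cfsg Cfsg.Lie Cfsg.Agent.Lib.Helper5.ChevSym

variable {F : Type*} [Field F]

/-- `n_w n_r(t) = n_{w(r)}(± t) n_w` -/
theorem wGL_mul_nMat (D : ChevalleyDatum) (hD : D ∈ Seven) (w : List ℕ) (hw : Wd D w) (r : ℕ)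
    (hr : r < D.nroots) :
    ∃ ε : F, (ε = 1 ∨ ε = -1) ∧ ∀ t : F,
      ((wGL D hD w : GL D.Idx F) : Matrix D.Idx D.Idx F) * D.nMat F r t
        = D.nMat F (wAct D w r) (ε * t) * ((wGL D hD w : GL D.Idx F) : Matrix D.Idx D.Idx F) := by
  induction w with
  | nil =>
    refine ⟨1, Or.inl rfl, fun t => ?_⟩
    rw [wGL_nil, Units.val_one, one_mul, mul_one, one_mul]
    rfl
  | cons i w ih =>
    have hi := hw.head
    obtain ⟨ε, hε, h⟩ := ih hw.tail
    have hr' := wAct_lt D hD w hw.tail r hr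
    refine ⟨(eta D i (wAct D w r) : F) * ε, ?_, fun t => ?_⟩
    · rcases eta_sq D hD i hi _ hr' with h1 | h1 <;> rcases hε with h2 | h2 <;>
        rw [h1, h2] <;> simp
    · have e1 : wAct D (i :: w) r = D.reflectRoot i (wAct D w r) := rfl
      rw [wGL_cons, Units.val_mul, mul_assoc, h t, ← mul_assoc, nGL_val,
        nMat_simple_conj_nMat D hD i _ hi hr', e1, mul_assoc, mul_assoc]

/-- the relation on words: same class modulo `H` -/
def HRel (D : ChevalleyDatum) (hD : D ∈ Seven) (F : Type*) [Field F] (a b : List ℕ) : Prop :=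
  (wGL D hD a * (wGL D hD b)⁻¹ : GL D.Idx F) ∈ D.diagonalSubgroup F

/-- related words give the same class modulo `H` -/
theorem WRel.hrel {D : ChevalleyDatum} (hD : D ∈ Seven) {a b : List ℕ} (h : WRel D a b) :
    HRel D hD F a b := by
  unfold HRel
  induction h with
  | refl w hw =>
    rw [mul_inv_cancel]
    exact one_mem _
  | @symm a b _ ih =>
    have e : (wGL D hD b * (wGL D hD a)⁻¹ : GL D.Idx F) = (wGL D hD a * (wGL D hD b)⁻¹)⁻¹ := by
      group
    rw [e]
    exact inv_mem ih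
  | @trans a b c _ _ ih1 ih2 =>
    have e : (wGL D hD a * (wGL D hD c)⁻¹ : GL D.Idx F)
        = (wGL D hD a * (wGL D hD b)⁻¹) * (wGL D hD b * (wGL D hD c)⁻¹) := by group
    rw [e]
    exact mul_mem ih1 ih2
  | @app a b c d h1 h2 ih1 ih2 =>
    have hA : (wGL D hD a : GL D.Idx F) ∈ D.monomialSubgroup F := wGL_mem D hD a h1.wd.1
    have e : (wGL D hD (a ++ c) * (wGL D hD (b ++ d))⁻¹ : GL D.Idx F)
        = (wGL D hD a * (wGL D hD c * (wGL D hD d)⁻¹) * (wGL D hD a)⁻¹)
          * (wGL D hD a * (wGL D hD b)⁻¹) := by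
      rw [wGL_append, wGL_append]
      group
    rw [e]
    exact mul_mem (conj_monomial_diag_mem D hD _ hA _ ih2).1 ih1
  | sq i hi =>
    rw [wGL_nil, inv_one, mul_one, wGL_cons, wGL_cons, wGL_nil, mul_one]
    exact (nGL_sq_mem D hD i hi).1
  | braid y j a hy hj ha h =>
    obtain ⟨ε, hε, hconj⟩ := wGL_mul_nMat (F := F) D hD y hy _ (simple_lt D hD j hj)
    have hε0 : ε ≠ 0 := by
      rcases hε with h1 | h1 <;> rw [h1] <;> simp
    set hh : GL D.Idx F := wordGL D hD (D.hWord (D.simple a) ε) with hhh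
    have hhv : (hh : Matrix D.Idx D.Idx F) = D.hMat F (D.simple a) ε := by
      rw [hhh, wordGL_val]; rfl
    have hhm : hh ∈ D.diagonalSubgroup F :=
      mem_diagonal_of_val D hh _ (simple_lt D hD a ha) _ hε0 hhv
    have e : (wGL D hD (y ++ [j]) : GL D.Idx F) = hh * wGL D hD (a :: y) := by
      apply Units.ext
      rw [wGL_append, wGL_cons, wGL_nil, mul_one, Units.val_mul, nGL_val, hconj 1, h, mul_one,
        nMat_eq_hMat_mul D hD, Units.val_mul, wGL_cons, Units.val_mul, hhv, nGL_val, mul_assoc]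
    rw [e, mul_assoc, mul_inv_cancel, mul_one]
    exact hhm

/-- words acting in the same way on the roots give the same class modulo `H` -/
theorem hrel_of_act_eq (D : ChevalleyDatum) (hD : D ∈ Seven) (a b : List ℕ) (ha : Wd D a)
    (hb : Wd D b) (h : ∀ r < D.nroots, wAct D a r = wAct D b r) :
    (wGL D hD a * (wGL D hD b)⁻¹ : GL D.Idx F) ∈ D.diagonalSubgroup F :=
  (wrel_of_act_eq D hD a b ha hb h).hrel hD

/-- a word fixing all roots gives an element of `H` -/
theorem wGL_mem_diagonal_of_act (D : ChevalleyDatum) (hD : D ∈ Seven) (w : List ℕ) (hw : Wd D w)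
    (h : ∀ r < D.nroots, wAct D w r = r) : (wGL D hD w : GL D.Idx F) ∈ D.diagonalSubgroup F := by
  have := hrel_of_act_eq (F := F) D hD w [] hw (Wd.nil D) h
  rwa [wGL_nil, inv_one, mul_one] at this

/-- a word whose element lies in `H` fixes all roots -/
theorem act_of_wGL_mem_diagonal (D : ChevalleyDatum) (hD : D ∈ Seven) (w : List ℕ) (hw : Wd D w)
    (h : (wGL D hD w : GL D.Idx F) ∈ D.diagonalSubgroup F) :
    ∀ r < D.nroots, wAct D w r = r := by
  intro r hr
  obtain ⟨c, hc, hval⟩ := exists_torusMat_of_mem D hD _ h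
  obtain ⟨ε, hε, hconj⟩ := wGL_conj (F := F) D hD w hw r hr
  have h1 := hconj 1 (xGL D hD r 1) (xGL_val D hD r 1)
  have h2 := torus_conj_x D hD (wGL D hD w) (xGL D hD r 1) c hc hval r 1 (xGL_val D hD r 1)
  rw [h1] at h2
  have hε0 : ε * 1 ≠ 0 := by
    rcases hε with h3 | h3 <;> rw [h3] <;> simp
  exact x_root_inj D hD _ _ (wAct_lt D hD w hw r hr) hr _ _ hε0 h2

/-- two words give the same class modulo `H` iff they act in the same way on the roots -/
theorem hrel_iff_act_eq (D : ChevalleyDatum) (hD : D ∈ Seven) (a b : List ℕ) (ha : Wd D a)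
    (hb : Wd D b) :
    (wGL D hD a * (wGL D hD b)⁻¹ : GL D.Idx F) ∈ D.diagonalSubgroup F ↔
      ∀ r < D.nroots, wAct D a r = wAct D b r := by
  constructor
  · intro h r hr
    obtain ⟨h', hh', e⟩ := wGL_inv (F := F) D hD b hb
    have h1 : (wGL D hD (a ++ b.reverse) : GL D.Idx F) ∈ D.diagonalSubgroup F := by
      have e2 : (wGL D hD (a ++ b.reverse) : GL D.Idx F)
          = (wGL D hD a * (wGL D hD b)⁻¹) * h'⁻¹ := by
        rw [wGL_append, e]
        group
      rw [e2]
      exact mul_mem h (inv_mem hh')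
    have h2 := act_of_wGL_mem_diagonal D hD _ (ha.append hb.reverse) h1 _
      (wAct_lt D hD b hb r hr)
    rw [wAct_append] at h2
    have h3 : wAct D b.reverse (wAct D b r) = r := by
      have := wAct_reverse D hD b.reverse hb.reverse r hr
      rwa [List.reverse_reverse] at this
    rw [h3] at h2
    exact h2
  · exact hrel_of_act_eq D hD a b ha hb

end Cfsg.Agent.Lib.Helper5.ChevStruct
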