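import Mathlib
import Cfsg.Prelude.Def_ChevStructure
import Cfsg.Agent.Lib.Helper5.ChevCellCard
import Cfsg.Agent.Lib.Helper5.ChevWKer
import Cfsg.Agent.Lib.Helper5.ChevWCount

set_option autoImplicit false

/-!
The order of a Chevalley group over a finite field: `|G| = |U| |H| ∑_{w ∈ W} q^{N(w)}`.
-/

namespace Cfsg.Agent.Lib.Helper5.ChevStruct

open Cfsg Cfsg.Lie Cfsg.Agent.Lib.Helper5.ChevSym

variable {F : Type*} [Field F]

/-- `|B| = |U| |H|` -/
theorem card_borel (D : ChevalleyDatum) (hD : D ∈ Seven) :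
    Nat.card (D.borelSubgroup F) = Nat.card (D.posUnipotent F) * Nat.card (D.diagonalSubgroup F) := by
  rw [← Nat.card_prod]
  symm
  apply Nat.card_congr
  refine Equiv.ofBijective (fun p : ↥(D.posUnipotent F) × ↥(D.diagonalSubgroup F) =>
    (⟨(p.1 : GL D.Idx F) * (p.2 : GL D.Idx F),
      mul_mem (pos_le_borel D p.1.2) (diagonal_le_borel D p.2.2)⟩ : ↥(D.borelSubgroup F))) ⟨?_, ?_⟩
  · rintro ⟨a, b⟩ ⟨a', b'⟩ h
    have h' : (a : GL D.Idx F) * (b : GL D.Idx F) = (a' : GL D.Idx F) * (b' : GL D.Idx F) :=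
      congrArg Subtype.val h
    have e : (a' : GL D.Idx F)⁻¹ * (a : GL D.Idx F) = (b' : GL D.Idx F) * (b : GL D.Idx F)⁻¹ := by
      have : (a : GL D.Idx F) = (a' : GL D.Idx F) * (b' : GL D.Idx F) * (b : GL D.Idx F)⁻¹ := by
        rw [← h']; group
      rw [this]; group
    have h4 : (a' : GL D.Idx F)⁻¹ * (a : GL D.Idx F)
        ∈ D.posUnipotent F ⊓ D.diagonalSubgroup F :=
      ⟨(D.posUnipotent F).mul_mem ((D.posUnipotent F).inv_mem a'.2) a.2, by
        rw [e]
        exact (D.diagonalSubgroup F).mul_mem b'.2 ((D.diagonalSubgroup F).inv_mem b.2)⟩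
    rw [pos_inf_diagonal D hD, Subgroup.mem_bot] at h4
    have ha : (a : GL D.Idx F) = a' := by
      have := congrArg (fun y => (a' : GL D.Idx F) * y) h4
      simpa using this
    have hb : (b : GL D.Idx F) = b' := by
      rw [ha] at h'
      exact mul_left_cancel h'
    exact Prod.ext (Subtype.ext ha) (Subtype.ext hb)
  · rintro ⟨g, hg⟩
    have hg' : g ∈ ((D.posUnipotent F ⊔ D.diagonalSubgroup F : Subgroup (GL D.Idx F)) :
        Set (GL D.Idx F)) := hg
    rw [Subgroup.coe_mul_of_right_le_normalizer_left _ _ (diagonal_le_normalizer_pos D hD)] at hg'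
    obtain ⟨u, hu, h, hh, e⟩ := Set.mem_mul.1 hg'
    exact ⟨(⟨u, hu⟩, ⟨h, hh⟩), Subtype.ext e⟩

/-- the Bruhat decomposition with words: `g = b n_w v`, `v ∈ U_w⁻` -/
theorem bruhat_exists_word (D : ChevalleyDatum) (hD : D ∈ Seven) (g : GL D.Idx F)
    (hg : g ∈ D.group F) :
    ∃ w : List ℕ, Wd D w ∧ ∃ b ∈ D.borelSubgroup F, ∃ v ∈ unegSub D F w,
      g = b * wGL D hD w * v := by
  obtain ⟨n, hn, hmem⟩ := Cfsg.Agent.S0308.result (chevBNPair D hD F) ⟨g, hg⟩
  rw [DoubleCoset.mem_doubleCoset] at hmem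
  obtain ⟨b1, hb1, b2, hb2, e⟩ := hmem
  have hn' : (n : GL D.Idx F) ∈ D.monomialSubgroup F := hn
  have hb1' : (b1 : GL D.Idx F) ∈ D.borelSubgroup F := hb1
  have hb2' : (b2 : GL D.Idx F) ∈ D.borelSubgroup F := hb2
  have e' : g = (b1 : GL D.Idx F) * (n : GL D.Idx F) * (b2 : GL D.Idx F) :=
    congrArg Subtype.val e
  have hb2'' : (b2 : GL D.Idx F) ∈ ((D.diagonalSubgroup F ⊔ D.posUnipotent F :
      Subgroup (GL D.Idx F)) : Set (GL D.Idx F)) := by
    rw [sup_comm]
    exact hb2'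
  rw [Subgroup.coe_mul_of_left_le_normalizer_right _ _ (diagonal_le_normalizer_pos D hD)] at hb2''
  obtain ⟨h, hh, u, hu, e2⟩ := Set.mem_mul.1 hb2''
  obtain ⟨w, hw, h', hh', e3⟩ := exists_word_of_mem_monomial D hD _ hn'
  have hcard : (negSet D w).card = (negSet D w).card := rfl
  obtain ⟨b, hb, v, hv, e4⟩ := sharpAt_all (F := F) D hD _ w hw hcard u hu
  have hwN := wGL_mem (F := F) D hD w hw
  refine ⟨w, hw, (b1 : GL D.Idx F) * (wGL D hD w * (h' * h) * (wGL D hD w)⁻¹) * b, ?_, v, hv, ?_⟩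
  · apply (D.borelSubgroup F).mul_mem ((D.borelSubgroup F).mul_mem hb1' _) hb
    apply diagonal_le_borel D
    exact (conj_monomial_diag_mem D hD _ hwN _ ((D.diagonalSubgroup F).mul_mem hh' hh)).1
  · rw [e', e3, ← e2]
    calc (b1 : GL D.Idx F) * (wGL D hD w * h') * (h * u)
        = (b1 : GL D.Idx F) * (wGL D hD w * (h' * h) * (wGL D hD w)⁻¹) * (wGL D hD w * u) := by
          group
      _ = _ := by rw [e4]; group

/-- the full set of fundamental reflections -/
def fullSet (D : ChevalleyDatum) : Set ℕ := {i | i ∈ List.range D.rank}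

theorem wdIn_full {D : ChevalleyDatum} {w : List ℕ} (hw : Wd D w) : WdIn D (fullSet D) w :=
  fun i hi => ⟨hw i hi, List.mem_range.2 (hw i hi)⟩

/-- a chosen word for an element of `W` -/
noncomputable def wordOf (D : ChevalleyDatum) (hD : D ∈ Seven)
    (σ : ↥(parab D hD (fullSet D))) : List ℕ :=
  Classical.choose (exists_word_of_mem_parab D hD _ σ.1 σ.2)

theorem wordOf_spec (D : ChevalleyDatum) (hD : D ∈ Seven) (σ : ↥(parab D hD (fullSet D))) :
    WdIn D (fullSet D) (wordOf D hD σ) ∧ wPerm D hD (wordOf D hD σ) = σ.1 :=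
  Classical.choose_spec (exists_word_of_mem_parab D hD _ σ.1 σ.2)

theorem unegSub_congr (D : ChevalleyDatum) (a b : List ℕ)
    (h : ∀ r < D.nroots, wAct D a r = wAct D b r) : unegSub D F a = unegSub D F b := by
  rw [unegSub_eq, unegSub_eq, negSet_congr D a b h]

/-- the cells of the Bruhat decomposition -/
noncomputable def cellMap (D : ChevalleyDatum) (hD : D ∈ Seven) (F : Type*) [Field F]
    (p : Σ σ : ↥(parab D hD (fullSet D)),
      ↥(D.borelSubgroup F) × ↥(unegSub D F (wordOf D hD σ))) : ↥(D.group F) :=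
  ⟨(p.2.1 : GL D.Idx F) * wGL D hD (wordOf D hD p.1) * (p.2.2 : GL D.Idx F),
    mul_mem (mul_mem (borel_le_group D hD p.2.1.2)
      (monomial_le_group D hD (wGL_mem D hD _ (wordOf_spec D hD p.1).1.wd)))
      (borel_le_group D hD (pos_le_borel D
        (unegOf_le_pos D _ (unegSub_le_unegOf D hD _ (wordOf_spec D hD p.1).1.wd p.2.2.2))))⟩

theorem cellMap_bijective (D : ChevalleyDatum) (hD : D ∈ Seven) :
    Function.Bijective (cellMap D hD F) := by
  constructor
  · rintro ⟨σ, b, v⟩ ⟨σ', b', v'⟩ h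
    have hw := (wordOf_spec D hD σ).1.wd
    have hw' := (wordOf_spec D hD σ').1.wd
    have e : (b : GL D.Idx F) * wGL D hD (wordOf D hD σ) * (v : GL D.Idx F)
        = (b' : GL D.Idx F) * wGL D hD (wordOf D hD σ') * (v' : GL D.Idx F) :=
      congrArg (fun g : ↥(D.group F) => (g : GL D.Idx F)) h
    have hN := wGL_mem (F := F) D hD _ hw
    have hN' := wGL_mem (F := F) D hD _ hw'
    have huniq := bruhat_unique D hD _ _ _ _ _ _ b.2 b'.2 hN hN'
      (unegSub_le_unegOf D hD _ hw v.2) (unegSub_le_unegOf D hD _ hw' v'.2) e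
    -- the words act in the same way
    have hH : (wGL D hD (wordOf D hD σ) * (wGL D hD (wordOf D hD σ'))⁻¹ : GL D.Idx F)
        ∈ D.diagonalSubgroup F := by
      have h1 := (conj_monomial_diag_mem D hD _ hN _ huniq.1).1
      have e1 : (wGL D hD (wordOf D hD σ) * (wGL D hD (wordOf D hD σ'))⁻¹ : GL D.Idx F)
          = (wGL D hD (wordOf D hD σ) * ((wGL D hD (wordOf D hD σ))⁻¹ * wGL D hD (wordOf D hD σ'))
            * (wGL D hD (wordOf D hD σ))⁻¹)⁻¹ := by group
      rw [e1]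
      exact inv_mem h1
    have hact := (hrel_iff_act_eq D hD _ _ hw hw').1 hH
    have hσ : σ = σ' := by
      apply Subtype.ext
      rw [← (wordOf_spec D hD σ).2, ← (wordOf_spec D hD σ').2]
      exact (wPerm_eq_iff D hD _ _ hw hw').2 hact
    subst hσ
    obtain ⟨hb, hv⟩ := huniq.2 rfl
    have hb' : b = b' := Subtype.ext hb
    have hv' : v = v' := Subtype.ext hv
    rw [hb', hv']
  · rintro ⟨g, hg⟩
    obtain ⟨w, hw, b, hb, v, hv, e⟩ := bruhat_exists_word D hD g hg
    set σ : ↥(parab D hD (fullSet D)) :=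
      ⟨wPerm D hD w, wPerm_mem_parab D hD _ w (wdIn_full hw)⟩ with hσ
    have hw₀ := (wordOf_spec D hD σ).1.wd
    have hact : ∀ r < D.nroots, wAct D w r = wAct D (wordOf D hD σ) r :=
      (wPerm_eq_iff D hD _ _ hw hw₀).1 (wordOf_spec D hD σ).2.symm
    have hH := hrel_of_act_eq (F := F) D hD _ _ hw hw₀ hact
    have hv' : v ∈ unegSub D F (wordOf D hD σ) := by
      rw [← unegSub_congr D w _ hact]
      exact hv
    refine ⟨⟨σ, ⟨b * (wGL D hD w * (wGL D hD (wordOf D hD σ))⁻¹),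
      mul_mem hb (diagonal_le_borel D hH)⟩, ⟨v, hv'⟩⟩, ?_⟩
    apply Subtype.ext
    show b * (wGL D hD w * (wGL D hD (wordOf D hD σ))⁻¹) * wGL D hD (wordOf D hD σ) * v = g
    rw [e]
    group

/-- `|G| = |U| |H| ∑_{w ∈ W} q^{N(w)}` -/
theorem card_group [Fintype F] (D : ChevalleyDatum) (hD : D ∈ Seven) :
    Nat.card (D.group F) = Fintype.card F ^ (D.nroots / 2) * Nat.card (D.diagonalSubgroup F) *
      poinc D hD (fullSet D) (Fintype.card F) := by
  classical
  rw [← Nat.card_congr (Equiv.ofBijective _ (cellMap_bijective (F := F) D hD)), Nat.card_sigma]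
  have hterm : ∀ σ : ↥(parab D hD (fullSet D)),
      Nat.card (↥(D.borelSubgroup F) × ↥(unegSub D F (wordOf D hD σ)))
        = Fintype.card F ^ (D.nroots / 2) * Nat.card (D.diagonalSubgroup F) *
          Fintype.card F ^ Nf D σ.1 := by
    intro σ
    have hw := (wordOf_spec D hD σ).1.wd
    rw [Nat.card_prod, card_borel D hD, card_posUnipotent D hD, card_unegSub D hD _ hw,
      ← Nf_wPerm D hD _ hw, (wordOf_spec D hD σ).2]
  rw [Finset.sum_congr rfl (fun σ _ => hterm σ), ← Finset.mul_sum]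
  congr 1
  unfold poinc
  symm
  apply Finset.sum_subtype
  intro σ
  rw [Finset.mem_filter]
  simp

end Cfsg.Agent.Lib.Helper5.ChevStruct
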