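import Mathlib

set_option autoImplicit false

/-!
Integer matrices acting on powers of a commutative group, `(c^M)_j = ∏_i c_i^{M_{ij}}`, and the
order of the kernel of such a map for a finite cyclic group, through a diagonal form
`P M Q = diag(e)`.
-/

namespace Cfsg.Agent.Lib.Helper5.MatPow

open Matrix

variable {G : Type*} [CommGroup G] {l : ℕ}

theorem zpow_sum_eq (b : G) (s : Finset (Fin l)) (f : Fin l → ℤ) :
    b ^ (∑ i ∈ s, f i) = ∏ i ∈ s, b ^ f i := by
  classical
  induction s using Finset.induction_on with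
  | empty => simp
  | insert a s ha ih => rw [Finset.sum_insert ha, Finset.prod_insert ha, _root_.zpow_add, ih]

/-- `(c^M)_j = ∏_i c_i^{M_{ij}}` -/
def mpow (M : Matrix (Fin l) (Fin l) ℤ) : (Fin l → G) →* (Fin l → G) where
  toFun c := fun j => ∏ i, c i ^ M i j
  map_one' := by
    funext j
    simp
  map_mul' c c' := by
    funext j
    simp only [Pi.mul_apply, mul_zpow]
    rw [Finset.prod_mul_distrib]

theorem mpow_apply (M : Matrix (Fin l) (Fin l) ℤ) (c : Fin l → G) (j : Fin l) :
    mpow M c j = ∏ i, c i ^ M i j := rfl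

theorem mpow_mpow (M M' : Matrix (Fin l) (Fin l) ℤ) (c : Fin l → G) :
    mpow M' (mpow M c) = mpow (M * M') c := by
  funext k
  rw [mpow_apply, mpow_apply]
  have h1 : ∀ j, (mpow M c j) ^ M' j k = ∏ i, c i ^ (M i j * M' j k) := by
    intro j
    rw [mpow_apply, ← Finset.prod_zpow]
    apply Finset.prod_congr rfl
    intro i _
    rw [_root_.zpow_mul]
  rw [Finset.prod_congr rfl (fun j _ => h1 j), Finset.prod_comm]
  apply Finset.prod_congr rfl
  intro i _
  rw [Matrix.mul_apply, zpow_sum_eq]

theorem mpow_one (c : Fin l → G) : mpow (1 : Matrix (Fin l) (Fin l) ℤ) c = c := by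
  funext j
  rw [mpow_apply, Finset.prod_eq_single j]
  · simp
  · intro i _ hij
    rw [Matrix.one_apply_ne hij, zpow_zero]
  · intro h
    exact absurd (Finset.mem_univ j) h

theorem mpow_diagonal (e : Fin l → ℤ) (c : Fin l → G) (j : Fin l) :
    mpow (Matrix.diagonal e) c j = c j ^ e j := by
  rw [mpow_apply, Finset.prod_eq_single j]
  · rw [Matrix.diagonal_apply_eq]
  · intro i _ hij
    rw [Matrix.diagonal_apply_ne _ hij, zpow_zero]
  · intro h
    exact absurd (Finset.mem_univ j) h

/-- the order of the kernel of `c ↦ c^M` when `P M Q = diag(e)` with `P`, `Q` invertible -/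
theorem card_ker_mpow [Finite G] [IsCyclic G] (C P P' Q Q' : Matrix (Fin l) (Fin l) ℤ)
    (e : Fin l → ℕ) (hP : P * P' = 1) (hP' : P' * P = 1) (hQ : Q * Q' = 1)
    (hE : P * C * Q = Matrix.diagonal (fun j => (e j : ℤ))) :
    Nat.card (mpow C : (Fin l → G) →* (Fin l → G)).ker = ∏ j, (Nat.card G).gcd (e j) := by
  have hcard : ∀ j, Nat.card (powMonoidHom (e j) : G →* G).ker = (Nat.card G).gcd (e j) :=
    fun j => IsCyclic.card_powMonoidHom_ker G (e j)
  rw [← Finset.prod_congr rfl (fun j _ => hcard j), ← Nat.card_pi]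
  apply Nat.card_congr
  -- `c ↦ c^{P'}`
  have key : ∀ y : Fin l → G, mpow C (mpow P y) = 1 ↔ ∀ j, y j ^ (e j) = 1 := by
    intro y
    rw [mpow_mpow]
    constructor
    · intro h j
      have h2 : mpow (P * C * Q) y = 1 := by
        rw [← mpow_mpow, h, map_one]
      rw [hE] at h2
      have := congrFun h2 j
      rw [mpow_diagonal, Pi.one_apply, zpow_natCast] at this
      exact this
    · intro h
      have h2 : mpow (P * C * Q) y = 1 := by
        rw [hE]
        funext j
        rw [mpow_diagonal, Pi.one_apply, zpow_natCast]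
        exact h j
      have h3 : mpow Q' (mpow (P * C * Q) y) = 1 := by rw [h2, map_one]
      rwa [mpow_mpow, Matrix.mul_assoc, hQ, Matrix.mul_one] at h3
  refine
    { toFun := fun c => fun j => ⟨mpow P' c.1 j, ?_⟩
      invFun := fun y => ⟨mpow P (fun j => (y j).1), ?_⟩
      left_inv := ?_
      right_inv := ?_ }
  · rw [MonoidHom.mem_ker, powMonoidHom_apply]
    have hc := c.2
    rw [MonoidHom.mem_ker] at hc
    have : c.1 = mpow P (mpow P' c.1) := by rw [mpow_mpow, hP', mpow_one]
    rw [this] at hc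
    exact (key _).1 hc j
  · rw [MonoidHom.mem_ker]
    apply (key _).2
    intro j
    have := (y j).2
    rwa [MonoidHom.mem_ker, powMonoidHom_apply] at this
  · intro c
    apply Subtype.ext
    show mpow P (fun j => mpow P' c.1 j) = c.1
    rw [mpow_mpow, hP', mpow_one]
  · intro y
    funext j
    apply Subtype.ext
    show mpow P' (mpow P (fun j => (y j).1)) j = (y j).1
    rw [mpow_mpow, hP, mpow_one]

end Cfsg.Agent.Lib.Helper5.MatPow
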