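import Mathlib
import Cfsg.Agent.Lib.Helper5.MatPow

set_option autoImplicit false

/-!
Matrices given by functions `ℕ → ℕ → ℤ` (read off nested lists) and boolean checks of the
identities needed for `card_ker_mpow`.
-/

namespace Cfsg.Agent.Lib.Helper5.MatPow

open Matrix

/-- the `l × l` matrix of a function -/
def fmat (f : ℕ → ℕ → ℤ) (l : ℕ) : Matrix (Fin l) (Fin l) ℤ := Matrix.of fun i j => f i.val j.val

/-- the entry function of a nested list -/
def lfun (L : List (List ℤ)) (i j : ℕ) : ℤ := (L.getD i []).getD j 0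

/-- the product of entry functions -/
def fmul (f g : ℕ → ℕ → ℤ) (l : ℕ) (i j : ℕ) : ℤ := ((List.range l).map fun k => f i k * g k j).sum

theorem list_range_map_sum_fin (n : ℕ) (f : ℕ → ℤ) :
    ((List.range n).map f).sum = ∑ m : Fin n, f m.val := by
  rw [Fin.sum_univ_eq_sum_range (fun m => f m) n]
  induction n with
  | zero => simp
  | succ n ih =>
    rw [List.range_succ, List.map_append, List.sum_append, ih, Finset.sum_range_succ]
    simp

theorem fmat_mul (f g : ℕ → ℕ → ℤ) (l : ℕ) : fmat f l * fmat g l = fmat (fmul f g l) l := by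
  ext i j
  rw [Matrix.mul_apply]
  unfold fmat fmul
  simp only [Matrix.of_apply]
  rw [list_range_map_sum_fin]

/-- `f` is the identity on `l × l` -/
def isOneB (f : ℕ → ℕ → ℤ) (l : ℕ) : Bool :=
  (List.range l).all fun i => (List.range l).all fun j => decide (f i j = if i = j then 1 else 0)

theorem fmat_eq_one (f : ℕ → ℕ → ℤ) (l : ℕ) (h : isOneB f l = true) : fmat f l = 1 := by
  unfold isOneB at h
  rw [List.all_eq_true] at h
  ext i j
  have := h i.val (List.mem_range.2 i.isLt)
  rw [List.all_eq_true] at this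
  have := of_decide_eq_true (this j.val (List.mem_range.2 j.isLt))
  unfold fmat
  simp only [Matrix.of_apply]
  rw [this, Matrix.one_apply]
  by_cases hij : i = j
  · rw [if_pos hij, if_pos (congrArg Fin.val hij)]
  · rw [if_neg hij, if_neg (fun h => hij (Fin.ext h))]

/-- `f` is the diagonal matrix with entries `e` on `l × l` -/
def isDiagB (f : ℕ → ℕ → ℤ) (e : ℕ → ℕ) (l : ℕ) : Bool :=
  (List.range l).all fun i => (List.range l).all fun j =>
    decide (f i j = if i = j then (e i : ℤ) else 0)

theorem fmat_eq_diagonal (f : ℕ → ℕ → ℤ) (e : ℕ → ℕ) (l : ℕ) (h : isDiagB f e l = true) :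
    fmat f l = Matrix.diagonal (fun j : Fin l => ((e j.val : ℕ) : ℤ)) := by
  unfold isDiagB at h
  rw [List.all_eq_true] at h
  ext i j
  have := h i.val (List.mem_range.2 i.isLt)
  rw [List.all_eq_true] at this
  have := of_decide_eq_true (this j.val (List.mem_range.2 j.isLt))
  unfold fmat
  simp only [Matrix.of_apply]
  rw [this, Matrix.diagonal_apply]
  by_cases hij : i = j
  · rw [if_pos hij, if_pos (congrArg Fin.val hij)]
  · rw [if_neg hij, if_neg (fun h => hij (Fin.ext h))]

theorem prod_range_eq_list (n : ℕ) (g : ℕ → ℕ) :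
    ∏ i ∈ Finset.range n, g i = ((List.range n).map g).prod := by
  induction n with
  | zero => simp
  | succ n ih =>
    rw [List.range_succ, List.map_append, List.prod_append, ← ih, Finset.prod_range_succ]
    simp

/-- the order of the kernel of `c ↦ c^C`, with a certificate `P C Q = diag(e)` given by lists -/
theorem card_ker_mpow_of_check {G : Type*} [CommGroup G] [Finite G] [IsCyclic G] (l : ℕ)
    (C : ℕ → ℕ → ℤ) (P P' Q Q' : List (List ℤ)) (e : List ℕ)
    (h1 : isOneB (fmul (lfun P) (lfun P') l) l = true)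
    (h2 : isOneB (fmul (lfun P') (lfun P) l) l = true)
    (h3 : isOneB (fmul (lfun Q) (lfun Q') l) l = true)
    (h4 : isDiagB (fmul (fmul (lfun P) C l) (lfun Q) l) (fun i => e.getD i 0) l = true) :
    Nat.card (mpow (fmat C l) : (Fin l → G) →* (Fin l → G)).ker
      = ((List.range l).map fun j => (Nat.card G).gcd (e.getD j 0)).prod := by
  rw [card_ker_mpow (fmat C l) (fmat (lfun P) l) (fmat (lfun P') l) (fmat (lfun Q) l)
    (fmat (lfun Q') l) (fun j => e.getD j.val 0)]
  · rw [Fin.prod_univ_eq_prod_range (fun j => (Nat.card G).gcd (e.getD j 0)) l]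
    exact prod_range_eq_list l _
  · rw [fmat_mul, fmat_eq_one _ _ h1]
  · rw [fmat_mul, fmat_eq_one _ _ h2]
  · rw [fmat_mul, fmat_eq_one _ _ h3]
  · rw [fmat_mul, fmat_mul, fmat_eq_diagonal _ _ _ h4]

end Cfsg.Agent.Lib.Helper5.MatPow
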