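import Mathlib
import Cfsg.Prelude.Def_ChevStructure
import Cfsg.Agent.Lib.Helper5.ChevNConj
import Cfsg.Agent.Lib.Helper5.ChevNormal
import Cfsg.Agent.Lib.Helper5.ChevChk.CInvAll
import Cfsg.Agent.Lib.Helper5.MatPowChk

set_option autoImplicit false

/-!
The diagonal subgroup `H` as the image of `(Fˣ)^l`, and its order.
-/

namespace Cfsg.Agent.Lib.Helper5.ChevStruct

open Cfsg Cfsg.Lie Cfsg.Agent.Lib.Helper5.ChevSym Cfsg.Agent.Lib.Helper5.MatPow

variable {F : Type*} [Field F]

/-- a family of units as a function on `ℕ` -/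
def extU (D : ChevalleyDatum) (c : Fin D.rank → Fˣ) (i : ℕ) : F :=
  if h : i < D.rank then ((c ⟨i, h⟩ : Fˣ) : F) else 1

theorem extU_ne_zero (D : ChevalleyDatum) (c : Fin D.rank → Fˣ) (i : ℕ) : extU D c i ≠ 0 := by
  unfold extU
  split_ifs
  · exact Units.ne_zero _
  · exact one_ne_zero

theorem extU_mul (D : ChevalleyDatum) (c c' : Fin D.rank → Fˣ) :
    (fun i => extU D c i * extU D c' i) = extU D (c * c') := by
  funext i
  unfold extU
  split_ifs
  · simp
  · simp

theorem extU_one (D : ChevalleyDatum) : extU D (1 : Fin D.rank → Fˣ) = fun _ => (1 : F) := by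
  funext i
  unfold extU
  split_ifs <;> simp

theorem extU_of_lt (D : ChevalleyDatum) (c : Fin D.rank → Fˣ) (i : ℕ) (h : i < D.rank) :
    extU D c i = ((c ⟨i, h⟩ : Fˣ) : F) := by
  unfold extU
  rw [dif_pos h]

/-- the torus element attached to a family of units -/
def torHom (D : ChevalleyDatum) (F : Type*) [Field F] : (Fin D.rank → Fˣ) →* GL D.Idx F :=
  MonoidHom.mk' (fun c =>
    ⟨torusMat D (extU D c), torusMat D (extU D c⁻¹),
      by rw [torusMat_mul, extU_mul, mul_inv_cancel, extU_one, torusMat_one],
      by rw [torusMat_mul, extU_mul, inv_mul_cancel, extU_one, torusMat_one]⟩)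
    (by
      intro c c'
      apply Units.ext
      show torusMat D (extU D (c * c')) = torusMat D (extU D c) * torusMat D (extU D c')
      rw [torusMat_mul, extU_mul])

theorem torHom_val (D : ChevalleyDatum) (c : Fin D.rank → Fˣ) :
    ((torHom D F c : GL D.Idx F) : Matrix D.Idx D.Idx F) = torusMat D (extU D c) := rfl

/-- torus elements lie in `H` -/
theorem torusMat_mem_diagonal (D : ChevalleyDatum) (hD : D ∈ Seven) (c : ℕ → F)
    (hc : ∀ i, c i ≠ 0) (k : ℕ) (hk : k ≤ D.rank) :
    ∀ g : GL D.Idx F, (g : Matrix D.Idx D.Idx F) = torusMat D (fun i => if i < k then c i else 1) →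
      g ∈ D.diagonalSubgroup F := by
  induction k with
  | zero =>
    intro g hg
    have : g = 1 := by
      apply Units.ext
      rw [hg, Units.val_one]
      simp only [Nat.not_lt_zero, if_false]
      exact torusMat_one D
    rw [this]
    exact one_mem _
  | succ k ih =>
    intro g hg
    have hk' : k < D.rank := hk
    set g₁ : GL D.Idx F := wordGL D hD (D.hWord (D.simple k) (c k)) with hg₁
    have hg₁v : (g₁ : Matrix D.Idx D.Idx F) = D.hMat F (D.simple k) (c k) := by
      rw [hg₁, wordGL_val]; rfl
    have hg₁m : g₁ ∈ D.diagonalSubgroup F :=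
      mem_diagonal_of_val D g₁ _ (checkRows_spec D (checkRows_all D hD) k hk').2.1 _ (hc k) hg₁v
    have hsplit : torusMat D (fun i => if i < k + 1 then c i else 1)
        = torusMat D (fun i => if i < k then c i else 1) * D.hMat F (D.simple k) (c k) := by
      rw [hMat_simple_eq_torusMat D hD k hk' (c k) (hc k), torusMat_mul]
      congr 1
      funext i
      by_cases h1 : i < k
      · have h2 : i < k + 1 := by omega
        have h3 : ¬ i = k := by omega
        rw [if_pos h1, if_pos h2, if_neg h3, mul_one]
      · by_cases h3 : i = k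
        · have h2 : i < k + 1 := by omega
          rw [if_neg h1, if_pos h2, if_pos h3, one_mul, h3]
        · have h2 : ¬ i < k + 1 := by omega
          rw [if_neg h1, if_neg h2, if_neg h3, one_mul]
    have h0 : ((g * g₁⁻¹ : GL D.Idx F) : Matrix D.Idx D.Idx F)
        = torusMat D (fun i => if i < k then c i else 1) := by
      have e1 : ((g * g₁⁻¹ : GL D.Idx F) : Matrix D.Idx D.Idx F) * (g₁ : Matrix D.Idx D.Idx F)
          = torusMat D (fun i => if i < k then c i else 1) * (g₁ : Matrix D.Idx D.Idx F) := by
        rw [← Units.val_mul, inv_mul_cancel_right, hg, hsplit, hg₁v]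
      have e2 := congrArg (fun M => M * ((g₁⁻¹ : GL D.Idx F) : Matrix D.Idx D.Idx F)) e1
      simp only [mul_assoc] at e2
      rwa [← Units.val_mul, mul_inv_cancel, Units.val_one, mul_one, mul_one] at e2
    have := ih (by omega) _ h0
    have e : g = (g * g₁⁻¹) * g₁ := by group
    rw [e]
    exact mul_mem this hg₁m

/-- the image of the torus homomorphism is `H` -/
theorem torHom_range (D : ChevalleyDatum) (hD : D ∈ Seven) :
    (torHom D F).range = D.diagonalSubgroup F := by
  apply le_antisymm
  · rintro g ⟨c, rfl⟩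
    apply torusMat_mem_diagonal D hD (extU D c) (extU_ne_zero D c) D.rank (le_refl _)
    rw [torHom_val]
    unfold torusMat
    congr 1
    funext j
    rcases j with j | s
    · rfl
    · simp only [Sum.elim_inr]
      apply chi_congr
      intro i hi
      rw [if_pos hi]
  · intro g hg
    obtain ⟨c, hc, hval⟩ := exists_torusMat_of_mem D hD g hg
    refine ⟨fun i => Units.mk0 (c i.val) (hc i.val), ?_⟩
    apply Units.ext
    rw [torHom_val, hval]
    unfold torusMat
    congr 1
    funext j
    rcases j with j | s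
    · rfl
    · simp only [Sum.elim_inr]
      apply chi_congr
      intro i hi
      rw [extU_of_lt D _ i hi]
      rfl

/-- the Cartan matrix -/
def cartanFn (D : ChevalleyDatum) (i j : ℕ) : ℤ := D.cartan i (D.simple j)

theorem list_range_map_prod_fin {M : Type*} [CommMonoid M] (n : ℕ) (f : ℕ → M) :
    ((List.range n).map f).prod = ∏ m : Fin n, f m.val := by
  rw [Fin.prod_univ_eq_prod_range (fun m => f m) n]
  induction n with
  | zero => simp
  | succ n ih =>
    rw [List.range_succ, List.map_append, List.prod_append, ih, Finset.prod_range_succ]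
    simp

theorem chi_simple_eq (D : ChevalleyDatum) (c : Fin D.rank → Fˣ) (j : Fin D.rank) :
    chi D (extU D c) (D.simple j.val)
      = ((mpow (fmat (cartanFn D) D.rank) c j : Fˣ) : F) := by
  unfold chi
  rw [list_range_map_prod_fin, mpow_apply, Units.coe_prod]
  apply Finset.prod_congr rfl
  intro i _
  rw [extU_of_lt D c i.val i.isLt, Units.val_zpow_eq_zpow_val]
  rfl

/-- `χ_{w_i r} = χ_r χ_{p_i}^{A_{i, w_i r}}` -/
theorem chi_reflect (D : ChevalleyDatum) (hD : D ∈ Seven) (c : ℕ → F) (hc : ∀ i, c i ≠ 0)
    (i : ℕ) (hi : i < D.rank) (r : ℕ) (hr : r < D.nroots) :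
    chi D c (D.reflectRoot i r)
      = chi D c r * (chi D c (D.simple i)) ^ (D.cartan i (D.reflectRoot i r)) := by
  have hC := checkCInv_spec D i (chkCInv_all D hD i hi) r hr
  unfold chi
  rw [List.prod_zpow, List.map_map, ← List.prod_map_mul]
  congr 1
  apply List.map_congr_left
  intro m hm
  have := hC m (List.mem_range.1 hm)
  simp only [Function.comp]
  rw [← zpow_mul, ← zpow_add₀ (hc m)]
  congr 1
  omega

/-- the kernel of the torus homomorphism -/
theorem mem_ker_torHom_iff (D : ChevalleyDatum) (hD : D ∈ Seven) (c : Fin D.rank → Fˣ) :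
    c ∈ (torHom D F).ker ↔ c ∈ (mpow (fmat (cartanFn D) D.rank) :
      (Fin D.rank → Fˣ) →* (Fin D.rank → Fˣ)).ker := by
  rw [MonoidHom.mem_ker, MonoidHom.mem_ker]
  constructor
  · intro h
    funext j
    apply Units.ext
    rw [← chi_simple_eq, Pi.one_apply, Units.val_one]
    have hval : torusMat D (extU D c) = 1 := by
      rw [← torHom_val, h, Units.val_one]
    have hlt := (checkRows_spec D (checkRows_all D hD) j.val j.isLt).2.1
    have := congrFun (congrFun hval (Sum.inr ⟨D.simple j.val, hlt⟩)) (Sum.inr ⟨D.simple j.val, hlt⟩)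
    unfold torusMat at this
    rw [Matrix.diagonal_apply_eq, Matrix.one_apply_eq] at this
    exact this
  · intro h
    have hs : ∀ j < D.rank, chi D (extU D c) (D.simple j) = 1 := by
      intro j hj
      have := chi_simple_eq D c ⟨j, hj⟩
      rw [h] at this
      rw [this]
      rfl
    have hall : ∀ r < D.nroots, r < D.nroots ∧ chi D (extU D c) r = 1 := by
      refine of_checkForest D (fun r => r < D.nroots ∧ chi D (extU D c) r = 1) (forestOf D)
        (chkBN_all D hD).1 ?_ ?_
      · intro i hi
        exact ⟨(checkRows_spec D (checkRows_all D hD) i hi).2.1, hs i hi⟩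
      · rintro ⟨i, r'⟩ _ hi ⟨hr', hP⟩
        simp only at hi hr' hP ⊢
        refine ⟨(reflectRoot_invol D hD i hi r' hr').1, ?_⟩
        rw [chi_reflect D hD _ (extU_ne_zero D c) i hi r' hr', hP, hs i hi, one_zpow, mul_one]
    apply Units.ext
    rw [torHom_val, Units.val_one]
    unfold torusMat
    rw [← Matrix.diagonal_one]
    congr 1
    funext j
    rcases j with j | s
    · rfl
    · simp only [Sum.elim_inr]
      exact (hall s.val s.isLt).2

/-- `|H| · |ker| = (q - 1)^l` -/
theorem card_diagonal_mul_card_ker [Fintype F] (D : ChevalleyDatum) (hD : D ∈ Seven) :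
    Nat.card (D.diagonalSubgroup F) * Nat.card (mpow (fmat (cartanFn D) D.rank) :
      (Fin D.rank → Fˣ) →* (Fin D.rank → Fˣ)).ker = (Fintype.card F - 1) ^ D.rank := by
  classical
  have hker : (torHom D F).ker = (mpow (fmat (cartanFn D) D.rank) :
      (Fin D.rank → Fˣ) →* (Fin D.rank → Fˣ)).ker := by
    ext c
    exact mem_ker_torHom_iff D hD c
  rw [← hker, ← torHom_range D hD,
    ← Nat.card_congr (QuotientGroup.quotientKerEquivRange (torHom D F)).toEquiv,
    ← Subgroup.card_eq_card_quotient_mul_card_subgroup, Nat.card_eq_fintype_card,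
    Fintype.card_fun, Fintype.card_fin, Fintype.card_units]

end Cfsg.Agent.Lib.Helper5.ChevStruct
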