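import Mathlib
import Cfsg.Prelude.Def_ChevStructure
import Cfsg.Agent.Lib.Helper5.ChevGroupCard
import Cfsg.Agent.Lib.Helper5.ChevTorusCard

set_option autoImplicit false

/-!
`U` is a Sylow `p`-subgroup of a Chevalley group over a finite field of characteristic `p`.
-/

namespace Cfsg.Agent.Lib.Helper5.ChevStruct

open Cfsg Cfsg.Lie Cfsg.Agent.Lib.Helper5.ChevSym

variable {F : Type*} [Field F]

/-- `∑_{w ∈ W_J} q^{N(w)} ≡ 1 (mod q)` -/
theorem poinc_eq_one_add (D : ChevalleyDatum) (hD : D ∈ Seven) (J : Set ℕ) (q : ℕ) :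
    ∃ k, poinc D hD J q = 1 + q * k := by
  classical
  unfold poinc
  have h1 : (1 : Equiv.Perm (Fin D.nroots)) ∈
      Finset.univ.filter (fun σ => σ ∈ parab D hD J) := by
    rw [Finset.mem_filter]
    exact ⟨Finset.mem_univ _, one_mem _⟩
  rw [← Finset.add_sum_erase _ _ h1, Nf_one, pow_zero]
  refine ⟨∑ σ ∈ (Finset.univ.filter (fun σ => σ ∈ parab D hD J)).erase 1, q ^ (Nf D σ - 1), ?_⟩
  rw [Finset.mul_sum]
  congr 1
  apply Finset.sum_congr rfl
  intro σ hσ
  rw [Finset.mem_erase, Finset.mem_filter] at hσ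
  obtain ⟨hne, -, hmem⟩ := hσ
  obtain ⟨w, hw, rfl⟩ := exists_word_of_mem_parab D hD J σ hmem
  have hpos : 0 < Nf D (wPerm D hD w) := by
    rw [Nat.pos_iff_ne_zero]
    intro h0
    rw [Nf_wPerm D hD w hw.wd] at h0
    exact hne (wPerm_eq_one_of_card D hD w hw.wd h0)
  rw [← pow_succ']
  congr 1
  omega

/-- `U` is a Sylow `p`-subgroup -/
theorem pos_isSylow [Fintype F] (p : ℕ) [Fact p.Prime] [CharP F p] (D : ChevalleyDatum)
    (hD : D ∈ Seven) :
    ∃ P : Sylow p ↥(D.group F),
      (P : Subgroup ↥(D.group F)) = (D.posUnipotent F).subgroupOf (D.group F) := by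
  classical
  obtain ⟨n, hp, hq⟩ := FiniteField.card F p
  set q := Fintype.card F with hqdef
  have hle : D.posUnipotent F ≤ D.group F := pos_le_group D hD
  have hcardU : Nat.card ((D.posUnipotent F).subgroupOf (D.group F)) = p ^ ((n : ℕ) * (D.nroots / 2)) := by
    rw [Nat.card_congr (Subgroup.subgroupOfEquivOfLe hle).toEquiv, card_posUnipotent D hD, ← hqdef,
      hq, ← pow_mul]
  have hP : IsPGroup p ((D.posUnipotent F).subgroupOf (D.group F)) := IsPGroup.of_card hcardU
  have hidx : ¬ p ∣ ((D.posUnipotent F).subgroupOf (D.group F)).index := by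
    have h1 := Subgroup.index_mul_card ((D.posUnipotent F).subgroupOf (D.group F))
    rw [Nat.card_congr (Subgroup.subgroupOfEquivOfLe hle).toEquiv, card_posUnipotent D hD,
      card_group D hD, ← hqdef] at h1
    have hqpos : 0 < q ^ (D.nroots / 2) := pow_pos Fintype.card_pos _
    have h2 : ((D.posUnipotent F).subgroupOf (D.group F)).index
        = Nat.card (D.diagonalSubgroup F) * poinc D hD (fullSet D) q := by
      apply Nat.eq_of_mul_eq_mul_right hqpos
      rw [h1]
      ring
    rw [h2]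
    intro hdvd
    rcases (Nat.Prime.dvd_mul hp).1 hdvd with h3 | h3
    · -- `p ∤ |H|` since `|H|` divides `(q - 1)^l`
      have h4 := card_diagonal_mul_card_ker (F := F) D hD
      have h5 : p ∣ (q - 1) ^ D.rank := by
        rw [← h4]
        exact Dvd.dvd.mul_right h3 _
      have h6 : p ∣ q - 1 := hp.dvd_of_dvd_pow h5
      have h7 : p ∣ q := by
        rw [hq]
        exact dvd_pow_self p (PNat.ne_zero n)
      have h8 : 0 < q := Fintype.card_pos
      have h9 : p ∣ 1 := by
        have := (Nat.dvd_sub h7 h6)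
        have e : q - (q - 1) = 1 := by omega
        rwa [e] at this
      exact hp.one_lt.ne' (Nat.dvd_one.1 h9)
    · obtain ⟨k, hk⟩ := poinc_eq_one_add D hD (fullSet D) q
      rw [hk] at h3
      have h7 : p ∣ q * k := by
        rw [hq]
        exact Dvd.dvd.mul_right (dvd_pow_self p (PNat.ne_zero n)) _
      have h9 : p ∣ 1 := (Nat.dvd_add_left h7).1 h3
      exact hp.one_lt.ne' (Nat.dvd_one.1 h9)
  exact ⟨hP.toSylow hidx, rfl⟩

end Cfsg.Agent.Lib.Helper5.ChevStruct
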