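import Mathlib
import Cfsg.Prelude.Def_ChevStructure
import Cfsg.Agent.Lib.Helper5.ChevW0
import Cfsg.Agent.Lib.Helper5.ChevChk.ParaAll

set_option autoImplicit false

/-!
The standard parabolic subgroup `P_J` is generated by `H` and the root subgroups `X_r`,
`r ∈ Φ⁺ ∪ Φ_J`.
-/

namespace Cfsg.Agent.Lib.Helper5.ChevStruct

open Cfsg Cfsg.Lie Cfsg.Agent.Lib.Helper5.ChevSym

variable {F : Type*} [Field F]

theorem pos_le_parabolic (D : ChevalleyDatum) (J : Set ℕ) :
    D.posUnipotent F ≤ D.parabolicSubgroup F J := by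
  unfold ChevalleyDatum.parabolicSubgroup ChevalleyDatum.borelSubgroup
  exact le_trans le_sup_left le_sup_left

theorem nGL_mem_parabolic (D : ChevalleyDatum) (hD : D ∈ Seven) (J : Set ℕ) (j : ℕ) (hjJ : j ∈ J)
    (hj : j < D.rank) : (nGL D hD j : GL D.Idx F) ∈ D.parabolicSubgroup F J := by
  unfold ChevalleyDatum.parabolicSubgroup
  apply Subgroup.mem_sup_right
  apply Subgroup.subset_closure
  exact ⟨j, hjJ, hj, nGL_val D hD j⟩

/-- root elements for roots of `Φ_J` lie in `P_J` -/
theorem x_mem_parabolic (D : ChevalleyDatum) (hD : D ∈ Seven) (J : Set ℕ) (m : ℕ) :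
    ∀ r, msum D r ≤ m → D.InRootSub J r → ∀ (t : F) (g : GL D.Idx F),
      (g : Matrix D.Idx D.Idx F) = D.x F r t → g ∈ D.parabolicSubgroup F J := by
  induction m with
  | zero =>
    intro r hm hr t g hg
    rcases checkPara_root D (chkPara_all D hD) r hr.1 with hp | ⟨_, j, hj, hneg, hstep⟩
    · exact pos_le_parabolic D J (Subgroup.subset_closure ⟨r, t, hp, hg⟩)
    · exfalso
      have hjJ : j ∈ J := by
        by_contra hjJ
        have := hr.2 j hj hjJ
        unfold crt at hneg
        omega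
      have hpos : 0 < msum D r := by
        unfold msum
        have hmem : (crt D r j).natAbs ∈ (List.range D.rank).map fun i => (crt D r i).natAbs := by
          rw [List.mem_map]
          exact ⟨j, List.mem_range.2 hj, rfl⟩
        have hle := List.le_sum_of_mem hmem
        omega
      omega
  | succ m ih =>
    intro r hm hr t g hg
    rcases checkPara_root D (chkPara_all D hD) r hr.1 with hp | ⟨_, j, hj, hneg, hstep⟩
    · exact pos_le_parabolic D J (Subgroup.subset_closure ⟨r, t, hp, hg⟩)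
    · have hjJ : j ∈ J := by
        by_contra hjJ
        have := hr.2 j hj hjJ
        unfold crt at hneg
        omega
      have hn := nGL_mem_parabolic (F := F) D hD J j hjJ hj
      have hconj := nGL_conj D hD j hj r hr.1 t g hg
      have hmem : nGL D hD j * g * (nGL D hD j)⁻¹ ∈ D.parabolicSubgroup F J := by
        rcases hstep with hp | ⟨hn', hlt, hsupp⟩
        · exact pos_le_parabolic D J (Subgroup.subset_closure ⟨_, _, hp, hconj⟩)
        · apply ih (D.reflectRoot j r) (by omega) ⟨hn'.1, fun i hi hiJ => ?_⟩ _ _ hconj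
          exact hsupp i hi (hr.2 i hi hiJ)
      have e : g = (nGL D hD j)⁻¹ * (nGL D hD j * g * (nGL D hD j)⁻¹) * nGL D hD j := by group
      rw [e]
      exact mul_mem (mul_mem (inv_mem hn) hmem) hn

/-- `P_J = ⟨H, X_r : r ∈ Φ⁺ ∪ Φ_J⟩` -/
theorem parabolic_eq (D : ChevalleyDatum) (hD : D ∈ Seven) (J : Set ℕ) :
    D.parabolicSubgroup F J = D.diagonalSubgroup F ⊔
      Subgroup.closure {g : GL D.Idx F | ∃ (r : ℕ) (t : F),
        (D.IsPosRoot r ∨ D.InRootSub J r) ∧ (g : Matrix D.Idx D.Idx F) = D.x F r t} := by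
  apply le_antisymm
  · unfold ChevalleyDatum.parabolicSubgroup ChevalleyDatum.borelSubgroup
    apply sup_le (sup_le ?_ le_sup_left)
    · rw [Subgroup.closure_le]
      rintro g ⟨j, hjJ, hj, hg⟩
      obtain ⟨hp, hnlt, hcrt⟩ := checkPara_simple D (chkPara_all D hD) j hj
      apply Subgroup.mem_sup_right
      have e : g = xGL D hD (D.simple j) 1 * xGL D hD (D.neg (D.simple j)) (-(1 : F)⁻¹)
          * xGL D hD (D.simple j) 1 := by
        apply Units.ext
        rw [hg, nMat_eq]
        rfl
      rw [e]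
      have h1 : xGL D hD (D.simple j) (1 : F) ∈ Subgroup.closure {g : GL D.Idx F | ∃ (r : ℕ) (t : F),
          (D.IsPosRoot r ∨ D.InRootSub J r) ∧ (g : Matrix D.Idx D.Idx F) = D.x F r t} :=
        Subgroup.subset_closure ⟨_, _, Or.inl hp, rfl⟩
      have h2 : xGL D hD (D.neg (D.simple j)) (-(1 : F)⁻¹) ∈
          Subgroup.closure {g : GL D.Idx F | ∃ (r : ℕ) (t : F),
          (D.IsPosRoot r ∨ D.InRootSub J r) ∧ (g : Matrix D.Idx D.Idx F) = D.x F r t} := by
        apply Subgroup.subset_closure
        refine ⟨_, _, Or.inr ⟨hnlt, fun i hi hiJ => ?_⟩, rfl⟩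
        exact hcrt i hi (fun hij => hiJ (hij ▸ hjJ))
      exact mul_mem (mul_mem h1 h2) h1
    · apply le_trans _ le_sup_right
      apply Subgroup.closure_mono
      rintro g ⟨r, t, hr, hg⟩
      exact ⟨r, t, Or.inl hr, hg⟩
  · apply sup_le
    · unfold ChevalleyDatum.parabolicSubgroup ChevalleyDatum.borelSubgroup
      exact le_trans le_sup_right le_sup_left
    · rw [Subgroup.closure_le]
      rintro g ⟨r, t, hr | hr, hg⟩
      · exact pos_le_parabolic D J (Subgroup.subset_closure ⟨r, t, hr, hg⟩)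
      · exact x_mem_parabolic D hD J (msum D r) r le_rfl hr t g hg

end Cfsg.Agent.Lib.Helper5.ChevStruct
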