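import Mathlib
import Cfsg.Prelude.Def_ChevStructure
import Cfsg.Agent.S1024
import Cfsg.Agent.Lib.Helper5.ChevW0
import Cfsg.Agent.Lib.Helper5.ChevChk.W0All
import Cfsg.Agent.Lib.Helper5.ChevNormal
import Cfsg.Agent.Lib.Helper5.ChevDiag
import Cfsg.Agent.Lib.Helper5.ChevGen

set_option autoImplicit false

/-!
The intersection of the conjugates of `B` is trivial.
-/

namespace Cfsg.Agent.Lib.Helper5.ChevStruct

open Cfsg Cfsg.Lie Cfsg.Agent.Lib.Helper5.ChevSym

variable {F : Type*} [Field F]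

/-- elements of `N` normalise `H` -/
theorem diagonal_map_conj (D : ChevalleyDatum) (hD : D ∈ Seven) (n : GL D.Idx F)
    (hn : n ∈ D.monomialSubgroup F) :
    (D.diagonalSubgroup F).map (MulAut.conj n).toMonoidHom = D.diagonalSubgroup F := by
  apply le_antisymm
  · rintro g ⟨h, hh, rfl⟩
    exact (conj_monomial_diag_mem D hD n hn h hh).1
  · intro h hh
    refine ⟨n⁻¹ * h * n, (conj_monomial_diag_mem D hD n hn h hh).2, ?_⟩
    show n * (n⁻¹ * h * n) * n⁻¹ = h
    group

/-- an element all of whose conjugates lie in `B` lies in `H` -/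
theorem core_le_diagonal (D : ChevalleyDatum) (hD : D ∈ Seven) (c : GL D.Idx F)
    (hc : ∀ g ∈ D.group F, g * c * g⁻¹ ∈ D.borelSubgroup F) : c ∈ D.diagonalSubgroup F := by
  obtain ⟨w, hw⟩ := exists_w0 D hD
  obtain ⟨n, hnN, hmap⟩ := conj_pos_eq_neg (F := F) D hD w hw
  have hnG : n ∈ D.group F := monomial_le_group D hD hnN
  have h1 : n⁻¹ * c * n ∈ D.borelSubgroup F := by
    have := hc n⁻¹ (inv_mem hnG)
    rwa [inv_inv] at this
  have h2 : c ∈ (D.borelSubgroup F).map (MulAut.conj n).toMonoidHom := by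
    refine ⟨n⁻¹ * c * n, h1, ?_⟩
    show n * (n⁻¹ * c * n) * n⁻¹ = c
    group
  have h3 : (D.borelSubgroup F).map (MulAut.conj n).toMonoidHom
      = D.negUnipotent F ⊔ D.diagonalSubgroup F := by
    unfold ChevalleyDatum.borelSubgroup
    rw [Subgroup.map_sup, hmap, diagonal_map_conj D hD n hnN]
  rw [h3] at h2
  have h4 : c ∈ D.borelSubgroup F := by
    have := hc 1 (one_mem _)
    simpa using this
  have : c ∈ D.borelSubgroup F ⊓ (D.negUnipotent F ⊔ D.diagonalSubgroup F) := ⟨h4, h2⟩
  rwa [borel_inf_negBorel D hD] at this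

theorem torusMat_eq_one (D : ChevalleyDatum) (k : ℕ → F) (h : ∀ s < D.nroots, chi D k s = 1) :
    torusMat D k = 1 := by
  unfold torusMat
  rw [← Matrix.diagonal_one]
  congr 1
  funext j
  rcases j with j | s
  · rfl
  · simp only [Sum.elim_inr]
    exact h s.val s.2

/-- an element all of whose conjugates lie in `B` is trivial -/
theorem core_eq_one (D : ChevalleyDatum) (hD : D ∈ Seven) (c : GL D.Idx F)
    (hc : ∀ g ∈ D.group F, g * c * g⁻¹ ∈ D.borelSubgroup F) : c = 1 := by
  have hcH : c ∈ D.diagonalSubgroup F := core_le_diagonal D hD c hc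
  have hconj : ∀ x ∈ D.group F, x * c * x⁻¹ ∈ D.diagonalSubgroup F := by
    intro x hx
    apply core_le_diagonal D hD
    intro g hg
    have := hc (g * x) (mul_mem hg hx)
    have e : g * (x * c * x⁻¹) * g⁻¹ = g * x * c * (g * x)⁻¹ := by group
    rw [e]
    exact this
  obtain ⟨k, hk, hck⟩ := exists_torusMat_of_mem D hD c⁻¹ (inv_mem hcH)
  have hpos : ∀ r, D.IsPosRoot r → chi D k r = 1 := by
    intro r hr
    set x : GL D.Idx F := xGL D hD r 1 with hx
    have hxG : x ∈ D.group F := xGL_mem_group D hD r 1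
    set y : GL D.Idx F := c⁻¹ * x * (c⁻¹)⁻¹ * x⁻¹ with hy
    have hyval : (y : Matrix D.Idx D.Idx F) = D.x F r (chi D k r * 1 + (-1)) := by
      rw [hy, Units.val_mul, torus_conj_x D hD c⁻¹ x k hk hck r 1 rfl, ← x_add D hD]
      congr 1
    have hyU : y ∈ D.posUnipotent F := Subgroup.subset_closure ⟨r, _, hr, hyval⟩
    have hyH : y ∈ D.diagonalSubgroup F := by
      have e : y = c⁻¹ * (x * c * x⁻¹) := by
        rw [hy]
        group
      rw [e]
      exact mul_mem (inv_mem hcH) (hconj x hxG)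
    have hy1 : y ∈ D.posUnipotent F ⊓ D.diagonalSubgroup F := ⟨hyU, hyH⟩
    rw [pos_inf_diagonal D hD, Subgroup.mem_bot] at hy1
    rw [hy1, Units.val_one] at hyval
    have := (Cfsg.Agent.S1024.result D hD r hr.1 _).1 hyval.symm
    rw [mul_one] at this
    exact (add_neg_eq_zero.1 this)
  have hall : ∀ s < D.nroots, chi D k s = 1 := by
    intro s hs
    rcases pos_or_neg D hD s hs with hp | ⟨hp, hnn⟩
    · exact hpos s hp
    · have h1 := chi_neg D (weightsOK_all D hD) k hk (D.neg s) hp.1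
      have h2 : D.negIdx.getD (D.neg s) 0 = s := hnn
      rw [h2, hpos _ hp, mul_one] at h1
      exact h1
  have : c⁻¹ = 1 := by
    apply Units.ext
    rw [hck, torusMat_eq_one D k hall, Units.val_one]
  exact inv_eq_one.1 this

/-- the normal core of `B` in `G` is trivial -/
theorem borel_normalCore (D : ChevalleyDatum) (hD : D ∈ Seven) :
    ((D.borelSubgroup F).subgroupOf (D.group F)).normalCore = ⊥ := by
  rw [eq_bot_iff]
  intro c hc
  rw [Subgroup.mem_bot]
  have h1 : ∀ g ∈ D.group F, g * (c : GL D.Idx F) * g⁻¹ ∈ D.borelSubgroup F := by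
    intro g hg
    have := hc ⟨g, hg⟩
    rw [Subgroup.mem_subgroupOf] at this
    simpa using this
  have := core_eq_one D hD (c : GL D.Idx F) h1
  exact Subtype.ext this

end Cfsg.Agent.Lib.Helper5.ChevStruct
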