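import Mathlib
import Cfsg.Prelude.Def_ChevStructure

set_option autoImplicit false

/-!
Functoriality of the Chevalley group in the field: a ring homomorphism `f : F → K` carries `x_r(t)` to
`x_r(f t)` entrywise, and a ring isomorphism gives an isomorphism of the Chevalley groups.
-/

namespace Cfsg.Agent.Lib.Helper5.ChevStruct

open Cfsg Cfsg.Lie

variable {F K : Type*} [Field F] [Field K]

theorem xMat_map (D : ChevalleyDatum) (f : F →+* K) (r : Fin D.nroots) (t : F) :
    (D.xMat F r t).map f = D.xMat K r (f t) := by
  ext row col
  rw [Matrix.map_apply]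
  unfold ChevalleyDatum.xMat
  simp only [Matrix.of_apply]
  rcases col with i | s
  · rcases row with i' | u
    · simp only
      split_ifs <;> simp
    · simp only
      split_ifs <;> simp
  · simp only
    split_ifs with h1 h2
    · rcases row with i' | u
      · simp
      · simp only
        split_ifs <;> simp
    · rcases row with i' | u
      · simp
      · simp only
        split_ifs <;> simp
    · rcases row with i' | u
      · simp
      · simp only [map_add, map_list_sum, List.map_map]
        congr 1
        · split_ifs <;> simp
        · congr 1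
          apply List.map_congr_left
          intro km _
          simp

theorem x_map (D : ChevalleyDatum) (f : F →+* K) (r : ℕ) (t : F) :
    (D.x F r t).map f = D.x K r (f t) := by
  unfold ChevalleyDatum.x
  by_cases hr : r < D.nroots
  · rw [dif_pos hr, dif_pos hr, xMat_map]
  · rw [dif_neg hr, dif_neg hr, Matrix.map_one _ (map_zero f) (map_one f)]

theorem wordMat_map (D : ChevalleyDatum) (f : F →+* K) (w : List (ℕ × F)) :
    (D.wordMat F w).map f = D.wordMat K (w.map fun p => (p.1, f p.2)) := by
  induction w with
  | nil =>
    simp only [ChevalleyDatum.wordMat, List.map_nil, List.prod_nil]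
    exact Matrix.map_one _ (map_zero f) (map_one f)
  | cons p w ih =>
    have h1 : D.wordMat F (p :: w) = D.x F p.1 p.2 * D.wordMat F w := by
      simp [ChevalleyDatum.wordMat]
    have h2 : D.wordMat K ((p :: w).map fun p => (p.1, f p.2))
        = D.x K p.1 (f p.2) * D.wordMat K (w.map fun p => (p.1, f p.2)) := by
      simp [ChevalleyDatum.wordMat]
    rw [h1, h2, Matrix.map_mul, ih, x_map]

/-- the image of the Chevalley group under a field homomorphism lies in the Chevalley group -/
theorem map_group_le (D : ChevalleyDatum) (f : F →+* K) :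
    (D.group F).map (Matrix.GeneralLinearGroup.map f) ≤ D.group K := by
  unfold ChevalleyDatum.group
  rw [MonoidHom.map_closure, Subgroup.closure_le]
  rintro _ ⟨g, ⟨r, t, hg⟩, rfl⟩
  apply Subgroup.subset_closure
  refine ⟨r, f t, ?_⟩
  rw [← xMat_map, ← hg]
  rfl

theorem glMap_val (n : Type*) [Fintype n] [DecidableEq n] (f : F →+* K) (g : GL n F) :
    ((Matrix.GeneralLinearGroup.map f g : GL n K) : Matrix n n K)
      = (g : Matrix n n F).map f := rfl

/-- a field isomorphism induces an isomorphism of the Chevalley groups -/
noncomputable def groupEquivOfRingEquiv (D : ChevalleyDatum) (e : F ≃+* K) :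
    ↥(D.group F) ≃* ↥(D.group K) where
  toFun g := ⟨Matrix.GeneralLinearGroup.map e.toRingHom g.1,
    map_group_le D e.toRingHom ⟨g.1, g.2, rfl⟩⟩
  invFun g := ⟨Matrix.GeneralLinearGroup.map e.symm.toRingHom g.1,
    map_group_le D e.symm.toRingHom ⟨g.1, g.2, rfl⟩⟩
  left_inv g := by
    apply Subtype.ext
    apply Units.ext
    ext i j
    simp [glMap_val]
  right_inv g := by
    apply Subtype.ext
    apply Units.ext
    ext i j
    simp [glMap_val]
  map_mul' a b := by
    apply Subtype.ext
    simp [map_mul]

theorem groupEquivOfRingEquiv_val (D : ChevalleyDatum) (e : F ≃+* K) (g : ↥(D.group F)) :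
    ((groupEquivOfRingEquiv D e g : GL D.Idx K) : Matrix D.Idx D.Idx K)
      = ((g : GL D.Idx F) : Matrix D.Idx D.Idx F).map e := rfl

end Cfsg.Agent.Lib.Helper5.ChevStruct
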