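import Mathlib
import Cfsg.Prelude.Def_ChevStructure
import Cfsg.Agent.Lib.Helper5.ChevSymSound
import Cfsg.Agent.Lib.Helper5.ChevSymAdd

set_option autoImplicit false

/-!
Graph automorphisms of the Chevalley groups with one root length: a signed permutation matrix `P`
of the coordinate module with `P x_r(t) = x_{ρ r}(ε_r t) P`; the table check behind it.
-/

namespace Cfsg.Agent.Lib.Helper5.ChevSym

open Cfsg Cfsg.Lie

/-- the data of a signed permutation of the Chevalley basis: the permutation of the nodes and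
of the roots (with their inverses) and the signs -/
structure GraphData where
  rho : List ℕ
  rhoInv : List ℕ
  pr : List ℕ
  prInv : List ℕ
  eps : List ℤ

/-- the permutation on the codes of the coordinates -/
def gPi (D : ChevalleyDatum) (G : GraphData) (n : ℕ) : ℕ :=
  bif Nat.blt n D.rank then G.rho.getD n 0 else Nat.add D.rank (G.pr.getD (Nat.sub n D.rank) 0)

/-- the inverse permutation -/
def gPiInv (D : ChevalleyDatum) (G : GraphData) (n : ℕ) : ℕ :=
  bif Nat.blt n D.rank then G.rhoInv.getD n 0
  else Nat.add D.rank (G.prInv.getD (Nat.sub n D.rank) 0)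

/-- the sign attached to a coordinate -/
def gSgn (D : ChevalleyDatum) (G : GraphData) (n : ℕ) : ℤ :=
  bif Nat.blt n D.rank then 1 else G.eps.getD (Nat.sub n D.rank) 1

/-- the column `col` of `x_r(t)`, transported by the signed permutation -/
def gLhs (D : ChevalleyDatum) (G : GraphData) (r col : ℕ) : Vec :=
  (xData D r col).foldr (fun d acc => insertT keyEq
    ⟨gPi D G d.1, d.2.2, 0, Int.mul (Int.mul (gSgn D G d.1) (gSgn D G col)) d.2.1⟩ acc) []

/-- the column `π col` of `x_{ρ r}(ε t)` -/
def gRhs (D : ChevalleyDatum) (G : GraphData) (r col : ℕ) : Vec :=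
  (xData D (G.pr.getD r 0) (gPi D G col)).foldr (fun d acc => insertT keyEq
    ⟨d.1, d.2.2, 0, Int.mul d.2.1 (Int.pow (G.eps.getD r 1) d.2.2)⟩ acc) []

/-- the check at the root `r` -/
def checkGraphAt (D : ChevalleyDatum) (G : GraphData) (r : ℕ) : Bool :=
  (List.range (Nat.add D.rank D.nroots)).all fun col =>
    vecEq keyEq (gLhs D G r col) (gRhs D G r col)

/-- the permutations are mutually inverse, the signs are `±1` -/
def checkGraphPerm (D : ChevalleyDatum) (G : GraphData) : Bool :=
  (List.range (Nat.add D.rank D.nroots)).all fun n =>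
    Nat.blt (gPi D G n) (Nat.add D.rank D.nroots) &&
    Nat.blt (gPiInv D G n) (Nat.add D.rank D.nroots) &&
    Nat.beq (gPi D G (gPiInv D G n)) n && Nat.beq (gPiInv D G (gPi D G n)) n &&
    decide (gSgn D G n * gSgn D G n = 1) &&
    (Nat.blt n D.rank || (Nat.blt (G.pr.getD (Nat.sub n D.rank) 0) D.nroots &&
      Nat.blt (G.prInv.getD (Nat.sub n D.rank) 0) D.nroots))

variable {F : Type*} [Field F]

theorem checkGraphPerm_spec (D : ChevalleyDatum) (G : GraphData) (h : checkGraphPerm D G = true)
    (n : ℕ) (hn : n < D.rank + D.nroots) :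
    gPi D G n < D.rank + D.nroots ∧ gPiInv D G n < D.rank + D.nroots ∧
    gPi D G (gPiInv D G n) = n ∧ gPiInv D G (gPi D G n) = n ∧ gSgn D G n * gSgn D G n = 1 := by
  unfold checkGraphPerm at h
  rw [List.all_eq_true] at h
  have := h n (List.mem_range.2 hn)
  simp only [Bool.and_eq_true, Nat.blt_eq, Nat.beq_eq, decide_eq_true_eq, Nat.add_eq] at this
  obtain ⟨⟨⟨⟨⟨h1, h2⟩, h3⟩, h4⟩, h5⟩, _⟩ := this
  exact ⟨h1, h2, h3, h4, h5⟩

theorem checkGraphPerm_root (D : ChevalleyDatum) (G : GraphData) (h : checkGraphPerm D G = true)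
    (r : ℕ) (hr : r < D.nroots) :
    G.pr.getD r 0 < D.nroots ∧ G.prInv.getD r 0 < D.nroots ∧
    G.pr.getD (G.prInv.getD r 0) 0 = r := by
  unfold checkGraphPerm at h
  rw [List.all_eq_true] at h
  have := h (D.rank + r) (List.mem_range.2 (by simp only [Nat.add_eq]; omega))
  simp only [Bool.and_eq_true, Nat.blt_eq, Nat.beq_eq, decide_eq_true_eq, Nat.add_eq,
    Bool.or_eq_true, Nat.sub_eq] at this
  obtain ⟨⟨⟨⟨⟨_, _⟩, h3⟩, _⟩, _⟩, h6⟩ := this
  have hnot : ¬ D.rank + r < D.rank := by omega
  have e : D.rank + r - D.rank = r := by omega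
  rcases h6 with h6 | h6
  · exact absurd h6 hnot
  · rw [e] at h6
    refine ⟨h6.1, h6.2, ?_⟩
    unfold gPi gPiInv at h3
    rw [cond_blt_neg hnot] at h3
    simp only [Nat.add_eq, Nat.sub_eq] at h3
    rw [e] at h3
    have hnot' : ¬ D.rank + G.prInv.getD r 0 < D.rank := by omega
    rw [cond_blt_neg hnot'] at h3
    have e' : D.rank + G.prInv.getD r 0 - D.rank = G.prInv.getD r 0 := by omega
    rw [e'] at h3
    omega

/-- the permutation of the coordinates -/
def gPerm (D : ChevalleyDatum) (G : GraphData) (h : checkGraphPerm D G = true) :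
    Equiv.Perm D.Idx where
  toFun j := decode D (gPi D G (code D j)) (checkGraphPerm_spec D G h _ (code_lt D j)).1
  invFun j := decode D (gPiInv D G (code D j)) (checkGraphPerm_spec D G h _ (code_lt D j)).2.1
  left_inv j := by
    apply code_injective D
    rw [code_decode, code_decode]
    exact (checkGraphPerm_spec D G h _ (code_lt D j)).2.2.2.1
  right_inv j := by
    apply code_injective D
    rw [code_decode, code_decode]
    exact (checkGraphPerm_spec D G h _ (code_lt D j)).2.2.1

theorem code_gPerm (D : ChevalleyDatum) (G : GraphData) (h : checkGraphPerm D G = true)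
    (j : D.Idx) : code D (gPerm D G h j) = gPi D G (code D j) :=
  code_decode D _ (checkGraphPerm_spec D G h _ (code_lt D j)).1

/-- the signed permutation matrix -/
def gMat (D : ChevalleyDatum) (G : GraphData) (h : checkGraphPerm D G = true) (F : Type*)
    [Field F] : Matrix D.Idx D.Idx F :=
  Matrix.of fun i j => if i = gPerm D G h j then ((gSgn D G (code D j) : ℤ) : F) else 0

/-- its inverse -/
def gMatInv (D : ChevalleyDatum) (G : GraphData) (h : checkGraphPerm D G = true) (F : Type*)
    [Field F] : Matrix D.Idx D.Idx F :=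
  Matrix.of fun i j => if j = gPerm D G h i then ((gSgn D G (code D i) : ℤ) : F) else 0

theorem gSgn_sq (D : ChevalleyDatum) (G : GraphData) (h : checkGraphPerm D G = true)
    (j : D.Idx) : ((gSgn D G (code D j) : ℤ) : F) * ((gSgn D G (code D j) : ℤ) : F) = 1 := by
  rw [← Int.cast_mul, (checkGraphPerm_spec D G h _ (code_lt D j)).2.2.2.2, Int.cast_one]

theorem gMat_mul_inv (D : ChevalleyDatum) (G : GraphData) (h : checkGraphPerm D G = true) :
    gMat D G h F * gMatInv D G h F = 1 := by
  ext i k
  rw [Matrix.mul_apply, Matrix.one_apply]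
  simp only [gMat, gMatInv, Matrix.of_apply]
  rw [Finset.sum_eq_single ((gPerm D G h).symm i)]
  · rw [Equiv.apply_symm_apply, if_pos rfl]
    by_cases hik : i = k
    · subst hik
      rw [if_pos rfl, if_pos rfl, gSgn_sq D G h]
    · rw [if_neg hik, if_neg (fun e => hik e.symm), mul_zero]
  · intro j _ hj
    rw [if_neg, zero_mul]
    intro e
    apply hj
    rw [e, Equiv.symm_apply_apply]
  · intro hn
    exact absurd (Finset.mem_univ _) hn

theorem gMatInv_mul (D : ChevalleyDatum) (G : GraphData) (h : checkGraphPerm D G = true) :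
    gMatInv D G h F * gMat D G h F = 1 := by
  ext i k
  rw [Matrix.mul_apply, Matrix.one_apply]
  simp only [gMat, gMatInv, Matrix.of_apply]
  rw [Finset.sum_eq_single (gPerm D G h i)]
  · rw [if_pos rfl]
    by_cases hik : i = k
    · subst hik
      rw [if_pos rfl, if_pos rfl, gSgn_sq D G h]
    · rw [if_neg hik, if_neg (fun e => hik ((gPerm D G h).injective e)), mul_zero]
  · intro j _ hj
    rw [if_neg hj, zero_mul]
  · intro hn
    exact absurd (Finset.mem_univ _) hn

theorem gPi_inj (D : ChevalleyDatum) (G : GraphData) (h : checkGraphPerm D G = true) (m n : ℕ)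
    (hm : m < D.rank + D.nroots) (hn : n < D.rank + D.nroots) (e : gPi D G m = gPi D G n) :
    m = n := by
  have h1 := (checkGraphPerm_spec D G h m hm).2.2.2.1
  have h2 := (checkGraphPerm_spec D G h n hn).2.2.2.1
  rw [← h1, ← h2, e]

theorem evalVec_gLhs (D : ChevalleyDatum) (G : GraphData) (h : checkGraphPerm D G = true)
    (r : ℕ) (t : F) (row col : D.Idx) :
    evalVec t 1 (gLhs D G r (code D col)) (gPi D G (code D row))
      = ((gSgn D G (code D row) : ℤ) : F) * ((gSgn D G (code D col) : ℤ) : F)
        * D.x F r t row col := by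
  unfold gLhs
  rw [evalVec_foldr_insertT keyEq t 1 (keyEq_sound t 1), evalVec_nil, add_zero, ← xData_sound]
  unfold dataVal
  have hin := xData_inRange D r (code D col) (code_lt D col)
  rw [← List.sum_map_mul_left]
  congr 1
  apply List.map_congr_left
  intro d hd
  have hd' := hin d hd
  by_cases e : d.1 = code D row
  · rw [if_pos (by rw [e]), if_pos e]
    simp only [Term.val, mval, Int.mul_def, Int.cast_mul, pow_zero, mul_one, e]
    ring
  · rw [if_neg e, if_neg, mul_zero]
    intro e'
    exact e (gPi_inj D G h _ _ hd' (code_lt D row) e')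

theorem int_pow_eq (m : ℤ) (n : ℕ) : Int.pow m n = m ^ n := rfl

theorem evalVec_gRhs (D : ChevalleyDatum) (G : GraphData) (h : checkGraphPerm D G = true)
    (r : ℕ) (t : F) (row col : D.Idx) :
    evalVec t 1 (gRhs D G r (code D col)) (gPi D G (code D row))
      = D.x F (G.pr.getD r 0) (((G.eps.getD r 1 : ℤ) : F) * t) (gPerm D G h row)
          (gPerm D G h col) := by
  unfold gRhs
  rw [evalVec_foldr_insertT keyEq t 1 (keyEq_sound t 1), evalVec_nil, add_zero, ← xData_sound,
    code_gPerm, code_gPerm]
  unfold dataVal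
  congr 1
  apply List.map_congr_left
  intro d _
  by_cases e : d.1 = gPi D G (code D row)
  · rw [if_pos e, if_pos e]
    simp only [Term.val, mval, Int.mul_def, Int.cast_mul, pow_zero, mul_one, int_pow_eq,
      Int.cast_pow, mul_pow]
    ring
  · rw [if_neg e, if_neg e]

/-- the entries of `x_{ρ r}(ε t)` in terms of those of `x_r(t)` -/
theorem x_gPerm (D : ChevalleyDatum) (G : GraphData) (h : checkGraphPerm D G = true) (r : ℕ)
    (hr : checkGraphAt D G r = true) (t : F) (row col : D.Idx) :
    D.x F (G.pr.getD r 0) (((G.eps.getD r 1 : ℤ) : F) * t) (gPerm D G h row) (gPerm D G h col)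
      = ((gSgn D G (code D row) : ℤ) : F) * ((gSgn D G (code D col) : ℤ) : F)
        * D.x F r t row col := by
  rw [← evalVec_gRhs D G h, ← evalVec_gLhs D G h]
  unfold checkGraphAt at hr
  rw [List.all_eq_true] at hr
  have := hr (code D col) (List.mem_range.2 (code_lt D col))
  exact (eq_of_vecEq keyEq t 1 (keyEq_sound t 1) _ _ this _).symm

/-- `P x_r(t) = x_{ρ r}(ε_r t) P` -/
theorem gMat_mul_x (D : ChevalleyDatum) (G : GraphData) (h : checkGraphPerm D G = true) (r : ℕ)
    (hr : checkGraphAt D G r = true) (t : F) :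
    gMat D G h F * D.x F r t
      = D.x F (G.pr.getD r 0) (((G.eps.getD r 1 : ℤ) : F) * t) * gMat D G h F := by
  ext i c
  rw [Matrix.mul_apply, Matrix.mul_apply]
  simp only [gMat, Matrix.of_apply]
  rw [Finset.sum_eq_single ((gPerm D G h).symm i), Finset.sum_eq_single (gPerm D G h c)]
  · rw [Equiv.apply_symm_apply, if_pos rfl, if_pos rfl]
    have := x_gPerm D G h r hr t ((gPerm D G h).symm i) c
    rw [Equiv.apply_symm_apply] at this
    rw [this]
    have hsq := gSgn_sq (F := F) D G h c
    calc _ = ((gSgn D G (code D ((gPerm D G h).symm i)) : ℤ) : F)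
          * D.x F r t ((gPerm D G h).symm i) c * 1 := by rw [mul_one]
      _ = _ := by rw [← hsq]; ring
  · intro j _ hj
    rw [if_neg hj, mul_zero]
  · intro hn
    exact absurd (Finset.mem_univ _) hn
  · intro j _ hj
    rw [if_neg, zero_mul]
    intro e
    apply hj
    rw [e, Equiv.symm_apply_apply]
  · intro hn
    exact absurd (Finset.mem_univ _) hn

end Cfsg.Agent.Lib.Helper5.ChevSym
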