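import Mathlib
import Cfsg.Prelude.Def_ChevStructure
import Cfsg.Agent.Lib.Helper5.ChevGraphDef
import Cfsg.Agent.Lib.Helper5.ChevChk.GraphData
import Cfsg.Agent.Lib.Helper5.ChevXGL

set_option autoImplicit false

/-!
The automorphism of a Chevalley group induced by a signed permutation of the Chevalley basis.
-/

namespace Cfsg.Agent.Lib.Helper5.ChevSym

open Cfsg Cfsg.Lie

variable {F : Type*} [Field F]

/-- the signed permutation matrix as an element of `GL` -/
def gGL (D : ChevalleyDatum) (G : GraphData) (h : checkGraphPerm D G = true) (F : Type*)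
    [Field F] : GL D.Idx F :=
  ⟨gMat D G h F, gMatInv D G h F, gMat_mul_inv D G h, gMatInv_mul D G h⟩

theorem eps_sq (D : ChevalleyDatum) (G : GraphData) (h : checkGraphPerm D G = true) (r : ℕ)
    (hr : r < D.nroots) : ((G.eps.getD r 1 : ℤ) : F) * ((G.eps.getD r 1 : ℤ) : F) = 1 := by
  have := (checkGraphPerm_spec D G h (D.rank + r) (by omega)).2.2.2.2
  unfold gSgn at this
  rw [cond_blt_neg (by omega)] at this
  simp only [Nat.sub_eq] at this
  have e : D.rank + r - D.rank = r := by omega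
  rw [e] at this
  rw [← Int.cast_mul, this, Int.cast_one]

/-- `P x_r(t) P⁻¹ = x_{ρ r}(ε_r t)` -/
theorem gGL_conj (D : ChevalleyDatum) (G : GraphData) (h : checkGraphPerm D G = true)
    (hG : ∀ r < D.nroots, checkGraphAt D G r = true) (r : ℕ) (hr : r < D.nroots) (t : F)
    (g : GL D.Idx F) (hg : (g : Matrix D.Idx D.Idx F) = D.x F r t) :
    ((gGL D G h F * g * (gGL D G h F)⁻¹ : GL D.Idx F) : Matrix D.Idx D.Idx F)
      = D.x F (G.pr.getD r 0) (((G.eps.getD r 1 : ℤ) : F) * t) := by
  rw [Units.val_mul, Units.val_mul, hg]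
  show gMat D G h F * D.x F r t * gMatInv D G h F = _
  rw [gMat_mul_x D G h r (hG r hr) t, mul_assoc, gMat_mul_inv, mul_one]

/-- `P⁻¹ x_s(t) P = x_{ρ⁻¹ s}(ε t)` -/
theorem gGL_inv_conj (D : ChevalleyDatum) (G : GraphData) (h : checkGraphPerm D G = true)
    (hG : ∀ r < D.nroots, checkGraphAt D G r = true) (s : ℕ) (hs : s < D.nroots) (t : F)
    (g : GL D.Idx F) (hg : (g : Matrix D.Idx D.Idx F) = D.x F s t) :
    (((gGL D G h F)⁻¹ * g * gGL D G h F : GL D.Idx F) : Matrix D.Idx D.Idx F)
      = D.x F (G.prInv.getD s 0) (((G.eps.getD (G.prInv.getD s 0) 1 : ℤ) : F) * t) := by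
  obtain ⟨_, h2, h3⟩ := checkGraphPerm_root D G h s hs
  have key := gMat_mul_x D G h (G.prInv.getD s 0) (hG _ h2)
    (((G.eps.getD (G.prInv.getD s 0) 1 : ℤ) : F) * t)
  rw [h3, ← mul_assoc, eps_sq D G h _ h2, one_mul] at key
  rw [Units.val_mul, Units.val_mul, hg]
  show gMatInv D G h F * D.x F s t * gMat D G h F = _
  rw [mul_assoc, ← key, ← mul_assoc, gMatInv_mul, one_mul]

theorem gGL_conj_mem_group (D : ChevalleyDatum) (G : GraphData) (h : checkGraphPerm D G = true)
    (hG : ∀ r < D.nroots, checkGraphAt D G r = true) (g : GL D.Idx F) (hg : g ∈ D.group F) :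
    gGL D G h F * g * (gGL D G h F)⁻¹ ∈ D.group F := by
  unfold ChevalleyDatum.group at hg
  induction hg using Subgroup.closure_induction with
  | mem y hy =>
    obtain ⟨r, t, hy⟩ := hy
    have hy' : (y : Matrix D.Idx D.Idx F) = D.x F r.val t := by
      rw [hy]
      unfold ChevalleyDatum.x
      rw [dif_pos r.2]
    have := gGL_conj D G h hG r.val r.2 t y hy'
    have hlt := (checkGraphPerm_root D G h r.val r.2).1
    apply Subgroup.subset_closure
    refine ⟨⟨G.pr.getD r.val 0, hlt⟩, ((G.eps.getD r.val 1 : ℤ) : F) * t, ?_⟩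
    rw [this]
    unfold ChevalleyDatum.x
    rw [dif_pos hlt]
  | one =>
    simp only [mul_one, mul_inv_cancel]
    exact one_mem _
  | mul a b _ _ ha hb =>
    have e : gGL D G h F * (a * b) * (gGL D G h F)⁻¹
        = (gGL D G h F * a * (gGL D G h F)⁻¹) * (gGL D G h F * b * (gGL D G h F)⁻¹) := by group
    rw [e]
    exact mul_mem ha hb
  | inv a _ ha =>
    have e : gGL D G h F * a⁻¹ * (gGL D G h F)⁻¹ = (gGL D G h F * a * (gGL D G h F)⁻¹)⁻¹ := by
      group
    rw [e]
    exact inv_mem ha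

theorem gGL_inv_conj_mem_group (D : ChevalleyDatum) (G : GraphData)
    (h : checkGraphPerm D G = true)
    (hG : ∀ r < D.nroots, checkGraphAt D G r = true) (g : GL D.Idx F) (hg : g ∈ D.group F) :
    (gGL D G h F)⁻¹ * g * gGL D G h F ∈ D.group F := by
  unfold ChevalleyDatum.group at hg
  induction hg using Subgroup.closure_induction with
  | mem y hy =>
    obtain ⟨r, t, hy⟩ := hy
    have hy' : (y : Matrix D.Idx D.Idx F) = D.x F r.val t := by
      rw [hy]
      unfold ChevalleyDatum.x
      rw [dif_pos r.2]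
    have := gGL_inv_conj D G h hG r.val r.2 t y hy'
    have hlt := (checkGraphPerm_root D G h r.val r.2).2.1
    apply Subgroup.subset_closure
    refine ⟨⟨G.prInv.getD r.val 0, hlt⟩,
      ((G.eps.getD (G.prInv.getD r.val 0) 1 : ℤ) : F) * t, ?_⟩
    rw [this]
    unfold ChevalleyDatum.x
    rw [dif_pos hlt]
  | one =>
    simp only [mul_one, inv_mul_cancel]
    exact one_mem _
  | mul a b _ _ ha hb =>
    have e : (gGL D G h F)⁻¹ * (a * b) * gGL D G h F
        = ((gGL D G h F)⁻¹ * a * gGL D G h F) * ((gGL D G h F)⁻¹ * b * gGL D G h F) := by group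
    rw [e]
    exact mul_mem ha hb
  | inv a _ ha =>
    have e : (gGL D G h F)⁻¹ * a⁻¹ * gGL D G h F = ((gGL D G h F)⁻¹ * a * gGL D G h F)⁻¹ := by
      group
    rw [e]
    exact inv_mem ha

/-- the automorphism of the Chevalley group induced by the signed permutation -/
theorem exists_graphAut (D : ChevalleyDatum) (G : GraphData) (h : checkGraphPerm D G = true)
    (hG : ∀ r < D.nroots, checkGraphAt D G r = true) :
    ∃ α : ↥(D.group F) ≃* ↥(D.group F), ∀ g : ↥(D.group F),
      ((α g : ↥(D.group F)) : GL D.Idx F) = gGL D G h F * g * (gGL D G h F)⁻¹ := by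
  set P : GL D.Idx F := gGL D G h F with hP
  have h1 : ∀ g : GL D.Idx F, g ∈ D.group F → P * g * P⁻¹ ∈ D.group F :=
    fun g hg => gGL_conj_mem_group D G h hG g hg
  have h2 : ∀ g : GL D.Idx F, g ∈ D.group F → P⁻¹ * g * P ∈ D.group F :=
    fun g hg => gGL_inv_conj_mem_group D G h hG g hg
  clear_value P
  refine ⟨{ toFun := fun g => ⟨P * g * P⁻¹, h1 g g.2⟩
            invFun := fun g => ⟨P⁻¹ * g * P, h2 g g.2⟩
            left_inv := fun g => Subtype.ext (by
              show P⁻¹ * (P * (g : GL D.Idx F) * P⁻¹) * P = g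
              group)
            right_inv := fun g => Subtype.ext (by
              show P * (P⁻¹ * (g : GL D.Idx F) * P) * P⁻¹ = g
              group)
            map_mul' := fun a b => Subtype.ext (by
              show P * ((a : GL D.Idx F) * b) * P⁻¹ = (P * a * P⁻¹) * (P * b * P⁻¹)
              group) }, fun g => rfl⟩

theorem exists_graphAut_x (D : ChevalleyDatum) (G : GraphData) (h : checkGraphPerm D G = true)
    (hG : ∀ r < D.nroots, checkGraphAt D G r = true) :
    ∃ α : ↥(D.group F) ≃* ↥(D.group F), ∀ (g : ↥(D.group F)) (r : ℕ) (t : F), r < D.nroots →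
      ((g : GL D.Idx F) : Matrix D.Idx D.Idx F) = D.x F r t →
      ((α g : GL D.Idx F) : Matrix D.Idx D.Idx F)
        = D.x F (G.pr.getD r 0) (((G.eps.getD r 1 : ℤ) : F) * t) := by
  obtain ⟨α, hα⟩ := exists_graphAut (F := F) D G h hG
  refine ⟨α, fun g r t hr hg => ?_⟩
  rw [hα g]
  exact gGL_conj D G h hG r hr t g hg

end Cfsg.Agent.Lib.Helper5.ChevSym
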