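import Mathlib
import Cfsg.Prelude.Def_ChevStructure
import Cfsg.Agent.Lib.Helper5.ChevRootSet
import Cfsg.Agent.Lib.Helper5.ChevBnB
import Cfsg.Agent.Lib.Helper5.ChevUCard

set_option autoImplicit false

/-!
Ordered products `∏_{r ∈ L} x_r(t_r)` along a list `L` of roots in which every root normalises the
subgroup generated by its successors: every element of `⟨X_r : r ∈ L⟩` is such a product, and for
a list of all the positive roots over a finite field the expression is unique.
-/

namespace Cfsg.Agent.Lib.Helper5.ChevStruct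

open Cfsg Cfsg.Lie Cfsg.Agent.Lib.Helper5.ChevSym

variable {F : Type*} [Field F]

/-- the ordered product along a list -/
def prodL (D : ChevalleyDatum) (hD : D ∈ Seven) (L : List ℕ) (t : ℕ → F) : GL D.Idx F :=
  wordGL D hD (L.map fun r => (r, t r))

theorem prodL_nil (D : ChevalleyDatum) (hD : D ∈ Seven) (t : ℕ → F) : prodL D hD [] t = 1 := by
  simp [prodL, wordGL]

theorem prodL_cons (D : ChevalleyDatum) (hD : D ∈ Seven) (k : ℕ) (L : List ℕ) (t : ℕ → F) :
    prodL D hD (k :: L) t = xGL D hD k (t k) * prodL D hD L t := by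
  simp [prodL, wordGL]

theorem prodL_append (D : ChevalleyDatum) (hD : D ∈ Seven) (L₁ L₂ : List ℕ) (t : ℕ → F) :
    prodL D hD (L₁ ++ L₂) t = prodL D hD L₁ t * prodL D hD L₂ t := by
  simp [prodL, wordGL]

theorem prodL_congr (D : ChevalleyDatum) (hD : D ∈ Seven) (L : List ℕ) (t t' : ℕ → F)
    (h : ∀ r ∈ L, t r = t' r) : prodL D hD L t = prodL D hD L t' := by
  unfold prodL
  congr 1
  apply List.map_congr_left
  intro r hr
  rw [h r hr]

theorem prodL_mem_rootSetSub (D : ChevalleyDatum) (hD : D ∈ Seven) (L : List ℕ) (t : ℕ → F)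
    (T : Set ℕ) (hT : ∀ r ∈ L, r ∈ T) : prodL D hD L t ∈ rootSetSub D F T := by
  apply wordGL_mem_rootSetSub
  intro q hq
  rw [List.mem_map] at hq
  obtain ⟨r, hr, rfl⟩ := hq
  exact hT r hr

/-- every element of the list normalises the subgroup generated by its successors -/
def checkGoodList (D : ChevalleyDatum) : List ℕ → Bool
  | [] => true
  | k :: post => Nat.blt k D.nroots &&
      (post.all fun s => Nat.blt s D.nroots && !(Nat.beq s k) && !(Nat.beq s (D.neg k)) &&
        (D.commTerms k s).all fun c => memNat c.1 post) && checkGoodList D post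

theorem checkGoodList_cons (D : ChevalleyDatum) (k : ℕ) (post : List ℕ)
    (h : checkGoodList D (k :: post) = true) :
    k < D.nroots ∧ (∀ s ∈ post, s < D.nroots ∧ s ≠ k ∧ s ≠ D.neg k ∧
      ∀ c ∈ D.commTerms k s, c.1 ∈ post) ∧ checkGoodList D post = true := by
  simp only [checkGoodList, Bool.and_eq_true, List.all_eq_true, Nat.blt_eq, Bool.not_eq_true',
    ] at h
  obtain ⟨⟨h1, h2⟩, h3⟩ := h
  refine ⟨h1, fun s hs => ?_, h3⟩
  obtain ⟨⟨⟨h4, h5⟩, h6⟩, h7⟩ := h2 s hs
  refine ⟨h4, ?_, ?_, fun c hc => (memNat_iff _ _).1 (h7 c hc)⟩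
  · intro e
    rw [e] at h5
    have : Nat.beq k k = true := by rw [Nat.beq_eq]
    rw [this] at h5
    exact Bool.noConfusion h5
  · intro e
    rw [e] at h6
    have : Nat.beq (D.neg k) (D.neg k) = true := by rw [Nat.beq_eq]
    rw [this] at h6
    exact Bool.noConfusion h6

/-- existence of the ordered product decomposition -/
theorem exists_prodL (D : ChevalleyDatum) (hD : D ∈ Seven) (L : List ℕ)
    (h : checkGoodList D L = true) (hnd : L.Nodup) (g : GL D.Idx F)
    (hg : g ∈ rootSetSub D F {s | s ∈ L}) : ∃ t : ℕ → F, g = prodL D hD L t := by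
  induction L generalizing g with
  | nil =>
    have : rootSetSub D F {s | s ∈ ([] : List ℕ)} = ⊥ := by
      unfold rootSetSub
      rw [Subgroup.closure_eq_bot_iff]
      rintro x ⟨s, t, hs, -⟩
      simp at hs
    rw [this, Subgroup.mem_bot] at hg
    exact ⟨fun _ => 0, by rw [hg, prodL_nil]⟩
  | cons k post ih =>
    obtain ⟨hk, hpost, hgood⟩ := checkGoodList_cons D k post h
    have hnd' := (List.nodup_cons.1 hnd).2
    have hknot := (List.nodup_cons.1 hnd).1
    have hnorm : D.rootSubgroup F k ≤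
        Subgroup.normalizer (rootSetSub D F {s | s ∈ post} : Set (GL D.Idx F)) :=
      rootSubgroup_le_normalizer_rootSetSub D hD _ k hk hpost
    have hle : rootSetSub D F {s | s ∈ k :: post}
        ≤ D.rootSubgroup F k ⊔ rootSetSub D F {s | s ∈ post} := by
      unfold rootSetSub
      rw [Subgroup.closure_le]
      rintro y ⟨s, t, hs, hy⟩
      rcases List.mem_cons.1 hs with rfl | hs
      · apply Subgroup.mem_sup_left
        exact Subgroup.subset_closure ⟨t, hy⟩
      · apply Subgroup.mem_sup_right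
        exact Subgroup.subset_closure ⟨s, t, hs, hy⟩
    have hg' : g ∈ ((D.rootSubgroup F k ⊔ rootSetSub D F {s | s ∈ post} :
        Subgroup (GL D.Idx F)) : Set (GL D.Idx F)) := hle hg
    rw [Subgroup.coe_mul_of_left_le_normalizer_right _ _ hnorm] at hg'
    obtain ⟨x, hx, u, hu, rfl⟩ := Set.mem_mul.1 hg'
    obtain ⟨t0, ht0⟩ := mem_rootSubgroup D hD _ x hx
    obtain ⟨t, rfl⟩ := ih hgood hnd' u hu
    refine ⟨Function.update t k t0, ?_⟩
    rw [prodL_cons, Function.update_self]
    congr 1
    · exact Units.ext ht0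
    · apply prodL_congr
      intro r hr
      rw [Function.update_of_ne]
      rintro rfl
      exact hknot hr

/-- a list of all the positive roots generates `U` -/
theorem rootSetSub_list_eq_pos (D : ChevalleyDatum) (L : List ℕ)
    (hpos : ∀ r, r ∈ L ↔ D.IsPosRoot r) : rootSetSub D F {s | s ∈ L} = D.posUnipotent F := by
  unfold rootSetSub ChevalleyDatum.posUnipotent
  congr 1
  ext g
  constructor
  · rintro ⟨s, t, hs, hg⟩
    exact ⟨s, t, (hpos s).1 hs, hg⟩
  · rintro ⟨s, t, hs, hg⟩
    exact ⟨s, t, (hpos s).2 hs, hg⟩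

theorem prodL_mem_pos (D : ChevalleyDatum) (hD : D ∈ Seven) (L : List ℕ)
    (hpos : ∀ r, r ∈ L ↔ D.IsPosRoot r) (t : ℕ → F) : prodL D hD L t ∈ D.posUnipotent F := by
  rw [← rootSetSub_list_eq_pos D L hpos]
  exact prodL_mem_rootSetSub D hD L t _ (fun r hr => hr)

/-- uniqueness of the ordered product along a list of all the positive roots (finite fields) -/
theorem prodL_unique [Fintype F] (D : ChevalleyDatum) (hD : D ∈ Seven) (L : List ℕ)
    (h : checkGoodList D L = true) (hnd : L.Nodup) (hpos : ∀ r, r ∈ L ↔ D.IsPosRoot r)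
    (hlen : L.length = D.nroots / 2) (t t' : ℕ → F)
    (e : prodL D hD L t = prodL D hD L t') : ∀ r ∈ L, t r = t' r := by
  classical
  -- the product map on families indexed by the positions
  let ext : (Fin L.length → F) → ℕ → F := fun a r =>
    if hr : r ∈ L then a ⟨L.idxOf r, List.idxOf_lt_length_iff.2 hr⟩ else 0
  obtain ⟨Φ, hΦ⟩ : ∃ Φ : (Fin L.length → F) → ↥(D.posUnipotent F),
      ∀ a, ((Φ a : ↥(D.posUnipotent F)) : GL D.Idx F) = prodL D hD L (ext a) :=
    ⟨fun a => ⟨prodL D hD L (ext a), prodL_mem_pos D hD L hpos _⟩, fun a => rfl⟩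
  have hext : ∀ (s : ℕ → F), ∀ r ∈ L, ext (fun i => s (L.get i)) r = s r := by
    intro s r hr
    simp only [ext, dif_pos hr]
    congr 1
    exact List.getElem_idxOf _
  have hsurj : Function.Surjective Φ := by
    intro g
    have hg : (g : GL D.Idx F) ∈ rootSetSub D F {s | s ∈ L} := by
      rw [rootSetSub_list_eq_pos D L hpos]
      exact g.2
    obtain ⟨s, hs⟩ := exists_prodL D hD L h hnd g.1 hg
    refine ⟨fun i => s (L.get i), ?_⟩
    apply Subtype.ext
    rw [hΦ, hs]
    exact prodL_congr D hD L _ _ (hext s)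
  have hbij : Function.Bijective Φ := by
    have : Finite ↥(D.posUnipotent F) := Finite.of_surjective Φ hsurj
    apply hsurj.bijective_of_nat_card_le
    rw [card_posUnipotent D hD, Nat.card_eq_fintype_card, Fintype.card_fun, Fintype.card_fin, hlen]
  have e' : Φ (fun i => t (L.get i)) = Φ (fun i => t' (L.get i)) := by
    apply Subtype.ext
    rw [hΦ, hΦ, prodL_congr D hD L _ _ (hext t), prodL_congr D hD L _ _ (hext t'), e]
  have e'' := hbij.1 e'
  intro r hr
  have := congrFun e'' ⟨L.idxOf r, List.idxOf_lt_length_iff.2 hr⟩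
  simpa using this

end Cfsg.Agent.Lib.Helper5.ChevStruct
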