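import Mathlib
import Cfsg.Prelude.Def_ChevStructure
import Cfsg.Agent.Lib.Helper5.ChevGraph
import Cfsg.Agent.Lib.Helper5.ChevFieldMap
import Cfsg.Agent.Lib.Helper5.ChevOrdProd

set_option autoImplicit false

/-!
The automorphism `σ = (graph automorphism) ∘ (field endomorphism)` of `GL` attached to a signed
permutation of the Chevalley basis and a ring endomorphism `f` of the field: it maps `x_r(t)` to
`x_{ρ r}(ε_r f(t))`.
-/

namespace Cfsg.Agent.Lib.Helper5.ChevStruct

open Cfsg Cfsg.Lie Cfsg.Agent.Lib.Helper5.ChevSym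

variable {K : Type*} [Field K]

/-- `σ = conj(P) ∘ f` -/
noncomputable def sigma (D : ChevalleyDatum) (G : GraphData) (h : checkGraphPerm D G = true)
    (f : K →+* K) : GL D.Idx K →* GL D.Idx K :=
  (MulAut.conj (gGL D G h K)).toMonoidHom.comp (Matrix.GeneralLinearGroup.map f)

theorem sigma_apply (D : ChevalleyDatum) (G : GraphData) (h : checkGraphPerm D G = true)
    (f : K →+* K) (g : GL D.Idx K) :
    sigma D G h f g = gGL D G h K * Matrix.GeneralLinearGroup.map f g * (gGL D G h K)⁻¹ := rfl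

/-- `σ(x_r(t)) = x_{ρ r}(ε_r f(t))` -/
theorem sigma_xGL (D : ChevalleyDatum) (hD : D ∈ Seven) (G : GraphData)
    (h : checkGraphPerm D G = true) (hG : ∀ r < D.nroots, checkGraphAt D G r = true)
    (f : K →+* K) (r : ℕ) (hr : r < D.nroots) (t : K) :
    sigma D G h f (xGL D hD r t)
      = xGL D hD (G.pr.getD r 0) (((G.eps.getD r 1 : ℤ) : K) * f t) := by
  apply Units.ext
  rw [sigma_apply, gGL_conj D G h hG r hr (f t) _ (by
    rw [glMap_val, xGL_val, x_map]), xGL_val]

/-- `σ` on a word -/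
theorem sigma_wordGL (D : ChevalleyDatum) (hD : D ∈ Seven) (G : GraphData)
    (h : checkGraphPerm D G = true) (hG : ∀ r < D.nroots, checkGraphAt D G r = true)
    (f : K →+* K) (w : List (ℕ × K)) (hw : ∀ p ∈ w, p.1 < D.nroots) :
    sigma D G h f (wordGL D hD w)
      = wordGL D hD (w.map fun p => (G.pr.getD p.1 0, ((G.eps.getD p.1 1 : ℤ) : K) * f p.2)) := by
  induction w with
  | nil => simp [wordGL]
  | cons p w ih =>
    have h1 : wordGL D hD (p :: w) = xGL D hD p.1 p.2 * wordGL D hD w := by simp [wordGL]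
    rw [h1, map_mul, sigma_xGL D hD G h hG f p.1 (hw p (List.mem_cons_self ..)) p.2,
      ih (fun q hq => hw q (List.mem_cons_of_mem _ hq))]
    simp [wordGL]

/-- the fixed points of `σ` -/
noncomputable def sigmaFix (D : ChevalleyDatum) (G : GraphData) (h : checkGraphPerm D G = true)
    (f : K →+* K) : Subgroup (GL D.Idx K) :=
  (sigma D G h f).eqLocus (MonoidHom.id _)

theorem mem_sigmaFix (D : ChevalleyDatum) (G : GraphData) (h : checkGraphPerm D G = true)
    (f : K →+* K) (g : GL D.Idx K) : g ∈ sigmaFix D G h f ↔ sigma D G h f g = g := Iff.rfl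

end Cfsg.Agent.Lib.Helper5.ChevStruct
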