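import Mathlib
import Cfsg.Prelude.Def_ChevStructure
import Cfsg.Agent.Lib.Helper5.ChevTwistDef

set_option autoImplicit false

/-!
The combinatorial data of a twisted group: the orbits of the graph symmetry on the positive roots,
listed in an order in which every root normalises the subgroup generated by its successors, with
tables giving for each positive root its orbit representative, its position in the orbit and the
accumulated sign.  The Boolean checks and what they give.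
-/

namespace Cfsg.Agent.Lib.Helper5.ChevSym

open Cfsg Cfsg.Lie Cfsg.Agent.Lib.Helper5.ChevStruct

/-- the data of a twist -/
structure TwistData where
  D : ChevalleyDatum
  G : GraphData
  m : ℕ
  blocks : List (List ℕ)
  rep : List ℕ
  idx : List ℕ
  sg : List ℤ

namespace TwistData

variable (T : TwistData)

/-- the positive roots in the order of the blocks -/
def L : List ℕ := T.blocks.flatten
def pr (r : ℕ) : ℕ := T.G.pr.getD r 0
def prInv (r : ℕ) : ℕ := T.G.prInv.getD r 0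
def eps (r : ℕ) : ℤ := T.G.eps.getD r 1
def repOf (r : ℕ) : ℕ := T.rep.getD r 0
def idxOf (r : ℕ) : ℕ := T.idx.getD r 0
def sgOf (r : ℕ) : ℤ := T.sg.getD r 1

/-- the list of the positive roots -/
def checkMem : Bool :=
  (List.range T.D.nroots).all fun r => memNat r T.L == Nat.ble (T.D.nroots / 2) r

/-- no repetition in a list of naturals -/
def nodupNat : List ℕ → Bool
  | [] => true
  | x :: xs => !(memNat x xs) && nodupNat xs

theorem nodupNat_iff (l : List ℕ) : nodupNat l = true ↔ l.Nodup := by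
  induction l with
  | nil => simp [nodupNat]
  | cons x xs ih =>
    rw [nodupNat, Bool.and_eq_true, ih, List.nodup_cons, Bool.not_eq_true', ← Bool.not_eq_true,
      memNat_iff]

/-- the tables at a root of the list -/
def checkTblAt (r : ℕ) : Bool :=
  memNat (T.pr r) T.L && Nat.beq (T.repOf (T.pr r)) (T.repOf r) && memNat (T.repOf r) T.L &&
  Nat.beq (T.repOf (T.repOf r)) (T.repOf r) && Nat.beq (T.idxOf (T.repOf r)) 0 &&
  decide (T.sgOf (T.repOf r) = 1) && decide (T.sgOf r * T.sgOf r = 1) &&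
  (bif Nat.beq (T.pr r) (T.repOf r) then
    decide (T.sgOf r * T.eps r = 1) &&
      (Nat.beq (T.idxOf r + 1) T.m || (Nat.beq (T.idxOf r) 0 && decide (T.eps r = 1)))
   else Nat.beq (T.idxOf (T.pr r)) (T.idxOf r + 1) &&
      decide (T.sgOf (T.pr r) = T.sgOf r * T.eps r)) &&
  (bif Nat.beq (T.idxOf r) 0 then Nat.beq r (T.repOf r)
   else Nat.beq (T.pr (T.prInv r)) r && memNat (T.prInv r) T.L &&
      Nat.beq (T.idxOf (T.prInv r) + 1) (T.idxOf r))

/-- a block: its head is the representative of its members, the graph symmetry permutes it, its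
members commute -/
def checkBlock (B : List ℕ) : Bool :=
  match B with
  | [] => false
  | r0 :: _ =>
    (B.all fun r => Nat.beq (T.repOf r) r0 && memNat (T.pr r) B) &&
    (B.all fun a => B.all fun b => Nat.beq a b ||
      ((T.D.commTerms a b).isEmpty && !(Nat.beq b (T.D.neg a))))

/-- all the checks -/
def check : Bool :=
  checkGoodList T.D T.L && nodupNat T.L && Nat.beq T.L.length (T.D.nroots / 2) && T.checkMem &&
  (T.L.all fun r => T.checkTblAt r) && (T.blocks.all fun B => T.checkBlock B)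

/-- what the checks give -/
structure OK : Prop where
  good : checkGoodList T.D T.L = true
  nodup : T.L.Nodup
  length : T.L.length = T.D.nroots / 2
  mem_iff : ∀ r, r < T.D.nroots → (r ∈ T.L ↔ T.D.nroots / 2 ≤ r)
  pr_mem : ∀ r ∈ T.L, T.pr r ∈ T.L
  rep_pr : ∀ r ∈ T.L, T.repOf (T.pr r) = T.repOf r
  rep_mem : ∀ r ∈ T.L, T.repOf r ∈ T.L
  rep_rep : ∀ r ∈ T.L, T.repOf (T.repOf r) = T.repOf r
  idx_rep : ∀ r ∈ T.L, T.idxOf (T.repOf r) = 0
  sg_rep : ∀ r ∈ T.L, T.sgOf (T.repOf r) = 1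
  sg_sq : ∀ r ∈ T.L, T.sgOf r * T.sgOf r = 1
  step : ∀ r ∈ T.L, T.pr r ≠ T.repOf r →
    T.idxOf (T.pr r) = T.idxOf r + 1 ∧ T.sgOf (T.pr r) = T.sgOf r * T.eps r
  close : ∀ r ∈ T.L, T.pr r = T.repOf r →
    T.sgOf r * T.eps r = 1 ∧ (T.idxOf r + 1 = T.m ∨ (T.idxOf r = 0 ∧ T.eps r = 1))
  idx_zero : ∀ r ∈ T.L, T.idxOf r = 0 → r = T.repOf r
  pred : ∀ r ∈ T.L, T.idxOf r ≠ 0 →
    T.pr (T.prInv r) = r ∧ T.prInv r ∈ T.L ∧ T.idxOf (T.prInv r) + 1 = T.idxOf r
  blk_rep : ∀ B ∈ T.blocks, ∃ r0 rest, B = r0 :: rest ∧ ∀ r ∈ B, T.repOf r = r0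
  blk_pr : ∀ B ∈ T.blocks, ∀ r ∈ B, T.pr r ∈ B
  blk_comm : ∀ B ∈ T.blocks, ∀ a ∈ B, ∀ b ∈ B, a ≠ b →
    T.D.commTerms a b = [] ∧ b ≠ T.D.neg a

theorem checkTblAt_spec (r : ℕ) (h : T.checkTblAt r = true) :
    T.pr r ∈ T.L ∧ T.repOf (T.pr r) = T.repOf r ∧ T.repOf r ∈ T.L ∧
    T.repOf (T.repOf r) = T.repOf r ∧ T.idxOf (T.repOf r) = 0 ∧ T.sgOf (T.repOf r) = 1 ∧
    T.sgOf r * T.sgOf r = 1 ∧
    (T.pr r ≠ T.repOf r →
      T.idxOf (T.pr r) = T.idxOf r + 1 ∧ T.sgOf (T.pr r) = T.sgOf r * T.eps r) ∧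
    (T.pr r = T.repOf r →
      T.sgOf r * T.eps r = 1 ∧ (T.idxOf r + 1 = T.m ∨ (T.idxOf r = 0 ∧ T.eps r = 1))) ∧
    (T.idxOf r = 0 → r = T.repOf r) ∧
    (T.idxOf r ≠ 0 →
      T.pr (T.prInv r) = r ∧ T.prInv r ∈ T.L ∧ T.idxOf (T.prInv r) + 1 = T.idxOf r) := by
  unfold checkTblAt at h
  simp only [Bool.and_eq_true, decide_eq_true_eq, memNat_iff, Nat.beq_eq] at h
  obtain ⟨⟨⟨⟨⟨⟨⟨⟨h1, h2⟩, h3⟩, h4⟩, h5⟩, h6⟩, h7⟩, h8⟩, h9⟩ := h
  refine ⟨h1, h2, h3, h4, h5, h6, h7, ?_, ?_, ?_, ?_⟩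
  · intro hne
    have : Nat.beq (T.pr r) (T.repOf r) = false := by
      rw [← Bool.not_eq_true, Nat.beq_eq]; exact hne
    rw [this, cond_false] at h8
    simp only [Bool.and_eq_true, decide_eq_true_eq, Nat.beq_eq] at h8
    exact h8
  · intro he
    have : Nat.beq (T.pr r) (T.repOf r) = true := by rw [Nat.beq_eq]; exact he
    rw [this, cond_true] at h8
    simp only [Bool.and_eq_true, Bool.or_eq_true, decide_eq_true_eq, Nat.beq_eq] at h8
    exact h8
  · intro h0
    have : Nat.beq (T.idxOf r) 0 = true := by rw [Nat.beq_eq]; exact h0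
    rw [this, cond_true, Nat.beq_eq] at h9
    exact h9
  · intro h0
    have : Nat.beq (T.idxOf r) 0 = false := by
      rw [← Bool.not_eq_true, Nat.beq_eq]; exact h0
    rw [this, cond_false] at h9
    simp only [Bool.and_eq_true, memNat_iff, Nat.beq_eq] at h9
    exact ⟨h9.1.1, h9.1.2, h9.2⟩

theorem checkBlock_spec (B : List ℕ) (h : T.checkBlock B = true) :
    (∃ r0 rest, B = r0 :: rest ∧ ∀ r ∈ B, T.repOf r = r0) ∧ (∀ r ∈ B, T.pr r ∈ B) ∧
    (∀ a ∈ B, ∀ b ∈ B, a ≠ b → T.D.commTerms a b = [] ∧ b ≠ T.D.neg a) := by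
  cases B with
  | nil => simp [checkBlock] at h
  | cons r0 rest =>
    simp only [checkBlock, Bool.and_eq_true, List.all_eq_true, Nat.beq_eq, memNat_iff,
      Bool.or_eq_true, Bool.not_eq_true', List.isEmpty_iff] at h
    obtain ⟨h1, h2⟩ := h
    refine ⟨⟨r0, rest, rfl, fun r hr => (h1 r hr).1⟩, fun r hr => (h1 r hr).2, ?_⟩
    intro a ha b hb hab
    rcases h2 a ha b hb with h3 | h3
    · exact absurd h3 hab
    · refine ⟨h3.1, fun e => ?_⟩
      have h4 := h3.2
      rw [e] at h4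
      have : Nat.beq (T.D.neg a) (T.D.neg a) = true := by rw [Nat.beq_eq]
      rw [this] at h4
      exact Bool.noConfusion h4

theorem ok_of_check (h : T.check = true) : T.OK := by
  unfold check at h
  simp only [Bool.and_eq_true, List.all_eq_true, Nat.beq_eq] at h
  obtain ⟨⟨⟨⟨⟨h1, h2⟩, h3⟩, h4⟩, h5⟩, h6⟩ := h
  have hmem : ∀ r, r < T.D.nroots → (r ∈ T.L ↔ T.D.nroots / 2 ≤ r) := by
    intro r hr
    unfold checkMem at h4
    rw [List.all_eq_true] at h4
    have := h4 r (List.mem_range.2 hr)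
    rw [beq_iff_eq] at this
    rw [← memNat_iff, this, Nat.ble_eq]
  exact {
    good := h1
    nodup := (nodupNat_iff _).1 h2
    length := h3
    mem_iff := hmem
    pr_mem := fun r hr => (T.checkTblAt_spec r (h5 r hr)).1
    rep_pr := fun r hr => (T.checkTblAt_spec r (h5 r hr)).2.1
    rep_mem := fun r hr => (T.checkTblAt_spec r (h5 r hr)).2.2.1
    rep_rep := fun r hr => (T.checkTblAt_spec r (h5 r hr)).2.2.2.1
    idx_rep := fun r hr => (T.checkTblAt_spec r (h5 r hr)).2.2.2.2.1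
    sg_rep := fun r hr => (T.checkTblAt_spec r (h5 r hr)).2.2.2.2.2.1
    sg_sq := fun r hr => (T.checkTblAt_spec r (h5 r hr)).2.2.2.2.2.2.1
    step := fun r hr => (T.checkTblAt_spec r (h5 r hr)).2.2.2.2.2.2.2.1
    close := fun r hr => (T.checkTblAt_spec r (h5 r hr)).2.2.2.2.2.2.2.2.1
    idx_zero := fun r hr => (T.checkTblAt_spec r (h5 r hr)).2.2.2.2.2.2.2.2.2.1
    pred := fun r hr => (T.checkTblAt_spec r (h5 r hr)).2.2.2.2.2.2.2.2.2.2
    blk_rep := fun B hB => (T.checkBlock_spec B (h6 B hB)).1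
    blk_pr := fun B hB => (T.checkBlock_spec B (h6 B hB)).2.1
    blk_comm := fun B hB => (T.checkBlock_spec B (h6 B hB)).2.2 }

end TwistData

end Cfsg.Agent.Lib.Helper5.ChevSym
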