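import Mathlib
import Cfsg.Prelude.Def_ChevStructure
import Cfsg.Agent.Lib.Helper5.ChevTwistChk

set_option autoImplicit false

/-!
The action of `σ` on the ordered products `∏ x_r(t_r)` along the blocks of a twist datum, and the
description of the fixed points: `σ(∏ x_r(t_r)) = ∏ x_r(t'_r)` with `t'_{ρ r} = ε_r f(t_r)`.
-/

namespace Cfsg.Agent.Lib.Helper5.ChevStruct

open Cfsg Cfsg.Lie Cfsg.Agent.Lib.Helper5.ChevSym

variable {K : Type*} [Field K]

theorem checkGoodList_lt (D : ChevalleyDatum) (L : List ℕ) (h : checkGoodList D L = true) :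
    ∀ r ∈ L, r < D.nroots := by
  induction L with
  | nil => intro r hr; simp at hr
  | cons k post ih =>
    obtain ⟨hk, -, hgood⟩ := checkGoodList_cons D k post h
    intro r hr
    rcases List.mem_cons.1 hr with rfl | hr
    · exact hk
    · exact ih hgood r hr

/-- `ρ⁻¹ ρ r = r` -/
theorem prInv_pr (D : ChevalleyDatum) (G : GraphData) (h : checkGraphPerm D G = true) (r : ℕ)
    (hr : r < D.nroots) : G.prInv.getD (G.pr.getD r 0) 0 = r := by
  obtain ⟨h1, h2, h3⟩ := checkGraphPerm_root D G h r hr
  obtain ⟨h4, h5, h6⟩ := checkGraphPerm_root D G h _ h1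
  -- `ρ (ρ⁻¹ (ρ r)) = ρ r` and `ρ` is injective
  have e := gPi_inj D G h (D.rank + G.prInv.getD (G.pr.getD r 0) 0) (D.rank + r) (by omega)
    (by omega) (by
      unfold gPi
      rw [cond_blt_neg (by omega), cond_blt_neg (by omega)]
      simp only [Nat.add_eq, Nat.sub_eq]
      have e1 : D.rank + G.prInv.getD (G.pr.getD r 0) 0 - D.rank
          = G.prInv.getD (G.pr.getD r 0) 0 := by omega
      have e2 : D.rank + r - D.rank = r := by omega
      rw [e1, e2, h6])
  omega

section

variable (T : TwistData) (hT : T.OK) (hD : T.D ∈ Seven)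
  (hp : checkGraphPerm T.D T.G = true)
  (hG : ∀ r < T.D.nroots, checkGraphAt T.D T.G r = true) (f : K →+* K)

include hT in
theorem mem_L_lt (r : ℕ) (hr : r ∈ T.L) : r < T.D.nroots :=
  checkGoodList_lt T.D T.L hT.good r hr

include hT hD in
theorem mem_L_iff (r : ℕ) : r ∈ T.L ↔ T.D.IsPosRoot r := by
  rw [isPosRoot_iff T.D hD r]
  constructor
  · intro h
    have hlt := mem_L_lt T hT r h
    exact ⟨(hT.mem_iff r hlt).1 h, hlt⟩
  · rintro ⟨h1, h2⟩
    exact (hT.mem_iff r h2).2 h1

/-- the family `t'` with `σ(∏ x_r(t_r)) = ∏ x_r(t'_r)` -/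
def sigT (t : ℕ → K) : ℕ → K := fun s => ((T.eps (T.prInv s) : ℤ) : K) * f (t (T.prInv s))

theorem block_sub_L (B : List ℕ) (hB : B ∈ T.blocks) : ∀ r ∈ B, r ∈ T.L := by
  intro r hr
  unfold TwistData.L
  rw [List.mem_flatten]
  exact ⟨B, hB, hr⟩

include hT in
theorem block_nodup (B : List ℕ) (hB : B ∈ T.blocks) : B.Nodup := by
  have := hT.nodup
  unfold TwistData.L at this
  rw [List.nodup_flatten] at this
  exact this.1 B hB

include hT hp in
/-- `ρ` permutes a block -/
theorem block_map_pr_perm (B : List ℕ) (hB : B ∈ T.blocks) : (B.map T.pr).Perm B := by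
  have hnd := block_nodup T hT B hB
  have hinj : ∀ a ∈ B, ∀ b ∈ B, T.pr a = T.pr b → a = b := by
    intro a ha b hb e
    have ha' := mem_L_lt T hT a (block_sub_L T B hB a ha)
    have hb' := mem_L_lt T hT b (block_sub_L T B hB b hb)
    have := congrArg (fun x => T.G.prInv.getD x 0) e
    simp only [TwistData.pr] at this
    rwa [prInv_pr T.D T.G hp a ha', prInv_pr T.D T.G hp b hb'] at this
  have hnd' : (B.map T.pr).Nodup := List.Nodup.map_on hinj hnd
  have hsub : B.map T.pr ⊆ B := by
    intro x hx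
    rw [List.mem_map] at hx
    obtain ⟨r, hr, rfl⟩ := hx
    exact hT.blk_pr B hB r hr
  exact (List.subperm_of_subset hnd' hsub).perm_of_length_le (by rw [List.length_map])

include hT hD in
/-- the root elements of a block commute -/
theorem block_commute (B : List ℕ) (hB : B ∈ T.blocks) (a b : ℕ) (ha : a ∈ B) (hb : b ∈ B)
    (s u : K) : Commute (xGL T.D hD a s) (xGL T.D hD b u) := by
  by_cases hab : a = b
  · subst hab
    show xGL T.D hD a s * xGL T.D hD a u = xGL T.D hD a u * xGL T.D hD a s
    apply Units.ext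
    rw [Units.val_mul, Units.val_mul, xGL_val, xGL_val, x_add T.D hD, x_add T.D hD, add_comm]
  · obtain ⟨h1, h2⟩ := hT.blk_comm B hB a ha b hb hab
    have ha' := mem_L_lt T hT a (block_sub_L T B hB a ha)
    have hb' := mem_L_lt T hT b (block_sub_L T B hB b hb)
    have := comm_formula T.D hD a b ha' hb' (fun e => hab e.symm) h2 s u
    unfold ChevalleyDatum.commWord at this
    rw [h1, List.map_nil] at this
    simp only [ChevalleyDatum.wordMat, List.map_nil, List.prod_nil, mul_one] at this
    show xGL T.D hD a s * xGL T.D hD b u = xGL T.D hD b u * xGL T.D hD a s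
    apply Units.ext
    rw [Units.val_mul, Units.val_mul, xGL_val, xGL_val, this]

include hT hp hG in
/-- `σ` on the ordered product along a block -/
theorem sigma_prodL_block (B : List ℕ) (hB : B ∈ T.blocks) (t : ℕ → K) :
    sigma T.D T.G hp f (prodL T.D hD B t) = prodL T.D hD B (sigT T f t) := by
  have hlt : ∀ r ∈ B, r < T.D.nroots := fun r hr =>
    mem_L_lt T hT r (block_sub_L T B hB r hr)
  unfold prodL
  rw [sigma_wordGL T.D hD T.G hp hG f _ (by
    intro q hq
    rw [List.mem_map] at hq
    obtain ⟨r, hr, rfl⟩ := hq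
    exact hlt r hr)]
  rw [List.map_map]
  -- rewrite the image word as the word of `sigT t` along `B.map ρ`
  have e1 : B.map ((fun p : ℕ × K => (T.G.pr.getD p.1 0, ((T.G.eps.getD p.1 1 : ℤ) : K) * f p.2)) ∘
      fun r => (r, t r)) = (B.map T.pr).map fun s => (s, sigT T f t s) := by
    rw [List.map_map]
    apply List.map_congr_left
    intro r hr
    simp only [Function.comp, sigT, TwistData.pr, TwistData.prInv, TwistData.eps]
    rw [prInv_pr T.D T.G hp r (hlt r hr)]
  rw [e1]
  unfold wordGL
  have e2 : ((B.map T.pr).map fun s => (s, sigT T f t s)).map (fun p => xGL T.D hD p.1 p.2)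
      = (B.map T.pr).map (fun s => xGL T.D hD s (sigT T f t s)) := by
    rw [List.map_map]; rfl
  have e3 : (B.map fun r => (r, sigT T f t r)).map (fun p => xGL T.D hD p.1 p.2)
      = B.map (fun s => xGL T.D hD s (sigT T f t s)) := by
    rw [List.map_map]; rfl
  rw [e2, e3]
  apply List.Perm.prod_eq'
  · exact (block_map_pr_perm T hT hp B hB).map _
  · rw [List.pairwise_map]
    apply List.pairwise_of_forall_mem_list
    intro x hx y hy
    rw [List.mem_map] at hx hy
    obtain ⟨x', hx', rfl⟩ := hx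
    obtain ⟨y', hy', rfl⟩ := hy
    exact block_commute T hT hD B hB _ _ (hT.blk_pr B hB x' hx') (hT.blk_pr B hB y' hy') _ _

include hT hp hG in
theorem sigma_prodL_blocks (Bs : List (List ℕ)) (hBs : ∀ B ∈ Bs, B ∈ T.blocks) (t : ℕ → K) :
    sigma T.D T.G hp f (prodL T.D hD Bs.flatten t) = prodL T.D hD Bs.flatten (sigT T f t) := by
  induction Bs with
  | nil => simp [prodL_nil]
  | cons B Bs ih =>
    rw [List.flatten_cons, prodL_append, prodL_append, map_mul,
      sigma_prodL_block T hT hD hp hG f B (hBs B (List.mem_cons_self ..)) t,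
      ih (fun B' hB' => hBs B' (List.mem_cons_of_mem _ hB'))]

include hT hp hG in
/-- `σ(∏ x_r(t_r)) = ∏ x_r(t'_r)` -/
theorem sigma_prodL (t : ℕ → K) :
    sigma T.D T.G hp f (prodL T.D hD T.L t) = prodL T.D hD T.L (sigT T f t) :=
  sigma_prodL_blocks T hT hD hp hG f T.blocks (fun _ h => h) t

include hT hp hG in
/-- the fixed products -/
theorem prodL_fixed_iff [Fintype K] (t : ℕ → K) :
    prodL T.D hD T.L t ∈ sigmaFix T.D T.G hp f ↔ ∀ r ∈ T.L, sigT T f t r = t r := by
  rw [mem_sigmaFix, sigma_prodL T hT hD hp hG f t]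
  constructor
  · intro e
    exact prodL_unique T.D hD T.L hT.good hT.nodup (mem_L_iff T hT hD) hT.length _ _ e
  · intro h
    exact prodL_congr T.D hD T.L _ _ h

include hT hp hG in
/-- the block factors of a fixed product are fixed -/
theorem block_fixed (t : ℕ → K) (ht : ∀ r ∈ T.L, sigT T f t r = t r) (B : List ℕ)
    (hB : B ∈ T.blocks) : prodL T.D hD B t ∈ sigmaFix T.D T.G hp f := by
  rw [mem_sigmaFix, sigma_prodL_block T hT hD hp hG f B hB t]
  exact prodL_congr T.D hD B _ _ (fun r hr => ht r (block_sub_L T B hB r hr))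

omit [Field K] in
theorem prodL_eq_one (D : ChevalleyDatum) (hD : D ∈ Seven) {F : Type*} [Field F] (L : List ℕ)
    (t : ℕ → F) (h : ∀ r ∈ L, t r = 0) : prodL D hD L t = 1 := by
  induction L with
  | nil => exact prodL_nil D hD t
  | cons k L ih =>
    rw [prodL_cons, ih (fun r hr => h r (List.mem_cons_of_mem _ hr)),
      h k (List.mem_cons_self ..), mul_one]
    apply Units.ext
    rw [xGL_val, x_at_zero, Units.val_one]

include hT hp in
/-- `ρ⁻¹` preserves a block -/
theorem prInv_mem_block (B : List ℕ) (hB : B ∈ T.blocks) (r : ℕ) (hr : r ∈ B) :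
    T.prInv r ∈ B := by
  have h1 : r ∈ B.map T.pr := (block_map_pr_perm T hT hp B hB).symm.subset hr
  rw [List.mem_map] at h1
  obtain ⟨s, hs, rfl⟩ := h1
  have hs' := mem_L_lt T hT s (block_sub_L T B hB s hs)
  have : T.prInv (T.pr s) = s := prInv_pr T.D T.G hp s hs'
  rw [this]
  exact hs

include hT hp hG in
/-- a fixed product along a block has compatible parameters -/
theorem block_fixed_compat [Fintype K] (B : List ℕ) (hB : B ∈ T.blocks)
    (t : ℕ → K) (h : prodL T.D hD B t ∈ sigmaFix T.D T.G hp f) :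
    ∀ r ∈ B, sigT T f t r = t r := by
  classical
  -- extend by zero
  let t' : ℕ → K := fun r => if r ∈ B then t r else 0
  obtain ⟨Bs1, Bs2, hBs⟩ := List.append_of_mem hB
  have hL : T.L = Bs1.flatten ++ (B ++ Bs2.flatten) := by
    unfold TwistData.L
    rw [hBs, List.flatten_append, List.flatten_cons]
  have hnd := hT.nodup
  rw [hL] at hnd
  have hd1 : ∀ r ∈ Bs1.flatten, r ∉ B := by
    intro r hr hrB
    exact (List.nodup_append.1 hnd).2.2 r hr r (List.mem_append_left _ hrB) rfl
  have hd2 : ∀ r ∈ Bs2.flatten, r ∉ B := by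
    intro r hr hrB
    exact (List.nodup_append.1 (List.nodup_append.1 hnd).2.1).2.2 r hrB r hr rfl
  have e1 : prodL T.D hD T.L t' = prodL T.D hD B t := by
    rw [hL, prodL_append, prodL_append,
      prodL_eq_one T.D hD Bs1.flatten t' (fun r hr => if_neg (hd1 r hr)),
      prodL_eq_one T.D hD Bs2.flatten t' (fun r hr => if_neg (hd2 r hr)), one_mul, mul_one]
    exact prodL_congr T.D hD B _ _ (fun r hr => if_pos hr)
  rw [← e1, prodL_fixed_iff T hT hD hp hG f t'] at h
  intro r hr
  have h1 := h r (block_sub_L T B hB r hr)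
  have h2 : t' r = t r := if_pos hr
  have h3 : sigT T f t' r = sigT T f t r := by
    unfold sigT
    have : t' (T.prInv r) = t (T.prInv r) := if_pos (prInv_mem_block T hT hp B hB r hr)
    rw [this]
  rw [← h3, h1, h2]

end

end Cfsg.Agent.Lib.Helper5.ChevStruct
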