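import Mathlib
import Cfsg.Prelude.Def_ChevStructure
import Cfsg.Agent.Lib.Helper5.ChevTwistU

set_option autoImplicit false

/-!
The parametrisation of the `σ`-fixed points of `U` by the values at the orbit representatives, and
their number.
-/

namespace Cfsg.Agent.Lib.Helper5.ChevStruct

open Cfsg Cfsg.Lie Cfsg.Agent.Lib.Helper5.ChevSym

variable {K : Type*} [Field K]

section

variable (T : TwistData) (hT : T.OK) (hD : T.D ∈ Seven)
  (hp : checkGraphPerm T.D T.G = true)
  (hG : ∀ r < T.D.nroots, checkGraphAt T.D T.G r = true) (f : K →+* K)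

/-- the compatibility of a family of parameters with `σ` -/
def Compat (t : ℕ → K) : Prop := ∀ s ∈ T.L, t (T.pr s) = ((T.eps s : ℤ) : K) * f (t s)

include hT hp in
theorem prInv_mem_L (r : ℕ) (hr : r ∈ T.L) : T.prInv r ∈ T.L := by
  have hr' := hr
  unfold TwistData.L at hr'
  rw [List.mem_flatten] at hr'
  obtain ⟨B, hB, hrB⟩ := hr'
  exact block_sub_L T B hB _ (prInv_mem_block T hT hp B hB r hrB)

include hT hp in
theorem compat_iff (t : ℕ → K) : (∀ r ∈ T.L, sigT T f t r = t r) ↔ Compat T f t := by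
  constructor
  · intro h s hs
    have h1 := h (T.pr s) (hT.pr_mem s hs)
    unfold sigT at h1
    have h2 : T.prInv (T.pr s) = s := prInv_pr T.D T.G hp s (mem_L_lt T hT s hs)
    rw [h2] at h1
    exact h1.symm
  · intro h r hr
    have hs := prInv_mem_L T hT hp r hr
    have h1 := h (T.prInv r) hs
    have h2 : T.pr (T.prInv r) = r := (checkGraphPerm_root T.D T.G hp r (mem_L_lt T hT r hr)).2.2
    rw [h2] at h1
    unfold sigT
    exact h1.symm

/-- the family determined by its values at the representatives -/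
def param (a : ℕ → K) (r : ℕ) : K :=
  ((T.sgOf r : ℤ) : K) * (f ^ T.idxOf r) (a (T.repOf r))

include hT hp in
theorem sing_rep (r : ℕ) (hr : r ∈ T.L) (h : T.pr r = r) : T.repOf r = r ∧ T.eps r = 1 := by
  have h1 : T.repOf r = r := by
    by_cases h0 : T.idxOf r = 0
    · exact (hT.idx_zero r hr h0).symm
    · obtain ⟨-, -, h4⟩ := hT.pred r hr h0
      have h5 : T.prInv (T.pr r) = r := prInv_pr T.D T.G hp r (mem_L_lt T hT r hr)
      rw [h] at h5
      rw [h5] at h4
      omega
  refine ⟨h1, ?_⟩
  obtain ⟨h2, -⟩ := hT.close r hr (by rw [h, h1])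
  have h3 := hT.sg_rep r hr
  rw [h1] at h3
  rw [h3, one_mul] at h2
  exact h2

include hT in
theorem param_rep (a : ℕ → K) (r : ℕ) (hr : r ∈ T.L) (h : T.repOf r = r) :
    param T f a r = a r := by
  have h1 := hT.idx_rep r hr
  have h2 := hT.sg_rep r hr
  rw [h] at h1 h2
  unfold param
  rw [h1, h2, h, pow_zero]
  simp

include hT in
theorem param_compat (hf : ∀ x, (f ^ T.m) x = x) (a : ℕ → K)
    (hsing : ∀ r ∈ T.L, T.pr r = r → f (a r) = a r) : Compat T f (param T f a) := by
  intro s hs
  by_cases h : T.pr s = T.repOf s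
  · obtain ⟨h1, h2⟩ := hT.close s hs h
    rw [h, param_rep T hT f a _ (hT.rep_mem s hs) (hT.rep_rep s hs)]
    unfold param
    rw [map_mul, map_intCast, ← mul_assoc, ← Int.cast_mul, mul_comm (T.eps s), h1, Int.cast_one,
      one_mul]
    have e : f ((f ^ T.idxOf s) (a (T.repOf s))) = (f ^ (T.idxOf s + 1)) (a (T.repOf s)) := by
      rw [pow_succ']; rfl
    rw [e]
    rcases h2 with h2 | ⟨h2, -⟩
    · rw [h2, hf]
    · have h3 := hT.idx_zero s hs h2
      rw [h2, zero_add, pow_one, ← h3]
      rw [← h3] at h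
      exact (hsing s hs h).symm
  · obtain ⟨h1, h2⟩ := hT.step s hs h
    unfold param
    rw [h1, h2, hT.rep_pr s hs, map_mul, map_intCast, ← mul_assoc, ← Int.cast_mul,
      mul_comm (T.eps s)]
    congr 1
    rw [pow_succ']; rfl

include hT in
theorem compat_param_eq (t : ℕ → K) (ht : Compat T f t) :
    ∀ n, ∀ r ∈ T.L, T.idxOf r = n → t r = param T f t r := by
  intro n
  induction n with
  | zero =>
    intro r hr h0
    rw [param_rep T hT f t r hr (hT.idx_zero r hr h0).symm]
  | succ n ih =>
    intro r hr hn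
    obtain ⟨h1, h2, h3⟩ := hT.pred r hr (by omega)
    have h4 := ih (T.prInv r) h2 (by omega)
    have h5 := ht (T.prInv r) h2
    rw [h1] at h5
    have hne : T.pr (T.prInv r) ≠ T.repOf (T.prInv r) := by
      intro e
      rw [h1] at e
      have := hT.idx_rep (T.prInv r) h2
      rw [← e] at this
      omega
    obtain ⟨h6, h7⟩ := hT.step (T.prInv r) h2 hne
    have h8 := hT.rep_pr (T.prInv r) h2
    rw [h1] at h6 h7 h8
    rw [h5, h4]
    unfold param
    rw [h6, h7, h8, map_mul, map_intCast, ← mul_assoc, ← Int.cast_mul,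
      mul_comm (T.eps (T.prInv r))]
    congr 1
    rw [pow_succ']; rfl

include hT hp in
theorem compat_sing (t : ℕ → K) (ht : Compat T f t) (r : ℕ) (hr : r ∈ T.L) (h : T.pr r = r) :
    f (t r) = t r := by
  have h1 := ht r hr
  rw [h, (sing_rep T hT hp r hr h).2] at h1
  simpa using h1.symm

/-- the orbit representatives -/
def repList : List ℕ := T.L.filter fun r => decide (T.repOf r = r)

theorem mem_repList (r : ℕ) : r ∈ repList T ↔ r ∈ T.L ∧ T.repOf r = r := by
  unfold repList
  rw [List.mem_filter, decide_eq_true_eq]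

include hT in
theorem repList_nodup : (repList T).Nodup := hT.nodup.filter _

include hT hD hp hG in
/-- the number of `σ`-fixed points of `U` -/
theorem card_pos_fix [Fintype K] (hf : ∀ x, (f ^ T.m) x = x) :
    Nat.card ↥(T.D.posUnipotent K ⊓ sigmaFix T.D T.G hp f) =
      ((repList T).map fun r =>
        if T.pr r = r then Nat.card {x : K // f x = x} else Nat.card K).prod := by
  classical
  obtain ⟨Rl, hRl⟩ : ∃ Rl, Rl = repList T := ⟨_, rfl⟩
  have hRnd : Rl.Nodup := by rw [hRl]; exact repList_nodup T hT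
  have hRmem : ∀ r, r ∈ Rl ↔ r ∈ T.L ∧ T.repOf r = r := by rw [hRl]; exact mem_repList T
  rw [← hRl]
  let A := ∀ i : Fin Rl.length, {x : K // T.pr (Rl.get i) = Rl.get i → f x = x}
  let ext : A → ℕ → K := fun a r =>
    if h : r ∈ Rl then (a ⟨Rl.idxOf r, List.idxOf_lt_length_iff.2 h⟩).1 else 0
  have hext_get : ∀ (a : A) (i : Fin Rl.length), ext a (Rl.get i) = (a i).1 := by
    intro a i
    have hmem : Rl.get i ∈ Rl := List.get_mem _ _
    simp only [ext, dif_pos hmem]
    have : (⟨Rl.idxOf (Rl.get i), List.idxOf_lt_length_iff.2 hmem⟩ : Fin Rl.length) = i := by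
      apply Fin.ext
      exact hRnd.idxOf_getElem i.1 i.2
    rw [this]
  have hsing : ∀ (a : A), ∀ r ∈ T.L, T.pr r = r → f (ext a r) = ext a r := by
    intro a r hr h
    by_cases hm : r ∈ Rl
    · simp only [ext, dif_pos hm]
      apply (a ⟨_, _⟩).2
      have : Rl.get ⟨Rl.idxOf r, List.idxOf_lt_length_iff.2 hm⟩ = r := List.getElem_idxOf _
      rw [this]
      exact h
    · simp only [ext, dif_neg hm, map_zero]
  have hcompat : ∀ a : A, Compat T f (param T f (ext a)) :=
    fun a => param_compat T hT f hf _ (hsing a)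
  have hmemΨ : ∀ a : A, prodL T.D hD T.L (param T f (ext a)) ∈
      T.D.posUnipotent K ⊓ sigmaFix T.D T.G hp f := by
    intro a
    refine ⟨prodL_mem_pos T.D hD T.L (mem_L_iff T hT hD) _, ?_⟩
    show _ ∈ sigmaFix T.D T.G hp f
    rw [prodL_fixed_iff T hT hD hp hG f, compat_iff T hT hp f]
    exact hcompat a
  let Ψ : A → ↥(T.D.posUnipotent K ⊓ sigmaFix T.D T.G hp f) := fun a => ⟨_, hmemΨ a⟩
  have hinj : Function.Injective Ψ := by
    intro a a' e
    have e1 : prodL T.D hD T.L (param T f (ext a)) = prodL T.D hD T.L (param T f (ext a')) :=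
      congrArg Subtype.val e
    have e2 := prodL_unique T.D hD T.L hT.good hT.nodup (mem_L_iff T hT hD) hT.length _ _ e1
    funext i
    apply Subtype.ext
    have hi : Rl.get i ∈ Rl := List.get_mem _ _
    obtain ⟨hiL, hirep⟩ := (hRmem _).1 hi
    have := e2 _ hiL
    rw [param_rep T hT f _ _ hiL hirep, param_rep T hT f _ _ hiL hirep, hext_get, hext_get]
      at this
    exact this
  have hsurj : Function.Surjective Ψ := by
    rintro ⟨u, hu1, hu2⟩
    have hg : u ∈ rootSetSub T.D K {s | s ∈ T.L} := by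
      rw [rootSetSub_list_eq_pos T.D T.L (mem_L_iff T hT hD)]; exact hu1
    obtain ⟨t, rfl⟩ := exists_prodL T.D hD T.L hT.good hT.nodup u hg
    replace hu2 : prodL T.D hD T.L t ∈ sigmaFix T.D T.G hp f := hu2
    rw [prodL_fixed_iff T hT hD hp hG f, compat_iff T hT hp f] at hu2
    let a0 : A := fun i => ⟨t (Rl.get i), fun h =>
      compat_sing T hT hp f t hu2 _ ((hRmem _).1 (List.get_mem _ _)).1 h⟩
    refine ⟨a0, ?_⟩
    apply Subtype.ext
    show prodL T.D hD T.L (param T f (ext a0)) = prodL T.D hD T.L t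
    apply prodL_congr
    intro r hr
    rw [compat_param_eq T hT f t hu2 _ r hr rfl]
    unfold param
    congr 2
    have hm : T.repOf r ∈ Rl := (hRmem _).2 ⟨hT.rep_mem r hr, hT.rep_rep r hr⟩
    simp only [ext, dif_pos hm, a0]
    have : Rl.get ⟨Rl.idxOf (T.repOf r), List.idxOf_lt_length_iff.2 hm⟩ = T.repOf r :=
      List.getElem_idxOf _
    rw [this]
  rw [← Nat.card_congr (Equiv.ofBijective Ψ ⟨hinj, hsurj⟩), Nat.card_pi]
  have hc : ∀ i : Fin Rl.length,
      Nat.card {x : K // T.pr (Rl.get i) = Rl.get i → f x = x}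
        = (fun r => if T.pr r = r then Nat.card {x : K // f x = x} else Nat.card K)
            (Rl.get i) := by
    intro i
    by_cases h : T.pr (Rl.get i) = Rl.get i
    · simp only [if_pos h]
      apply Nat.card_congr
      exact Equiv.subtypeEquivRight (fun x => ⟨fun hx => hx h, fun hx _ => hx⟩)
    · simp only [if_neg h]
      apply Nat.card_congr
      exact (Equiv.subtypeEquivRight (fun x => ⟨fun _ => trivial, fun _ hx => absurd hx h⟩)).trans
        (Equiv.subtypeUnivEquiv (fun _ => trivial))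
  rw [Finset.prod_congr rfl (fun i _ => hc i), ← List.prod_ofFn]
  congr 1
  exact List.ofFn_getElem_eq_map Rl
    (fun r => if T.pr r = r then Nat.card {x : K // f x = x} else Nat.card K)

end

end Cfsg.Agent.Lib.Helper5.ChevStruct
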