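import Mathlib
import Cfsg.Prelude.Def_ChevStructure
import Cfsg.Agent.Lib.Helper5.ChevTwistCount
import Cfsg.Agent.Lib.Helper5.ChevWCount

set_option autoImplicit false

/-!
The `σ`-fixed points of `U` lie in the subgroup generated by the fixed points of the root subgroups
of the orbits of fundamental roots: every block of positive roots is reached from such an orbit by
the elements `n_J`.
-/

namespace Cfsg.Agent.Lib.Helper5.ChevSym

open Cfsg Cfsg.Lie

/-- one edge `(J, a, b)`: the word `J` maps the block number `a` into the block number `b` -/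
def edgeOKB (T : TwistData) (e : List ℕ × ℕ × ℕ) : Bool :=
  (e.1.all fun i => Nat.blt i T.D.rank) &&
  Nat.blt e.2.1 T.blocks.length && Nat.blt e.2.2 T.blocks.length &&
  Nat.ble (T.blocks.getD e.2.2 []).length (T.blocks.getD e.2.1 []).length &&
  (T.blocks.getD e.2.1 []).all fun r => memNat (wAct T.D e.1 r) (T.blocks.getD e.2.2 [])

/-- follow the edges -/
def growB (T : TwistData) : List (List ℕ × ℕ × ℕ) → List ℕ → Option (List ℕ)
  | [], acc => some acc
  | e :: es, acc => if edgeOKB T e && memNat e.2.1 acc then growB T es (e.2.2 :: acc) else none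

/-- the edges reach every block from the base blocks -/
def checkForestB (T : TwistData) (base : List ℕ) (edges : List (List ℕ × ℕ × ℕ)) : Bool :=
  match growB T edges base with
  | some acc => (List.range T.blocks.length).all fun i => memNat i acc
  | none => false

theorem growB_invariant (T : TwistData) (P : List ℕ → Prop) (edges : List (List ℕ × ℕ × ℕ))
    (hstep : ∀ e ∈ edges, edgeOKB T e = true →
      P (T.blocks.getD e.2.1 []) → P (T.blocks.getD e.2.2 [])) :
    ∀ acc acc', (∀ i ∈ acc, P (T.blocks.getD i [])) → growB T edges acc = some acc' →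
      ∀ i ∈ acc', P (T.blocks.getD i []) := by
  induction edges with
  | nil =>
    intro acc acc' h0 hg
    simp only [growB, Option.some.injEq] at hg
    rw [← hg]; exact h0
  | cons e es ih =>
    intro acc acc' h0 hg
    rw [growB] at hg
    split at hg
    · rename_i hc
      rw [Bool.and_eq_true, memNat_iff] at hc
      refine ih (fun e' he' => hstep e' (List.mem_cons_of_mem _ he')) _ _ ?_ hg
      intro i hi
      rcases List.mem_cons.1 hi with rfl | hi
      · exact hstep e (List.mem_cons_self ..) hc.1 (h0 _ hc.2)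
      · exact h0 i hi
    · simp at hg

theorem of_checkForestB (T : TwistData) (P : List ℕ → Prop) (base : List ℕ)
    (edges : List (List ℕ × ℕ × ℕ)) (h : checkForestB T base edges = true)
    (h0 : ∀ i ∈ base, P (T.blocks.getD i []))
    (hstep : ∀ e ∈ edges, edgeOKB T e = true →
      P (T.blocks.getD e.2.1 []) → P (T.blocks.getD e.2.2 [])) :
    ∀ B ∈ T.blocks, P B := by
  unfold checkForestB at h
  cases hg : growB T edges base with
  | none => rw [hg] at h; simp at h
  | some acc =>
    rw [hg] at h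
    simp only [List.all_eq_true, memNat_iff] at h
    intro B hB
    obtain ⟨i, hi, rfl⟩ := List.getElem_of_mem hB
    have := growB_invariant T P edges hstep base acc h0 hg i (h i (List.mem_range.2 hi))
    rwa [List.getD_eq_getElem _ _ hi] at this

end Cfsg.Agent.Lib.Helper5.ChevSym

namespace Cfsg.Agent.Lib.Helper5.ChevStruct

open Cfsg Cfsg.Lie Cfsg.Agent.Lib.Helper5.ChevSym

variable {K : Type*} [Field K]

/-- conjugation of a word, factor by factor -/
theorem conj_wordGL (D : ChevalleyDatum) (hD : D ∈ Seven) (n : GL D.Idx K) (w : List (ℕ × K)) :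
    n * wordGL D hD w * n⁻¹ = (w.map fun p => n * xGL D hD p.1 p.2 * n⁻¹).prod := by
  induction w with
  | nil => simp [wordGL]
  | cons p w ih =>
    have h1 : wordGL D hD (p :: w) = xGL D hD p.1 p.2 * wordGL D hD w := by simp [wordGL]
    rw [h1, List.map_cons, List.prod_cons, ← ih]
    group

section

variable (T : TwistData) (hT : T.OK) (hD : T.D ∈ Seven)
  (hp : checkGraphPerm T.D T.G = true)
  (hG : ∀ r < T.D.nroots, checkGraphAt T.D T.G r = true) (f : K →+* K)

include hT in
/-- one step along the forest of blocks -/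
theorem block_conj_step (Gone : Subgroup (GL T.D.Idx K)) (J : List ℕ)
    (hJ : ∀ i ∈ J, i < T.D.rank) (hn1 : wGL T.D hD J ∈ Gone)
    (hn2 : wGL T.D hD J ∈ sigmaFix T.D T.G hp f) (B' B : List ℕ) (hB' : B' ∈ T.blocks)
    (hB : B ∈ T.blocks) (hlen : B.length ≤ B'.length) (hmap : ∀ r ∈ B', wAct T.D J r ∈ B)
    (hP : ∀ t : ℕ → K, prodL T.D hD B' t ∈ sigmaFix T.D T.G hp f → prodL T.D hD B' t ∈ Gone)
    (t : ℕ → K) (ht : prodL T.D hD B t ∈ sigmaFix T.D T.G hp f) : prodL T.D hD B t ∈ Gone := by
  have hlt' : ∀ r ∈ B', r < T.D.nroots := fun r hr => mem_L_lt T hT r (block_sub_L T B' hB' r hr)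
  have hε : ∀ r : ℕ, ∃ ε : K, r < T.D.nroots → ε * ε = 1 ∧ ∀ (t : K),
      wGL T.D hD J * xGL T.D hD r t * (wGL T.D hD J)⁻¹ = xGL T.D hD (wAct T.D J r) (ε * t) := by
    intro r
    by_cases hr : r < T.D.nroots
    · obtain ⟨ε, hε, h⟩ := wGL_conj (F := K) T.D hD J hJ r hr
      refine ⟨ε, fun _ => ⟨?_, fun t => ?_⟩⟩
      · rcases hε with rfl | rfl <;> simp
      · apply Units.ext
        rw [h t (xGL T.D hD r t) (xGL_val T.D hD r t), xGL_val]
    · exact ⟨0, fun h => absurd h hr⟩
  choose ε hε using hε
  let t' : ℕ → K := fun r => ε r * t (wAct T.D J r)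
  have hconj : wGL T.D hD J * prodL T.D hD B' t' * (wGL T.D hD J)⁻¹ = prodL T.D hD B t := by
    unfold prodL
    rw [conj_wordGL, List.map_map]
    have e1 : B'.map ((fun p : ℕ × K => wGL T.D hD J * xGL T.D hD p.1 p.2 * (wGL T.D hD J)⁻¹) ∘
        fun r => (r, t' r)) = (B'.map (wAct T.D J)).map fun s => xGL T.D hD s (t s) := by
      rw [List.map_map]
      apply List.map_congr_left
      intro r hr
      obtain ⟨h1, h2⟩ := hε r (hlt' r hr)
      simp only [Function.comp, t']
      rw [h2, ← mul_assoc, h1, one_mul]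
    rw [e1]
    unfold wordGL
    have e3 : (B.map fun r => (r, t r)).map (fun p => xGL T.D hD p.1 p.2)
        = B.map (fun s => xGL T.D hD s (t s)) := by
      rw [List.map_map]; rfl
    rw [e3]
    have hperm : (B'.map (wAct T.D J)).Perm B := by
      have hnd' : (B'.map (wAct T.D J)).Nodup := by
        apply List.Nodup.map_on _ (block_nodup T hT B' hB')
        intro a ha b hb e
        exact wAct_injective T.D hD J hJ a b (hlt' a ha) (hlt' b hb) e
      have hsub : B'.map (wAct T.D J) ⊆ B := by
        intro x hx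
        rw [List.mem_map] at hx
        obtain ⟨r, hr, rfl⟩ := hx
        exact hmap r hr
      exact (List.subperm_of_subset hnd' hsub).perm_of_length_le (by rw [List.length_map]; exact hlen)
    apply List.Perm.prod_eq'
    · exact hperm.map _
    · rw [List.pairwise_map]
      apply List.pairwise_of_forall_mem_list
      intro x hx y hy
      rw [List.mem_map] at hx hy
      obtain ⟨x', hx', rfl⟩ := hx
      obtain ⟨y', hy', rfl⟩ := hy
      exact block_commute T hT hD B hB _ _ (hmap x' hx') (hmap y' hy') _ _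
  have h1 : prodL T.D hD B' t' = (wGL T.D hD J)⁻¹ * prodL T.D hD B t * wGL T.D hD J := by
    rw [← hconj]; group
  have h2 : prodL T.D hD B' t' ∈ Gone := by
    apply hP
    rw [h1]
    exact mul_mem (mul_mem (inv_mem hn2) ht) hn2
  rw [← hconj]
  exact mul_mem (mul_mem hn1 h2) (inv_mem hn1)

include hT hp hG in
/-- the fixed points of `U` lie in a subgroup containing the fixed block products -/
theorem pos_fix_le [Fintype K] (Gone : Subgroup (GL T.D.Idx K))
    (hall : ∀ B ∈ T.blocks, ∀ t : ℕ → K,
      prodL T.D hD B t ∈ sigmaFix T.D T.G hp f → prodL T.D hD B t ∈ Gone) :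
    T.D.posUnipotent K ⊓ sigmaFix T.D T.G hp f ≤ Gone := by
  rintro u ⟨hu1, hu2⟩
  have hg : u ∈ rootSetSub T.D K {s | s ∈ T.L} := by
    rw [rootSetSub_list_eq_pos T.D T.L (mem_L_iff T hT hD)]; exact hu1
  obtain ⟨t, rfl⟩ := exists_prodL T.D hD T.L hT.good hT.nodup u hg
  replace hu2 : prodL T.D hD T.L t ∈ sigmaFix T.D T.G hp f := hu2
  rw [prodL_fixed_iff T hT hD hp hG f] at hu2
  have key : ∀ Bs : List (List ℕ), (∀ B ∈ Bs, B ∈ T.blocks) →
      prodL T.D hD Bs.flatten t ∈ Gone := by
    intro Bs
    induction Bs with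
    | nil => intro _; rw [List.flatten_nil, prodL_nil]; exact one_mem _
    | cons B Bs ih =>
      intro h
      rw [List.flatten_cons, prodL_append]
      exact mul_mem (hall B (h B (List.mem_cons_self ..)) t
        (block_fixed T hT hD hp hG f t hu2 B (h B (List.mem_cons_self ..))))
        (ih (fun B' hB' => h B' (List.mem_cons_of_mem _ hB')))
  exact key T.blocks (fun _ h => h)

include hT hp hG in
/-- the fixed points of `U` lie in a subgroup containing the fixed points of the base blocks and
the elements `n_J` -/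
theorem pos_fix_le_of_forest [Fintype K] (Gone : Subgroup (GL T.D.Idx K)) (base : List ℕ)
    (edges : List (List ℕ × ℕ × ℕ)) (orbits : List (List ℕ))
    (h : checkForestB T base edges = true) (horb : ∀ e ∈ edges, e.1 ∈ orbits)
    (hn1 : ∀ J ∈ orbits, wGL T.D hD J ∈ Gone)
    (hn2 : ∀ J ∈ orbits, wGL T.D hD J ∈ sigmaFix T.D T.G hp f)
    (hbase : ∀ i ∈ base, ∀ t : ℕ → K,
      prodL T.D hD (T.blocks.getD i []) t ∈ sigmaFix T.D T.G hp f →
        prodL T.D hD (T.blocks.getD i []) t ∈ Gone) :
    T.D.posUnipotent K ⊓ sigmaFix T.D T.G hp f ≤ Gone := by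
  apply pos_fix_le T hT hD hp hG f Gone
  apply of_checkForestB T (fun B => ∀ t : ℕ → K,
      prodL T.D hD B t ∈ sigmaFix T.D T.G hp f → prodL T.D hD B t ∈ Gone) base edges h hbase
  intro e he hok hP
  unfold edgeOKB at hok
  simp only [Bool.and_eq_true, List.all_eq_true, Nat.blt_eq, Nat.ble_eq, memNat_iff] at hok
  obtain ⟨⟨⟨⟨h1, h2⟩, h3⟩, h4⟩, h5⟩ := hok
  have hB' : T.blocks.getD e.2.1 [] ∈ T.blocks := by
    rw [List.getD_eq_getElem _ _ h2]; exact List.getElem_mem _
  have hB : T.blocks.getD e.2.2 [] ∈ T.blocks := by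
    rw [List.getD_eq_getElem _ _ h3]; exact List.getElem_mem _
  exact block_conj_step T hT hD hp f Gone e.1 h1 (hn1 _ (horb e he)) (hn2 _ (horb e he)) _ _
    hB' hB h4 h5 hP

end

end Cfsg.Agent.Lib.Helper5.ChevStruct
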