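import Mathlib
import Cfsg.Prelude.Def_ChevStructure
import Cfsg.Agent.Lib.Helper5.ChevTwistGen

set_option autoImplicit false

/-!
The element `n_J` for an orbit `J` of pairwise orthogonal fundamental roots is the product
`x_J(1) x_{-J}(-1) x_J(1)` of the products of root elements over the orbit.
-/

namespace Cfsg.Agent.Lib.Helper5.ChevSym

open Cfsg Cfsg.Lie

/-- the two root elements commute for all values of the parameters -/
def commOK (D : ChevalleyDatum) (a b : ℕ) : Bool :=
  Nat.blt a D.nroots && Nat.blt b D.nroots && !(Nat.beq a b) && (D.commTerms a b).isEmpty &&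
    !(Nat.beq b (D.neg a))

/-- the fundamental roots of the list are pairwise orthogonal -/
def checkOrth (D : ChevalleyDatum) (J : List ℕ) : Bool :=
  J.all fun i => J.all fun j => Nat.beq i j ||
    (commOK D (D.simple i) (D.simple j) && commOK D (D.simple i) (D.neg (D.simple j)) &&
     commOK D (D.neg (D.simple i)) (D.simple j) && commOK D (D.neg (D.simple i)) (D.neg (D.simple j)))

end Cfsg.Agent.Lib.Helper5.ChevSym

namespace Cfsg.Agent.Lib.Helper5.ChevStruct

open Cfsg Cfsg.Lie Cfsg.Agent.Lib.Helper5.ChevSym

variable {K : Type*} [Field K]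

theorem xGL_commute (D : ChevalleyDatum) (hD : D ∈ Seven) (a b : ℕ) (h : commOK D a b = true)
    (s u : K) : Commute (xGL D hD a s) (xGL D hD b u) := by
  unfold commOK at h
  simp only [Bool.and_eq_true, Nat.blt_eq, Bool.not_eq_true', List.isEmpty_iff] at h
  obtain ⟨⟨⟨⟨ha, hb⟩, hab⟩, h1⟩, h2⟩ := h
  have hab' : b ≠ a := by
    rintro rfl
    have : Nat.beq b b = true := by rw [Nat.beq_eq]
    rw [this] at hab
    exact Bool.noConfusion hab
  have h2' : b ≠ D.neg a := by
    intro e
    have : Nat.beq b (D.neg a) = true := by rw [Nat.beq_eq]; exact e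
    rw [this] at h2
    exact Bool.noConfusion h2
  have := comm_formula D hD a b ha hb hab' h2' s u
  unfold ChevalleyDatum.commWord at this
  rw [h1, List.map_nil] at this
  simp only [ChevalleyDatum.wordMat, List.map_nil, List.prod_nil, mul_one] at this
  show xGL D hD a s * xGL D hD b u = xGL D hD b u * xGL D hD a s
  apply Units.ext
  rw [Units.val_mul, Units.val_mul, xGL_val, xGL_val, this]

theorem wordGL_cons' (D : ChevalleyDatum) (hD : D ∈ Seven) (p : ℕ × K) (w : List (ℕ × K)) :
    wordGL D hD (p :: w) = xGL D hD p.1 p.2 * wordGL D hD w := by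
  simp [wordGL]

/-- an element commuting with all the letters commutes with the word -/
theorem commute_wordGL (D : ChevalleyDatum) (hD : D ∈ Seven) (g : GL D.Idx K)
    (w : List (ℕ × K)) (h : ∀ p ∈ w, Commute g (xGL D hD p.1 p.2)) :
    Commute g (wordGL D hD w) := by
  induction w with
  | nil => simp [wordGL]
  | cons p w ih =>
    rw [wordGL_cons']
    exact (h p (List.mem_cons_self ..)).mul_right (ih fun q hq => h q (List.mem_cons_of_mem _ hq))

/-- `n_J = x_J(1) x_{-J}(-1) x_J(1)` -/
theorem wGL_orth (D : ChevalleyDatum) (hD : D ∈ Seven) (J : List ℕ)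
    (hJ : checkOrth D J = true) (hnd : J.Nodup) :
    (wGL D hD J : GL D.Idx K) = wordGL D hD (J.map fun i => (D.simple i, (1 : K))) *
      wordGL D hD (J.map fun i => (D.neg (D.simple i), (-1 : K))) *
      wordGL D hD (J.map fun i => (D.simple i, (1 : K))) := by
  induction J with
  | nil => simp [wGL, wordGL]
  | cons i J ih =>
    have hJ' : checkOrth D J = true := by
      unfold checkOrth at hJ ⊢
      rw [List.all_eq_true] at hJ ⊢
      intro a ha
      have := hJ a (List.mem_cons_of_mem _ ha)
      rw [List.all_eq_true] at this ⊢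
      intro b hb
      exact this b (List.mem_cons_of_mem _ hb)
    have hi : ∀ j ∈ J,
        commOK D (D.simple i) (D.simple j) = true ∧
        commOK D (D.simple i) (D.neg (D.simple j)) = true ∧
        commOK D (D.neg (D.simple i)) (D.simple j) = true ∧
        commOK D (D.neg (D.simple i)) (D.neg (D.simple j)) = true := by
      intro j hj
      unfold checkOrth at hJ
      rw [List.all_eq_true] at hJ
      have := hJ i (List.mem_cons_self ..)
      rw [List.all_eq_true] at this
      have := this j (List.mem_cons_of_mem _ hj)
      have hij : Nat.beq i j = false := by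
        rw [← Bool.not_eq_true, Nat.beq_eq]
        rintro rfl
        exact (List.nodup_cons.1 hnd).1 hj
      rw [hij, Bool.false_or] at this
      simp only [Bool.and_eq_true] at this
      exact ⟨this.1.1.1, this.1.1.2, this.1.2, this.2⟩
    rw [wGL_cons, ih hJ' (List.nodup_cons.1 hnd).2]
    have e : (nGL D hD i : GL D.Idx K) = xGL D hD (D.simple i) 1 *
        xGL D hD (D.neg (D.simple i)) (-1 : K) * xGL D hD (D.simple i) 1 := by
      unfold nGL ChevalleyDatum.nWord
      simp [wordGL, mul_assoc]
    rw [e, List.map_cons, List.map_cons, wordGL_cons', wordGL_cons']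
    set a := xGL D hD (D.simple i) (1 : K)
    set b := xGL D hD (D.neg (D.simple i)) (-1 : K)
    set A := wordGL D hD (J.map fun i => (D.simple i, (1 : K)))
    set B := wordGL D hD (J.map fun i => (D.neg (D.simple i), (-1 : K)))
    have haA : Commute a A := by
      apply commute_wordGL
      intro p hp
      rw [List.mem_map] at hp
      obtain ⟨j, hj, rfl⟩ := hp
      exact xGL_commute D hD _ _ (hi j hj).1 _ _
    have haB : Commute a B := by
      apply commute_wordGL
      intro p hp
      rw [List.mem_map] at hp
      obtain ⟨j, hj, rfl⟩ := hp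
      exact xGL_commute D hD _ _ (hi j hj).2.1 _ _
    have hbA : Commute b A := by
      apply commute_wordGL
      intro p hp
      rw [List.mem_map] at hp
      obtain ⟨j, hj, rfl⟩ := hp
      exact xGL_commute D hD _ _ (hi j hj).2.2.1 _ _
    have hbB : Commute b B := by
      apply commute_wordGL
      intro p hp
      rw [List.mem_map] at hp
      obtain ⟨j, hj, rfl⟩ := hp
      exact xGL_commute D hD _ _ (hi j hj).2.2.2 _ _
    show a * b * a * (A * B * A) = a * A * (b * B) * (a * A)
    calc a * b * a * (A * B * A) = a * b * (a * A) * B * A := by group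
      _ = a * b * (A * a) * B * A := by rw [haA.eq]
      _ = a * (b * A) * (a * B) * A := by group
      _ = a * (A * b) * (B * a) * A := by rw [hbA.eq, haB.eq]
      _ = a * A * (b * B) * (a * A) := by group

end Cfsg.Agent.Lib.Helper5.ChevStruct
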