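import Mathlib
import Cfsg.Prelude.Def_ChevStructure
import Cfsg.Agent.Lib.Helper5.ChevTwistN

set_option autoImplicit false

/-!
The elements `n_J(s) = ∏_{j ∈ J} n_{p_j}(s_j)` and `h_J(s) = ∏_{j ∈ J} h_{p_j}(s_j)` for an orbit `J`
of pairwise orthogonal fundamental roots, written with the products of root elements over the orbit.
-/

namespace Cfsg.Agent.Lib.Helper5.ChevStruct

open Cfsg Cfsg.Lie Cfsg.Agent.Lib.Helper5.ChevSym

variable {K : Type*} [Field K]

theorem wordGL_append' (D : ChevalleyDatum) (hD : D ∈ Seven) (w1 w2 : List (ℕ × K)) :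
    wordGL D hD (w1 ++ w2) = wordGL D hD w1 * wordGL D hD w2 := by
  simp [wordGL]

/-- a word commutes with a word when all the letters do -/
theorem wordGL_commute (D : ChevalleyDatum) (hD : D ∈ Seven) (w1 w2 : List (ℕ × K))
    (h : ∀ p ∈ w1, ∀ p' ∈ w2, Commute (xGL D hD p.1 p.2) (xGL D hD p'.1 p'.2)) :
    Commute (wordGL D hD w1) (wordGL D hD w2) := by
  apply commute_wordGL
  intro p' hp'
  apply Commute.symm
  apply commute_wordGL
  intro p hp
  exact (h p hp p' hp').symm

/-- the letters of `n_{p_i}(s)` and `n_{p_j}(u)` commute for orthogonal `p_i`, `p_j` -/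
theorem nWord_commute (D : ChevalleyDatum) (hD : D ∈ Seven) (i j : ℕ)
    (h1 : commOK D (D.simple i) (D.simple j) = true)
    (h2 : commOK D (D.simple i) (D.neg (D.simple j)) = true)
    (h3 : commOK D (D.neg (D.simple i)) (D.simple j) = true)
    (h4 : commOK D (D.neg (D.simple i)) (D.neg (D.simple j)) = true) (s u : K) :
    Commute (wordGL D hD (D.nWord (D.simple i) s)) (wordGL D hD (D.nWord (D.simple j) u)) := by
  apply wordGL_commute
  intro p hp p' hp'
  unfold ChevalleyDatum.nWord at hp hp'
  simp only [List.mem_cons, List.not_mem_nil, or_false] at hp hp'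
  rcases hp with rfl | rfl | rfl <;> rcases hp' with rfl | rfl | rfl
  · exact xGL_commute D hD _ _ h1 _ _
  · exact xGL_commute D hD _ _ h2 _ _
  · exact xGL_commute D hD _ _ h1 _ _
  · exact xGL_commute D hD _ _ h3 _ _
  · exact xGL_commute D hD _ _ h4 _ _
  · exact xGL_commute D hD _ _ h3 _ _
  · exact xGL_commute D hD _ _ h1 _ _
  · exact xGL_commute D hD _ _ h2 _ _
  · exact xGL_commute D hD _ _ h1 _ _

theorem checkOrth_tail (D : ChevalleyDatum) (i : ℕ) (J : List ℕ)
    (hJ : checkOrth D (i :: J) = true) : checkOrth D J = true := by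
  unfold checkOrth at hJ ⊢
  rw [List.all_eq_true] at hJ ⊢
  intro a ha
  have := hJ a (List.mem_cons_of_mem _ ha)
  rw [List.all_eq_true] at this ⊢
  intro b hb
  exact this b (List.mem_cons_of_mem _ hb)

theorem checkOrth_head (D : ChevalleyDatum) (i : ℕ) (J : List ℕ)
    (hJ : checkOrth D (i :: J) = true) (hnd : (i :: J).Nodup) : ∀ j ∈ J,
      commOK D (D.simple i) (D.simple j) = true ∧
      commOK D (D.simple i) (D.neg (D.simple j)) = true ∧
      commOK D (D.neg (D.simple i)) (D.simple j) = true ∧
      commOK D (D.neg (D.simple i)) (D.neg (D.simple j)) = true := by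
  intro j hj
  unfold checkOrth at hJ
  rw [List.all_eq_true] at hJ
  have := hJ i (List.mem_cons_self ..)
  rw [List.all_eq_true] at this
  have := this j (List.mem_cons_of_mem _ hj)
  have hij : Nat.beq i j = false := by
    rw [← Bool.not_eq_true, Nat.beq_eq]
    rintro rfl
    exact (List.nodup_cons.1 hnd).1 hj
  rw [hij, Bool.false_or] at this
  simp only [Bool.and_eq_true] at this
  exact ⟨this.1.1.1, this.1.1.2, this.1.2, this.2⟩

/-- `n_J(s) = x_J(s) x_{-J}(-s⁻¹) x_J(s)` -/
theorem nprod_orth (D : ChevalleyDatum) (hD : D ∈ Seven) (J : List ℕ)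
    (hJ : checkOrth D J = true) (hnd : J.Nodup) (s : ℕ → K) :
    (J.map fun i => wordGL D hD (D.nWord (D.simple i) (s i))).prod =
      wordGL D hD (J.map fun i => (D.simple i, s i)) *
      wordGL D hD (J.map fun i => (D.neg (D.simple i), -(s i)⁻¹)) *
      wordGL D hD (J.map fun i => (D.simple i, s i)) := by
  induction J with
  | nil => simp [wordGL]
  | cons i J ih =>
    have hi := checkOrth_head D i J hJ hnd
    rw [List.map_cons, List.prod_cons, ih (checkOrth_tail D i J hJ) (List.nodup_cons.1 hnd).2]
    have e : wordGL D hD (D.nWord (D.simple i) (s i)) = xGL D hD (D.simple i) (s i) *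
        xGL D hD (D.neg (D.simple i)) (-(s i)⁻¹) * xGL D hD (D.simple i) (s i) := by
      unfold ChevalleyDatum.nWord
      simp [wordGL, mul_assoc]
    rw [e, List.map_cons, List.map_cons, wordGL_cons', wordGL_cons']
    set a := xGL D hD (D.simple i) (s i)
    set b := xGL D hD (D.neg (D.simple i)) (-(s i)⁻¹)
    set A := wordGL D hD (J.map fun i => (D.simple i, s i))
    set B := wordGL D hD (J.map fun i => (D.neg (D.simple i), -(s i)⁻¹))
    have haA : Commute a A := by
      apply commute_wordGL
      intro p hp
      rw [List.mem_map] at hp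
      obtain ⟨j, hj, rfl⟩ := hp
      exact xGL_commute D hD _ _ (hi j hj).1 _ _
    have haB : Commute a B := by
      apply commute_wordGL
      intro p hp
      rw [List.mem_map] at hp
      obtain ⟨j, hj, rfl⟩ := hp
      exact xGL_commute D hD _ _ (hi j hj).2.1 _ _
    have hbA : Commute b A := by
      apply commute_wordGL
      intro p hp
      rw [List.mem_map] at hp
      obtain ⟨j, hj, rfl⟩ := hp
      exact xGL_commute D hD _ _ (hi j hj).2.2.1 _ _
    show a * b * a * (A * B * A) = a * A * (b * B) * (a * A)
    calc a * b * a * (A * B * A) = a * b * (a * A) * B * A := by group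
      _ = a * b * (A * a) * B * A := by rw [haA.eq]
      _ = a * (b * A) * (a * B) * A := by group
      _ = a * (A * b) * (B * a) * A := by rw [hbA.eq, haB.eq]
      _ = a * A * (b * B) * (a * A) := by group

/-- `h_J(s) = n_J(s) n_J(-1)` -/
theorem hprod_orth (D : ChevalleyDatum) (hD : D ∈ Seven) (J : List ℕ)
    (hJ : checkOrth D J = true) (hnd : J.Nodup) (s : ℕ → K) :
    (J.map fun i => wordGL D hD (D.hWord (D.simple i) (s i))).prod =
      (J.map fun i => wordGL D hD (D.nWord (D.simple i) (s i))).prod *
      (J.map fun i => wordGL D hD (D.nWord (D.simple i) (-1 : K))).prod := by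
  induction J with
  | nil => simp
  | cons i J ih =>
    have hi := checkOrth_head D i J hJ hnd
    rw [List.map_cons, List.prod_cons, ih (checkOrth_tail D i J hJ) (List.nodup_cons.1 hnd).2,
      List.map_cons, List.prod_cons, List.map_cons, List.prod_cons]
    have e : wordGL D hD (D.hWord (D.simple i) (s i)) = wordGL D hD (D.nWord (D.simple i) (s i)) *
        wordGL D hD (D.nWord (D.simple i) (-1 : K)) := by
      unfold ChevalleyDatum.hWord
      rw [wordGL_append']
    rw [e]
    set a := wordGL D hD (D.nWord (D.simple i) (s i))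
    set b := wordGL D hD (D.nWord (D.simple i) (-1 : K))
    set A := (J.map fun i => wordGL D hD (D.nWord (D.simple i) (s i))).prod
    set B := (J.map fun i => wordGL D hD (D.nWord (D.simple i) (-1 : K))).prod
    have hbA : Commute b A := by
      apply Commute.list_prod_right
      intro g hg
      rw [List.mem_map] at hg
      obtain ⟨j, hj, rfl⟩ := hg
      exact nWord_commute D hD i j (hi j hj).1 (hi j hj).2.1 (hi j hj).2.2.1 (hi j hj).2.2.2 _ _
    calc a * b * (A * B) = a * (b * A) * B := by group
      _ = a * (A * b) * B := by rw [hbA.eq]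
      _ = a * A * (b * B) := by group

end Cfsg.Agent.Lib.Helper5.ChevStruct
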