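import Mathlib
import Cfsg.Prelude.Def_ChevStructure
import Cfsg.Agent.Lib.Helper5.ChevTwistH
import Cfsg.Agent.Lib.Helper5.ChevTorusCard

set_option autoImplicit false

/-!
The action of `σ` on the torus: `σ(h(c)) = h(σ c)` with `(σ c)_{ρ i} = f(c_i)`.
-/

namespace Cfsg.Agent.Lib.Helper5.ChevStruct

open Cfsg Cfsg.Lie Cfsg.Agent.Lib.Helper5.ChevSym Cfsg.Agent.Lib.Helper5.MatPow

variable {K : Type*} [Field K]

/-- a product of elements `h_{p_{g i}}(c_i)` as a diagonal matrix -/
theorem wordMat_hWords_gen (D : ChevalleyDatum) (hD : D ∈ Seven) (g : ℕ → ℕ) (c : ℕ → K)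
    (l : List ℕ) (hg : ∀ i ∈ l, g i < D.rank) (hc : ∀ i ∈ l, c i ≠ 0) :
    D.wordMat K (l.flatMap fun i => D.hWord (D.simple (g i)) (c i))
      = Matrix.diagonal (Sum.elim (fun _ => (1 : K)) (fun s : Fin D.nroots =>
          (l.map fun i => (c i) ^ (D.cartan (g i) s.val)).prod)) := by
  induction l with
  | nil =>
    simp only [List.flatMap_nil, List.map_nil, List.prod_nil, ChevalleyDatum.wordMat]
    rw [← Matrix.diagonal_one]
    congr 1
    funext j
    rcases j with j | s <;> rfl
  | cons i l ih =>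
    rw [List.flatMap_cons, wordMat_append, ih (fun j hj => hg j (List.mem_cons_of_mem _ hj))
      (fun j hj => hc j (List.mem_cons_of_mem _ hj))]
    have hi := hg i (List.mem_cons_self ..)
    have : D.wordMat K (D.hWord (D.simple (g i)) (c i)) = D.hMat K (D.simple (g i)) (c i) := rfl
    rw [this, hMat_simple D hD (g i) hi (c i) (hc i (List.mem_cons_self ..)),
      Matrix.diagonal_mul_diagonal]
    congr 1
    funext j
    rcases j with j | s
    · simp
    · simp only [Sum.elim_inr, List.map_cons, List.prod_cons]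

/-- the action of `σ` on the parameters of the torus -/
def sigC (l : ℕ) (rho : Equiv.Perm (Fin l)) (f : K →+* K) : (Fin l → Kˣ) →* (Fin l → Kˣ) where
  toFun c := fun j => Units.map (f : K →* K) (c (rho.symm j))
  map_one' := by
    funext j
    simp
  map_mul' c c' := by
    funext j
    simp

theorem sigC_apply (l : ℕ) (rho : Equiv.Perm (Fin l)) (f : K →+* K) (c : Fin l → Kˣ) (j : Fin l) :
    ((sigC l rho f c j : Kˣ) : K) = f (c (rho.symm j)) := rfl

section

variable (D : ChevalleyDatum) (hD : D ∈ Seven) (G : GraphData)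
  (hp : checkGraphPerm D G = true)
  (hG : ∀ r < D.nroots, checkGraphAt D G r = true) (f : K →+* K)
  (rho : Equiv.Perm (Fin D.rank))
  (hrho : ∀ i : Fin D.rank,
    G.pr.getD (D.simple i) 0 = D.simple (rho i) ∧
    G.pr.getD (D.neg (D.simple i)) 0 = D.neg (D.simple (rho i)) ∧
    G.eps.getD (D.simple i) 1 = 1 ∧ G.eps.getD (D.neg (D.simple i)) 1 = 1 ∧
    D.simple i < D.nroots ∧ D.neg (D.simple i) < D.nroots)

theorem torHom_eq_wordGL (c : Fin D.rank → Kˣ) :
    torHom D K c = wordGL D hD
      ((List.range D.rank).flatMap fun i => D.hWord (D.simple i) (extU D c i)) := by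
  apply Units.ext
  rw [torHom_val, wordGL_val, wordMat_simple_hWords D hD _ (fun i _ => extU_ne_zero D c i)]

/-- `ρ` on the indices of the fundamental roots, as a function on `ℕ` -/
def rhoN (l : ℕ) (rho : Equiv.Perm (Fin l)) (i : ℕ) : ℕ :=
  if h : i < l then (rho ⟨i, h⟩).val else 0

include hD hG hrho in
/-- `σ(h(c)) = h(σ c)` -/
theorem sigma_torHom (c : Fin D.rank → Kˣ) :
    sigma D G hp f (torHom D K c) = torHom D K (sigC D.rank rho f c) := by
  have hlt : ∀ p ∈ (List.range D.rank).flatMap fun i => D.hWord (D.simple i) (extU D c i),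
      p.1 < D.nroots := by
    intro p hp'
    rw [List.mem_flatMap] at hp'
    obtain ⟨i, hi, hpi⟩ := hp'
    obtain ⟨-, -, -, -, h5, h6⟩ := hrho ⟨i, List.mem_range.1 hi⟩
    unfold ChevalleyDatum.hWord ChevalleyDatum.nWord at hpi
    simp only [List.cons_append, List.nil_append, List.mem_cons, List.not_mem_nil, or_false] at hpi
    rcases hpi with rfl | rfl | rfl | rfl | rfl | rfl <;> assumption
  rw [torHom_eq_wordGL D hD c, sigma_wordGL D hD G hp hG f _ hlt]
  have hW : ((List.range D.rank).flatMap fun i => D.hWord (D.simple i) (extU D c i)).map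
      (fun p => (G.pr.getD p.1 0, ((G.eps.getD p.1 1 : ℤ) : K) * f p.2))
      = (List.range D.rank).flatMap fun i =>
          D.hWord (D.simple (rhoN D.rank rho i)) (f (extU D c i)) := by
    rw [List.map_flatMap]
    apply List.flatMap_congr
    intro i hi
    have hi' := List.mem_range.1 hi
    obtain ⟨h1, h2, h3, h4, -, -⟩ := hrho ⟨i, hi'⟩
    have e : rhoN D.rank rho i = (rho ⟨i, hi'⟩).val := by
      unfold rhoN; rw [dif_pos hi']
    rw [e]
    unfold ChevalleyDatum.hWord ChevalleyDatum.nWord
    simp only [List.cons_append, List.nil_append, List.map_cons, List.map_nil, h1, h2, h3, h4,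
      Int.cast_one, one_mul, map_neg, map_inv₀, map_one]
  rw [hW]
  apply Units.ext
  rw [wordGL_val, torHom_val, wordMat_hWords_gen D hD _ _ _ (by
    intro i hi
    unfold rhoN
    rw [dif_pos (List.mem_range.1 hi)]
    exact (rho _).isLt) (by
    intro i _
    exact (map_ne_zero f).2 (extU_ne_zero D c i))]
  unfold torusMat
  congr 1
  funext j
  rcases j with j | s
  · rfl
  · simp only [Sum.elim_inr]
    unfold chi
    rw [list_range_map_prod_fin, list_range_map_prod_fin]
    rw [← Equiv.prod_comp rho (fun m : Fin D.rank =>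
      extU D (sigC D.rank rho f c) m.val ^ D.cartan m.val s.val)]
    apply Finset.prod_congr rfl
    intro m _
    have e : rhoN D.rank rho m.val = (rho m).val := by
      unfold rhoN; rw [dif_pos m.isLt]
    rw [e, extU_of_lt D c m.val m.isLt, extU_of_lt D _ (rho m).val (rho m).isLt]
    simp only [Fin.eta, sigC_apply, Equiv.symm_apply_apply]

omit f in
theorem wordGL_flatMap (l : List ℕ) (w : ℕ → List (ℕ × K)) :
    wordGL D hD (l.flatMap w) = (l.map fun i => wordGL D hD (w i)).prod := by
  induction l with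
  | nil => simp [wordGL]
  | cons i l ih => rw [List.flatMap_cons, wordGL_append', ih, List.map_cons, List.prod_cons]

omit f in
/-- the elements `h_{p_i}(s)` commute -/
theorem hWord_commute (i j : ℕ) (hi : i < D.rank) (hj : j < D.rank) (s u : K) (hs : s ≠ 0)
    (hu : u ≠ 0) : Commute (wordGL D hD (D.hWord (D.simple i) s))
      (wordGL D hD (D.hWord (D.simple j) u)) := by
  show _ * _ = _ * _
  apply Units.ext
  rw [Units.val_mul, Units.val_mul, wordGL_val, wordGL_val]
  show D.hMat K (D.simple i) s * D.hMat K (D.simple j) u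
    = D.hMat K (D.simple j) u * D.hMat K (D.simple i) s
  rw [hMat_simple D hD i hi s hs, hMat_simple D hD j hj u hu, Matrix.diagonal_mul_diagonal,
    Matrix.diagonal_mul_diagonal]
  congr 1
  funext k
  exact mul_comm _ _

omit f in
/-- the torus element as a product over the orbits -/
theorem torHom_eq_prod_orbits (orbits : List (List ℕ))
    (hperm : orbits.flatten.Perm (List.range D.rank)) (c : Fin D.rank → Kˣ) :
    torHom D K c = (orbits.map fun J =>
      (J.map fun i => wordGL D hD (D.hWord (D.simple i) (extU D c i))).prod).prod := by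
  rw [torHom_eq_wordGL D hD c, wordGL_flatMap]
  have h1 : ((List.range D.rank).map fun i =>
      wordGL D hD (D.hWord (D.simple i) (extU D c i))).prod
      = (orbits.flatten.map fun i => wordGL D hD (D.hWord (D.simple i) (extU D c i))).prod := by
    apply List.Perm.prod_eq'
    · exact (hperm.symm).map _
    · rw [List.pairwise_map]
      apply List.pairwise_of_forall_mem_list
      intro a ha b hb
      rw [List.mem_range] at ha hb
      exact hWord_commute D hD a b ha hb _ _ (extU_ne_zero D c a) (extU_ne_zero D c b)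
  rw [h1, List.map_flatten, List.prod_flatten, List.map_map]
  rfl

include hD in
omit f in
/-- the torus elements with `σ`-stable parameters lie in a subgroup containing the fixed points of
the root subgroups of the orbits -/
theorem torHom_mem_of_orbits (f : K →+* K) (Gone : Subgroup (GL D.Idx K)) (orbits : List (List ℕ))
    (hperm : orbits.flatten.Perm (List.range D.rank))
    (horth : ∀ J ∈ orbits, checkOrth D J = true ∧ J.Nodup)
    (hgen : ∀ J ∈ orbits, ∀ s : ℕ → K, (∀ i ∈ J, s (rhoN D.rank rho i) = f (s i)) →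
      wordGL D hD (J.map fun i => (D.simple i, s i)) ∈ Gone ∧
      wordGL D hD (J.map fun i => (D.neg (D.simple i), s i)) ∈ Gone)
    (c : Fin D.rank → Kˣ) (hc : sigC D.rank rho f c = c) : torHom D K c ∈ Gone := by
  rw [torHom_eq_prod_orbits D hD orbits hperm c]
  apply Subgroup.list_prod_mem
  intro g hg
  rw [List.mem_map] at hg
  obtain ⟨J, hJ, rfl⟩ := hg
  have hJlt : ∀ i ∈ J, i < D.rank := by
    intro i hi
    have : i ∈ orbits.flatten := List.mem_flatten.2 ⟨J, hJ, hi⟩
    exact List.mem_range.1 (hperm.subset this)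
  have hcompat : ∀ i ∈ J, extU D c (rhoN D.rank rho i) = f (extU D c i) := by
    intro i hi
    have hi' := hJlt i hi
    have e : rhoN D.rank rho i = (rho ⟨i, hi'⟩).val := by
      unfold rhoN; rw [dif_pos hi']
    rw [e, extU_of_lt D c _ (rho ⟨i, hi'⟩).isLt, extU_of_lt D c i hi']
    have := congrFun hc (rho ⟨i, hi'⟩)
    have h2 := sigC_apply D.rank rho f c (rho ⟨i, hi'⟩)
    rw [this, Equiv.symm_apply_apply] at h2
    exact h2
  obtain ⟨ho, hnd⟩ := horth J hJ
  rw [hprod_orth D hD J ho hnd, nprod_orth D hD J ho hnd, nprod_orth D hD J ho hnd]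
  have g1 := hgen J hJ (extU D c) hcompat
  have g2 := hgen J hJ (fun i => -(extU D c i)⁻¹) (by
    intro i hi
    show -(extU D c (rhoN D.rank rho i))⁻¹ = f (-(extU D c i)⁻¹)
    rw [hcompat i hi, map_neg, map_inv₀])
  have g3 := hgen J hJ (fun _ => (-1 : K)) (by intro i _; simp)
  have g4 := hgen J hJ (fun _ => (1 : K)) (by intro i _; simp)
  have e4 : (J.map fun i => (D.neg (D.simple i), -(-1 : K)⁻¹))
      = J.map fun i => (D.neg (D.simple i), (1 : K)) := by
    apply List.map_congr_left
    intro i _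
    simp
  rw [e4]
  exact mul_mem (mul_mem (mul_mem g1.1 g2.2) g1.1) (mul_mem (mul_mem g3.1 g4.2) g3.1)

include hD hG hrho in
/-- the fixed points of `σ` in `H` come from `σ`-stable parameters -/
theorem diag_fix_le
    (hfix : ∀ c : Fin D.rank → Kˣ, torHom D K (sigC D.rank rho f c) = torHom D K c →
      ∃ c', torHom D K c' = torHom D K c ∧ sigC D.rank rho f c' = c') :
    D.diagonalSubgroup K ⊓ sigmaFix D G hp f ≤
      ((sigC D.rank rho f).eqLocus (MonoidHom.id _)).map (torHom D K) := by
  rintro g ⟨hg1, hg2⟩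
  rw [SetLike.mem_coe, ← torHom_range D hD] at hg1
  obtain ⟨c, rfl⟩ := hg1
  replace hg2 : torHom D K c ∈ sigmaFix D G hp f := hg2
  rw [mem_sigmaFix, sigma_torHom D hD G hp hG f rho hrho c] at hg2
  obtain ⟨c', h1, h2⟩ := hfix c hg2
  exact ⟨c', h2, h1⟩

include hD hG hrho in
/-- `H ∩ G¹` is the image of the `σ`-stable parameters -/
theorem diag_inf_eq (Gone : Subgroup (GL D.Idx K)) (h1 : Gone ≤ sigmaFix D G hp f)
    (h2 : ∀ c : Fin D.rank → Kˣ, sigC D.rank rho f c = c → torHom D K c ∈ Gone)
    (hfix : ∀ c : Fin D.rank → Kˣ, torHom D K (sigC D.rank rho f c) = torHom D K c →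
      ∃ c', torHom D K c' = torHom D K c ∧ sigC D.rank rho f c' = c') :
    D.diagonalSubgroup K ⊓ Gone =
      ((sigC D.rank rho f).eqLocus (MonoidHom.id _)).map (torHom D K) := by
  apply le_antisymm
  · exact le_trans (inf_le_inf_left _ h1) (diag_fix_le D hD G hp hG f rho hrho hfix)
  · rintro g ⟨c, hc, rfl⟩
    refine ⟨?_, h2 c hc⟩
    rw [SetLike.mem_coe, ← torHom_range D hD]
    exact ⟨c, rfl⟩

end

/-- the order of the image of a subgroup -/
theorem card_map_mul_card_ker {A B : Type*} [Group A] [Group B] [Finite A] (τ : A →* B)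
    (S : Subgroup A) :
    Nat.card (S.map τ) * Nat.card {c : A // c ∈ S ∧ τ c = 1} = Nat.card S := by
  rw [← MonoidHom.domRestrict_range,
    ← Nat.card_congr (QuotientGroup.quotientKerEquivRange (τ.domRestrict S)).toEquiv]
  have e : {c : A // c ∈ S ∧ τ c = 1} ≃ (τ.domRestrict S).ker :=
    { toFun := fun c => ⟨⟨c.1, c.2.1⟩, c.2.2⟩
      invFun := fun c => ⟨c.1.1, c.1.2, c.2⟩
      left_inv := fun c => rfl
      right_inv := fun c => rfl }
  rw [Nat.card_congr e, ← Subgroup.card_eq_card_quotient_mul_card_subgroup]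

section

end

end Cfsg.Agent.Lib.Helper5.ChevStruct
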