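import Mathlib
import Cfsg.Prelude.Def_ChevStructure
import Cfsg.Agent.Lib.Helper5.ChevTwistTorus
import Cfsg.Agent.Lib.Helper5.ChevGroupCard

set_option autoImplicit false

/-!
`σ` permutes the root subgroups according to the symmetry `ρ` of the diagram: it preserves `U`, `V`,
`H`, `N`, `B` and maps `n_w`, `U_w⁻` to `n_{ρ w}`, `U_{ρ w}⁻`.
-/

namespace Cfsg.Agent.Lib.Helper5.ChevSym

open Cfsg Cfsg.Lie

/-- the checks on the symmetry of the roots -/
def checkSigma (D : ChevalleyDatum) (G : GraphData) : Bool :=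
  ((List.range D.nroots).all fun r =>
    Nat.beq (G.pr.getD (D.neg r) 0) (D.neg (G.pr.getD r 0)) &&
    (Nat.ble (D.nroots / 2) (G.pr.getD r 0) == Nat.ble (D.nroots / 2) r) &&
    (List.range D.rank).all fun i =>
      Nat.beq (D.reflectRoot (G.rho.getD i 0) (G.pr.getD r 0)) (G.pr.getD (D.reflectRoot i r) 0)) &&
  (List.range D.rank).all fun i =>
    Nat.blt (G.rho.getD i 0) D.rank &&
    Nat.beq (G.pr.getD (D.simple i) 0) (D.simple (G.rho.getD i 0)) &&
    decide (G.eps.getD (D.simple i) 1 = 1) && decide (G.eps.getD (D.neg (D.simple i)) 1 = 1)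

/-- what the checks give -/
structure SigmaOK (D : ChevalleyDatum) (G : GraphData) : Prop where
  neg_pr : ∀ r < D.nroots, G.pr.getD (D.neg r) 0 = D.neg (G.pr.getD r 0)
  pos_pr : ∀ r < D.nroots, (D.nroots / 2 ≤ G.pr.getD r 0 ↔ D.nroots / 2 ≤ r)
  refl_pr : ∀ r < D.nroots, ∀ i < D.rank,
    D.reflectRoot (G.rho.getD i 0) (G.pr.getD r 0) = G.pr.getD (D.reflectRoot i r) 0
  rho_lt : ∀ i < D.rank, G.rho.getD i 0 < D.rank
  simple_pr : ∀ i < D.rank, G.pr.getD (D.simple i) 0 = D.simple (G.rho.getD i 0)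
  eps_simple : ∀ i < D.rank, G.eps.getD (D.simple i) 1 = 1
  eps_neg_simple : ∀ i < D.rank, G.eps.getD (D.neg (D.simple i)) 1 = 1

theorem sigmaOK_of_check (D : ChevalleyDatum) (G : GraphData) (h : checkSigma D G = true) :
    SigmaOK D G := by
  unfold checkSigma at h
  simp only [Bool.and_eq_true, List.all_eq_true, List.mem_range, Nat.beq_eq, Nat.blt_eq,
    decide_eq_true_eq, beq_iff_eq] at h
  obtain ⟨h1, h2⟩ := h
  exact {
    neg_pr := fun r hr => (h1 r hr).1.1
    pos_pr := fun r hr => by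
      have := (h1 r hr).1.2
      constructor
      · intro h
        rw [← Nat.ble_eq, ← this, Nat.ble_eq]
        exact h
      · intro h
        rw [← Nat.ble_eq, this, Nat.ble_eq]
        exact h
    refl_pr := fun r hr i hi => (h1 r hr).2 i hi
    rho_lt := fun i hi => (h2 i hi).1.1.1
    simple_pr := fun i hi => (h2 i hi).1.1.2
    eps_simple := fun i hi => (h2 i hi).1.2
    eps_neg_simple := fun i hi => (h2 i hi).2 }

end Cfsg.Agent.Lib.Helper5.ChevSym

namespace Cfsg.Agent.Lib.Helper5.ChevStruct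

open Cfsg Cfsg.Lie Cfsg.Agent.Lib.Helper5.ChevSym

variable {K : Type*} [Field K]

section

variable (D : ChevalleyDatum) (hD : D ∈ Seven) (G : GraphData)
  (hp : checkGraphPerm D G = true)
  (hG : ∀ r < D.nroots, checkGraphAt D G r = true) (hS : SigmaOK D G) (f : K →+* K)

/-- `ρ` on the indices of the fundamental roots -/
def rhoS (G : GraphData) (i : ℕ) : ℕ := G.rho.getD i 0

include hD hp hS in
theorem pr_pos (r : ℕ) (hr : D.IsPosRoot r) : D.IsPosRoot (G.pr.getD r 0) := by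
  rw [isPosRoot_iff D hD] at hr ⊢
  exact ⟨(hS.pos_pr r hr.2).2 hr.1, (checkGraphPerm_root D G hp r hr.2).1⟩

include hD hS in
theorem pr_not_pos (r : ℕ) (hr : r < D.nroots) (h : ¬ D.IsPosRoot r) :
    ¬ D.IsPosRoot (G.pr.getD r 0) := by
  rw [isPosRoot_iff D hD] at h ⊢
  intro h'
  exact h ⟨(hS.pos_pr r hr).1 h'.1, hr⟩

include hD hp hS in
theorem pr_neg (r : ℕ) (hr : D.IsNegRoot r) : D.IsNegRoot (G.pr.getD r 0) := by
  have hlt : r < D.nroots := hr.1
  have hlt' := (checkGraphPerm_root D G hp r hlt).1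
  apply isNegRoot_of_not_pos D hD _ hlt'
  apply pr_not_pos D hD G hS r hlt
  intro hpos
  rcases pos_or_neg D hD r hlt with h | ⟨h, -⟩
  · have h1 := (isPosRoot_iff_co D hD r).1 hpos
    have h2 := (isNegRoot_iff_co D hD r).1 hr
    obtain ⟨k, hk, hne⟩ := exists_co_ne_zero D hD r hlt
    have := h1.2 k hk
    have := h2.2 k hk
    omega
  · have h1 := (isPosRoot_iff_co D hD r).1 hpos
    have h2 := (isNegRoot_iff_co D hD r).1 hr
    obtain ⟨k, hk, hne⟩ := exists_co_ne_zero D hD r hlt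
    have := h1.2 k hk
    have := h2.2 k hk
    omega

include hD hS in
/-- `(ρ w)(ρ r) = ρ (w r)` -/
theorem wAct_map_rho (w : List ℕ) (hw : Wd D w) (r : ℕ) (hr : r < D.nroots) :
    wAct D (w.map (rhoS G)) (G.pr.getD r 0) = G.pr.getD (wAct D w r) 0 := by
  induction w with
  | nil => rfl
  | cons i w ih =>
    have e1 : wAct D ((i :: w).map (rhoS G)) (G.pr.getD r 0)
        = D.reflectRoot (rhoS G i) (wAct D (w.map (rhoS G)) (G.pr.getD r 0)) := rfl
    have e2 : wAct D (i :: w) r = D.reflectRoot i (wAct D w r) := rfl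
    rw [e1, e2, ih hw.tail]
    exact hS.refl_pr _ (wAct_lt D hD w hw.tail r hr) i hw.head

include hG hS in
/-- `σ(n_i) = n_{ρ i}` -/
theorem sigma_nGL (i : ℕ) (hi : i < D.rank) :
    sigma D G hp f (nGL D hD i) = nGL D hD (rhoS G i) := by
  have h1 := simple_lt D hD i hi
  have h2 := (neg_lt D hD _ h1).1
  unfold nGL
  rw [sigma_wordGL D hD G hp hG f _ (by
    intro p hp'
    unfold ChevalleyDatum.nWord at hp'
    simp only [List.mem_cons, List.not_mem_nil, or_false] at hp'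
    rcases hp' with rfl | rfl | rfl <;> assumption)]
  unfold ChevalleyDatum.nWord
  simp only [List.map_cons, List.map_nil, hS.neg_pr _ h1, hS.simple_pr i hi, hS.eps_simple i hi,
    hS.eps_neg_simple i hi, Int.cast_one, one_mul, map_neg, map_inv₀, map_one]
  rfl

include hG hS in
/-- `σ(n_w) = n_{ρ w}` -/
theorem sigma_wGL (w : List ℕ) (hw : Wd D w) :
    sigma D G hp f (wGL D hD w) = wGL D hD (w.map (rhoS G)) := by
  induction w with
  | nil => simp [wGL]
  | cons i w ih =>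
    rw [wGL_cons, map_mul, sigma_nGL D hD G hp hG hS f i hw.head, ih hw.tail, List.map_cons,
      wGL_cons]

include hS in
theorem wd_map_rho (w : List ℕ) (hw : Wd D w) : Wd D (w.map (rhoS G)) := by
  intro j hj
  rw [List.mem_map] at hj
  obtain ⟨i, hi, rfl⟩ := hj
  exact hS.rho_lt i (hw i hi)

include hD hG in
/-- `σ` maps `⟨X_r : r ∈ T⟩` into `⟨X_r : r ∈ T'⟩` when `ρ T ⊆ T'` -/
theorem sigma_mem_rootSetSub (T T' : Set ℕ) (hT : ∀ r ∈ T, r < D.nroots ∧ G.pr.getD r 0 ∈ T')
    (g : GL D.Idx K) (hg : g ∈ rootSetSub D K T) : sigma D G hp f g ∈ rootSetSub D K T' := by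
  unfold rootSetSub at hg
  induction hg using Subgroup.closure_induction with
  | mem y hy =>
    obtain ⟨r, t, hr, hy⟩ := hy
    have e : y = xGL D hD r t := Units.ext (by rw [hy, xGL_val])
    rw [e, sigma_xGL D hD G hp hG f r (hT r hr).1 t]
    exact xGL_mem_rootSetSub D hD T' _ (hT r hr).2 _
  | one => rw [map_one]; exact one_mem _
  | mul a b _ _ ha hb => rw [map_mul]; exact mul_mem ha hb
  | inv a _ ha => rw [map_inv]; exact inv_mem ha

include hD hG hS in
theorem sigma_mem_pos (g : GL D.Idx K) (hg : g ∈ D.posUnipotent K) :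
    sigma D G hp f g ∈ D.posUnipotent K := by
  have e : D.posUnipotent K = rootSetSub D K {r | D.IsPosRoot r} := rfl
  rw [e] at hg ⊢
  exact sigma_mem_rootSetSub D hD G hp hG f _ _
    (fun r hr => ⟨hr.1, pr_pos D hD G hp hS r hr⟩) g hg

include hD hG hS in
theorem sigma_mem_neg (g : GL D.Idx K) (hg : g ∈ D.negUnipotent K) :
    sigma D G hp f g ∈ D.negUnipotent K := by
  have e : D.negUnipotent K = rootSetSub D K {r | D.IsNegRoot r} := rfl
  rw [e] at hg ⊢
  exact sigma_mem_rootSetSub D hD G hp hG f _ _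
    (fun r hr => ⟨hr.1, pr_neg D hD G hp hS r hr⟩) g hg

include hD hG hS in
/-- `σ(U_w⁻) ≤ U_{ρ w}⁻` -/
theorem sigma_mem_unegSub (w : List ℕ) (hw : Wd D w) (g : GL D.Idx K)
    (hg : g ∈ unegSub D K w) : sigma D G hp f g ∈ unegSub D K (w.map (rhoS G)) := by
  unfold unegSub at hg ⊢
  apply sigma_mem_rootSetSub D hD G hp hG f _ _ _ g hg
  rintro r ⟨hr1, hr2⟩
  refine ⟨hr1.1, pr_pos D hD G hp hS r hr1, ?_⟩
  rw [wAct_map_rho D hD G hS w hw r hr1.1]
  exact pr_not_pos D hD G hS _ (wAct_lt D hD w hw r hr1.1) hr2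

include hD hG in
/-- `σ(H) ≤ H` -/
theorem sigma_mem_diag (rho : Equiv.Perm (Fin D.rank))
    (hrho : ∀ i : Fin D.rank,
      G.pr.getD (D.simple i) 0 = D.simple (rho i) ∧
      G.pr.getD (D.neg (D.simple i)) 0 = D.neg (D.simple (rho i)) ∧
      G.eps.getD (D.simple i) 1 = 1 ∧ G.eps.getD (D.neg (D.simple i)) 1 = 1 ∧
      D.simple i < D.nroots ∧ D.neg (D.simple i) < D.nroots)
    (g : GL D.Idx K) (hg : g ∈ D.diagonalSubgroup K) :
    sigma D G hp f g ∈ D.diagonalSubgroup K := by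
  rw [← torHom_range D hD] at hg ⊢
  obtain ⟨c, rfl⟩ := hg
  rw [sigma_torHom D hD G hp hG f rho hrho c]
  exact ⟨_, rfl⟩

include hD hG hS in
/-- `σ(N) ≤ N` -/
theorem sigma_mem_monomial (rho : Equiv.Perm (Fin D.rank))
    (hrho : ∀ i : Fin D.rank,
      G.pr.getD (D.simple i) 0 = D.simple (rho i) ∧
      G.pr.getD (D.neg (D.simple i)) 0 = D.neg (D.simple (rho i)) ∧
      G.eps.getD (D.simple i) 1 = 1 ∧ G.eps.getD (D.neg (D.simple i)) 1 = 1 ∧
      D.simple i < D.nroots ∧ D.neg (D.simple i) < D.nroots)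
    (g : GL D.Idx K) (hg : g ∈ D.monomialSubgroup K) :
    sigma D G hp f g ∈ D.monomialSubgroup K := by
  obtain ⟨w, hw, h, hh, rfl⟩ := exists_word_of_mem_monomial D hD g hg
  rw [map_mul, sigma_wGL D hD G hp hG hS f w hw]
  exact mul_mem (wGL_mem D hD _ (wd_map_rho D G hS w hw))
    (diagonal_le_monomial D (sigma_mem_diag D hD G hp hG f rho hrho h hh))

include hD hG hS in
/-- `σ(B) ≤ B` -/
theorem sigma_mem_borel (rho : Equiv.Perm (Fin D.rank))
    (hrho : ∀ i : Fin D.rank,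
      G.pr.getD (D.simple i) 0 = D.simple (rho i) ∧
      G.pr.getD (D.neg (D.simple i)) 0 = D.neg (D.simple (rho i)) ∧
      G.eps.getD (D.simple i) 1 = 1 ∧ G.eps.getD (D.neg (D.simple i)) 1 = 1 ∧
      D.simple i < D.nroots ∧ D.neg (D.simple i) < D.nroots)
    (g : GL D.Idx K) (hg : g ∈ D.borelSubgroup K) :
    sigma D G hp f g ∈ D.borelSubgroup K := by
  have : D.borelSubgroup K ≤ (D.borelSubgroup K).comap (sigma D G hp f) := by
    unfold ChevalleyDatum.borelSubgroup
    apply sup_le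
    · intro x hx
      exact Subgroup.mem_sup_left (sigma_mem_pos D hD G hp hG hS f x hx)
    · intro x hx
      exact Subgroup.mem_sup_right (sigma_mem_diag D hD G hp hG f rho hrho x hx)
  exact this hg

end

end Cfsg.Agent.Lib.Helper5.ChevStruct
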