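import Mathlib
import Cfsg.Prelude.Def_ChevStructure
import Cfsg.Agent.Lib.Helper5.ChevTwistSigma

set_option autoImplicit false

/-!
The elements of the Weyl group commuting with the symmetry `ρ` of the diagram are the products of
the elements `w_J`, `J` an orbit of `ρ` on the fundamental roots (here all orbits consist of
pairwise orthogonal roots).
-/

namespace Cfsg.Agent.Lib.Helper5.ChevStruct

open Cfsg Cfsg.Lie Cfsg.Agent.Lib.Helper5.ChevSym

/-- `N(w) ≤ ℓ(w)` -/
theorem card_negSet_le_length (D : ChevalleyDatum) (hD : D ∈ Seven) (w : List ℕ) (hw : Wd D w) :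
    (negSet D w).card ≤ w.length := by
  obtain ⟨w₀, hrel, hred, hle⟩ := exists_reduced D hD w hw
  rw [negSet_congr D _ _ (hrel.act hD), ← hred]
  exact hle

/-- a word making some positive root negative makes some fundamental root negative -/
theorem exists_simple_neg (D : ChevalleyDatum) (hD : D ∈ Seven) (w : List ℕ) (hw : Wd D w)
    (h : 0 < (negSet D w).card) : ∃ j < D.rank, ¬ D.IsPosRoot (wAct D w (D.simple j)) := by
  obtain ⟨w₀, hrel, hred, -⟩ := exists_reduced D hD w hw
  have hact := hrel.act hD
  have hw₀ := hrel.wd.2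
  rw [negSet_congr D _ _ hact] at h
  rcases List.eq_nil_or_concat w₀ with e | ⟨w₁, j, e⟩
  · rw [e, negSet_nil] at h
    exact absurd h (by simp)
  · rw [List.concat_eq_append] at e
    have hj : j < D.rank := hw₀ j (by rw [e]; simp)
    have hw₁ : Wd D w₁ := by
      rw [e] at hw₀
      exact hw₀.left
    refine ⟨j, hj, ?_⟩
    rw [hact _ (simple_lt D hD j hj)]
    intro hpos
    have h1 := card_negSet_append_pos D hD w₀ hw₀ j hj hpos
    have h2 : negSet D (w₀ ++ [j]) = negSet D w₁ := by
      apply negSet_congr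
      intro r hr
      rw [e, wAct_append_single, wAct_append_single, (reflectRoot_invol D hD j hj r hr).2]
    have h3 := card_negSet_le_length D hD w₁ hw₁
    rw [h2, ← hred, e, List.length_append, List.length_singleton] at h1
    omega

/-- the hypotheses on the list of the orbits of `ρ` on the fundamental roots -/
structure OrbsOK (D : ChevalleyDatum) (G : GraphData) (orbs : List (List ℕ)) : Prop where
  wd : ∀ J ∈ orbs, ∀ a ∈ J, a < D.rank
  nodup : ∀ J ∈ orbs, J.Nodup
  orth : ∀ J ∈ orbs, ∀ a ∈ J, ∀ b ∈ J, a ≠ b → D.reflectRoot a (D.simple b) = D.simple b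
  trans : ∀ J ∈ orbs, ∀ a ∈ J, ∀ b ∈ J, ∃ k < 4, (fun i => G.rho.getD i 0)^[k] a = b
  comm : ∀ J ∈ orbs, ∀ r < D.nroots, wAct D J (G.pr.getD r 0) = G.pr.getD (wAct D J r) 0
  invol : ∀ J ∈ orbs, ∀ r < D.nroots, wAct D J (wAct D J r) = r
  cover : ∀ i < D.rank, ∃ J ∈ orbs, i ∈ J

/-- the words commuting with `ρ` -/
def StableW (D : ChevalleyDatum) (G : GraphData) (w : List ℕ) : Prop :=
  Wd D w ∧ ∀ r < D.nroots, wAct D w (G.pr.getD r 0) = G.pr.getD (wAct D w r) 0

section

variable (D : ChevalleyDatum) (hD : D ∈ Seven) (G : GraphData)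
  (hp : checkGraphPerm D G = true) (hS : SigmaOK D G) (orbs : List (List ℕ))
  (hO : OrbsOK D G orbs)

include hD hS in
theorem stable_simple_iterate (w : List ℕ) (hw : StableW D G w) (a : ℕ) (ha : a < D.rank)
    (hneg : ¬ D.IsPosRoot (wAct D w (D.simple a))) (k : ℕ) :
    (fun i => G.rho.getD i 0)^[k] a < D.rank ∧
      ¬ D.IsPosRoot (wAct D w (D.simple ((fun i => G.rho.getD i 0)^[k] a))) := by
  induction k with
  | zero => exact ⟨ha, hneg⟩
  | succ k ih =>
    rw [Function.iterate_succ_apply']
    obtain ⟨h1, h2⟩ := ih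
    refine ⟨hS.rho_lt _ h1, ?_⟩
    rw [← hS.simple_pr _ h1, hw.2 _ (simple_lt D hD _ h1)]
    exact pr_not_pos D hD G hS _ (wAct_lt D hD w hw.1 _ (simple_lt D hD _ h1)) h2

/-- a product of reflections in roots orthogonal to `p_b` fixes `p_b` -/
theorem wAct_orth (L : List ℕ) (b : ℕ)
    (h : ∀ a ∈ L, D.reflectRoot a (D.simple b) = D.simple b) :
    wAct D L (D.simple b) = D.simple b := by
  induction L with
  | nil => rfl
  | cons a L ih =>
    have e : wAct D (a :: L) (D.simple b) = D.reflectRoot a (wAct D L (D.simple b)) := rfl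
    rw [e, ih (fun a' ha' => h a' (List.mem_cons_of_mem _ ha')), h a (List.mem_cons_self ..)]

include hD in
/-- `N(w w_J) + |J| = N(w)` when `w` makes the (pairwise orthogonal) roots of `J` negative -/
theorem card_negSet_append_orth (w : List ℕ) (hw : Wd D w) (J : List ℕ)
    (hJ : ∀ a ∈ J, a < D.rank) (hnd : J.Nodup)
    (horth : ∀ a ∈ J, ∀ b ∈ J, a ≠ b → D.reflectRoot a (D.simple b) = D.simple b)
    (hneg : ∀ a ∈ J, ¬ D.IsPosRoot (wAct D w (D.simple a))) :
    (negSet D (w ++ J)).card + J.length = (negSet D w).card := by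
  induction J using List.reverseRecOn with
  | nil => simp
  | append_singleton J b ih =>
    have hb : b < D.rank := hJ b (by simp)
    have hJ' : ∀ a ∈ J, a < D.rank := fun a ha => hJ a (by simp [ha])
    rw [List.nodup_append] at hnd
    obtain ⟨hnd1, -, hnd3⟩ := hnd
    have hbJ : ∀ a ∈ J, a ≠ b := fun a ha => hnd3 a ha b (by simp)
    have ih' := ih hJ' hnd1
      (fun a ha c hc hac => horth a (by simp [ha]) c (by simp [hc]) hac)
      (fun a ha => hneg a (by simp [ha]))
    have hfix : wAct D J (D.simple b) = D.simple b :=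
      wAct_orth D J b (fun a ha => horth a (by simp [ha]) b (by simp) (hbJ a ha))
    have hn : ¬ D.IsPosRoot (wAct D (w ++ J) (D.simple b)) := by
      rw [wAct_append, hfix]
      exact hneg b (by simp)
    have := card_negSet_append D hD (w ++ J) (hw.append hJ') b hb hn
    rw [List.length_append, List.length_singleton, ← List.append_assoc]
    omega

include hD hS hO in
/-- the words commuting with `ρ` act as products of the `w_J` -/
theorem stable_gen (w : List ℕ) (hw : StableW D G w) :
    ∃ Js : List (List ℕ), (∀ J ∈ Js, J ∈ orbs) ∧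
      ∀ r < D.nroots, wAct D w r = wAct D Js.flatten r := by
  obtain ⟨n, hn⟩ : ∃ n, (negSet D w).card = n := ⟨_, rfl⟩
  induction n using Nat.strong_induction_on generalizing w with
  | _ n ih =>
    rcases Nat.eq_zero_or_pos n with h0 | hpos
    · refine ⟨[], by simp, ?_⟩
      rw [h0] at hn
      exact (wrel_nil_of_card_eq_zero D hD w hw.1 hn).act hD
    · rw [← hn] at hpos
      obtain ⟨j, hj, hneg⟩ := exists_simple_neg D hD w hw.1 hpos
      obtain ⟨J, hJ, hjJ⟩ := hO.cover j hj
      have hJwd : Wd D J := hO.wd J hJ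
      have hnegJ : ∀ a ∈ J, ¬ D.IsPosRoot (wAct D w (D.simple a)) := by
        intro a ha
        obtain ⟨k, -, hk⟩ := hO.trans J hJ j hjJ a ha
        rw [← hk]
        exact (stable_simple_iterate D hD G hS w hw j hj hneg k).2
      have hcard := card_negSet_append_orth D hD w hw.1 J hJwd (hO.nodup J hJ) (hO.orth J hJ) hnegJ
      have hlen : 0 < J.length := List.length_pos_of_mem hjJ
      have hst : StableW D G (w ++ J) := by
        refine ⟨hw.1.append hJwd, fun r hr => ?_⟩
        rw [wAct_append, wAct_append, hO.comm J hJ r hr, hw.2 _ (wAct_lt D hD J hJwd r hr)]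
      obtain ⟨Js, hJs, hact⟩ := ih _ (by omega) (w ++ J) hst rfl
      refine ⟨Js ++ [J], ?_, ?_⟩
      · intro J' hJ'
        rw [List.mem_append, List.mem_singleton] at hJ'
        rcases hJ' with h | rfl
        · exact hJs _ h
        · exact hJ
      · intro r hr
        rw [List.flatten_append, List.flatten_singleton, wAct_append,
          ← hact _ (wAct_lt D hD J hJwd r hr), wAct_append, hO.invol J hJ r hr]

end

end Cfsg.Agent.Lib.Helper5.ChevStruct
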