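import Mathlib
import Cfsg.Prelude.Def_ChevStructure
import Cfsg.Agent.Lib.Helper5.ChevTwistW

set_option autoImplicit false

/-!
The Bruhat cells of the group of fixed points of `σ` in a Chevalley group: every fixed point is
`b n_w v` with `w` a product of the `w_J`, `b` a fixed point in `B` and `v` a fixed point in `U_w⁻`.
-/

namespace Cfsg.Agent.Lib.Helper5.ChevStruct

open Cfsg Cfsg.Lie Cfsg.Agent.Lib.Helper5.ChevSym

variable {K : Type*} [Field K]

section

variable (D : ChevalleyDatum) (hD : D ∈ Seven) (G : GraphData)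
  (hp : checkGraphPerm D G = true)
  (hG : ∀ r < D.nroots, checkGraphAt D G r = true) (hS : SigmaOK D G) (f : K →+* K)
  (rho : Equiv.Perm (Fin D.rank))
  (hrho : ∀ i : Fin D.rank,
      G.pr.getD (D.simple i) 0 = D.simple (rho i) ∧
      G.pr.getD (D.neg (D.simple i)) 0 = D.neg (D.simple (rho i)) ∧
      G.eps.getD (D.simple i) 1 = 1 ∧ G.eps.getD (D.neg (D.simple i)) 1 = 1 ∧
      D.simple i < D.nroots ∧ D.neg (D.simple i) < D.nroots)
  (orbs : List (List ℕ)) (hO : OrbsOK D G orbs)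

include hD hp hS in
/-- a word commuting with `ρ` acts as its image under `ρ` -/
theorem stable_map_act (w : List ℕ) (hw : StableW D G w) (r : ℕ) (hr : r < D.nroots) :
    wAct D (w.map (rhoS G)) r = wAct D w r := by
  obtain ⟨-, h2, h3⟩ := checkGraphPerm_root D G hp r hr
  rw [← h3, wAct_map_rho D hD G hS w hw.1 _ h2, hw.2 _ h2]

include hD hO in
theorem stable_flatten (Js : List (List ℕ)) (hJs : ∀ J ∈ Js, J ∈ orbs) :
    StableW D G Js.flatten := by
  induction Js with
  | nil => exact ⟨Wd.nil D, fun r _ => rfl⟩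
  | cons J Js ih =>
    have hJ := hJs J (List.mem_cons_self ..)
    have ih' := ih (fun J' hJ' => hJs J' (List.mem_cons_of_mem _ hJ'))
    have hJwd : Wd D J := hO.wd J hJ
    rw [List.flatten_cons]
    refine ⟨hJwd.append ih'.1, fun r hr => ?_⟩
    rw [wAct_append, wAct_append, ih'.2 r hr, hO.comm J hJ _ (wAct_lt D hD _ ih'.1 r hr)]

theorem wGL_flatten_mem (S : Subgroup (GL D.Idx K)) (hn : ∀ J ∈ orbs, wGL D hD J ∈ S)
    (Js : List (List ℕ)) (hJs : ∀ J ∈ Js, J ∈ orbs) : wGL D hD Js.flatten ∈ S := by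
  induction Js with
  | nil =>
    rw [List.flatten_nil, wGL_nil]
    exact one_mem _
  | cons J Js ih =>
    rw [List.flatten_cons, wGL_append]
    exact mul_mem (hn J (hJs J (List.mem_cons_self ..)))
      (ih (fun J' hJ' => hJs J' (List.mem_cons_of_mem _ hJ')))

include hD hG hS hrho in
/-- the fixed points of `σ` in `B = UH` -/
theorem borel_fix (b : GL D.Idx K) (hb : b ∈ D.borelSubgroup K)
    (hfix : b ∈ sigmaFix D G hp f) :
    ∃ u ∈ D.posUnipotent K ⊓ sigmaFix D G hp f, ∃ h ∈ D.diagonalSubgroup K ⊓ sigmaFix D G hp f,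
      b = u * h := by
  have hb' : b ∈ ((D.posUnipotent K ⊔ D.diagonalSubgroup K : Subgroup (GL D.Idx K)) :
      Set (GL D.Idx K)) := hb
  rw [Subgroup.coe_mul_of_right_le_normalizer_left _ _ (diagonal_le_normalizer_pos D hD)] at hb'
  obtain ⟨u, hu, h, hh, e⟩ := Set.mem_mul.1 hb'
  rw [mem_sigmaFix, ← e, map_mul] at hfix
  have hu' := sigma_mem_pos D hD G hp hG hS f u hu
  have hh' := sigma_mem_diag D hD G hp hG f rho hrho h hh
  have e1 : u⁻¹ * sigma D G hp f u = h * (sigma D G hp f h)⁻¹ := by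
    have : sigma D G hp f u = u * h * (sigma D G hp f h)⁻¹ := by
      rw [← hfix]; group
    rw [this]; group
  have h4 : u⁻¹ * sigma D G hp f u ∈ D.posUnipotent K ⊓ D.diagonalSubgroup K :=
    Subgroup.mem_inf.2 ⟨(D.posUnipotent K).mul_mem ((D.posUnipotent K).inv_mem hu) hu', by
      rw [e1]
      exact (D.diagonalSubgroup K).mul_mem hh ((D.diagonalSubgroup K).inv_mem hh')⟩
  rw [pos_inf_diagonal D hD, Subgroup.mem_bot] at h4
  have hu2 : sigma D G hp f u = u := by
    have := congrArg (fun y => u * y) h4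
    simpa using this
  have hh2 : sigma D G hp f h = h := by
    rw [hu2] at hfix
    exact mul_left_cancel hfix
  exact ⟨u, ⟨hu, (mem_sigmaFix D G hp f u).2 hu2⟩, h, ⟨hh, (mem_sigmaFix D G hp f h).2 hh2⟩, e.symm⟩

include hD hG hS hrho in
/-- a fixed point of `σ` lies in the cell of a word commuting with `ρ` -/
theorem cell_stable (g : GL D.Idx K) (hg : g ∈ D.group K) (hfix : g ∈ sigmaFix D G hp f) :
    ∃ w, StableW D G w ∧ ∃ b ∈ D.borelSubgroup K, ∃ v ∈ unegSub D K w,
      g = b * wGL D hD w * v := by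
  obtain ⟨w, hw, b, hb, v, hv, e⟩ := bruhat_exists_word D hD g hg
  have hw' := wd_map_rho D G hS w hw
  have e2 : g = sigma D G hp f b * wGL D hD (w.map (rhoS G)) * sigma D G hp f v := by
    rw [← sigma_wGL D hD G hp hG hS f w hw, ← map_mul, ← map_mul, ← e]
    exact ((mem_sigmaFix D G hp f g).1 hfix).symm
  have hN := wGL_mem (F := K) D hD _ hw
  have hN' := wGL_mem (F := K) D hD _ hw'
  have huniq := bruhat_unique D hD _ _ _ _ _ _ hb
    (sigma_mem_borel D hD G hp hG hS f rho hrho b hb) hN hN'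
    (unegSub_le_unegOf D hD _ hw hv)
    (unegSub_le_unegOf D hD _ hw' (sigma_mem_unegSub D hD G hp hG hS f w hw v hv))
    (e.symm.trans e2)
  have hH : (wGL D hD (w.map (rhoS G)) * (wGL D hD w)⁻¹ : GL D.Idx K)
      ∈ D.diagonalSubgroup K := by
    have h1 := (conj_monomial_diag_mem D hD _ hN _ huniq.1).1
    have e1 : (wGL D hD (w.map (rhoS G)) * (wGL D hD w)⁻¹ : GL D.Idx K)
        = wGL D hD w * ((wGL D hD w)⁻¹ * wGL D hD (w.map (rhoS G))) * (wGL D hD w)⁻¹ := by group
    rw [e1]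
    exact h1
  have hact := (hrel_iff_act_eq D hD _ _ hw' hw).1 hH
  refine ⟨w, ⟨hw, fun r hr => ?_⟩, b, hb, v, hv, e⟩
  rw [← hact _ (checkGraphPerm_root D G hp r hr).1, wAct_map_rho D hD G hS w hw r hr]

include hD hG hS hrho hO in
/-- the normal form of the fixed points of `σ` -/
theorem cell_orbits (hn : ∀ J ∈ orbs, wGL D hD J ∈ sigmaFix D G hp f)
    (g : GL D.Idx K) (hg : g ∈ D.group K) (hfix : g ∈ sigmaFix D G hp f) :
    ∃ Js : List (List ℕ), (∀ J ∈ Js, J ∈ orbs) ∧
      ∃ b ∈ D.borelSubgroup K ⊓ sigmaFix D G hp f,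
      ∃ v ∈ unegSub D K Js.flatten ⊓ sigmaFix D G hp f,
      g = b * wGL D hD Js.flatten * v := by
  obtain ⟨w, hw, b, hb, v, hv, e⟩ := cell_stable D hD G hp hG hS f rho hrho g hg hfix
  obtain ⟨Js, hJs, hact⟩ := stable_gen D hD G hS orbs hO w hw
  have hst := stable_flatten D hD G orbs hO Js hJs
  have hH := hrel_of_act_eq (F := K) D hD _ _ hw.1 hst.1 hact
  have hv' : v ∈ unegSub D K Js.flatten := by
    rw [← unegSub_congr D w _ hact]
    exact hv
  have hnfix := wGL_flatten_mem D hD orbs _ hn Js hJs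
  set n : GL D.Idx K := wGL D hD Js.flatten with hndef
  set b' := b * (wGL D hD w * n⁻¹) with hb'def
  have hb' : b' ∈ D.borelSubgroup K := mul_mem hb (diagonal_le_borel D hH)
  have e1 : g = b' * n * v := by
    rw [e, hb'def]; group
  have hwm := wd_map_rho D G hS _ hst.1
  have hv2 : sigma D G hp f v ∈ unegSub D K Js.flatten := by
    rw [← unegSub_congr D (Js.flatten.map (rhoS G)) _
      (stable_map_act D hD G hp hS _ hst)]
    exact sigma_mem_unegSub D hD G hp hG hS f _ hst.1 v hv'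
  have e2 : g = sigma D G hp f b' * n * sigma D G hp f v := by
    have : sigma D G hp f n = n := (mem_sigmaFix D G hp f n).1 hnfix
    rw [← this, ← map_mul, ← map_mul, ← e1]
    exact ((mem_sigmaFix D G hp f g).1 hfix).symm
  have hN := wGL_mem (F := K) D hD _ hst.1
  have huniq := bruhat_unique D hD _ _ _ _ _ _ hb'
    (sigma_mem_borel D hD G hp hG hS f rho hrho b' hb') hN hN
    (unegSub_le_unegOf D hD _ hst.1 hv') (unegSub_le_unegOf D hD _ hst.1 hv2)
    (e1.symm.trans e2)
  obtain ⟨h1, h2⟩ := huniq.2 rfl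
  exact ⟨Js, hJs, b', ⟨hb', (mem_sigmaFix D G hp f b').2 h1.symm⟩, v,
    ⟨hv', (mem_sigmaFix D G hp f v).2 h2.symm⟩, e1⟩

end

end Cfsg.Agent.Lib.Helper5.ChevStruct
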