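import Mathlib
import Cfsg.Prelude.Def_ChevStructure
import Cfsg.Agent.Lib.Helper5.ChevTwistCell

set_option autoImplicit false

/-!
The group of fixed points of `σ` as a disjoint union of cells indexed by the group `W¹` generated by
the `w_J`.
-/

namespace Cfsg.Agent.Lib.Helper5.ChevStruct

open Cfsg Cfsg.Lie Cfsg.Agent.Lib.Helper5.ChevSym

variable {K : Type*} [Field K]

/-- the group `W¹` generated by the `w_J` -/
def WT (D : ChevalleyDatum) (hD : D ∈ Seven) (orbs : List (List ℕ)) :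
    Subgroup (Equiv.Perm (Fin D.nroots)) :=
  Subgroup.closure {σ | ∃ J ∈ orbs, σ = wPerm D hD J}

section

variable (D : ChevalleyDatum) (hD : D ∈ Seven) (G : GraphData)
  (hp : checkGraphPerm D G = true)
  (hG : ∀ r < D.nroots, checkGraphAt D G r = true) (hS : SigmaOK D G) (f : K →+* K)
  (rho : Equiv.Perm (Fin D.rank))
  (hrho : ∀ i : Fin D.rank,
      G.pr.getD (D.simple i) 0 = D.simple (rho i) ∧
      G.pr.getD (D.neg (D.simple i)) 0 = D.neg (D.simple (rho i)) ∧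
      G.eps.getD (D.simple i) 1 = 1 ∧ G.eps.getD (D.neg (D.simple i)) 1 = 1 ∧
      D.simple i < D.nroots ∧ D.neg (D.simple i) < D.nroots)
  (orbs : List (List ℕ)) (hO : OrbsOK D G orbs)

include hO in
theorem wPerm_orb_sq (J : List ℕ) (hJ : J ∈ orbs) : wPerm D hD J * wPerm D hD J = 1 := by
  have hJwd : Wd D J := hO.wd J hJ
  rw [← wPerm_append, ← wPerm_nil D hD]
  apply (wPerm_eq_iff D hD _ _ (hJwd.append hJwd) (Wd.nil D)).2
  intro r hr
  rw [wAct_append, hO.invol J hJ r hr]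
  rfl

include hO in
theorem wPerm_orb_inv (J : List ℕ) (hJ : J ∈ orbs) : (wPerm D hD J)⁻¹ = wPerm D hD J :=
  inv_eq_of_mul_eq_one_left (wPerm_orb_sq D hD G orbs hO J hJ)

theorem wPerm_flatten_mem_WT (Js : List (List ℕ)) (hJs : ∀ J ∈ Js, J ∈ orbs) :
    wPerm D hD Js.flatten ∈ WT D hD orbs := by
  induction Js with
  | nil => exact one_mem _
  | cons J Js ih =>
    rw [List.flatten_cons, wPerm_append]
    exact mul_mem (Subgroup.subset_closure ⟨J, hJs J (List.mem_cons_self ..), rfl⟩)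
      (ih (fun J' hJ' => hJs J' (List.mem_cons_of_mem _ hJ')))

include hO in
theorem wPerm_flatten_reverse (Js : List (List ℕ)) (hJs : ∀ J ∈ Js, J ∈ orbs) :
    wPerm D hD Js.reverse.flatten = (wPerm D hD Js.flatten)⁻¹ := by
  induction Js with
  | nil => simp [wPerm_nil]
  | cons J Js ih =>
    rw [List.reverse_cons, List.flatten_append, List.flatten_singleton, wPerm_append,
      ih (fun J' hJ' => hJs J' (List.mem_cons_of_mem _ hJ')), List.flatten_cons, wPerm_append,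
      mul_inv_rev, wPerm_orb_inv D hD G orbs hO J (hJs J (List.mem_cons_self ..))]

include hO in
theorem exists_orbits_of_mem_WT (σ : Equiv.Perm (Fin D.nroots)) (hσ : σ ∈ WT D hD orbs) :
    ∃ Js : List (List ℕ), (∀ J ∈ Js, J ∈ orbs) ∧ wPerm D hD Js.flatten = σ := by
  unfold WT at hσ
  induction hσ using Subgroup.closure_induction with
  | mem y hy =>
    obtain ⟨J, hJ, rfl⟩ := hy
    refine ⟨[J], ?_, by rw [List.flatten_singleton]⟩
    intro J' hJ'
    rw [List.mem_singleton] at hJ'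
    rw [hJ']
    exact hJ
  | one => exact ⟨[], by simp, rfl⟩
  | mul a b _ _ ha hb =>
    obtain ⟨Ja, hJa, rfl⟩ := ha
    obtain ⟨Jb, hJb, rfl⟩ := hb
    refine ⟨Ja ++ Jb, ?_, by rw [List.flatten_append, wPerm_append]⟩
    intro J hJ
    rcases List.mem_append.1 hJ with h | h
    · exact hJa J h
    · exact hJb J h
  | inv a _ ha =>
    obtain ⟨Ja, hJa, rfl⟩ := ha
    exact ⟨Ja.reverse, fun J hJ => hJa J (List.mem_reverse.1 hJ),
      wPerm_flatten_reverse D hD G orbs hO Ja hJa⟩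

/-- a chosen product of the `w_J` for an element of `W¹` -/
noncomputable def orbsOf (σ : ↥(WT D hD orbs)) : List (List ℕ) :=
  Classical.choose (exists_orbits_of_mem_WT D hD G orbs hO σ.1 σ.2)

theorem orbsOf_spec (σ : ↥(WT D hD orbs)) :
    (∀ J ∈ orbsOf D hD G orbs hO σ, J ∈ orbs) ∧
      wPerm D hD (orbsOf D hD G orbs hO σ).flatten = σ.1 :=
  Classical.choose_spec (exists_orbits_of_mem_WT D hD G orbs hO σ.1 σ.2)

/-- the cells -/
noncomputable def cellMapT (hn : ∀ J ∈ orbs, wGL D hD J ∈ sigmaFix D G hp f)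
    (p : Σ σ : ↥(WT D hD orbs), ↥(D.borelSubgroup K ⊓ sigmaFix D G hp f) ×
      ↥(unegSub D K (orbsOf D hD G orbs hO σ).flatten ⊓ sigmaFix D G hp f)) :
    ↥(D.group K ⊓ sigmaFix D G hp f) :=
  ⟨(p.2.1 : GL D.Idx K) * wGL D hD (orbsOf D hD G orbs hO p.1).flatten * (p.2.2 : GL D.Idx K), by
    have hst := stable_flatten D hD G orbs hO _ (orbsOf_spec D hD G orbs hO p.1).1
    have hb := Subgroup.mem_inf.1 p.2.1.2
    have hv := Subgroup.mem_inf.1 p.2.2.2
    refine Subgroup.mem_inf.2 ⟨?_, ?_⟩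
    · exact mul_mem (mul_mem (borel_le_group D hD hb.1)
        (monomial_le_group D hD (wGL_mem D hD _ hst.1)))
        (borel_le_group D hD (pos_le_borel D
          (unegOf_le_pos D _ (unegSub_le_unegOf D hD _ hst.1 hv.1))))
    · exact mul_mem (mul_mem hb.2
        (wGL_flatten_mem D hD orbs _ hn _ (orbsOf_spec D hD G orbs hO p.1).1)) hv.2⟩

include hG hS hrho in
theorem cellMapT_bijective (hn : ∀ J ∈ orbs, wGL D hD J ∈ sigmaFix D G hp f) :
    Function.Bijective (cellMapT D hD G hp f orbs hO hn) := by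
  constructor
  · rintro ⟨σ, b, v⟩ ⟨σ', b', v'⟩ h
    have hw := (stable_flatten D hD G orbs hO _ (orbsOf_spec D hD G orbs hO σ).1).1
    have hw' := (stable_flatten D hD G orbs hO _ (orbsOf_spec D hD G orbs hO σ').1).1
    have e : (b : GL D.Idx K) * wGL D hD (orbsOf D hD G orbs hO σ).flatten * (v : GL D.Idx K)
        = (b' : GL D.Idx K) * wGL D hD (orbsOf D hD G orbs hO σ').flatten * (v' : GL D.Idx K) :=
      congrArg (fun g : ↥(D.group K ⊓ sigmaFix D G hp f) => (g : GL D.Idx K)) h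
    have hN := wGL_mem (F := K) D hD _ hw
    have hN' := wGL_mem (F := K) D hD _ hw'
    have huniq := bruhat_unique D hD _ _ _ _ _ _ (Subgroup.mem_inf.1 b.2).1
      (Subgroup.mem_inf.1 b'.2).1 hN hN'
      (unegSub_le_unegOf D hD _ hw (Subgroup.mem_inf.1 v.2).1)
      (unegSub_le_unegOf D hD _ hw' (Subgroup.mem_inf.1 v'.2).1) e
    have hH : (wGL D hD (orbsOf D hD G orbs hO σ).flatten *
        (wGL D hD (orbsOf D hD G orbs hO σ').flatten)⁻¹ : GL D.Idx K)
        ∈ D.diagonalSubgroup K := by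
      have h1 := (conj_monomial_diag_mem D hD _ hN _ huniq.1).1
      have e1 : (wGL D hD (orbsOf D hD G orbs hO σ).flatten *
          (wGL D hD (orbsOf D hD G orbs hO σ').flatten)⁻¹ : GL D.Idx K)
          = (wGL D hD (orbsOf D hD G orbs hO σ).flatten *
            ((wGL D hD (orbsOf D hD G orbs hO σ).flatten)⁻¹ *
              wGL D hD (orbsOf D hD G orbs hO σ').flatten)
            * (wGL D hD (orbsOf D hD G orbs hO σ).flatten)⁻¹)⁻¹ := by group
      rw [e1]
      exact inv_mem h1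
    have hact := (hrel_iff_act_eq D hD _ _ hw hw').1 hH
    have hσ : σ = σ' := by
      apply Subtype.ext
      rw [← (orbsOf_spec D hD G orbs hO σ).2, ← (orbsOf_spec D hD G orbs hO σ').2]
      exact (wPerm_eq_iff D hD _ _ hw hw').2 hact
    subst hσ
    obtain ⟨hb, hv⟩ := huniq.2 rfl
    have hb' : b = b' := Subtype.ext hb
    have hv' : v = v' := Subtype.ext hv
    rw [hb', hv']
  · rintro ⟨g, hg⟩
    obtain ⟨hg1, hg2⟩ := Subgroup.mem_inf.1 hg
    obtain ⟨Js, hJs, b, hb, v, hv, e⟩ :=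
      cell_orbits D hD G hp hG hS f rho hrho orbs hO hn g hg1 hg2
    set σ : ↥(WT D hD orbs) := ⟨wPerm D hD Js.flatten, wPerm_flatten_mem_WT D hD orbs Js hJs⟩
      with hσ
    have hw := (stable_flatten D hD G orbs hO Js hJs).1
    have hw₀ := (stable_flatten D hD G orbs hO _ (orbsOf_spec D hD G orbs hO σ).1).1
    have hact : ∀ r < D.nroots,
        wAct D Js.flatten r = wAct D (orbsOf D hD G orbs hO σ).flatten r :=
      (wPerm_eq_iff D hD _ _ hw hw₀).1 (orbsOf_spec D hD G orbs hO σ).2.symm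
    have hH := hrel_of_act_eq (F := K) D hD _ _ hw hw₀ hact
    have hHfix : (wGL D hD Js.flatten * (wGL D hD (orbsOf D hD G orbs hO σ).flatten)⁻¹ :
        GL D.Idx K) ∈ sigmaFix D G hp f :=
      mul_mem (wGL_flatten_mem D hD orbs _ hn Js hJs)
        (inv_mem (wGL_flatten_mem D hD orbs _ hn _ (orbsOf_spec D hD G orbs hO σ).1))
    obtain ⟨hv1, hv2⟩ := Subgroup.mem_inf.1 hv
    obtain ⟨hb1, hb2⟩ := Subgroup.mem_inf.1 hb
    have hv' : v ∈ unegSub D K (orbsOf D hD G orbs hO σ).flatten := by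
      rw [← unegSub_congr D Js.flatten _ hact]
      exact hv1
    refine ⟨⟨σ, ⟨b * (wGL D hD Js.flatten * (wGL D hD (orbsOf D hD G orbs hO σ).flatten)⁻¹),
      Subgroup.mem_inf.2 ⟨mul_mem hb1 (diagonal_le_borel D hH), mul_mem hb2 hHfix⟩⟩,
      ⟨v, Subgroup.mem_inf.2 ⟨hv', hv2⟩⟩⟩, ?_⟩
    apply Subtype.ext
    show b * (wGL D hD Js.flatten * (wGL D hD (orbsOf D hD G orbs hO σ).flatten)⁻¹) *
      wGL D hD (orbsOf D hD G orbs hO σ).flatten * v = g
    rw [e]
    group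

include hD hG hS hrho in
/-- `|B ∩ Fix| = |U ∩ Fix| |H ∩ Fix|` -/
theorem card_borel_fix :
    Nat.card ↥(D.borelSubgroup K ⊓ sigmaFix D G hp f) =
      Nat.card ↥(D.posUnipotent K ⊓ sigmaFix D G hp f) *
        Nat.card ↥(D.diagonalSubgroup K ⊓ sigmaFix D G hp f) := by
  rw [← Nat.card_prod]
  symm
  apply Nat.card_congr
  refine Equiv.ofBijective (fun p : ↥(D.posUnipotent K ⊓ sigmaFix D G hp f) ×
      ↥(D.diagonalSubgroup K ⊓ sigmaFix D G hp f) =>
    (⟨(p.1 : GL D.Idx K) * (p.2 : GL D.Idx K),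
      Subgroup.mem_inf.2 ⟨mul_mem (pos_le_borel D (Subgroup.mem_inf.1 p.1.2).1)
        (diagonal_le_borel D (Subgroup.mem_inf.1 p.2.2).1),
        mul_mem (Subgroup.mem_inf.1 p.1.2).2 (Subgroup.mem_inf.1 p.2.2).2⟩⟩ :
      ↥(D.borelSubgroup K ⊓ sigmaFix D G hp f))) ⟨?_, ?_⟩
  · rintro ⟨a, b⟩ ⟨a', b'⟩ h
    have h' : (a : GL D.Idx K) * (b : GL D.Idx K) = (a' : GL D.Idx K) * (b' : GL D.Idx K) :=
      congrArg Subtype.val h
    have e : (a' : GL D.Idx K)⁻¹ * (a : GL D.Idx K) = (b' : GL D.Idx K) * (b : GL D.Idx K)⁻¹ := by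
      have : (a : GL D.Idx K) = (a' : GL D.Idx K) * (b' : GL D.Idx K) * (b : GL D.Idx K)⁻¹ := by
        rw [← h']; group
      rw [this]; group
    have h4 : (a' : GL D.Idx K)⁻¹ * (a : GL D.Idx K)
        ∈ D.posUnipotent K ⊓ D.diagonalSubgroup K :=
      Subgroup.mem_inf.2 ⟨(D.posUnipotent K).mul_mem
        ((D.posUnipotent K).inv_mem (Subgroup.mem_inf.1 a'.2).1) (Subgroup.mem_inf.1 a.2).1, by
        rw [e]
        exact (D.diagonalSubgroup K).mul_mem (Subgroup.mem_inf.1 b'.2).1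
          ((D.diagonalSubgroup K).inv_mem (Subgroup.mem_inf.1 b.2).1)⟩
    rw [pos_inf_diagonal D hD, Subgroup.mem_bot] at h4
    have ha : (a : GL D.Idx K) = a' := by
      have := congrArg (fun y => (a' : GL D.Idx K) * y) h4
      simpa using this
    have hb : (b : GL D.Idx K) = b' := by
      rw [ha] at h'
      exact mul_left_cancel h'
    exact Prod.ext (Subtype.ext ha) (Subtype.ext hb)
  · rintro ⟨g, hg⟩
    obtain ⟨hg1, hg2⟩ := Subgroup.mem_inf.1 hg
    obtain ⟨u, hu, h, hh, e⟩ := borel_fix D hD G hp hG hS f rho hrho g hg1 hg2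
    exact ⟨(⟨u, hu⟩, ⟨h, hh⟩), Subtype.ext e.symm⟩

include hD hG hS hrho hO in
/-- the group generated by the fixed points of `σ` in `U`, `H` and the `n_J` is the group of all
fixed points -/
theorem twisted_eq_fix (G1 : Subgroup (GL D.Idx K))
    (hle : G1 ≤ D.group K ⊓ sigmaFix D G hp f)
    (hU : D.posUnipotent K ⊓ sigmaFix D G hp f ≤ G1)
    (hH : D.diagonalSubgroup K ⊓ sigmaFix D G hp f ≤ G1)
    (hn : ∀ J ∈ orbs, wGL D hD J ∈ G1) : G1 = D.group K ⊓ sigmaFix D G hp f := by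
  apply le_antisymm hle
  intro g hg
  obtain ⟨hg1, hg2⟩ := Subgroup.mem_inf.1 hg
  have hn' : ∀ J ∈ orbs, wGL D hD J ∈ sigmaFix D G hp f :=
    fun J hJ => (Subgroup.mem_inf.1 (hle (hn J hJ))).2
  obtain ⟨Js, hJs, b, hb, v, hv, e⟩ :=
    cell_orbits D hD G hp hG hS f rho hrho orbs hO hn' g hg1 hg2
  obtain ⟨hb1, hb2⟩ := Subgroup.mem_inf.1 hb
  obtain ⟨hv1, hv2⟩ := Subgroup.mem_inf.1 hv
  obtain ⟨u, hu, h, hh, eb⟩ := borel_fix D hD G hp hG hS f rho hrho b hb1 hb2
  have hst := stable_flatten D hD G orbs hO Js hJs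
  rw [e, eb]
  exact mul_mem (mul_mem (mul_mem (hU hu) (hH hh)) (wGL_flatten_mem D hD orbs _ hn Js hJs))
    (hU (Subgroup.mem_inf.2 ⟨unegOf_le_pos D _ (unegSub_le_unegOf D hD _ hst.1 hv1), hv2⟩))

end

end Cfsg.Agent.Lib.Helper5.ChevStruct
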