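import Mathlib
import Cfsg.Prelude.Def_ChevStructure
import Cfsg.Agent.Lib.Helper5.ChevTwistCellMap

set_option autoImplicit false

/-!
The `(B, N)`-pair of the group of fixed points of `σ`: the statements at the level of `GL`.
-/

namespace Cfsg.Agent.Lib.Helper5.ChevStruct

open Cfsg Cfsg.Lie Cfsg.Agent.Lib.Helper5.ChevSym

variable {K : Type*} [Field K]

/-- the double cosets `B n B`, `n ∈ N`, are disjoint modulo `H` -/
theorem bruhat_cell_unique (D : ChevalleyDatum) (hD : D ∈ Seven) (b b' n n' c c' : GL D.Idx K)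
    (hb : b ∈ D.borelSubgroup K) (hb' : b' ∈ D.borelSubgroup K)
    (hn : n ∈ D.monomialSubgroup K) (hn' : n' ∈ D.monomialSubgroup K)
    (hc : c ∈ D.borelSubgroup K) (hc' : c' ∈ D.borelSubgroup K) (e : b * n * c = b' * n' * c') :
    n⁻¹ * n' ∈ D.diagonalSubgroup K := by
  have hnG := monomial_le_group D hD hn
  have hn'G := monomial_le_group D hD hn'
  have hgG : b * n * c ∈ D.group K :=
    mul_mem (mul_mem (borel_le_group D hD hb) hnG) (borel_le_group D hD hc)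
  have h1 : (⟨b * n * c, hgG⟩ : ↥(D.group K)) ∈ DoubleCoset.doubleCoset (⟨n, hnG⟩ : ↥(D.group K))
      ((chevBNPair D hD K).B : Set ↥(D.group K)) (chevBNPair D hD K).B := by
    apply doubleCoset_subgroupOf (D.group K) (D.borelSubgroup K) (borel_le_group D hD)
    rw [DoubleCoset.mem_doubleCoset]
    exact ⟨b, hb, c, hc, rfl⟩
  have h2 : (⟨b * n * c, hgG⟩ : ↥(D.group K)) ∈ DoubleCoset.doubleCoset
      (⟨n', hn'G⟩ : ↥(D.group K))
      ((chevBNPair D hD K).B : Set ↥(D.group K)) (chevBNPair D hD K).B := by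
    apply doubleCoset_subgroupOf (D.group K) (D.borelSubgroup K) (borel_le_group D hD)
    rw [DoubleCoset.mem_doubleCoset]
    exact ⟨b', hb', c', hc', e⟩
  have heq : DoubleCoset.doubleCoset (⟨n, hnG⟩ : ↥(D.group K))
      ((chevBNPair D hD K).B : Set ↥(D.group K)) (chevBNPair D hD K).B
      = DoubleCoset.doubleCoset (⟨n', hn'G⟩ : ↥(D.group K))
      ((chevBNPair D hD K).B : Set ↥(D.group K)) (chevBNPair D hD K).B := by
    apply DoubleCoset.eq_of_not_disjoint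
    rw [Set.not_disjoint_iff]
    exact ⟨_, h1, h2⟩
  have h3 := (Cfsg.Agent.S0309.result (chevBNPair D hD K) (n := ⟨n, hnG⟩) (n' := ⟨n', hn'G⟩)
    hn hn').1 heq
  have h4 : n⁻¹ * n' ∈ D.borelSubgroup K := h3
  rw [← borel_inf_monomial D hD]
  exact ⟨h4, (D.monomialSubgroup K).mul_mem ((D.monomialSubgroup K).inv_mem hn) hn'⟩

/-- `n_J B n ⊆ ⋃_{A ⊆ J} B n_A n B` -/
theorem wGL_sublist_cell (D : ChevalleyDatum) (hD : D ∈ Seven) (J : List ℕ) (hJ : Wd D J)
    (n : GL D.Idx K) (hn : n ∈ D.monomialSubgroup K) (b : GL D.Idx K)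
    (hb : b ∈ D.borelSubgroup K) :
    ∃ A : List ℕ, A.Sublist J ∧ ∃ b₁ ∈ D.borelSubgroup K, ∃ b₂ ∈ D.borelSubgroup K,
      wGL D hD J * b * n = b₁ * (wGL D hD A * n) * b₂ := by
  induction J with
  | nil =>
    refine ⟨[], List.Sublist.refl _, b, hb, 1, one_mem _, ?_⟩
    rw [wGL_nil]
    group
  | cons j J ih =>
    obtain ⟨A, hA, b₁, hb₁, b₂, hb₂, e⟩ := ih hJ.tail
    have hAwd : Wd D A := fun i hi => hJ.tail i (hA.subset hi)
    have hn' : wGL D hD A * n ∈ D.monomialSubgroup K := mul_mem (wGL_mem D hD A hAwd) hn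
    have e1 : wGL D hD (j :: J) * b * n = nGL D hD j * b₁ * (wGL D hD A * n) * b₂ := by
      rw [wGL_cons]
      calc nGL D hD j * wGL D hD J * b * n = nGL D hD j * (wGL D hD J * b * n) := by group
        _ = nGL D hD j * (b₁ * (wGL D hD A * n) * b₂) := by rw [e]
        _ = _ := by group
    rcases nGL_borel_monomial D hD j hJ.head _ hn' _ hb₁ with h | h
    · rw [DoubleCoset.mem_doubleCoset] at h
      obtain ⟨c₁, hc₁, c₂, hc₂, e2⟩ := h
      refine ⟨j :: A, hA.cons_cons j, c₁, hc₁, c₂ * b₂, mul_mem hc₂ hb₂, ?_⟩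
      rw [e1, e2, wGL_cons]
      group
    · rw [DoubleCoset.mem_doubleCoset] at h
      obtain ⟨c₁, hc₁, c₂, hc₂, e2⟩ := h
      refine ⟨A, hA.cons j, c₁, hc₁, c₂ * b₂, mul_mem hc₂ hb₂, ?_⟩
      rw [e1, e2]
      group

section

variable (D : ChevalleyDatum) (hD : D ∈ Seven) (G : GraphData)
  (hp : checkGraphPerm D G = true)
  (hG : ∀ r < D.nroots, checkGraphAt D G r = true) (hS : SigmaOK D G) (f : K →+* K)
  (rho : Equiv.Perm (Fin D.rank))
  (hrho : ∀ i : Fin D.rank,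
      G.pr.getD (D.simple i) 0 = D.simple (rho i) ∧
      G.pr.getD (D.neg (D.simple i)) 0 = D.neg (D.simple (rho i)) ∧
      G.eps.getD (D.simple i) 1 = 1 ∧ G.eps.getD (D.neg (D.simple i)) 1 = 1 ∧
      D.simple i < D.nroots ∧ D.neg (D.simple i) < D.nroots)
  (orbs : List (List ℕ)) (hO : OrbsOK D G orbs)

include hp in
theorem stable_congr (a b : List ℕ) (hb : Wd D b) (ha : StableW D G a)
    (h : ∀ r < D.nroots, wAct D a r = wAct D b r) : StableW D G b :=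
  ⟨hb, fun r hr => by
    rw [← h _ (checkGraphPerm_root D G hp r hr).1, ha.2 r hr, h r hr]⟩

include hD in
theorem stable_append (a b : List ℕ) (ha : StableW D G a) (hb : StableW D G b) :
    StableW D G (a ++ b) :=
  ⟨ha.1.append hb.1, fun r hr => by
    rw [wAct_append, wAct_append, hb.2 r hr, ha.2 _ (wAct_lt D hD b hb.1 r hr)]⟩

include hD hp in
theorem stable_reverse (a : List ℕ) (ha : StableW D G a) : StableW D G a.reverse := by
  refine ⟨ha.1.reverse, fun r hr => ?_⟩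
  have hpr := (checkGraphPerm_root D G hp r hr).1
  have h1 := wAct_lt D hD a.reverse ha.1.reverse r hr
  have h2 := wAct_lt D hD a.reverse ha.1.reverse _ hpr
  apply wAct_injective D hD a ha.1 _ _ h2 (checkGraphPerm_root D G hp _ h1).1
  rw [wAct_reverse D hD a ha.1 _ hpr, ha.2 _ h1, wAct_reverse D hD a ha.1 r hr]

variable (G1 : Subgroup (GL D.Idx K)) (hG1 : G1 = D.group K ⊓ sigmaFix D G hp f)
  (hn : ∀ J ∈ orbs, wGL D hD J ∈ G1)

include hG hS hrho hO hG1 hn in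
/-- the normal form in the twisted group -/
theorem twisted_cell (g : GL D.Idx K) (hg : g ∈ G1) :
    ∃ Js : List (List ℕ), (∀ J ∈ Js, J ∈ orbs) ∧ ∃ b ∈ D.borelSubgroup K ⊓ G1,
      ∃ v ∈ D.posUnipotent K ⊓ G1, g = b * wGL D hD Js.flatten * v := by
  have hg' := hg
  rw [hG1] at hg'
  obtain ⟨hg1, hg2⟩ := Subgroup.mem_inf.1 hg'
  have hn' : ∀ J ∈ orbs, wGL D hD J ∈ sigmaFix D G hp f := by
    intro J hJ
    have := hn J hJ
    rw [hG1] at this
    exact (Subgroup.mem_inf.1 this).2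
  obtain ⟨Js, hJs, b, hb, v, hv, e⟩ :=
    cell_orbits D hD G hp hG hS f rho hrho orbs hO hn' g hg1 hg2
  obtain ⟨hb1, hb2⟩ := Subgroup.mem_inf.1 hb
  obtain ⟨hv1, hv2⟩ := Subgroup.mem_inf.1 hv
  have hst := stable_flatten D hD G orbs hO Js hJs
  have hvU : v ∈ D.posUnipotent K := unegOf_le_pos D _ (unegSub_le_unegOf D hD _ hst.1 hv1)
  refine ⟨Js, hJs, b, Subgroup.mem_inf.2 ⟨hb1, ?_⟩, v, Subgroup.mem_inf.2 ⟨hvU, ?_⟩, e⟩
  · rw [hG1]
    exact Subgroup.mem_inf.2 ⟨borel_le_group D hD hb1, hb2⟩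
  · rw [hG1]
    exact Subgroup.mem_inf.2 ⟨borel_le_group D hD (pos_le_borel D hvU), hv2⟩

include hG hS hrho hO hG1 hn in
/-- `N ∩ G¹ = ⟨n_J⟩ (H ∩ G¹)` -/
theorem twisted_monomial (n : GL D.Idx K) (hnN : n ∈ D.monomialSubgroup K) (hnG : n ∈ G1) :
    ∃ Js : List (List ℕ), (∀ J ∈ Js, J ∈ orbs) ∧ ∃ h ∈ D.diagonalSubgroup K ⊓ G1,
      n = wGL D hD Js.flatten * h := by
  obtain ⟨Js, hJs, b, hb, v, hv, e⟩ :=
    twisted_cell D hD G hp hG hS f rho hrho orbs hO G1 hG1 hn n hnG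
  have hst := stable_flatten D hD G orbs hO Js hJs
  have hN := wGL_mem (F := K) D hD _ hst.1
  have e' : (1 : GL D.Idx K) * n * 1 = b * wGL D hD Js.flatten * v := by
    rw [← e]; group
  have hH := bruhat_cell_unique D hD 1 b n _ 1 v (one_mem _) (Subgroup.mem_inf.1 hb).1 hnN hN
    (one_mem _) (pos_le_borel D (Subgroup.mem_inf.1 hv).1) e'
  refine ⟨Js, hJs, (wGL D hD Js.flatten)⁻¹ * n, Subgroup.mem_inf.2 ⟨?_, ?_⟩, by group⟩
  · have : (wGL D hD Js.flatten)⁻¹ * n = (n⁻¹ * wGL D hD Js.flatten)⁻¹ := by group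
    rw [this]
    exact inv_mem hH
  · exact mul_mem (inv_mem (wGL_flatten_mem D hD orbs _ hn Js hJs)) hnG

include hG hS hrho hO hG1 hn in
/-- the double cosets of the twisted group are the traces of those of the Chevalley group -/
theorem twisted_doubleCoset (m : GL D.Idx K) (hmN : m ∈ D.monomialSubgroup K) (hmG : m ∈ G1)
    (g : GL D.Idx K) (hg : g ∈ G1) (b₁ b₂ : GL D.Idx K) (hb₁ : b₁ ∈ D.borelSubgroup K)
    (hb₂ : b₂ ∈ D.borelSubgroup K) (e : g = b₁ * m * b₂) :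
    ∃ c₁ ∈ D.borelSubgroup K ⊓ G1, ∃ c₂ ∈ D.borelSubgroup K ⊓ G1, g = c₁ * m * c₂ := by
  obtain ⟨Js, hJs, b, hb, v, hv, e2⟩ :=
    twisted_cell D hD G hp hG hS f rho hrho orbs hO G1 hG1 hn g hg
  have hst := stable_flatten D hD G orbs hO Js hJs
  have hN := wGL_mem (F := K) D hD _ hst.1
  obtain ⟨hv1, hv2⟩ := Subgroup.mem_inf.1 hv
  have hH := bruhat_cell_unique D hD b₁ b m _ b₂ v hb₁ (Subgroup.mem_inf.1 hb).1 hmN hN
    hb₂ (pos_le_borel D hv1) (e.symm.trans e2)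
  have hHG : m⁻¹ * wGL D hD Js.flatten ∈ G1 :=
    mul_mem (inv_mem hmG) (wGL_flatten_mem D hD orbs _ hn Js hJs)
  refine ⟨b, hb, m⁻¹ * wGL D hD Js.flatten * v, Subgroup.mem_inf.2
    ⟨mul_mem (diagonal_le_borel D hH) (pos_le_borel D hv1), mul_mem hHG hv2⟩, ?_⟩
  rw [e2]
  group

include hG hS hrho hO hG1 hn in
/-- the double coset condition in the twisted group -/
theorem twisted_union
    (hsub : ∀ J ∈ orbs, ∀ A : List ℕ, A.Sublist J → StableW D G A → A = [] ∨ A = J)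
    (J : List ℕ) (hJ : J ∈ orbs) (n : GL D.Idx K) (hnN : n ∈ D.monomialSubgroup K)
    (hnG : n ∈ G1) (b : GL D.Idx K) (hb : b ∈ D.borelSubgroup K ⊓ G1) :
    (∃ c₁ ∈ D.borelSubgroup K ⊓ G1, ∃ c₂ ∈ D.borelSubgroup K ⊓ G1,
      wGL D hD J * b * n = c₁ * (wGL D hD J * n) * c₂) ∨
    (∃ c₁ ∈ D.borelSubgroup K ⊓ G1, ∃ c₂ ∈ D.borelSubgroup K ⊓ G1,
      wGL D hD J * b * n = c₁ * n * c₂) := by
  have hJwd : Wd D J := hO.wd J hJ
  obtain ⟨hb1, hb2⟩ := Subgroup.mem_inf.1 hb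
  have hgG : wGL D hD J * b * n ∈ G1 := mul_mem (mul_mem (hn J hJ) hb2) hnG
  obtain ⟨A, hA, b₁, hb₁, b₂, hb₂, e⟩ := wGL_sublist_cell D hD J hJwd n hnN b hb1
  have hAwd : Wd D A := fun i hi => hJwd i (hA.subset hi)
  obtain ⟨Ls, hLs, h, hh, en⟩ :=
    twisted_monomial D hD G hp hG hS f rho hrho orbs hO G1 hG1 hn n hnN hnG
  obtain ⟨Js, hJs, b₃, hb₃, v, hv, e2⟩ :=
    twisted_cell D hD G hp hG hS f rho hrho orbs hO G1 hG1 hn _ hgG
  have hstJ := stable_flatten D hD G orbs hO Js hJs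
  have hstL := stable_flatten D hD G orbs hO Ls hLs
  have hNJ := wGL_mem (F := K) D hD _ hstJ.1
  have hAL : Wd D (A ++ Ls.flatten) := hAwd.append hstL.1
  have hNAL := wGL_mem (F := K) D hD _ hAL
  have hNA := wGL_mem (F := K) D hD _ hAwd
  have hH := bruhat_cell_unique D hD b₁ b₃ _ _ b₂ v hb₁ (Subgroup.mem_inf.1 hb₃).1
    (mul_mem hNA hnN) hNJ hb₂ (pos_le_borel D (Subgroup.mem_inf.1 hv).1) (e.symm.trans e2)
  -- the words `A ++ Ls` and `Js` give the same element of the Weyl group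
  have hH2 : ((wGL D hD (A ++ Ls.flatten))⁻¹ * wGL D hD Js.flatten : GL D.Idx K)
      ∈ D.diagonalSubgroup K := by
    have e3 : ((wGL D hD (A ++ Ls.flatten))⁻¹ * wGL D hD Js.flatten : GL D.Idx K)
        = h * ((wGL D hD A * n)⁻¹ * wGL D hD Js.flatten) := by
      rw [en, wGL_append]; group
    rw [e3]
    exact mul_mem (Subgroup.mem_inf.1 hh).1 hH
  have hH3 : (wGL D hD Js.flatten * (wGL D hD (A ++ Ls.flatten))⁻¹ : GL D.Idx K)
      ∈ D.diagonalSubgroup K := by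
    have h1 := (conj_monomial_diag_mem D hD _ hNAL _ hH2).1
    have e3 : (wGL D hD Js.flatten * (wGL D hD (A ++ Ls.flatten))⁻¹ : GL D.Idx K)
        = wGL D hD (A ++ Ls.flatten) *
          ((wGL D hD (A ++ Ls.flatten))⁻¹ * wGL D hD Js.flatten) *
          (wGL D hD (A ++ Ls.flatten))⁻¹ := by group
    rw [e3]
    exact h1
  have hact := (hrel_iff_act_eq D hD _ _ hstJ.1 hAL).1 hH3
  have hstA : StableW D G A := by
    apply stable_congr D G hp (Js.flatten ++ Ls.flatten.reverse) A hAwd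
      (stable_append D hD G _ _ hstJ (stable_reverse D hD G hp _ hstL))
    intro r hr
    rw [wAct_append, hact _ (wAct_lt D hD _ hstL.1.reverse r hr), wAct_append,
      wAct_reverse D hD _ hstL.1 r hr]
  rcases hsub J hJ A hA hstA with rfl | rfl
  · right
    have e4 : wGL D hD J * b * n = b₁ * n * b₂ := by
      rw [e, wGL_nil, one_mul]
    exact twisted_doubleCoset D hD G hp hG hS f rho hrho orbs hO G1 hG1 hn n hnN hnG _ hgG
      b₁ b₂ hb₁ hb₂ e4
  · left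
    exact twisted_doubleCoset D hD G hp hG hS f rho hrho orbs hO G1 hG1 hn _
      (mul_mem hNA hnN) (mul_mem (hn _ hJ) hnG) _ hgG b₁ b₂ hb₁ hb₂ e

include hO in
/-- `n_J B¹ n_J ≠ B¹` -/
theorem twisted_conj_ne (J : List ℕ) (hJ : J ∈ orbs) (u : GL D.Idx K)
    (hu : u ∈ unegSub D K J) (hu1 : u ≠ 1) :
    wGL D hD J * u * wGL D hD J ∉ D.borelSubgroup K := by
  have hJwd : Wd D J := hO.wd J hJ
  intro hB
  have hV : wGL D hD J * u * (wGL D hD J)⁻¹ ∈ D.negUnipotent K :=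
    conj_unegOf_le_neg D _ u (unegSub_le_unegOf D hD J hJwd hu)
  have hsq : (wGL D hD J * wGL D hD J : GL D.Idx K) ∈ D.diagonalSubgroup K := by
    rw [← wGL_append]
    apply wGL_mem_diagonal_of_act D hD _ (hJwd.append hJwd)
    intro r hr
    rw [wAct_append, hO.invol J hJ r hr]
  have hB2 : wGL D hD J * u * (wGL D hD J)⁻¹ ∈ D.borelSubgroup K := by
    have e : wGL D hD J * u * (wGL D hD J)⁻¹
        = (wGL D hD J * u * wGL D hD J) * (wGL D hD J * wGL D hD J)⁻¹ := by group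
    rw [e]
    exact mul_mem hB (inv_mem (diagonal_le_borel D hsq))
  have h3 : wGL D hD J * u * (wGL D hD J)⁻¹ ∈ D.borelSubgroup K ⊓ D.negUnipotent K :=
    Subgroup.mem_inf.2 ⟨hB2, hV⟩
  rw [borel_inf_neg D hD, Subgroup.mem_bot] at h3
  apply hu1
  have : u = (wGL D hD J)⁻¹ * (wGL D hD J * u * (wGL D hD J)⁻¹) * wGL D hD J := by group
  rw [this, h3]
  group

end

end Cfsg.Agent.Lib.Helper5.ChevStruct
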