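import Mathlib
import Cfsg.Prelude.Def_ChevStructure
import Cfsg.Prelude.Def_LieExceptional
import Cfsg.Agent.Lib.Helper5.ChevTwistBN

set_option autoImplicit false

/-!
The `(B, N)`-pair of the group of fixed points of `σ`.
-/

namespace Cfsg.Agent.Lib.Helper5.ChevStruct

open Cfsg Cfsg.Lie Cfsg.Agent.Lib.Helper5.ChevSym

variable {K : Type*} [Field K]

/-- the hypotheses for the `(B, N)`-pair of a twisted group -/
structure TwistBNHyp (D : ChevalleyDatum) (hD : D ∈ Seven) (G : GraphData)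
    (hp : checkGraphPerm D G = true) (f : K →+* K) (rho : Equiv.Perm (Fin D.rank))
    (orbs : List (List ℕ)) (G1 : Subgroup (GL D.Idx K)) : Prop where
  hG : ∀ r < D.nroots, checkGraphAt D G r = true
  hS : SigmaOK D G
  hrho : ∀ i : Fin D.rank,
      G.pr.getD (D.simple i) 0 = D.simple (rho i) ∧
      G.pr.getD (D.neg (D.simple i)) 0 = D.neg (D.simple (rho i)) ∧
      G.eps.getD (D.simple i) 1 = 1 ∧ G.eps.getD (D.neg (D.simple i)) 1 = 1 ∧
      D.simple i < D.nroots ∧ D.neg (D.simple i) < D.nroots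
  hO : OrbsOK D G orbs
  hG1 : G1 = D.group K ⊓ sigmaFix D G hp f
  hn : ∀ J ∈ orbs, wGL D hD J ∈ G1
  hsub : ∀ J ∈ orbs, ∀ A : List ℕ, A.Sublist J → StableW D G A → A = [] ∨ A = J
  hdist : ∀ J ∈ orbs, ∀ J' ∈ orbs, (∀ r < D.nroots, wAct D J r = wAct D J' r) → J = J'
  hne : ∀ J ∈ orbs, ∃ u ∈ unegSub D K J ⊓ sigmaFix D G hp f, u ≠ 1

/-- the `(B, N)`-pair of a twisted group -/
def twistedBNPair (D : ChevalleyDatum) (hD : D ∈ Seven) (G : GraphData)
    (hp : checkGraphPerm D G = true) (f : K →+* K) (rho : Equiv.Perm (Fin D.rank))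
    (orbs : List (List ℕ)) (G1 : Subgroup (GL D.Idx K))
    (hyp : TwistBNHyp D hD G hp f rho orbs G1) : Cfsg.BNPair ↥G1 where
  B := (D.borelSubgroup K ⊓ G1).subgroupOf G1
  N := (D.monomialSubgroup K ⊓ G1).subgroupOf G1
  S := {s : ↥G1 | ∃ J ∈ orbs, (s : GL D.Idx K) = wGL D hD J}
  sup_eq_top := by
    rw [eq_top_iff]
    intro x _
    obtain ⟨Js, hJs, b, hb, v, hv, e⟩ := twisted_cell D hD G hp hyp.hG hyp.hS f rho hyp.hrho orbs
      hyp.hO G1 hyp.hG1 hyp.hn x.1 x.2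
    have hst := stable_flatten D hD G orbs hyp.hO Js hJs
    have hnG := wGL_flatten_mem D hD orbs _ hyp.hn Js hJs
    have hbG := (Subgroup.mem_inf.1 hb).2
    have hvG := (Subgroup.mem_inf.1 hv).2
    have ex : x = ⟨b, hbG⟩ * ⟨wGL D hD Js.flatten, hnG⟩ * ⟨v, hvG⟩ := Subtype.ext e
    rw [ex]
    apply mul_mem (mul_mem _ _) _
    · apply Subgroup.mem_sup_left
      rw [Subgroup.mem_subgroupOf]
      exact hb
    · apply Subgroup.mem_sup_right
      rw [Subgroup.mem_subgroupOf]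
      exact Subgroup.mem_inf.2 ⟨wGL_mem D hD _ hst.1, hnG⟩
    · apply Subgroup.mem_sup_left
      rw [Subgroup.mem_subgroupOf]
      exact Subgroup.mem_inf.2 ⟨pos_le_borel D (Subgroup.mem_inf.1 hv).1, hvG⟩
  conj_mem := by
    intro n hn t ht
    rw [Subgroup.mem_subgroupOf] at hn ⊢
    obtain ⟨ht1, ht2⟩ := Subgroup.mem_inf.1 ht
    rw [Subgroup.mem_subgroupOf] at ht1 ht2
    have hn' : (n : GL D.Idx K) ∈ D.monomialSubgroup K := (Subgroup.mem_inf.1 hn).1
    have ht' : (t : GL D.Idx K) ∈ D.diagonalSubgroup K := by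
      rw [← borel_inf_monomial D hD]
      exact Subgroup.mem_inf.2 ⟨(Subgroup.mem_inf.1 ht1).1, (Subgroup.mem_inf.1 ht2).1⟩
    refine Subgroup.mem_inf.2 ⟨?_, (n * t * n⁻¹).2⟩
    exact diagonal_le_borel D (conj_monomial_diag_mem D hD _ hn' _ ht').1
  subset := by
    rintro s ⟨J, hJ, hs⟩
    show s ∈ (D.monomialSubgroup K ⊓ G1).subgroupOf G1
    rw [Subgroup.mem_subgroupOf]
    refine Subgroup.mem_inf.2 ⟨?_, s.2⟩
    rw [hs]
    exact wGL_mem D hD J (hyp.hO.wd J hJ)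
  sq_mem := by
    rintro s ⟨J, hJ, hs⟩
    rw [Subgroup.mem_subgroupOf]
    refine Subgroup.mem_inf.2 ⟨?_, (s * s).2⟩
    have hJwd : Wd D J := hyp.hO.wd J hJ
    show (s : GL D.Idx K) * (s : GL D.Idx K) ∈ D.borelSubgroup K
    rw [hs, ← wGL_append]
    apply diagonal_le_borel D
    apply wGL_mem_diagonal_of_act D hD _ (hJwd.append hJwd)
    intro r hr
    rw [wAct_append, hyp.hO.invol J hJ r hr]
  inj := by
    rintro s ⟨J, hJ, hs⟩ s' ⟨J', hJ', hs'⟩ h
    rw [Subgroup.mem_subgroupOf] at h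
    have hJwd : Wd D J := hyp.hO.wd J hJ
    have hJ'wd : Wd D J' := hyp.hO.wd J' hJ'
    have hN := wGL_mem (F := K) D hD J hJwd
    have hN' := wGL_mem (F := K) D hD J' hJ'wd
    have h1 : ((wGL D hD J)⁻¹ * wGL D hD J' : GL D.Idx K) ∈ D.diagonalSubgroup K := by
      rw [← borel_inf_monomial D hD]
      refine Subgroup.mem_inf.2 ⟨?_, mul_mem (inv_mem hN) hN'⟩
      have := (Subgroup.mem_inf.1 h).1
      rw [← hs, ← hs']
      exact this
    have h2 : (wGL D hD J' * (wGL D hD J)⁻¹ : GL D.Idx K) ∈ D.diagonalSubgroup K := by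
      have := (conj_monomial_diag_mem D hD _ hN _ h1).1
      have e : (wGL D hD J' * (wGL D hD J)⁻¹ : GL D.Idx K)
          = wGL D hD J * ((wGL D hD J)⁻¹ * wGL D hD J') * (wGL D hD J)⁻¹ := by group
      rw [e]
      exact this
    have hact := (hrel_iff_act_eq D hD _ _ hJ'wd hJwd).1 h2
    have hJJ := hyp.hdist J' hJ' J hJ hact
    apply Subtype.ext
    rw [hs, hs', hJJ]
  closure_sup := by
    apply le_antisymm
    · apply sup_le
      · rw [Subgroup.closure_le]
        rintro s ⟨J, hJ, hs⟩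
        show s ∈ (D.monomialSubgroup K ⊓ G1).subgroupOf G1
        rw [Subgroup.mem_subgroupOf]
        refine Subgroup.mem_inf.2 ⟨?_, s.2⟩
        rw [hs]
        exact wGL_mem D hD J (hyp.hO.wd J hJ)
      · exact inf_le_right
    · intro x hx
      rw [Subgroup.mem_subgroupOf] at hx
      obtain ⟨Js, hJs, h, hh, e⟩ := twisted_monomial D hD G hp hyp.hG hyp.hS f rho hyp.hrho orbs
        hyp.hO G1 hyp.hG1 hyp.hn x.1 (Subgroup.mem_inf.1 hx).1 x.2
      have hnG := wGL_flatten_mem D hD orbs _ hyp.hn Js hJs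
      have hhG := (Subgroup.mem_inf.1 hh).2
      have ex : x = ⟨wGL D hD Js.flatten, hnG⟩ * ⟨h, hhG⟩ := Subtype.ext e
      rw [ex]
      apply mul_mem
      · apply Subgroup.mem_sup_left
        clear ex e
        induction Js with
        | nil =>
          have : (⟨wGL D hD ([] : List (List ℕ)).flatten, hnG⟩ : ↥G1) = 1 :=
            Subtype.ext (by
              show wGL D hD ([] : List (List ℕ)).flatten = 1
              rw [List.flatten_nil, wGL_nil])
          rw [this]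
          exact one_mem _
        | cons J Js ih =>
          have hJ := hJs J (List.mem_cons_self ..)
          have hJs' : ∀ J' ∈ Js, J' ∈ orbs := fun J' hJ' => hJs J' (List.mem_cons_of_mem _ hJ')
          have hG' := wGL_flatten_mem D hD orbs _ hyp.hn Js hJs'
          have : (⟨wGL D hD (J :: Js).flatten, hnG⟩ : ↥G1)
              = ⟨wGL D hD J, hyp.hn J hJ⟩ * ⟨wGL D hD Js.flatten, hG'⟩ :=
            Subtype.ext (by
              show wGL D hD (J :: Js).flatten = wGL D hD J * wGL D hD Js.flatten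
              rw [List.flatten_cons, wGL_append])
          rw [this]
          exact mul_mem (Subgroup.subset_closure ⟨J, hJ, rfl⟩) (ih hJs' hG')
      · apply Subgroup.mem_sup_right
        refine Subgroup.mem_inf.2 ⟨?_, ?_⟩
        · rw [Subgroup.mem_subgroupOf]
          exact Subgroup.mem_inf.2 ⟨diagonal_le_borel D (Subgroup.mem_inf.1 hh).1, hhG⟩
        · rw [Subgroup.mem_subgroupOf]
          exact Subgroup.mem_inf.2 ⟨diagonal_le_monomial D (Subgroup.mem_inf.1 hh).1, hhG⟩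
  mul_mem_union := by
    rintro s ⟨J, hJ, hs⟩ n hn b hb
    rw [Subgroup.mem_subgroupOf] at hn hb
    have key := twisted_union D hD G hp hyp.hG hyp.hS f rho hyp.hrho orbs hyp.hO G1 hyp.hG1
      hyp.hn hyp.hsub J hJ n.1 (Subgroup.mem_inf.1 hn).1 n.2 b.1 hb
    rw [← hs] at key
    rcases key with ⟨c₁, hc₁, c₂, hc₂, e⟩ | ⟨c₁, hc₁, c₂, hc₂, e⟩
    · left
      rw [DoubleCoset.mem_doubleCoset]
      refine ⟨⟨c₁, (Subgroup.mem_inf.1 hc₁).2⟩, ?_, ⟨c₂, (Subgroup.mem_inf.1 hc₂).2⟩, ?_,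
        Subtype.ext e⟩
      · show _ ∈ (D.borelSubgroup K ⊓ G1).subgroupOf G1
        rw [Subgroup.mem_subgroupOf]
        exact hc₁
      · show _ ∈ (D.borelSubgroup K ⊓ G1).subgroupOf G1
        rw [Subgroup.mem_subgroupOf]
        exact hc₂
    · right
      rw [DoubleCoset.mem_doubleCoset]
      refine ⟨⟨c₁, (Subgroup.mem_inf.1 hc₁).2⟩, ?_, ⟨c₂, (Subgroup.mem_inf.1 hc₂).2⟩, ?_,
        Subtype.ext e⟩
      · show _ ∈ (D.borelSubgroup K ⊓ G1).subgroupOf G1
        rw [Subgroup.mem_subgroupOf]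
        exact hc₁
      · show _ ∈ (D.borelSubgroup K ⊓ G1).subgroupOf G1
        rw [Subgroup.mem_subgroupOf]
        exact hc₂
  conj_ne := by
    rintro s ⟨J, hJ, hs⟩ heq
    obtain ⟨u, hu, hu1⟩ := hyp.hne J hJ
    obtain ⟨hu2, hu3⟩ := Subgroup.mem_inf.1 hu
    have hJwd : Wd D J := hyp.hO.wd J hJ
    have huU : u ∈ D.posUnipotent K := unegOf_le_pos D _ (unegSub_le_unegOf D hD _ hJwd hu2)
    have huG : u ∈ G1 := by
      rw [hyp.hG1]
      exact Subgroup.mem_inf.2 ⟨borel_le_group D hD (pos_le_borel D huU), hu3⟩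
    have hmem : s * ⟨u, huG⟩ * s ∈ (fun b : ↥G1 => s * b * s) ''
        (((D.borelSubgroup K ⊓ G1).subgroupOf G1 : Subgroup ↥G1) : Set ↥G1) := by
      refine ⟨⟨u, huG⟩, ?_, rfl⟩
      rw [SetLike.mem_coe, Subgroup.mem_subgroupOf]
      exact Subgroup.mem_inf.2 ⟨pos_le_borel D huU, huG⟩
    rw [heq, SetLike.mem_coe, Subgroup.mem_subgroupOf] at hmem
    have h' : (s : GL D.Idx K) * u * (s : GL D.Idx K) ∈ D.borelSubgroup K :=
      (Subgroup.mem_inf.1 hmem).1
    rw [hs] at h'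
    exact twisted_conj_ne D hD G orbs hyp.hO J hJ u hu2 hu1 h'

end Cfsg.Agent.Lib.Helper5.ChevStruct
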