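import Mathlib
import Cfsg.Prelude.Def_ChevStructure
import Cfsg.Agent.Lib.Helper5.ChevTwistCount

set_option autoImplicit false

/-!
Fixed points of `σ` in the subgroups `⟨X_r : r ∈ S⟩`, `S` a set of positive roots stable under the
symmetry: a lower bound for their number.
-/

namespace Cfsg.Agent.Lib.Helper5.ChevStruct

open Cfsg Cfsg.Lie Cfsg.Agent.Lib.Helper5.ChevSym

variable {K : Type*} [Field K]

section

variable (T : TwistData) (hT : T.OK) (hD : T.D ∈ Seven)
  (hp : checkGraphPerm T.D T.G = true)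
  (hG : ∀ r < T.D.nroots, checkGraphAt T.D T.G r = true) (f : K →+* K)

include hT in
/-- a stable set of positive roots contains a root iff it contains its representative -/
theorem stable_mem_iff_rep (S : Finset ℕ) (hS1 : ∀ r ∈ S, r ∈ T.L → T.pr r ∈ S)
    (hS2 : ∀ r ∈ S, r ∈ T.L → T.prInv r ∈ S) :
    ∀ n, ∀ r ∈ T.L, T.idxOf r = n → (r ∈ S ↔ T.repOf r ∈ S) := by
  intro n
  induction n with
  | zero =>
    intro r hr h0
    rw [← hT.idx_zero r hr h0]
  | succ n ih =>
    intro r hr hn
    obtain ⟨h1, h2, h3⟩ := hT.pred r hr (by omega)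
    have h4 := ih (T.prInv r) h2 (by omega)
    have h5 := hT.rep_pr (T.prInv r) h2
    rw [h1] at h5
    rw [h5, ← h4]
    constructor
    · intro h
      exact hS2 r h hr
    · intro h
      have := hS1 _ h h2
      rwa [h1] at this

include hT hD hp hG in
/-- a lower bound for the number of fixed points of `σ` in `⟨X_r : r ∈ S⟩` -/
theorem card_stable_fix_ge [Fintype K] (hf : ∀ x, (f ^ T.m) x = x) (S : Finset ℕ)
    (hS1 : ∀ r ∈ S, T.pr r ∈ S) (hS2 : ∀ r ∈ S, T.prInv r ∈ S) :
    ((repList T).map fun r =>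
      if r ∈ S then (if T.pr r = r then Nat.card {x : K // f x = x} else Nat.card K) else 1).prod
      ≤ Nat.card ↥(rootSetSub T.D K (S : Set ℕ) ⊓ sigmaFix T.D T.G hp f) := by
  classical
  obtain ⟨Rl, hRl⟩ : ∃ Rl, Rl = repList T := ⟨_, rfl⟩
  have hRnd : Rl.Nodup := by rw [hRl]; exact repList_nodup T hT
  have hRmem : ∀ r, r ∈ Rl ↔ r ∈ T.L ∧ T.repOf r = r := by rw [hRl]; exact mem_repList T
  rw [← hRl]
  let A := ∀ i : Fin Rl.length,
    {x : K // (T.pr (Rl.get i) = Rl.get i → f x = x) ∧ (Rl.get i ∉ S → x = 0)}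
  let ext : A → ℕ → K := fun a r =>
    if h : r ∈ Rl then (a ⟨Rl.idxOf r, List.idxOf_lt_length_iff.2 h⟩).1 else 0
  have hext_get : ∀ (a : A) (i : Fin Rl.length), ext a (Rl.get i) = (a i).1 := by
    intro a i
    have hmem : Rl.get i ∈ Rl := List.get_mem _ _
    simp only [ext, dif_pos hmem]
    have : (⟨Rl.idxOf (Rl.get i), List.idxOf_lt_length_iff.2 hmem⟩ : Fin Rl.length) = i := by
      apply Fin.ext
      exact hRnd.idxOf_getElem i.1 i.2
    rw [this]
  have hsing : ∀ (a : A), ∀ r ∈ T.L, T.pr r = r → f (ext a r) = ext a r := by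
    intro a r hr h
    by_cases hm : r ∈ Rl
    · simp only [ext, dif_pos hm]
      apply (a ⟨_, _⟩).2.1
      have : Rl.get ⟨Rl.idxOf r, List.idxOf_lt_length_iff.2 hm⟩ = r := List.getElem_idxOf _
      rw [this]
      exact h
    · simp only [ext, dif_neg hm, map_zero]
  have hzero : ∀ (a : A), ∀ r, r ∉ S → ext a r = 0 := by
    intro a r hr
    by_cases hm : r ∈ Rl
    · simp only [ext, dif_pos hm]
      apply (a ⟨_, _⟩).2.2
      have : Rl.get ⟨Rl.idxOf r, List.idxOf_lt_length_iff.2 hm⟩ = r := List.getElem_idxOf _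
      rw [this]
      exact hr
    · simp only [ext, dif_neg hm]
  have hcompat : ∀ a : A, Compat T f (param T f (ext a)) :=
    fun a => param_compat T hT f hf _ (hsing a)
  have hstab := stable_mem_iff_rep T hT S (fun r hr _ => hS1 r hr) (fun r hr _ => hS2 r hr)
  have hpz : ∀ (a : A), ∀ r ∈ T.L, r ∉ S → param T f (ext a) r = 0 := by
    intro a r hr hrS
    unfold param
    rw [hzero a (T.repOf r) (fun h => hrS ((hstab _ r hr rfl).2 h))]
    simp
  have hmemS : ∀ a : A, prodL T.D hD T.L (param T f (ext a)) ∈ rootSetSub T.D K (S : Set ℕ) := by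
    intro a
    have : ∀ L' : List ℕ, (∀ r ∈ L', r ∈ T.L) →
        prodL T.D hD L' (param T f (ext a)) ∈ rootSetSub T.D K (S : Set ℕ) := by
      intro L'
      induction L' with
      | nil =>
        intro _
        rw [prodL_nil]
        exact one_mem _
      | cons r L' ih =>
        intro hL'
        rw [prodL_cons]
        apply mul_mem _ (ih (fun s hs => hL' s (List.mem_cons_of_mem _ hs)))
        by_cases hrS : r ∈ S
        · exact xGL_mem_rootSetSub T.D hD _ r (Finset.mem_coe.2 hrS) _
        · rw [hpz a r (hL' r (List.mem_cons_self ..)) hrS]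
          have : xGL T.D hD r (0 : K) = 1 := Units.ext (by rw [xGL_val, x_at_zero]; rfl)
          rw [this]
          exact one_mem _
    exact this T.L (fun r hr => hr)
  have hmemΨ : ∀ a : A, prodL T.D hD T.L (param T f (ext a)) ∈
      rootSetSub T.D K (S : Set ℕ) ⊓ sigmaFix T.D T.G hp f := by
    intro a
    refine Subgroup.mem_inf.2 ⟨hmemS a, ?_⟩
    rw [prodL_fixed_iff T hT hD hp hG f, compat_iff T hT hp f]
    exact hcompat a
  let Ψ : A → ↥(rootSetSub T.D K (S : Set ℕ) ⊓ sigmaFix T.D T.G hp f) := fun a => ⟨_, hmemΨ a⟩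
  have hinj : Function.Injective Ψ := by
    intro a a' e
    have e1 : prodL T.D hD T.L (param T f (ext a)) = prodL T.D hD T.L (param T f (ext a')) :=
      congrArg Subtype.val e
    have e2 := prodL_unique T.D hD T.L hT.good hT.nodup (mem_L_iff T hT hD) hT.length _ _ e1
    funext i
    apply Subtype.ext
    have hi : Rl.get i ∈ Rl := List.get_mem _ _
    obtain ⟨hiL, hirep⟩ := (hRmem _).1 hi
    have := e2 _ hiL
    rw [param_rep T hT f _ _ hiL hirep, param_rep T hT f _ _ hiL hirep, hext_get, hext_get]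
      at this
    exact this
  have hle := Nat.card_le_card_of_injective Ψ hinj
  rw [Nat.card_pi] at hle
  have hc : ∀ i : Fin Rl.length,
      Nat.card {x : K // (T.pr (Rl.get i) = Rl.get i → f x = x) ∧ (Rl.get i ∉ S → x = 0)}
        = (fun r => if r ∈ S then
            (if T.pr r = r then Nat.card {x : K // f x = x} else Nat.card K) else 1)
            (Rl.get i) := by
    intro i
    by_cases hS : Rl.get i ∈ S
    · simp only [if_pos hS]
      by_cases h : T.pr (Rl.get i) = Rl.get i
      · simp only [if_pos h]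
        apply Nat.card_congr
        exact Equiv.subtypeEquivRight
          (fun x => ⟨fun hx => hx.1 h, fun hx => ⟨fun _ => hx, fun h' => absurd hS h'⟩⟩)
      · simp only [if_neg h]
        apply Nat.card_congr
        exact (Equiv.subtypeEquivRight (fun x =>
          ⟨fun _ => trivial, fun _ => ⟨fun hx => absurd hx h, fun h' => absurd hS h'⟩⟩)).trans
          (Equiv.subtypeUnivEquiv (fun _ => trivial))
    · simp only [if_neg hS]
      rw [Nat.card_eq_one_iff_unique]
      refine ⟨⟨?_⟩, ⟨⟨0, fun _ => map_zero f, fun _ => rfl⟩⟩⟩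
      rintro ⟨x, hx⟩ ⟨y, hy⟩
      apply Subtype.ext
      show x = y
      rw [hx.2 hS, hy.2 hS]
  rw [Finset.prod_congr rfl (fun i _ => hc i), ← List.prod_ofFn] at hle
  have e := List.ofFn_getElem_eq_map Rl
    (fun r => if r ∈ S then
      (if T.pr r = r then Nat.card {x : K // f x = x} else Nat.card K) else 1)
  rw [← e]
  exact hle

/-- the size of the orbit of a representative -/
def orbSize (T : TwistData) (b : ℕ) : ℕ := (T.L.filter fun r => decide (T.repOf r = b)).length

include hT in
/-- a stable set of positive roots is the union of the orbits of its representatives -/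
theorem stable_card (S : Finset ℕ) (hSL : ∀ r ∈ S, r ∈ T.L) (hS1 : ∀ r ∈ S, T.pr r ∈ S)
    (hS2 : ∀ r ∈ S, T.prInv r ∈ S) :
    ((repList T).map fun b => if b ∈ S then orbSize T b else 0).sum = S.card := by
  classical
  have hstab := stable_mem_iff_rep T hT S (fun r hr _ => hS1 r hr) (fun r hr _ => hS2 r hr)
  have hrep : ∀ x ∈ S, T.repOf x ∈ (repList T).toFinset := by
    intro x hx
    rw [List.mem_toFinset, mem_repList]
    exact ⟨hT.rep_mem x (hSL x hx), hT.rep_rep x (hSL x hx)⟩
  rw [Finset.card_eq_sum_card_fiberwise hrep, List.sum_toFinset _ (repList_nodup T hT)]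
  congr 1
  apply List.map_congr_left
  intro b hb
  by_cases hbS : b ∈ S
  · rw [if_pos hbS]
    unfold orbSize
    rw [← List.toFinset_card_of_nodup (hT.nodup.filter _), List.toFinset_filter]
    congr 1
    ext r
    simp only [Finset.mem_filter, List.mem_toFinset, decide_eq_true_eq]
    constructor
    · rintro ⟨h1, h2⟩
      refine ⟨?_, h2⟩
      rw [hstab _ r h1 rfl, h2]
      exact hbS
    · rintro ⟨h1, h2⟩
      exact ⟨hSL r h1, h2⟩
  · rw [if_neg hbS]
    symm
    rw [Finset.card_eq_zero, Finset.filter_eq_empty_iff]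
    intro r hr h
    apply hbS
    rw [← h]
    exact (hstab _ r (hSL r hr) rfl).1 hr

include hT in
/-- the lower bound as a power of the order of the fixed field -/
theorem prod_rep_eq_pow (q₀ : ℕ) (c1 c2 : ℕ) (hc1 : c1 = q₀) (hc2 : c2 = q₀ ^ T.m)
    (hsz : ∀ b ∈ repList T, orbSize T b = if T.pr b = b then 1 else T.m)
    (S : Finset ℕ) (hSL : ∀ r ∈ S, r ∈ T.L) (hS1 : ∀ r ∈ S, T.pr r ∈ S)
    (hS2 : ∀ r ∈ S, T.prInv r ∈ S) :
    ((repList T).map fun r => if r ∈ S then (if T.pr r = r then c1 else c2) else 1).prod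
      = q₀ ^ S.card := by
  rw [← stable_card T hT S hSL hS1 hS2, hc1, hc2]
  have : ∀ l : List ℕ, (∀ b ∈ l, b ∈ repList T) →
      (l.map fun r => if r ∈ S then (if T.pr r = r then q₀ else q₀ ^ T.m) else 1).prod
        = q₀ ^ (l.map fun b => if b ∈ S then orbSize T b else 0).sum := by
    intro l
    induction l with
    | nil => intro _; simp
    | cons a l ih =>
      intro hl
      rw [List.map_cons, List.prod_cons, ih (fun b hb => hl b (List.mem_cons_of_mem _ hb)),
        List.map_cons, List.sum_cons, pow_add, hsz a (hl a (List.mem_cons_self ..))]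
      by_cases h1 : a ∈ S
      · by_cases h2 : T.pr a = a
        · simp [h1, h2]
        · simp [h1, h2]
      · simp [h1]
  exact this _ (fun b hb => hb)

end

end Cfsg.Agent.Lib.Helper5.ChevStruct
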