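import Mathlib
import Cfsg.Prelude.Def_ChevStructure
import Cfsg.Agent.Lib.Helper5.ChevTwistBNPair
import Cfsg.Agent.Lib.Helper5.ChevTwistUw
import Cfsg.Agent.Lib.Helper5.ChevCore

set_option autoImplicit false

/-!
The intersection of the conjugates of `B¹` in a twisted group is trivial.
-/

namespace Cfsg.Agent.Lib.Helper5.ChevStruct

open Cfsg Cfsg.Lie Cfsg.Agent.Lib.Helper5.ChevSym

variable {K : Type*} [Field K]

/-- a word mapping the positive roots onto the negative roots gives an element of `N`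
conjugating `U` onto `V` -/
theorem conj_pos_eq_neg' (D : ChevalleyDatum) (hD : D ∈ Seven) (w : List ℕ)
    (h : checkW0 D w = true) :
    Wd D w ∧
      (D.posUnipotent K).map (MulAut.conj (wGL D hD w)).toMonoidHom = D.negUnipotent K := by
  unfold checkW0 at h
  rw [Bool.and_eq_true, List.all_eq_true, List.all_eq_true] at h
  obtain ⟨hw, hroots⟩ := h
  have hw' : ∀ i ∈ w, i < D.rank := fun i hi => by
    have := hw i hi
    rwa [Nat.blt_eq] at this
  have hpos : ∀ r, D.IsPosRoot r → D.IsNegRoot (wAct D w r) := by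
    intro r hr
    have := hroots r (List.mem_range.2 hr.1)
    rw [Bool.and_eq_true, Bool.or_eq_true, Bool.or_eq_true, wActC_eq, wActC_eq] at this
    rcases this.1 with h1 | h1
    · simp [hr] at h1
    · exact of_decide_eq_true h1
  have hneg : ∀ r, D.IsNegRoot r → D.IsPosRoot (wAct D w.reverse r) := by
    intro r hr
    have := hroots r (List.mem_range.2 hr.1)
    rw [Bool.and_eq_true, Bool.or_eq_true, Bool.or_eq_true, wActC_eq, wActC_eq] at this
    rcases this.2 with h1 | h1
    · simp [hr] at h1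
    · exact of_decide_eq_true h1
  refine ⟨hw', ?_⟩
  apply le_antisymm
  · unfold ChevalleyDatum.posUnipotent
    rw [MonoidHom.map_closure, Subgroup.closure_le]
    rintro g ⟨x, ⟨r, t, hr, hx⟩, rfl⟩
    obtain ⟨ε, _, hconj⟩ := wGL_conj (F := K) D hD w hw' r hr.1
    apply Subgroup.subset_closure
    refine ⟨wAct D w r, ε * t, hpos r hr, ?_⟩
    exact hconj t x hx
  · unfold ChevalleyDatum.negUnipotent
    rw [Subgroup.closure_le]
    rintro g ⟨r', t', hr', hg⟩
    have hr := hneg r' hr'
    obtain ⟨ε, hε, hconj⟩ := wGL_conj (F := K) D hD w hw' (wAct D w.reverse r') hr.1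
    have hεε : ε * (ε * t') = t' := by
      rcases hε with h1 | h1 <;> rw [h1] <;> simp
    have hval := hconj (ε * t') (xGL D hD _ (ε * t')) rfl
    rw [wAct_reverse D hD w hw' r' hr'.1, hεε] at hval
    have hg' : g = (MulAut.conj (wGL D hD w)).toMonoidHom
        (xGL D hD (wAct D w.reverse r') (ε * t')) := by
      apply Units.ext
      rw [hg]
      exact hval.symm
    rw [hg']
    exact Subgroup.mem_map_of_mem _ (Subgroup.subset_closure ⟨_, _, hr, rfl⟩)

section

variable (T : TwistData) (hT : T.OK) (hD : T.D ∈ Seven)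
  (hp : checkGraphPerm T.D T.G = true) (f : K →+* K) (rho : Equiv.Perm (Fin T.D.rank))
  (orbs : List (List ℕ)) (G1 : Subgroup (GL T.D.Idx K))
  (hyp : TwistBNHyp T.D hD T.G hp f rho orbs G1)
  (w0Js : List (List ℕ)) (hw0 : ∀ J ∈ w0Js, J ∈ orbs)
  (hchk : checkW0 T.D w0Js.flatten = true)

include hyp hw0 hchk in
/-- an element all of whose conjugates lie in `B` lies in `H` -/
theorem twisted_core_le_diagonal (c : GL T.D.Idx K)
    (hc : ∀ g ∈ G1, g * c * g⁻¹ ∈ T.D.borelSubgroup K) : c ∈ T.D.diagonalSubgroup K := by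
  obtain ⟨hwd, hmap⟩ := conj_pos_eq_neg' (K := K) T.D hD w0Js.flatten hchk
  set n : GL T.D.Idx K := wGL T.D hD w0Js.flatten with hn
  have hnN : n ∈ T.D.monomialSubgroup K := wGL_mem T.D hD _ hwd
  have hnG : n ∈ G1 := wGL_flatten_mem T.D hD orbs _ hyp.hn w0Js hw0
  have h1 : n⁻¹ * c * n ∈ T.D.borelSubgroup K := by
    have := hc n⁻¹ (inv_mem hnG)
    rwa [inv_inv] at this
  have h2 : c ∈ (T.D.borelSubgroup K).map (MulAut.conj n).toMonoidHom := by
    refine ⟨n⁻¹ * c * n, h1, ?_⟩
    show n * (n⁻¹ * c * n) * n⁻¹ = c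
    group
  have h3 : (T.D.borelSubgroup K).map (MulAut.conj n).toMonoidHom
      = T.D.negUnipotent K ⊔ T.D.diagonalSubgroup K := by
    unfold ChevalleyDatum.borelSubgroup
    rw [Subgroup.map_sup, hmap, diagonal_map_conj T.D hD n hnN]
  rw [h3] at h2
  have h4 : c ∈ T.D.borelSubgroup K := by
    have := hc 1 (one_mem _)
    simpa using this
  have : c ∈ T.D.borelSubgroup K ⊓ (T.D.negUnipotent K ⊔ T.D.diagonalSubgroup K) :=
    Subgroup.mem_inf.2 ⟨h4, h2⟩
  rwa [borel_inf_negBorel T.D hD] at this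

include hT hyp hw0 hchk in
/-- an element all of whose conjugates lie in `B` is trivial -/
theorem twisted_core_eq_one [Fintype K] (hf : ∀ x, (f ^ T.m) x = x) (c : GL T.D.Idx K)
    (hc : ∀ g ∈ G1, g * c * g⁻¹ ∈ T.D.borelSubgroup K) : c = 1 := by
  have hcH : c ∈ T.D.diagonalSubgroup K :=
    twisted_core_le_diagonal T hD hp f rho orbs G1 hyp w0Js hw0 hchk c hc
  have hconj : ∀ x ∈ G1, x * c * x⁻¹ ∈ T.D.diagonalSubgroup K := by
    intro x hx
    apply twisted_core_le_diagonal T hD hp f rho orbs G1 hyp w0Js hw0 hchk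
    intro g hg
    have := hc (g * x) (mul_mem hg hx)
    have e : g * (x * c * x⁻¹) * g⁻¹ = g * x * c * (g * x)⁻¹ := by group
    rw [e]
    exact this
  obtain ⟨k, hk, hck⟩ := exists_torusMat_of_mem T.D hD c⁻¹ (inv_mem hcH)
  have hpos : ∀ r, T.D.IsPosRoot r → chi T.D k r = 1 := by
    intro r hr
    have hrL : r ∈ T.L := (mem_L_iff T hT hD r).2 hr
    -- the fixed point of `σ` attached to the orbit of `r`
    set a : ℕ → K := fun s => if s = T.repOf r then 1 else 0 with ha
    have hsing : ∀ s ∈ T.L, T.pr s = s → f (a s) = a s := by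
      intro s _ _
      simp only [ha]
      split_ifs
      · exact map_one f
      · exact map_zero f
    have hcompat := param_compat T hT f hf a hsing
    set t : ℕ → K := param T f a with ht
    set x : GL T.D.Idx K := prodL T.D hD T.L t with hx
    have hxU : x ∈ T.D.posUnipotent K := prodL_mem_pos T.D hD T.L (mem_L_iff T hT hD) _
    have hxF : x ∈ sigmaFix T.D T.G hp f := by
      rw [hx, prodL_fixed_iff T hT hD hp hyp.hG f, compat_iff T hT hp f]
      exact hcompat
    have hxG : x ∈ G1 := by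
      rw [hyp.hG1]
      exact Subgroup.mem_inf.2 ⟨borel_le_group T.D hD (pos_le_borel T.D hxU), hxF⟩
    -- `c⁻¹ x c` is the product with the parameters multiplied by the character
    set t' : ℕ → K := fun s => chi T.D k s * t s with ht'
    have hconjx : c⁻¹ * x * (c⁻¹)⁻¹ = prodL T.D hD T.L t' := by
      apply Units.ext
      have e1 : ((c⁻¹ * x : GL T.D.Idx K) : Matrix T.D.Idx T.D.Idx K)
          = ((prodL T.D hD T.L t' * c⁻¹ : GL T.D.Idx K) : Matrix T.D.Idx T.D.Idx K) := by
        rw [Units.val_mul, Units.val_mul, hck, hx]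
        unfold prodL
        rw [wordGL_val, wordGL_val, torus_conj_word T.D hD k hk, List.map_map]
        rfl
      have e2 : c⁻¹ * x = prodL T.D hD T.L t' * c⁻¹ := Units.ext e1
      rw [e2]
      simp
    set y : GL T.D.Idx K := c⁻¹ * x * (c⁻¹)⁻¹ * x⁻¹ with hy
    have hyU : y ∈ T.D.posUnipotent K := by
      rw [hy, hconjx]
      exact mul_mem (prodL_mem_pos T.D hD T.L (mem_L_iff T hT hD) _) (inv_mem hxU)
    have hyH : y ∈ T.D.diagonalSubgroup K := by
      have e : y = c⁻¹ * (x * c * x⁻¹) := by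
        rw [hy]
        group
      rw [e]
      exact mul_mem (inv_mem hcH) (hconj x hxG)
    have hy1 : y ∈ T.D.posUnipotent K ⊓ T.D.diagonalSubgroup K := Subgroup.mem_inf.2 ⟨hyU, hyH⟩
    rw [pos_inf_diagonal T.D hD, Subgroup.mem_bot] at hy1
    have hxx : prodL T.D hD T.L t' = prodL T.D hD T.L t := by
      rw [← hconjx]
      have : c⁻¹ * x * (c⁻¹)⁻¹ = y * x := by rw [hy]; group
      rw [this, hy1, one_mul]
    have huniq := prodL_unique T.D hD T.L hT.good hT.nodup (mem_L_iff T hT hD) hT.length _ _ hxx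
      r hrL
    have htr : t r ≠ 0 := by
      rw [ht]
      unfold param
      simp only [ha, if_true, map_one]
      have hsg := hT.sg_sq r hrL
      intro h0
      have h1 : ((T.sgOf r : ℤ) : K) = 0 := by simpa using h0
      have h2 : ((T.sgOf r * T.sgOf r : ℤ) : K) = 0 := by rw [Int.cast_mul, h1, mul_zero]
      rw [hsg] at h2
      simp at h2
    have : chi T.D k r * t r = 1 * t r := by rw [one_mul]; exact huniq
    exact mul_right_cancel₀ htr this
  have hall : ∀ s < T.D.nroots, chi T.D k s = 1 := by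
    intro s hs
    rcases pos_or_neg T.D hD s hs with hp' | ⟨hp', hnn⟩
    · exact hpos s hp'
    · have h1 := chi_neg T.D (weightsOK_all T.D hD) k hk (T.D.neg s) hp'.1
      have h2 : T.D.negIdx.getD (T.D.neg s) 0 = s := hnn
      rw [h2, hpos _ hp', mul_one] at h1
      exact h1
  have : c⁻¹ = 1 := by
    apply Units.ext
    rw [hck, torusMat_eq_one T.D k hall, Units.val_one]
  exact inv_eq_one.1 this

include hT hyp hw0 hchk in
/-- the normal core of `B¹` in `G¹` is trivial -/
theorem twisted_normalCore [Fintype K] (hf : ∀ x, (f ^ T.m) x = x) :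
    ((T.D.borelSubgroup K ⊓ G1).subgroupOf G1).normalCore = ⊥ := by
  rw [eq_bot_iff]
  intro c hc
  rw [Subgroup.mem_bot]
  have h1 : ∀ g ∈ G1, g * (c : GL T.D.Idx K) * g⁻¹ ∈ T.D.borelSubgroup K := by
    intro g hg
    have := hc ⟨g, hg⟩
    rw [Subgroup.mem_subgroupOf] at this
    exact (Subgroup.mem_inf.1 this).1
  have := twisted_core_eq_one T hT hD hp f rho orbs G1 hyp w0Js hw0 hchk hf (c : GL T.D.Idx K) h1
  exact Subtype.ext this

end

end Cfsg.Agent.Lib.Helper5.ChevStruct
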