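import Mathlib

set_option autoImplicit false

/-!
Matrices graded by an integer-valued level function on the index set: block diagonal matrices
and block unitriangular matrices; an invertible matrix which is both is the identity.
-/

namespace Cfsg.Agent.Lib.Helper5.BlockGrade

open Matrix

variable {ι : Type*} [Fintype ι] [DecidableEq ι] {F : Type*} [Field F]

/-- nonzero entries only between indices of the same level -/
def BlockDiag (L : ι → ℤ) (M : Matrix ι ι F) : Prop := ∀ i j, M i j ≠ 0 → L i = L j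

/-- `M - 1` has nonzero entries only from lower to strictly higher levels -/
def BlockUp (L : ι → ℤ) (M : Matrix ι ι F) : Prop := ∀ i j, (M - 1) i j ≠ 0 → L j < L i

theorem blockDiag_one (L : ι → ℤ) : BlockDiag L (1 : Matrix ι ι F) := by
  intro i j h
  by_cases hij : i = j
  · rw [hij]
  · exact absurd (Matrix.one_apply_ne hij) h

theorem blockUp_one (L : ι → ℤ) : BlockUp L (1 : Matrix ι ι F) := by
  intro i j h
  rw [sub_self] at h
  exact absurd rfl h

theorem BlockDiag.mul {L : ι → ℤ} {M N : Matrix ι ι F} (hM : BlockDiag L M)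
    (hN : BlockDiag L N) : BlockDiag L (M * N) := by
  intro i j h
  rw [Matrix.mul_apply] at h
  obtain ⟨k, _, hk⟩ := Finset.exists_ne_zero_of_sum_ne_zero h
  have h1 : M i k ≠ 0 := left_ne_zero_of_mul hk
  have h2 : N k j ≠ 0 := right_ne_zero_of_mul hk
  rw [hM i k h1, hN k j h2]

theorem BlockUp.mul {L : ι → ℤ} {M N : Matrix ι ι F} (hM : BlockUp L M)
    (hN : BlockUp L N) : BlockUp L (M * N) := by
  intro i j h
  have e : M * N - 1 = (M - 1) * (N - 1) + (M - 1) + (N - 1) := by noncomm_ring
  rw [e, Matrix.add_apply, Matrix.add_apply] at h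
  by_cases h1 : ((M - 1) * (N - 1)) i j = 0
  · by_cases h2 : (M - 1) i j = 0
    · rw [h1, h2, zero_add, zero_add] at h
      exact hN i j h
    · exact hM i j h2
  · rw [Matrix.mul_apply] at h1
    obtain ⟨k, _, hk⟩ := Finset.exists_ne_zero_of_sum_ne_zero h1
    have h3 := hM i k (left_ne_zero_of_mul hk)
    have h4 := hN k j (right_ne_zero_of_mul hk)
    omega

/-- the group of invertible block diagonal matrices -/
def blockDiagSub (L : ι → ℤ) (F : Type*) [Field F] : Subgroup (GL ι F) where
  carrier := {g | BlockDiag L (g : Matrix ι ι F) ∧ BlockDiag L ((g⁻¹ : GL ι F) : Matrix ι ι F)}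
  one_mem' := by
    refine ⟨?_, ?_⟩
    · rw [Units.val_one]; exact blockDiag_one L
    · rw [inv_one, Units.val_one]; exact blockDiag_one L
  mul_mem' := by
    intro g h hg hh
    refine ⟨?_, ?_⟩
    · rw [Units.val_mul]; exact hg.1.mul hh.1
    · rw [_root_.mul_inv_rev, Units.val_mul]; exact hh.2.mul hg.2
  inv_mem' := by
    intro g hg
    refine ⟨hg.2, ?_⟩
    rw [inv_inv]; exact hg.1

/-- the group of block unitriangular matrices -/
def blockUpSub (L : ι → ℤ) (F : Type*) [Field F] : Subgroup (GL ι F) where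
  carrier := {g | BlockUp L (g : Matrix ι ι F) ∧ BlockUp L ((g⁻¹ : GL ι F) : Matrix ι ι F)}
  one_mem' := by
    refine ⟨?_, ?_⟩
    · rw [Units.val_one]; exact blockUp_one L
    · rw [inv_one, Units.val_one]; exact blockUp_one L
  mul_mem' := by
    intro g h hg hh
    refine ⟨?_, ?_⟩
    · rw [Units.val_mul]; exact hg.1.mul hh.1
    · rw [_root_.mul_inv_rev, Units.val_mul]; exact hh.2.mul hg.2
  inv_mem' := by
    intro g hg
    refine ⟨hg.2, ?_⟩
    rw [inv_inv]; exact hg.1

theorem blockUpSub_inf_blockDiagSub (L : ι → ℤ) : blockUpSub L F ⊓ blockDiagSub L F = ⊥ := by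
  rw [eq_bot_iff]
  rintro g ⟨hu, hd⟩
  rw [Subgroup.mem_bot]
  apply Units.ext
  rw [Units.val_one]
  ext i j
  by_contra hne
  have h1 : ((g : Matrix ι ι F) - 1) i j ≠ 0 := by
    rw [Matrix.sub_apply]
    exact sub_ne_zero.2 hne
  have h2 := hu.1 i j h1
  by_cases hij : i = j
  · subst hij
    exact lt_irrefl _ h2
  · have h3 : (g : Matrix ι ι F) i j ≠ 0 := by
      rw [Matrix.one_apply_ne hij] at hne
      exact hne
    have := hd.1 i j h3
    omega

end Cfsg.Agent.Lib.Helper5.BlockGrade
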