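import Mathlib
import Cfsg.Prelude.Def_ChevStructure
import Cfsg.Agent.Lib.Helper5.ChevCoLinDef
import Cfsg.Agent.Lib.Helper5.ChevSymAdd

set_option autoImplicit false

/-!
Table check: the coroot coordinates scaled by the squared root lengths, `c_k(r) (r, r)`, are
additive along the chains of the table (they are proportional to the coordinates of `r` on the
fundamental roots).
-/

namespace Cfsg.Agent.Lib.Helper5.ChevSym

open Cfsg Cfsg.Lie

/-- `a_k * lu = m * (b_k * lr) + c_k * ls` for all `k`, on three lists of the same length -/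
def rowAddL (lu lr ls m : ℤ) : List ℤ → List ℤ → List ℤ → Bool
  | a :: as, b :: bs, c :: cs =>
    decide (a * lu = m * (b * lr) + c * ls) && rowAddL lu lr ls m as bs cs
  | [], [], [] => true
  | _, _, _ => false

theorem rowAddL_spec (lu lr ls m : ℤ) (A B C : List ℤ) (h : rowAddL lu lr ls m A B C = true)
    (k : ℕ) : A.getD k 0 * lu = m * (B.getD k 0 * lr) + C.getD k 0 * ls := by
  induction A generalizing B C k with
  | nil =>
    cases B with
    | nil =>
      cases C with
      | nil => simp
      | cons c cs => simp [rowAddL] at h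
    | cons b bs => simp [rowAddL] at h
  | cons a as ih =>
    cases B with
    | nil => simp [rowAddL] at h
    | cons b bs =>
      cases C with
      | nil => simp [rowAddL] at h
      | cons c cs =>
        simp only [rowAddL, Bool.and_eq_true, decide_eq_true_eq] at h
        cases k with
        | zero => simpa using h.1
        | succ k => simpa using ih bs cs h.2 k

/-- `a_k = - b_k` for all `k`, on two lists of the same length -/
def rowNegL : List ℤ → List ℤ → Bool
  | a :: as, b :: bs => decide (a = -b) && rowNegL as bs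
  | [], [] => true
  | _, _ => false

theorem rowNegL_spec (A B : List ℤ) (h : rowNegL A B = true) (k : ℕ) :
    A.getD k 0 = - B.getD k 0 := by
  induction A generalizing B k with
  | nil =>
    cases B with
    | nil => simp
    | cons b bs => simp [rowNegL] at h
  | cons a as ih =>
    cases B with
    | nil => simp [rowNegL] at h
    | cons b bs =>
      simp only [rowNegL, Bool.and_eq_true, decide_eq_true_eq] at h
      cases k with
      | zero => simpa using h.1
      | succ k => simpa using ih bs h.2 k

/-- the check at the root `r`, for a table `rl` of squared root lengths -/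
def checkChainAdd (D : ChevalleyDatum) (rl : ℕ → ℤ) (r : ℕ) : Bool :=
  decide (0 < rl r) && decide (rl (D.neg r) = rl r) &&
  rowNegL (D.coroot.getD (D.neg r) #[]).toList (D.coroot.getD r #[]).toList &&
  (D.chain.getD r #[]).toList.all fun e =>
    (e.2.toList.zipIdx).all fun q =>
      rowAddL (rl q.1.1) (rl r) (rl e.1) (Int.ofNat (Nat.succ q.2))
        (D.coroot.getD q.1.1 #[]).toList (D.coroot.getD r #[]).toList
        (D.coroot.getD e.1 #[]).toList

theorem co_eq_toList_getD (D : ChevalleyDatum) (v k : ℕ) :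
    co D v k = (D.coroot.getD v #[]).toList.getD k 0 := by
  unfold co
  generalize D.coroot.getD v #[] = a
  rw [List.getD_eq_getElem?_getD, Array.getElem?_toList]
  simp [Array.getD]
  split_ifs with h
  · simp [h]
  · simp [h]

theorem checkChainAdd_spec (D : ChevalleyDatum) (rl : ℕ → ℤ) (r : ℕ)
    (h : checkChainAdd D rl r = true) :
    0 < rl r ∧ rl (D.neg r) = rl r ∧ (∀ k, co D (D.neg r) k = - co D r k) ∧
    ∀ e ∈ (D.chain.getD r #[]).toList, ∀ (i : ℕ) (p : ℕ × ℤ), e.2.toList[i]? = some p →
      ∀ k, co D p.1 k * rl p.1 = ((i + 1 : ℕ) : ℤ) * (co D r k * rl r) + co D e.1 k * rl e.1 := by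
  unfold checkChainAdd at h
  simp only [Bool.and_eq_true, decide_eq_true_eq] at h
  obtain ⟨⟨⟨h1, h2⟩, h3⟩, h4⟩ := h
  refine ⟨h1, h2, fun k => ?_, fun e he i p hp k => ?_⟩
  · rw [co_eq_toList_getD, co_eq_toList_getD]
    exact rowNegL_spec _ _ h3 k
  · rw [List.all_eq_true] at h4
    have h5 := h4 e he
    rw [List.all_eq_true] at h5
    have h6 := h5 (p, i) (List.mem_zipIdx_iff_getElem?.2 hp)
    rw [co_eq_toList_getD, co_eq_toList_getD, co_eq_toList_getD]
    exact rowAddL_spec _ _ _ _ _ _ _ h6 k

/-- squared root lengths: all equal (simply laced types) -/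
def rlOne : ℕ → ℤ := fun _ => 1

/-- squared root lengths for `G₂` -/
def rlG2 : ℕ → ℤ := fun r => [3, 3, 1, 1, 1, 3, 3, 1, 1, 1, 3, 3].getD r 1

/-- squared root lengths for `B₂` -/
def rlB2 : ℕ → ℤ := fun r => [2, 1, 1, 2, 2, 1, 1, 2].getD r 1

/-- squared root lengths for `F₄` -/
def rlF4 : ℕ → ℤ := fun r =>
  [2, 2, 2, 1, 2, 2, 2, 1, 1, 1, 1, 1, 1, 1, 1, 2, 2, 2, 1, 1, 1, 2, 2, 2, 2, 2, 2, 1, 1, 1, 2, 2,
    2, 1, 1, 1, 1, 1, 1, 1, 1, 2, 2, 2, 1, 2, 2, 2].getD r 1

end Cfsg.Agent.Lib.Helper5.ChevSym
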