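import Mathlib
import Cfsg.Prelude.Def_ChevStructure
import Cfsg.Agent.Lib.Helper5.ChevLvlDef
import Cfsg.Agent.Lib.Helper5.ChevChk.ChainAddAll
import Cfsg.Agent.Lib.Helper5.ChevChk.WtAll
import Cfsg.Agent.Lib.Helper5.ChevPosUni
import Cfsg.Agent.Lib.Helper5.ChevCoLin
import Cfsg.Agent.Lib.Helper5.ChevGen
import Cfsg.Agent.Lib.Helper5.ChevNConj
import Cfsg.Agent.Lib.Helper5.BlockGrade

set_option autoImplicit false

/-!
The scaled coroot coordinates `wt_k(r) = c_k(r) (r, r)` are additive along chains; consequences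
for the commutator terms, and the grading of the matrices `x_r(t)` by a `J`-level.
-/

namespace Cfsg.Agent.Lib.Helper5.ChevStruct

open Cfsg Cfsg.Lie Cfsg.Agent.Lib.Helper5.ChevSym Cfsg.Agent.Lib.Helper5.ChevPosUni
  Cfsg.Agent.Lib.Helper5.BlockGrade

/-- the semantic content of the chain additivity checks -/
structure LvlOK (D : ChevalleyDatum) (rl : ℕ → ℤ) : Prop where
  rl_pos : ∀ r < D.nroots, 0 < rl r
  rl_neg : ∀ r < D.nroots, rl (D.neg r) = rl r
  co_neg : ∀ r < D.nroots, ∀ k, co D (D.neg r) k = - co D r k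
  chain : ∀ r < D.nroots, ∀ e ∈ (D.chain.getD r #[]).toList, ∀ (i : ℕ) (p : ℕ × ℤ),
    e.2.toList[i]? = some p →
      (p.1 < D.nroots ∧ e.1 < D.nroots) ∧
      ∀ k, co D p.1 k * rl p.1 = ((i + 1 : ℕ) : ℤ) * (co D r k * rl r) + co D e.1 k * rl e.1

theorem exists_lvlOK (D : ChevalleyDatum) (hD : D ∈ Seven) : ∃ rl : ℕ → ℤ, LvlOK D rl := by
  obtain ⟨rl, h⟩ := chkChainAdd_all D hD
  refine ⟨rl, ⟨fun r hr => (checkChainAdd_spec D rl r (h r hr)).1,
    fun r hr => (checkChainAdd_spec D rl r (h r hr)).2.1,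
    fun r hr => (checkChainAdd_spec D rl r (h r hr)).2.2.1, fun r hr e he i p hp => ⟨?_, ?_⟩⟩⟩
  · have hW := (weightsOK_all D hD).chain r hr (e.1, p.1, i) (by
      unfold flatChain
      rw [List.mem_flatMap]
      refine ⟨e, he, ?_⟩
      rw [List.mem_map]
      exact ⟨(p, i), List.mem_zipIdx_iff_getElem?.2 hp, rfl⟩)
    exact ⟨hW.2.1, hW.1⟩
  · exact (checkChainAdd_spec D rl r (h r hr)).2.2.2 e he i p hp

/-- the scaled coroot coordinates -/
def wt (D : ChevalleyDatum) (rl : ℕ → ℤ) (r k : ℕ) : ℤ := co D r k * rl r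

theorem chainRoot_wt (D : ChevalleyDatum) (rl : ℕ → ℤ) (h : LvlOK D rl) (r s i u : ℕ)
    (hr : r < D.nroots) (hi : 1 ≤ i) (hu : D.chainRoot r s i = some u) :
    u < D.nroots ∧ s < D.nroots ∧ ∀ k, wt D rl u k = (i : ℤ) * wt D rl r k + wt D rl s k := by
  unfold ChevalleyDatum.chainRoot ChevalleyDatum.chainEntry at hu
  rw [Option.map_eq_some_iff] at hu
  obtain ⟨p, hp, rfl⟩ := hu
  cases hf : (D.chain.getD r #[]).toList.find? (fun e => e.1 = s) with
  | none =>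
    rw [hf] at hp
    simp at hp
  | some e =>
    rw [hf] at hp
    have he := List.mem_of_find?_eq_some hf
    have hes : e.1 = s := by simpa using List.find?_some hf
    have := h.chain r hr e he (i - 1) p hp
    rw [hes] at this
    refine ⟨this.1.1, this.1.2, fun k => ?_⟩
    unfold wt
    rw [this.2 k]
    have e1 : i - 1 + 1 = i := by omega
    rw [e1]

theorem chainCoeff_wt (D : ChevalleyDatum) (rl : ℕ → ℤ) (h : LvlOK D rl) (r s u : ℕ)
    (hr : r < D.nroots) (hc : D.chainCoeff r s u ≠ []) :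
    ∃ i : ℕ, 1 ≤ i ∧ ∀ k, wt D rl u k = (i : ℤ) * wt D rl r k + wt D rl s k := by
  obtain ⟨e, he, p, hp, hes, hpu⟩ := chainCoeff_ne_nil hc
  obtain ⟨i, hi⟩ := List.mem_iff_getElem?.1 hp
  have := (h.chain r hr e he i p hi).2
  rw [hes, hpu] at this
  exact ⟨i + 1, by omega, fun k => this k⟩

/-- the commutator terms `c = i r + j s` -/
theorem commTerms_wt (D : ChevalleyDatum) (rl : ℕ → ℤ) (h : LvlOK D rl) (r s : ℕ)
    (hr : r < D.nroots) (hs : s < D.nroots) (c : ℕ × ℤ × ℕ × ℕ) (hc : c ∈ D.commTerms r s) :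
    c.1 < D.nroots ∧ ∃ i j : ℕ, 1 ≤ i ∧ 1 ≤ j ∧
      ∀ k, wt D rl c.1 k = (i : ℤ) * wt D rl r k + (j : ℤ) * wt D rl s k := by
  unfold ChevalleyDatum.commTerms at hc
  simp only [List.mem_filterMap, List.mem_cons, List.not_mem_nil, or_false] at hc
  obtain ⟨cand, hcand, hmap⟩ := hc
  rw [Option.map_eq_some_iff] at hmap
  obtain ⟨u, hu, rfl⟩ := hmap
  show u < D.nroots ∧ _
  rcases hcand with rfl | rfl | rfl | rfl | rfl | rfl | rfl
  · obtain ⟨h1, _, h3⟩ := chainRoot_wt D rl h r s 1 u hr le_rfl hu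
    exact ⟨h1, 1, 1, le_rfl, le_rfl, fun k => by rw [h3 k]; push_cast; ring⟩
  · obtain ⟨h1, _, h3⟩ := chainRoot_wt D rl h r s 2 u hr (by omega) hu
    exact ⟨h1, 2, 1, by omega, le_rfl, fun k => by rw [h3 k]; push_cast; ring⟩
  · obtain ⟨h1, _, h3⟩ := chainRoot_wt D rl h s r 2 u hs (by omega) hu
    exact ⟨h1, 1, 2, le_rfl, by omega, fun k => by rw [h3 k]; push_cast; ring⟩
  · obtain ⟨h1, _, h3⟩ := chainRoot_wt D rl h r s 3 u hr (by omega) hu
    exact ⟨h1, 3, 1, by omega, le_rfl, fun k => by rw [h3 k]; push_cast; ring⟩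
  · obtain ⟨h1, _, h3⟩ := chainRoot_wt D rl h s r 3 u hs (by omega) hu
    exact ⟨h1, 1, 3, le_rfl, by omega, fun k => by rw [h3 k]; push_cast; ring⟩
  · simp only [Option.bind_eq_some_iff] at hu
    obtain ⟨v, hv, hu⟩ := hu
    obtain ⟨g1, _, g3⟩ := chainRoot_wt D rl h r s 3 v hr (by omega) hv
    obtain ⟨h1, _, h3⟩ := chainRoot_wt D rl h v s 1 u g1 le_rfl hu
    exact ⟨h1, 3, 2, by omega, by omega, fun k => by rw [h3 k, g3 k]; push_cast; ring⟩
  · simp only [Option.bind_eq_some_iff] at hu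
    obtain ⟨v, hv, hu⟩ := hu
    obtain ⟨g1, _, g3⟩ := chainRoot_wt D rl h s r 3 v hs (by omega) hv
    obtain ⟨h1, _, h3⟩ := chainRoot_wt D rl h v r 1 u g1 le_rfl hu
    exact ⟨h1, 2, 3, by omega, by omega, fun k => by rw [h3 k, g3 k]; push_cast; ring⟩

/-- a root with a positive coroot coordinate is positive -/
theorem isPosRoot_of_co_pos (D : ChevalleyDatum) (hD : D ∈ Seven) (rl : ℕ → ℤ) (h : LvlOK D rl)
    (c : ℕ) (hc : c < D.nroots) (k : ℕ) (hk : k < D.rank) (hpos : 0 < co D c k) :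
    D.IsPosRoot c := by
  rcases pos_or_neg D hD c hc with hp | ⟨hp, _⟩
  · exact hp
  · exfalso
    have h1 := ((isPosRoot_iff_co D hD _).1 hp).2 k hk
    rw [h.co_neg c hc k] at h1
    omega

/-- the positive roots outside `Φ_J` -/
def radSet (D : ChevalleyDatum) (J : Set ℕ) : Set ℕ := {r | D.IsPosRoot r ∧ ¬ D.InRootSub J r}

theorem exists_co_pos_of_mem_radSet (D : ChevalleyDatum) (hD : D ∈ Seven) (J : Set ℕ) (s : ℕ)
    (hs : s ∈ radSet D J) : ∃ k < D.rank, k ∉ J ∧ 0 < co D s k := by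
  obtain ⟨hp, hn⟩ := hs
  unfold ChevalleyDatum.InRootSub at hn
  push Not at hn
  obtain ⟨k, hk, hkJ, hne⟩ := hn hp.1
  refine ⟨k, hk, hkJ, ?_⟩
  have := ((isPosRoot_iff_co D hD s).1 hp).2 k hk
  have hne' : co D s k ≠ 0 := hne
  omega

/-- the set of positive roots outside `Φ_J` is closed under the commutator terms with the roots
of `Φ⁺ ∪ Φ_J` -/
theorem commTerms_mem_radSet (D : ChevalleyDatum) (hD : D ∈ Seven) (J : Set ℕ) (r s : ℕ)
    (hr : D.IsPosRoot r ∨ D.InRootSub J r) (hs : s ∈ radSet D J) (c : ℕ × ℤ × ℕ × ℕ)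
    (hc : c ∈ D.commTerms r s) : c.1 ∈ radSet D J := by
  obtain ⟨rl, h⟩ := exists_lvlOK D hD
  have hrn : r < D.nroots := by
    rcases hr with hr | hr
    · exact hr.1
    · exact hr.1
  obtain ⟨k, hk, hkJ, hpos⟩ := exists_co_pos_of_mem_radSet D hD J s hs
  obtain ⟨hcn, i, j, hi, hj, hw⟩ := commTerms_wt D rl h r s hrn hs.1.1 c hc
  have hrk : 0 ≤ co D r k := by
    rcases hr with hr | hr
    · exact ((isPosRoot_iff_co D hD r).1 hr).2 k hk
    · exact le_of_eq (hr.2 k hk hkJ).symm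
  have h1 := hw k
  unfold wt at h1
  have h2 := h.rl_pos r hrn
  have h3 := h.rl_pos s hs.1.1
  have h4 := h.rl_pos c.1 hcn
  have h5 : 0 < co D c.1 k * rl c.1 := by
    rw [h1]
    have : 0 < (j : ℤ) * (co D s k * rl s) := by positivity
    have : 0 ≤ (i : ℤ) * (co D r k * rl r) := by positivity
    omega
  have h6 : 0 < co D c.1 k := by
    by_contra hle
    have : co D c.1 k * rl c.1 ≤ 0 := mul_nonpos_of_nonpos_of_nonneg (by omega) h4.le
    omega
  refine ⟨isPosRoot_of_co_pos D hD rl h c.1 hcn k hk h6, fun hin => ?_⟩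
  have := hin.2 k hk hkJ
  have h7 : co D c.1 k = 0 := this
  omega

end Cfsg.Agent.Lib.Helper5.ChevStruct
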