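import Mathlib
import Cfsg.Prelude.Def_ChevStructure
import Cfsg.Agent.Lib.Helper5.ChevLvl
import Cfsg.Agent.Lib.Helper5.ChevDiag
import Cfsg.Agent.Lib.Helper5.ChevRootSet
import Cfsg.Agent.Lib.Helper5.ChevPara
import Cfsg.Agent.Lib.Helper5.ChevTorusAct
import Cfsg.Agent.Lib.Helper5.ChevUOrd
import Cfsg.Agent.Lib.Helper5.ChevUCard

set_option autoImplicit false

/-!
The Levi decomposition `P_J = U_J ⋊ L_J` of the standard parabolic subgroups.
-/

namespace Cfsg.Agent.Lib.Helper5.ChevStruct

open Cfsg Cfsg.Lie Cfsg.Agent.Lib.Helper5.ChevSym Cfsg.Agent.Lib.Helper5.ChevPosUni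
  Cfsg.Agent.Lib.Helper5.BlockGrade Cfsg.Agent.Lib.Helper5.UniTri

variable {F : Type*} [Field F]

/-- the `J`-level of a root: the sum of the scaled coroot coordinates outside `J` -/
noncomputable def lvlJ (D : ChevalleyDatum) (rl : ℕ → ℤ) (J : Set ℕ) (x : ℕ) : ℤ := by
  classical exact ∑ k ∈ (Finset.range D.rank).filter (fun k => k ∉ J), wt D rl x k

/-- the `J`-level of a basis vector -/
noncomputable def idxLvl (D : ChevalleyDatum) (rl : ℕ → ℤ) (J : Set ℕ) : D.Idx → ℤ
  | Sum.inl _ => 0
  | Sum.inr u => lvlJ D rl J u.val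

theorem lvlJ_add (D : ChevalleyDatum) (rl : ℕ → ℤ) (J : Set ℕ) (u r s : ℕ) (i : ℤ)
    (h : ∀ k, wt D rl u k = i * wt D rl r k + wt D rl s k) :
    lvlJ D rl J u = i * lvlJ D rl J r + lvlJ D rl J s := by
  classical
  unfold lvlJ
  rw [Finset.mul_sum, ← Finset.sum_add_distrib]
  exact Finset.sum_congr rfl fun k _ => h k

theorem lvlJ_neg (D : ChevalleyDatum) (rl : ℕ → ℤ) (h : LvlOK D rl) (J : Set ℕ) (r : ℕ)
    (hr : r < D.nroots) : lvlJ D rl J (D.neg r) = - lvlJ D rl J r := by
  classical
  unfold lvlJ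
  rw [← Finset.sum_neg_distrib]
  apply Finset.sum_congr rfl
  intro k _
  unfold wt
  rw [h.co_neg r hr k, h.rl_neg r hr]
  ring

theorem lvlJ_eq_zero (D : ChevalleyDatum) (rl : ℕ → ℤ) (J : Set ℕ) (r : ℕ)
    (hr : D.InRootSub J r) : lvlJ D rl J r = 0 := by
  classical
  unfold lvlJ
  apply Finset.sum_eq_zero
  intro k hk
  rw [Finset.mem_filter, Finset.mem_range] at hk
  unfold wt
  have : co D r k = 0 := hr.2 k hk.1 hk.2
  rw [this, zero_mul]

theorem lvlJ_pos (D : ChevalleyDatum) (hD : D ∈ Seven) (rl : ℕ → ℤ) (h : LvlOK D rl) (J : Set ℕ)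
    (r : ℕ) (hr : r ∈ radSet D J) : 0 < lvlJ D rl J r := by
  classical
  unfold lvlJ
  obtain ⟨k, hk, hkJ, hpos⟩ := exists_co_pos_of_mem_radSet D hD J r hr
  have hrl := h.rl_pos r hr.1.1
  apply Finset.sum_pos'
  · intro m hm
    rw [Finset.mem_filter, Finset.mem_range] at hm
    unfold wt
    have := ((isPosRoot_iff_co D hD r).1 hr.1).2 m hm.1
    positivity
  · refine ⟨k, ?_, ?_⟩
    · rw [Finset.mem_filter, Finset.mem_range]
      exact ⟨hk, hkJ⟩
    · unfold wt
      positivity

/-- the off-diagonal structure of `x_r(t)`: an entry of `x_r(t) - 1` is nonzero only if the level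
of the row is the level of the column plus a positive multiple of the level of `r` -/
theorem xMat_sub_one_lvl (D : ChevalleyDatum) (rl : ℕ → ℤ) (h : LvlOK D rl) (J : Set ℕ) (r : ℕ)
    (hr : r < D.nroots) (t : F) (row col : D.Idx)
    (hne : (D.xMat F ⟨r, hr⟩ t - 1) row col ≠ 0) :
    ∃ i : ℕ, 1 ≤ i ∧ idxLvl D rl J row = idxLvl D rl J col + (i : ℤ) * lvlJ D rl J r := by
  rw [Matrix.sub_apply] at hne
  rcases col with i | s
  · rcases row with i' | u
    · exfalso
      apply hne
      simp only [ChevalleyDatum.xMat, Matrix.of_apply, Matrix.one_apply, Sum.inl.injEq]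
      exact sub_self _
    · have hur : u = ⟨r, hr⟩ := by
        by_contra hur
        apply hne
        simp [ChevalleyDatum.xMat, Matrix.of_apply, hur]
      subst hur
      refine ⟨1, le_rfl, ?_⟩
      simp only [idxLvl]
      push_cast
      ring
  · by_cases hsr : s = ⟨r, hr⟩
    · exfalso
      apply hne
      subst hsr
      rcases row with i' | u
      · simp [ChevalleyDatum.xMat, Matrix.of_apply]
      · by_cases hu : u = ⟨r, hr⟩
        · subst hu
          simp [ChevalleyDatum.xMat, Matrix.of_apply]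
        · simp [ChevalleyDatum.xMat, Matrix.of_apply, hu, Matrix.one_apply]
    · by_cases hsn : s.val = D.negIdx.getD r 0
      · have hs : lvlJ D rl J s.val = - lvlJ D rl J r := by
          rw [hsn]
          exact lvlJ_neg D rl h J r hr
        rcases row with i' | u
        · refine ⟨1, le_rfl, ?_⟩
          simp only [idxLvl]
          rw [hs]
          push_cast
          ring
        · have hur : u = ⟨r, hr⟩ := by
            by_contra hur
            apply hne
            by_cases hus : u = s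
            · subst hus
              simp [ChevalleyDatum.xMat, Matrix.of_apply, hsr, hsn]
            · simp [ChevalleyDatum.xMat, Matrix.of_apply, hsr, hsn, hus, hur, Matrix.one_apply]
          subst hur
          refine ⟨2, by omega, ?_⟩
          simp only [idxLvl]
          rw [hs]
          push_cast
          ring
      · rcases row with i' | u
        · exfalso
          apply hne
          simp only [ChevalleyDatum.xMat, Matrix.of_apply, hsr, hsn, if_false]
          simp
        · have hc : D.chainCoeff r s.val u.val ≠ [] := by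
            intro hc
            apply hne
            simp only [ChevalleyDatum.xMat, Matrix.of_apply, hsr, hsn, if_false, hc, List.map_nil,
              List.sum_nil, add_zero, Matrix.one_apply, Sum.inr.injEq]
            exact sub_self _
          obtain ⟨i, hi, hw⟩ := chainCoeff_wt D rl h r s.val u.val hr hc
          refine ⟨i, hi, ?_⟩
          simp only [idxLvl]
          rw [lvlJ_add D rl J u.val r s.val i hw]
          ring

theorem x_sub_one_lvl (D : ChevalleyDatum) (rl : ℕ → ℤ) (h : LvlOK D rl) (J : Set ℕ) (r : ℕ)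
    (hr : r < D.nroots) (t : F) (row col : D.Idx) (hne : (D.x F r t - 1) row col ≠ 0) :
    ∃ i : ℕ, 1 ≤ i ∧ idxLvl D rl J row = idxLvl D rl J col + (i : ℤ) * lvlJ D rl J r := by
  unfold ChevalleyDatum.x at hne
  rw [dif_pos hr] at hne
  exact xMat_sub_one_lvl D rl h J r hr t row col hne

/-- `x_r(t)` is block unitriangular for `r ∈ Φ⁺ ∖ Φ_J` -/
theorem x_blockUp (D : ChevalleyDatum) (hD : D ∈ Seven) (rl : ℕ → ℤ) (h : LvlOK D rl) (J : Set ℕ)
    (r : ℕ) (hr : r ∈ radSet D J) (t : F) : BlockUp (idxLvl D rl J) (D.x F r t) := by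
  intro row col hne
  obtain ⟨i, hi, e⟩ := x_sub_one_lvl D rl h J r hr.1.1 t row col hne
  have := lvlJ_pos D hD rl h J r hr
  have : 0 < (i : ℤ) * lvlJ D rl J r := by positivity
  omega

/-- `x_r(t)` is block diagonal for `r ∈ Φ_J` -/
theorem x_blockDiag (D : ChevalleyDatum) (rl : ℕ → ℤ) (h : LvlOK D rl) (J : Set ℕ)
    (r : ℕ) (hr : D.InRootSub J r) (t : F) : BlockDiag (idxLvl D rl J) (D.x F r t) := by
  intro row col hne
  by_cases hrc : row = col
  · rw [hrc]
  · have hne' : (D.x F r t - 1) row col ≠ 0 := by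
      rw [Matrix.sub_apply, Matrix.one_apply_ne hrc, sub_zero]
      exact hne
    obtain ⟨i, _, e⟩ := x_sub_one_lvl D rl h J r hr.1 t row col hne'
    rw [e, lvlJ_eq_zero D rl J r hr, mul_zero, add_zero]

theorem unipotentRadical_le_blockUpSub (D : ChevalleyDatum) (hD : D ∈ Seven) (rl : ℕ → ℤ)
    (h : LvlOK D rl) (J : Set ℕ) : D.unipotentRadical F J ≤ blockUpSub (idxLvl D rl J) F := by
  unfold ChevalleyDatum.unipotentRadical
  rw [Subgroup.closure_le]
  rintro g ⟨r, t, hp, hn, hg⟩
  have hinv : ((g⁻¹ : GL D.Idx F) : Matrix D.Idx D.Idx F) = D.x F r (-t) := by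
    apply val_inv_eq_of_mul_eq_one
    rw [hg]
    exact x_mul_neg D hD r t
  refine ⟨?_, ?_⟩
  · rw [hg]
    exact x_blockUp D hD rl h J r ⟨hp, hn⟩ t
  · rw [hinv]
    exact x_blockUp D hD rl h J r ⟨hp, hn⟩ (-t)

theorem leviSubgroup_le_blockDiagSub (D : ChevalleyDatum) (hD : D ∈ Seven) (rl : ℕ → ℤ)
    (h : LvlOK D rl) (J : Set ℕ) : D.leviSubgroup F J ≤ blockDiagSub (idxLvl D rl J) F := by
  unfold ChevalleyDatum.leviSubgroup
  apply sup_le
  · intro g hg
    have hd := diagonalSubgroup_le_diagSub D hD hg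
    refine ⟨?_, ?_⟩
    · intro i j hne
      by_cases hij : i = j
      · rw [hij]
      · exact absurd (hd.1 i j hij) hne
    · intro i j hne
      by_cases hij : i = j
      · rw [hij]
      · exact absurd (hd.2 i j hij) hne
  · rw [Subgroup.closure_le]
    rintro g ⟨r, t, hr, hg⟩
    have hinv : ((g⁻¹ : GL D.Idx F) : Matrix D.Idx D.Idx F) = D.x F r (-t) := by
      apply val_inv_eq_of_mul_eq_one
      rw [hg]
      exact x_mul_neg D hD r t
    refine ⟨?_, ?_⟩
    · rw [hg]
      exact x_blockDiag D rl h J r hr t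
    · rw [hinv]
      exact x_blockDiag D rl h J r hr (-t)

/-- `U_J ∩ L_J = 1` -/
theorem unipotentRadical_inf_levi (D : ChevalleyDatum) (hD : D ∈ Seven) (J : Set ℕ) :
    D.unipotentRadical F J ⊓ D.leviSubgroup F J = ⊥ := by
  obtain ⟨rl, h⟩ := exists_lvlOK D hD
  rw [eq_bot_iff, ← blockUpSub_inf_blockDiagSub (F := F) (idxLvl D rl J)]
  exact inf_le_inf (unipotentRadical_le_blockUpSub D hD rl h J)
    (leviSubgroup_le_blockDiagSub D hD rl h J)

theorem unipotentRadical_eq_rootSetSub (D : ChevalleyDatum) (J : Set ℕ) :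
    D.unipotentRadical F J = rootSetSub D F (radSet D J) := by
  unfold ChevalleyDatum.unipotentRadical rootSetSub radSet
  congr 1
  ext g
  constructor
  · rintro ⟨r, t, hp, hn, hg⟩
    exact ⟨r, t, ⟨hp, hn⟩, hg⟩
  · rintro ⟨r, t, ⟨hp, hn⟩, hg⟩
    exact ⟨r, t, hp, hn, hg⟩

/-- `H` normalises `⟨X_s : s ∈ T⟩` -/
theorem diagonal_le_normalizer_rootSetSub (D : ChevalleyDatum) (hD : D ∈ Seven) (T : Set ℕ) :
    D.diagonalSubgroup F ≤ Subgroup.normalizer (rootSetSub D F T : Set (GL D.Idx F)) := by
  unfold rootSetSub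
  rw [Subgroup.le_normalizer_closure_iff]
  rintro h hh g ⟨r, t, hr, hg⟩
  obtain ⟨c, hc, hhc⟩ := exists_torusMat_of_mem D hD h hh
  apply Subgroup.subset_closure
  exact ⟨r, chi D c r * t, hr, torus_conj_x D hD h g c hc hhc r t hg⟩

theorem inRootSub_neg (D : ChevalleyDatum) (hD : D ∈ Seven) (J : Set ℕ) (r : ℕ)
    (hr : D.InRootSub J r) : D.InRootSub J (D.neg r) := by
  obtain ⟨rl, h⟩ := exists_lvlOK D hD
  refine ⟨(neg_lt D hD r hr.1).1, fun i hi hiJ => ?_⟩
  have h1 : co D (D.neg r) i = - co D r i := h.co_neg r hr.1 i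
  have h2 : co D r i = 0 := hr.2 i hi hiJ
  have h3 : co D (D.neg r) i = 0 := by rw [h1, h2, neg_zero]
  exact h3

/-- `P_J` normalises `U_J` -/
theorem parabolic_le_normalizer_unipotentRadical (D : ChevalleyDatum) (hD : D ∈ Seven)
    (J : Set ℕ) : D.parabolicSubgroup F J ≤
      Subgroup.normalizer (D.unipotentRadical F J : Set (GL D.Idx F)) := by
  rw [parabolic_eq D hD J, unipotentRadical_eq_rootSetSub]
  apply sup_le (diagonal_le_normalizer_rootSetSub D hD _)
  rw [Subgroup.closure_le]
  rintro g ⟨r, t, hr, hg⟩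
  have hrn : r < D.nroots := by
    rcases hr with hr | hr
    · exact hr.1
    · exact hr.1
  by_cases hrT : r ∈ radSet D J
  · exact Subgroup.le_normalizer (Subgroup.subset_closure ⟨r, t, hrT, hg⟩)
  · apply rootSubgroup_le_normalizer_rootSetSub D hD (radSet D J) r hrn
    · intro s hs
      refine ⟨hs.1.1, ?_, ?_, fun c hc => commTerms_mem_radSet D hD J r s hr hs c hc⟩
      · rintro rfl
        exact hrT hs
      · rintro rfl
        rcases hr with hr | hr
        · have h1 := (isPosRoot_iff D hD r).1 hr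
          have h2 := (isPosRoot_iff D hD (D.neg r)).1 hs.1
          have h3 := neg_eq D hD r hrn
          have h4 := nroots_even D hD
          omega
        · exact hs.2 (inRootSub_neg D hD J r hr)
    · exact Subgroup.subset_closure ⟨t, hg⟩

/-- `U_J L_J = P_J` -/
theorem unipotentRadical_sup_levi (D : ChevalleyDatum) (hD : D ∈ Seven) (J : Set ℕ) :
    D.unipotentRadical F J ⊔ D.leviSubgroup F J = D.parabolicSubgroup F J := by
  rw [parabolic_eq D hD J]
  apply le_antisymm
  · apply sup_le
    · unfold ChevalleyDatum.unipotentRadical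
      rw [Subgroup.closure_le]
      rintro g ⟨r, t, hp, _, hg⟩
      exact Subgroup.mem_sup_right (Subgroup.subset_closure ⟨r, t, Or.inl hp, hg⟩)
    · unfold ChevalleyDatum.leviSubgroup
      apply sup_le le_sup_left
      rw [Subgroup.closure_le]
      rintro g ⟨r, t, hr, hg⟩
      exact Subgroup.mem_sup_right (Subgroup.subset_closure ⟨r, t, Or.inr hr, hg⟩)
  · apply sup_le
    · unfold ChevalleyDatum.leviSubgroup
      exact le_trans le_sup_left le_sup_right
    · rw [Subgroup.closure_le]
      rintro g ⟨r, t, hr, hg⟩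
      by_cases hin : D.InRootSub J r
      · apply Subgroup.mem_sup_right
        unfold ChevalleyDatum.leviSubgroup
        exact Subgroup.mem_sup_right (Subgroup.subset_closure ⟨r, t, hin, hg⟩)
      · apply Subgroup.mem_sup_left
        unfold ChevalleyDatum.unipotentRadical
        rcases hr with hr | hr
        · exact Subgroup.subset_closure ⟨r, t, hr, hin, hg⟩
        · exact absurd hr hin

end Cfsg.Agent.Lib.Helper5.ChevStruct
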