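import Mathlib
import Cfsg.Prelude.Def_ChevStructure
import Cfsg.Agent.Lib.Helper5.ChevLevi
import Cfsg.Agent.Lib.Helper5.ChevGroupCard
import Cfsg.Agent.Lib.Helper5.ChevWKer
import Cfsg.Agent.Lib.Helper5.ChevXInj

set_option autoImplicit false

/-!
The normaliser of the unipotent radical `U_J` in the Chevalley group is the parabolic subgroup
`P_J`.
-/

namespace Cfsg.Agent.Lib.Helper5.ChevStruct

open Cfsg Cfsg.Lie Cfsg.Agent.Lib.Helper5.ChevSym

variable {F : Type*} [Field F]

/-- a fundamental reflection `s_i`, `i ∈ J`, permutes the positive roots outside `Φ_J` -/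
theorem reflect_mem_radSet (D : ChevalleyDatum) (hD : D ∈ Seven) (J : Set ℕ) (i : ℕ)
    (hi : i < D.rank) (hiJ : i ∈ J) (r : ℕ) (hr : r ∈ radSet D J) :
    D.reflectRoot i r ∈ radSet D J := by
  have hne : r ≠ D.simple i := by
    rintro rfl
    exact hr.2 (inRootSub_simple D hD J i hi hiJ)
  refine ⟨(checkCoLin_spec D i (chkCoLin_all D hD i hi) r hr.1.1).2 hr.1 hne, fun hin => ?_⟩
  have := inRootSub_reflect D hD J i hi hiJ _ hin
  rw [(reflectRoot_invol D hD i hi r hr.1.1).2] at this
  exact hr.2 this

/-- a word keeping the positive roots outside `Φ_J` positive gives an element of `P_J` -/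
theorem wGL_mem_parabolic_of_radSet (D : ChevalleyDatum) (hD : D ∈ Seven) (J : Set ℕ) (m : ℕ) :
    ∀ w : List ℕ, Wd D w → (negSet D w).card = m →
      (∀ r ∈ radSet D J, D.IsPosRoot (wAct D w r)) →
      (wGL D hD w : GL D.Idx F) ∈ D.parabolicSubgroup F J := by
  induction m with
  | zero =>
    intro w hw hcard _
    have h1 := (wrel_nil_of_card_eq_zero D hD w hw hcard).hrel (F := F) hD
    unfold HRel at h1
    rw [wGL_nil, inv_one, mul_one] at h1
    unfold ChevalleyDatum.parabolicSubgroup
    exact Subgroup.mem_sup_left (diagonal_le_borel D h1)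
  | succ m ih =>
    intro w hw hcard hrad
    have hex : ∃ i < D.rank, ¬ D.IsPosRoot (wAct D w (D.simple i)) := by
      by_contra hcon
      push Not at hcon
      have hall := wAct_pos_of_simple D hD w hw hcon
      have : negSet D w = ∅ := by
        rw [Finset.eq_empty_iff_forall_notMem]
        intro r hr
        rw [mem_negSet] at hr
        exact hr.2 (hall r hr.1)
      rw [this] at hcard
      simp at hcard
    obtain ⟨i, hi, hneg⟩ := hex
    have hiJ : i ∈ J := by
      by_contra hiJ
      apply hneg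
      apply hrad
      refine ⟨simple_pos D hD i hi, fun hin => ?_⟩
      have h1 := hin.2 i hi hiJ
      have h2 := co_simple D hD i hi i hi
      unfold co basisVec at h2
      rw [if_pos rfl] at h2
      omega
    have hw' : Wd D (w ++ [i]) := hw.append (Wd.single hi)
    have hcard' : (negSet D (w ++ [i])).card = m := by
      have := card_negSet_append D hD w hw i hi hneg
      omega
    have hrad' : ∀ r ∈ radSet D J, D.IsPosRoot (wAct D (w ++ [i]) r) := by
      intro r hr
      rw [wAct_append_single]
      exact hrad _ (reflect_mem_radSet D hD J i hi hiJ r hr)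
    have h1 := ih (w ++ [i]) hw' hcard' hrad'
    rw [wGL_append, wGL_cons, wGL_nil, mul_one] at h1
    have h2 := nGL_mem_parabolic (F := F) D hD J i hiJ hi
    have e : (wGL D hD w : GL D.Idx F) = wGL D hD w * nGL D hD i * (nGL D hD i)⁻¹ := by group
    rw [e]
    exact (D.parabolicSubgroup F J).mul_mem h1 ((D.parabolicSubgroup F J).inv_mem h2)

/-- a nontrivial root element of a negative root does not lie in `U` -/
theorem isPosRoot_of_x_mem_pos (D : ChevalleyDatum) (hD : D ∈ Seven) (s : ℕ) (hs : s < D.nroots)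
    (t : F) (ht : t ≠ 0) (g : GL D.Idx F) (hg : (g : Matrix D.Idx D.Idx F) = D.x F s t)
    (hmem : g ∈ D.posUnipotent F) : D.IsPosRoot s := by
  by_contra hn
  have hneg := isNegRoot_of_not_pos D hD s hs hn
  have hV : g ∈ D.negUnipotent F := Subgroup.subset_closure ⟨s, t, hneg, hg⟩
  have h1 : g ∈ D.borelSubgroup F ⊓ D.negUnipotent F := ⟨pos_le_borel D hmem, hV⟩
  rw [borel_inf_neg D hD, Subgroup.mem_bot] at h1
  have h2 : D.x F s t = D.x F (D.neg s) 0 := by
    rw [← hg, h1, Units.val_one, x_at_zero]
  have h3 := x_root_inj D hD s (D.neg s) hs (neg_lt D hD s hs).1 t 0 ht h2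
  exact (neg_lt D hD s hs).2.1 h3.symm

theorem parabolic_le_group (D : ChevalleyDatum) (hD : D ∈ Seven) (J : Set ℕ) :
    D.parabolicSubgroup F J ≤ D.group F := by
  unfold ChevalleyDatum.parabolicSubgroup
  apply sup_le (borel_le_group D hD)
  rw [Subgroup.closure_le]
  rintro g ⟨j, _, hj, hg⟩
  apply monomial_le_group D hD
  unfold ChevalleyDatum.monomialSubgroup
  apply Subgroup.mem_sup_right
  apply Subgroup.subset_closure
  exact ⟨D.simple j, simple_lt D hD j hj, hg⟩

/-- `N_G(U_J) = P_J` -/
theorem normalizer_unipotentRadical (D : ChevalleyDatum) (hD : D ∈ Seven) (J : Set ℕ) :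
    Subgroup.normalizer (D.unipotentRadical F J : Set (GL D.Idx F)) ⊓ D.group F
      = D.parabolicSubgroup F J := by
  apply le_antisymm
  · rintro g ⟨hgN, hgG⟩
    obtain ⟨w, hw, b, hb, v, hv, e⟩ := bruhat_exists_word D hD g hgG
    have hBP : D.borelSubgroup F ≤ D.parabolicSubgroup F J := by
      unfold ChevalleyDatum.parabolicSubgroup
      exact le_sup_left
    have hPN := parabolic_le_normalizer_unipotentRadical (F := F) D hD J
    have hvB : v ∈ D.borelSubgroup F := by
      apply pos_le_borel D
      unfold unegSub at hv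
      revert hv
      apply Subgroup.closure_mono
      rintro y ⟨r, t, hr, hy⟩
      exact ⟨r, t, hr.1, hy⟩
    -- `n_w` normalises `U_J`
    have hn : (wGL D hD w : GL D.Idx F) ∈
        Subgroup.normalizer (D.unipotentRadical F J : Set (GL D.Idx F)) := by
      have e' : (wGL D hD w : GL D.Idx F) = b⁻¹ * g * v⁻¹ := by rw [e]; group
      rw [e']
      exact Subgroup.mul_mem _ (Subgroup.mul_mem _ (Subgroup.inv_mem _ (hPN (hBP hb))) hgN)
        (Subgroup.inv_mem _ (hPN (hBP hvB)))
    have hrad : ∀ r ∈ radSet D J, D.IsPosRoot (wAct D w r) := by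
      intro r hr
      obtain ⟨ε, hε, hconj⟩ := wGL_conj (F := F) D hD w hw r hr.1.1
      have hy : xGL D hD r (1 : F) ∈ D.unipotentRadical F J :=
        Subgroup.subset_closure ⟨r, 1, hr.1, hr.2, xGL_val D hD r 1⟩
      have hmem := (Subgroup.mem_normalizer_iff.1 hn _).1 hy
      have hU : D.unipotentRadical F J ≤ D.posUnipotent F := by
        unfold ChevalleyDatum.unipotentRadical ChevalleyDatum.posUnipotent
        apply Subgroup.closure_mono
        rintro y ⟨s, t, hs, _, hy⟩
        exact ⟨s, t, hs, hy⟩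
      have hε0 : ε * 1 ≠ (0 : F) := by
        rw [mul_one]
        rcases hε with rfl | rfl
        · exact one_ne_zero
        · exact neg_ne_zero.2 one_ne_zero
      exact isPosRoot_of_x_mem_pos D hD _ (wAct_lt D hD w hw r hr.1.1) _ hε0 _
        (hconj 1 _ (xGL_val D hD r 1)) (hU hmem)
    have h1 := wGL_mem_parabolic_of_radSet (F := F) D hD J _ w hw rfl hrad
    rw [e]
    exact Subgroup.mul_mem _ (Subgroup.mul_mem _ (hBP hb) h1) (hBP hvB)
  · exact le_inf (parabolic_le_normalizer_unipotentRadical D hD J) (parabolic_le_group D hD J)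

end Cfsg.Agent.Lib.Helper5.ChevStruct
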