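import Mathlib

set_option autoImplicit false

/-!
A homomorphism from `SL₂(F)` to a group `G` built from elements `X t`, `Y t`, `H s`, `n` of `G`
satisfying the relations of a group of rank one: it is defined on the Bruhat normal form of a matrix,
and its multiplicativity is checked against the generators `[[1,t],[0,1]]`, `diag(s, s⁻¹)` and
`[[0,1],[-1,0]]`.
-/

namespace Cfsg.Agent.Lib.Helper5.RankOneHom

open scoped Classical

variable {F : Type*} [Field F] {G : Type*} [Group G]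

/-- the upper unitriangular matrix -/
def uu (t : F) : Matrix.SpecialLinearGroup (Fin 2) F := ⟨!![1, t; 0, 1], by simp [Matrix.det_fin_two]⟩

/-- the lower unitriangular matrix -/
def ll (t : F) : Matrix.SpecialLinearGroup (Fin 2) F := ⟨!![1, 0; t, 1], by simp [Matrix.det_fin_two]⟩

/-- the diagonal matrix -/
def dd (s : F) (hs : s ≠ 0) : Matrix.SpecialLinearGroup (Fin 2) F :=
  ⟨!![s, 0; 0, s⁻¹], by simp [Matrix.det_fin_two, hs]⟩

/-- the monomial matrix -/
def nn : Matrix.SpecialLinearGroup (Fin 2) F := ⟨!![0, 1; -1, 0], by simp [Matrix.det_fin_two]⟩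

/-- the relations of a group of rank one -/
structure Rel (X Y H : F → G) (n : G) : Prop where
  x_add : ∀ a b, X a * X b = X (a + b)
  h_mul : ∀ s s', s ≠ 0 → s' ≠ 0 → H s * H s' = H (s * s')
  h_x : ∀ s t, s ≠ 0 → H s * X t = X (s ^ 2 * t) * H s
  n_h : ∀ s, s ≠ 0 → n * H s = H s⁻¹ * n
  n_sq : n * n = H (-1)
  n_x : ∀ t, n * X t = Y (-t) * n
  n_y : ∀ t, n * Y t = X (-t) * n
  xyx : ∀ t, t ≠ 0 → X t * Y (-t⁻¹) * X t = H t * n

/-- the map on the Bruhat normal form -/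
noncomputable def phiFun (X H : F → G) (n : G) (g : Matrix.SpecialLinearGroup (Fin 2) F) : G :=
  if (g : Matrix (Fin 2) (Fin 2) F) 1 0 = 0 then
    X ((g : Matrix (Fin 2) (Fin 2) F) 0 0 * (g : Matrix (Fin 2) (Fin 2) F) 0 1) *
      H ((g : Matrix (Fin 2) (Fin 2) F) 0 0)
  else X ((g : Matrix (Fin 2) (Fin 2) F) 0 0 / (g : Matrix (Fin 2) (Fin 2) F) 1 0) *
    H (-((g : Matrix (Fin 2) (Fin 2) F) 1 0)⁻¹) * n *
    X ((g : Matrix (Fin 2) (Fin 2) F) 1 1 / (g : Matrix (Fin 2) (Fin 2) F) 1 0)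

namespace Rel

variable {X Y H : F → G} {n : G}

theorem x_zero (h : Rel X Y H n) : X 0 = 1 := by
  have := h.x_add 0 0
  rw [add_zero] at this
  exact mul_eq_left.1 this

theorem h_one (h : Rel X Y H n) : H 1 = 1 := by
  have := h.h_mul 1 1 one_ne_zero one_ne_zero
  rw [mul_one] at this
  exact mul_eq_left.1 this

theorem h_neg_one_sq (h : Rel X Y H n) : H (-1) * H (-1) = 1 := by
  rw [h.h_mul (-1) (-1) (by simp) (by simp)]
  simp [h.h_one]

/-- `n x(β) n = x(-β⁻¹) h(-β⁻¹) n x(-β⁻¹)` -/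
theorem n_x_n (h : Rel X Y H n) (β : F) (hβ : β ≠ 0) :
    n * X β * n = X (-β⁻¹) * H (-β⁻¹) * n * X (-β⁻¹) := by
  have hβ' : β⁻¹ ≠ 0 := inv_ne_zero hβ
  -- `y(-β) = x(-β⁻¹) h(β⁻¹) n x(-β⁻¹)`
  have e1 : Y (-β) = X (-β⁻¹) * H β⁻¹ * n * X (-β⁻¹) := by
    have := h.xyx β⁻¹ hβ'
    rw [inv_inv] at this
    have e : Y (-β) = (X β⁻¹)⁻¹ * (X β⁻¹ * Y (-β) * X β⁻¹) * (X β⁻¹)⁻¹ := by group
    have hinv : (X β⁻¹)⁻¹ = X (-β⁻¹) := by
      apply inv_eq_of_mul_eq_one_left
      rw [h.x_add, neg_add_cancel, h.x_zero]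
    rw [e, this, hinv]
    simp only [mul_assoc]
  rw [h.n_x, e1]
  -- move `n n` to the left through `x(-β⁻¹)`
  have e2 : X (-β⁻¹) * (n * n) = H (-1) * X (-β⁻¹) := by
    rw [h.n_sq, h.h_x (-1) _ (by simp)]
    congr 2; ring
  have e3 : n * H (-1) = H (-1) * n := by
    rw [h.n_h (-1) (by simp)]
    have : (-1 : F)⁻¹ = -1 := by simp
    rw [this]
  have e4 : H β⁻¹ * H (-1) = H (-β⁻¹) := by
    rw [h.h_mul _ _ hβ' (by simp)]
    congr 1; ring
  calc X (-β⁻¹) * H β⁻¹ * n * X (-β⁻¹) * n * n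
      = X (-β⁻¹) * H β⁻¹ * n * (X (-β⁻¹) * (n * n)) := by group
    _ = X (-β⁻¹) * H β⁻¹ * (n * H (-1)) * X (-β⁻¹) := by rw [e2]; group
    _ = X (-β⁻¹) * (H β⁻¹ * H (-1)) * n * X (-β⁻¹) := by rw [e3]; group
    _ = _ := by rw [e4]

end Rel

/-- the map in terms of the four entries -/
noncomputable def phiE (X H : F → G) (n : G) (a b c d : F) : G :=
  if c = 0 then X (a * b) * H a else X (a / c) * H (-c⁻¹) * n * X (d / c)

theorem phiFun_eq (X H : F → G) (n : G) (g : Matrix.SpecialLinearGroup (Fin 2) F) :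
    phiFun X H n g = phiE X H n ((g : Matrix (Fin 2) (Fin 2) F) 0 0)
      ((g : Matrix (Fin 2) (Fin 2) F) 0 1) ((g : Matrix (Fin 2) (Fin 2) F) 1 0)
      ((g : Matrix (Fin 2) (Fin 2) F) 1 1) := rfl

theorem det_rel (g : Matrix.SpecialLinearGroup (Fin 2) F) :
    (g : Matrix (Fin 2) (Fin 2) F) 0 0 * (g : Matrix (Fin 2) (Fin 2) F) 1 1
      - (g : Matrix (Fin 2) (Fin 2) F) 0 1 * (g : Matrix (Fin 2) (Fin 2) F) 1 0 = 1 := by
  have := g.det_coe
  rwa [Matrix.det_fin_two] at this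

theorem mul_uu_entries (g : Matrix.SpecialLinearGroup (Fin 2) F) (t : F) :
    ((g * uu t : Matrix.SpecialLinearGroup (Fin 2) F) : Matrix (Fin 2) (Fin 2) F) 0 0
        = (g : Matrix (Fin 2) (Fin 2) F) 0 0 ∧
    ((g * uu t : Matrix.SpecialLinearGroup (Fin 2) F) : Matrix (Fin 2) (Fin 2) F) 0 1
        = (g : Matrix (Fin 2) (Fin 2) F) 0 0 * t + (g : Matrix (Fin 2) (Fin 2) F) 0 1 ∧
    ((g * uu t : Matrix.SpecialLinearGroup (Fin 2) F) : Matrix (Fin 2) (Fin 2) F) 1 0
        = (g : Matrix (Fin 2) (Fin 2) F) 1 0 ∧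
    ((g * uu t : Matrix.SpecialLinearGroup (Fin 2) F) : Matrix (Fin 2) (Fin 2) F) 1 1
        = (g : Matrix (Fin 2) (Fin 2) F) 1 0 * t + (g : Matrix (Fin 2) (Fin 2) F) 1 1 := by
  simp only [Matrix.SpecialLinearGroup.coe_mul, Matrix.mul_apply, Fin.sum_univ_two]
  simp [uu]

theorem mul_dd_entries (g : Matrix.SpecialLinearGroup (Fin 2) F) (s : F) (hs : s ≠ 0) :
    ((g * dd s hs : Matrix.SpecialLinearGroup (Fin 2) F) : Matrix (Fin 2) (Fin 2) F) 0 0
        = (g : Matrix (Fin 2) (Fin 2) F) 0 0 * s ∧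
    ((g * dd s hs : Matrix.SpecialLinearGroup (Fin 2) F) : Matrix (Fin 2) (Fin 2) F) 0 1
        = (g : Matrix (Fin 2) (Fin 2) F) 0 1 * s⁻¹ ∧
    ((g * dd s hs : Matrix.SpecialLinearGroup (Fin 2) F) : Matrix (Fin 2) (Fin 2) F) 1 0
        = (g : Matrix (Fin 2) (Fin 2) F) 1 0 * s ∧
    ((g * dd s hs : Matrix.SpecialLinearGroup (Fin 2) F) : Matrix (Fin 2) (Fin 2) F) 1 1
        = (g : Matrix (Fin 2) (Fin 2) F) 1 1 * s⁻¹ := by
  simp only [Matrix.SpecialLinearGroup.coe_mul, Matrix.mul_apply, Fin.sum_univ_two]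
  simp [dd]

theorem mul_nn_entries (g : Matrix.SpecialLinearGroup (Fin 2) F) :
    ((g * nn : Matrix.SpecialLinearGroup (Fin 2) F) : Matrix (Fin 2) (Fin 2) F) 0 0
        = -(g : Matrix (Fin 2) (Fin 2) F) 0 1 ∧
    ((g * nn : Matrix.SpecialLinearGroup (Fin 2) F) : Matrix (Fin 2) (Fin 2) F) 0 1
        = (g : Matrix (Fin 2) (Fin 2) F) 0 0 ∧
    ((g * nn : Matrix.SpecialLinearGroup (Fin 2) F) : Matrix (Fin 2) (Fin 2) F) 1 0
        = -(g : Matrix (Fin 2) (Fin 2) F) 1 1 ∧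
    ((g * nn : Matrix.SpecialLinearGroup (Fin 2) F) : Matrix (Fin 2) (Fin 2) F) 1 1
        = (g : Matrix (Fin 2) (Fin 2) F) 1 0 := by
  simp only [Matrix.SpecialLinearGroup.coe_mul, Matrix.mul_apply, Fin.sum_univ_two]
  simp [nn]


namespace Rel

variable {X Y H : F → G} {n : G}

theorem phi_mul_uu (h : Rel X Y H n) (g : Matrix.SpecialLinearGroup (Fin 2) F) (t : F) :
    phiFun X H n (g * uu t) = phiFun X H n g * X t := by
  rw [phiFun_eq, phiFun_eq]
  obtain ⟨e1, e2, e3, e4⟩ := mul_uu_entries g t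
  rw [e1, e2, e3, e4]
  have hdet := det_rel g
  generalize (g : Matrix (Fin 2) (Fin 2) F) 0 0 = a at *
  generalize (g : Matrix (Fin 2) (Fin 2) F) 0 1 = b at *
  generalize (g : Matrix (Fin 2) (Fin 2) F) 1 0 = c at *
  generalize (g : Matrix (Fin 2) (Fin 2) F) 1 1 = d at *
  unfold phiE
  by_cases hc : c = 0
  · rw [if_pos hc, if_pos hc]
    have ha : a ≠ 0 := by
      rintro rfl
      rw [hc] at hdet
      simp at hdet
    rw [mul_assoc (X (a * b)), h.h_x a t ha, ← mul_assoc, h.x_add]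
    congr 2; ring
  · rw [if_neg hc, if_neg hc]
    have e : X (d / c) * X t = X ((c * t + d) / c) := by
      rw [h.x_add]; congr 1; field_simp; ring
    rw [mul_assoc _ (X (d / c)) (X t), e]

theorem phi_mul_dd (h : Rel X Y H n) (g : Matrix.SpecialLinearGroup (Fin 2) F) (s : F)
    (hs : s ≠ 0) : phiFun X H n (g * dd s hs) = phiFun X H n g * H s := by
  rw [phiFun_eq, phiFun_eq]
  obtain ⟨e1, e2, e3, e4⟩ := mul_dd_entries g s hs
  rw [e1, e2, e3, e4]
  have hdet := det_rel g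
  generalize (g : Matrix (Fin 2) (Fin 2) F) 0 0 = a at *
  generalize (g : Matrix (Fin 2) (Fin 2) F) 0 1 = b at *
  generalize (g : Matrix (Fin 2) (Fin 2) F) 1 0 = c at *
  generalize (g : Matrix (Fin 2) (Fin 2) F) 1 1 = d at *
  unfold phiE
  by_cases hc : c = 0
  · have hcs : c * s = 0 := by rw [hc, zero_mul]
    rw [if_pos hc, if_pos hcs]
    have ha : a ≠ 0 := by
      rintro rfl
      rw [hc] at hdet
      simp at hdet
    rw [mul_assoc (X (a * b)), h.h_mul a s ha hs]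
    congr 2; field_simp
  · have hcs : c * s ≠ 0 := mul_ne_zero hc hs
    rw [if_neg hc, if_neg hcs]
    -- `n x(β) h(s) = h(s⁻¹) n x(s⁻² β)`
    have hs' : s⁻¹ ≠ 0 := inv_ne_zero hs
    have e5 : X (d / c) * H s = H s * X (d * s⁻¹ / (c * s)) := by
      rw [h.h_x s _ hs]
      congr 2; field_simp
    have e6 : H (-c⁻¹) * H s⁻¹ = H (-(c * s)⁻¹) := by
      rw [h.h_mul _ _ (by simp [hc]) hs']
      congr 1; field_simp
    calc X (a * s / (c * s)) * H (-(c * s)⁻¹) * n * X (d * s⁻¹ / (c * s))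
        = X (a / c) * (H (-c⁻¹) * H s⁻¹) * n * X (d * s⁻¹ / (c * s)) := by
          rw [e6]; congr 4; field_simp
      _ = X (a / c) * H (-c⁻¹) * (H s⁻¹ * n) * X (d * s⁻¹ / (c * s)) := by group
      _ = X (a / c) * H (-c⁻¹) * n * (H s * X (d * s⁻¹ / (c * s))) := by
          rw [← h.n_h s hs]; group
      _ = _ := by rw [← e5]; group

theorem phi_mul_nn (h : Rel X Y H n) (g : Matrix.SpecialLinearGroup (Fin 2) F) :
    phiFun X H n (g * nn) = phiFun X H n g * n := by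
  rw [phiFun_eq, phiFun_eq]
  obtain ⟨e1, e2, e3, e4⟩ := mul_nn_entries g
  rw [e1, e2, e3, e4]
  have hdet := det_rel g
  generalize (g : Matrix (Fin 2) (Fin 2) F) 0 0 = a at *
  generalize (g : Matrix (Fin 2) (Fin 2) F) 0 1 = b at *
  generalize (g : Matrix (Fin 2) (Fin 2) F) 1 0 = c at *
  generalize (g : Matrix (Fin 2) (Fin 2) F) 1 1 = d at *
  unfold phiE
  by_cases hc : c = 0
  · have hd : d ≠ 0 := by
      rintro rfl
      rw [hc] at hdet
      simp at hdet
    have hd' : -d ≠ 0 := neg_ne_zero.2 hd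
    rw [if_pos hc, if_neg hd']
    have had : a = d⁻¹ := by
      rw [hc, mul_zero, sub_zero] at hdet
      exact eq_inv_of_mul_eq_one_left hdet
    have e5 : c / -d = 0 := by rw [hc, zero_div]
    rw [e5, h.x_zero, mul_one]
    congr 3
    · rw [had]; field_simp
    · rw [had]; simp
  · rw [if_neg hc]
    by_cases hd : d = 0
    · have hd' : -d = 0 := by rw [hd, neg_zero]
      rw [if_pos hd']
      have hb : b = -c⁻¹ := by
        rw [hd, mul_zero, zero_sub] at hdet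
        have : b * c = -1 := by rw [← hdet, neg_neg]
        field_simp
        linear_combination this
      rw [hd, zero_div, h.x_zero, mul_one, mul_assoc, h.n_sq,
        mul_assoc, h.h_mul _ _ (by simp [hc]) (by simp)]
      congr 2
      · rw [hb]; field_simp
      · rw [hb]; ring
    · have hd' : -d ≠ 0 := neg_ne_zero.2 hd
      rw [if_neg hd']
      have hβ : d / c ≠ 0 := div_ne_zero hd hc
      have e5 := h.n_x_n (d / c) hβ
      have e6 : H (-c⁻¹) * X (-(d / c)⁻¹) = X (-(c * d)⁻¹) * H (-c⁻¹) := by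
        rw [h.h_x _ _ (by simp [hc])]
        congr 2; field_simp
      have e7 : X (a / c) * X (-(c * d)⁻¹) = X (-b / -d) := by
        rw [h.x_add]
        congr 1
        field_simp
        linear_combination hdet
      have e8 : H (-c⁻¹) * H (-(d / c)⁻¹) = H (-(-d)⁻¹) := by
        rw [h.h_mul _ _ (by simp [hc]) (by simp [hc, hd])]
        congr 1; field_simp
      have e9 : -(d / c)⁻¹ = c / -d := by field_simp
      calc X (-b / -d) * H (-(-d)⁻¹) * n * X (c / -d)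
          = X (a / c) * (X (-(c * d)⁻¹) * H (-c⁻¹)) * H (-(d / c)⁻¹) * n * X (c / -d) := by
            rw [← e7, ← e8]; group
        _ = X (a / c) * H (-c⁻¹) * (X (-(d / c)⁻¹) * H (-(d / c)⁻¹) * n * X (-(d / c)⁻¹)) := by
            rw [← e6, e9]; group
        _ = _ := by rw [← e5]; group

end Rel

theorem decomp_zero (g : Matrix.SpecialLinearGroup (Fin 2) F)
    (hc : (g : Matrix (Fin 2) (Fin 2) F) 1 0 = 0) :
    ∃ ha : (g : Matrix (Fin 2) (Fin 2) F) 0 0 ≠ 0,
      g = uu ((g : Matrix (Fin 2) (Fin 2) F) 0 0 * (g : Matrix (Fin 2) (Fin 2) F) 0 1) *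
        dd ((g : Matrix (Fin 2) (Fin 2) F) 0 0) ha := by
  have hdet := det_rel g
  rw [hc, mul_zero, sub_zero] at hdet
  have ha : (g : Matrix (Fin 2) (Fin 2) F) 0 0 ≠ 0 := by
    intro h0
    rw [h0, zero_mul] at hdet
    exact zero_ne_one hdet
  refine ⟨ha, ?_⟩
  have hd : (g : Matrix (Fin 2) (Fin 2) F) 1 1 = ((g : Matrix (Fin 2) (Fin 2) F) 0 0)⁻¹ :=
    eq_inv_of_mul_eq_one_right hdet
  apply Subtype.ext
  rw [Matrix.SpecialLinearGroup.coe_mul]
  ext i j
  fin_cases i <;> fin_cases j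
  · simp [uu, dd, Matrix.mul_apply, Fin.sum_univ_two]
  · simp [uu, dd, Matrix.mul_apply, Fin.sum_univ_two]
    field_simp
  · simp [uu, dd, Matrix.mul_apply, Fin.sum_univ_two, hc]
  · simp [uu, dd, Matrix.mul_apply, Fin.sum_univ_two, hd]

theorem decomp_ne (g : Matrix.SpecialLinearGroup (Fin 2) F)
    (hc : (g : Matrix (Fin 2) (Fin 2) F) 1 0 ≠ 0) :
    g = uu ((g : Matrix (Fin 2) (Fin 2) F) 0 0 / (g : Matrix (Fin 2) (Fin 2) F) 1 0) *
        dd (-((g : Matrix (Fin 2) (Fin 2) F) 1 0)⁻¹) (by simp [hc]) * nn *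
        uu ((g : Matrix (Fin 2) (Fin 2) F) 1 1 / (g : Matrix (Fin 2) (Fin 2) F) 1 0) := by
  have hdet := det_rel g
  apply Subtype.ext
  rw [Matrix.SpecialLinearGroup.coe_mul, Matrix.SpecialLinearGroup.coe_mul,
    Matrix.SpecialLinearGroup.coe_mul]
  ext i j
  fin_cases i <;> fin_cases j
  · simp [uu, dd, nn, Matrix.mul_apply, Fin.sum_univ_two]
    field_simp
  · simp [uu, dd, nn, Matrix.mul_apply, Fin.sum_univ_two]
    field_simp
    linear_combination (-1 : F) * hdet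
  · simp [uu, dd, nn, Matrix.mul_apply, Fin.sum_univ_two]
  · simp [uu, dd, nn, Matrix.mul_apply, Fin.sum_univ_two]
    field_simp

namespace Rel

variable {X Y H : F → G} {n : G}

theorem phi_one (h : Rel X Y H n) : phiFun X H n 1 = 1 := by
  rw [phiFun_eq]
  simp [phiE, h.x_zero, h.h_one]

/-- multiplicativity against a fixed right factor -/
def MulBy (X H : F → G) (n : G) (g' : Matrix.SpecialLinearGroup (Fin 2) F) (v : G) : Prop :=
  ∀ g, phiFun X H n (g * g') = phiFun X H n g * v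

theorem MulBy.mul {g₁ g₂ : Matrix.SpecialLinearGroup (Fin 2) F} {v₁ v₂ : G}
    (h₁ : MulBy X H n g₁ v₁) (h₂ : MulBy X H n g₂ v₂) : MulBy X H n (g₁ * g₂) (v₁ * v₂) := by
  intro g
  rw [← mul_assoc, h₂, h₁, mul_assoc]

theorem MulBy.eq (h : Rel X Y H n) {g' : Matrix.SpecialLinearGroup (Fin 2) F} {v : G}
    (h' : MulBy X H n g' v) : phiFun X H n g' = v := by
  have := h' 1
  rwa [one_mul, h.phi_one, one_mul] at this

theorem exists_mulBy (h : Rel X Y H n) (g' : Matrix.SpecialLinearGroup (Fin 2) F) :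
    ∃ v, MulBy X H n g' v ∧ v ∈ Subgroup.closure (Set.range X ∪ Set.range Y) := by
  have hX : ∀ t, X t ∈ Subgroup.closure (Set.range X ∪ Set.range Y) := fun t =>
    Subgroup.subset_closure (Or.inl ⟨t, rfl⟩)
  have hY : ∀ t, Y t ∈ Subgroup.closure (Set.range X ∪ Set.range Y) := fun t =>
    Subgroup.subset_closure (Or.inr ⟨t, rfl⟩)
  have hHn : ∀ s, s ≠ 0 → H s * n ∈ Subgroup.closure (Set.range X ∪ Set.range Y) := by
    intro s hs
    rw [← h.xyx s hs]
    exact mul_mem (mul_mem (hX _) (hY _)) (hX _)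
  have hn : n ∈ Subgroup.closure (Set.range X ∪ Set.range Y) := by
    have := hHn 1 one_ne_zero
    rwa [h.h_one, one_mul] at this
  have hH : ∀ s, s ≠ 0 → H s ∈ Subgroup.closure (Set.range X ∪ Set.range Y) := by
    intro s hs
    have : H s = H s * n * n⁻¹ := by group
    rw [this]
    exact mul_mem (hHn s hs) (inv_mem hn)
  by_cases hc : (g' : Matrix (Fin 2) (Fin 2) F) 1 0 = 0
  · obtain ⟨ha, e⟩ := decomp_zero g' hc
    have hm := MulBy.mul (X := X) (H := H) (n := n)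
      (fun g => h.phi_mul_uu g ((g' : Matrix (Fin 2) (Fin 2) F) 0 0 *
        (g' : Matrix (Fin 2) (Fin 2) F) 0 1))
      (fun g => h.phi_mul_dd g ((g' : Matrix (Fin 2) (Fin 2) F) 0 0) ha)
    rw [← e] at hm
    exact ⟨_, hm, mul_mem (hX _) (hH _ ha)⟩
  · have e := decomp_ne g' hc
    have hc' : -((g' : Matrix (Fin 2) (Fin 2) F) 1 0)⁻¹ ≠ 0 := by simp [hc]
    have hm := MulBy.mul (X := X) (H := H) (n := n) (MulBy.mul (MulBy.mul
      (fun g => h.phi_mul_uu g ((g' : Matrix (Fin 2) (Fin 2) F) 0 0 /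
        (g' : Matrix (Fin 2) (Fin 2) F) 1 0))
      (fun g => h.phi_mul_dd g (-((g' : Matrix (Fin 2) (Fin 2) F) 1 0)⁻¹) hc'))
      (fun g => h.phi_mul_nn g))
      (fun g => h.phi_mul_uu g ((g' : Matrix (Fin 2) (Fin 2) F) 1 1 /
        (g' : Matrix (Fin 2) (Fin 2) F) 1 0))
    rw [← e] at hm
    exact ⟨_, hm, mul_mem (mul_mem (mul_mem (hX _) (hH _ hc')) hn) (hX _)⟩

/-- the homomorphism `SL₂(F) → G` -/
noncomputable def hom (h : Rel X Y H n) : Matrix.SpecialLinearGroup (Fin 2) F →* G where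
  toFun := phiFun X H n
  map_one' := h.phi_one
  map_mul' g g' := by
    obtain ⟨v, hv, -⟩ := h.exists_mulBy g'
    rw [hv g, MulBy.eq h hv]

theorem hom_uu (h : Rel X Y H n) (t : F) : h.hom (uu t) = X t :=
  MulBy.eq h (fun g => h.phi_mul_uu g t)

theorem hom_dd (h : Rel X Y H n) (s : F) (hs : s ≠ 0) : h.hom (dd s hs) = H s :=
  MulBy.eq h (fun g => h.phi_mul_dd g s hs)

theorem hom_nn (h : Rel X Y H n) : h.hom nn = n :=
  MulBy.eq h (fun g => h.phi_mul_nn g)

theorem ll_eq (t : F) : ll t = (nn : Matrix.SpecialLinearGroup (Fin 2) F)⁻¹ * uu (-t) * nn := by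
  rw [eq_comm, mul_assoc, inv_mul_eq_iff_eq_mul]
  apply Subtype.ext
  rw [Matrix.SpecialLinearGroup.coe_mul, Matrix.SpecialLinearGroup.coe_mul]
  ext i j
  fin_cases i <;> fin_cases j <;> simp [uu, ll, nn, Matrix.mul_apply, Fin.sum_univ_two]

theorem hom_ll (h : Rel X Y H n) (t : F) : h.hom (ll t) = Y t := by
  rw [ll_eq, map_mul, map_mul, map_inv, h.hom_nn, h.hom_uu, mul_assoc, inv_mul_eq_iff_eq_mul]
  exact (h.n_y t).symm

theorem hom_mem (h : Rel X Y H n) (g : Matrix.SpecialLinearGroup (Fin 2) F) :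
    h.hom g ∈ Subgroup.closure (Set.range X ∪ Set.range Y) := by
  obtain ⟨v, hv, hm⟩ := h.exists_mulBy g
  have : h.hom g = v := MulBy.eq h hv
  rw [this]
  exact hm

theorem range_hom (h : Rel X Y H n) :
    h.hom.range = Subgroup.closure (Set.range X ∪ Set.range Y) := by
  apply le_antisymm
  · rintro _ ⟨g, rfl⟩
    exact h.hom_mem g
  · rw [Subgroup.closure_le]
    rintro _ (⟨t, rfl⟩ | ⟨t, rfl⟩)
    · exact ⟨uu t, h.hom_uu t⟩
    · exact ⟨ll t, h.hom_ll t⟩

end Rel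

theorem nn_eq : (nn : Matrix.SpecialLinearGroup (Fin 2) F) = uu 1 * ll (-1) * uu 1 := by
  apply Subtype.ext
  rw [Matrix.SpecialLinearGroup.coe_mul, Matrix.SpecialLinearGroup.coe_mul]
  ext i j
  fin_cases i <;> fin_cases j <;> simp [uu, ll, nn, Matrix.mul_apply, Fin.sum_univ_two]

theorem dd_mul_nn (s : F) (hs : s ≠ 0) : dd s hs * nn = uu s * ll (-s⁻¹) * uu s := by
  apply Subtype.ext
  rw [Matrix.SpecialLinearGroup.coe_mul, Matrix.SpecialLinearGroup.coe_mul,
    Matrix.SpecialLinearGroup.coe_mul]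
  ext i j
  fin_cases i <;> fin_cases j <;> simp [uu, ll, nn, dd, Matrix.mul_apply, Fin.sum_univ_two, hs]

/-- `SL₂(F)` is generated by the unitriangular matrices -/
theorem closure_uu_ll :
    Subgroup.closure (Set.range (uu : F → Matrix.SpecialLinearGroup (Fin 2) F) ∪ Set.range ll)
      = ⊤ := by
  rw [eq_top_iff]
  intro g _
  set K := Subgroup.closure (Set.range (uu : F → Matrix.SpecialLinearGroup (Fin 2) F) ∪
    Set.range ll) with hK
  have hu : ∀ t, uu t ∈ K := fun t => Subgroup.subset_closure (Or.inl ⟨t, rfl⟩)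
  have hl : ∀ t, ll t ∈ K := fun t => Subgroup.subset_closure (Or.inr ⟨t, rfl⟩)
  have hn : (nn : Matrix.SpecialLinearGroup (Fin 2) F) ∈ K := by
    rw [nn_eq]
    exact mul_mem (mul_mem (hu _) (hl _)) (hu _)
  have hd : ∀ s (hs : s ≠ 0), dd s hs ∈ K := by
    intro s hs
    have : dd s hs = dd s hs * nn * nn⁻¹ := by group
    rw [this, dd_mul_nn]
    exact mul_mem (mul_mem (mul_mem (hu _) (hl _)) (hu _)) (inv_mem hn)
  by_cases hc : (g : Matrix (Fin 2) (Fin 2) F) 1 0 = 0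
  · obtain ⟨ha, e⟩ := decomp_zero g hc
    have := mul_mem (hu ((g : Matrix (Fin 2) (Fin 2) F) 0 0 * (g : Matrix (Fin 2) (Fin 2) F) 0 1))
      (hd _ ha)
    rwa [← e] at this
  · have e := decomp_ne g hc
    have hc' : -((g : Matrix (Fin 2) (Fin 2) F) 1 0)⁻¹ ≠ 0 := by simp [hc]
    have := mul_mem (mul_mem (mul_mem
      (hu ((g : Matrix (Fin 2) (Fin 2) F) 0 0 / (g : Matrix (Fin 2) (Fin 2) F) 1 0))
      (hd _ hc')) hn)
      (hu ((g : Matrix (Fin 2) (Fin 2) F) 1 1 / (g : Matrix (Fin 2) (Fin 2) F) 1 0))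
    rwa [← e] at this

/-- the range of a homomorphism from `SL₂(F)` -/
theorem range_eq_closure (φ : Matrix.SpecialLinearGroup (Fin 2) F →* G) :
    φ.range = Subgroup.closure (Set.range (fun t => φ (uu t)) ∪ Set.range (fun t => φ (ll t))) := by
  rw [MonoidHom.range_eq_map, ← closure_uu_ll, MonoidHom.map_closure, Set.image_union,
    ← Set.range_comp, ← Set.range_comp]
  rfl

/-- the twist `b ↦ e b`, `c ↦ e c` for a sign `e` -/
def twistFun (e : F) (he : e * e = 1) (g : Matrix.SpecialLinearGroup (Fin 2) F) :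
    Matrix.SpecialLinearGroup (Fin 2) F :=
  ⟨!![(g : Matrix (Fin 2) (Fin 2) F) 0 0, e * (g : Matrix (Fin 2) (Fin 2) F) 0 1;
    e * (g : Matrix (Fin 2) (Fin 2) F) 1 0, (g : Matrix (Fin 2) (Fin 2) F) 1 1], by
      rw [Matrix.det_fin_two_of]
      have := det_rel g
      linear_combination this - ((g : Matrix (Fin 2) (Fin 2) F) 0 1 *
        (g : Matrix (Fin 2) (Fin 2) F) 1 0) * he⟩

theorem twistFun_val (e : F) (he : e * e = 1) (g : Matrix.SpecialLinearGroup (Fin 2) F) :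
    (twistFun e he g : Matrix (Fin 2) (Fin 2) F)
      = !![(g : Matrix (Fin 2) (Fin 2) F) 0 0, e * (g : Matrix (Fin 2) (Fin 2) F) 0 1;
        e * (g : Matrix (Fin 2) (Fin 2) F) 1 0, (g : Matrix (Fin 2) (Fin 2) F) 1 1] := rfl

/-- the twist as a homomorphism -/
def twist (e : F) (he : e * e = 1) :
    Matrix.SpecialLinearGroup (Fin 2) F →* Matrix.SpecialLinearGroup (Fin 2) F where
  toFun := twistFun e he
  map_one' := by
    apply Subtype.ext
    rw [twistFun_val]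
    ext i j
    fin_cases i <;> fin_cases j <;> simp
  map_mul' g g' := by
    apply Subtype.ext
    rw [Matrix.SpecialLinearGroup.coe_mul, twistFun_val, twistFun_val, twistFun_val,
      Matrix.SpecialLinearGroup.coe_mul]
    ext i j
    fin_cases i <;> fin_cases j
    · simp [Matrix.mul_apply, Fin.sum_univ_two]
      linear_combination (-((g : Matrix (Fin 2) (Fin 2) F) 0 1 *
        (g' : Matrix (Fin 2) (Fin 2) F) 1 0)) * he
    · simp [Matrix.mul_apply, Fin.sum_univ_two]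
      ring
    · simp [Matrix.mul_apply, Fin.sum_univ_two]
      ring
    · simp [Matrix.mul_apply, Fin.sum_univ_two]
      linear_combination (-((g : Matrix (Fin 2) (Fin 2) F) 1 0 *
        (g' : Matrix (Fin 2) (Fin 2) F) 0 1)) * he

theorem twist_uu (e : F) (he : e * e = 1) (t : F) : twist e he (uu t) = uu (e * t) := by
  apply Subtype.ext
  show (twistFun e he (uu t) : Matrix (Fin 2) (Fin 2) F) = _
  rw [twistFun_val]
  ext i j
  fin_cases i <;> fin_cases j <;> simp [uu]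

theorem twist_ll (e : F) (he : e * e = 1) (t : F) : twist e he (ll t) = ll (e * t) := by
  apply Subtype.ext
  show (twistFun e he (ll t) : Matrix (Fin 2) (Fin 2) F) = _
  rw [twistFun_val]
  ext i j
  fin_cases i <;> fin_cases j <;> simp [ll]

end Cfsg.Agent.Lib.Helper5.RankOneHom
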