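import Mathlib
import Cfsg.Prelude.Def_ChevStructure
import Cfsg.Agent.Lib.Helper5.RankOneHom
import Cfsg.Agent.Lib.Helper5.ChevBnB
import Cfsg.Agent.Lib.Helper5.ChevLvl
import Cfsg.Agent.Lib.Helper5.ChevWRel
import Cfsg.Agent.Lib.Helper5.ChevCommTransport
import Cfsg.Agent.Lib.Helper5.ChevChk.BNAll

set_option autoImplicit false

/-!
The homomorphism `SL₂(F) → ⟨X_r, X_{-r}⟩` in a Chevalley group: for a fundamental root the relations
of rank one are checked, and every root is reached from a fundamental one by reflections.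
-/

namespace Cfsg.Agent.Lib.Helper5.ChevStruct

open Cfsg Cfsg.Lie Cfsg.Agent.Lib.Helper5.ChevSym Cfsg.Agent.Lib.Helper5.RankOneHom

variable {F : Type*} [Field F]

/-- `A_{p,p} = 2` -/
def checkCartanDiag (D : ChevalleyDatum) : Bool :=
  (List.range D.rank).all fun i => decide (D.cartan i (D.simple i) = 2)

theorem chkCartanDiag_all (D : ChevalleyDatum) (hD : D ∈ Seven) : checkCartanDiag D = true := by
  simp only [List.mem_cons, List.not_mem_nil, or_false] at hD
  rcases hD with rfl | rfl | rfl | rfl | rfl | rfl | rfl <;> decide +kernel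

theorem cartan_simple_self (D : ChevalleyDatum) (hD : D ∈ Seven) (i : ℕ) (hi : i < D.rank) :
    D.cartan i (D.simple i) = 2 := by
  have h := chkCartanDiag_all D hD
  unfold checkCartanDiag at h
  rw [List.all_eq_true] at h
  simpa using h i (List.mem_range.2 hi)

/-- the element `h_r(s)` of `GL` -/
def hGL (D : ChevalleyDatum) (hD : D ∈ Seven) (r : ℕ) (s : F) : GL D.Idx F :=
  wordGL D hD (D.hWord r s)

theorem hGL_val (D : ChevalleyDatum) (hD : D ∈ Seven) (r : ℕ) (s : F) :
    ((hGL D hD r s : GL D.Idx F) : Matrix D.Idx D.Idx F) = D.hMat F r s :=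
  wordGL_val D hD _

/-- `h_{-r}(s) = h_r(s⁻¹)` -/
theorem hMat_neg (D : ChevalleyDatum) (hD : D ∈ Seven) (r : ℕ) (hr : r < D.nroots) (s : F)
    (hs : s ≠ 0) : D.hMat F (D.neg r) s = D.hMat F r s⁻¹ := by
  obtain ⟨rl, hl⟩ := exists_lvlOK D hD
  rw [hMat_eq_torusMat D hD _ (neg_lt D hD r hr).1 s hs,
    hMat_eq_torusMat D hD r hr s⁻¹ (inv_ne_zero hs)]
  congr 1
  funext k
  have := hl.co_neg r hr k
  unfold co at this
  rw [this, zpow_neg, inv_zpow]

/-- the relations of rank one for a fundamental root -/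
theorem rel_simple (D : ChevalleyDatum) (hD : D ∈ Seven) (i : ℕ) (hi : i < D.rank) :
    Rel (fun t : F => xGL D hD (D.simple i) t) (fun t : F => xGL D hD (D.neg (D.simple i)) t)
      (fun s : F => hGL D hD (D.simple i) s) (nGL D hD i) := by
  have hp := simple_lt D hD i hi
  have hnp := (neg_lt D hD _ hp).1
  have hone : (fun j => if j = i then (1 : F) else 1) = fun _ => 1 := by
    funext j; simp
  have hmul : ∀ s s' : F, s ≠ 0 → s' ≠ 0 →
      hGL D hD (D.simple i) s * hGL D hD (D.simple i) s' = hGL D hD (D.simple i) (s * s') := by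
    intro s s' hs hs'
    apply Units.ext
    rw [Units.val_mul, hGL_val, hGL_val, hGL_val, hMat_simple_eq_torusMat D hD i hi s hs,
      hMat_simple_eq_torusMat D hD i hi s' hs',
      hMat_simple_eq_torusMat D hD i hi (s * s') (mul_ne_zero hs hs'), torusMat_mul]
    congr 1
    funext j
    by_cases hj : j = i
    · simp [hj]
    · simp [hj]
  have hH1 : hGL D hD (D.simple i) (1 : F) = 1 := by
    apply Units.ext
    rw [hGL_val, hMat_simple_eq_torusMat D hD i hi 1 one_ne_zero, hone, torusMat_one]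
    rfl
  have hninv : ((nGL D hD i)⁻¹ : GL D.Idx F).val = D.nMat F (D.simple i) (-1) := by
    apply val_inv_eq_of_mul_eq_one
    rw [nGL_val]
    exact nMat_mul_neg D hD _ 1
  refine ⟨?_, hmul, ?_, ?_, ?_, ?_, ?_, ?_⟩
  · intro a b
    apply Units.ext
    rw [Units.val_mul, xGL_val, xGL_val, xGL_val, x_add D hD]
  · intro s t hs
    apply Units.ext
    rw [Units.val_mul, Units.val_mul, hGL_val, xGL_val, xGL_val,
      hMat_simple_x D hD i _ hi s hs t, cartan_simple_self D hD i hi]
    norm_cast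
  · intro s hs
    apply Units.ext
    rw [Units.val_mul, Units.val_mul, hGL_val, hGL_val, nGL_val,
      nMat_simple_hMat D hD i i hi hi s hs, reflectRoot_simple, hMat_neg D hD _ hp s hs]
  · -- `n² = h(-1)`
    have e1 : hGL D hD (D.simple i) (-1 : F) = (nGL D hD i)⁻¹ * (nGL D hD i)⁻¹ := by
      apply Units.ext
      rw [Units.val_mul, hninv, hGL_val, hMat_eq]
    have e2 : hGL D hD (D.simple i) (-1 : F) * hGL D hD (D.simple i) (-1 : F) = 1 := by
      rw [hmul _ _ (by simp) (by simp)]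
      simp [hH1]
    have e3 : (nGL D hD i * nGL D hD i : GL D.Idx F) = (hGL D hD (D.simple i) (-1 : F))⁻¹ := by
      rw [e1, mul_inv_rev, inv_inv]
    rw [e3]
    exact inv_eq_of_mul_eq_one_left e2
  · intro t
    apply Units.ext
    rw [Units.val_mul, Units.val_mul, nGL_val, xGL_val, xGL_val,
      nMat_simple_conj_x D hD i _ hi hp t, reflectRoot_simple, (nMat_simple (F := F) D hD i hi).2.1]
    congr 2
    simp
  · intro t
    apply Units.ext
    rw [Units.val_mul, Units.val_mul, nGL_val, xGL_val, xGL_val,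
      nMat_simple_conj_x D hD i _ hi hnp t, reflectRoot_neg D hD i hi _ hp, reflectRoot_simple,
      (neg_lt D hD _ hp).2.2, (nMat_simple (F := F) D hD i hi).2.2.1]
    congr 2
    simp
  · intro t _
    apply Units.ext
    rw [Units.val_mul, Units.val_mul, Units.val_mul, xGL_val, xGL_val, hGL_val, nGL_val,
      ← nMat_eq, nMat_eq_hMat_mul D hD]

/-- the homomorphism `SL₂(F) → GL` attached to a root -/
theorem exists_sl2_hom (D : ChevalleyDatum) (hD : D ∈ Seven) (r : ℕ) (hr : r < D.nroots) :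
    r < D.nroots ∧ ∃ φ : Matrix.SpecialLinearGroup (Fin 2) F →* GL D.Idx F,
      (∀ t, φ (uu t) = xGL D hD r t) ∧ (∀ t, φ (ll t) = xGL D hD (D.neg r) t) := by
  refine of_checkForest D (fun r => r < D.nroots ∧
      ∃ φ : Matrix.SpecialLinearGroup (Fin 2) F →* GL D.Idx F,
        (∀ t, φ (uu t) = xGL D hD r t) ∧ (∀ t, φ (ll t) = xGL D hD (D.neg r) t))
    (forestOf D) (chkBN_all D hD).1 ?_ ?_ r hr
  · intro i hi
    exact ⟨simple_lt D hD i hi, (rel_simple D hD i hi).hom,
      fun t => (rel_simple D hD i hi).hom_uu t, fun t => (rel_simple D hD i hi).hom_ll t⟩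
  · rintro ⟨i, r'⟩ _ hi ⟨hr', φ, h1, h2⟩
    simp only at hi hr' h1 h2 ⊢
    have he : ((eta D i r' : ℤ) : F) * ((eta D i r' : ℤ) : F) = 1 :=
      eta_cast_sq D hD i hi r' hr'
    have hnr' := (neg_lt D hD r' hr').1
    refine ⟨(reflectRoot_invol D hD i hi r' hr').1,
      (MulAut.conj (nGL D hD i)).toMonoidHom.comp (φ.comp (twist _ he)), ?_, ?_⟩
    · intro t
      rw [MonoidHom.comp_apply, MonoidHom.comp_apply, twist_uu, h1]
      apply Units.ext
      rw [MulEquiv.coe_toMonoidHom, MulAut.conj_apply,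
        nGL_conj D hD i hi r' hr' _ _ rfl, xGL_val, ← mul_assoc, he, one_mul]
    · intro t
      rw [MonoidHom.comp_apply, MonoidHom.comp_apply, twist_ll, h2]
      apply Units.ext
      rw [MulEquiv.coe_toMonoidHom, MulAut.conj_apply,
        nGL_conj D hD i hi _ hnr' _ _ rfl, xGL_val, reflectRoot_neg D hD i hi r' hr',
        eta_neg D hD i hi r' hr', ← mul_assoc, he, one_mul]

theorem rootSubgroup_eq_closure_range (D : ChevalleyDatum) (hD : D ∈ Seven) (r : ℕ) :
    D.rootSubgroup F r = Subgroup.closure (Set.range fun t : F => xGL D hD r t) := by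
  unfold ChevalleyDatum.rootSubgroup
  congr 1
  ext g
  constructor
  · rintro ⟨t, ht⟩
    exact ⟨t, Units.ext ht.symm⟩
  · rintro ⟨t, rfl⟩
    exact ⟨t, rfl⟩

/-- `SL₂(F) → ⟨X_r, X_{-r}⟩` -/
theorem sl2_hom_onto_root_pair (D : ChevalleyDatum) (hD : D ∈ Seven) (r : ℕ) (hr : r < D.nroots) :
    ∃ φ : Matrix.SpecialLinearGroup (Fin 2) F →* GL D.Idx F,
      φ.range = D.rootSubgroup F r ⊔ D.rootSubgroup F (D.neg r) ∧
      ∀ (g : Matrix.SpecialLinearGroup (Fin 2) F) (t : F),
        ((g : Matrix (Fin 2) (Fin 2) F) = !![1, t; 0, 1] →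
          ((φ g : GL D.Idx F) : Matrix D.Idx D.Idx F) = D.x F r t) ∧
        ((g : Matrix (Fin 2) (Fin 2) F) = !![1, 0; t, 1] →
          ((φ g : GL D.Idx F) : Matrix D.Idx D.Idx F) = D.x F (D.neg r) t) := by
  obtain ⟨-, φ, h1, h2⟩ := exists_sl2_hom (F := F) D hD r hr
  refine ⟨φ, ?_, ?_⟩
  · have e1 : (fun t => φ (uu t)) = fun t : F => xGL D hD r t := funext h1
    have e2 : (fun t => φ (ll t)) = fun t : F => xGL D hD (D.neg r) t := funext h2
    rw [range_eq_closure, Subgroup.closure_union, rootSubgroup_eq_closure_range D hD,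
      rootSubgroup_eq_closure_range D hD, e1, e2]
  · intro g t
    constructor
    · intro hg
      have : g = uu t := Subtype.ext hg
      rw [this, h1, xGL_val]
    · intro hg
      have : g = ll t := Subtype.ext hg
      rw [this, h2, xGL_val]

end Cfsg.Agent.Lib.Helper5.ChevStruct
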