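import Mathlib
import Cfsg.Prelude.Def_ChevStructure
import Cfsg.Agent.Lib.Helper5.ChevSymCore

set_option autoImplicit false

/-!
Table checks for the perfectness of the Chevalley groups: every root `k` is a sum `r + s` with
`[x_s(u), x_r(t)] = x_k(± t u)` (or `x_k(± 2 t u)`), or the Cartan integers `A_{i,k}` allow the torus
argument.
-/

namespace Cfsg.Agent.Lib.Helper5.ChevSym

open Cfsg Cfsg.Lie

/-- `(r, s)` is a pair of roots with `commTerms r s = [(k, c, 1, 1)]`, `|c| = cabs` -/
def commWit (D : ChevalleyDatum) (cabs k r s : ℕ) : Bool :=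
  !(Nat.beq s r) && !(Nat.beq s (D.neg r)) && Nat.blt r D.nroots && Nat.blt s D.nroots &&
  match D.commTerms r s with
  | [c] => Nat.beq c.1 k && Nat.beq c.2.1.natAbs cabs && Nat.beq c.2.2.1 1 && Nat.beq c.2.2.2 1
  | _ => false

theorem commWit_spec (D : ChevalleyDatum) (cabs k r s : ℕ) (h : commWit D cabs k r s = true) :
    s ≠ r ∧ s ≠ D.neg r ∧ r < D.nroots ∧ s < D.nroots ∧
      ∃ c : ℤ, c.natAbs = cabs ∧ D.commTerms r s = [(k, c, 1, 1)] := by
  unfold commWit at h
  simp only [Bool.and_eq_true, Bool.not_eq_true', Nat.blt_eq] at h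
  obtain ⟨⟨⟨⟨h1, h2⟩, h3⟩, h4⟩, h5⟩ := h
  refine ⟨fun e => ?_, fun e => ?_, h3, h4, ?_⟩
  · rw [e] at h1
    have : Nat.beq r r = true := by rw [Nat.beq_eq]
    rw [this] at h1
    exact Bool.noConfusion h1
  · rw [e] at h2
    have : Nat.beq (D.neg r) (D.neg r) = true := by rw [Nat.beq_eq]
    rw [this] at h2
    exact Bool.noConfusion h2
  · split at h5
    · rename_i c hc
      simp only [Bool.and_eq_true] at h5
      obtain ⟨⟨⟨e1, e2⟩, e3⟩, e4⟩ := h5
      have e1 := Nat.eq_of_beq_eq_true e1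
      have e2 := Nat.eq_of_beq_eq_true e2
      have e3 := Nat.eq_of_beq_eq_true e3
      have e4 := Nat.eq_of_beq_eq_true e4
      refine ⟨c.2.1, e2, ?_⟩
      rw [hc]
      obtain ⟨c1, c2, c3, c4⟩ := c
      simp only at e1 e3 e4
      rw [e1, e3, e4]
    · exact Bool.noConfusion h5

/-- the `n`-th entry of a list of pairs -/
def nthPair : List (ℕ × ℕ) → ℕ → ℕ × ℕ
  | [], _ => (0, 0)
  | a :: _, 0 => a
  | _ :: l, n + 1 => nthPair l n

/-- every root has a commutator witness with `|c| = 1` in the table -/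
def checkPerf (D : ChevalleyDatum) (tab : List (ℕ × ℕ)) : Bool :=
  (List.range D.nroots).all fun k =>
    canon (fun k => canon (fun r => canon (fun s => commWit D 1 k r s) (nthPair tab k).2)
      (nthPair tab k).1) k

theorem checkPerf_spec (D : ChevalleyDatum) (tab : List (ℕ × ℕ)) (h : checkPerf D tab = true)
    (k : ℕ) (hk : k < D.nroots) : ∃ r s, commWit D 1 k r s = true := by
  unfold checkPerf at h
  rw [List.all_eq_true] at h
  have := h k (List.mem_range.2 hk)
  rw [canon_eq, canon_eq, canon_eq] at this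
  exact ⟨_, _, this⟩

/-- some `|A_{i,k}|` equals `m` -/
def hasCartan (D : ChevalleyDatum) (k m : ℕ) : Bool :=
  (List.range D.rank).any fun i => Nat.beq (D.cartan i k).natAbs m

theorem hasCartan_spec (D : ChevalleyDatum) (k m : ℕ) (h : hasCartan D k m = true) :
    ∃ i < D.rank, (D.cartan i k).natAbs = m := by
  unfold hasCartan at h
  rw [List.any_eq_true] at h
  obtain ⟨i, hi, h⟩ := h
  exact ⟨i, List.mem_range.1 hi, Nat.eq_of_beq_eq_true h⟩

/-- for the rank two types: torus argument, or a commutator witness with `|c| = 2` -/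
def checkPerf2 (D : ChevalleyDatum) (tab : List (ℕ × ℕ)) : Bool :=
  (List.range D.nroots).all fun k =>
    canon (fun k => hasCartan D k 1 || (hasCartan D k 2 && hasCartan D k 3) ||
      (hasCartan D k 2 && commWit D 2 k (nthPair tab k).1 (nthPair tab k).2)) k

theorem checkPerf2_spec (D : ChevalleyDatum) (tab : List (ℕ × ℕ)) (h : checkPerf2 D tab = true)
    (k : ℕ) (hk : k < D.nroots) :
    (∃ i < D.rank, (D.cartan i k).natAbs = 1) ∨
    ((∃ i < D.rank, (D.cartan i k).natAbs = 2) ∧ (∃ i < D.rank, (D.cartan i k).natAbs = 3)) ∨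
    ((∃ i < D.rank, (D.cartan i k).natAbs = 2) ∧ ∃ r s, commWit D 2 k r s = true) := by
  unfold checkPerf2 at h
  rw [List.all_eq_true] at h
  have := h k (List.mem_range.2 hk)
  rw [canon_eq] at this
  simp only [Bool.or_eq_true, Bool.and_eq_true] at this
  rcases this with (h1 | h1) | h1
  · exact Or.inl (hasCartan_spec D k 1 h1)
  · exact Or.inr (Or.inl ⟨hasCartan_spec D k 2 h1.1, hasCartan_spec D k 3 h1.2⟩)
  · exact Or.inr (Or.inr ⟨hasCartan_spec D k 2 h1.1, _, _, h1.2⟩)

end Cfsg.Agent.Lib.Helper5.ChevSym
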