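import Mathlib
import Cfsg.Prelude.Def_ChevStructure
import Cfsg.Agent.Lib.Helper5.ChevComm
import Cfsg.Agent.Lib.Helper5.ChevChk.PerfAll
import Cfsg.Agent.Lib.Helper5.ChevTorusAct
import Cfsg.Agent.Lib.Helper5.ChevNormal
import Cfsg.Agent.Lib.Helper5.ChevGen
import Cfsg.Agent.Lib.Helper5.ChevChk.AddAll

set_option autoImplicit false

/-!
The Chevalley groups are perfect (except `G₂(2)` and `B₂(2)`).
-/

namespace Cfsg.Agent.Lib.Helper5.ChevStruct

open Cfsg Cfsg.Lie Cfsg.Agent.Lib.Helper5.ChevSym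
open scoped commutatorElement

variable {F : Type*} [Field F]

/-- a subgroup contained in its own derived subgroup is perfect -/
theorem commutator_subtype_eq_top {G : Type*} [Group G] (H : Subgroup G) (h : H ≤ ⁅H, H⁆) :
    commutator ↥H = ⊤ := by
  rw [eq_top_iff]
  intro x _
  have hx : (x : G) ∈ ⁅H, H⁆ := h x.2
  have e : ⁅H, H⁆ = (commutator ↥H).map H.subtype := by
    rw [commutator_def, Subgroup.map_commutator, ← MonoidHom.range_eq_map, Subgroup.range_subtype]
  rw [e] at hx
  obtain ⟨y, hy, hyx⟩ := hx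
  have : y = x := Subtype.ext hyx
  rw [← this]
  exact hy

/-- a root element obtained as a commutator of two root elements -/
theorem x_mem_comm_of_wit (D : ChevalleyDatum) (hD : D ∈ Seven) (k r s : ℕ) (c : ℤ)
    (hr : r < D.nroots) (hs : s < D.nroots) (hsr : s ≠ r) (hsn : s ≠ D.neg r)
    (hterms : D.commTerms r s = [(k, c, 1, 1)]) (hc : (c : F) ≠ 0) (t : F) :
    xGL D hD k t ∈ ⁅D.group F, D.group F⁆ := by
  have hform := comm_formula D hD r s hr hs hsr hsn (-((c : F)⁻¹ * t)) 1
  have hw : D.commWord F r s (-((c : F)⁻¹ * t)) 1 = [(k, t)] := by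
    unfold ChevalleyDatum.commWord
    rw [hterms]
    simp only [List.map_cons, List.map_nil, neg_neg, pow_one, mul_one]
    rw [← mul_assoc, mul_inv_cancel₀ hc, one_mul]
  rw [hw, wordMat_single] at hform
  have e : xGL D hD k t = ⁅(xGL D hD s (1 : F))⁻¹, (xGL D hD r (-((c : F)⁻¹ * t)))⁻¹⁆ := by
    rw [commutatorElement_def, inv_inv, inv_inv]
    have e' : xGL D hD s (1 : F) * xGL D hD r (-((c : F)⁻¹ * t))
        = xGL D hD r (-((c : F)⁻¹ * t)) * xGL D hD s 1 * xGL D hD k t := by
      apply Units.ext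
      rw [Units.val_mul, Units.val_mul, Units.val_mul, xGL_val, xGL_val, xGL_val]
      exact hform
    calc xGL D hD k t
        = (xGL D hD s (1 : F))⁻¹ * (xGL D hD r (-((c : F)⁻¹ * t)))⁻¹ *
            (xGL D hD r (-((c : F)⁻¹ * t)) * xGL D hD s 1 * xGL D hD k t) := by group
      _ = _ := by rw [← e']; group
  rw [e]
  exact Subgroup.commutator_mem_commutator (inv_mem (xGL_mem_group D hD _ _))
    (inv_mem (xGL_mem_group D hD _ _))

/-- a root element obtained as a commutator with a torus element -/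
theorem x_mem_comm_of_torus (D : ChevalleyDatum) (hD : D ∈ Seven) (i k : ℕ) (hi : i < D.rank)
    (lam : F) (hl : lam ≠ 0) (hne : lam ^ (D.cartan i k) ≠ 1) (t : F) :
    xGL D hD k t ∈ ⁅D.group F, D.group F⁆ := by
  set h : GL D.Idx F := wordGL D hD (D.hWord (D.simple i) lam) with hdef
  have hval : (h : Matrix D.Idx D.Idx F) = D.hMat F (D.simple i) lam := by
    rw [hdef, wordGL_val]
    rfl
  have hmem : h ∈ D.group F := wordGL_mem_group D hD _
  have hd : lam ^ (D.cartan i k) - 1 ≠ 0 := sub_ne_zero.2 hne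
  set t' : F := (lam ^ (D.cartan i k) - 1)⁻¹ * t with ht'
  have hconj : h * xGL D hD k t' = xGL D hD k (lam ^ (D.cartan i k) * t') * h := by
    apply Units.ext
    rw [Units.val_mul, Units.val_mul, xGL_val, xGL_val, hval]
    exact hMat_simple_x D hD i k hi lam hl t'
  have e : xGL D hD k t = ⁅h, xGL D hD k t'⁆ := by
    rw [commutatorElement_def, hconj]
    have e1 : (xGL D hD k t')⁻¹ = xGL D hD k (-t') := by
      apply Units.ext
      rw [xGL_val]
      apply val_inv_eq_of_mul_eq_one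
      rw [xGL_val]
      exact x_mul_neg D hD k t'
    have e2 : xGL D hD k (lam ^ (D.cartan i k) * t') * xGL D hD k (-t') = xGL D hD k t := by
      apply Units.ext
      rw [Units.val_mul, xGL_val, xGL_val, xGL_val, x_add D hD]
      congr 1
      rw [ht']
      have : lam ^ (D.cartan i k) * ((lam ^ (D.cartan i k) - 1)⁻¹ * t) +
          -((lam ^ (D.cartan i k) - 1)⁻¹ * t)
          = ((lam ^ (D.cartan i k) - 1) * (lam ^ (D.cartan i k) - 1)⁻¹) * t := by ring
      rw [this, mul_inv_cancel₀ hd, one_mul]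
    rw [e1, mul_assoc (xGL D hD k (lam ^ (D.cartan i k) * t')), mul_inv_cancel, mul_one, e2]
  rw [e]
  exact Subgroup.commutator_mem_commutator hmem (xGL_mem_group D hD _ _)

theorem group_le_commutator (D : ChevalleyDatum) (hD : D ∈ Seven)
    (hx : ∀ k < D.nroots, ∀ t : F, xGL D hD k t ∈ ⁅D.group F, D.group F⁆) :
    D.group F ≤ ⁅D.group F, D.group F⁆ := by
  unfold ChevalleyDatum.group
  rw [Subgroup.closure_le]
  rintro g ⟨r, t, hg⟩
  have : g = xGL D hD r.val t := by
    apply Units.ext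
    rw [hg, xGL_val]
    unfold ChevalleyDatum.x
    rw [dif_pos r.2]
  rw [this]
  exact hx r.val r.2 t

theorem zpow_ne_one_of_natAbs (a : F) (A : ℤ) (m : ℕ) (hA : A.natAbs = m) (h : a ^ m ≠ 1) :
    a ^ A ≠ 1 := by
  rcases Int.natAbs_eq A with e | e
  · rw [e, hA, zpow_natCast]
    exact h
  · rw [e, hA, zpow_neg, zpow_natCast]
    intro h'
    exact h (inv_eq_one.1 h')

theorem intCast_ne_zero_of_natAbs (c : ℤ) (m : ℕ) (hc : c.natAbs = m) (h : (m : F) ≠ 0) :
    (c : F) ≠ 0 := by
  rcases Int.natAbs_eq c with e | e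
  · rw [e, hc, Int.cast_natCast]
    exact h
  · rw [e, hc, Int.cast_neg, Int.cast_natCast]
    exact neg_ne_zero.2 h

/-- perfectness for the types with all commutator witnesses of coefficient `±1` -/
theorem perfect_of_checkPerf (D : ChevalleyDatum) (hD : D ∈ Seven) (tab : List (ℕ × ℕ))
    (h : checkPerf D tab = true) : D.group F ≤ ⁅D.group F, D.group F⁆ := by
  apply group_le_commutator D hD
  intro k hk t
  obtain ⟨r, s, hw⟩ := checkPerf_spec D tab h k hk
  obtain ⟨hsr, hsn, hr, hs, c, hc, hterms⟩ := commWit_spec D 1 k r s hw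
  apply x_mem_comm_of_wit D hD k r s c hr hs hsr hsn hterms
  apply intCast_ne_zero_of_natAbs c 1 hc
  simp

/-- perfectness for the rank two types over fields with more than two elements -/
theorem perfect_of_checkPerf2 (D : ChevalleyDatum) (hD : D ∈ Seven) (tab : List (ℕ × ℕ))
    (h : checkPerf2 D tab = true) (a : F) (ha0 : a ≠ 0) (ha1 : a ≠ 1) :
    D.group F ≤ ⁅D.group F, D.group F⁆ := by
  apply group_le_commutator D hD
  intro k hk t
  rcases checkPerf2_spec D tab h k hk with ⟨i, hi, hA⟩ | ⟨⟨i, hi, hA⟩, ⟨j, hj, hB⟩⟩ |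
    ⟨⟨i, hi, hA⟩, r, s, hw⟩
  · apply x_mem_comm_of_torus D hD i k hi a ha0 _ t
    apply zpow_ne_one_of_natAbs a _ 1 hA
    rwa [pow_one]
  · by_cases h2 : a ^ 2 = 1
    · apply x_mem_comm_of_torus D hD j k hj a ha0 _ t
      apply zpow_ne_one_of_natAbs a _ 3 hB
      rw [pow_succ, h2, one_mul]
      exact ha1
    · apply x_mem_comm_of_torus D hD i k hi a ha0 _ t
      exact zpow_ne_one_of_natAbs a _ 2 hA h2
  · by_cases h2 : a ^ 2 = 1
    · obtain ⟨hsr, hsn, hr, hs, c, hc, hterms⟩ := commWit_spec D 2 k r s hw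
      apply x_mem_comm_of_wit D hD k r s c hr hs hsr hsn hterms
      apply intCast_ne_zero_of_natAbs c 2 hc
      -- `a = -1 ≠ 1`, so `2 ≠ 0`
      intro h20
      have h20' : (2 : F) = 0 := by exact_mod_cast h20
      have : (a - 1) * (a + 1) = 0 := by ring_nf; rw [h2]; ring
      rcases mul_eq_zero.1 this with h3 | h3
      · exact ha1 (sub_eq_zero.1 h3)
      · apply ha1
        have : a = -1 := eq_neg_of_add_eq_zero_left h3
        rw [this]
        linear_combination (-1 : F) * h20'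
    · apply x_mem_comm_of_torus D hD i k hi a ha0 _ t
      exact zpow_ne_one_of_natAbs a _ 2 hA h2

/-- the Chevalley groups are perfect -/
theorem group_perfect (D : ChevalleyDatum) (hD : D ∈ Seven)
    (h2 : D = chevG2 ∨ D = chevB2 → ∃ a : F, a ≠ 0 ∧ a ≠ 1) :
    commutator ↥(D.group F) = ⊤ := by
  apply commutator_subtype_eq_top
  have hD' := hD
  simp only [Seven, List.mem_cons, List.not_mem_nil, or_false] at hD
  rcases hD with rfl | rfl | rfl | rfl | rfl | rfl | rfl
  · obtain ⟨a, ha0, ha1⟩ := h2 (Or.inl rfl)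
    exact perfect_of_checkPerf2 chevG2 hD' _ chkPerf_G2 a ha0 ha1
  · obtain ⟨a, ha0, ha1⟩ := h2 (Or.inr rfl)
    exact perfect_of_checkPerf2 chevB2 hD' _ chkPerf_B2 a ha0 ha1
  · exact perfect_of_checkPerf chevD4 hD' _ chkPerf_D4
  · exact perfect_of_checkPerf chevF4 hD' _ chkPerf_F4
  · exact perfect_of_checkPerf chevE6 hD' _ chkPerf_E6
  · exact perfect_of_checkPerf chevE7 hD' _ chkPerf_E7
  · exact perfect_of_checkPerf chevE8 hD' _ chkPerf_E8

end Cfsg.Agent.Lib.Helper5.ChevStruct
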