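import Mathlib
import Cfsg.Prelude.Def_ChevStructure
import Cfsg.Agent.Lib.Helper5.ChevPerfect
import Cfsg.Agent.Lib.Helper5.ChevW0

set_option autoImplicit false

/-!
Tools for the perfectness of the twisted groups: root elements as commutators inside a subgroup.
-/

namespace Cfsg.Agent.Lib.Helper5.ChevStruct

open Cfsg Cfsg.Lie Cfsg.Agent.Lib.Helper5.ChevSym
open scoped commutatorElement

variable {K : Type*} [Field K]

/-- a root element obtained as a commutator of two root elements of a subgroup -/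
theorem x_mem_comm_of_wit' (D : ChevalleyDatum) (hD : D ∈ Seven) (G1 : Subgroup (GL D.Idx K))
    (k r s : ℕ) (c : ℤ)
    (hr : r < D.nroots) (hs : s < D.nroots) (hsr : s ≠ r) (hsn : s ≠ D.neg r)
    (hterms : D.commTerms r s = [(k, c, 1, 1)]) (hc : (c : K) ≠ 0) (t : K)
    (h1 : xGL D hD s (1 : K) ∈ G1) (h2 : xGL D hD r (-((c : K)⁻¹ * t)) ∈ G1) :
    xGL D hD k t ∈ ⁅G1, G1⁆ := by
  have hform := comm_formula D hD r s hr hs hsr hsn (-((c : K)⁻¹ * t)) 1
  have hw : D.commWord K r s (-((c : K)⁻¹ * t)) 1 = [(k, t)] := by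
    unfold ChevalleyDatum.commWord
    rw [hterms]
    simp only [List.map_cons, List.map_nil, neg_neg, pow_one, mul_one]
    rw [← mul_assoc, mul_inv_cancel₀ hc, one_mul]
  rw [hw, wordMat_single] at hform
  have e : xGL D hD k t = ⁅(xGL D hD s (1 : K))⁻¹, (xGL D hD r (-((c : K)⁻¹ * t)))⁻¹⁆ := by
    rw [commutatorElement_def, inv_inv, inv_inv]
    have e' : xGL D hD s (1 : K) * xGL D hD r (-((c : K)⁻¹ * t))
        = xGL D hD r (-((c : K)⁻¹ * t)) * xGL D hD s 1 * xGL D hD k t := by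
      apply Units.ext
      rw [Units.val_mul, Units.val_mul, Units.val_mul, xGL_val, xGL_val, xGL_val]
      exact hform
    calc xGL D hD k t
        = (xGL D hD s (1 : K))⁻¹ * (xGL D hD r (-((c : K)⁻¹ * t)))⁻¹ *
            (xGL D hD r (-((c : K)⁻¹ * t)) * xGL D hD s 1 * xGL D hD k t) := by group
      _ = _ := by rw [← e']; group
  rw [e]
  exact Subgroup.commutator_mem_commutator (inv_mem h1) (inv_mem h2)

/-- the root elements with parameter in a subset stable under negation, conjugated by `n_w` -/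
theorem xGL_wAct_mem (D : ChevalleyDatum) (hD : D ∈ Seven) (G1 : Subgroup (GL D.Idx K))
    (A : Set K) (hA : ∀ t ∈ A, -t ∈ A) (w : List ℕ) (hw : ∀ i ∈ w, i < D.rank) (hwG : wGL D hD w ∈ G1)
    (r : ℕ) (hr : r < D.nroots) (h : ∀ t ∈ A, xGL D hD r t ∈ G1) :
    ∀ t ∈ A, xGL D hD (wAct D w r) t ∈ G1 := by
  intro t ht
  obtain ⟨ε, hε, hconj⟩ := wGL_conj (F := K) D hD w hw r hr
  have hεt : ε * t ∈ A := by
    rcases hε with h1 | h1
    · rw [h1, one_mul]; exact ht
    · rw [h1, neg_one_mul]; exact hA t ht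
  have hεε : ε * (ε * t) = t := by
    rcases hε with h1 | h1 <;> rw [h1] <;> simp
  have hval := hconj (ε * t) (xGL D hD r (ε * t)) rfl
  rw [hεε] at hval
  have e : xGL D hD (wAct D w r) t = wGL D hD w * xGL D hD r (ε * t) * (wGL D hD w)⁻¹ := by
    apply Units.ext
    rw [hval, xGL_val]
  rw [e]
  exact mul_mem (mul_mem hwG (h _ hεt)) (inv_mem hwG)

/-- a one-parameter subgroup normalised by an element acting by a non-trivial scalar lies in the
derived subgroup -/
theorem additive_mem_comm {G : Type*} [Group G] (G1 : Subgroup G) (g : K → G)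
    (hadd : ∀ a b, g (a + b) = g a * g b) (hg : ∀ t, g t ∈ G1) (h : G) (hh : h ∈ G1) (μ : K)
    (hμ : μ ≠ 1) (hconj : ∀ t, h * g t * h⁻¹ = g (μ * t)) (t : K) : g t ∈ ⁅G1, G1⁆ := by
  have hd : μ - 1 ≠ 0 := sub_ne_zero.2 hμ
  have h0 : g 0 = 1 := by
    have := hadd 0 0
    rw [add_zero] at this
    have h1 : g 0 * 1 = g 0 * g 0 := by rw [mul_one]; exact this
    exact (mul_left_cancel h1).symm
  have hneg : ∀ a, g (-a) = (g a)⁻¹ := by
    intro a
    have := hadd a (-a)
    rw [add_neg_cancel, h0] at this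
    exact eq_inv_of_mul_eq_one_right this.symm
  set t' : K := (μ - 1)⁻¹ * t with ht'
  have e : g t = ⁅h, g t'⁆ := by
    rw [commutatorElement_def, hconj, ← hneg, ← hadd]
    congr 1
    rw [ht']
    have : μ * ((μ - 1)⁻¹ * t) + -((μ - 1)⁻¹ * t) = ((μ - 1) * (μ - 1)⁻¹) * t := by ring
    rw [this, mul_inv_cancel₀ hd, one_mul]
  rw [e]
  exact Subgroup.commutator_mem_commutator hh (hg t')

end Cfsg.Agent.Lib.Helper5.ChevStruct
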