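import Mathlib
import Cfsg.Prelude.Def_ChevStructure
import Cfsg.Agent.Lib.Helper5.ChevTwistPerf
import Cfsg.Agent.Lib.Helper5.ChevTwistH
import Cfsg.Agent.Lib.Helper5.ChevTorusAct

set_option autoImplicit false

/-!
Perfectness of the twisted groups: the generators attached to an orbit of pairwise orthogonal
fundamental roots are commutators of a torus element with such a generator.
-/

namespace Cfsg.Agent.Lib.Helper5.ChevStruct

open Cfsg Cfsg.Lie Cfsg.Agent.Lib.Helper5.ChevSym
open scoped commutatorElement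

variable {K : Type*} [Field K]

theorem xGL_add (D : ChevalleyDatum) (hD : D ∈ Seven) (r : ℕ) (a b : K) :
    xGL D hD r (a + b) = xGL D hD r a * xGL D hD r b := by
  apply Units.ext
  rw [Units.val_mul, xGL_val, xGL_val, xGL_val, x_add D hD]

/-- the element `h_J(u)` -/
def hProd (D : ChevalleyDatum) (hD : D ∈ Seven) (J : List ℕ) (u : ℕ → K) : GL D.Idx K :=
  (J.map fun i => wordGL D hD (D.hWord (D.simple i) (u i))).prod

theorem hGL_mul_x (D : ChevalleyDatum) (hD : D ∈ Seven) (i : ℕ) (hi : i < D.rank) (c : K)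
    (hc : c ≠ 0) (r : ℕ) (t : K) :
    wordGL D hD (D.hWord (D.simple i) c) * xGL D hD r t
      = xGL D hD r (c ^ (D.cartan i r) * t) * wordGL D hD (D.hWord (D.simple i) c) := by
  apply Units.ext
  rw [Units.val_mul, Units.val_mul, wordGL_val, xGL_val, xGL_val]
  exact hMat_simple_x D hD i r hi c hc t

theorem hProd_cons (D : ChevalleyDatum) (hD : D ∈ Seven) (i : ℕ) (J : List ℕ) (u : ℕ → K) :
    hProd D hD (i :: J) u = wordGL D hD (D.hWord (D.simple i) (u i)) * hProd D hD J u := by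
  unfold hProd
  rw [List.map_cons, List.prod_cons]

theorem hProd_mul_x (D : ChevalleyDatum) (hD : D ∈ Seven) (J : List ℕ)
    (hJ : ∀ i ∈ J, i < D.rank) (u : ℕ → K) (hu : ∀ i ∈ J, u i ≠ 0) (r : ℕ) (t : K) :
    hProd D hD J u * xGL D hD r t
      = xGL D hD r ((J.map fun i => (u i) ^ (D.cartan i r)).prod * t) * hProd D hD J u := by
  induction J generalizing t with
  | nil => simp [hProd]
  | cons i J ih =>
    have hi := hJ i (List.mem_cons_self ..)
    have e : ((i :: J).map fun i => (u i) ^ (D.cartan i r)).prod * t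
        = (u i) ^ (D.cartan i r) * ((J.map fun i => (u i) ^ (D.cartan i r)).prod * t) := by
      rw [List.map_cons, List.prod_cons, mul_assoc]
    rw [e, hProd_cons, mul_assoc,
      ih (fun j hj => hJ j (List.mem_cons_of_mem _ hj)) (fun j hj => hu j (List.mem_cons_of_mem _ hj)),
      ← mul_assoc, hGL_mul_x D hD i hi (u i) (hu i (List.mem_cons_self ..)), mul_assoc]

theorem hProd_mul_word (D : ChevalleyDatum) (hD : D ∈ Seven) (J : List ℕ)
    (hJ : ∀ i ∈ J, i < D.rank) (u : ℕ → K) (hu : ∀ i ∈ J, u i ≠ 0) (L : List ℕ) (ρ : ℕ → ℕ)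
    (s : ℕ → K) :
    hProd D hD J u * wordGL D hD (L.map fun i => (ρ i, s i))
      = wordGL D hD (L.map fun i =>
          (ρ i, (J.map fun j => (u j) ^ (D.cartan j (ρ i))).prod * s i)) * hProd D hD J u := by
  induction L with
  | nil => simp [wordGL]
  | cons i L ih =>
    rw [List.map_cons, List.map_cons, wordGL_cons', wordGL_cons', ← mul_assoc,
      hProd_mul_x D hD J hJ u hu, mul_assoc, ih, ← mul_assoc]

/-- additivity of a word in pairwise commuting root elements -/
theorem word_add (D : ChevalleyDatum) (hD : D ∈ Seven) (L : List ℕ) (ρ : ℕ → ℕ)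
    (hp : L.Pairwise fun i j => commOK D (ρ i) (ρ j) = true) (s s' : ℕ → K) :
    wordGL D hD (L.map fun i => (ρ i, s i + s' i))
      = wordGL D hD (L.map fun i => (ρ i, s i)) * wordGL D hD (L.map fun i => (ρ i, s' i)) := by
  induction L with
  | nil => simp [wordGL]
  | cons i L ih =>
    rw [List.pairwise_cons] at hp
    rw [List.map_cons, List.map_cons, List.map_cons, wordGL_cons', wordGL_cons', wordGL_cons',
      ih hp.2]
    show xGL D hD (ρ i) (s i + s' i) * _ = xGL D hD (ρ i) (s i) * _ * (xGL D hD (ρ i) (s' i) * _)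
    rw [xGL_add]
    have hc : Commute (xGL D hD (ρ i) (s' i)) (wordGL D hD (L.map fun j => (ρ j, s j))) := by
      apply commute_wordGL
      intro p hp'
      rw [List.mem_map] at hp'
      obtain ⟨j, hj, rfl⟩ := hp'
      exact xGL_commute D hD _ _ (hp.1 j hj) _ _
    set a := xGL D hD (ρ i) (s i)
    set b := xGL D hD (ρ i) (s' i)
    set A := wordGL D hD (L.map fun j => (ρ j, s j))
    set B := wordGL D hD (L.map fun j => (ρ j, s' j))
    calc a * b * (A * B) = a * (b * A) * B := by group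
      _ = a * (A * b) * B := by rw [hc.eq]
      _ = a * A * (b * B) := by group

theorem pairwise_of_checkOrth (D : ChevalleyDatum) (J : List ℕ) (hJ : checkOrth D J = true)
    (hnd : J.Nodup) :
    J.Pairwise (fun i j => commOK D (D.simple i) (D.simple j) = true) ∧
    J.Pairwise (fun i j => commOK D (D.neg (D.simple i)) (D.neg (D.simple j)) = true) := by
  induction J with
  | nil => exact ⟨List.Pairwise.nil, List.Pairwise.nil⟩
  | cons i J ih =>
    have h := checkOrth_head D i J hJ hnd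
    obtain ⟨h1, h2⟩ := ih (checkOrth_tail D i J hJ) (List.nodup_cons.1 hnd).2
    exact ⟨List.pairwise_cons.2 ⟨fun j hj => (h j hj).1, h1⟩,
      List.pairwise_cons.2 ⟨fun j hj => (h j hj).2.2.2, h2⟩⟩

/-- `h_J(u)` lies in a subgroup containing the root elements of the orbit `J` -/
theorem hProd_mem (D : ChevalleyDatum) (hD : D ∈ Seven) (G1 : Subgroup (GL D.Idx K))
    (f : K →+* K) (ρN : ℕ → ℕ) (J : List ℕ)
    (horth : checkOrth D J = true) (hnd : J.Nodup)
    (hgen : ∀ s : ℕ → K, (∀ i ∈ J, s (ρN i) = f (s i)) →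
      wordGL D hD (J.map fun i => (D.simple i, s i)) ∈ G1 ∧
      wordGL D hD (J.map fun i => (D.neg (D.simple i), s i)) ∈ G1)
    (u : ℕ → K) (huc : ∀ i ∈ J, u (ρN i) = f (u i)) : hProd D hD J u ∈ G1 := by
  unfold hProd
  rw [hprod_orth D hD J horth hnd, nprod_orth D hD J horth hnd, nprod_orth D hD J horth hnd]
  have g1 := hgen u huc
  have g2 := hgen (fun i => -(u i)⁻¹) (by
    intro i hi
    show -(u (ρN i))⁻¹ = f (-(u i)⁻¹)
    rw [huc i hi, map_neg, map_inv₀])
  have g3 := hgen (fun _ => (-1 : K)) (by intro i _; simp)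
  have g4 := hgen (fun _ => (1 : K)) (by intro i _; simp)
  have e4 : (J.map fun i => (D.neg (D.simple i), -(-1 : K)⁻¹))
      = J.map fun i => (D.neg (D.simple i), (1 : K)) := by
    apply List.map_congr_left
    intro i _
    simp
  rw [e4]
  exact mul_mem (mul_mem (mul_mem g1.1 g2.2) g1.1) (mul_mem (mul_mem g3.1 g4.2) g3.1)

theorem prod_map_single (J : List ℕ) (hnd : J.Nodup) (i : ℕ) (hi : i ∈ J) (F : ℕ → K)
    (hF : ∀ j ∈ J, j ≠ i → F j = 1) : (J.map F).prod = F i := by
  induction J with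
  | nil => simp at hi
  | cons a J ih =>
    rw [List.map_cons, List.prod_cons]
    rw [List.nodup_cons] at hnd
    rcases List.mem_cons.1 hi with h | hi'
    · subst h
      have : (J.map F).prod = 1 := by
        apply List.prod_eq_one
        intro x hx
        rw [List.mem_map] at hx
        obtain ⟨j, hj, rfl⟩ := hx
        exact hF j (List.mem_cons_of_mem _ hj) (by rintro rfl; exact hnd.1 hj)
      rw [this, mul_one]
    · rw [ih hnd.2 hi' (fun j hj hne => hF j (List.mem_cons_of_mem _ hj) hne),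
        hF a (List.mem_cons_self ..) (by rintro rfl; exact hnd.1 hi'), one_mul]

/-- the core computation: `g(s) = [h_J(u), g(s')]` -/
theorem orbit_comm_core (D : ChevalleyDatum) (hD : D ∈ Seven) (G1 : Subgroup (GL D.Idx K))
    (J : List ℕ) (hJlt : ∀ i ∈ J, i < D.rank) (hnd : J.Nodup) (ρ : ℕ → ℕ) (e : ℤ)
    (hcart : ∀ i ∈ J, ∀ j ∈ J, D.cartan j (ρ i) = if j = i then e else 0)
    (hpw : J.Pairwise fun i j => commOK D (ρ i) (ρ j) = true)
    (u : ℕ → K) (hu0 : ∀ i ∈ J, u i ≠ 0) (hue : ∀ i ∈ J, u i ^ e ≠ 1)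
    (hh : hProd D hD J u ∈ G1) (s : ℕ → K)
    (hmem : wordGL D hD (J.map fun i => (ρ i, (u i ^ e - 1)⁻¹ * s i)) ∈ G1) :
    wordGL D hD (J.map fun i => (ρ i, s i)) ∈ ⁅G1, G1⁆ := by
  have hP : ∀ i ∈ J, (J.map fun j => (u j) ^ (D.cartan j (ρ i))).prod = u i ^ e := by
    intro i hi
    rw [prod_map_single J hnd i hi (fun j => (u j) ^ (D.cartan j (ρ i))) (by
      intro j hj hne
      show (u j) ^ (D.cartan j (ρ i)) = 1
      rw [hcart i hi j hj, if_neg hne, zpow_zero])]
    show (u i) ^ (D.cartan i (ρ i)) = _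
    rw [hcart i hi i hi, if_pos rfl]
  have hconj : hProd D hD J u * wordGL D hD (J.map fun i => (ρ i, (u i ^ e - 1)⁻¹ * s i))
      = wordGL D hD (J.map fun i => (ρ i, u i ^ e * ((u i ^ e - 1)⁻¹ * s i))) * hProd D hD J u := by
    rw [hProd_mul_word D hD J hJlt u hu0 J ρ (fun i => (u i ^ e - 1)⁻¹ * s i)]
    congr 2
    apply List.map_congr_left
    intro i hi
    rw [hP i hi]
  have hsum : wordGL D hD (J.map fun i => (ρ i, u i ^ e * ((u i ^ e - 1)⁻¹ * s i)))
      = wordGL D hD (J.map fun i => (ρ i, s i)) *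
        wordGL D hD (J.map fun i => (ρ i, (u i ^ e - 1)⁻¹ * s i)) := by
    rw [← word_add D hD J ρ hpw s (fun i => (u i ^ e - 1)⁻¹ * s i)]
    congr 1
    apply List.map_congr_left
    intro i hi
    have hd : u i ^ e - 1 ≠ 0 := sub_ne_zero.2 (hue i hi)
    have : u i ^ e * ((u i ^ e - 1)⁻¹ * s i) = s i + (u i ^ e - 1)⁻¹ * s i := by
      field_simp
      ring
    rw [this]
  have key : wordGL D hD (J.map fun i => (ρ i, s i))
      = ⁅hProd D hD J u, wordGL D hD (J.map fun i => (ρ i, (u i ^ e - 1)⁻¹ * s i))⁆ := by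
    rw [commutatorElement_def, hconj, hsum]
    group
  rw [key]
  exact Subgroup.commutator_mem_commutator hh hmem

/-- the generators attached to an orbit of orthogonal fundamental roots are commutators -/
theorem orbit_mem_comm (D : ChevalleyDatum) (hD : D ∈ Seven) (G1 : Subgroup (GL D.Idx K))
    (f : K →+* K) (ρN : ℕ → ℕ) (J : List ℕ) (hJlt : ∀ i ∈ J, i < D.rank)
    (horth : checkOrth D J = true) (hnd : J.Nodup)
    (hcart : ∀ i ∈ J, ∀ j ∈ J, D.cartan j (D.simple i) = if j = i then 2 else 0)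
    (hcartn : ∀ i ∈ J, ∀ j ∈ J, D.cartan j (D.neg (D.simple i)) = if j = i then -2 else 0)
    (hgen : ∀ s : ℕ → K, (∀ i ∈ J, s (ρN i) = f (s i)) →
      wordGL D hD (J.map fun i => (D.simple i, s i)) ∈ G1 ∧
      wordGL D hD (J.map fun i => (D.neg (D.simple i), s i)) ∈ G1)
    (u : ℕ → K) (hu0 : ∀ i ∈ J, u i ≠ 0) (hu2 : ∀ i ∈ J, u i ^ 2 ≠ 1)
    (huc : ∀ i ∈ J, u (ρN i) = f (u i))
    (s : ℕ → K) (hs : ∀ i ∈ J, s (ρN i) = f (s i)) :
    wordGL D hD (J.map fun i => (D.simple i, s i)) ∈ ⁅G1, G1⁆ ∧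
    wordGL D hD (J.map fun i => (D.neg (D.simple i), s i)) ∈ ⁅G1, G1⁆ := by
  obtain ⟨pw1, pw2⟩ := pairwise_of_checkOrth D J horth hnd
  have hh := hProd_mem D hD G1 f ρN J horth hnd hgen u huc
  have hcompat : ∀ e : ℤ, ∀ i ∈ J, (fun i => (u i ^ e - 1)⁻¹ * s i) (ρN i)
      = f ((fun i => (u i ^ e - 1)⁻¹ * s i) i) := by
    intro e i hi
    show (u (ρN i) ^ e - 1)⁻¹ * s (ρN i) = f ((u i ^ e - 1)⁻¹ * s i)
    rw [huc i hi, hs i hi, map_mul, map_inv₀, map_sub, map_zpow₀, map_one]
  constructor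
  · have := orbit_comm_core D hD G1 J hJlt hnd (fun i => D.simple i) 2 hcart pw1 u hu0 (by
      intro i hi
      rw [zpow_ofNat]
      exact hu2 i hi) hh s (hgen _ (hcompat 2)).1
    exact this
  · have := orbit_comm_core D hD G1 J hJlt hnd (fun i => D.neg (D.simple i)) (-2) hcartn pw2 u hu0
      (by
        intro i hi
        rw [zpow_neg, zpow_ofNat, ne_eq, inv_eq_one]
        exact hu2 i hi) hh s (hgen _ (hcompat (-2))).2
    exact this

/-- a field with more than three elements has an element `u ≠ 0` with `u² ≠ 1` -/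
theorem exists_sq_ne_one [Fintype K] (h : 3 < Fintype.card K) : ∃ u : K, u ≠ 0 ∧ u ^ 2 ≠ 1 := by
  classical
  by_contra hcon
  push Not at hcon
  have hsub : (Finset.univ : Finset K) ⊆ {0, 1, -1} := by
    intro u _
    by_cases h0 : u = 0
    · simp [h0]
    · rcases sq_eq_one_iff.1 (hcon u h0) with h1 | h1
      · simp [h1]
      · simp [h1]
  have := Finset.card_le_card hsub
  rw [Finset.card_univ] at this
  have h3 : ({0, 1, -1} : Finset K).card ≤ 3 := Finset.card_le_three
  omega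

end Cfsg.Agent.Lib.Helper5.ChevStruct
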