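import Mathlib
import Cfsg.Prelude.Def_ChevStructure
import Cfsg.Agent.Lib.Helper5.ChevSymAdd

set_option autoImplicit false

/-!
Table check: consecutive members of the chains of the table differ by the root of the chain,
i.e. `chainRoot r u_j 1 = u_{j+1}` along the `r`-chain `s = u_{-1}, u_0, u_1, …`.
-/

namespace Cfsg.Agent.Lib.Helper5.ChevSym

open Cfsg Cfsg.Lie

/-- equality test for `Option ℕ` against `some u` -/
def isSome (o : Option ℕ) (u : ℕ) : Bool :=
  match o with
  | none => false
  | some v => Nat.beq v u

theorem isSome_spec (o : Option ℕ) (u : ℕ) (h : isSome o u = true) : o = some u := by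
  cases o with
  | none => simp [isSome] at h
  | some v =>
    simp only [isSome] at h
    rw [Nat.eq_of_beq_eq_true h]

/-- the steps of one chain -/
def stepOK (D : ChevalleyDatum) (r : ℕ) : ℕ → List ℕ → Bool
  | _, [] => true
  | prev, u :: us => isSome (D.chainRoot r prev 1) u && stepOK D r u us

/-- the check at the root `r` -/
def checkChainStep (D : ChevalleyDatum) (r : ℕ) : Bool :=
  canon (fun r => (D.chain.getD r #[]).toList.all fun e =>
    stepOK D r e.1 (e.2.toList.map fun p => p.1)) r

theorem stepOK_spec (D : ChevalleyDatum) (r : ℕ) (prev : ℕ) (l : List ℕ)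
    (h : stepOK D r prev l = true) (j : ℕ) (u : ℕ) (hu : l[j]? = some u) :
    D.chainRoot r (if j = 0 then prev else l.getD (j - 1) 0) 1 = some u := by
  induction l generalizing prev j with
  | nil => simp at hu
  | cons v vs ih =>
    simp only [stepOK, Bool.and_eq_true] at h
    cases j with
    | zero =>
      simp only [List.getElem?_cons_zero, Option.some.injEq] at hu
      rw [if_pos rfl, ← hu]
      exact isSome_spec _ _ h.1
    | succ j =>
      simp only [List.getElem?_cons_succ] at hu
      have := ih v h.2 j hu
      rw [if_neg (by omega)]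
      have e : j + 1 - 1 = j := by omega
      rw [e]
      cases j with
      | zero =>
        rw [if_pos rfl] at this
        simpa using this
      | succ j =>
        rw [if_neg (by omega)] at this
        have e2 : j + 1 - 1 = j := by omega
        rw [e2] at this
        simpa using this

theorem checkChainStep_spec (D : ChevalleyDatum) (r : ℕ) (h : checkChainStep D r = true)
    (e : ℕ × Array (ℕ × ℤ)) (he : e ∈ (D.chain.getD r #[]).toList) (j : ℕ) (p : ℕ × ℤ)
    (hp : e.2.toList[j]? = some p) :
    D.chainRoot r (if j = 0 then e.1 else ((e.2.toList.map fun p => p.1).getD (j - 1) 0)) 1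
      = some p.1 := by
  unfold checkChainStep at h
  rw [canon_eq, List.all_eq_true] at h
  apply stepOK_spec D r e.1 _ (h e he) j p.1
  rw [List.getElem?_map, hp]
  rfl

end Cfsg.Agent.Lib.Helper5.ChevSym
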