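import Mathlib
import Cfsg.Prelude.Def_ChevStructure
import Cfsg.Prelude.Def_ChevAutomorphisms
import Cfsg.Agent.Lib.Helper5.ChevCharDiagDef
import Cfsg.Agent.Lib.Helper5.ChevChk.ChainStepAll
import Cfsg.Agent.Lib.Helper5.ChevChk.WtAll
import Cfsg.Agent.Lib.Helper5.ChevTorusX
import Cfsg.Agent.Lib.Helper5.ChevXGL

set_option autoImplicit false

/-!
Conjugation of root elements by the diagonal matrix of a character of the root lattice.
-/

namespace Cfsg.Agent.Lib.Helper5.ChevStruct

open Cfsg Cfsg.Lie Cfsg.Agent.Lib.Helper5.ChevSym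

variable {F : Type*} [Field F]

/-- the diagonal matrix with entries `1` on the Cartan part and `d s` at `e_s` -/
def diagOf (D : ChevalleyDatum) (d : ℕ → F) : Matrix D.Idx D.Idx F :=
  Matrix.diagonal (Sum.elim (fun _ => (1 : F)) (fun s : Fin D.nroots => d s.val))

/-- a diagonal matrix whose entries are multiplicative along the chains of `r` normalises `X_r` -/
theorem diagOf_xMat (D : ChevalleyDatum) (d : ℕ → F) (r : ℕ) (hr : r < D.nroots)
    (hneg : d (D.negIdx.getD r 0) * d r = 1)
    (hchain : ∀ x ∈ flatChain D r, d x.2.1 = d r ^ (x.2.2 + 1) * d x.1) (t : F) :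
    diagOf D d * D.xMat F ⟨r, hr⟩ t = D.xMat F ⟨r, hr⟩ (d r * t) * diagOf D d := by
  ext row col
  unfold diagOf
  rw [Matrix.diagonal_mul, Matrix.mul_diagonal]
  rcases col with i | s
  · rcases row with i' | u
    · simp [ChevalleyDatum.xMat]
    · by_cases hur : u = ⟨r, hr⟩
      · subst hur
        simp only [ChevalleyDatum.xMat, Matrix.of_apply, Sum.elim_inr, Sum.elim_inl, if_true]
        ring
      · simp [ChevalleyDatum.xMat, hur]
  · by_cases hsr : s = ⟨r, hr⟩
    · subst hsr
      rcases row with i' | u
      · simp [ChevalleyDatum.xMat]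
      · by_cases hur : u = ⟨r, hr⟩
        · subst hur
          simp [ChevalleyDatum.xMat, mul_comm]
        · simp [ChevalleyDatum.xMat, hur]
    · by_cases hsn : s.val = D.negIdx.getD r 0
      · rw [← hsn] at hneg
        rcases row with i' | u
        · simp only [ChevalleyDatum.xMat, Matrix.of_apply, hsr, if_false, hsn, if_true,
            Sum.elim_inl, Sum.elim_inr, one_mul]
          rw [← hsn]
          calc (((D.coroot.getD r #[]).getD i'.val 0 : ℤ) : F) * t
              = (((D.coroot.getD r #[]).getD i'.val 0 : ℤ) : F) * t * (d s.val * d r) := by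
                rw [hneg, mul_one]
            _ = _ := by ring
        · by_cases hus : u = s
          · subst hus
            simp [ChevalleyDatum.xMat, hsr, hsn, mul_comm]
          · by_cases hur : u = ⟨r, hr⟩
            · subst hur
              simp only [ChevalleyDatum.xMat, Matrix.of_apply, hsr, if_false, hsn, if_true,
                Sum.elim_inr, hus]
              rw [← hsn]
              calc d r * -(t ^ 2)
                  = d r * -(t ^ 2) * (d s.val * d r) := by rw [hneg, mul_one]
                _ = _ := by ring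
            · simp [ChevalleyDatum.xMat, hsr, hsn, hus, hur]
      · rcases row with i' | u
        · simp only [ChevalleyDatum.xMat, Matrix.of_apply, hsr, if_false, hsn]
          simp
        · simp only [ChevalleyDatum.xMat, Matrix.of_apply, hsr, if_false, hsn, Sum.elim_inr]
          rw [mul_add, add_mul]
          congr 1
          · by_cases hus : u = s
            · subst hus; simp [mul_comm]
            · simp [hus]
          · rw [← List.sum_map_mul_left, ← List.sum_map_mul_right]
            congr 1
            apply List.map_congr_left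
            intro km hkm
            obtain ⟨k, hk, hmem⟩ := mem_flatChain_of_mem_chainCoeff D r s.val u.val km hkm
            have := hchain _ hmem
            simp only at this
            rw [this, hk, mul_pow]
            ring

/-- a character of the root lattice is multiplicative along the chains of the table -/
theorem rootCharacter_chain (D : ChevalleyDatum) (hD : D ∈ Seven) (χ : ℕ → Fˣ)
    (hχ : D.IsRootCharacter χ) (r : ℕ) (hr : r < D.nroots) (x : ℕ × ℕ × ℕ)
    (hx : x ∈ flatChain D r) : χ x.2.1 = χ r ^ (x.2.2 + 1) * χ x.1 := by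
  unfold flatChain at hx
  rw [List.mem_flatMap] at hx
  obtain ⟨e, he, hx⟩ := hx
  rw [List.mem_map] at hx
  obtain ⟨q, hq, rfl⟩ := hx
  have hq' : e.2.toList[q.2]? = some q.1 := List.mem_zipIdx_iff_getElem?.1 hq
  show χ q.1.1 = χ r ^ (q.2 + 1) * χ e.1
  have hW := (weightsOK_all D hD).chain r hr
  have hmemF : ∀ (j : ℕ) (p : ℕ × ℤ), e.2.toList[j]? = some p → (e.1, p.1, j) ∈ flatChain D r := by
    intro j p hp
    unfold flatChain
    rw [List.mem_flatMap]
    refine ⟨e, he, ?_⟩
    rw [List.mem_map]
    exact ⟨(p, j), List.mem_zipIdx_iff_getElem?.2 hp, rfl⟩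
  have key : ∀ (j : ℕ) (p : ℕ × ℤ), e.2.toList[j]? = some p → χ p.1 = χ r ^ (j + 1) * χ e.1 := by
    intro j
    induction j with
    | zero =>
      intro p hp
      have h1 := checkChainStep_spec D r (chkChainStep_all D hD r hr) e he 0 p hp
      rw [if_pos rfl] at h1
      have h2 := hW _ (hmemF 0 p hp)
      rw [hχ.2 r e.1 p.1 hr h2.1 h1, zero_add, pow_one]
    | succ j ih =>
      intro p hp
      have hlt : j + 1 < e.2.toList.length := by
        by_contra hge
        rw [List.getElem?_eq_none (by omega)] at hp
        exact absurd hp (by simp)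
      have hj : e.2.toList[j]? = some (e.2.toList[j]'(by omega)) := List.getElem?_eq_getElem _
      have h1 := checkChainStep_spec D r (chkChainStep_all D hD r hr) e he (j + 1) p hp
      rw [if_neg (by omega)] at h1
      have e1 : j + 1 - 1 = j := by omega
      rw [e1] at h1
      have e2 : (e.2.toList.map fun p => p.1).getD j 0 = (e.2.toList[j]'(by omega)).1 := by
        rw [List.getD_eq_getElem?_getD, List.getElem?_map, hj]
        rfl
      rw [e2] at h1
      have h2 := hW _ (hmemF j _ hj)
      rw [hχ.2 r _ p.1 hr h2.2.1 h1, ih _ hj, pow_succ' (χ r) (j + 1), mul_assoc]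
  exact key q.2 q.1 hq'

/-- `ĥ(χ) x_r(t) ĥ(χ)⁻¹ = x_r(χ(r) t)` -/
theorem charDiag_conj (D : ChevalleyDatum) (hD : D ∈ Seven) (χ : ℕ → Fˣ)
    (hχ : D.IsRootCharacter χ) (r : ℕ) (hr : r < D.nroots) (t : F) :
    D.charDiag F χ * D.x F r t * D.charDiag F (fun s => (χ s)⁻¹) = D.x F r ((χ r : F) * t) := by
  have h1 : D.charDiag F χ = diagOf D (fun s => ((χ s : Fˣ) : F)) := rfl
  have h2 : D.charDiag F χ * D.charDiag F (fun s => (χ s)⁻¹) = 1 := by
    unfold ChevalleyDatum.charDiag
    rw [Matrix.diagonal_mul_diagonal, ← Matrix.diagonal_one]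
    congr 1
    funext j
    rcases j with i | s
    · simp
    · simp
  have hneg : ((χ (D.negIdx.getD r 0) : Fˣ) : F) * ((χ r : Fˣ) : F) = 1 := by
    have := hχ.1 r hr
    unfold ChevalleyDatum.neg at this
    rw [this, ← Units.val_mul, inv_mul_cancel, Units.val_one]
  have hchain : ∀ x ∈ flatChain D r,
      ((χ x.2.1 : Fˣ) : F) = ((χ r : Fˣ) : F) ^ (x.2.2 + 1) * ((χ x.1 : Fˣ) : F) := by
    intro x hx
    rw [rootCharacter_chain D hD χ hχ r hr x hx, Units.val_mul, Units.val_pow_eq_pow_val]
  unfold ChevalleyDatum.x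
  rw [dif_pos hr, dif_pos hr, h1, diagOf_xMat D _ r hr hneg hchain t, mul_assoc, ← h1, h2, mul_one]

end Cfsg.Agent.Lib.Helper5.ChevStruct
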