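import Mathlib
import Cfsg.Prelude.Def_ChevStructure
import Cfsg.Prelude.Def_ChevAutomorphisms
import Cfsg.Agent.Lib.Helper5.ChevCharDiag
import Cfsg.Agent.Lib.Helper5.ChevParaNorm

set_option autoImplicit false

/-!
An element of the Chevalley group which is the diagonal matrix of a character of the root lattice
lies in `H`.
-/

namespace Cfsg.Agent.Lib.Helper5.ChevStruct

open Cfsg Cfsg.Lie Cfsg.Agent.Lib.Helper5.ChevSym Cfsg.Agent.Lib.Helper5.UniTri
  Cfsg.Agent.Lib.Helper5.ChevPosUni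

variable {F : Type*} [Field F]

theorem charDiag_mul_inv (D : ChevalleyDatum) (χ : ℕ → Fˣ) :
    D.charDiag F χ * D.charDiag F (fun s => (χ s)⁻¹) = 1 := by
  unfold ChevalleyDatum.charDiag
  rw [Matrix.diagonal_mul_diagonal, ← Matrix.diagonal_one]
  congr 1
  funext j
  rcases j with i | s
  · simp
  · simp

/-- conjugation by `ĥ(χ)` preserves `U` -/
theorem charDiag_conj_pos (D : ChevalleyDatum) (hD : D ∈ Seven) (χ : ℕ → Fˣ)
    (hχ : D.IsRootCharacter χ) (g : GL D.Idx F)
    (hg : (g : Matrix D.Idx D.Idx F) = D.charDiag F χ) (u : GL D.Idx F)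
    (hu : u ∈ D.posUnipotent F) : g * u * g⁻¹ ∈ D.posUnipotent F := by
  have hinv : ((g⁻¹ : GL D.Idx F) : Matrix D.Idx D.Idx F) = D.charDiag F (fun s => (χ s)⁻¹) := by
    apply val_inv_eq_of_mul_eq_one
    rw [hg]
    exact charDiag_mul_inv D χ
  unfold ChevalleyDatum.posUnipotent at hu
  induction hu using Subgroup.closure_induction with
  | mem y hy =>
    obtain ⟨r, t, hr, hy⟩ := hy
    apply Subgroup.subset_closure
    refine ⟨r, (χ r : F) * t, hr, ?_⟩
    rw [Units.val_mul, Units.val_mul, hg, hy, hinv]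
    exact charDiag_conj D hD χ hχ r hr.1 t
  | one =>
    simp only [mul_one, mul_inv_cancel]
    exact one_mem _
  | mul a b _ _ ha hb =>
    have e : g * (a * b) * g⁻¹ = (g * a * g⁻¹) * (g * b * g⁻¹) := by group
    rw [e]
    exact mul_mem ha hb
  | inv a _ ha =>
    have e : g * a⁻¹ * g⁻¹ = (g * a * g⁻¹)⁻¹ := by group
    rw [e]
    exact inv_mem ha

theorem borel_le_normalizer_pos (D : ChevalleyDatum) (hD : D ∈ Seven) :
    D.borelSubgroup F ≤ Subgroup.normalizer (D.posUnipotent F : Set (GL D.Idx F)) := by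
  unfold ChevalleyDatum.borelSubgroup
  exact sup_le Subgroup.le_normalizer (diagonal_le_normalizer_pos D hD)

/-- `G ∩ Ĥ ⊆ H` -/
theorem mem_diagonal_of_charDiag (D : ChevalleyDatum) (hD : D ∈ Seven) (χ : ℕ → Fˣ)
    (hχ : D.IsRootCharacter χ) (g : GL D.Idx F) (hg : g ∈ D.group F)
    (hgχ : (g : Matrix D.Idx D.Idx F) = D.charDiag F χ) : g ∈ D.diagonalSubgroup F := by
  obtain ⟨w, hw, b, hb, v, hv, e⟩ := bruhat_exists_word D hD g hg
  have hvU : v ∈ D.posUnipotent F := by
    unfold unegSub at hv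
    revert hv
    apply Subgroup.closure_mono
    rintro y ⟨r, t, hr, hy⟩
    exact ⟨r, t, hr.1, hy⟩
  have hBN := borel_le_normalizer_pos (F := F) D hD
  -- `n_w` conjugates `U` into `U`
  have hconj : ∀ u ∈ D.posUnipotent F, wGL D hD w * u * (wGL D hD w)⁻¹ ∈ D.posUnipotent F := by
    intro u hu
    have e' : (wGL D hD w : GL D.Idx F) = b⁻¹ * g * v⁻¹ := by rw [e]; group
    have h1 : v⁻¹ * u * v⁻¹⁻¹ ∈ D.posUnipotent F :=
      mul_mem (mul_mem (inv_mem hvU) hu) (inv_mem (inv_mem hvU))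
    have h2 := charDiag_conj_pos D hD χ hχ g hgχ _ h1
    have h3 := (Subgroup.mem_normalizer_iff.1 (hBN (inv_mem hb)) _).1 h2
    have e2 : wGL D hD w * u * (wGL D hD w)⁻¹
        = b⁻¹ * (g * (v⁻¹ * u * v⁻¹⁻¹) * g⁻¹) * b⁻¹⁻¹ := by rw [e']; group
    rw [e2]
    exact h3
  have hall : ∀ r, D.IsPosRoot r → D.IsPosRoot (wAct D w r) := by
    intro r hr
    obtain ⟨ε, hε, hc⟩ := wGL_conj (F := F) D hD w hw r hr.1
    have hε0 : ε * 1 ≠ (0 : F) := by
      rw [mul_one]
      rcases hε with rfl | rfl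
      · exact one_ne_zero
      · exact neg_ne_zero.2 one_ne_zero
    exact isPosRoot_of_x_mem_pos D hD _ (wAct_lt D hD w hw r hr.1) _ hε0 _
      (hc 1 _ (xGL_val D hD r 1)) (hconj _ (xGL_mem_pos D hD r hr 1))
  have hcard : (negSet D w).card = 0 := by
    rw [Finset.card_eq_zero, Finset.eq_empty_iff_forall_notMem]
    intro r hr
    rw [mem_negSet] at hr
    exact hr.2 (hall r hr.1)
  have hwH : (wGL D hD w : GL D.Idx F) ∈ D.diagonalSubgroup F := by
    have h1 := (wrel_nil_of_card_eq_zero D hD w hw hcard).hrel (F := F) hD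
    unfold HRel at h1
    rwa [wGL_nil, inv_one, mul_one] at h1
  -- now `g ∈ B = U H`
  have hgB : g ∈ D.borelSubgroup F := by
    rw [e]
    exact mul_mem (mul_mem hb (diagonal_le_borel D hwH)) (pos_le_borel D hvU)
  have hgB' : g ∈ ((D.posUnipotent F ⊔ D.diagonalSubgroup F : Subgroup (GL D.Idx F)) :
      Set (GL D.Idx F)) := hgB
  rw [Subgroup.coe_mul_of_right_le_normalizer_left _ _ (diagonal_le_normalizer_pos D hD)] at hgB'
  obtain ⟨u, hu, h, hh, e3⟩ := Set.mem_mul.1 hgB'
  -- `u = g h⁻¹` is diagonal and unitriangular, hence trivial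
  have hu1 : u = 1 := by
    have hud : u = g * h⁻¹ := by rw [← e3]; group
    have hdiag : IsDiag ((u : GL D.Idx F) : Matrix D.Idx D.Idx F) := by
      rw [hud, Units.val_mul, hgχ]
      have hh' := (diagonalSubgroup_le_diagSub D hD (inv_mem hh)).1
      intro i j hij
      unfold ChevalleyDatum.charDiag
      rw [Matrix.diagonal_mul, hh' i j hij, mul_zero]
    have hlow := mem_unitri.1 (posUnipotent_le D (good_of_mem D hD) hu)
    apply Units.ext
    rw [Units.val_one]
    ext i j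
    by_contra hne
    have h1 : ((u : Matrix D.Idx D.Idx F) - 1) i j ≠ 0 := by
      rw [Matrix.sub_apply]
      exact sub_ne_zero.2 hne
    have h2 := hlow i j h1
    by_cases hij : i = j
    · subst hij
      omega
    · apply hne
      rw [Matrix.one_apply_ne hij]
      exact hdiag i j hij
  rw [← e3, hu1, one_mul]
  exact hh

end Cfsg.Agent.Lib.Helper5.ChevStruct
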