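import Mathlib
import Cfsg.Prelude.Def_ChevStructure
import Cfsg.Prelude.Def_ChevAutomorphisms
import Cfsg.Agent.Lib.Helper5.ChevNConj
import Cfsg.Agent.Lib.Helper5.ChevCommTransport

set_option autoImplicit false

/-!
A Chevalley group is generated by the root elements of the fundamental roots and their negatives.
-/

namespace Cfsg.Agent.Lib.Helper5.ChevStruct

open Cfsg Cfsg.Lie Cfsg.Agent.Lib.Helper5.ChevSym

variable {F : Type*} [Field F]

/-- the subgroup generated by the `x_{±p_i}(t)` -/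
def simpleGen (D : ChevalleyDatum) (F : Type*) [Field F] : Subgroup (GL D.Idx F) :=
  Subgroup.closure {g | ∃ (i : ℕ) (t : F), i < D.rank ∧
    ((g : Matrix D.Idx D.Idx F) = D.x F (D.simple i) t ∨
      (g : Matrix D.Idx D.Idx F) = D.x F (D.neg (D.simple i)) t)}

theorem nGL_mem_simpleGen (D : ChevalleyDatum) (hD : D ∈ Seven) (i : ℕ) (hi : i < D.rank) :
    (nGL D hD i : GL D.Idx F) ∈ simpleGen D F := by
  unfold nGL wordGL ChevalleyDatum.nWord
  apply Subgroup.list_prod_mem
  intro g hg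
  simp only [List.map_cons, List.map_nil, List.mem_cons, List.not_mem_nil, or_false] at hg
  rcases hg with rfl | rfl | rfl
  · exact Subgroup.subset_closure ⟨i, _, hi, Or.inl (xGL_val D hD _ _)⟩
  · exact Subgroup.subset_closure ⟨i, _, hi, Or.inr (xGL_val D hD _ _)⟩
  · exact Subgroup.subset_closure ⟨i, _, hi, Or.inl (xGL_val D hD _ _)⟩

/-- every root element lies in the subgroup generated by the fundamental ones -/
theorem x_mem_simpleGen (D : ChevalleyDatum) (hD : D ∈ Seven) (r : ℕ) (hr : r < D.nroots) :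
    r < D.nroots ∧ ∀ (t : F) (g : GL D.Idx F), (g : Matrix D.Idx D.Idx F) = D.x F r t →
      g ∈ simpleGen D F := by
  refine of_checkForest D (fun r => r < D.nroots ∧ ∀ (t : F) (g : GL D.Idx F),
      (g : Matrix D.Idx D.Idx F) = D.x F r t → g ∈ simpleGen D F)
    (forestOf D) (chkBN_all D hD).1 ?_ ?_ r hr
  · intro i hi
    refine ⟨(checkRows_spec D (checkRows_all D hD) i hi).2.1, fun t g hg => ?_⟩
    exact Subgroup.subset_closure ⟨i, t, hi, Or.inl hg⟩
  · rintro ⟨i, r'⟩ _ hi ⟨hr', hP⟩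
    simp only at hi hr' hP ⊢
    refine ⟨(reflectRoot_invol D hD i hi r' hr').1, fun t g hg => ?_⟩
    have hn := nGL_mem_simpleGen (F := F) D hD i hi
    have hx := hP ((eta D i r' : F) * t) (xGL D hD r' _) (xGL_val D hD r' _)
    have hc := nGL_conj D hD i hi r' hr' ((eta D i r' : F) * t) (xGL D hD r' _) (xGL_val D hD r' _)
    rw [← mul_assoc, eta_cast_sq D hD i hi r' hr', one_mul] at hc
    have e : g = nGL D hD i * xGL D hD r' ((eta D i r' : F) * t) * (nGL D hD i)⁻¹ := by
      apply Units.ext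
      rw [hg, hc]
    rw [e]
    exact mul_mem (mul_mem hn hx) (inv_mem hn)

theorem simpleGen_eq_group (D : ChevalleyDatum) (hD : D ∈ Seven) :
    simpleGen D F = D.group F := by
  apply le_antisymm
  · unfold simpleGen
    rw [Subgroup.closure_le]
    rintro g ⟨i, t, hi, hg | hg⟩
    · have : g = xGL D hD (D.simple i) t := Units.ext (by rw [hg, xGL_val])
      rw [this]
      exact xGL_mem_group D hD _ _
    · have : g = xGL D hD (D.neg (D.simple i)) t := Units.ext (by rw [hg, xGL_val])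
      rw [this]
      exact xGL_mem_group D hD _ _
  · unfold ChevalleyDatum.group
    rw [Subgroup.closure_le]
    rintro g ⟨r, t, hg⟩
    apply (x_mem_simpleGen D hD r.val r.2).2 t g
    rw [hg]
    unfold ChevalleyDatum.x
    rw [dif_pos r.2]

/-- two endomorphisms of the Chevalley group agreeing on the fundamental root elements and their
negatives are equal -/
theorem hom_ext_simple (D : ChevalleyDatum) (hD : D ∈ Seven) {M : Type*} [Monoid M]
    (φ ψ : ↥(D.group F) →* M)
    (h : ∀ (y : ↥(D.group F)) (i : ℕ) (t : F), i < D.rank →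
      (((y : GL D.Idx F) : Matrix D.Idx D.Idx F) = D.x F (D.simple i) t ∨
        ((y : GL D.Idx F) : Matrix D.Idx D.Idx F) = D.x F (D.neg (D.simple i)) t) →
      φ y = ψ y) (y : ↥(D.group F)) : φ y = ψ y := by
  have key : ∀ x : GL D.Idx F, x ∈ simpleGen D F → ∀ hx : x ∈ D.group F,
      φ ⟨x, hx⟩ = ψ ⟨x, hx⟩ := by
    intro x hx
    unfold simpleGen at hx
    induction hx using Subgroup.closure_induction with
    | mem a ha =>
      obtain ⟨i, t, hi, ha⟩ := ha
      intro hx
      exact h ⟨a, hx⟩ i t hi ha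
    | one =>
      intro hx
      have : (⟨1, hx⟩ : ↥(D.group F)) = 1 := rfl
      rw [this, map_one, map_one]
    | mul a b ha hb iha ihb =>
      intro hx
      have ha' : a ∈ D.group F := by rw [← simpleGen_eq_group D hD]; exact ha
      have hb' : b ∈ D.group F := by rw [← simpleGen_eq_group D hD]; exact hb
      have : (⟨a * b, hx⟩ : ↥(D.group F)) = ⟨a, ha'⟩ * ⟨b, hb'⟩ := rfl
      rw [this, map_mul, map_mul, iha ha', ihb hb']
    | inv a ha iha =>
      intro hx
      have ha' : a ∈ D.group F := by rw [← simpleGen_eq_group D hD]; exact ha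
      have e1 : φ ⟨a⁻¹, hx⟩ * φ ⟨a, ha'⟩ = 1 := by
        rw [← map_mul]
        have : (⟨a⁻¹, hx⟩ : ↥(D.group F)) * ⟨a, ha'⟩ = 1 := Subtype.ext (inv_mul_cancel a)
        rw [this, map_one]
      have e2 : ψ ⟨a, ha'⟩ * ψ ⟨a⁻¹, hx⟩ = 1 := by
        rw [← map_mul]
        have : (⟨a, ha'⟩ : ↥(D.group F)) * ⟨a⁻¹, hx⟩ = 1 := Subtype.ext (mul_inv_cancel a)
        rw [this, map_one]
      calc φ ⟨a⁻¹, hx⟩ = φ ⟨a⁻¹, hx⟩ * (ψ ⟨a, ha'⟩ * ψ ⟨a⁻¹, hx⟩) := by rw [e2, mul_one]
        _ = (φ ⟨a⁻¹, hx⟩ * φ ⟨a, ha'⟩) * ψ ⟨a⁻¹, hx⟩ := by rw [iha ha', mul_assoc]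
        _ = ψ ⟨a⁻¹, hx⟩ := by rw [e1, one_mul]
  have hy : (y : GL D.Idx F) ∈ simpleGen D F := by
    rw [simpleGen_eq_group D hD]
    exact y.2
  exact key y.1 hy y.2

end Cfsg.Agent.Lib.Helper5.ChevStruct
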