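import Mathlib
import Cfsg.Prelude.Def_ChevStructure
import Cfsg.Prelude.Def_ChevG2
import Cfsg.Prelude.Def_ChevB2
import Cfsg.Prelude.Def_ChevD4
import Cfsg.Prelude.Def_ChevF4
import Cfsg.Prelude.Def_ChevE6
import Cfsg.Prelude.Def_ChevE7
import Cfsg.Prelude.Def_ChevE8
import Cfsg.Agent.Lib.Helper5.ChevTorusCard

set_option autoImplicit false

/-!
The order of the kernel of `(Fˣ)^l → H`, type by type, from a diagonal form of the Cartan matrix.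
-/

namespace Cfsg.Agent.Lib.Helper5.ChevStruct

open Cfsg Cfsg.Lie Cfsg.Agent.Lib.Helper5.ChevSym Cfsg.Agent.Lib.Helper5.MatPow

def smPG2 : List (List ℤ) := [[0, -1], [1, 2]]

def smP'G2 : List (List ℤ) := [[2, 1], [-1, 0]]

def smQG2 : List (List ℤ) := [[1, 2], [0, 1]]

def smQ'G2 : List (List ℤ) := [[1, -2], [0, 1]]

set_option maxRecDepth 100000 in
theorem card_ker_G2 (G : Type*) [CommGroup G] [Finite G] [IsCyclic G] :
    Nat.card (mpow (fmat (cartanFn chevG2) chevG2.rank) :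
      (Fin chevG2.rank → G) →* (Fin chevG2.rank → G)).ker = 1 := by
  rw [card_ker_mpow_of_check chevG2.rank (cartanFn chevG2) smPG2 smP'G2 smQG2 smQ'G2 [1, 1]
    (by decide +kernel) (by decide +kernel) (by decide +kernel) (by decide +kernel)]
  have hr : chevG2.rank = 2 := rfl
  rw [hr]
  simp [List.range_succ, Nat.gcd_comm]

def smPB2 : List (List ℤ) := [[0, -1], [1, 2]]

def smP'B2 : List (List ℤ) := [[2, 1], [-1, 0]]

def smQB2 : List (List ℤ) := [[1, 2], [0, 1]]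

def smQ'B2 : List (List ℤ) := [[1, -2], [0, 1]]

set_option maxRecDepth 100000 in
theorem card_ker_B2 (G : Type*) [CommGroup G] [Finite G] [IsCyclic G] :
    Nat.card (mpow (fmat (cartanFn chevB2) chevB2.rank) :
      (Fin chevB2.rank → G) →* (Fin chevB2.rank → G)).ker = Nat.gcd 2 (Nat.card G) := by
  rw [card_ker_mpow_of_check chevB2.rank (cartanFn chevB2) smPB2 smP'B2 smQB2 smQ'B2 [1, 2]
    (by decide +kernel) (by decide +kernel) (by decide +kernel) (by decide +kernel)]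
  have hr : chevB2.rank = 2 := rfl
  rw [hr]
  simp [List.range_succ, Nat.gcd_comm]

def smPD4 : List (List ℤ) := [[-1, 0, 0, 0], [-2, -1, 0, 0], [-3, -2, -1, 0], [2, 2, 1, 1]]

def smP'D4 : List (List ℤ) := [[-1, 0, 0, 0], [2, -1, 0, 0], [-1, 2, -1, 0], [-1, 0, 1, 1]]

def smQD4 : List (List ℤ) := [[0, 0, 0, 1], [1, 0, 0, 2], [0, 1, -1, 1], [0, 0, 1, 2]]

def smQ'D4 : List (List ℤ) := [[-2, 1, 0, 0], [-3, 0, 1, 1], [-2, 0, 0, 1], [1, 0, 0, 0]]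

set_option maxRecDepth 100000 in
theorem card_ker_D4 (G : Type*) [CommGroup G] [Finite G] [IsCyclic G] :
    Nat.card (mpow (fmat (cartanFn chevD4) chevD4.rank) :
      (Fin chevD4.rank → G) →* (Fin chevD4.rank → G)).ker = Nat.gcd 2 (Nat.card G) ^ 2 := by
  rw [card_ker_mpow_of_check chevD4.rank (cartanFn chevD4) smPD4 smP'D4 smQD4 smQ'D4 [1, 1, 2, 2]
    (by decide +kernel) (by decide +kernel) (by decide +kernel) (by decide +kernel)]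
  have hr : chevD4.rank = 4 := rfl
  rw [hr]
  simp [List.range_succ, Nat.gcd_comm]
  ring

def smPF4 : List (List ℤ) := [[-1, 0, 0, 0], [1, 0, -1, 0], [-2, -1, 0, 0], [-2, -2, -2, -1]]

def smP'F4 : List (List ℤ) := [[-1, 0, 0, 0], [2, 0, -1, 0], [-1, -1, 0, 0], [0, 2, 2, -1]]

def smQF4 : List (List ℤ) := [[0, 0, 1, -2], [1, 0, 2, -4], [0, 0, 2, -3], [0, 1, 2, -2]]

def smQ'F4 : List (List ℤ) := [[-2, 1, 0, 0], [2, 0, -2, 1], [-3, 0, 2, 0], [-2, 0, 1, 0]]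

set_option maxRecDepth 100000 in
theorem card_ker_F4 (G : Type*) [CommGroup G] [Finite G] [IsCyclic G] :
    Nat.card (mpow (fmat (cartanFn chevF4) chevF4.rank) :
      (Fin chevF4.rank → G) →* (Fin chevF4.rank → G)).ker = 1 := by
  rw [card_ker_mpow_of_check chevF4.rank (cartanFn chevF4) smPF4 smP'F4 smQF4 smQ'F4 [1, 1, 1, 1]
    (by decide +kernel) (by decide +kernel) (by decide +kernel) (by decide +kernel)]
  have hr : chevF4.rank = 4 := rfl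
  rw [hr]
  simp [List.range_succ, Nat.gcd_comm]

def smPE6 : List (List ℤ) := [[-1, 0, 0, 0, 0, 0], [0, -1, 0, 0, 0, 0], [1, -2, 0, -1, 0, 0], [2, -3, 0, -2, -1, 0], [-2, 1, -1, 0, 0, 0], [-5, 0, -4, -3, -2, -1]]

def smP'E6 : List (List ℤ) := [[-1, 0, 0, 0, 0, 0], [0, -1, 0, 0, 0, 0], [2, -1, 0, 0, -1, 0], [-1, 2, -1, 0, 0, 0], [0, -1, 2, -1, 0, 0], [0, 0, -1, 2, 4, -1]]

def smQE6 : List (List ℤ) := [[0, 0, 0, 0, 1, -2], [0, 0, 0, 0, 2, -3], [1, 0, 0, 0, 2, -4], [0, 1, 0, 0, 4, -6], [0, 0, 1, 0, 4, -5], [0, 0, 0, 1, 4, -4]]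

def smQ'E6 : List (List ℤ) := [[-2, 0, 1, 0, 0, 0], [0, -2, 0, 1, 0, 0], [2, -3, 0, 0, 1, 0], [4, -4, 0, 0, 0, 1], [-3, 2, 0, 0, 0, 0], [-2, 1, 0, 0, 0, 0]]

set_option maxRecDepth 100000 in
theorem card_ker_E6 (G : Type*) [CommGroup G] [Finite G] [IsCyclic G] :
    Nat.card (mpow (fmat (cartanFn chevE6) chevE6.rank) :
      (Fin chevE6.rank → G) →* (Fin chevE6.rank → G)).ker = Nat.gcd 3 (Nat.card G) := by
  rw [card_ker_mpow_of_check chevE6.rank (cartanFn chevE6) smPE6 smP'E6 smQE6 smQ'E6 [1, 1, 1, 1, 1, 3]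
    (by decide +kernel) (by decide +kernel) (by decide +kernel) (by decide +kernel)]
  have hr : chevE6.rank = 6 := rfl
  rw [hr]
  simp [List.range_succ, Nat.gcd_comm]

def smPE7 : List (List ℤ) := [[-1, 0, 0, 0, 0, 0, 0], [0, -1, 0, 0, 0, 0, 0], [1, -2, 0, -1, 0, 0, 0], [2, -3, 0, -2, -1, 0, 0], [3, -4, 0, -3, -2, -1, 0], [-2, 1, -1, 0, 0, 0, 0], [-4, -1, -4, -4, -3, -2, -1]]

def smP'E7 : List (List ℤ) := [[-1, 0, 0, 0, 0, 0, 0], [0, -1, 0, 0, 0, 0, 0], [2, -1, 0, 0, 0, -1, 0], [-1, 2, -1, 0, 0, 0, 0], [0, -1, 2, -1, 0, 0, 0], [0, 0, -1, 2, -1, 0, 0], [0, 0, 0, -1, 2, 4, -1]]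

def smQE7 : List (List ℤ) := [[0, 0, 0, 0, 0, 1, -2], [0, 0, 0, 0, 0, 2, -3], [1, 0, 0, 0, 0, 2, -4], [0, 1, 0, 0, 0, 4, -6], [0, 0, 1, 0, 0, 4, -5], [0, 0, 0, 1, 0, 4, -4], [0, 0, 0, 0, 1, 4, -3]]

def smQ'E7 : List (List ℤ) := [[-2, 0, 1, 0, 0, 0, 0], [0, -2, 0, 1, 0, 0, 0], [2, -3, 0, 0, 1, 0, 0], [4, -4, 0, 0, 0, 1, 0], [6, -5, 0, 0, 0, 0, 1], [-3, 2, 0, 0, 0, 0, 0], [-2, 1, 0, 0, 0, 0, 0]]

set_option maxRecDepth 100000 in
theorem card_ker_E7 (G : Type*) [CommGroup G] [Finite G] [IsCyclic G] :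
    Nat.card (mpow (fmat (cartanFn chevE7) chevE7.rank) :
      (Fin chevE7.rank → G) →* (Fin chevE7.rank → G)).ker = Nat.gcd 2 (Nat.card G) := by
  rw [card_ker_mpow_of_check chevE7.rank (cartanFn chevE7) smPE7 smP'E7 smQE7 smQ'E7 [1, 1, 1, 1, 1, 1, 2]
    (by decide +kernel) (by decide +kernel) (by decide +kernel) (by decide +kernel)]
  have hr : chevE7.rank = 7 := rfl
  rw [hr]
  simp [List.range_succ, Nat.gcd_comm]

def smPE8 : List (List ℤ) := [[-1, 0, 0, 0, 0, 0, 0, 0], [0, -1, 0, 0, 0, 0, 0, 0], [1, -2, 0, -1, 0, 0, 0, 0], [2, -3, 0, -2, -1, 0, 0, 0], [3, -4, 0, -3, -2, -1, 0, 0], [4, -5, 0, -4, -3, -2, -1, 0], [-2, 1, -1, 0, 0, 0, 0, 0], [-3, -2, -4, -5, -4, -3, -2, -1]]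

def smP'E8 : List (List ℤ) := [[-1, 0, 0, 0, 0, 0, 0, 0], [0, -1, 0, 0, 0, 0, 0, 0], [2, -1, 0, 0, 0, 0, -1, 0], [-1, 2, -1, 0, 0, 0, 0, 0], [0, -1, 2, -1, 0, 0, 0, 0], [0, 0, -1, 2, -1, 0, 0, 0], [0, 0, 0, -1, 2, -1, 0, 0], [0, 0, 0, 0, -1, 2, 4, -1]]

def smQE8 : List (List ℤ) := [[0, 0, 0, 0, 0, 0, 1, -2], [0, 0, 0, 0, 0, 0, 2, -3], [1, 0, 0, 0, 0, 0, 2, -4], [0, 1, 0, 0, 0, 0, 4, -6], [0, 0, 1, 0, 0, 0, 4, -5], [0, 0, 0, 1, 0, 0, 4, -4], [0, 0, 0, 0, 1, 0, 4, -3], [0, 0, 0, 0, 0, 1, 4, -2]]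

def smQ'E8 : List (List ℤ) := [[-2, 0, 1, 0, 0, 0, 0, 0], [0, -2, 0, 1, 0, 0, 0, 0], [2, -3, 0, 0, 1, 0, 0, 0], [4, -4, 0, 0, 0, 1, 0, 0], [6, -5, 0, 0, 0, 0, 1, 0], [8, -6, 0, 0, 0, 0, 0, 1], [-3, 2, 0, 0, 0, 0, 0, 0], [-2, 1, 0, 0, 0, 0, 0, 0]]

set_option maxRecDepth 100000 in
theorem card_ker_E8 (G : Type*) [CommGroup G] [Finite G] [IsCyclic G] :
    Nat.card (mpow (fmat (cartanFn chevE8) chevE8.rank) :
      (Fin chevE8.rank → G) →* (Fin chevE8.rank → G)).ker = 1 := by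
  rw [card_ker_mpow_of_check chevE8.rank (cartanFn chevE8) smPE8 smP'E8 smQE8 smQ'E8 [1, 1, 1, 1, 1, 1, 1, 1]
    (by decide +kernel) (by decide +kernel) (by decide +kernel) (by decide +kernel)]
  have hr : chevE8.rank = 8 := rfl
  rw [hr]
  simp [List.range_succ, Nat.gcd_comm]

end Cfsg.Agent.Lib.Helper5.ChevStruct
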