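import Mathlib
import Cfsg.Prelude.Def_ChevStructure
import Cfsg.Agent.Lib.Helper5.ChevCoLinDef

set_option autoImplicit false

/-!
Tables of minimal coset representatives `W_K^J` and the checks certifying them.
-/

namespace Cfsg.Agent.Lib.Helper5.ChevSym

open Cfsg Cfsg.Lie

/-- a minimal coset representative: its word `a :: (word of the parent)`, the index of the parent,
the images of the fundamental roots, a positive root mapped to `p_a` by the parent, and for each
fundamental reflection `s_i` either the index `t'` of `s_i u` or `m + j` with `u(p_j) = p_i` -/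
structure CosetRec where
  wd : List ℕ
  par : ℕ
  img : List ℕ
  rho : ℕ
  nxt : List ℕ
deriving Inhabited

/-- `X = Y.map (w_a)` -/
def imgOK (D : ChevalleyDatum) (a : ℕ) : List ℕ → List ℕ → Bool
  | [], [] => true
  | x :: xs, y :: ys => forceNat (D.reflectRoot a y) (fun z => Nat.beq x z) && imgOK D a xs ys
  | _, _ => false

theorem imgOK_spec (D : ChevalleyDatum) (a : ℕ) (X Y : List ℕ) (h : imgOK D a X Y = true) :
    X = Y.map (D.reflectRoot a) := by
  induction X generalizing Y with
  | nil =>
    cases Y with
    | nil => rfl
    | cons y ys => simp [imgOK] at h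
  | cons x xs ih =>
    cases Y with
    | nil => simp [imgOK] at h
    | cons y ys =>
      unfold imgOK at h
      rw [Bool.and_eq_true, forceNat_eq] at h
      rw [List.map_cons, Nat.eq_of_beq_eq_true h.1, ih ys h.2]

/-- the check of the record `t` -/
def checkRec (D : ChevalleyDatum) (K J : List ℕ) (tbl : List CosetRec) (t : ℕ) : Bool :=
  let R := tbl.getD t default
  (match R.wd with
   | [] => Nat.beq t 0 && decide (R.img = (List.range D.rank).map D.simple)
   | a :: w' =>
      let P := tbl.getD R.par default
      Nat.blt R.par t && K.contains a && Nat.blt a D.rank && decide (P.wd = w') &&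
      imgOK D a R.img P.img &&
      decide (D.IsPosRoot R.rho) &&
      (List.range D.rank).all fun k =>
        decide (((List.range D.rank).map fun j =>
          co D R.rho j * co D (P.img.getD j 0) k).sum = if k = a then 1 else 0)) &&
  Nat.beq R.img.length D.rank &&
  J.all (fun j => decide (D.IsPosRoot (R.img.getD j 0))) &&
  K.all (fun i =>
    let v := R.nxt.getD i 0
    if v < tbl.length then imgOK D i (tbl.getD v default).img R.img
    else J.contains (v - tbl.length) && Nat.beq (R.img.getD (v - tbl.length) 0) (D.simple i))

/-- the properties certified by `checkRec` -/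
theorem checkRec_spec (D : ChevalleyDatum) (K J : List ℕ) (tbl : List CosetRec) (t : ℕ)
    (h : checkRec D K J tbl t = true) :
    ((tbl.getD t default).wd = [] ∧ t = 0 ∧
        (tbl.getD t default).img = (List.range D.rank).map D.simple ∨
      ∃ a w', (tbl.getD t default).wd = a :: w' ∧ (tbl.getD t default).par < t ∧ a ∈ K ∧
        a < D.rank ∧ (tbl.getD (tbl.getD t default).par default).wd = w' ∧
        (tbl.getD t default).img
          = (tbl.getD (tbl.getD t default).par default).img.map (D.reflectRoot a) ∧
        D.IsPosRoot (tbl.getD t default).rho ∧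
        ∀ k < D.rank, ((List.range D.rank).map fun j => co D (tbl.getD t default).rho j *
          co D ((tbl.getD (tbl.getD t default).par default).img.getD j 0) k).sum
            = if k = a then 1 else 0) ∧
    (tbl.getD t default).img.length = D.rank ∧
    (∀ j ∈ J, D.IsPosRoot ((tbl.getD t default).img.getD j 0)) ∧
    (∀ i ∈ K, ((tbl.getD t default).nxt.getD i 0 < tbl.length ∧
        (tbl.getD ((tbl.getD t default).nxt.getD i 0) default).img
          = (tbl.getD t default).img.map (D.reflectRoot i)) ∨
      ((tbl.getD t default).nxt.getD i 0 - tbl.length ∈ J ∧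
        (tbl.getD t default).img.getD ((tbl.getD t default).nxt.getD i 0 - tbl.length) 0
          = D.simple i)) := by
  unfold checkRec at h
  simp only [Bool.and_eq_true] at h
  obtain ⟨⟨⟨h1, h2⟩, h3⟩, h4⟩ := h
  refine ⟨?_, Nat.eq_of_beq_eq_true h2, ?_, ?_⟩
  · generalize hwd : (tbl.getD t default).wd = wd at h1
    cases wd with
    | nil =>
      left
      simp only [Bool.and_eq_true] at h1
      exact ⟨rfl, Nat.eq_of_beq_eq_true h1.1, of_decide_eq_true h1.2⟩
    | cons a w' =>
      right
      simp only [Bool.and_eq_true, List.all_eq_true] at h1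
      obtain ⟨⟨⟨⟨⟨⟨g1, g2⟩, g3⟩, g4⟩, g5⟩, g6⟩, g7⟩ := h1
      refine ⟨a, w', rfl, ?_, ?_, ?_, of_decide_eq_true g4, imgOK_spec D a _ _ g5,
        of_decide_eq_true g6, fun k hk => of_decide_eq_true (g7 k (List.mem_range.2 hk))⟩
      · rwa [Nat.blt_eq] at g1
      · simpa using g2
      · rwa [Nat.blt_eq] at g3
  · rw [List.all_eq_true] at h3
    intro j hj
    exact of_decide_eq_true (h3 j hj)
  · rw [List.all_eq_true] at h4
    intro i hi
    have := h4 i hi
    split_ifs at this with hv
    · exact Or.inl ⟨hv, imgOK_spec D i _ _ this⟩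
    · rw [Bool.and_eq_true] at this
      exact Or.inr ⟨by simpa using this.1, Nat.eq_of_beq_eq_true this.2⟩

/-- the check of a range of records -/
def checkRecRange (D : ChevalleyDatum) (K J : List ℕ) (tbl : List CosetRec) (lo hi : ℕ) : Bool :=
  (List.range (hi - lo)).all fun d => checkRec D K J tbl (lo + d)

theorem checkRecRange_spec (D : ChevalleyDatum) (K J : List ℕ) (tbl : List CosetRec) (lo hi : ℕ)
    (h : checkRecRange D K J tbl lo hi = true) (t : ℕ) (h1 : lo ≤ t) (h2 : t < hi) :
    checkRec D K J tbl t = true := by
  unfold checkRecRange at h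
  rw [List.all_eq_true] at h
  have := h (t - lo) (List.mem_range.2 (by omega))
  rwa [Nat.add_sub_cancel' h1] at this

end Cfsg.Agent.Lib.Helper5.ChevSym
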