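import Mathlib

set_option autoImplicit false

/-!
Polynomials with natural coefficients as coefficient lists, for the evaluation of
`∑_{w ∈ W} q^{N(w)}`.
-/

namespace Cfsg.Agent.Lib.Helper5.ChevSym

/-- evaluation of a coefficient list (Horner) -/
def evalP : List ℕ → ℕ → ℕ
  | [], _ => 0
  | a :: c, q => a + q * evalP c q

/-- sum of coefficient lists -/
def addP : List ℕ → List ℕ → List ℕ
  | [], r => r
  | p, [] => p
  | a :: p, b :: r => (a + b) :: addP p r

/-- product of coefficient lists -/
def mulP : List ℕ → List ℕ → List ℕ
  | [], _ => []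
  | a :: p, r => addP (r.map (a * ·)) (0 :: mulP p r)

theorem evalP_addP (p r : List ℕ) (q : ℕ) : evalP (addP p r) q = evalP p q + evalP r q := by
  induction p generalizing r with
  | nil => simp [addP, evalP]
  | cons a p ih =>
    cases r with
    | nil => simp [addP, evalP]
    | cons b r =>
      simp only [addP, evalP, ih]
      ring

theorem evalP_map_mul (a : ℕ) (r : List ℕ) (q : ℕ) :
    evalP (r.map (a * ·)) q = a * evalP r q := by
  induction r with
  | nil => simp [evalP]
  | cons b r ih =>
    simp only [List.map_cons, evalP, ih]
    ring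

theorem evalP_mulP (p r : List ℕ) (q : ℕ) : evalP (mulP p r) q = evalP p q * evalP r q := by
  induction p with
  | nil => simp [mulP, evalP]
  | cons a p ih =>
    simp only [mulP, evalP_addP, evalP_map_mul, evalP, ih]
    ring

/-- add one to the coefficient of degree `e` -/
def incrP : ℕ → List ℕ → List ℕ
  | 0, [] => [1]
  | 0, a :: c => (a + 1) :: c
  | e + 1, [] => 0 :: incrP e []
  | e + 1, a :: c => a :: incrP e c

theorem evalP_incrP (e : ℕ) (c : List ℕ) (q : ℕ) : evalP (incrP e c) q = evalP c q + q ^ e := by
  induction e generalizing c with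
  | zero =>
    cases c with
    | nil => simp [incrP, evalP]
    | cons a c =>
      simp only [incrP, evalP, pow_zero]
      ring
  | succ e ih =>
    cases c with
    | nil =>
      simp only [incrP, evalP, ih, pow_succ]
      ring
    | cons a c =>
      simp only [incrP, evalP, ih, pow_succ]
      ring

/-- the coefficient list of `∑_{e ∈ L} X^e` -/
def histo (L : List ℕ) : List ℕ := L.foldr incrP []

theorem evalP_histo (L : List ℕ) (q : ℕ) : evalP (histo L) q = (L.map (q ^ ·)).sum := by
  induction L with
  | nil => simp [histo, evalP]
  | cons e L ih =>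
    have : histo (e :: L) = incrP e (histo L) := rfl
    rw [this, evalP_incrP, ih, List.map_cons, List.sum_cons]
    ring

/-- the coefficient list of `∏_d (1 + X + ⋯ + X^{d-1})` -/
def degPoly (ds : List ℕ) : List ℕ := ds.foldr (fun d P => mulP (List.replicate d 1) P) [1]

theorem evalP_replicate (d q : ℕ) : evalP (List.replicate d 1) q = ∑ e ∈ Finset.range d, q ^ e := by
  induction d with
  | zero => simp [evalP]
  | succ d ih =>
    rw [List.replicate_succ, evalP, ih, Finset.sum_range_succ', Finset.mul_sum]
    simp only [pow_succ, pow_zero]
    rw [add_comm]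
    congr 1
    apply Finset.sum_congr rfl
    intro e _
    ring

theorem evalP_degPoly (ds : List ℕ) (q : ℕ) :
    evalP (degPoly ds) q = (ds.map fun d => ∑ e ∈ Finset.range d, q ^ e).prod := by
  induction ds with
  | nil => simp [degPoly, evalP]
  | cons d ds ih =>
    have : degPoly (d :: ds) = mulP (List.replicate d 1) (degPoly ds) := rfl
    rw [this, evalP_mulP, evalP_replicate, ih, List.map_cons, List.prod_cons]

end Cfsg.Agent.Lib.Helper5.ChevSym
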