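import Mathlib
import Cfsg.Prelude.Def_ChevStructure
import Cfsg.Agent.Lib.Helper5.ChevWCount
import Cfsg.Agent.Lib.Helper5.ChevWTblDef

set_option autoImplicit false

/-!
From a certified table of minimal coset representatives to the factorisation of
`∑_{w ∈ W_K} q^{N(w)}`.
-/

namespace Cfsg.Agent.Lib.Helper5.ChevStruct

open Cfsg Cfsg.Lie Cfsg.Agent.Lib.Helper5.ChevSym

/-- words agreeing on the fundamental roots agree on all roots -/
theorem wAct_eq_of_simple (D : ChevalleyDatum) (hD : D ∈ Seven) (a b : List ℕ) (ha : Wd D a)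
    (hb : Wd D b) (h : ∀ j < D.rank, wAct D a (D.simple j) = wAct D b (D.simple j)) :
    ∀ r < D.nroots, wAct D a r = wAct D b r := by
  intro r hr
  apply co_inj D hD _ _ (wAct_lt D hD a ha r hr) (wAct_lt D hD b hb r hr)
  intro k hk
  rw [co_wAct_eq_sum D hD a ha r hr k hk, co_wAct_eq_sum D hD b hb r hr k hk]
  apply Finset.sum_congr rfl
  intro j hj
  rw [h j (Finset.mem_range.1 hj)]

theorem getD_map_of_lt (f : ℕ → ℕ) (L : List ℕ) (j : ℕ) (hj : j < L.length) :
    (L.map f).getD j 0 = f (L.getD j 0) := by
  rw [List.getD_eq_getElem _ _ (by simpa using hj), List.getD_eq_getElem _ _ hj, List.getElem_map]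

theorem getD_range_of_lt (l j : ℕ) (hj : j < l) : (List.range l).getD j 0 = j := by
  rw [List.getD_eq_getElem _ _ (by simpa using hj), List.getElem_range]

/-- the facts certified by the table, record by record -/
theorem table_facts (D : ChevalleyDatum) (hD : D ∈ Seven) (K J : List ℕ) (tbl : List CosetRec)
    (hchk : ∀ t < tbl.length, checkRec D K J tbl t = true) :
    ∀ t < tbl.length,
      WdIn D {i | i ∈ K} (tbl.getD t default).wd ∧
      (∀ j < D.rank, wAct D (tbl.getD t default).wd (D.simple j)
        = (tbl.getD t default).img.getD j 0) ∧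
      (negSet D (tbl.getD t default).wd).card = (tbl.getD t default).wd.length := by
  intro t
  induction t using Nat.strong_induction_on with
  | _ t ih =>
    intro ht
    obtain ⟨h1, -, -, -⟩ := checkRec_spec D K J tbl t (hchk t ht)
    rcases h1 with ⟨hwd, -, himg⟩ | ⟨a, w', hwd, hpar, haK, ha, hPwd, himg, hρ, hlin⟩
    · rw [hwd]
      refine ⟨WdIn.nil _ _, fun j hj => ?_, by rw [negSet_nil]; rfl⟩
      rw [himg, getD_map_of_lt _ _ _ (by simpa using hj), getD_range_of_lt _ _ hj]
      rfl
    · have hp_lt : (tbl.getD t default).par < tbl.length := lt_trans hpar ht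
      obtain ⟨f1, f2, f3⟩ := ih _ hpar hp_lt
      have hPlen := (checkRec_spec D K J tbl _ (hchk _ hp_lt)).2.1
      rw [hPwd] at f1 f2 f3
      rw [hwd]
      refine ⟨WdIn.cons ha haK f1, fun j hj => ?_, ?_⟩
      · rw [himg, getD_map_of_lt _ _ _ (by rw [hPlen]; exact hj), ← f2 j hj]
        rfl
      · have hw : wAct D w' (tbl.getD t default).rho = D.simple a := by
          apply co_inj D hD _ _ (wAct_lt D hD w' f1.wd _ hρ.1) (simple_lt D hD a ha)
          intro k hk
          rw [co_wAct_eq_sum D hD w' f1.wd _ hρ.1 k hk, co_simple D hD a ha k hk]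
          have := hlin k hk
          rw [list_range_map_sum] at this
          unfold basisVec
          rw [← this]
          apply Finset.sum_congr rfl
          intro j hj
          rw [f2 j (Finset.mem_range.1 hj)]
        rw [card_negSet_cons_of_witness D hD a ha w' f1.wd _ hρ hw, f3]
        rfl

/-- one step of the factorisation, from a certified table -/
theorem poinc_step_of_table (D : ChevalleyDatum) (hD : D ∈ Seven) (K J : List ℕ)
    (hJK : ∀ j ∈ J, j ∈ K) (hK : ∀ i ∈ K, i < D.rank)
    (tbl : List CosetRec) (hlen : 0 < tbl.length)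
    (hchk : ∀ t < tbl.length, checkRec D K J tbl t = true)
    (hnd : (tbl.map (·.img)).Nodup) (q : ℕ) :
    poinc D hD {i | i ∈ K} q
      = (tbl.map fun R => q ^ R.wd.length).sum * poinc D hD {i | i ∈ J} q := by
  have hfacts := table_facts D hD K J tbl hchk
  have hgetD : ∀ t : Fin tbl.length, tbl.getD t.val default = tbl[t.val] := fun t =>
    List.getD_eq_getElem _ _ t.isLt
  rw [poinc_step D hD {i | i ∈ K} {i | i ∈ J} hJK q (fun t : Fin tbl.length => tbl[t.val].wd)]
  · congr 1
    have : ∀ t : Fin tbl.length, q ^ (negSet D tbl[t.val].wd).card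
        = (fun R : CosetRec => q ^ R.wd.length) tbl[t.val] := by
      intro t
      have := (hfacts t.val t.isLt).2.2
      rw [hgetD t] at this
      simp only
      rw [this]
    rw [Finset.sum_congr rfl (fun t _ => this t)]
    exact Fin.sum_univ_fun_getElem tbl (fun R : CosetRec => q ^ R.wd.length)
  · intro t
    have := (hfacts t.val t.isLt).1
    rwa [hgetD t] at this
  · intro t j hj hjJ
    have h1 := (hfacts t.val t.isLt).2.1 j hj
    have h2 := (checkRec_spec D K J tbl t.val (hchk t.val t.isLt)).2.2.1 j hjJ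
    rw [hgetD t] at h1 h2
    rw [h1]
    exact h2
  · intro t t' h
    have hw := (hfacts t.val t.isLt).1
    have hw' := (hfacts t'.val t'.isLt).1
    have hi := (hfacts t.val t.isLt).2.1
    have hi' := (hfacts t'.val t'.isLt).2.1
    have hl := (checkRec_spec D K J tbl t.val (hchk t.val t.isLt)).2.1
    have hl' := (checkRec_spec D K J tbl t'.val (hchk t'.val t'.isLt)).2.1
    rw [hgetD t] at hw hi hl
    rw [hgetD t'] at hw' hi' hl'
    have hact := (wPerm_eq_iff D hD _ _ hw.wd hw'.wd).1 h
    have himg : tbl[t.val].img = tbl[t'.val].img := by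
      apply List.ext_getElem (by rw [hl, hl'])
      intro j hj1 hj2
      have hj : j < D.rank := by rw [← hl]; exact hj1
      rw [← List.getD_eq_getElem _ 0 hj1, ← List.getD_eq_getElem _ 0 hj2, ← hi j hj, ← hi' j hj]
      exact hact _ (simple_lt D hD j hj)
    have hlt : t.val < (tbl.map (·.img)).length := by rw [List.length_map]; exact t.isLt
    have hlt' : t'.val < (tbl.map (·.img)).length := by rw [List.length_map]; exact t'.isLt
    have : (tbl.map (·.img))[t.val] = (tbl.map (·.img))[t'.val] := by
      rw [List.getElem_map, List.getElem_map]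
      exact himg
    exact Fin.ext ((hnd.getElem_inj_iff).1 this)
  · refine ⟨⟨0, hlen⟩, ?_⟩
    obtain ⟨h1, -, -, -⟩ := checkRec_spec D K J tbl 0 (hchk 0 hlen)
    rcases h1 with ⟨hwd, -, -⟩ | ⟨a, w', -, hpar, -⟩
    · have := hgetD ⟨0, hlen⟩
      simp only at this
      rw [← this, hwd]
      rfl
    · exact absurd hpar (Nat.not_lt_zero _)
  · intro t i hi hiK
    have hw := (hfacts t.val t.isLt).1
    have himg := (hfacts t.val t.isLt).2.1
    have hl := (checkRec_spec D K J tbl t.val (hchk t.val t.isLt)).2.1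
    rcases (checkRec_spec D K J tbl t.val (hchk t.val t.isLt)).2.2.2 i hiK with
      ⟨hv, hvimg⟩ | ⟨hjJ, hj⟩
    · left
      refine ⟨⟨_, hv⟩, ?_⟩
      have hw' := (hfacts _ hv).1
      have himg' := (hfacts _ hv).2.1
      rw [← hgetD ⟨_, hv⟩, ← hgetD t, ← wPerm_cons]
      apply (wPerm_eq_iff D hD _ _ hw'.wd (Wd.cons hi hw.wd)).2
      apply wAct_eq_of_simple D hD _ _ hw'.wd (Wd.cons hi hw.wd)
      intro j hj
      rw [himg' j hj, hvimg, getD_map_of_lt _ _ _ (by rw [hl]; exact hj), ← himg j hj]
      rfl
    · right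
      set j := (tbl.getD t.val default).nxt.getD i 0 - tbl.length with hjdef
      have hjl : j < D.rank := hK j (hJK j hjJ)
      refine ⟨j, hjl, hjJ, ?_⟩
      rw [← hgetD t]
      have hbr : wAct D (tbl.getD t.val default).wd (D.simple j) = D.simple i := by
        rw [himg j hjl]
        exact hj
      have := wPerm_of_wrel D hD _ _ (WRel.braid _ j i hw.wd hjl hi hbr)
      rw [wPerm_append, wPerm_single, wPerm_cons] at this
      exact this.symm

end Cfsg.Agent.Lib.Helper5.ChevStruct
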