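import Mathlib
import Cfsg.Prelude.Def_ChevStructure
import Cfsg.Agent.Lib.Helper5.ChevWTbl
import Cfsg.Agent.Lib.Helper5.ChevWPoly
import Cfsg.Agent.Lib.Helper5.ChevChk.WTblG2_0
import Cfsg.Agent.Lib.Helper5.ChevChk.WTblG2_1
import Cfsg.Agent.Lib.Helper5.ChevChk.WTblB2_0
import Cfsg.Agent.Lib.Helper5.ChevChk.WTblB2_1
import Cfsg.Agent.Lib.Helper5.ChevChk.WTblD4_0
import Cfsg.Agent.Lib.Helper5.ChevChk.WTblD4_1
import Cfsg.Agent.Lib.Helper5.ChevChk.WTblD4_2
import Cfsg.Agent.Lib.Helper5.ChevChk.WTblD4_3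
import Cfsg.Agent.Lib.Helper5.ChevChk.WTblF4_0
import Cfsg.Agent.Lib.Helper5.ChevChk.WTblF4_1
import Cfsg.Agent.Lib.Helper5.ChevChk.WTblF4_2
import Cfsg.Agent.Lib.Helper5.ChevChk.WTblF4_3
import Cfsg.Agent.Lib.Helper5.ChevChk.WTblE6_0
import Cfsg.Agent.Lib.Helper5.ChevChk.WTblE6_1
import Cfsg.Agent.Lib.Helper5.ChevChk.WTblE6_2
import Cfsg.Agent.Lib.Helper5.ChevChk.WTblE6_3
import Cfsg.Agent.Lib.Helper5.ChevChk.WTblE6_4
import Cfsg.Agent.Lib.Helper5.ChevChk.WTblE6_5
import Cfsg.Agent.Lib.Helper5.ChevChk.WTblE7_0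
import Cfsg.Agent.Lib.Helper5.ChevChk.WTblE7_1
import Cfsg.Agent.Lib.Helper5.ChevChk.WTblE7_2
import Cfsg.Agent.Lib.Helper5.ChevChk.WTblE7_3
import Cfsg.Agent.Lib.Helper5.ChevChk.WTblE7_4
import Cfsg.Agent.Lib.Helper5.ChevChk.WTblE7_5
import Cfsg.Agent.Lib.Helper5.ChevChk.WTblE7_6
import Cfsg.Agent.Lib.Helper5.ChevChk.WTblE8_0
import Cfsg.Agent.Lib.Helper5.ChevChk.WTblE8_1
import Cfsg.Agent.Lib.Helper5.ChevChk.WTblE8_2
import Cfsg.Agent.Lib.Helper5.ChevChk.WTblE8_3
import Cfsg.Agent.Lib.Helper5.ChevChk.WTblE8_4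
import Cfsg.Agent.Lib.Helper5.ChevChk.WTblE8_5
import Cfsg.Agent.Lib.Helper5.ChevChk.WTblE8_6
import Cfsg.Agent.Lib.Helper5.ChevChk.WTblE8_7

set_option autoImplicit false

/-!
The sums `∑_{w ∈ W} q^{N(w)}` for the seven types.
-/

namespace Cfsg.Agent.Lib.Helper5.ChevStruct

open Cfsg Cfsg.Lie Cfsg.Agent.Lib.Helper5.ChevSym

/-- the polynomial `∑_{u ∈ W_K^J} X^{N(u)}` read off the table -/
def stepPoly (tbl : List CosetRec) : List ℕ := histo (tbl.map (·.wd.length))

theorem sum_eq_evalP_stepPoly (tbl : List CosetRec) (q : ℕ) :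
    (tbl.map fun R => q ^ R.wd.length).sum = evalP (stepPoly tbl) q := by
  unfold stepPoly
  rw [evalP_histo, List.map_map]
  rfl

theorem poinc_nil (D : ChevalleyDatum) (hD : D ∈ Seven) (q : ℕ) :
    poinc D hD {i | i ∈ ([] : List ℕ)} q = evalP [1] q := by
  have : {i | i ∈ ([] : List ℕ)} = (∅ : Set ℕ) := by
    ext i
    simp
  rw [this, poinc_empty]
  simp [evalP]

theorem poinc_chain_step (D : ChevalleyDatum) (hD : D ∈ Seven) (K J : List ℕ)
    (hJK : ∀ j ∈ J, j ∈ K) (hK : ∀ i ∈ K, i < D.rank)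
    (tbl : List CosetRec) (hlen : 0 < tbl.length)
    (hchk : ∀ t < tbl.length, checkRec D K J tbl t = true)
    (hnd : (tbl.map (·.img)).Nodup) (q : ℕ) (P : List ℕ)
    (hJ : poinc D hD {i | i ∈ J} q = evalP P q) :
    poinc D hD {i | i ∈ K} q = evalP (mulP (stepPoly tbl) P) q := by
  rw [poinc_step_of_table D hD K J hJK hK tbl hlen hchk hnd q, sum_eq_evalP_stepPoly, hJ,
    evalP_mulP]

theorem mem_seven_G2 : chevG2 ∈ Seven := by simp [Seven]

set_option maxRecDepth 1000000 in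
theorem wpoly_G2 : (mulP (stepPoly wtblG2_0) (mulP (stepPoly wtblG2_1) [1])) = degPoly [2, 6] := by
  decide +kernel

/-- `∑_{w ∈ W} q^{N(w)}` for the type `G2` -/
theorem poinc_G2 (q : ℕ) : poinc chevG2 mem_seven_G2 {i | i ∈ List.range chevG2.rank} q
    = ([2, 6].map fun d => ∑ e ∈ Finset.range d, q ^ e).prod := by
  rw [← evalP_degPoly, ← wpoly_G2]
  have hK : List.range chevG2.rank = wtblKG2_0 := by decide
  rw [hK]
  have hlen0 : wtblG2_0.length = 6 := by decide +kernel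
  apply poinc_chain_step chevG2 mem_seven_G2 wtblKG2_0 wtblJG2_0 (by decide) (by decide)
    wtblG2_0 (by rw [hlen0]; norm_num) (fun t ht => chkWTblG2_0 t (by rw [hlen0] at ht; exact ht))
    chkWTblG2_0_nd q
  show poinc chevG2 mem_seven_G2 {i | i ∈ wtblKG2_1} q = _
  have hlen1 : wtblG2_1.length = 2 := by decide +kernel
  apply poinc_chain_step chevG2 mem_seven_G2 wtblKG2_1 wtblJG2_1 (by decide) (by decide)
    wtblG2_1 (by rw [hlen1]; norm_num) (fun t ht => chkWTblG2_1 t (by rw [hlen1] at ht; exact ht))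
    chkWTblG2_1_nd q
  exact poinc_nil chevG2 mem_seven_G2 q

theorem mem_seven_B2 : chevB2 ∈ Seven := by simp [Seven]

set_option maxRecDepth 1000000 in
theorem wpoly_B2 : (mulP (stepPoly wtblB2_0) (mulP (stepPoly wtblB2_1) [1])) = degPoly [2, 4] := by
  decide +kernel

/-- `∑_{w ∈ W} q^{N(w)}` for the type `B2` -/
theorem poinc_B2 (q : ℕ) : poinc chevB2 mem_seven_B2 {i | i ∈ List.range chevB2.rank} q
    = ([2, 4].map fun d => ∑ e ∈ Finset.range d, q ^ e).prod := by
  rw [← evalP_degPoly, ← wpoly_B2]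
  have hK : List.range chevB2.rank = wtblKB2_0 := by decide
  rw [hK]
  have hlen0 : wtblB2_0.length = 4 := by decide +kernel
  apply poinc_chain_step chevB2 mem_seven_B2 wtblKB2_0 wtblJB2_0 (by decide) (by decide)
    wtblB2_0 (by rw [hlen0]; norm_num) (fun t ht => chkWTblB2_0 t (by rw [hlen0] at ht; exact ht))
    chkWTblB2_0_nd q
  show poinc chevB2 mem_seven_B2 {i | i ∈ wtblKB2_1} q = _
  have hlen1 : wtblB2_1.length = 2 := by decide +kernel
  apply poinc_chain_step chevB2 mem_seven_B2 wtblKB2_1 wtblJB2_1 (by decide) (by decide)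
    wtblB2_1 (by rw [hlen1]; norm_num) (fun t ht => chkWTblB2_1 t (by rw [hlen1] at ht; exact ht))
    chkWTblB2_1_nd q
  exact poinc_nil chevB2 mem_seven_B2 q

theorem mem_seven_D4 : chevD4 ∈ Seven := by simp [Seven]

set_option maxRecDepth 1000000 in
theorem wpoly_D4 : (mulP (stepPoly wtblD4_0) (mulP (stepPoly wtblD4_1) (mulP (stepPoly wtblD4_2) (mulP (stepPoly wtblD4_3) [1])))) = degPoly [2, 4, 4, 6] := by
  decide +kernel

/-- `∑_{w ∈ W} q^{N(w)}` for the type `D4` -/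
theorem poinc_D4 (q : ℕ) : poinc chevD4 mem_seven_D4 {i | i ∈ List.range chevD4.rank} q
    = ([2, 4, 4, 6].map fun d => ∑ e ∈ Finset.range d, q ^ e).prod := by
  rw [← evalP_degPoly, ← wpoly_D4]
  have hK : List.range chevD4.rank = wtblKD4_0 := by decide
  rw [hK]
  have hlen0 : wtblD4_0.length = 8 := by decide +kernel
  apply poinc_chain_step chevD4 mem_seven_D4 wtblKD4_0 wtblJD4_0 (by decide) (by decide)
    wtblD4_0 (by rw [hlen0]; norm_num) (fun t ht => chkWTblD4_0 t (by rw [hlen0] at ht; exact ht))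
    chkWTblD4_0_nd q
  show poinc chevD4 mem_seven_D4 {i | i ∈ wtblKD4_1} q = _
  have hlen1 : wtblD4_1.length = 4 := by decide +kernel
  apply poinc_chain_step chevD4 mem_seven_D4 wtblKD4_1 wtblJD4_1 (by decide) (by decide)
    wtblD4_1 (by rw [hlen1]; norm_num) (fun t ht => chkWTblD4_1 t (by rw [hlen1] at ht; exact ht))
    chkWTblD4_1_nd q
  show poinc chevD4 mem_seven_D4 {i | i ∈ wtblKD4_2} q = _
  have hlen2 : wtblD4_2.length = 3 := by decide +kernel
  apply poinc_chain_step chevD4 mem_seven_D4 wtblKD4_2 wtblJD4_2 (by decide) (by decide)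
    wtblD4_2 (by rw [hlen2]; norm_num) (fun t ht => chkWTblD4_2 t (by rw [hlen2] at ht; exact ht))
    chkWTblD4_2_nd q
  show poinc chevD4 mem_seven_D4 {i | i ∈ wtblKD4_3} q = _
  have hlen3 : wtblD4_3.length = 2 := by decide +kernel
  apply poinc_chain_step chevD4 mem_seven_D4 wtblKD4_3 wtblJD4_3 (by decide) (by decide)
    wtblD4_3 (by rw [hlen3]; norm_num) (fun t ht => chkWTblD4_3 t (by rw [hlen3] at ht; exact ht))
    chkWTblD4_3_nd q
  exact poinc_nil chevD4 mem_seven_D4 q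

theorem mem_seven_F4 : chevF4 ∈ Seven := by simp [Seven]

set_option maxRecDepth 1000000 in
theorem wpoly_F4 : (mulP (stepPoly wtblF4_0) (mulP (stepPoly wtblF4_1) (mulP (stepPoly wtblF4_2) (mulP (stepPoly wtblF4_3) [1])))) = degPoly [2, 6, 8, 12] := by
  decide +kernel

/-- `∑_{w ∈ W} q^{N(w)}` for the type `F4` -/
theorem poinc_F4 (q : ℕ) : poinc chevF4 mem_seven_F4 {i | i ∈ List.range chevF4.rank} q
    = ([2, 6, 8, 12].map fun d => ∑ e ∈ Finset.range d, q ^ e).prod := by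
  rw [← evalP_degPoly, ← wpoly_F4]
  have hK : List.range chevF4.rank = wtblKF4_0 := by decide
  rw [hK]
  have hlen0 : wtblF4_0.length = 24 := by decide +kernel
  apply poinc_chain_step chevF4 mem_seven_F4 wtblKF4_0 wtblJF4_0 (by decide) (by decide)
    wtblF4_0 (by rw [hlen0]; norm_num) (fun t ht => chkWTblF4_0 t (by rw [hlen0] at ht; exact ht))
    chkWTblF4_0_nd q
  show poinc chevF4 mem_seven_F4 {i | i ∈ wtblKF4_1} q = _
  have hlen1 : wtblF4_1.length = 6 := by decide +kernel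
  apply poinc_chain_step chevF4 mem_seven_F4 wtblKF4_1 wtblJF4_1 (by decide) (by decide)
    wtblF4_1 (by rw [hlen1]; norm_num) (fun t ht => chkWTblF4_1 t (by rw [hlen1] at ht; exact ht))
    chkWTblF4_1_nd q
  show poinc chevF4 mem_seven_F4 {i | i ∈ wtblKF4_2} q = _
  have hlen2 : wtblF4_2.length = 4 := by decide +kernel
  apply poinc_chain_step chevF4 mem_seven_F4 wtblKF4_2 wtblJF4_2 (by decide) (by decide)
    wtblF4_2 (by rw [hlen2]; norm_num) (fun t ht => chkWTblF4_2 t (by rw [hlen2] at ht; exact ht))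
    chkWTblF4_2_nd q
  show poinc chevF4 mem_seven_F4 {i | i ∈ wtblKF4_3} q = _
  have hlen3 : wtblF4_3.length = 2 := by decide +kernel
  apply poinc_chain_step chevF4 mem_seven_F4 wtblKF4_3 wtblJF4_3 (by decide) (by decide)
    wtblF4_3 (by rw [hlen3]; norm_num) (fun t ht => chkWTblF4_3 t (by rw [hlen3] at ht; exact ht))
    chkWTblF4_3_nd q
  exact poinc_nil chevF4 mem_seven_F4 q

theorem mem_seven_E6 : chevE6 ∈ Seven := by simp [Seven]

set_option maxRecDepth 1000000 in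
theorem wpoly_E6 : (mulP (stepPoly wtblE6_0) (mulP (stepPoly wtblE6_1) (mulP (stepPoly wtblE6_2) (mulP (stepPoly wtblE6_3) (mulP (stepPoly wtblE6_4) (mulP (stepPoly wtblE6_5) [1])))))) = degPoly [2, 5, 6, 8, 9, 12] := by
  decide +kernel

/-- `∑_{w ∈ W} q^{N(w)}` for the type `E6` -/
theorem poinc_E6 (q : ℕ) : poinc chevE6 mem_seven_E6 {i | i ∈ List.range chevE6.rank} q
    = ([2, 5, 6, 8, 9, 12].map fun d => ∑ e ∈ Finset.range d, q ^ e).prod := by
  rw [← evalP_degPoly, ← wpoly_E6]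
  have hK : List.range chevE6.rank = wtblKE6_0 := by decide
  rw [hK]
  have hlen0 : wtblE6_0.length = 27 := by decide +kernel
  apply poinc_chain_step chevE6 mem_seven_E6 wtblKE6_0 wtblJE6_0 (by decide) (by decide)
    wtblE6_0 (by rw [hlen0]; norm_num) (fun t ht => chkWTblE6_0 t (by rw [hlen0] at ht; exact ht))
    chkWTblE6_0_nd q
  show poinc chevE6 mem_seven_E6 {i | i ∈ wtblKE6_1} q = _
  have hlen1 : wtblE6_1.length = 10 := by decide +kernel
  apply poinc_chain_step chevE6 mem_seven_E6 wtblKE6_1 wtblJE6_1 (by decide) (by decide)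
    wtblE6_1 (by rw [hlen1]; norm_num) (fun t ht => chkWTblE6_1 t (by rw [hlen1] at ht; exact ht))
    chkWTblE6_1_nd q
  show poinc chevE6 mem_seven_E6 {i | i ∈ wtblKE6_2} q = _
  have hlen2 : wtblE6_2.length = 8 := by decide +kernel
  apply poinc_chain_step chevE6 mem_seven_E6 wtblKE6_2 wtblJE6_2 (by decide) (by decide)
    wtblE6_2 (by rw [hlen2]; norm_num) (fun t ht => chkWTblE6_2 t (by rw [hlen2] at ht; exact ht))
    chkWTblE6_2_nd q
  show poinc chevE6 mem_seven_E6 {i | i ∈ wtblKE6_3} q = _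
  have hlen3 : wtblE6_3.length = 4 := by decide +kernel
  apply poinc_chain_step chevE6 mem_seven_E6 wtblKE6_3 wtblJE6_3 (by decide) (by decide)
    wtblE6_3 (by rw [hlen3]; norm_num) (fun t ht => chkWTblE6_3 t (by rw [hlen3] at ht; exact ht))
    chkWTblE6_3_nd q
  show poinc chevE6 mem_seven_E6 {i | i ∈ wtblKE6_4} q = _
  have hlen4 : wtblE6_4.length = 3 := by decide +kernel
  apply poinc_chain_step chevE6 mem_seven_E6 wtblKE6_4 wtblJE6_4 (by decide) (by decide)
    wtblE6_4 (by rw [hlen4]; norm_num) (fun t ht => chkWTblE6_4 t (by rw [hlen4] at ht; exact ht))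
    chkWTblE6_4_nd q
  show poinc chevE6 mem_seven_E6 {i | i ∈ wtblKE6_5} q = _
  have hlen5 : wtblE6_5.length = 2 := by decide +kernel
  apply poinc_chain_step chevE6 mem_seven_E6 wtblKE6_5 wtblJE6_5 (by decide) (by decide)
    wtblE6_5 (by rw [hlen5]; norm_num) (fun t ht => chkWTblE6_5 t (by rw [hlen5] at ht; exact ht))
    chkWTblE6_5_nd q
  exact poinc_nil chevE6 mem_seven_E6 q

theorem mem_seven_E7 : chevE7 ∈ Seven := by simp [Seven]

set_option maxRecDepth 1000000 in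
theorem wpoly_E7 : (mulP (stepPoly wtblE7_0) (mulP (stepPoly wtblE7_1) (mulP (stepPoly wtblE7_2) (mulP (stepPoly wtblE7_3) (mulP (stepPoly wtblE7_4) (mulP (stepPoly wtblE7_5) (mulP (stepPoly wtblE7_6) [1]))))))) = degPoly [2, 6, 8, 10, 12, 14, 18] := by
  decide +kernel

/-- `∑_{w ∈ W} q^{N(w)}` for the type `E7` -/
theorem poinc_E7 (q : ℕ) : poinc chevE7 mem_seven_E7 {i | i ∈ List.range chevE7.rank} q
    = ([2, 6, 8, 10, 12, 14, 18].map fun d => ∑ e ∈ Finset.range d, q ^ e).prod := by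
  rw [← evalP_degPoly, ← wpoly_E7]
  have hK : List.range chevE7.rank = wtblKE7_0 := by decide
  rw [hK]
  have hlen0 : wtblE7_0.length = 56 := by decide +kernel
  apply poinc_chain_step chevE7 mem_seven_E7 wtblKE7_0 wtblJE7_0 (by decide) (by decide)
    wtblE7_0 (by rw [hlen0]; norm_num) (fun t ht => chkWTblE7_0 t (by rw [hlen0] at ht; exact ht))
    chkWTblE7_0_nd q
  show poinc chevE7 mem_seven_E7 {i | i ∈ wtblKE7_1} q = _
  have hlen1 : wtblE7_1.length = 27 := by decide +kernel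
  apply poinc_chain_step chevE7 mem_seven_E7 wtblKE7_1 wtblJE7_1 (by decide) (by decide)
    wtblE7_1 (by rw [hlen1]; norm_num) (fun t ht => chkWTblE7_1 t (by rw [hlen1] at ht; exact ht))
    chkWTblE7_1_nd q
  show poinc chevE7 mem_seven_E7 {i | i ∈ wtblKE7_2} q = _
  have hlen2 : wtblE7_2.length = 10 := by decide +kernel
  apply poinc_chain_step chevE7 mem_seven_E7 wtblKE7_2 wtblJE7_2 (by decide) (by decide)
    wtblE7_2 (by rw [hlen2]; norm_num) (fun t ht => chkWTblE7_2 t (by rw [hlen2] at ht; exact ht))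
    chkWTblE7_2_nd q
  show poinc chevE7 mem_seven_E7 {i | i ∈ wtblKE7_3} q = _
  have hlen3 : wtblE7_3.length = 8 := by decide +kernel
  apply poinc_chain_step chevE7 mem_seven_E7 wtblKE7_3 wtblJE7_3 (by decide) (by decide)
    wtblE7_3 (by rw [hlen3]; norm_num) (fun t ht => chkWTblE7_3 t (by rw [hlen3] at ht; exact ht))
    chkWTblE7_3_nd q
  show poinc chevE7 mem_seven_E7 {i | i ∈ wtblKE7_4} q = _
  have hlen4 : wtblE7_4.length = 4 := by decide +kernel
  apply poinc_chain_step chevE7 mem_seven_E7 wtblKE7_4 wtblJE7_4 (by decide) (by decide)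
    wtblE7_4 (by rw [hlen4]; norm_num) (fun t ht => chkWTblE7_4 t (by rw [hlen4] at ht; exact ht))
    chkWTblE7_4_nd q
  show poinc chevE7 mem_seven_E7 {i | i ∈ wtblKE7_5} q = _
  have hlen5 : wtblE7_5.length = 3 := by decide +kernel
  apply poinc_chain_step chevE7 mem_seven_E7 wtblKE7_5 wtblJE7_5 (by decide) (by decide)
    wtblE7_5 (by rw [hlen5]; norm_num) (fun t ht => chkWTblE7_5 t (by rw [hlen5] at ht; exact ht))
    chkWTblE7_5_nd q
  show poinc chevE7 mem_seven_E7 {i | i ∈ wtblKE7_6} q = _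
  have hlen6 : wtblE7_6.length = 2 := by decide +kernel
  apply poinc_chain_step chevE7 mem_seven_E7 wtblKE7_6 wtblJE7_6 (by decide) (by decide)
    wtblE7_6 (by rw [hlen6]; norm_num) (fun t ht => chkWTblE7_6 t (by rw [hlen6] at ht; exact ht))
    chkWTblE7_6_nd q
  exact poinc_nil chevE7 mem_seven_E7 q

theorem mem_seven_E8 : chevE8 ∈ Seven := by simp [Seven]

set_option maxRecDepth 1000000 in
theorem wpoly_E8 : (mulP (stepPoly wtblE8_0) (mulP (stepPoly wtblE8_1) (mulP (stepPoly wtblE8_2) (mulP (stepPoly wtblE8_3) (mulP (stepPoly wtblE8_4) (mulP (stepPoly wtblE8_5) (mulP (stepPoly wtblE8_6) (mulP (stepPoly wtblE8_7) [1])))))))) = degPoly [2, 8, 12, 14, 18, 20, 24, 30] := by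
  decide +kernel

/-- `∑_{w ∈ W} q^{N(w)}` for the type `E8` -/
theorem poinc_E8 (q : ℕ) : poinc chevE8 mem_seven_E8 {i | i ∈ List.range chevE8.rank} q
    = ([2, 8, 12, 14, 18, 20, 24, 30].map fun d => ∑ e ∈ Finset.range d, q ^ e).prod := by
  rw [← evalP_degPoly, ← wpoly_E8]
  have hK : List.range chevE8.rank = wtblKE8_0 := by decide
  rw [hK]
  have hlen0 : wtblE8_0.length = 240 := by decide +kernel
  apply poinc_chain_step chevE8 mem_seven_E8 wtblKE8_0 wtblJE8_0 (by decide) (by decide)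
    wtblE8_0 (by rw [hlen0]; norm_num) (fun t ht => chkWTblE8_0 t (by rw [hlen0] at ht; exact ht))
    chkWTblE8_0_nd q
  show poinc chevE8 mem_seven_E8 {i | i ∈ wtblKE8_1} q = _
  have hlen1 : wtblE8_1.length = 56 := by decide +kernel
  apply poinc_chain_step chevE8 mem_seven_E8 wtblKE8_1 wtblJE8_1 (by decide) (by decide)
    wtblE8_1 (by rw [hlen1]; norm_num) (fun t ht => chkWTblE8_1 t (by rw [hlen1] at ht; exact ht))
    chkWTblE8_1_nd q
  show poinc chevE8 mem_seven_E8 {i | i ∈ wtblKE8_2} q = _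
  have hlen2 : wtblE8_2.length = 27 := by decide +kernel
  apply poinc_chain_step chevE8 mem_seven_E8 wtblKE8_2 wtblJE8_2 (by decide) (by decide)
    wtblE8_2 (by rw [hlen2]; norm_num) (fun t ht => chkWTblE8_2 t (by rw [hlen2] at ht; exact ht))
    chkWTblE8_2_nd q
  show poinc chevE8 mem_seven_E8 {i | i ∈ wtblKE8_3} q = _
  have hlen3 : wtblE8_3.length = 10 := by decide +kernel
  apply poinc_chain_step chevE8 mem_seven_E8 wtblKE8_3 wtblJE8_3 (by decide) (by decide)
    wtblE8_3 (by rw [hlen3]; norm_num) (fun t ht => chkWTblE8_3 t (by rw [hlen3] at ht; exact ht))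
    chkWTblE8_3_nd q
  show poinc chevE8 mem_seven_E8 {i | i ∈ wtblKE8_4} q = _
  have hlen4 : wtblE8_4.length = 8 := by decide +kernel
  apply poinc_chain_step chevE8 mem_seven_E8 wtblKE8_4 wtblJE8_4 (by decide) (by decide)
    wtblE8_4 (by rw [hlen4]; norm_num) (fun t ht => chkWTblE8_4 t (by rw [hlen4] at ht; exact ht))
    chkWTblE8_4_nd q
  show poinc chevE8 mem_seven_E8 {i | i ∈ wtblKE8_5} q = _
  have hlen5 : wtblE8_5.length = 4 := by decide +kernel
  apply poinc_chain_step chevE8 mem_seven_E8 wtblKE8_5 wtblJE8_5 (by decide) (by decide)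
    wtblE8_5 (by rw [hlen5]; norm_num) (fun t ht => chkWTblE8_5 t (by rw [hlen5] at ht; exact ht))
    chkWTblE8_5_nd q
  show poinc chevE8 mem_seven_E8 {i | i ∈ wtblKE8_6} q = _
  have hlen6 : wtblE8_6.length = 3 := by decide +kernel
  apply poinc_chain_step chevE8 mem_seven_E8 wtblKE8_6 wtblJE8_6 (by decide) (by decide)
    wtblE8_6 (by rw [hlen6]; norm_num) (fun t ht => chkWTblE8_6 t (by rw [hlen6] at ht; exact ht))
    chkWTblE8_6_nd q
  show poinc chevE8 mem_seven_E8 {i | i ∈ wtblKE8_7} q = _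
  have hlen7 : wtblE8_7.length = 2 := by decide +kernel
  apply poinc_chain_step chevE8 mem_seven_E8 wtblKE8_7 wtblJE8_7 (by decide) (by decide)
    wtblE8_7 (by rw [hlen7]; norm_num) (fun t ht => chkWTblE8_7 t (by rw [hlen7] at ht; exact ht))
    chkWTblE8_7_nd q
  exact poinc_nil chevE8 mem_seven_E8 q

end Cfsg.Agent.Lib.Helper5.ChevStruct
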