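import Mathlib
import Cfsg.Prelude.Def_ChevStructure
import Cfsg.Agent.Lib.Helper5.ChevGroupCard
import Cfsg.Agent.Lib.Helper5.ChevTorusKer
import Cfsg.Agent.Lib.Helper5.ChevWPoinc

set_option autoImplicit false

/-!
The order formula `d |G| = q^N ∏ (q^{d_i} - 1)` for the Chevalley groups over finite fields.
-/

namespace Cfsg.Agent.Lib.Helper5.ChevStruct

open Cfsg Cfsg.Lie Cfsg.Agent.Lib.Helper5.ChevSym Cfsg.Agent.Lib.Helper5.MatPow

theorem pred_mul_geom_sum (q d : ℕ) (hq : 1 ≤ q) :
    (q - 1) * ∑ e ∈ Finset.range d, q ^ e = q ^ d - 1 := by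
  obtain ⟨k, rfl⟩ : ∃ k, q = k + 1 := ⟨q - 1, by omega⟩
  rw [Nat.add_sub_cancel]
  induction d with
  | zero => simp
  | succ d ih =>
    rw [Finset.sum_range_succ, mul_add, ih, pow_succ]
    have h1 : 1 ≤ (k + 1) ^ d := Nat.one_le_pow _ _ (by omega)
    have h2 : (k + 1) ^ d * (k + 1) = k * (k + 1) ^ d + (k + 1) ^ d := by ring
    rw [h2]
    omega

theorem pow_length_mul_prod_geom (q : ℕ) (hq : 1 ≤ q) (ds : List ℕ) :
    (q - 1) ^ ds.length * (ds.map fun d => ∑ e ∈ Finset.range d, q ^ e).prod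
      = (ds.map fun d => q ^ d - 1).prod := by
  induction ds with
  | nil => simp
  | cons d ds ih =>
    rw [List.length_cons, List.map_cons, List.prod_cons, List.map_cons, List.prod_cons, ← ih,
      ← pred_mul_geom_sum q d hq, pow_succ]
    ring

variable {F : Type*} [Field F]

/-- the order formula, from the value of `∑_{w ∈ W} q^{N(w)}` and the order of the kernel of
`(Fˣ)^l → H` -/
theorem card_group_formula [Fintype F] (D : ChevalleyDatum) (hD : D ∈ Seven) (ds : List ℕ)
    (d : ℕ) (hlen : ds.length = D.rank)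
    (hp : ∀ q, poinc D hD (fullSet D) q = (ds.map fun d => ∑ e ∈ Finset.range d, q ^ e).prod)
    (hk : Nat.card (mpow (fmat (cartanFn D) D.rank) :
      (Fin D.rank → Fˣ) →* (Fin D.rank → Fˣ)).ker = d) :
    d * Nat.card (D.group F)
      = Fintype.card F ^ (D.nroots / 2) * (ds.map fun d => Fintype.card F ^ d - 1).prod := by
  have hq : 1 ≤ Fintype.card F := Fintype.card_pos
  have hH := card_diagonal_mul_card_ker (F := F) D hD
  rw [hk] at hH
  rw [card_group D hD, hp, ← pow_length_mul_prod_geom _ hq ds, hlen, ← hH]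
  ring

/-- `d |H| = (q - 1)^l` -/
theorem card_diagonal_formula [Fintype F] (D : ChevalleyDatum) (hD : D ∈ Seven) (d : ℕ)
    (hk : Nat.card (mpow (fmat (cartanFn D) D.rank) :
      (Fin D.rank → Fˣ) →* (Fin D.rank → Fˣ)).ker = d) :
    d * Nat.card (D.diagonalSubgroup F) = (Fintype.card F - 1) ^ D.rank := by
  rw [← card_diagonal_mul_card_ker (F := F) D hD, hk, mul_comm]

theorem card_units_eq [Fintype F] : Nat.card Fˣ = Fintype.card F - 1 := by
  classical
  rw [Nat.card_eq_fintype_card, Fintype.card_units]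

end Cfsg.Agent.Lib.Helper5.ChevStruct
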