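import Mathlib
import Cfsg.Prelude.Def_ChevStructure
import Cfsg.Prelude.Def_ChevF4
import Cfsg.Agent.Lib.Helper5.UniTri
import Cfsg.Agent.Lib.Helper5.ChevPosUni

set_option autoImplicit false

/-!
The positive unipotent subgroup `U` of a Chevalley group is unitriangular with respect to the grading
of the Lie algebra by the heights of the roots; for `F₄` in characteristic `2` this gives `u ^ 32 = 1`.
-/

namespace Cfsg.Agent.Lib.Helper5.ChevHeight

open Cfsg Cfsg.Lie Cfsg.Agent.Lib.Helper5.UniTri Cfsg.Agent.Lib.Helper5.ChevPosUni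

/-- The level function of a table of (shifted) heights: the Cartan part sits at level `c`. -/
def lvlH (D : ChevalleyDatum) (ht : List ℕ) (c : ℕ) : D.Idx → ℕ
  | Sum.inl _ => c
  | Sum.inr s => ht.getD s.val 0

/-- The table conditions needed: positive roots lie above level `c`, their negatives below, and
every chain of a positive root moves strictly upwards. -/
def GoodH (D : ChevalleyDatum) (ht : List ℕ) (c : ℕ) : Prop :=
  ∀ r ∈ List.range D.nroots, D.IsPosRoot r →
    (c < ht.getD r 0 ∧ ht.getD (D.negIdx.getD r 0) 0 < c ∧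
      ∀ e ∈ (D.chain.getD r #[]).toList, ∀ p ∈ e.2.toList, ht.getD e.1 0 < ht.getD p.1 0)

instance (D : ChevalleyDatum) (ht : List ℕ) (c : ℕ) : Decidable (GoodH D ht c) := by
  unfold GoodH
  infer_instance

/-- the heights of the roots of `F₄`, shifted by `11` -/
def htF4 : List ℕ := [0, 1, 2, 3, 4, 5, 6, 4, 5, 6, 7, 7, 8, 9, 10, 6, 7, 8, 8, 9, 10, 9, 10, 10,
  12, 12, 13, 12, 13, 14, 14, 15, 16, 12, 13, 14, 15, 15, 16, 17, 18, 16, 17, 18, 19, 20, 21, 22]

set_option maxRecDepth 1000000 in
theorem goodH_F4 : GoodH chevF4 htF4 11 := by decide +kernel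

theorem lvlH_F4_lt (i : chevF4.Idx) : lvlH chevF4 htF4 11 i < 23 := by
  rcases i with i | s
  · show 11 < 23
    norm_num
  · show htF4.getD s.val 0 < 23
    have h : ∀ s : Fin 48, htF4.getD s.val 0 < 23 := by decide
    exact h s

variable {F : Type*} [Field F]

theorem xMat_sub_one_lowerH (D : ChevalleyDatum) (ht : List ℕ) (c : ℕ) (hD : GoodH D ht c) (r : ℕ)
    (hr : D.IsPosRoot r) (t : F) : Lower (lvlH D ht c) 1 (D.xMat F ⟨r, hr.1⟩ t - 1) := by
  obtain ⟨h1, h2, h3⟩ := hD r (List.mem_range.2 hr.1) hr
  intro row col hne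
  rw [Matrix.sub_apply] at hne
  rcases col with i | s
  · rcases row with i' | u
    · exfalso
      apply hne
      simp only [ChevalleyDatum.xMat, Matrix.of_apply, Matrix.one_apply, Sum.inl.injEq]
      exact sub_self _
    · have hur : u = ⟨r, hr.1⟩ := by
        by_contra hur
        apply hne
        simp [ChevalleyDatum.xMat, Matrix.of_apply, hur]
      subst hur
      show c + 1 ≤ ht.getD r 0
      omega
  · by_cases hsr : s = ⟨r, hr.1⟩
    · exfalso
      apply hne
      subst hsr
      rcases row with i' | u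
      · simp [ChevalleyDatum.xMat, Matrix.of_apply]
      · by_cases hu : u = ⟨r, hr.1⟩
        · subst hu
          simp [ChevalleyDatum.xMat, Matrix.of_apply]
        · simp [ChevalleyDatum.xMat, Matrix.of_apply, hu, Matrix.one_apply]
    · by_cases hsn : s.val = D.negIdx.getD r 0
      · rcases row with i' | u
        · show ht.getD s.val 0 + 1 ≤ c
          rw [hsn]
          omega
        · have hur : u = ⟨r, hr.1⟩ := by
            by_contra hur
            apply hne
            by_cases hus : u = s
            · subst hus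
              simp [ChevalleyDatum.xMat, Matrix.of_apply, hsr, hsn]
            · simp [ChevalleyDatum.xMat, Matrix.of_apply, hsr, hsn, hus, hur, Matrix.one_apply]
          subst hur
          show ht.getD s.val 0 + 1 ≤ ht.getD r 0
          rw [hsn]
          omega
      · rcases row with i' | u
        · exfalso
          apply hne
          simp only [ChevalleyDatum.xMat, Matrix.of_apply, hsr, hsn, if_false]
          simp
        · have hc : D.chainCoeff r s.val u.val ≠ [] := by
            intro hc
            apply hne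
            simp only [ChevalleyDatum.xMat, Matrix.of_apply, hsr, hsn, if_false, hc, List.map_nil,
              List.sum_nil, add_zero, Matrix.one_apply, Sum.inr.injEq]
            exact sub_self _
          obtain ⟨e, he, p, hp, hes, hpu⟩ := chainCoeff_ne_nil hc
          have hlt := h3 e he p hp
          rw [hes, hpu] at hlt
          show ht.getD s.val 0 + 1 ≤ ht.getD u.val 0
          omega

theorem x_sub_one_lowerH (D : ChevalleyDatum) (ht : List ℕ) (c : ℕ) (hD : GoodH D ht c) (r : ℕ)
    (hr : D.IsPosRoot r) (t : F) : Lower (lvlH D ht c) 1 (D.x F r t - 1) := by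
  unfold ChevalleyDatum.x
  rw [dif_pos hr.1]
  exact xMat_sub_one_lowerH D ht c hD r hr t

theorem posUnipotent_leH (D : ChevalleyDatum) (ht : List ℕ) (c : ℕ) (hD : GoodH D ht c) :
    D.posUnipotent F ≤ unitri (lvlH D ht c) F 0 := by
  unfold ChevalleyDatum.posUnipotent
  rw [Subgroup.closure_le]
  rintro g ⟨r, t, hr, hg⟩
  show Lower (lvlH D ht c) (0 + 1) ((g : Matrix D.Idx D.Idx F) - 1)
  rw [hg]
  exact x_sub_one_lowerH D ht c hD r hr t

/-- in characteristic `2`, the elements of the unipotent subgroup `U` of `F₄(K)` have order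
dividing `32` -/
theorem pow_thirty_two_eq_one [CharP F 2] (g : GL chevF4.Idx F) (hg : g ∈ chevF4.posUnipotent F) :
    g ^ 32 = 1 := by
  have h1 : Lower (lvlH chevF4 htF4 11) 1 ((g : Matrix chevF4.Idx chevF4.Idx F) - 1) :=
    mem_unitri.1 (posUnipotent_leH chevF4 htF4 11 goodH_F4 hg)
  have h2 : ((g : Matrix chevF4.Idx chevF4.Idx F) - 1) ^ 23 = 0 :=
    Lower.pow_eq_zero lvlH_F4_lt h1
  have h3 : ((g : Matrix chevF4.Idx chevF4.Idx F) - 1) ^ 32 = 0 := by
    have : (32 : ℕ) = 23 + 9 := by norm_num
    rw [this, pow_add, h2, zero_mul]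
  haveI : Nonempty chevF4.Idx := ⟨Sum.inl ⟨0, by decide⟩⟩
  haveI : Fact (Nat.Prime 2) := ⟨Nat.prime_two⟩
  have h4 : (g : Matrix chevF4.Idx chevF4.Idx F) ^ 32 = 1 := by
    have e : (g : Matrix chevF4.Idx chevF4.Idx F) =
        ((g : Matrix chevF4.Idx chevF4.Idx F) - 1) + 1 := by abel
    have e32 : (32 : ℕ) = 2 ^ 5 := by norm_num
    rw [e, e32, add_pow_char_pow_of_commute 2 5 (Commute.one_right _), one_pow, ← e32, h3,
      zero_add]
  apply Units.ext
  rw [Units.val_pow_eq_pow_val, h4, Units.val_one]

end Cfsg.Agent.Lib.Helper5.ChevHeight
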