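import Mathlib
import Cfsg.Prelude.Def_ChevStructure
import Cfsg.Prelude.Def_ChevAutomorphisms
import Cfsg.Agent.Lib.Helper1.AutDefs
import Cfsg.Agent.Lib.Helper1.AutOutDefs
import Cfsg.Agent.Lib.Helper7.OutT8a
import Cfsg.Agent.Lib.Helper5.ChevGraph
import Cfsg.Agent.Lib.Helper5.ChevChk.GraphSyms

set_option autoImplicit false

/-!
S2159, unit T8: in type `D₄` the subgroup `K = ⟨diagonal⟩ ⊔ ⟨field⟩ ⊔ Inn` has index six in the
automorphism group, and some commutator lies outside `K`.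
-/

namespace Cfsg.Agent.Lib.Helper5.AutT8

open Cfsg Cfsg.Lie Cfsg.Agent.Lib.Helper5.ChevSym Cfsg.Agent.Lib.Helper5.ChevStruct
open Cfsg.Agent.Lib.Helper1.ChevAut

variable {F : Type*} [Field F]

theorem memD4 : chevD4 ∈ Seven := by simp [Seven]

theorem isLong_D4 : ∀ j : Fin chevD4.rank, chevD4.isLong (chevD4.simple j) = false := by
  decide +kernel

theorem graphExp_D4 (c : ℕ) (i j : Fin chevD4.rank) : chevD4.graphExp c i j = 1 := by
  unfold ChevalleyDatum.graphExp
  rw [isLong_D4 j]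
  simp

/-- `GraphFor` in type `D₄`: all exponents are `1` -/
theorem graphFor_D4_iff (π : Equiv.Perm (Fin chevD4.rank))
    (φ : ↥(chevD4.group F) ≃* ↥(chevD4.group F)) :
    GraphFor chevD4 π φ ↔ ∀ (g : ↥(chevD4.group F)) (i : Fin chevD4.rank) (t : F),
      (((g : GL chevD4.Idx F) : Matrix chevD4.Idx chevD4.Idx F) = chevD4.x F (chevD4.simple i) t →
        ((φ g : GL chevD4.Idx F) : Matrix chevD4.Idx chevD4.Idx F) =
          chevD4.x F (chevD4.simple (π i)) t) ∧
      (((g : GL chevD4.Idx F) : Matrix chevD4.Idx chevD4.Idx F) =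
          chevD4.x F (chevD4.neg (chevD4.simple i)) t →
        ((φ g : GL chevD4.Idx F) : Matrix chevD4.Idx chevD4.Idx F) =
          chevD4.x F (chevD4.neg (chevD4.simple (π i))) t) := by
  unfold GraphFor
  simp only [graphExp_D4, pow_one]

theorem graphFor_mul {π π' : Equiv.Perm (Fin chevD4.rank)}
    {g g' : MulAut ↥(chevD4.group F)} (h : GraphFor chevD4 π g) (h' : GraphFor chevD4 π' g') :
    GraphFor chevD4 (π * π') (g * g') := by
  rw [graphFor_D4_iff] at h h' ⊢
  intro x i t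
  constructor
  · intro hx
    exact (h (g' x) (π' i) t).1 ((h' x i t).1 hx)
  · intro hx
    exact (h (g' x) (π' i) t).2 ((h' x i t).2 hx)

theorem graphFor_inv {π : Equiv.Perm (Fin chevD4.rank)}
    {g : MulAut ↥(chevD4.group F)} (h : GraphFor chevD4 π g) :
    GraphFor chevD4 π⁻¹ g⁻¹ := by
  rw [graphFor_D4_iff] at h ⊢
  intro x i t
  constructor
  · intro hx
    have hy := (h (xG chevD4 memD4 (chevD4.simple (π⁻¹ i)) t) (π⁻¹ i) t).1 (xG_val ..)
    have e0 : π (π⁻¹ i) = i := by simp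
    rw [e0] at hy
    have e : g (xG chevD4 memD4 (chevD4.simple (π⁻¹ i)) t) = x :=
      Subtype.ext (Units.ext (hy.trans hx.symm))
    rw [← e, MulAut.inv_apply_self]
    exact xG_val ..
  · intro hx
    have hy := (h (xG chevD4 memD4 (chevD4.neg (chevD4.simple (π⁻¹ i))) t) (π⁻¹ i) t).2
      (xG_val ..)
    have e0 : π (π⁻¹ i) = i := by simp
    rw [e0] at hy
    have e : g (xG chevD4 memD4 (chevD4.neg (chevD4.simple (π⁻¹ i))) t) = x :=
      Subtype.ext (Units.ext (hy.trans hx.symm))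
    rw [← e, MulAut.inv_apply_self]
    exact xG_val ..

theorem maps_mul {g g' : MulAut ↥(chevD4.group F)} {K : Subgroup (GL chevD4.Idx F)}
    (h : Maps chevD4 g K K) (h' : Maps chevD4 g' K K) : Maps chevD4 (g * g') K K := by
  intro x
  exact (h (g' x)).trans (h' x)

theorem maps_inv {g : MulAut ↥(chevD4.group F)} {K : Subgroup (GL chevD4.Idx F)}
    (h : Maps chevD4 g K K) : Maps chevD4 g⁻¹ K K := by
  intro x
  have := h (g⁻¹ x)
  rw [MulAut.apply_inv_self] at this
  exact this.symm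

/-- a good automorphism: graph automorphism for `π` preserving `U` and `V` -/
def Good (π : Equiv.Perm (Fin chevD4.rank)) (g : MulAut ↥(chevD4.group F)) : Prop :=
  GraphFor chevD4 π g ∧ Maps chevD4 g (chevD4.posUnipotent F) (chevD4.posUnipotent F) ∧
    Maps chevD4 g (chevD4.negUnipotent F) (chevD4.negUnipotent F)

theorem Good.mul {π π' : Equiv.Perm (Fin chevD4.rank)} {g g' : MulAut ↥(chevD4.group F)}
    (h : Good π g) (h' : Good π' g') : Good (π * π') (g * g') :=
  ⟨graphFor_mul h.1 h'.1, maps_mul h.2.1 h'.2.1, maps_mul h.2.2 h'.2.2⟩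

theorem Good.inv {π : Equiv.Perm (Fin chevD4.rank)} {g : MulAut ↥(chevD4.group F)}
    (h : Good π g) : Good π⁻¹ g⁻¹ :=
  ⟨graphFor_inv h.1, maps_inv h.2.1, maps_inv h.2.2⟩

/-- rigidity (helper7's T8a) -/
theorem Good.eq_one [Finite F] {π : Equiv.Perm (Fin chevD4.rank)} {g : MulAut ↥(chevD4.group F)}
    (h : Good π g) (hK : g ∈ Ksub chevD4 F) : π = 1 :=
  Cfsg.Agent.Lib.Helper7.ChevOutG.graph_in_ksub chevD4 memD4 π g h.1 h.2.1 h.2.2 hK

theorem nrootsD4 : chevD4.nroots = 24 := rfl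

/-- conjugation by the graph matrix maps `U` (resp. `V`) into itself -/
theorem conj_mem_of (G : GraphData) (hP : checkGraphPerm chevD4 G = true)
    (hG : ∀ r < chevD4.nroots, checkGraphAt chevD4 G r = true)
    (P : ℕ → Prop) (hPlt : ∀ r, P r → r < chevD4.nroots)
    (hpr : ∀ r, P r → P (G.pr.getD r 0) ∧ P (G.prInv.getD r 0))
    (u : GL chevD4.Idx F)
    (hu : u ∈ Subgroup.closure {g : GL chevD4.Idx F | ∃ (r : ℕ) (t : F), P r ∧
      (g : Matrix chevD4.Idx chevD4.Idx F) = chevD4.x F r t}) :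
    gGL chevD4 G hP F * u * (gGL chevD4 G hP F)⁻¹ ∈
        Subgroup.closure {g : GL chevD4.Idx F | ∃ (r : ℕ) (t : F), P r ∧
          (g : Matrix chevD4.Idx chevD4.Idx F) = chevD4.x F r t} ∧
      (gGL chevD4 G hP F)⁻¹ * u * gGL chevD4 G hP F ∈
        Subgroup.closure {g : GL chevD4.Idx F | ∃ (r : ℕ) (t : F), P r ∧
          (g : Matrix chevD4.Idx chevD4.Idx F) = chevD4.x F r t} := by
  set S := {g : GL chevD4.Idx F | ∃ (r : ℕ) (t : F), P r ∧
      (g : Matrix chevD4.Idx chevD4.Idx F) = chevD4.x F r t} with hS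
  set M := gGL chevD4 G hP F with hM
  have h1 : Subgroup.closure S ≤ (Subgroup.closure S).comap (MulAut.conj M).toMonoidHom := by
    rw [Subgroup.closure_le]
    rintro g ⟨r, t, hr, hg⟩
    rw [SetLike.mem_coe, Subgroup.mem_comap]
    apply Subgroup.subset_closure
    refine ⟨G.pr.getD r 0, ((G.eps.getD r 1 : ℤ) : F) * t, (hpr r hr).1, ?_⟩
    exact gGL_conj chevD4 G hP hG r (hPlt r hr) t g hg
  have h2 : Subgroup.closure S ≤ (Subgroup.closure S).comap (MulAut.conj M⁻¹).toMonoidHom := by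
    rw [Subgroup.closure_le]
    rintro g ⟨r, t, hr, hg⟩
    rw [SetLike.mem_coe, Subgroup.mem_comap]
    apply Subgroup.subset_closure
    refine ⟨G.prInv.getD r 0, ((G.eps.getD (G.prInv.getD r 0) 1 : ℤ) : F) * t, (hpr r hr).2, ?_⟩
    have := gGL_inv_conj chevD4 G hP hG r (hPlt r hr) t g hg
    simpa [MulAut.conj_apply] using this
  constructor
  · have := h1 hu
    simpa [MulAut.conj_apply] using this
  · have := h2 hu
    simpa [MulAut.conj_apply] using this

/-- existence of good graph automorphisms from graph data -/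
theorem exists_good (G : GraphData) (hP : checkGraphPerm chevD4 G = true)
    (hG : ∀ r < chevD4.nroots, checkGraphAt chevD4 G r = true)
    (π : Equiv.Perm (Fin chevD4.rank))
    (hs : ∀ i : Fin chevD4.rank, G.pr.getD (chevD4.simple i) 0 = chevD4.simple (π i) ∧
      G.eps.getD (chevD4.simple i) 1 = 1 ∧
      G.pr.getD (chevD4.neg (chevD4.simple i)) 0 = chevD4.neg (chevD4.simple (π i)) ∧
      G.eps.getD (chevD4.neg (chevD4.simple i)) 1 = 1)
    (hpos : ∀ r, chevD4.IsPosRoot r →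
      chevD4.IsPosRoot (G.pr.getD r 0) ∧ chevD4.IsPosRoot (G.prInv.getD r 0))
    (hneg : ∀ r, chevD4.IsNegRoot r →
      chevD4.IsNegRoot (G.pr.getD r 0) ∧ chevD4.IsNegRoot (G.prInv.getD r 0)) :
    ∃ g : MulAut ↥(chevD4.group F), Good π g := by
  obtain ⟨α, hα⟩ := exists_graphAut (F := F) chevD4 G hP hG
  have hmaps : ∀ (P : ℕ → Prop), (∀ r, P r → r < chevD4.nroots) →
      (∀ r, P r → P (G.pr.getD r 0) ∧ P (G.prInv.getD r 0)) →
      Maps chevD4 α
        (Subgroup.closure {g : GL chevD4.Idx F | ∃ (r : ℕ) (t : F), P r ∧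
          (g : Matrix chevD4.Idx chevD4.Idx F) = chevD4.x F r t})
        (Subgroup.closure {g : GL chevD4.Idx F | ∃ (r : ℕ) (t : F), P r ∧
          (g : Matrix chevD4.Idx chevD4.Idx F) = chevD4.x F r t}) := by
    intro P hPlt hpr x
    rw [hα x]
    constructor
    · intro h
      have := (conj_mem_of G hP hG P hPlt hpr _ h).2
      have e : (gGL chevD4 G hP F)⁻¹ * (gGL chevD4 G hP F * (x : GL chevD4.Idx F) *
          (gGL chevD4 G hP F)⁻¹) * gGL chevD4 G hP F = x := by group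
      rwa [e] at this
    · intro h
      exact (conj_mem_of G hP hG P hPlt hpr _ h).1
  refine ⟨α, ?_, ?_, ?_⟩
  · rw [graphFor_D4_iff]
    intro x i t
    have hi : chevD4.simple i < chevD4.nroots := simple_lt chevD4 memD4 i i.2
    have hni : chevD4.neg (chevD4.simple i) < chevD4.nroots := (neg_lt chevD4 memD4 _ hi).1
    obtain ⟨h1, h2, h3, h4⟩ := hs i
    constructor
    · intro hx
      rw [hα x, gGL_conj chevD4 G hP hG _ hi t _ hx, h1, h2]
      simp
    · intro hx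
      rw [hα x, gGL_conj chevD4 G hP hG _ hni t _ hx, h3, h4]
      simp
  · exact hmaps chevD4.IsPosRoot (fun r hr => hr.1) hpos
  · exact hmaps chevD4.IsNegRoot (fun r hr => hr.1) hneg

theorem pos_gD4id : ∀ r, chevD4.IsPosRoot r →
    chevD4.IsPosRoot (gD4id.pr.getD r 0) ∧ chevD4.IsPosRoot (gD4id.prInv.getD r 0) := by
  have h : ∀ r < 24, chevD4.IsPosRoot r →
      chevD4.IsPosRoot (gD4id.pr.getD r 0) ∧ chevD4.IsPosRoot (gD4id.prInv.getD r 0) := by
    decide +kernel
  exact fun r hr => h r hr.1 hr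

theorem neg_gD4id : ∀ r, chevD4.IsNegRoot r →
    chevD4.IsNegRoot (gD4id.pr.getD r 0) ∧ chevD4.IsNegRoot (gD4id.prInv.getD r 0) := by
  have h : ∀ r < 24, chevD4.IsNegRoot r →
      chevD4.IsNegRoot (gD4id.pr.getD r 0) ∧ chevD4.IsNegRoot (gD4id.prInv.getD r 0) := by
    decide +kernel
  exact fun r hr => h r hr.1 hr

theorem pos_gD4s02 : ∀ r, chevD4.IsPosRoot r →
    chevD4.IsPosRoot (gD4s02.pr.getD r 0) ∧ chevD4.IsPosRoot (gD4s02.prInv.getD r 0) := by
  have h : ∀ r < 24, chevD4.IsPosRoot r →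
      chevD4.IsPosRoot (gD4s02.pr.getD r 0) ∧ chevD4.IsPosRoot (gD4s02.prInv.getD r 0) := by
    decide +kernel
  exact fun r hr => h r hr.1 hr

theorem neg_gD4s02 : ∀ r, chevD4.IsNegRoot r →
    chevD4.IsNegRoot (gD4s02.pr.getD r 0) ∧ chevD4.IsNegRoot (gD4s02.prInv.getD r 0) := by
  have h : ∀ r < 24, chevD4.IsNegRoot r →
      chevD4.IsNegRoot (gD4s02.pr.getD r 0) ∧ chevD4.IsNegRoot (gD4s02.prInv.getD r 0) := by
    decide +kernel
  exact fun r hr => h r hr.1 hr

theorem pos_gD4s03 : ∀ r, chevD4.IsPosRoot r →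
    chevD4.IsPosRoot (gD4s03.pr.getD r 0) ∧ chevD4.IsPosRoot (gD4s03.prInv.getD r 0) := by
  have h : ∀ r < 24, chevD4.IsPosRoot r →
      chevD4.IsPosRoot (gD4s03.pr.getD r 0) ∧ chevD4.IsPosRoot (gD4s03.prInv.getD r 0) := by
    decide +kernel
  exact fun r hr => h r hr.1 hr

theorem neg_gD4s03 : ∀ r, chevD4.IsNegRoot r →
    chevD4.IsNegRoot (gD4s03.pr.getD r 0) ∧ chevD4.IsNegRoot (gD4s03.prInv.getD r 0) := by
  have h : ∀ r < 24, chevD4.IsNegRoot r →
      chevD4.IsNegRoot (gD4s03.pr.getD r 0) ∧ chevD4.IsNegRoot (gD4s03.prInv.getD r 0) := by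
    decide +kernel
  exact fun r hr => h r hr.1 hr

theorem pos_gD4s23 : ∀ r, chevD4.IsPosRoot r →
    chevD4.IsPosRoot (gD4s23.pr.getD r 0) ∧ chevD4.IsPosRoot (gD4s23.prInv.getD r 0) := by
  have h : ∀ r < 24, chevD4.IsPosRoot r →
      chevD4.IsPosRoot (gD4s23.pr.getD r 0) ∧ chevD4.IsPosRoot (gD4s23.prInv.getD r 0) := by
    decide +kernel
  exact fun r hr => h r hr.1 hr

theorem neg_gD4s23 : ∀ r, chevD4.IsNegRoot r →
    chevD4.IsNegRoot (gD4s23.pr.getD r 0) ∧ chevD4.IsNegRoot (gD4s23.prInv.getD r 0) := by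
  have h : ∀ r < 24, chevD4.IsNegRoot r →
      chevD4.IsNegRoot (gD4s23.pr.getD r 0) ∧ chevD4.IsNegRoot (gD4s23.prInv.getD r 0) := by
    decide +kernel
  exact fun r hr => h r hr.1 hr

theorem pos_gD4a : ∀ r, chevD4.IsPosRoot r →
    chevD4.IsPosRoot (gD4a.pr.getD r 0) ∧ chevD4.IsPosRoot (gD4a.prInv.getD r 0) := by
  have h : ∀ r < 24, chevD4.IsPosRoot r →
      chevD4.IsPosRoot (gD4a.pr.getD r 0) ∧ chevD4.IsPosRoot (gD4a.prInv.getD r 0) := by
    decide +kernel
  exact fun r hr => h r hr.1 hr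

theorem neg_gD4a : ∀ r, chevD4.IsNegRoot r →
    chevD4.IsNegRoot (gD4a.pr.getD r 0) ∧ chevD4.IsNegRoot (gD4a.prInv.getD r 0) := by
  have h : ∀ r < 24, chevD4.IsNegRoot r →
      chevD4.IsNegRoot (gD4a.pr.getD r 0) ∧ chevD4.IsNegRoot (gD4a.prInv.getD r 0) := by
    decide +kernel
  exact fun r hr => h r hr.1 hr

theorem pos_gD4b : ∀ r, chevD4.IsPosRoot r →
    chevD4.IsPosRoot (gD4b.pr.getD r 0) ∧ chevD4.IsPosRoot (gD4b.prInv.getD r 0) := by
  have h : ∀ r < 24, chevD4.IsPosRoot r →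
      chevD4.IsPosRoot (gD4b.pr.getD r 0) ∧ chevD4.IsPosRoot (gD4b.prInv.getD r 0) := by
    decide +kernel
  exact fun r hr => h r hr.1 hr

theorem neg_gD4b : ∀ r, chevD4.IsNegRoot r →
    chevD4.IsNegRoot (gD4b.pr.getD r 0) ∧ chevD4.IsNegRoot (gD4b.prInv.getD r 0) := by
  have h : ∀ r < 24, chevD4.IsNegRoot r →
      chevD4.IsNegRoot (gD4b.pr.getD r 0) ∧ chevD4.IsNegRoot (gD4b.prInv.getD r 0) := by
    decide +kernel
  exact fun r hr => h r hr.1 hr

/-- the six symmetries of the diagram `D₄` -/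
def symList : List (Equiv.Perm (Fin 4)) := [pD4id, pD4s02, pD4s03, pD4s23, pD4a, pD4b]

theorem exists_good_of_mem (p : Equiv.Perm (Fin 4)) (hp : p ∈ symList) :
    ∃ g : MulAut ↥(chevD4.group F), Good p g := by
  simp only [symList, List.mem_cons, List.not_mem_nil, or_false] at hp
  rcases hp with rfl | rfl | rfl | rfl | rfl | rfl
  · exact exists_good gD4id chkGraphPerm_gD4id chkGraph_gD4id pD4id simple_gD4id pos_gD4id neg_gD4id
  · exact exists_good gD4s02 chkGraphPerm_gD4s02 chkGraph_gD4s02 pD4s02 simple_gD4s02 pos_gD4s02 neg_gD4s02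
  · exact exists_good gD4s03 chkGraphPerm_gD4s03 chkGraph_gD4s03 pD4s03 simple_gD4s03 pos_gD4s03 neg_gD4s03
  · exact exists_good gD4s23 chkGraphPerm_gD4s23 chkGraph_gD4s23 pD4s23 simple_gD4s23 pos_gD4s23 neg_gD4s23
  · exact exists_good gD4a chkGraphPerm_gD4a chkGraph_gD4a pD4a simple_gD4a pos_gD4a neg_gD4a
  · exact exists_good gD4b chkGraphPerm_gD4b chkGraph_gD4b pD4b simple_gD4b pos_gD4b neg_gD4b

theorem symList_card : symList.toFinset.card = 6 := by decide +kernel

theorem card_symm_D4_le' :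
    Nat.card {π : Equiv.Perm (Fin 4) // ∀ i j : Fin 4, i ≠ j →
      chevD4.bonds (π i) (π j) = chevD4.bonds i j} ≤ 6 := by
  classical
  rw [Nat.card_eq_fintype_card, Fintype.card_subtype]
  calc (Finset.univ.filter fun π : Equiv.Perm (Fin 4) => ∀ i j : Fin 4, i ≠ j →
          chevD4.bonds (π i) (π j) = chevD4.bonds i j).card ≤ symList.toFinset.card := by
        apply Finset.card_le_card
        intro π hπ
        rw [List.mem_toFinset]
        have h := d4_syms_or π (Finset.mem_filter.1 hπ).2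
        simp only [symList, List.mem_cons, List.not_mem_nil, or_false]
        exact h
    _ = 6 := symList_card

theorem card_symm_D4_le :
    Nat.card {π : Equiv.Perm (Fin chevD4.rank) // chevD4.IsDiagramSymmetry π} ≤ 6 :=
  card_symm_D4_le'

theorem comm_ne_one : pD4s02 * pD4s03 * pD4s02⁻¹ * pD4s03⁻¹ ≠ 1 := by decide +kernel

/-- **T8** (with the index bound `ksub_index_le` as a hypothesis) -/
theorem d4_index_of [Finite F]
    (hle : (Ksub chevD4 F).index ≤
      Nat.card {π : Equiv.Perm (Fin chevD4.rank) // chevD4.IsDiagramSymmetry π}) :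
    (Ksub chevD4 F).index = 6 ∧
      ∃ g₁ g₂ : MulAut ↥(chevD4.group F), g₁ * g₂ * g₁⁻¹ * g₂⁻¹ ∉ Ksub chevD4 F := by
  classical
  choose! γ hγ using (exists_good_of_mem (F := F))
  have hinj : ∀ p ∈ symList, ∀ p' ∈ symList,
      (QuotientGroup.mk (γ p) : MulAut ↥(chevD4.group F) ⧸ Ksub chevD4 F) = QuotientGroup.mk (γ p') →
        p = p' := by
    intro p hp p' hp' h
    rw [QuotientGroup.eq] at h
    have hgood := (hγ p hp).inv.mul (hγ p' hp')
    have := hgood.eq_one h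
    exact inv_mul_eq_one.1 this
  have : Finite (MulAut ↥(chevD4.group F)) := inferInstance
  letI : Fintype (MulAut ↥(chevD4.group F) ⧸ Ksub chevD4 F) := Fintype.ofFinite _
  have hcard : (symList.toFinset.image fun p =>
      (QuotientGroup.mk (γ p) : MulAut ↥(chevD4.group F) ⧸ Ksub chevD4 F)).card = 6 := by
    rw [Finset.card_image_of_injOn, symList_card]
    intro p hp p' hp' h
    exact hinj p (List.mem_toFinset.1 hp) p' (List.mem_toFinset.1 hp') h
  have h6 : 6 ≤ (Ksub chevD4 F).index := by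
    calc 6 = _ := hcard.symm
      _ ≤ Fintype.card (MulAut ↥(chevD4.group F) ⧸ Ksub chevD4 F) := Finset.card_le_univ _
      _ = (Ksub chevD4 F).index := by rw [Subgroup.index, Nat.card_eq_fintype_card]
  refine ⟨le_antisymm (hle.trans card_symm_D4_le) h6, γ pD4s02, γ pD4s03, ?_⟩
  intro hK
  have h1 : pD4s02 ∈ symList := by simp [symList]
  have h2 : pD4s03 ∈ symList := by simp [symList]
  have hgood := (((hγ _ h1).mul (hγ _ h2)).mul (hγ _ h1).inv).mul (hγ _ h2).inv
  exact comm_ne_one (hgood.eq_one hK)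

end Cfsg.Agent.Lib.Helper5.AutT8
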