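import Mathlib
import Cfsg.Agent.Lib.Helper5.MatPowChk

set_option autoImplicit false

/-!
The kernel of `c ↦ c^M` through a diagonal form `P M Q = diag(e)`: it is the image under `c ↦ c^P`
of the families `y` with `y_j^{e_j} = 1`.
-/

namespace Cfsg.Agent.Lib.Helper5.MatPow

open Matrix

variable {G : Type*} [CommGroup G] {l : ℕ}

theorem mem_ker_mpow_iff (C P P' Q Q' : Matrix (Fin l) (Fin l) ℤ)
    (e : Fin l → ℕ) (hP' : P' * P = 1) (hQ : Q * Q' = 1)
    (hE : P * C * Q = Matrix.diagonal (fun j => (e j : ℤ))) (z : Fin l → G) :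
    z ∈ (mpow C : (Fin l → G) →* (Fin l → G)).ker ↔
      ∃ y : Fin l → G, (∀ j, y j ^ (e j) = 1) ∧ z = mpow P y := by
  have key : ∀ y : Fin l → G, mpow C (mpow P y) = 1 ↔ ∀ j, y j ^ (e j) = 1 := by
    intro y
    rw [mpow_mpow]
    constructor
    · intro h j
      have h2 : mpow (P * C * Q) y = 1 := by
        rw [← mpow_mpow, h, map_one]
      rw [hE] at h2
      have := congrFun h2 j
      rw [mpow_diagonal, Pi.one_apply, zpow_natCast] at this
      exact this
    · intro h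
      have h2 : mpow (P * C * Q) y = 1 := by
        rw [hE]
        funext j
        rw [mpow_diagonal, Pi.one_apply, zpow_natCast]
        exact h j
      have h3 : mpow Q' (mpow (P * C * Q) y) = 1 := by rw [h2, map_one]
      rwa [mpow_mpow, Matrix.mul_assoc, hQ, Matrix.mul_one] at h3
  rw [MonoidHom.mem_ker]
  constructor
  · intro h
    have e1 : z = mpow P (mpow P' z) := by rw [mpow_mpow, hP', mpow_one]
    refine ⟨mpow P' z, ?_, e1⟩
    rw [e1] at h
    exact (key _).1 h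
  · rintro ⟨y, hy, rfl⟩
    exact (key y).2 hy

/-- the same with a certificate given by lists -/
theorem mem_ker_mpow_of_check (l : ℕ) (C : ℕ → ℕ → ℤ) (P P' Q Q' : List (List ℤ)) (e : List ℕ)
    (h2 : isOneB (fmul (lfun P') (lfun P) l) l = true)
    (h3 : isOneB (fmul (lfun Q) (lfun Q') l) l = true)
    (h4 : isDiagB (fmul (fmul (lfun P) C l) (lfun Q) l) (fun i => e.getD i 0) l = true)
    (z : Fin l → G) :
    z ∈ (mpow (fmat C l) : (Fin l → G) →* (Fin l → G)).ker ↔
      ∃ y : Fin l → G, (∀ j : Fin l, y j ^ (e.getD j.val 0) = 1) ∧ z = mpow (fmat (lfun P) l) y := by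
  apply mem_ker_mpow_iff (fmat C l) (fmat (lfun P) l) (fmat (lfun P') l) (fmat (lfun Q) l)
    (fmat (lfun Q') l) (fun j => e.getD j.val 0)
  · rw [fmat_mul, fmat_eq_one _ _ h2]
  · rw [fmat_mul, fmat_eq_one _ _ h3]
  · rw [fmat_mul, fmat_mul, fmat_eq_diagonal _ _ _ h4]

/-- the exponent of the kernel -/
theorem ker_mpow_pow_eq_one (l : ℕ) (C : ℕ → ℕ → ℤ) (P P' Q Q' : List (List ℤ)) (e : List ℕ)
    (h2 : isOneB (fmul (lfun P') (lfun P) l) l = true)
    (h3 : isOneB (fmul (lfun Q) (lfun Q') l) l = true)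
    (h4 : isDiagB (fmul (fmul (lfun P) C l) (lfun Q) l) (fun i => e.getD i 0) l = true)
    (E : ℕ) (hE : ∀ j < l, e.getD j 0 ∣ E) (z : Fin l → G)
    (hz : z ∈ (mpow (fmat C l) : (Fin l → G) →* (Fin l → G)).ker) : z ^ E = 1 := by
  obtain ⟨y, hy, rfl⟩ := (mem_ker_mpow_of_check l C P P' Q Q' e h2 h3 h4 z).1 hz
  rw [← map_pow]
  have : y ^ E = 1 := by
    funext j
    obtain ⟨k, hk⟩ := hE j.val j.isLt
    rw [Pi.pow_apply, Pi.one_apply, hk, pow_mul, hy j, one_pow]
  rw [this, map_one]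

end Cfsg.Agent.Lib.Helper5.MatPow
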