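import Mathlib
import Cfsg.Prelude.Def_ClassicalGeometry

set_option autoImplicit false
open Cfsg

namespace Cfsg.Agent.Lib.Helper5.Refl

open Matrix QuadraticMap

variable {ι : Type} [Fintype ι] [DecidableEq ι] {F : Type*} [Field F]

theorem polarVec_dotProduct (Q : QuadraticForm F (ι → F)) (v x : ι → F) :
    polarVec (⇑Q) v ⬝ᵥ x = polar (⇑Q) v x := by
  have h := LinearMap.pi_apply_eq_sum_univ (polarBilin Q v) x
  rw [polarBilin_apply_apply] at h
  rw [h]
  unfold polarVec dotProduct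
  refine Finset.sum_congr rfl fun j _ => ?_
  rw [polarBilin_apply_apply, smul_eq_mul, mul_comm]
  show x j * polar (⇑Q) v (Pi.single j 1) = x j * polar (⇑Q) v (fun k => if j = k then 1 else 0)
  congr 2
  funext k
  simp [Pi.single_apply, eq_comm]

theorem det_one_add_smul_vecMulVec (c : F) (u w : ι → F) :
    det (1 + c • vecMulVec u w) = 1 + c * (w ⬝ᵥ u) := by
  rw [← smul_vecMulVec, vecMulVec_eq Unit, det_one_add_replicateCol_mul_replicateRow,
    dotProduct_smul, smul_eq_mul]

omit [Fintype ι] [DecidableEq ι] in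
theorem quad_add_smul (Q : QuadraticForm F (ι → F)) (x v : ι → F) (a : F) :
    Q (x + a • v) = Q x + a * a * Q v + a * polar (⇑Q) x v := by
  have : Q (x + a • v) = Q x + Q (a • v) + polar (⇑Q) x (a • v) := by
    simp only [polar]; ring
  rw [this, QuadraticMap.map_smul, polar_smul_right, smul_eq_mul, smul_eq_mul]

theorem reflectionMatrix_mulVec (Q : QuadraticForm F (ι → F)) (v x : ι → F) :
    reflectionMatrix (⇑Q) v *ᵥ x = x - ((Q v)⁻¹ * polar (⇑Q) v x) • v := by
  unfold reflectionMatrix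
  rw [sub_mulVec, one_mulVec, smul_mulVec, vecMulVec_mulVec, polarVec_dotProduct]
  ext i
  simp [mul_comm, mul_left_comm]

theorem reflection_preserves (Q : QuadraticForm F (ι → F)) (v : ι → F) (hv : Q v ≠ 0) (x : ι → F) :
    Q (reflectionMatrix (⇑Q) v *ᵥ x) = Q x := by
  rw [reflectionMatrix_mulVec, sub_eq_add_neg, ← neg_smul, quad_add_smul, polar_comm (⇑Q) x v]
  field_simp
  ring

theorem reflection_self (Q : QuadraticForm F (ι → F)) (v : ι → F) (hv : Q v ≠ 0) :
    reflectionMatrix (⇑Q) v *ᵥ v = -v := by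
  rw [reflectionMatrix_mulVec, polar_self]
  have : (Q v)⁻¹ * (2 • Q v) = 2 := by
    rw [nsmul_eq_mul]; field_simp; norm_num
  rw [this, two_smul]
  abel

theorem reflection_fix (Q : QuadraticForm F (ι → F)) (v x : ι → F) (hx : polar (⇑Q) v x = 0) :
    reflectionMatrix (⇑Q) v *ᵥ x = x := by
  rw [reflectionMatrix_mulVec, hx, mul_zero, zero_smul, sub_zero]

theorem reflection_det (Q : QuadraticForm F (ι → F)) (v : ι → F) (hv : Q v ≠ 0) :
    (reflectionMatrix (⇑Q) v).det = -1 := by
  unfold reflectionMatrix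
  rw [sub_eq_add_neg, ← neg_smul, det_one_add_smul_vecMulVec, polarVec_dotProduct, polar_self]
  have : (Q v)⁻¹ * (2 • Q v) = 2 := by
    rw [nsmul_eq_mul]; field_simp; norm_num
  rw [neg_mul, this]
  ring

theorem reflection_mul_self (Q : QuadraticForm F (ι → F)) (v : ι → F) (hv : Q v ≠ 0) :
    reflectionMatrix (⇑Q) v * reflectionMatrix (⇑Q) v = 1 := by
  rw [ext_iff_mulVec]
  intro x
  rw [← mulVec_mulVec, one_mulVec, reflectionMatrix_mulVec Q v x, mulVec_sub, mulVec_smul,
    reflection_self Q v hv, reflectionMatrix_mulVec]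
  simp

/-- The reflection as an element of the isometry group. -/
noncomputable def reflection (Q : QuadraticForm F (ι → F)) (v : ι → F) (hv : Q v ≠ 0) :
    isometryGroup F (⇑Q) :=
  ⟨⟨reflectionMatrix (⇑Q) v, reflectionMatrix (⇑Q) v, reflection_mul_self Q v hv,
    reflection_mul_self Q v hv⟩, fun x _ => reflection_preserves Q v hv x⟩

theorem reflection_coe (Q : QuadraticForm F (ι → F)) (v : ι → F) (hv : Q v ≠ 0) :
    ((reflection Q v hv : Matrix.GeneralLinearGroup ι F) : Matrix ι ι F) = reflectionMatrix (⇑Q) v :=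
  rfl

theorem siegelMatrix_mulVec (Q : QuadraticForm F (ι → F)) (u v : ι → F) (c : F) (x : ι → F) :
    siegelMatrix (⇑Q) u v c *ᵥ x = x + (c * polar (⇑Q) u x) • v - (c * polar (⇑Q) v x) • u := by
  unfold siegelMatrix
  rw [add_mulVec, one_mulVec, smul_mulVec, sub_mulVec, vecMulVec_mulVec, vecMulVec_mulVec,
    polarVec_dotProduct, polarVec_dotProduct]
  ext i
  simp [mul_comm, mul_left_comm]
  ring

theorem siegel_polar_left (Q : QuadraticForm F (ι → F)) (u v : ι → F) (c : F) (x y : ι → F) :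
    polar (⇑Q) y (siegelMatrix (⇑Q) u v c *ᵥ x) =
      polar (⇑Q) y x + c * polar (⇑Q) u x * polar (⇑Q) y v - c * polar (⇑Q) v x * polar (⇑Q) y u := by
  rw [siegelMatrix_mulVec, polar_sub_right, polar_add_right, polar_smul_right, polar_smul_right,
    smul_eq_mul, smul_eq_mul]

theorem siegel_preserves (Q : QuadraticForm F (ι → F)) (u v : ι → F) (hu : Q u = 0) (hv : Q v = 0)
    (huv : polar (⇑Q) u v = 0) (c : F) (x : ι → F) :
    Q (siegelMatrix (⇑Q) u v c *ᵥ x) = Q x := by
  rw [siegelMatrix_mulVec, sub_eq_add_neg, ← neg_smul, quad_add_smul, quad_add_smul, hu, hv,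
    polar_add_left, polar_smul_left, polar_comm (⇑Q) v u, huv, polar_comm (⇑Q) x v,
    polar_comm (⇑Q) x u, smul_eq_mul]
  ring

theorem siegel_fix_left (Q : QuadraticForm F (ι → F)) (u v : ι → F) (hu : Q u = 0)
    (huv : polar (⇑Q) u v = 0) (c : F) :
    siegelMatrix (⇑Q) u v c *ᵥ u = u := by
  rw [siegelMatrix_mulVec, polar_self, hu, polar_comm (⇑Q) v u, huv]
  simp

theorem siegel_fix_right (Q : QuadraticForm F (ι → F)) (u v : ι → F) (hv : Q v = 0)
    (huv : polar (⇑Q) u v = 0) (c : F) :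
    siegelMatrix (⇑Q) u v c *ᵥ v = v := by
  rw [siegelMatrix_mulVec, polar_self, hv, huv]
  simp

theorem siegel_mul (Q : QuadraticForm F (ι → F)) (u v : ι → F) (hu : Q u = 0) (hv : Q v = 0)
    (huv : polar (⇑Q) u v = 0) (c d : F) :
    siegelMatrix (⇑Q) u v c * siegelMatrix (⇑Q) u v d = siegelMatrix (⇑Q) u v (c + d) := by
  rw [ext_iff_mulVec]
  intro x
  rw [← mulVec_mulVec, siegelMatrix_mulVec Q u v c, siegel_polar_left, siegel_polar_left,
    siegelMatrix_mulVec, siegelMatrix_mulVec, polar_self, polar_self, hu, hv, huv,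
    polar_comm (⇑Q) v u, huv]
  simp only [smul_zero, mul_zero, add_zero, sub_zero]
  rw [add_mul, add_mul, add_smul, add_smul]
  abel

end Cfsg.Agent.Lib.Helper5.Refl
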