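import Mathlib
import Cfsg.Prelude.Def_ClassicalGeometry
import Cfsg.Agent.Lib.Helper5.Refl

set_option autoImplicit false
open Cfsg

namespace Cfsg.Agent.Lib.Helper5.CartanDieudonne

open Matrix QuadraticMap Cfsg.Agent.Lib.Helper5.Refl Module

variable {ι : Type} [Fintype ι] [DecidableEq ι] {F : Type*} [Field F]

/-- the subgroup generated by the reflections -/
def reflSubgroup (Q : QuadraticForm F (ι → F)) : Subgroup ↥(isometryGroup F ⇑Q) :=
  Subgroup.closure {g : ↥(isometryGroup F ⇑Q) | ∃ v : ι → F, Q v ≠ 0 ∧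
    ((g : Matrix.GeneralLinearGroup ι F) : Matrix ι ι F) = reflectionMatrix ⇑Q v}

theorem reflection_mem (Q : QuadraticForm F (ι → F)) (v : ι → F) (hv : Q v ≠ 0) :
    reflection Q v hv ∈ reflSubgroup Q :=
  Subgroup.subset_closure ⟨v, hv, rfl⟩

/-- action of an isometry on vectors -/
abbrev act (Q : QuadraticForm F (ι → F)) (g : ↥(isometryGroup F ⇑Q)) (x : ι → F) : ι → F :=
  ((g : Matrix.GeneralLinearGroup ι F) : Matrix ι ι F) *ᵥ x

omit [DecidableEq ι] in
theorem quad_act (Q : QuadraticForm F (ι → F)) [DecidableEq ι] (g : ↥(isometryGroup F ⇑Q)) (x : ι → F) :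
    Q (act Q g x) = Q x := g.2 x x

theorem polar_act (Q : QuadraticForm F (ι → F)) (g : ↥(isometryGroup F ⇑Q)) (x y : ι → F) :
    polar ⇑Q (act Q g x) (act Q g y) = polar ⇑Q x y := by
  unfold polar
  rw [← Matrix.mulVec_add, quad_act, quad_act, quad_act]

theorem act_mul (Q : QuadraticForm F (ι → F)) (g h : ↥(isometryGroup F ⇑Q)) (x : ι → F) :
    act Q (g * h) x = act Q g (act Q h x) := by
  unfold act
  rw [Matrix.mulVec_mulVec]
  rfl

theorem act_reflection (Q : QuadraticForm F (ι → F)) (v : ι → F) (hv : Q v ≠ 0) (x : ι → F) :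
    act Q (reflection Q v hv) x = x - ((Q v)⁻¹ * polar ⇑Q v x) • v :=
  reflectionMatrix_mulVec Q v x

omit [DecidableEq ι] [Fintype ι] in
theorem polar_sum_right (Q : QuadraticForm F (ι → F)) {k : ℕ} (x : ι → F) (c : Fin k → F)
    (v : Fin k → ι → F) :
    polar ⇑Q x (∑ i, c i • v i) = ∑ i, c i * polar ⇑Q x (v i) := by
  have : polar ⇑Q x (∑ i, c i • v i) = polarBilin Q x (∑ i, c i • v i) := rfl
  rw [this, map_sum]
  exact Finset.sum_congr rfl (fun i _ => by rw [map_smul, smul_eq_mul]; rfl)

omit [DecidableEq ι] in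
/-- an anisotropic vector orthogonal to an orthogonal family of fewer than `n` anisotropic vectors -/
theorem exists_anisotropic_perp (h2 : (2 : F) ≠ 0) (Q : QuadraticForm F (ι → F))
    (hQ : (polarBilin Q).Nondegenerate) {k : ℕ} (v : Fin k → ι → F) (hv : ∀ i, Q (v i) ≠ 0)
    (horth : ∀ i j, i ≠ j → polar ⇑Q (v i) (v j) = 0) (hk : k < Fintype.card ι) :
    ∃ w, Q w ≠ 0 ∧ ∀ i, polar ⇑Q (v i) w = 0 := by
  classical
  let Φ : (ι → F) →ₗ[F] (Fin k → F) := LinearMap.pi (fun i => polarBilin Q (v i))
  have hΦ : ∀ x i, Φ x i = polar ⇑Q (v i) x := fun x i => rfl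
  have hker : LinearMap.ker Φ ≠ ⊥ := by
    apply LinearMap.ker_ne_bot_of_finrank_lt
    rw [Module.finrank_fintype_fun_eq_card, Module.finrank_fintype_fun_eq_card, Fintype.card_fin]
    exact hk
  obtain ⟨x, hxker, hx0⟩ := (Submodule.ne_bot_iff _).mp hker
  have hxv : ∀ i, polar ⇑Q (v i) x = 0 := fun i => by
    rw [← hΦ, LinearMap.mem_ker.mp hxker]; rfl
  by_contra hcon
  push Not at hcon
  have hzero : ∀ w, (∀ i, polar ⇑Q (v i) w = 0) → Q w = 0 := by
    intro w hw
    by_contra hne
    obtain ⟨i, hi⟩ := hcon w hne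
    exact hi (hw i)
  apply hx0
  apply hQ.1 x
  intro z
  show polar ⇑Q x z = 0
  obtain ⟨c, hc⟩ : ∃ c : Fin k → F, c = fun i => polar ⇑Q (v i) z / (2 * Q (v i)) := ⟨_, rfl⟩
  obtain ⟨z', hz'⟩ : ∃ z' : ι → F, z' = z - ∑ i, c i • v i := ⟨_, rfl⟩
  have hz'v : ∀ j, polar ⇑Q (v j) z' = 0 := by
    intro j
    rw [hz', polar_sub_right, polar_sum_right, Finset.sum_eq_single j]
    · rw [polar_self, hc]
      simp only
      have := hv j
      rw [nsmul_eq_mul]
      field_simp
      ring
    · intro i _ hij
      rw [horth j i (Ne.symm hij), mul_zero]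
    · intro h; exact absurd (Finset.mem_univ j) h
  have hxz' : polar ⇑Q x z' = 0 := by
    unfold polar
    rw [hzero x hxv, hzero z' hz'v, hzero (x + z') (fun i => by rw [polar_add_right, hxv, hz'v, add_zero])]
    ring
  have hz : z = z' + ∑ i, c i • v i := by rw [hz']; abel
  rw [hz, polar_add_right, hxz', polar_sum_right, zero_add]
  apply Finset.sum_eq_zero
  intro i _
  rw [polar_comm, hxv, mul_zero]

omit [DecidableEq ι] in
theorem linearIndependent_of_orth (h2 : (2 : F) ≠ 0) (Q : QuadraticForm F (ι → F)) {k : ℕ}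
    (v : Fin k → ι → F) (hv : ∀ i, Q (v i) ≠ 0)
    (horth : ∀ i j, i ≠ j → polar ⇑Q (v i) (v j) = 0) : LinearIndependent F v := by
  classical
  rw [Fintype.linearIndependent_iff]
  intro c hc j
  have h1 : polar ⇑Q (v j) (∑ i, c i • v i) = 0 := by
    rw [hc]
    have := polar_smul_right Q (0 : F) (v j) (0 : ι → F)
    rw [zero_smul, zero_smul] at this
    exact this
  rw [polar_sum_right, Finset.sum_eq_single j] at h1
  · rw [polar_self, nsmul_eq_mul] at h1
    rcases mul_eq_zero.mp h1 with h | h
    · exact h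
    · exfalso
      rcases mul_eq_zero.mp h with h | h
      · exact h2 (by exact_mod_cast h)
      · exact hv j h
  · intro i _ hij
    rw [horth j i (Ne.symm hij), mul_zero]
  · intro h; exact absurd (Finset.mem_univ j) h

theorem eq_one_of_fix (h2 : (2 : F) ≠ 0) (Q : QuadraticForm F (ι → F)) {k : ℕ}
    (v : Fin k → ι → F) (hv : ∀ i, Q (v i) ≠ 0)
    (horth : ∀ i j, i ≠ j → polar ⇑Q (v i) (v j) = 0) (hk : Fintype.card ι ≤ k)
    (g : ↥(isometryGroup F ⇑Q)) (hg : ∀ i, act Q g (v i) = v i) : g = 1 := by
  have hli := linearIndependent_of_orth h2 Q v hv horth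
  have hle := hli.fintype_card_le_finrank
  rw [Module.finrank_fintype_fun_eq_card, Fintype.card_fin] at hle
  have hspan : Submodule.span F (Set.range v) = ⊤ :=
    hli.span_eq_top_of_card_eq_finrank' (by
      rw [Module.finrank_fintype_fun_eq_card, Fintype.card_fin]; omega)
  have hall : ∀ x, act Q g x = x := by
    intro x
    have hx : x ∈ Submodule.span F (Set.range v) := by rw [hspan]; trivial
    induction hx using Submodule.span_induction with
    | mem y hy =>
      obtain ⟨i, rfl⟩ := hy
      exact hg i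
    | zero => exact Matrix.mulVec_zero _
    | add a b _ _ ha hb =>
      show _ *ᵥ (a + b) = _
      rw [Matrix.mulVec_add]
      exact congrArg₂ (· + ·) ha hb
    | smul c a _ ha =>
      show _ *ᵥ (c • a) = _
      rw [Matrix.mulVec_smul]
      exact congrArg (c • ·) ha
  apply Subtype.ext
  apply Units.ext
  rw [Matrix.ext_iff_mulVec]
  intro x
  have := hall x
  unfold act at this
  rw [this]
  simp

omit [Fintype ι] [DecidableEq ι] in
theorem quad_add' (Q : QuadraticForm F (ι → F)) (w u : ι → F) :
    Q (w + u) = Q w + Q u + polar ⇑Q w u := by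
  simp only [polar]; ring

omit [Fintype ι] [DecidableEq ι] in
theorem quad_sub' (Q : QuadraticForm F (ι → F)) (w u : ι → F) :
    Q (w - u) = Q w + Q u - polar ⇑Q w u := by
  have := quad_add_smul Q w u (-1)
  rw [neg_one_smul, ← sub_eq_add_neg] at this
  rw [this]; ring

theorem refl_move (Q : QuadraticForm F (ι → F)) (w u : ι → F) (hwu : Q w = Q u)
    (hne : Q (w - u) ≠ 0) : act Q (reflection Q (w - u) hne) u = w := by
  rw [act_reflection]
  have h1 : polar ⇑Q (w - u) u = polar ⇑Q w u - 2 * Q u := by
    rw [polar_sub_left, polar_self, nsmul_eq_mul]; norm_num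
  have h3 : Q (w - u) = 2 * Q u - polar ⇑Q w u := by
    rw [quad_sub', hwu]; ring
  have hne2 : 2 * Q u - polar ⇑Q w u ≠ 0 := by rw [← h3]; exact hne
  have h4 : (Q (w - u))⁻¹ * polar ⇑Q (w - u) u = -1 := by
    rw [h1, h3]
    field_simp
    ring
  rw [h4]
  simp

theorem refl_move' (Q : QuadraticForm F (ι → F)) (w u : ι → F) (hwu : Q w = Q u)
    (hne : Q (w + u) ≠ 0) : act Q (reflection Q (w + u) hne) u = -w := by
  rw [act_reflection]
  have h1 : polar ⇑Q (w + u) u = polar ⇑Q w u + 2 * Q u := by
    rw [polar_add_left, polar_self, nsmul_eq_mul]; norm_num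
  have h3 : Q (w + u) = 2 * Q u + polar ⇑Q w u := by
    rw [quad_add', hwu]; ring
  have hne2 : 2 * Q u + polar ⇑Q w u ≠ 0 := by rw [← h3]; exact hne
  have h4 : (Q (w + u))⁻¹ * polar ⇑Q (w + u) u = 1 := by
    rw [h1, h3]
    field_simp
    ring
  rw [h4, one_smul]
  abel

/-- Cartan–Dieudonné in odd characteristic, inductive form -/
theorem mem_reflSubgroup_of_fix (h2 : (2 : F) ≠ 0) (Q : QuadraticForm F (ι → F))
    (hQ : (polarBilin Q).Nondegenerate) :
    ∀ (j k : ℕ) (v : Fin k → ι → F), (∀ i, Q (v i) ≠ 0) →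
      (∀ i i', i ≠ i' → polar ⇑Q (v i) (v i') = 0) → Fintype.card ι ≤ k + j →
      ∀ g : ↥(isometryGroup F ⇑Q), (∀ i, act Q g (v i) = v i) → g ∈ reflSubgroup Q := by
  intro j
  induction j with
  | zero =>
    intro k v hv horth hk g hg
    rw [eq_one_of_fix h2 Q v hv horth (by omega) g hg]
    exact Subgroup.one_mem _
  | succ j ih =>
    intro k v hv horth hk g hg
    by_cases hk' : Fintype.card ι ≤ k + j
    · exact ih k v hv horth hk' g hg
    · push Not at hk'
      obtain ⟨w, hw, hwv⟩ := exists_anisotropic_perp h2 Q hQ v hv horth (by omega)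
      obtain ⟨u, hu⟩ : ∃ u, u = act Q g w := ⟨_, rfl⟩
      have hQu : Q w = Q u := by rw [hu, quad_act]
      have huv : ∀ i, polar ⇑Q (v i) u = 0 := by
        intro i
        rw [hu, ← hg i, polar_act, hwv i]
      -- the extended family
      have hext : ∀ g' : ↥(isometryGroup F ⇑Q), (∀ i, act Q g' (v i) = v i) → act Q g' w = w →
          g' ∈ reflSubgroup Q := by
        intro g' hg'v hg'w
        refine ih (k + 1) (Fin.cons w v) ?_ ?_ (by omega) g' ?_
        · intro i
          refine Fin.cases ?_ (fun i => ?_) i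
          · simpa using hw
          · simpa using hv i
        · intro i i'
          refine Fin.cases ?_ (fun a => ?_) i <;> refine Fin.cases ?_ (fun b => ?_) i'
          · intro h; exact absurd rfl h
          · intro _
            simp only [Fin.cons_zero, Fin.cons_succ]
            rw [polar_comm]; exact hwv b
          · intro _
            simp only [Fin.cons_zero, Fin.cons_succ]
            exact hwv a
          · intro h
            simp only [Fin.cons_succ]
            exact horth a b (fun e => h (by rw [e]))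
        · intro i
          refine Fin.cases ?_ (fun i => ?_) i
          · simpa using hg'w
          · simpa using hg'v i
      by_cases hne : Q (w - u) ≠ 0
      · have hr := reflection_mem Q (w - u) hne
        have h1 : reflection Q (w - u) hne * g ∈ reflSubgroup Q := by
          apply hext
          · intro i
            rw [act_mul, hg i, act_reflection, polar_sub_left, polar_comm ⇑Q w, polar_comm ⇑Q u,
              hwv i, huv i]
            simp
          · rw [act_mul, ← hu]
            exact refl_move Q w u hQu hne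
        have := Subgroup.mul_mem _ (Subgroup.inv_mem _ hr) h1
        rwa [inv_mul_cancel_left] at this
      · push Not at hne
        have hne' : Q (w + u) ≠ 0 := by
          intro h0
          have hpar : Q (w - u) + Q (w + u) = 4 * Q w := by
            rw [quad_add', quad_sub', ← hQu]; ring
          rw [hne, h0, add_zero] at hpar
          have : (4 : F) ≠ 0 := by
            have : (4 : F) = 2 * 2 := by norm_num
            rw [this]; exact mul_ne_zero h2 h2
          exact hw ((mul_eq_zero.mp hpar.symm).resolve_left this)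
        have hr₁ := reflection_mem Q (w + u) hne'
        have hr₂ := reflection_mem Q w hw
        have h1 : reflection Q w hw * (reflection Q (w + u) hne' * g) ∈ reflSubgroup Q := by
          apply hext
          · intro i
            rw [act_mul, act_mul, hg i, act_reflection Q (w + u), polar_add_left, polar_comm ⇑Q w,
              polar_comm ⇑Q u, hwv i, huv i, add_zero, mul_zero, zero_smul, sub_zero, act_reflection,
              polar_comm ⇑Q w, hwv i]
            simp
          · rw [act_mul, act_mul, ← hu, refl_move' Q w u hQu hne']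
            unfold act
            rw [Matrix.mulVec_neg]
            show -(reflectionMatrix ⇑Q w *ᵥ w) = w
            rw [reflection_self Q w hw, neg_neg]
        have h3 := Subgroup.mul_mem _ (Subgroup.inv_mem _ hr₂) h1
        rw [inv_mul_cancel_left] at h3
        have h4 := Subgroup.mul_mem _ (Subgroup.inv_mem _ hr₁) h3
        rwa [inv_mul_cancel_left] at h4

/-- Cartan–Dieudonné in odd characteristic: the isometry group is generated by reflections -/
theorem reflSubgroup_eq_top (h2 : (2 : F) ≠ 0) (Q : QuadraticForm F (ι → F))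
    (hQ : (polarBilin Q).Nondegenerate) : reflSubgroup Q = ⊤ := by
  rw [eq_top_iff]
  intro g _
  exact mem_reflSubgroup_of_fix h2 Q hQ (Fintype.card ι) 0 (fun i => i.elim0) (fun i => i.elim0)
    (fun i => i.elim0) (by omega) g (fun i => i.elim0)

end Cfsg.Agent.Lib.Helper5.CartanDieudonne
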