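import Mathlib

set_option autoImplicit false

namespace Cfsg.Agent.Lib.Helper5.QuadIsom

open Module QuadraticMap

variable {F : Type*} [Field F] {V : Type*} [AddCommGroup V] [Module F V]

theorem quad_add_smul (Q : QuadraticForm F V) (x u : V) (α : F) :
    Q (x + α • u) = Q x + α * α * Q u + α * polar Q x u := by
  have : Q (x + α • u) = Q x + Q (α • u) + polar Q x (α • u) := by
    simp only [polar]; ring
  rw [this, QuadraticMap.map_smul, polar_smul_right, smul_eq_mul, smul_eq_mul]

theorem quad_add_two (Q : QuadraticForm F V) (x u v : V) (α β : F) :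
    Q (x + α • u + β • v) = Q x + α * α * Q u + β * β * Q v + α * β * polar Q u v
      + α * polar Q x u + β * polar Q x v := by
  rw [quad_add_smul, quad_add_smul, polar_add_left, polar_smul_left, smul_eq_mul]
  ring

theorem polar_of_isom (Q : QuadraticForm F V) (g : V →ₗ[F] V) (hg : ∀ x, Q (g x) = Q x) (x y : V) :
    polar Q (g x) (g y) = polar Q x y := by
  simp only [polar, ← map_add, hg]

theorem polarBilin_isRefl (Q : QuadraticForm F V) : (polarBilin Q).IsRefl := by
  intro x y h
  rw [polarBilin_apply_apply] at h ⊢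
  rw [polar_comm]; exact h

/-- A linear `Q`-isometry of a nondegenerate finite dimensional space is an equivalence. -/
theorem equiv_of_isom [FiniteDimensional F V] (Q : QuadraticForm F V)
    (hQ : (polarBilin Q).Nondegenerate) (g : V →ₗ[F] V) (hg : ∀ x, Q (g x) = Q x) :
    ∃ e : V ≃ₗ[F] V, ∀ x, e x = g x := by
  have hinj : Function.Injective g := by
    rw [← LinearMap.ker_eq_bot, LinearMap.ker_eq_bot']
    intro x hx
    apply hQ.1 x
    intro y
    rw [polarBilin_apply_apply, ← polar_of_isom Q g hg, hx]
    simp [polar]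
  exact ⟨LinearEquiv.ofInjectiveEndo g hinj, fun x => rfl⟩

/-- reflection in a nonsingular vector -/
def reflMap (Q : QuadraticForm F V) (p : V) : V →ₗ[F] V :=
  LinearMap.id - (Q p)⁻¹ • (polarBilin Q p).smulRight p

theorem reflMap_apply (Q : QuadraticForm F V) (p x : V) :
    reflMap Q p x = x + (-((Q p)⁻¹ * polar Q p x)) • p := by
  simp [reflMap, mul_smul, sub_eq_add_neg]

theorem reflMap_isom (Q : QuadraticForm F V) (p : V) (hp : Q p ≠ 0) (x : V) :
    Q (reflMap Q p x) = Q x := by
  rw [reflMap_apply, quad_add_smul, polar_comm Q x p]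
  field_simp
  ring

/-- Eichler (Siegel) transformation for a singular vector `p` and `y ⊥ p`. -/
def eichlerMap (Q : QuadraticForm F V) (p y : V) : V →ₗ[F] V :=
  LinearMap.id + (polarBilin Q p).smulRight y - (polarBilin Q y).smulRight p
    - Q y • (polarBilin Q p).smulRight p

theorem eichlerMap_apply (Q : QuadraticForm F V) (p y x : V) :
    eichlerMap Q p y x = x + polar Q p x • y + (-(polar Q y x + Q y * polar Q p x)) • p := by
  simp only [eichlerMap, LinearMap.sub_apply, LinearMap.add_apply, LinearMap.id_apply,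
    LinearMap.smulRight_apply, LinearMap.smul_apply, polarBilin_apply_apply, smul_smul]
  rw [neg_smul, add_smul]
  abel

theorem eichlerMap_isom (Q : QuadraticForm F V) (p y : V) (hp : Q p = 0) (hpy : polar Q p y = 0)
    (x : V) : Q (eichlerMap Q p y x) = Q x := by
  rw [eichlerMap_apply, quad_add_two, hp, polar_comm Q y p, hpy, polar_comm Q x y, polar_comm Q x p]
  ring

/-- Hyperbolic rotation `p ↦ s p`, `p' ↦ s⁻¹ p'`. -/
def hypRot (Q : QuadraticForm F V) (p p' : V) (s : F) : V →ₗ[F] V :=
  LinearMap.id + (s - 1) • (polarBilin Q p').smulRight p + (s⁻¹ - 1) • (polarBilin Q p).smulRight p'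

theorem hypRot_apply (Q : QuadraticForm F V) (p p' : V) (s : F) (x : V) :
    hypRot Q p p' s x = x + ((s - 1) * polar Q p' x) • p + ((s⁻¹ - 1) * polar Q p x) • p' := by
  simp only [hypRot, LinearMap.add_apply, LinearMap.id_apply,
    LinearMap.smulRight_apply, LinearMap.smul_apply, polarBilin_apply_apply, smul_smul]

theorem hypRot_isom (Q : QuadraticForm F V) (p p' : V) (s : F) (hs : s ≠ 0) (hp : Q p = 0)
    (hp' : Q p' = 0) (hpp' : polar Q p p' = 1) (x : V) : Q (hypRot Q p p' s x) = Q x := by
  rw [hypRot_apply, quad_add_two, hp, hp', hpp', polar_comm Q x p, polar_comm Q x p']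
  field_simp
  ring

/-- a vector outside `H` is not orthogonal to all of `H^⊥` -/
theorem exists_perp_not_perp [FiniteDimensional F V] (Q : QuadraticForm F V)
    (hQ : (polarBilin Q).Nondegenerate) (H : Submodule F V) (c : V) (hc : c ∉ H) :
    ∃ z, (∀ h ∈ H, polar Q h z = 0) ∧ polar Q z c ≠ 0 := by
  by_contra hcon
  push Not at hcon
  apply hc
  rw [← LinearMap.BilinForm.orthogonal_orthogonal hQ (polarBilin_isRefl Q) H]
  intro z hz
  exact hcon z hz

/-- An isometry fixing `H` pointwise and moving `a` to `b`. -/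
theorem exists_fix_move [FiniteDimensional F V] (Q : QuadraticForm F V)
    (hQ : (polarBilin Q).Nondegenerate) (H : Submodule F V) (a b : V) (hQab : Q a = Q b)
    (hab : ∀ h ∈ H, polar Q a h = polar Q b h) (ha : a ∉ H) (hb : b ∉ H) :
    ∃ g : V ≃ₗ[F] V, (∀ x, Q (g x) = Q x) ∧ (∀ h ∈ H, g h = h) ∧ g a = b := by
  obtain ⟨p, hp⟩ : ∃ p, p = b - a := ⟨_, rfl⟩
  have hbp : b = a + p := by rw [hp]; abel
  have hpH : ∀ h ∈ H, polar Q p h = 0 := by
    intro h hh
    rw [hp, polar_sub_left, hab h hh, sub_self]
  have hpolar_ap : polar Q a p = Q b - Q a - Q p := by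
    rw [hbp]; simp only [polar]
  have hap : polar Q a p = - Q p := by
    rw [hpolar_ap, hQab]; ring
  by_cases hp0 : Q p = 0
  · by_cases hpz : p = 0
    · refine ⟨LinearEquiv.refl F V, fun x => rfl, fun h _ => rfl, ?_⟩
      rw [hbp, hpz, add_zero]; rfl
    by_cases haHp : a ∈ H ⊔ Submodule.span F {p}
    · -- hyperbolic rotation
      obtain ⟨h₀, hh₀, z, hz, hsum⟩ := Submodule.mem_sup.mp haHp
      obtain ⟨t, rfl⟩ := Submodule.mem_span_singleton.mp hz
      have ht0 : t ≠ 0 := by
        rintro rfl
        rw [zero_smul, add_zero] at hsum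
        exact ha (hsum ▸ hh₀)
      have ht1 : t + 1 ≠ 0 := by
        intro h
        apply hb
        have : a + p = h₀ + (t + 1) • p := by
          rw [← hsum, add_smul, one_smul, add_assoc]
        rw [hbp, this, h, zero_smul, add_zero]
        exact hh₀
      have hpH' : p ∉ H := by
        intro hpH'
        apply ha
        rw [← hsum]
        exact H.add_mem hh₀ (H.smul_mem t hpH')
      obtain ⟨y, hyH, hyp⟩ := exists_perp_not_perp Q hQ H p hpH'
      set c : F := polar Q p y with hc
      have hc0 : c ≠ 0 := by rw [hc, polar_comm]; exact hyp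
      set p' : V := c⁻¹ • y + (-(Q y / (c * c))) • p with hp'
      have hQp' : Q p' = 0 := by
        have := quad_add_two Q 0 y p c⁻¹ (-(Q y / (c * c)))
        rw [zero_add] at this
        rw [hp', this, hp0, polar_comm Q y p, ← hc]
        simp only [map_zero, polar_zero_left]
        field_simp
        ring
      have hpp' : polar Q p p' = 1 := by
        rw [hp', polar_add_right, polar_smul_right, polar_smul_right, polar_self, hp0, ← hc]
        simp [hc0]
      have hp'H : ∀ h ∈ H, polar Q p' h = 0 := by
        intro h hh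
        rw [hp', polar_add_left, polar_smul_left, polar_smul_left, hpH h hh, polar_comm Q y h,
          hyH h hh]
        simp
      set s : F := (t + 1) / t with hs
      have hs0 : s ≠ 0 := div_ne_zero ht1 ht0
      obtain ⟨g, hg⟩ := equiv_of_isom Q hQ (hypRot Q p p' s) (hypRot_isom Q p p' s hs0 hp0 hQp' hpp')
      refine ⟨g, fun x => by rw [hg]; exact hypRot_isom Q p p' s hs0 hp0 hQp' hpp' x, ?_, ?_⟩
      · intro h hh
        rw [hg, hypRot_apply, hp'H h hh, hpH h hh]
        simp
      · have hgp : hypRot Q p p' s p = s • p := by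
          rw [hypRot_apply, polar_comm Q p' p, hpp', polar_self, hp0]
          simp only [mul_one, smul_zero, mul_zero, zero_smul, add_zero]
          have : s • p = p + (s - 1) • p := by
            rw [sub_smul, one_smul]; abel
          rw [this]
        have hgh : hypRot Q p p' s h₀ = h₀ := by
          rw [hypRot_apply, hp'H h₀ hh₀, hpH h₀ hh₀]
          simp
        have hb' : b = h₀ + (t + 1) • p := by
          rw [hbp, ← hsum, add_smul, one_smul, add_assoc]
        rw [hg, hb', ← hsum, map_add, map_smul, hgp, hgh, smul_smul]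
        congr 2
        rw [hs]; field_simp
    · -- Eichler transformation
      obtain ⟨y₀, hy₀H, hy₀a⟩ := exists_perp_not_perp Q hQ _ a haHp
      set y : V := (-(polar Q a y₀)⁻¹) • y₀ with hy
      have hya0 : polar Q a y₀ ≠ 0 := by rw [polar_comm]; exact hy₀a
      have hay : polar Q a y = -1 := by
        rw [hy, polar_smul_right, smul_eq_mul, neg_mul, inv_mul_cancel₀ hya0]
      have hpy : polar Q p y = 0 := by
        rw [hy, polar_smul_right, hy₀H p (Submodule.mem_sup_right (Submodule.mem_span_singleton_self p)),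
          smul_zero]
      have hyH : ∀ h ∈ H, polar Q y h = 0 := by
        intro h hh
        rw [hy, polar_smul_left, polar_comm Q y₀ h, hy₀H h (Submodule.mem_sup_left hh), smul_zero]
      obtain ⟨g, hg⟩ := equiv_of_isom Q hQ (eichlerMap Q p y) (eichlerMap_isom Q p y hp0 hpy)
      refine ⟨g, fun x => by rw [hg]; exact eichlerMap_isom Q p y hp0 hpy x, ?_, ?_⟩
      · intro h hh
        rw [hg, eichlerMap_apply, hpH h hh, hyH h hh]
        simp
      · rw [hg, eichlerMap_apply, polar_comm Q p a, hap, hp0, polar_comm Q y a, hay, hbp]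
        simp
  · -- reflection
    obtain ⟨g, hg⟩ := equiv_of_isom Q hQ (reflMap Q p) (reflMap_isom Q p hp0)
    refine ⟨g, fun x => by rw [hg]; exact reflMap_isom Q p hp0 x, ?_, ?_⟩
    · intro h hh
      rw [hg, reflMap_apply, hpH h hh]
      simp
    · rw [hg, reflMap_apply, polar_comm Q p a, hap, hbp]
      congr 1
      rw [mul_neg, neg_neg, inv_mul_cancel₀ hp0, one_smul]

/-- Witt's lemma for quadratic forms, for linearly independent families. -/
theorem witt_family [FiniteDimensional F V] (Q : QuadraticForm F V)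
    (hQ : (polarBilin Q).Nondegenerate) (n : ℕ) :
    ∀ (x y : Fin n → V), LinearIndependent F x → LinearIndependent F y →
      (∀ i, Q (x i) = Q (y i)) → (∀ i j, polar Q (x i) (x j) = polar Q (y i) (y j)) →
      ∃ g : V ≃ₗ[F] V, (∀ u, Q (g u) = Q u) ∧ ∀ i, g (x i) = y i := by
  induction n with
  | zero =>
    intro x y _ _ _ _
    exact ⟨LinearEquiv.refl F V, fun u => rfl, fun i => i.elim0⟩
  | succ n ih =>
    intro x y hx hy hQxy hxy
    obtain ⟨g₁, hg₁, hg₁x⟩ := ih (x ∘ Fin.castSucc) (y ∘ Fin.castSucc)
      (hx.comp _ (Fin.castSucc_injective n)) (hy.comp _ (Fin.castSucc_injective n))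
      (fun i => hQxy _) (fun i j => hxy _ _)
    have hg₁p : ∀ u v, polar Q (g₁ u) (g₁ v) = polar Q u v :=
      polar_of_isom Q (g₁ : V →ₗ[F] V) hg₁
    set H : Submodule F V := Submodule.span F (Set.range (x ∘ Fin.castSucc)) with hH
    set a : V := x (Fin.last n) with ha
    set b : V := g₁.symm (y (Fin.last n)) with hb
    have hlast : Fin.last n ∉ Set.range (Fin.castSucc : Fin n → Fin (n + 1)) := by
      rintro ⟨i, hi⟩
      exact Fin.castSucc_ne_last i hi
    have haH : a ∉ H := by
      have := hx.notMem_span_image hlast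
      rwa [← Set.range_comp] at this
    have hbH : b ∉ H := by
      intro hmem
      have h1 : g₁ b ∈ H.map (g₁ : V →ₗ[F] V) := Submodule.mem_map_of_mem hmem
      rw [hb, LinearEquiv.apply_symm_apply, hH, Submodule.map_span, ← Set.range_comp] at h1
      have h2 : ((g₁ : V →ₗ[F] V) ∘ x ∘ Fin.castSucc) = y ∘ Fin.castSucc := by
        funext i
        exact hg₁x i
      rw [h2, Set.range_comp] at h1
      exact hy.notMem_span_image hlast h1
    have hQab : Q a = Q b := by
      rw [← hg₁ b, hb, LinearEquiv.apply_symm_apply]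
      exact hQxy _
    have hab : ∀ h ∈ H, polar Q a h = polar Q b h := by
      have : H ≤ LinearMap.ker (polarBilin Q a - polarBilin Q b) := by
        rw [hH, Submodule.span_le]
        rintro _ ⟨i, rfl⟩
        rw [SetLike.mem_coe, LinearMap.mem_ker, LinearMap.sub_apply, sub_eq_zero,
          polarBilin_apply_apply, polarBilin_apply_apply]
        show polar Q (x (Fin.last n)) (x (Fin.castSucc i)) = polar Q b (x (Fin.castSucc i))
        rw [← hg₁p b, hb, LinearEquiv.apply_symm_apply]
        have := hg₁x i
        simp only [Function.comp_apply] at this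
        rw [this]
        exact hxy _ _
      intro h hh
      have := this hh
      rwa [LinearMap.mem_ker, LinearMap.sub_apply, sub_eq_zero, polarBilin_apply_apply,
        polarBilin_apply_apply] at this
    obtain ⟨g₂, hg₂, hg₂H, hg₂a⟩ := exists_fix_move Q hQ H a b hQab hab haH hbH
    refine ⟨g₂.trans g₁, ?_, ?_⟩
    · intro u
      rw [LinearEquiv.trans_apply, hg₁, hg₂]
    · intro i
      refine Fin.lastCases ?_ (fun j => ?_) i
      · rw [LinearEquiv.trans_apply, hg₂a, hb, LinearEquiv.apply_symm_apply]
      · have h1 : g₂ (x (Fin.castSucc j)) = x (Fin.castSucc j) :=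
          hg₂H _ (Submodule.subset_span ⟨j, rfl⟩)
        rw [LinearEquiv.trans_apply, h1]
        exact hg₁x j

/-- Witt's lemma for quadratic forms with nondegenerate polar form. -/
theorem witt [FiniteDimensional F V] (Q : QuadraticForm F V)
    (hQ : (polarBilin Q).Nondegenerate) (X Y : Submodule F V) (φ : X ≃ₗ[F] Y)
    (hφ : ∀ x : X, Q (φ x : V) = Q (x : V)) :
    ∃ g : V ≃ₗ[F] V, (∀ v : V, Q (g v) = Q v) ∧ ∀ x : X, g (x : V) = (φ x : V) := by
  let bX := Module.finBasis F X
  have hx : LinearIndependent F (fun i => (bX i : V)) :=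
    bX.linearIndependent.map' X.subtype (Submodule.ker_subtype _)
  have hy : LinearIndependent F (fun i => (φ (bX i) : V)) := by
    have h1 : LinearIndependent F (fun i => φ (bX i)) :=
      bX.linearIndependent.map' (φ : X →ₗ[F] Y) (LinearEquiv.ker φ)
    exact h1.map' Y.subtype (Submodule.ker_subtype _)
  have hpol : ∀ x x' : X, polar Q (φ x : V) (φ x' : V) = polar Q (x : V) (x' : V) := by
    intro x x'
    have h1 := hφ (x + x')
    rw [map_add] at h1
    simp only [polar]
    rw [← Submodule.coe_add, ← Submodule.coe_add, h1, hφ, hφ]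
  obtain ⟨g, hg, hgx⟩ := witt_family Q hQ _ _ _ hx hy (fun i => (hφ _).symm)
    (fun i j => (hpol _ _).symm)
  refine ⟨g, hg, ?_⟩
  have : (g : V →ₗ[F] V) ∘ₗ X.subtype = Y.subtype ∘ₗ (φ : X →ₗ[F] Y) := by
    apply bX.ext
    intro i
    exact hgx i
  intro x
  exact congrArg (fun f => f x) this

end Cfsg.Agent.Lib.Helper5.QuadIsom
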