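import Mathlib

set_option autoImplicit false

namespace Cfsg.Agent.Lib.Helper5.AltWitt

open Module

variable {F : Type*} [Field F] {V : Type*} [AddCommGroup V] [Module F V]

/-- The linear map `x ↦ x + c B(x,p) p`. -/
def tvMap (B : LinearMap.BilinForm F V) (p : V) (c : F) : V →ₗ[F] V :=
  LinearMap.id + c • (B.flip p).smulRight p

theorem tvMap_apply (B : LinearMap.BilinForm F V) (p : V) (c : F) (x : V) :
    tvMap B p c x = x + (c * B x p) • p := by
  simp [tvMap, mul_smul]

theorem tvMap_comp (B : LinearMap.BilinForm F V) (hA : B.IsAlt) (p : V) (c d : F) :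
    tvMap B p c ∘ₗ tvMap B p d = tvMap B p (c + d) := by
  apply LinearMap.ext
  intro x
  rw [LinearMap.comp_apply, tvMap_apply, tvMap_apply, tvMap_apply, map_add, map_smul,
    LinearMap.add_apply, LinearMap.smul_apply, hA.self_eq_zero p, smul_zero, add_zero, add_assoc,
    ← add_smul]
  congr 2
  ring

theorem tvMap_zero (B : LinearMap.BilinForm F V) (p : V) : tvMap B p 0 = LinearMap.id := by
  apply LinearMap.ext
  intro x
  rw [tvMap_apply]; simp

/-- The symplectic transvection as a linear equivalence. -/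
def tv (B : LinearMap.BilinForm F V) (hA : B.IsAlt) (p : V) (c : F) : V ≃ₗ[F] V :=
  LinearEquiv.ofLinearMap (tvMap B p c) (tvMap B p (-c))
    (by rw [tvMap_comp B hA, add_neg_cancel, tvMap_zero])
    (by rw [tvMap_comp B hA, neg_add_cancel, tvMap_zero])

theorem tv_apply (B : LinearMap.BilinForm F V) (hA : B.IsAlt) (p : V) (c : F) (x : V) :
    tv B hA p c x = x + (c * B x p) • p := tvMap_apply B p c x

theorem tv_isom (B : LinearMap.BilinForm F V) (hA : B.IsAlt) (p : V) (c : F) (x y : V) :
    B (tv B hA p c x) (tv B hA p c y) = B x y := by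
  rw [tv_apply, tv_apply]
  simp only [map_add, map_smul, LinearMap.add_apply, LinearMap.smul_apply, smul_eq_mul,
    hA.self_eq_zero p, mul_zero, add_zero]
  rw [← hA.neg_eq p y]
  ring

/-- One transvection moving `x` to `y` and fixing `H`. -/
theorem single_step (B : LinearMap.BilinForm F V) (hA : B.IsAlt) (H : Submodule F V) (x y : V)
    (hxy : B x y ≠ 0) (hH : ∀ h ∈ H, B x h = B y h) :
    ∃ g : V ≃ₗ[F] V, (∀ u v, B (g u) (g v) = B u v) ∧ (∀ h ∈ H, g h = h) ∧ g x = y := by
  refine ⟨tv B hA (y - x) (B x y)⁻¹, tv_isom B hA _ _, ?_, ?_⟩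
  · intro h hh
    rw [tv_apply, map_sub, ← hA.neg_eq y h, ← hA.neg_eq x h, hH h hh]
    simp
  · rw [tv_apply, map_sub, hA.self_eq_zero x, sub_zero, inv_mul_cancel₀ hxy, one_smul]
    abel

/-- An isometry fixing `H` pointwise and moving `a` to `b`. -/
theorem exists_fix_move [FiniteDimensional F V] (B : LinearMap.BilinForm F V) (hB : B.Nondegenerate)
    (hA : B.IsAlt) (H : Submodule F V) (a b : V) (hab : ∀ h ∈ H, B a h = B b h)
    (ha : a ∉ H) (hb : b ∉ H) :
    ∃ g : V ≃ₗ[F] V, (∀ u v, B (g u) (g v) = B u v) ∧ (∀ h ∈ H, g h = h) ∧ g a = b := by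
  by_cases h0 : B a b = 0
  · -- vectors of H^⊥ not perpendicular to a, resp. b
    have hex : ∀ c : V, c ∉ H → ∃ z, (∀ h ∈ H, B h z = 0) ∧ B z c ≠ 0 := by
      intro c hc
      by_contra hcon
      push Not at hcon
      apply hc
      rw [← LinearMap.BilinForm.orthogonal_orthogonal hB hA.isRefl H]
      intro z hz
      exact hcon z hz
    obtain ⟨z₁, hz₁H, hz₁a⟩ := hex a ha
    obtain ⟨z₂, hz₂H, hz₂b⟩ := hex b hb
    obtain ⟨z, hzH, hza, hzb⟩ : ∃ z, (∀ h ∈ H, B h z = 0) ∧ B z a ≠ 0 ∧ B z b ≠ 0 := by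
      by_cases h1 : B z₁ b = 0
      · by_cases h2 : B z₂ a = 0
        · refine ⟨z₁ + z₂, ?_, ?_, ?_⟩
          · intro h hh; rw [map_add, hz₁H h hh, hz₂H h hh, add_zero]
          · rw [map_add, LinearMap.add_apply, h2, add_zero]; exact hz₁a
          · rw [map_add, LinearMap.add_apply, h1, zero_add]; exact hz₂b
        · exact ⟨z₂, hz₂H, h2, hz₂b⟩
      · exact ⟨z₁, hz₁H, hz₁a, h1⟩
    have hHz : ∀ h ∈ H, B z h = 0 := by
      intro h hh
      rw [← hA.neg_eq, hzH h hh, neg_zero]
    obtain ⟨g₁, hg₁, hg₁H, hg₁a⟩ := single_step B hA H a (a + z)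
      (by rw [map_add, hA.self_eq_zero, zero_add, ← hA.neg_eq]; exact neg_ne_zero.mpr hza)
      (by intro h hh; rw [map_add, LinearMap.add_apply, hHz h hh, add_zero])
    obtain ⟨g₂, hg₂, hg₂H, hg₂a⟩ := single_step B hA H (a + z) b
      (by rw [map_add, LinearMap.add_apply, h0, zero_add]; exact hzb)
      (by intro h hh; rw [map_add, LinearMap.add_apply, hHz h hh, add_zero]; exact hab h hh)
    refine ⟨g₁.trans g₂, ?_, ?_, ?_⟩
    · intro u v
      rw [LinearEquiv.trans_apply, LinearEquiv.trans_apply, hg₂, hg₁]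
    · intro h hh
      rw [LinearEquiv.trans_apply, hg₁H h hh, hg₂H h hh]
    · rw [LinearEquiv.trans_apply, hg₁a, hg₂a]
  · exact single_step B hA H a b h0 hab

/-- Witt's lemma for alternating forms, for linearly independent families. -/
theorem witt_family [FiniteDimensional F V] (B : LinearMap.BilinForm F V) (hB : B.Nondegenerate)
    (hA : B.IsAlt) (n : ℕ) :
    ∀ (x y : Fin n → V), LinearIndependent F x → LinearIndependent F y →
      (∀ i j, B (x i) (x j) = B (y i) (y j)) →
      ∃ g : V ≃ₗ[F] V, (∀ u v, B (g u) (g v) = B u v) ∧ ∀ i, g (x i) = y i := by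
  induction n with
  | zero =>
    intro x y _ _ _
    exact ⟨LinearEquiv.refl F V, fun u v => rfl, fun i => i.elim0⟩
  | succ n ih =>
    intro x y hx hy hxy
    obtain ⟨g₁, hg₁, hg₁x⟩ := ih (x ∘ Fin.castSucc) (y ∘ Fin.castSucc)
      (hx.comp _ (Fin.castSucc_injective n)) (hy.comp _ (Fin.castSucc_injective n))
      (fun i j => hxy _ _)
    set H : Submodule F V := Submodule.span F (Set.range (x ∘ Fin.castSucc)) with hH
    set a : V := x (Fin.last n) with ha
    set b : V := g₁.symm (y (Fin.last n)) with hb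
    have hlast : Fin.last n ∉ Set.range (Fin.castSucc : Fin n → Fin (n + 1)) := by
      rintro ⟨i, hi⟩
      exact Fin.castSucc_ne_last i hi
    have haH : a ∉ H := by
      have := hx.notMem_span_image hlast
      rwa [← Set.range_comp] at this
    have hbH : b ∉ H := by
      intro hmem
      have h1 : g₁ b ∈ H.map (g₁ : V →ₗ[F] V) := Submodule.mem_map_of_mem hmem
      rw [hb, LinearEquiv.apply_symm_apply, hH, Submodule.map_span, ← Set.range_comp] at h1
      have h2 : ((g₁ : V →ₗ[F] V) ∘ x ∘ Fin.castSucc) = y ∘ Fin.castSucc := by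
        funext i
        exact hg₁x i
      rw [h2, Set.range_comp] at h1
      exact hy.notMem_span_image hlast h1
    have hab : ∀ h ∈ H, B a h = B b h := by
      have : H ≤ LinearMap.ker (B a - B b) := by
        rw [hH, Submodule.span_le]
        rintro _ ⟨i, rfl⟩
        rw [SetLike.mem_coe, LinearMap.mem_ker, LinearMap.sub_apply, sub_eq_zero]
        show B (x (Fin.last n)) (x (Fin.castSucc i)) = B b (x (Fin.castSucc i))
        rw [← hg₁ b, hb, LinearEquiv.apply_symm_apply]
        have := hg₁x i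
        simp only [Function.comp_apply] at this
        rw [this]
        exact hxy _ _
      intro h hh
      have := this hh
      rwa [LinearMap.mem_ker, LinearMap.sub_apply, sub_eq_zero] at this
    obtain ⟨g₂, hg₂, hg₂H, hg₂a⟩ := exists_fix_move B hB hA H a b hab haH hbH
    refine ⟨g₂.trans g₁, ?_, ?_⟩
    · intro u v
      rw [LinearEquiv.trans_apply, LinearEquiv.trans_apply, hg₁, hg₂]
    · intro i
      refine Fin.lastCases ?_ (fun j => ?_) i
      · rw [LinearEquiv.trans_apply, hg₂a, hb, LinearEquiv.apply_symm_apply]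
      · have h1 : g₂ (x (Fin.castSucc j)) = x (Fin.castSucc j) :=
          hg₂H _ (Submodule.subset_span ⟨j, rfl⟩)
        rw [LinearEquiv.trans_apply, h1]
        exact hg₁x j

/-- Witt's lemma for alternating forms. -/
theorem witt [FiniteDimensional F V] (B : LinearMap.BilinForm F V) (hB : B.Nondegenerate)
    (hA : B.IsAlt) (X Y : Submodule F V) (φ : X ≃ₗ[F] Y)
    (hφ : ∀ x x' : X, B (φ x : V) (φ x' : V) = B (x : V) (x' : V)) :
    ∃ g : V ≃ₗ[F] V, (∀ u v : V, B (g u) (g v) = B u v) ∧ ∀ x : X, g (x : V) = (φ x : V) := by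
  let bX := Module.finBasis F X
  have hx : LinearIndependent F (fun i => (bX i : V)) :=
    bX.linearIndependent.map' X.subtype (Submodule.ker_subtype _)
  have hy : LinearIndependent F (fun i => (φ (bX i) : V)) := by
    have h1 : LinearIndependent F (fun i => φ (bX i)) :=
      bX.linearIndependent.map' (φ : X →ₗ[F] Y) (LinearEquiv.ker φ)
    exact h1.map' Y.subtype (Submodule.ker_subtype _)
  obtain ⟨g, hg, hgx⟩ := witt_family B hB hA _ _ _ hx hy (fun i j => (hφ _ _).symm)
  refine ⟨g, hg, ?_⟩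
  have : (g : V →ₗ[F] V) ∘ₗ X.subtype = Y.subtype ∘ₗ (φ : X →ₗ[F] Y) := by
    apply bX.ext
    intro i
    exact hgx i
  intro x
  exact congrArg (fun f => f x) this

end Cfsg.Agent.Lib.Helper5.AltWitt
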