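import Mathlib
import Cfsg.Prelude.Def_ClassicalGeometry

set_option autoImplicit false
open Cfsg

namespace Cfsg.Agent.Lib.Helper5.SympTv

open Matrix

variable {F : Type*} [CommRing F] (m : ℕ)

theorem sympForm_add_left (u u' v : Fin m ⊕ Fin m → F) :
    sympForm m F (u + u') v = sympForm m F u v + sympForm m F u' v := by
  unfold sympForm; rw [add_dotProduct]

theorem sympForm_add_right (u v v' : Fin m ⊕ Fin m → F) :
    sympForm m F u (v + v') = sympForm m F u v + sympForm m F u v' := by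
  unfold sympForm; rw [mulVec_add, dotProduct_add]

theorem sympForm_smul_left (a : F) (u v : Fin m ⊕ Fin m → F) :
    sympForm m F (a • u) v = a * sympForm m F u v := by
  unfold sympForm; rw [smul_dotProduct, smul_eq_mul]

theorem sympForm_smul_right (a : F) (u v : Fin m ⊕ Fin m → F) :
    sympForm m F u (a • v) = a * sympForm m F u v := by
  unfold sympForm; rw [mulVec_smul, dotProduct_smul, smul_eq_mul]

theorem sympForm_swap (u v : Fin m ⊕ Fin m → F) :
    sympForm m F u v = - sympForm m F v u := by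
  unfold sympForm
  rw [dotProduct_mulVec, ← mulVec_transpose, J_transpose, neg_mulVec, neg_dotProduct, dotProduct_comm]

theorem sympForm_self (v : Fin m ⊕ Fin m → F) : sympForm m F v v = 0 := by
  unfold sympForm
  simp only [dotProduct, mulVec, J, Fintype.sum_sum_type, Matrix.fromBlocks_apply₁₁,
    Matrix.fromBlocks_apply₁₂, Matrix.fromBlocks_apply₂₁, Matrix.fromBlocks_apply₂₂,
    Matrix.zero_apply, zero_mul, Finset.sum_const_zero, zero_add, add_zero, Matrix.neg_apply,
    Matrix.one_apply, neg_mul, ite_mul, one_mul, Finset.sum_neg_distrib, Finset.sum_ite_eq,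
    Finset.mem_univ, if_true, mul_neg]
  rw [neg_add_eq_zero]
  exact Finset.sum_congr rfl fun i _ => mul_comm _ _

theorem sympForm_mulVec {A : Matrix (Fin m ⊕ Fin m) (Fin m ⊕ Fin m) F}
    (hA : A ∈ symplecticGroup (Fin m) F) (u v : Fin m ⊕ Fin m → F) :
    sympForm m F (A *ᵥ u) (A *ᵥ v) = sympForm m F u v := by
  unfold sympForm
  rw [SymplecticGroup.mem_iff'] at hA
  rw [← vecMul_transpose A u, ← dotProduct_mulVec, mulVec_mulVec, mulVec_mulVec, hA]

theorem sympTransvection_mulVec (v : Fin m ⊕ Fin m → F) (c : F) (x : Fin m ⊕ Fin m → F) :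
    sympTransvection m v c *ᵥ x = x + (c * sympForm m F x v) • v := by
  unfold sympTransvection sympForm
  rw [add_mulVec, one_mulVec, smul_mulVec, vecMulVec_mulVec, dotProduct_comm]
  ext i
  simp [mul_comm, mul_left_comm]

theorem sympTransvection_mem (v : Fin m ⊕ Fin m → F) (c : F) :
    sympTransvection m v c ∈ symplecticGroup (Fin m) F := by
  rw [SymplecticGroup.mem_iff']
  unfold sympTransvection
  have h1 : v ᵥ* J (Fin m) F = -(J (Fin m) F *ᵥ v) := by
    rw [← mulVec_transpose, J_transpose, neg_mulVec]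
  have h3 : (J (Fin m) F *ᵥ v) ⬝ᵥ v = 0 := by
    have h := sympForm_self m v
    unfold sympForm at h
    rw [dotProduct_comm]; exact h
  rw [transpose_add, transpose_one, transpose_smul, transpose_vecMulVec]
  rw [Matrix.add_mul, Matrix.one_mul, Matrix.add_mul, Matrix.mul_add, Matrix.mul_add, Matrix.mul_one,
    Matrix.mul_one, Matrix.smul_mul, Matrix.mul_smul, Matrix.mul_smul, vecMulVec_mul, h1,
    mul_vecMulVec, Matrix.smul_mul, vecMulVec_mul_vecMulVec, neg_dotProduct, h3, neg_zero, zero_smul,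
    vecMulVec_zero, vecMulVec_neg]
  simp

theorem sympForm_sub_right (u v v' : Fin m ⊕ Fin m → F) :
    sympForm m F u (v - v') = sympForm m F u v - sympForm m F u v' := by
  unfold sympForm; rw [mulVec_sub, dotProduct_sub]

theorem sympForm_sub_left (u u' v : Fin m ⊕ Fin m → F) :
    sympForm m F (u - u') v = sympForm m F u v - sympForm m F u' v := by
  unfold sympForm; rw [sub_dotProduct]

theorem sympTransvection_mul (v : Fin m ⊕ Fin m → F) (c d : F) :
    sympTransvection m v c * sympTransvection m v d = sympTransvection m v (c + d) := by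
  rw [ext_iff_mulVec]
  intro x
  rw [← mulVec_mulVec, sympTransvection_mulVec, sympTransvection_mulVec, sympTransvection_mulVec,
    sympForm_add_left, sympForm_smul_left, sympForm_self, mul_zero, add_zero, add_assoc, ← add_smul]
  congr 2
  ring

/-- The set of symplectic transvections inside the symplectic group. -/
def tvSet (F : Type*) [CommRing F] (m : ℕ) : Set (symplecticGroup (Fin m) F) :=
  {A | ∃ (w : Fin m ⊕ Fin m → F) (c : F),
    (A : Matrix (Fin m ⊕ Fin m) (Fin m ⊕ Fin m) F) = sympTransvection m w c}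

end Cfsg.Agent.Lib.Helper5.SympTv

namespace Cfsg.Agent.Lib.Helper5.SympTv

open Matrix

variable {F : Type*} [Field F] (m : ℕ)

/-- One transvection moving `x` to `y` when `f(x, y) ≠ 0`. -/
theorem single_step (x y : Fin m ⊕ Fin m → F) (hxy : sympForm m F x y ≠ 0) :
    ∃ A ∈ Subgroup.closure (tvSet F m),
      (A : Matrix (Fin m ⊕ Fin m) (Fin m ⊕ Fin m) F) *ᵥ x = y ∧
      ∀ z, sympForm m F z x = sympForm m F z y →
        (A : Matrix (Fin m ⊕ Fin m) (Fin m ⊕ Fin m) F) *ᵥ z = z := by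
  refine ⟨⟨sympTransvection m (y - x) (sympForm m F x y)⁻¹, sympTransvection_mem m _ _⟩,
    Subgroup.subset_closure ⟨y - x, _, rfl⟩, ?_, ?_⟩
  · show sympTransvection m (y - x) (sympForm m F x y)⁻¹ *ᵥ x = y
    rw [sympTransvection_mulVec, sympForm_sub_right, sympForm_self, sub_zero, inv_mul_cancel₀ hxy,
      one_smul, add_sub_cancel]
  · intro z hz
    show sympTransvection m (y - x) (sympForm m F x y)⁻¹ *ᵥ z = z
    rw [sympTransvection_mulVec, sympForm_sub_right, hz, sub_self, mul_zero, zero_smul, add_zero]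

/-- Moving `u` to `u'` inside the group generated by transvections, given partners `v`, `v'`. -/
theorem move_first (u v u' v' : Fin m ⊕ Fin m → F) (h : sympForm m F u v = 1)
    (h' : sympForm m F u' v' = 1) :
    ∃ A ∈ Subgroup.closure (tvSet F m),
      (A : Matrix (Fin m ⊕ Fin m) (Fin m ⊕ Fin m) F) *ᵥ u = u' ∧
      ∀ z, sympForm m F z u = 0 → sympForm m F z v = 0 → sympForm m F z u' = 0 →
        sympForm m F z v' = 0 → (A : Matrix (Fin m ⊕ Fin m) (Fin m ⊕ Fin m) F) *ᵥ z = z := by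
  by_cases h0 : sympForm m F u u' = 0
  · -- find w with f(u,w) ≠ 0 and f(w,u') ≠ 0, w in the span of v, v'
    obtain ⟨w, hw1, hw2, hw3⟩ : ∃ w, sympForm m F u w ≠ 0 ∧ sympForm m F w u' ≠ 0 ∧
        ∀ z, sympForm m F z v = 0 → sympForm m F z v' = 0 → sympForm m F z w = 0 := by
      by_cases h1 : sympForm m F v u' = 0
      · by_cases h2 : sympForm m F u v' = 0
        · refine ⟨v + v', ?_, ?_, ?_⟩
          · rw [sympForm_add_right, h, h2, add_zero]; exact one_ne_zero
          · rw [sympForm_add_left, h1, zero_add, sympForm_swap, h']; simp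
          · intro z hz1 hz2; rw [sympForm_add_right, hz1, hz2, add_zero]
        · refine ⟨v', h2, ?_, fun z _ hz => hz⟩
          rw [sympForm_swap, h']; simp
      · exact ⟨v, by rw [h]; exact one_ne_zero, h1, fun z hz _ => hz⟩
    obtain ⟨A, hA, hAu, hAz⟩ := single_step m u w hw1
    obtain ⟨B, hB, hBw, hBz⟩ := single_step m w u' hw2
    refine ⟨B * A, mul_mem hB hA, ?_, ?_⟩
    · show (B.1 * A.1) *ᵥ u = u'
      rw [← mulVec_mulVec, hAu, hBw]
    · intro z hz1 hz2 hz3 hz4
      show (B.1 * A.1) *ᵥ z = z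
      rw [← mulVec_mulVec, hAz z (by rw [hz1, hw3 z hz2 hz4]), hBz z (by rw [hz3, hw3 z hz2 hz4])]
  · obtain ⟨A, hA, hAu, hAz⟩ := single_step m u u' h0
    exact ⟨A, hA, hAu, fun z hz1 _ hz3 _ => hAz z (by rw [hz1, hz3])⟩

/-- Moving `v` to `v'` while fixing `u`, when `f(u,v) = f(u,v') = 1`. -/
theorem move_second (u v v' : Fin m ⊕ Fin m → F) (h : sympForm m F u v = 1)
    (h' : sympForm m F u v' = 1) :
    ∃ A ∈ Subgroup.closure (tvSet F m),
      (A : Matrix (Fin m ⊕ Fin m) (Fin m ⊕ Fin m) F) *ᵥ u = u ∧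
      (A : Matrix (Fin m ⊕ Fin m) (Fin m ⊕ Fin m) F) *ᵥ v = v' ∧
      ∀ z, sympForm m F z u = 0 → sympForm m F z v = 0 →
        sympForm m F z v' = 0 → (A : Matrix (Fin m ⊕ Fin m) (Fin m ⊕ Fin m) F) *ᵥ z = z := by
  by_cases h0 : sympForm m F v v' = 0
  · have hvu : sympForm m F v u = -1 := by rw [sympForm_swap, h]
    obtain ⟨A, hA, hAv, hAz⟩ := single_step m v (u + v) (by
      rw [sympForm_add_right, sympForm_self, add_zero, hvu]; simp)
    obtain ⟨B, hB, hBw, hBz⟩ := single_step m (u + v) v' (by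
      rw [sympForm_add_left, h', h0, add_zero]; exact one_ne_zero)
    refine ⟨B * A, mul_mem hB hA, ?_, ?_, ?_⟩
    · show (B.1 * A.1) *ᵥ u = u
      rw [← mulVec_mulVec, hAz u (by rw [sympForm_add_right, sympForm_self, zero_add]),
        hBz u (by rw [sympForm_add_right, sympForm_self, zero_add, h, h'])]
    · show (B.1 * A.1) *ᵥ v = v'
      rw [← mulVec_mulVec, hAv, hBw]
    · intro z hz1 hz2 hz3
      show (B.1 * A.1) *ᵥ z = z
      rw [← mulVec_mulVec, hAz z (by rw [sympForm_add_right, hz1, hz2, add_zero]),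
        hBz z (by rw [sympForm_add_right, hz1, hz2, add_zero, hz3])]
  · obtain ⟨A, hA, hAv, hAz⟩ := single_step m v v' h0
    exact ⟨A, hA, hAz u (by rw [h, h']), hAv, fun z _ hz2 hz3 => hAz z (by rw [hz2, hz3])⟩

/-- Transitivity on hyperbolic pairs, keeping fixed everything perpendicular to both pairs. -/
theorem move_pair (u v u' v' : Fin m ⊕ Fin m → F) (h : sympForm m F u v = 1)
    (h' : sympForm m F u' v' = 1) :
    ∃ A ∈ Subgroup.closure (tvSet F m),
      (A : Matrix (Fin m ⊕ Fin m) (Fin m ⊕ Fin m) F) *ᵥ u = u' ∧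
      (A : Matrix (Fin m ⊕ Fin m) (Fin m ⊕ Fin m) F) *ᵥ v = v' ∧
      ∀ z, sympForm m F z u = 0 → sympForm m F z v = 0 → sympForm m F z u' = 0 →
        sympForm m F z v' = 0 → (A : Matrix (Fin m ⊕ Fin m) (Fin m ⊕ Fin m) F) *ᵥ z = z := by
  obtain ⟨A, hA, hAu, hAz⟩ := move_first m u v u' v' h h'
  have hAv : sympForm m F u' ((A : Matrix (Fin m ⊕ Fin m) (Fin m ⊕ Fin m) F) *ᵥ v) = 1 := by
    rw [← hAu, sympForm_mulVec m A.2, h]
  obtain ⟨B, hB, hBu, hBv, hBz⟩ := move_second m u' _ v' hAv h'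
  refine ⟨B * A, mul_mem hB hA, ?_, ?_, ?_⟩
  · show (B.1 * A.1) *ᵥ u = u'
    rw [← mulVec_mulVec, hAu, hBu]
  · show (B.1 * A.1) *ᵥ v = v'
    rw [← mulVec_mulVec, hBv]
  · intro z hz1 hz2 hz3 hz4
    show (B.1 * A.1) *ᵥ z = z
    have hz := hAz z hz1 hz2 hz3 hz4
    rw [← mulVec_mulVec, hz]
    refine hBz z hz3 ?_ hz4
    conv_lhs => rw [← hz]
    rw [sympForm_mulVec m A.2, hz2]

end Cfsg.Agent.Lib.Helper5.SympTv
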