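import Mathlib
import Cfsg.Prelude.Def_ClassicalGeometry
import Cfsg.Agent.Lib.Helper5.SympTv

set_option autoImplicit false
open Cfsg

namespace Cfsg.Agent.Lib.Helper5.SympGen

open Matrix Cfsg.Agent.Lib.Helper5.SympTv

variable {F : Type*} [CommRing F] (m : ℕ)

theorem sympForm_single_inl (z : Fin m ⊕ Fin m → F) (i : Fin m) :
    sympForm m F z (Pi.single (Sum.inl i) 1) = z (Sum.inr i) := by
  unfold sympForm
  rw [mulVec_single_one]
  simp [dotProduct, J, Fintype.sum_sum_type, Matrix.one_apply]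

theorem sympForm_single_inr (z : Fin m ⊕ Fin m → F) (i : Fin m) :
    sympForm m F z (Pi.single (Sum.inr i) 1) = - z (Sum.inl i) := by
  unfold sympForm
  rw [mulVec_single_one]
  simp [dotProduct, J, Fintype.sum_sum_type, Matrix.one_apply]

end Cfsg.Agent.Lib.Helper5.SympGen

namespace Cfsg.Agent.Lib.Helper5.SympGen

open Matrix Cfsg.Agent.Lib.Helper5.SympTv

variable {F : Type*} [Field F] (m : ℕ)

theorem exists_fix (A : symplecticGroup (Fin m) F) (k : ℕ) (hk : k ≤ m) :
    ∃ B ∈ Subgroup.closure (tvSet F m), ∀ i : Fin m, (i : ℕ) < k →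
      (B.1 * A.1) *ᵥ (Pi.single (Sum.inl i) 1) = Pi.single (Sum.inl i) 1 ∧
      (B.1 * A.1) *ᵥ (Pi.single (Sum.inr i) 1) = Pi.single (Sum.inr i) 1 := by
  induction k with
  | zero => exact ⟨1, one_mem _, fun i hi => absurd hi (Nat.not_lt_zero _)⟩
  | succ k ih =>
    obtain ⟨B, hB, hfix⟩ := ih (Nat.le_of_succ_le hk)
    set C : symplecticGroup (Fin m) F := B * A with hC
    have hCm : C.1 = B.1 * A.1 := rfl
    rw [← hCm] at hfix
    set j : Fin m := ⟨k, hk⟩ with hj
    have hpair : sympForm m F (Pi.single (Sum.inr j) 1) (Pi.single (Sum.inl j) 1) = 1 := by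
      rw [sympForm_single_inl]; simp
    have hpair' : sympForm m F (C.1 *ᵥ Pi.single (Sum.inr j) 1) (C.1 *ᵥ Pi.single (Sum.inl j) 1) = 1 := by
      rw [sympForm_mulVec m C.2, hpair]
    obtain ⟨D, hD, hD1, hD2, hDz⟩ := move_pair m _ _ _ _ hpair' hpair
    refine ⟨D * B, mul_mem hD hB, ?_⟩
    have hmat : (D * B).1 * A.1 = D.1 * C.1 := by
      show D.1 * B.1 * A.1 = D.1 * (B.1 * A.1)
      rw [Matrix.mul_assoc]
    rw [hmat]
    intro i hi
    rcases Nat.lt_succ_iff_lt_or_eq.mp hi with hi | hi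
    · obtain ⟨h1, h2⟩ := hfix i hi
      have hij : i ≠ j := by
        intro h; rw [h] at hi; simp [hj] at hi
      have key : ∀ z, C.1 *ᵥ z = z → sympForm m F z (Pi.single (Sum.inr j) 1) = 0 →
          sympForm m F z (Pi.single (Sum.inl j) 1) = 0 → D.1 *ᵥ z = z := by
        intro z hz hz1 hz2
        refine hDz z ?_ ?_ hz1 hz2
        · conv_lhs => rw [← hz]
          rw [sympForm_mulVec m C.2, hz1]
        · conv_lhs => rw [← hz]
          rw [sympForm_mulVec m C.2, hz2]
      constructor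
      · rw [← mulVec_mulVec, h1]
        refine key _ h1 ?_ ?_
        · rw [sympForm_single_inr]; simp [hij]
        · rw [sympForm_single_inl]; simp
      · rw [← mulVec_mulVec, h2]
        refine key _ h2 ?_ ?_
        · rw [sympForm_single_inr]; simp
        · rw [sympForm_single_inl]; simp [hij]
    · have hij : i = j := Fin.ext hi
      rw [hij]
      constructor
      · rw [← mulVec_mulVec, hD2]
      · rw [← mulVec_mulVec, hD1]

theorem closure_tvSet_eq_top : Subgroup.closure (tvSet F m) = ⊤ := by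
  rw [eq_top_iff]
  intro A _
  obtain ⟨B, hB, hfix⟩ := exists_fix m A m le_rfl
  have h1 : B.1 * A.1 = 1 := by
    apply ext_of_mulVec_single
    intro i
    rw [one_mulVec]
    rcases i with i | i
    · exact (hfix i i.2).1
    · exact (hfix i i.2).2
  have h2 : B * A = 1 := Subtype.ext h1
  have h3 : A = B⁻¹ := by
    rw [eq_inv_iff_mul_eq_one, ← h2]
    exact (mul_eq_one_comm.mp h2).trans h2.symm
  rw [h3]
  exact inv_mem hB

end Cfsg.Agent.Lib.Helper5.SympGen
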