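import Mathlib
import Cfsg.Prelude.Def_ClassicalGeometry
import Cfsg.Agent.Lib.Helper5.SympTv
import Cfsg.Agent.Lib.Helper5.SympGen

set_option autoImplicit false
open Cfsg

namespace Cfsg.Agent.Lib.Helper5.SympBridge

open Matrix Cfsg.Agent.Lib.Helper5.SympTv Cfsg.Agent.Lib.Helper5.SympGen

variable {F : Type*} [Field F] (m : ℕ)

/-- `sympForm` as a bilinear form -/
noncomputable def sympBilin (F : Type*) [Field F] (m : ℕ) :
    LinearMap.BilinForm F (Fin m ⊕ Fin m → F) :=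
  LinearMap.mk₂ F (sympForm m F) (sympForm_add_left m)
    (fun c u v => by rw [sympForm_smul_left, smul_eq_mul]) (sympForm_add_right m)
    (fun c u v => by rw [sympForm_smul_right, smul_eq_mul])

@[simp] theorem sympBilin_apply (u v : Fin m ⊕ Fin m → F) :
    sympBilin F m u v = sympForm m F u v := rfl

theorem sympBilin_isAlt : (sympBilin F m).IsAlt := fun v => sympForm_self m v

theorem eq_zero_of_sympForm_right (u : Fin m ⊕ Fin m → F)
    (h : ∀ v, sympForm m F u v = 0) : u = 0 := by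
  ext i
  rcases i with i | i
  · have := h (Pi.single (Sum.inr i) 1)
    rw [sympForm_single_inr] at this
    simpa using this
  · have := h (Pi.single (Sum.inl i) 1)
    rw [sympForm_single_inl] at this
    simpa using this

theorem sympBilin_nondegenerate : (sympBilin F m).Nondegenerate := by
  constructor
  · intro u hu
    exact eq_zero_of_sympForm_right m u hu
  · intro u hu
    apply eq_zero_of_sympForm_right m u
    intro v
    rw [sympForm_swap, ← sympBilin_apply, hu v, neg_zero]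

theorem mem_symplectic_iff (A : Matrix (Fin m ⊕ Fin m) (Fin m ⊕ Fin m) F) :
    A ∈ symplecticGroup (Fin m) F ↔
      ∀ u v, sympForm m F (A *ᵥ u) (A *ᵥ v) = sympForm m F u v := by
  constructor
  · intro hA u v
    exact sympForm_mulVec m hA u v
  · intro h
    rw [SymplecticGroup.mem_iff']
    ext i j
    have := h (Pi.single i 1) (Pi.single j 1)
    unfold sympForm at this
    rw [← vecMul_transpose A, ← dotProduct_mulVec, mulVec_mulVec, mulVec_mulVec,
      mulVec_single_one, mulVec_single_one, single_dotProduct, single_dotProduct, one_mul, one_mul]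
      at this
    exact this

/-- an isometry of `sympForm` as a symplectic matrix -/
theorem exists_symplectic_of_isometry (g : (Fin m ⊕ Fin m → F) ≃ₗ[F] (Fin m ⊕ Fin m → F))
    (hg : ∀ u v, sympForm m F (g u) (g v) = sympForm m F u v) :
    ∃ A : symplecticGroup (Fin m) F, ∀ v,
      (A : Matrix (Fin m ⊕ Fin m) (Fin m ⊕ Fin m) F) *ᵥ v = g v := by
  have hmul : ∀ v, LinearMap.toMatrix' (g : (Fin m ⊕ Fin m → F) →ₗ[F] (Fin m ⊕ Fin m → F)) *ᵥ v = g v :=
    fun v => LinearMap.toMatrix'_mulVec _ v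
  refine ⟨⟨LinearMap.toMatrix' (g : (Fin m ⊕ Fin m → F) →ₗ[F] (Fin m ⊕ Fin m → F)), ?_⟩, hmul⟩
  rw [mem_symplectic_iff]
  intro u v
  rw [hmul, hmul, hg]

/-- an isometry of `sympForm` as an element of `spGL` -/
theorem exists_spGL_of_isometry (g : (Fin m ⊕ Fin m → F) ≃ₗ[F] (Fin m ⊕ Fin m → F))
    (hg : ∀ u v, sympForm m F (g u) (g v) = sympForm m F u v) :
    ∃ A : ↥(spGL m F), ∀ v,
      ((A : Matrix.GeneralLinearGroup (Fin m ⊕ Fin m) F) : Matrix (Fin m ⊕ Fin m) (Fin m ⊕ Fin m) F) *ᵥ v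
        = g v := by
  have hmul : ∀ v, LinearMap.toMatrix' (g : (Fin m ⊕ Fin m → F) →ₗ[F] (Fin m ⊕ Fin m → F)) *ᵥ v = g v :=
    fun v => LinearMap.toMatrix'_mulVec _ v
  have h1 : LinearMap.toMatrix' (g : (Fin m ⊕ Fin m → F) →ₗ[F] (Fin m ⊕ Fin m → F)) *
      LinearMap.toMatrix' (g.symm : (Fin m ⊕ Fin m → F) →ₗ[F] (Fin m ⊕ Fin m → F)) = 1 := by
    rw [← LinearMap.toMatrix'_comp, ← LinearMap.toMatrix'_id]
    congr 1
    ext v
    simp
  have h2 : LinearMap.toMatrix' (g.symm : (Fin m ⊕ Fin m → F) →ₗ[F] (Fin m ⊕ Fin m → F)) *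
      LinearMap.toMatrix' (g : (Fin m ⊕ Fin m → F) →ₗ[F] (Fin m ⊕ Fin m → F)) = 1 := by
    rw [← LinearMap.toMatrix'_comp, ← LinearMap.toMatrix'_id]
    congr 1
    ext v
    simp
  refine ⟨⟨⟨_, _, h1, h2⟩, ?_⟩, hmul⟩
  intro u v
  show sympForm m F (LinearMap.toMatrix' (g : (Fin m ⊕ Fin m → F) →ₗ[F] (Fin m ⊕ Fin m → F)) *ᵥ u)
    (LinearMap.toMatrix' (g : (Fin m ⊕ Fin m → F) →ₗ[F] (Fin m ⊕ Fin m → F)) *ᵥ v) = _
  rw [hmul, hmul, hg]

end Cfsg.Agent.Lib.Helper5.SympBridge
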