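import Mathlib
import Cfsg.Prelude.Def_ClassicalGeometry

set_option autoImplicit false
open Cfsg

namespace Cfsg.Agent.Lib.Helper5.SympBlock

open Matrix

variable {F : Type*} [Field F] (k l : ℕ)

/-- reindexing `(k + k) + (l + l)` as `(k + l) + (k + l)` -/
def eKL : (Fin k ⊕ Fin k) ⊕ (Fin l ⊕ Fin l) ≃ Fin (k + l) ⊕ Fin (k + l) :=
  (Equiv.sumSumSumComm _ _ _ _).trans (Equiv.sumCongr finSumFinEquiv finSumFinEquiv)

@[simp] theorem eKL_inl_inl (i : Fin k) : eKL k l (Sum.inl (Sum.inl i)) = Sum.inl (Fin.castAdd l i) := rfl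
@[simp] theorem eKL_inl_inr (i : Fin k) : eKL k l (Sum.inl (Sum.inr i)) = Sum.inr (Fin.castAdd l i) := rfl
@[simp] theorem eKL_inr_inl (j : Fin l) : eKL k l (Sum.inr (Sum.inl j)) = Sum.inl (Fin.natAdd k j) := rfl
@[simp] theorem eKL_inr_inr (j : Fin l) : eKL k l (Sum.inr (Sum.inr j)) = Sum.inr (Fin.natAdd k j) := rfl

theorem castAdd_ne_natAdd (i : Fin k) (j : Fin l) : Fin.castAdd l i ≠ Fin.natAdd k j := by
  intro h
  have := congrArg Fin.val h
  simp at this
  omega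

theorem J_submatrix :
    (J (Fin (k + l)) F).submatrix (eKL k l) (eKL k l) =
      fromBlocks (J (Fin k) F) 0 0 (J (Fin l) F) := by
  ext a b
  rcases a with (a | a) | (a | a) <;> rcases b with (b | b) | (b | b) <;>
    simp [J, Matrix.one_apply, castAdd_ne_natAdd, (castAdd_ne_natAdd k l _ _).symm]

/-- block diagonal matrix in the `(k + l) + (k + l)` indexing -/
def blockDiag (M₁ : Matrix (Fin k ⊕ Fin k) (Fin k ⊕ Fin k) F)
    (M₂ : Matrix (Fin l ⊕ Fin l) (Fin l ⊕ Fin l) F) :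
    Matrix (Fin (k + l) ⊕ Fin (k + l)) (Fin (k + l) ⊕ Fin (k + l)) F :=
  (fromBlocks M₁ 0 0 M₂).submatrix (eKL k l).symm (eKL k l).symm

theorem blockDiag_mul (M₁ N₁ : Matrix (Fin k ⊕ Fin k) (Fin k ⊕ Fin k) F)
    (M₂ N₂ : Matrix (Fin l ⊕ Fin l) (Fin l ⊕ Fin l) F) :
    blockDiag k l (M₁ * N₁) (M₂ * N₂) = blockDiag k l M₁ M₂ * blockDiag k l N₁ N₂ := by
  unfold blockDiag
  rw [Matrix.submatrix_mul_equiv, fromBlocks_multiply]
  simp

theorem blockDiag_one : blockDiag k l (1 : Matrix (Fin k ⊕ Fin k) (Fin k ⊕ Fin k) F) 1 = 1 := by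
  unfold blockDiag
  rw [fromBlocks_one, Matrix.submatrix_one_equiv]

theorem blockDiag_submatrix (M₁ : Matrix (Fin k ⊕ Fin k) (Fin k ⊕ Fin k) F)
    (M₂ : Matrix (Fin l ⊕ Fin l) (Fin l ⊕ Fin l) F) :
    (blockDiag k l M₁ M₂).submatrix (eKL k l) (eKL k l) = fromBlocks M₁ 0 0 M₂ := by
  unfold blockDiag
  rw [Matrix.submatrix_submatrix]
  simp

theorem blockDiag_injective (M₁ N₁ : Matrix (Fin k ⊕ Fin k) (Fin k ⊕ Fin k) F)
    (M₂ N₂ : Matrix (Fin l ⊕ Fin l) (Fin l ⊕ Fin l) F)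
    (h : blockDiag k l M₁ M₂ = blockDiag k l N₁ N₂) : M₁ = N₁ ∧ M₂ = N₂ := by
  have := congrArg (fun A => A.submatrix (eKL k l) (eKL k l)) h
  simp only [blockDiag_submatrix] at this
  rw [fromBlocks_inj] at this
  exact ⟨this.1, this.2.2.2⟩

/-- a matrix is symplectic iff its reindexing satisfies the block equation -/
theorem mem_symplectic_iff_submatrix (A : Matrix (Fin (k + l) ⊕ Fin (k + l)) (Fin (k + l) ⊕ Fin (k + l)) F) :
    A ∈ symplecticGroup (Fin (k + l)) F ↔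
      (A.submatrix (eKL k l) (eKL k l))ᵀ * fromBlocks (J (Fin k) F) 0 0 (J (Fin l) F) *
        A.submatrix (eKL k l) (eKL k l) = fromBlocks (J (Fin k) F) 0 0 (J (Fin l) F) := by
  rw [SymplecticGroup.mem_iff', ← J_submatrix, Matrix.transpose_submatrix, Matrix.submatrix_mul_equiv,
    Matrix.submatrix_mul_equiv]
  constructor
  · intro h; rw [h]
  · intro h
    have := congrArg (fun A => A.submatrix (eKL k l).symm (eKL k l).symm) h
    simpa [Matrix.submatrix_submatrix] using this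

theorem blockDiag_mem {M₁ : Matrix (Fin k ⊕ Fin k) (Fin k ⊕ Fin k) F}
    {M₂ : Matrix (Fin l ⊕ Fin l) (Fin l ⊕ Fin l) F} (h₁ : M₁ ∈ symplecticGroup (Fin k) F)
    (h₂ : M₂ ∈ symplecticGroup (Fin l) F) : blockDiag k l M₁ M₂ ∈ symplecticGroup (Fin (k + l)) F := by
  rw [mem_symplectic_iff_submatrix, blockDiag_submatrix, fromBlocks_transpose, fromBlocks_multiply,
    fromBlocks_multiply]
  rw [SymplecticGroup.mem_iff'] at h₁ h₂
  simp [h₁, h₂]

/-- the standard nondegenerate subspace -/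
abbrev W0 (F : Type*) [Field F] (k l : ℕ) : Set (Fin (k + l) ⊕ Fin (k + l) → F) :=
  {v | ∀ i : Fin (k + l), k ≤ (i : ℕ) → v (Sum.inl i) = 0 ∧ v (Sum.inr i) = 0}

theorem mem_W0_iff (v : Fin (k + l) ⊕ Fin (k + l) → F) :
    v ∈ W0 F k l ↔ ∀ j : Fin l ⊕ Fin l, v (eKL k l (Sum.inr j)) = 0 := by
  constructor
  · intro h j
    rcases j with j | j
    · exact (h (Fin.natAdd k j) (by simp)).1
    · exact (h (Fin.natAdd k j) (by simp)).2
  · intro h i hi
    have hi' : i = Fin.natAdd k ⟨(i : ℕ) - k, by omega⟩ := by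
      apply Fin.ext; simp; omega
    constructor
    · have := h (Sum.inl ⟨(i : ℕ) - k, by omega⟩)
      rw [eKL_inr_inl, ← hi'] at this
      exact this
    · have := h (Sum.inr ⟨(i : ℕ) - k, by omega⟩)
      rw [eKL_inr_inr, ← hi'] at this
      exact this

theorem mulVec_comp_eKL (A : Matrix (Fin (k + l) ⊕ Fin (k + l)) (Fin (k + l) ⊕ Fin (k + l)) F)
    (v : Fin (k + l) ⊕ Fin (k + l) → F) :
    (A *ᵥ v) ∘ (eKL k l) = (A.submatrix (eKL k l) (eKL k l)) *ᵥ (v ∘ eKL k l) := by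
  rw [Matrix.submatrix_mulVec_equiv]
  ext x
  simp [Function.comp_def]

theorem single_mem_W0 (j : Fin k ⊕ Fin k) :
    (Pi.single (eKL k l (Sum.inl j)) (1 : F) : Fin (k + l) ⊕ Fin (k + l) → F) ∈ W0 F k l := by
  rw [mem_W0_iff]
  intro j'
  rw [Pi.single_apply, if_neg]
  intro h
  have := (eKL k l).injective h
  simp at this

theorem blockDiag_stab {M₁ : Matrix (Fin k ⊕ Fin k) (Fin k ⊕ Fin k) F}
    {M₂ : Matrix (Fin l ⊕ Fin l) (Fin l ⊕ Fin l) F} (h₂ : M₂ ∈ symplecticGroup (Fin l) F)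
    (v : Fin (k + l) ⊕ Fin (k + l) → F) :
    v ∈ W0 F k l ↔ blockDiag k l M₁ M₂ *ᵥ v ∈ W0 F k l := by
  rw [mem_W0_iff, mem_W0_iff]
  have hcomp := mulVec_comp_eKL k l (blockDiag k l M₁ M₂) v
  rw [blockDiag_submatrix] at hcomp
  have hv : v ∘ eKL k l = Sum.elim (fun a => v (eKL k l (Sum.inl a))) (fun b => v (eKL k l (Sum.inr b))) := by
    ext x
    rcases x with x | x <;> rfl
  rw [hv, fromBlocks_mulVec] at hcomp
  have hval : ∀ j, (blockDiag k l M₁ M₂ *ᵥ v) (eKL k l (Sum.inr j)) =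
      (M₂ *ᵥ (fun b => v (eKL k l (Sum.inr b)))) j := by
    intro j
    have := congrFun hcomp (Sum.inr j)
    simpa using this
  simp only [hval]
  have hdet : M₂.det ≠ 0 := (SymplecticGroup.symplectic_det h₂).ne_zero
  constructor
  · intro h j
    have : (fun b => v (eKL k l (Sum.inr b))) = 0 := funext h
    rw [this, Matrix.mulVec_zero]; rfl
  · intro h j
    have h0 : M₂ *ᵥ (fun b => v (eKL k l (Sum.inr b))) = 0 := funext h
    have := Matrix.eq_zero_of_mulVec_eq_zero hdet h0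
    exact congrFun this j

/-- the block diagonal embedding of `Sp_2k × Sp_2l` onto the stabiliser of `W0` -/
noncomputable def psi :
    symplecticGroup (Fin k) F × symplecticGroup (Fin l) F →*
      ↥(Cfsg.stabilizing (Cfsg.spToMat (k + l) F) (W0 F k l)) where
  toFun p := ⟨⟨blockDiag k l p.1.1 p.2.1, blockDiag_mem k l p.1.2 p.2.2⟩,
    fun v => blockDiag_stab k l p.2.2 v⟩
  map_one' := by
    apply Subtype.ext
    apply Subtype.ext
    exact blockDiag_one k l
  map_mul' p q := by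
    apply Subtype.ext
    apply Subtype.ext
    exact blockDiag_mul k l p.1.1 q.1.1 p.2.1 q.2.1

theorem psi_injective : Function.Injective (psi (F := F) k l) := by
  intro p q h
  have h1 : blockDiag k l p.1.1 p.2.1 = blockDiag k l q.1.1 q.2.1 :=
    congrArg (fun x => (x.1.1 : Matrix _ _ F)) h
  obtain ⟨ha, hb⟩ := blockDiag_injective k l _ _ _ _ h1
  exact Prod.ext (Subtype.ext ha) (Subtype.ext hb)

theorem psi_surjective : Function.Surjective (psi (F := F) k l) := by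
  intro g
  obtain ⟨P, Q, R, S, hA'⟩ : ∃ P Q R S, (g.1.1).submatrix (eKL k l) (eKL k l) = fromBlocks P Q R S :=
    ⟨_, _, _, _, (fromBlocks_toBlocks _).symm⟩
  have hR : R = 0 := by
    ext i j
    have h1 := (g.2 _).mp (single_mem_W0 (F := F) k l j)
    rw [mem_W0_iff] at h1
    have h2 := h1 i
    show R i j = 0
    have h3 : (Cfsg.spToMat (k + l) F) g.1 = g.1.1 := rfl
    rw [h3, Matrix.mulVec_single_one] at h2
    have h4 := congrFun (congrFun hA' (Sum.inr i)) (Sum.inl j)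
    simp only [Matrix.submatrix_apply, fromBlocks_apply₂₁] at h4
    rw [← h4]
    exact h2
  subst hR
  have hsymp := (mem_symplectic_iff_submatrix k l g.1.1).mp g.1.2
  rw [hA', fromBlocks_transpose, fromBlocks_multiply, fromBlocks_multiply, fromBlocks_inj] at hsymp
  obtain ⟨e1, e2, -, e4⟩ := hsymp
  simp only [Matrix.transpose_zero, Matrix.zero_mul, Matrix.mul_zero, add_zero, zero_add] at e1 e2 e4
  have hP : P ∈ symplecticGroup (Fin k) F := by
    rw [SymplecticGroup.mem_iff']; exact e1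
  have hQ : Q = 0 := by
    have h1 : (-(J (Fin k) F) * (Pᵀ * J (Fin k) F)) * P = 1 := by
      rw [Matrix.mul_assoc, e1, neg_mul, J_squared, neg_neg]
    have h2 : P * (-(J (Fin k) F) * (Pᵀ * J (Fin k) F)) = 1 := mul_eq_one_comm.mp h1
    calc Q = (P * (-(J (Fin k) F) * (Pᵀ * J (Fin k) F))) * Q := by rw [h2, Matrix.one_mul]
      _ = P * -(J (Fin k) F) * (Pᵀ * J (Fin k) F * Q) := by simp only [Matrix.mul_assoc]
      _ = 0 := by rw [e2, Matrix.mul_zero]
  subst hQ
  simp only [Matrix.mul_zero, zero_add] at e4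
  have hS : S ∈ symplecticGroup (Fin l) F := by
    rw [SymplecticGroup.mem_iff']; exact e4
  refine ⟨(⟨P, hP⟩, ⟨S, hS⟩), ?_⟩
  apply Subtype.ext
  apply Subtype.ext
  show blockDiag k l P S = g.1.1
  unfold blockDiag
  rw [← hA', Matrix.submatrix_submatrix]
  simp

theorem stabW0_equiv :
    Nonempty (↥(Cfsg.stabilizing (Cfsg.spToMat (k + l) F) (W0 F k l)) ≃*
      symplecticGroup (Fin k) F × symplecticGroup (Fin l) F) :=
  ⟨(MulEquiv.ofBijective (psi k l) ⟨psi_injective k l, psi_surjective k l⟩).symm⟩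

end Cfsg.Agent.Lib.Helper5.SympBlock
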