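import Mathlib
import Cfsg.Prelude.Def_ClassicalGeometry
import Cfsg.Agent.Lib.Helper5.SympTv
import Cfsg.Agent.Lib.Helper5.SympGen
import Cfsg.Agent.Lib.Helper5.SympBridge
import Cfsg.Agent.Lib.Helper5.SympBlock

set_option autoImplicit false
open Cfsg

namespace Cfsg.Agent.Lib.Helper5.SympCard

open Matrix Cfsg.Agent.Lib.Helper5.SympTv Cfsg.Agent.Lib.Helper5.SympGen
  Cfsg.Agent.Lib.Helper5.SympBridge Cfsg.Agent.Lib.Helper5.SympBlock

section count
variable {F : Type*} [Field F] [Fintype F] (m : ℕ)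

omit [Fintype F] in
theorem exists_sympForm_eq (u : Fin m ⊕ Fin m → F) (hu : u ≠ 0) (c : F) :
    ∃ w, sympForm m F u w = c := by
  by_contra hcon
  push Not at hcon
  apply hu
  apply eq_zero_of_sympForm_right m u
  intro v
  by_contra hv
  apply hcon ((c * (sympForm m F u v)⁻¹) • v)
  rw [sympForm_smul_right, mul_assoc, inv_mul_cancel₀ hv, mul_one]

omit [Fintype F] in
/-- all fibres of `f(u, ·)` have the same size -/
theorem card_fiber_eq (u : Fin m ⊕ Fin m → F) (hu : u ≠ 0) (c : F) :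
    Nat.card {v : Fin m ⊕ Fin m → F // sympForm m F u v = c} =
      Nat.card {v : Fin m ⊕ Fin m → F // sympForm m F u v = 1} := by
  obtain ⟨w, hw⟩ := exists_sympForm_eq m u hu (c - 1)
  apply Nat.card_congr
  exact
    { toFun := fun v => ⟨v.1 - w, by rw [sympForm_sub_right, v.2, hw]; ring⟩
      invFun := fun v => ⟨v.1 + w, by rw [sympForm_add_right, v.2, hw]; ring⟩
      left_inv := fun v => by apply Subtype.ext; simp
      right_inv := fun v => by apply Subtype.ext; simp }

theorem card_fiber (u : Fin m ⊕ Fin m → F) (hu : u ≠ 0) :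
    Nat.card {v : Fin m ⊕ Fin m → F // sympForm m F u v = 1} * Fintype.card F =
      Fintype.card F ^ (2 * m) := by
  classical
  have h1 : Nat.card (Fin m ⊕ Fin m → F) =
      Nat.card (Σ c : F, {v : Fin m ⊕ Fin m → F // sympForm m F u v = c}) :=
    Nat.card_congr (Equiv.sigmaFiberEquiv (sympForm m F u)).symm
  rw [Nat.card_sigma] at h1
  simp only [card_fiber_eq m u hu] at h1
  rw [Finset.sum_const, Finset.card_univ, smul_eq_mul] at h1
  rw [mul_comm, ← h1, Nat.card_eq_fintype_card, Fintype.card_fun, Fintype.card_sum, Fintype.card_fin,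
    two_mul]

theorem card_pairs :
    Nat.card {p : (Fin m ⊕ Fin m → F) × (Fin m ⊕ Fin m → F) // sympForm m F p.1 p.2 = 1} *
      Fintype.card F = (Fintype.card F ^ (2 * m) - 1) * Fintype.card F ^ (2 * m) := by
  classical
  rw [Nat.card_congr (Equiv.subtypeProdEquivSigmaSubtype
    (fun u v : Fin m ⊕ Fin m → F => sympForm m F u v = 1)), Nat.card_sigma, Finset.sum_mul]
  have h : ∀ u : Fin m ⊕ Fin m → F,
      Nat.card {v : Fin m ⊕ Fin m → F // sympForm m F u v = 1} * Fintype.card F =
        if u = 0 then 0 else Fintype.card F ^ (2 * m) := by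
    intro u
    split_ifs with hu
    · subst hu
      have : IsEmpty {v : Fin m ⊕ Fin m → F // sympForm m F 0 v = 1} := by
        constructor
        rintro ⟨v, hv⟩
        have h0 : sympForm m F 0 v = 0 := by
          have := sympForm_smul_left m (0 : F) 0 v
          simpa using this
        rw [h0] at hv
        exact zero_ne_one hv
      rw [Nat.card_of_isEmpty, zero_mul]
    · exact card_fiber m u hu
  simp only [h]
  rw [Finset.sum_ite, Finset.sum_const_zero, zero_add, Finset.sum_const, smul_eq_mul,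
    Finset.filter_not, Finset.card_sdiff]
  congr 1
  rw [Finset.filter_eq', if_pos (Finset.mem_univ _), Finset.card_univ, Fintype.card_fun,
    Fintype.card_sum, Fintype.card_fin, two_mul]
  simp

end count

section action
variable {F : Type*} [Field F] (l : ℕ)

/-- the action of the symplectic group on pairs of vectors -/
@[reducible] noncomputable def pairAction (m : ℕ) :
    MulAction (symplecticGroup (Fin m) F) ((Fin m ⊕ Fin m → F) × (Fin m ⊕ Fin m → F)) where
  smul g p := (g.1 *ᵥ p.1, g.1 *ᵥ p.2)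
  one_smul p := by
    show ((1 : Matrix _ _ F) *ᵥ p.1, (1 : Matrix _ _ F) *ᵥ p.2) = p
    rw [one_mulVec, one_mulVec]
  mul_smul g h p := by
    show ((g.1 * h.1) *ᵥ p.1, (g.1 * h.1) *ᵥ p.2) = (g.1 *ᵥ (h.1 *ᵥ p.1), g.1 *ᵥ (h.1 *ᵥ p.2))
    rw [mulVec_mulVec, mulVec_mulVec]

attribute [local instance] pairAction

/-- the standard hyperbolic pair -/
abbrev e0 (F : Type*) [Field F] (l : ℕ) : Fin (1 + l) ⊕ Fin (1 + l) → F :=
  Pi.single (eKL 1 l (Sum.inl (Sum.inl 0))) 1

abbrev f0 (F : Type*) [Field F] (l : ℕ) : Fin (1 + l) ⊕ Fin (1 + l) → F :=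
  Pi.single (eKL 1 l (Sum.inl (Sum.inr 0))) 1

theorem sympForm_e0_f0 : sympForm (1 + l) F (e0 F l) (f0 F l) = -1 := by
  unfold e0 f0
  rw [eKL_inl_inr, sympForm_single_inr, eKL_inl_inl]
  simp

theorem sympForm_f0_e0 : sympForm (1 + l) F (f0 F l) (e0 F l) = 1 := by
  rw [sympForm_swap, sympForm_e0_f0, neg_neg]

theorem orbit_eq :
    MulAction.orbit (symplecticGroup (Fin (1 + l)) F) ((f0 F l, e0 F l)) =
      {p | sympForm (1 + l) F p.1 p.2 = 1} := by
  ext p
  constructor
  · rintro ⟨g, rfl⟩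
    show sympForm (1 + l) F (g.1 *ᵥ f0 F l) (g.1 *ᵥ e0 F l) = 1
    rw [sympForm_mulVec _ g.2, sympForm_f0_e0]
  · intro hp
    obtain ⟨A, -, hA1, hA2, -⟩ := move_pair (1 + l) (f0 F l) (e0 F l) p.1 p.2 (sympForm_f0_e0 l) hp
    refine ⟨A, ?_⟩
    show (A.1 *ᵥ f0 F l, A.1 *ᵥ e0 F l) = p
    rw [hA1, hA2]

theorem blockDiag_col (S : Matrix (Fin l ⊕ Fin l) (Fin l ⊕ Fin l) F) (j : Fin 1 ⊕ Fin 1) :
    SympBlock.blockDiag 1 l 1 S *ᵥ Pi.single (eKL 1 l (Sum.inl j)) 1 = Pi.single (eKL 1 l (Sum.inl j)) 1 := by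
  rw [mulVec_single_one]
  ext i
  obtain ⟨i', rfl⟩ := (eKL 1 l).surjective i
  show SympBlock.blockDiag 1 l 1 S (eKL 1 l i') (eKL 1 l (Sum.inl j)) = _
  unfold SympBlock.blockDiag
  rw [submatrix_apply, Equiv.symm_apply_apply, Equiv.symm_apply_apply, Pi.single_apply]
  rcases i' with i' | i'
  · rw [fromBlocks_apply₁₁, Matrix.one_apply]
    simp
  · rw [fromBlocks_apply₂₁]
    simp

/-- the embedding of `Sp_2l` onto the pointwise stabiliser of the standard pair -/
noncomputable def toStab (S : symplecticGroup (Fin l) F) :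
    ↥(MulAction.stabilizer (symplecticGroup (Fin (1 + l)) F) ((f0 F l, e0 F l))) :=
  ⟨⟨SympBlock.blockDiag 1 l 1 S.1, blockDiag_mem 1 l (one_mem _) S.2⟩, by
    rw [MulAction.mem_stabilizer_iff]
    show (SympBlock.blockDiag 1 l 1 S.1 *ᵥ f0 F l, SympBlock.blockDiag 1 l 1 S.1 *ᵥ e0 F l) = _
    rw [blockDiag_col, blockDiag_col]⟩

theorem toStab_injective : Function.Injective (toStab (F := F) l) := by
  intro S S' h
  have h1 : SympBlock.blockDiag 1 l 1 S.1 = SympBlock.blockDiag 1 l 1 S'.1 :=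
    congrArg (fun x => (x.1.1 : Matrix _ _ F)) h
  exact Subtype.ext (blockDiag_injective 1 l _ _ _ _ h1).2

theorem toStab_surjective : Function.Surjective (toStab (F := F) l) := by
  intro g
  have hg := g.2
  rw [MulAction.mem_stabilizer_iff] at hg
  have hg' : (g.1.1 *ᵥ f0 F l, g.1.1 *ᵥ e0 F l) = (f0 F l, e0 F l) := hg
  rw [Prod.mk.injEq] at hg'
  obtain ⟨hgf, hge⟩ := hg'
  have hcol : ∀ j : Fin 1 ⊕ Fin 1,
      g.1.1 *ᵥ Pi.single (eKL 1 l (Sum.inl j)) 1 = Pi.single (eKL 1 l (Sum.inl j)) 1 := by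
    intro j
    rcases j with j | j
    · have : j = 0 := Subsingleton.elim _ _
      subst this
      exact hge
    · have : j = 0 := Subsingleton.elim _ _
      subst this
      exact hgf
  obtain ⟨P, Q, R, S, hA'⟩ : ∃ P Q R S, (g.1.1).submatrix (eKL 1 l) (eKL 1 l) = fromBlocks P Q R S :=
    ⟨_, _, _, _, (fromBlocks_toBlocks _).symm⟩
  have hP : P = 1 := by
    ext i j
    have h2 := congrFun (hcol j) (eKL 1 l (Sum.inl i))
    rw [Matrix.mulVec_single_one] at h2
    have h4 := congrFun (congrFun hA' (Sum.inl i)) (Sum.inl j)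
    simp only [Matrix.submatrix_apply, fromBlocks_apply₁₁] at h4
    rw [← h4]
    refine h2.trans ?_
    rw [Pi.single_apply, Matrix.one_apply]
    simp
  have hR : R = 0 := by
    ext i j
    have h2 := congrFun (hcol j) (eKL 1 l (Sum.inr i))
    rw [Matrix.mulVec_single_one] at h2
    have h4 := congrFun (congrFun hA' (Sum.inr i)) (Sum.inl j)
    simp only [Matrix.submatrix_apply, fromBlocks_apply₂₁] at h4
    rw [← h4]
    refine h2.trans ?_
    rw [Pi.single_apply]
    simp
  subst hP hR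
  have hsymp := (mem_symplectic_iff_submatrix 1 l g.1.1).mp g.1.2
  rw [hA', fromBlocks_transpose, fromBlocks_multiply, fromBlocks_multiply, fromBlocks_inj] at hsymp
  obtain ⟨-, e2, -, e4⟩ := hsymp
  simp only [Matrix.transpose_zero, Matrix.zero_mul, Matrix.mul_zero, add_zero, zero_add,
    Matrix.transpose_one, Matrix.one_mul] at e2 e4
  have hQ : Q = 0 := by
    calc Q = (-(J (Fin 1) F) * J (Fin 1) F) * Q := by rw [neg_mul, J_squared, neg_neg, Matrix.one_mul]
      _ = -(J (Fin 1) F) * (J (Fin 1) F * Q) := by rw [Matrix.mul_assoc]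
      _ = 0 := by rw [e2, Matrix.mul_zero]
  subst hQ
  simp only [Matrix.mul_zero, zero_add] at e4
  have hS : S ∈ symplecticGroup (Fin l) F := by
    rw [SymplecticGroup.mem_iff']; exact e4
  refine ⟨⟨S, hS⟩, ?_⟩
  apply Subtype.ext
  apply Subtype.ext
  show SympBlock.blockDiag 1 l 1 S = g.1.1
  unfold SympBlock.blockDiag
  rw [← hA', Matrix.submatrix_submatrix]
  simp

end action

section main
variable {F : Type*} [Field F] [Fintype F]

attribute [local instance] pairAction

theorem card_succ (l : ℕ) :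
    Nat.card (symplecticGroup (Fin (1 + l)) F) * Fintype.card F =
      (Fintype.card F ^ (2 * (1 + l)) - 1) * Fintype.card F ^ (2 * (1 + l)) *
        Nat.card (symplecticGroup (Fin l) F) := by
  have h1 := Subgroup.card_eq_card_quotient_mul_card_subgroup
    (MulAction.stabilizer (symplecticGroup (Fin (1 + l)) F) ((f0 F l, e0 F l)))
  rw [← Nat.card_congr (MulAction.orbitEquivQuotientStabilizer (symplecticGroup (Fin (1 + l)) F)
    ((f0 F l, e0 F l))), orbit_eq,
    ← Nat.card_congr (Equiv.ofBijective (toStab (F := F) l) ⟨toStab_injective l, toStab_surjective l⟩)]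
    at h1
  rw [h1, mul_right_comm]
  congr 1
  exact card_pairs (1 + l)

theorem card_symplecticGroup (m : ℕ) :
    Nat.card (symplecticGroup (Fin m) F) =
      Fintype.card F ^ (m ^ 2) * ∏ i ∈ Finset.range m, (Fintype.card F ^ (2 * (i + 1)) - 1) := by
  induction m with
  | zero =>
    rw [Finset.range_zero, Finset.prod_empty]
    simp
  | succ l ih =>
    have h := card_succ (F := F) l
    rw [ih] at h
    have hq : 0 < Fintype.card F := Fintype.card_pos
    rw [show 1 + l = l + 1 from by omega] at h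
    apply Nat.eq_of_mul_eq_mul_right hq
    rw [h, Finset.prod_range_succ]
    ring

end main

end Cfsg.Agent.Lib.Helper5.SympCard
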