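import Mathlib
import Cfsg.Prelude.Def_ClassicalGeometry
import Cfsg.Agent.Lib.Helper5.SympTv
import Cfsg.Agent.Lib.Helper5.SympGen
import Cfsg.Agent.Lib.Helper5.SympBridge
import Cfsg.Agent.Lib.Helper5.AltWitt
import Cfsg.Agent.Lib.Helper5.SympCard

set_option autoImplicit false
open Cfsg

namespace Cfsg.Agent.Lib.Helper5.SympFrames

open Matrix Cfsg.Agent.Lib.Helper5.SympTv Cfsg.Agent.Lib.Helper5.SympGen
  Cfsg.Agent.Lib.Helper5.SympBridge

section defs
variable {F : Type*} [Field F] (m : ℕ)

/-- an isotropic frame: linearly independent, pairwise orthogonal vectors -/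
def IsIso {k : ℕ} (s : Fin k → (Fin m ⊕ Fin m → F)) : Prop :=
  LinearIndependent F s ∧ ∀ i j, sympForm m F (s i) (s j) = 0

theorem isIso_cons {k : ℕ} (v : Fin m ⊕ Fin m → F) (s : Fin k → (Fin m ⊕ Fin m → F)) :
    IsIso m (Fin.cons v s : Fin (k + 1) → (Fin m ⊕ Fin m → F)) ↔
      IsIso m s ∧ (v ∉ Submodule.span F (Set.range s) ∧ ∀ i, sympForm m F (s i) v = 0) := by
  unfold IsIso
  rw [linearIndependent_finCons]
  constructor
  · rintro ⟨⟨h1, h2⟩, h3⟩
    refine ⟨⟨h1, fun i j => ?_⟩, h2, fun i => ?_⟩
    · simpa using h3 i.succ j.succ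
    · simpa using h3 i.succ 0
  · rintro ⟨⟨h1, h3⟩, h2, h4⟩
    refine ⟨⟨h1, h2⟩, fun i j => ?_⟩
    refine Fin.cases ?_ (fun a => ?_) i <;> refine Fin.cases ?_ (fun b => ?_) j
    · simp only [Fin.cons_zero]
      exact sympForm_self m v
    · simp only [Fin.cons_zero, Fin.cons_succ]
      rw [sympForm_swap, h4, neg_zero]
    · simp only [Fin.cons_zero, Fin.cons_succ]
      exact h4 a
    · simp only [Fin.cons_succ]
      exact h3 a b

/-- peeling off the first vector of an isotropic frame -/
def isoEquiv (k : ℕ) :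
    {s : Fin (k + 1) → (Fin m ⊕ Fin m → F) // IsIso m s} ≃
      Σ s : {s : Fin k → (Fin m ⊕ Fin m → F) // IsIso m s},
        {v : Fin m ⊕ Fin m → F // v ∉ Submodule.span F (Set.range s.1) ∧
          ∀ i, sympForm m F (s.1 i) v = 0} where
  toFun s := ⟨⟨Fin.tail s.1, by
      have := s.2
      rw [← Fin.cons_self_tail s.1, isIso_cons] at this
      exact this.1⟩, ⟨s.1 0, by
      have := s.2
      rw [← Fin.cons_self_tail s.1, isIso_cons] at this
      exact this.2⟩⟩
  invFun p := ⟨Fin.cons p.2.1 p.1.1, (isIso_cons m _ _).mpr ⟨p.1.2, p.2.2⟩⟩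
  left_inv s := by
    apply Subtype.ext
    simp
  right_inv p := by
    obtain ⟨⟨s, hs⟩, ⟨v, hv⟩⟩ := p
    refine Sigma.ext (Subtype.ext ?_) ?_
    · simp
    · apply (Subtype.heq_iff_coe_eq ?_).mpr
      · simp
      · intro x
        simp
end defs

section count
variable {F : Type*} [Field F] [Fintype F] (m : ℕ)

omit [Fintype F] in
theorem mem_orthogonal_span {k : ℕ} (s : Fin k → (Fin m ⊕ Fin m → F)) (v : Fin m ⊕ Fin m → F) :
    v ∈ (sympBilin F m).orthogonal (Submodule.span F (Set.range s)) ↔
      ∀ i, sympForm m F (s i) v = 0 := by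
  rw [LinearMap.BilinForm.mem_orthogonal_iff]
  constructor
  · intro h i
    exact h (s i) (Submodule.subset_span ⟨i, rfl⟩)
  · intro h n hn
    show sympBilin F m n v = 0
    induction hn using Submodule.span_induction with
    | mem x hx =>
      obtain ⟨i, rfl⟩ := hx
      exact h i
    | zero => simp
    | add x y _ _ hx hy => rw [map_add, LinearMap.add_apply, hx, hy, add_zero]
    | smul a x _ hx => rw [map_smul, LinearMap.smul_apply, hx, smul_zero]

theorem card_fiber' {k : ℕ} (s : Fin k → (Fin m ⊕ Fin m → F)) (hs : IsIso m s) :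
    Nat.card {v : Fin m ⊕ Fin m → F // v ∉ Submodule.span F (Set.range s) ∧
      ∀ i, sympForm m F (s i) v = 0} = Fintype.card F ^ (2 * m - k) - Fintype.card F ^ k := by
  classical
  set U := Submodule.span F (Set.range s) with hU
  set Up := (sympBilin F m).orthogonal U with hUp
  have hle : U ≤ Up := by
    intro n hn
    rw [hUp, hU, mem_orthogonal_span]
    intro i
    have : n ∈ (sympBilin F m).orthogonal (Submodule.span F (Set.range s)) := by
      rw [mem_orthogonal_span]
      intro j
      induction hn using Submodule.span_induction with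
      | mem x hx =>
        obtain ⟨i', rfl⟩ := hx
        exact hs.2 j i'
      | zero =>
        have := sympForm_smul_right m (0 : F) (s j) 0
        simpa using this
      | add x y _ _ hx hy => rw [sympForm_add_right, hx, hy, add_zero]
      | smul a x _ hx => rw [sympForm_smul_right, hx, mul_zero]
    rw [mem_orthogonal_span] at this
    exact this i
  have hfU : Module.finrank F U = k := by
    rw [hU, finrank_span_eq_card hs.1, Fintype.card_fin]
  have hfV : Module.finrank F (Fin m ⊕ Fin m → F) = 2 * m := by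
    rw [Module.finrank_fintype_fun_eq_card, Fintype.card_sum, Fintype.card_fin, two_mul]
  have hfUp : Module.finrank F Up = 2 * m - k := by
    rw [hUp, LinearMap.BilinForm.finrank_orthogonal (sympBilin_nondegenerate m), hfV, hfU]
  have hset : {v : Fin m ⊕ Fin m → F | v ∉ U ∧ ∀ i, sympForm m F (s i) v = 0} =
      (Up : Set (Fin m ⊕ Fin m → F)) \ (U : Set (Fin m ⊕ Fin m → F)) := by
    ext v
    simp only [Set.mem_ofPred_eq, Set.mem_sdiff, SetLike.mem_coe]
    rw [hUp, hU, mem_orthogonal_span]
    tauto
  have h1 : Nat.card {v : Fin m ⊕ Fin m → F // v ∉ U ∧ ∀ i, sympForm m F (s i) v = 0} =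
      ({v : Fin m ⊕ Fin m → F | v ∉ U ∧ ∀ i, sympForm m F (s i) v = 0}).ncard := rfl
  rw [h1, hset, Set.ncard_sdiff (by exact_mod_cast hle)]
  have h2 : (Up : Set (Fin m ⊕ Fin m → F)).ncard = Nat.card Up := rfl
  have h3 : (U : Set (Fin m ⊕ Fin m → F)).ncard = Nat.card U := rfl
  rw [h2, h3, Module.natCard_eq_pow_finrank (K := F) (V := Up),
    Module.natCard_eq_pow_finrank (K := F) (V := U), hfU, hfUp, Nat.card_eq_fintype_card]

theorem card_isoFrame (k : ℕ) :
    Nat.card {s : Fin k → (Fin m ⊕ Fin m → F) // IsIso m s} =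
      ∏ i ∈ Finset.range k, (Fintype.card F ^ (2 * m - i) - Fintype.card F ^ i) := by
  induction k with
  | zero =>
    rw [Finset.range_zero, Finset.prod_empty]
    have : Unique {s : Fin 0 → (Fin m ⊕ Fin m → F) // IsIso m s} :=
      { default := ⟨fun i => i.elim0, linearIndependent_empty_type, fun i => i.elim0⟩
        uniq := fun s => Subtype.ext (funext fun i => i.elim0) }
    exact Nat.card_unique
  | succ k ih =>
    have : Fintype {s : Fin k → (Fin m ⊕ Fin m → F) // IsIso m s} := Fintype.ofFinite _
    rw [Nat.card_congr (isoEquiv m k), Nat.card_sigma]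
    have : ∀ s : {s : Fin k → (Fin m ⊕ Fin m → F) // IsIso m s},
        Nat.card {v : Fin m ⊕ Fin m → F // v ∉ Submodule.span F (Set.range s.1) ∧
          ∀ i, sympForm m F (s.1 i) v = 0} =
          Fintype.card F ^ (2 * m - k) - Fintype.card F ^ k := fun s => card_fiber' m s.1 s.2
    simp only [this]
    rw [Finset.sum_const, Finset.card_univ, smul_eq_mul, Finset.prod_range_succ, ← ih,
      Nat.card_eq_fintype_card]

end count

section general
variable {G X : Type*} [Group G] [MulAction G X]

/-- orbit-stabiliser for a subgroup containing the point stabiliser -/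
theorem card_subgroup_eq (P : Subgroup G) (x : X) (h : MulAction.stabilizer G x ≤ P) :
    Nat.card P = Nat.card (MulAction.orbit P x) * Nat.card (MulAction.stabilizer G x) := by
  have h1 := Subgroup.card_eq_card_quotient_mul_card_subgroup (MulAction.stabilizer P x)
  rw [← Nat.card_congr (MulAction.orbitEquivQuotientStabilizer P x)] at h1
  rw [h1]
  congr 1
  apply Nat.card_congr
  exact
    { toFun := fun p => ⟨p.1.1, by
        have := p.2
        rw [MulAction.mem_stabilizer_iff] at this ⊢
        exact this⟩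
      invFun := fun g => ⟨⟨g.1, h g.2⟩, by
        have := g.2
        rw [MulAction.mem_stabilizer_iff] at this ⊢
        exact this⟩
      left_inv := fun p => rfl
      right_inv := fun g => rfl }

theorem card_group_eq (x : X) :
    Nat.card G = Nat.card (MulAction.orbit G x) * Nat.card (MulAction.stabilizer G x) := by
  have h1 := Subgroup.card_eq_card_quotient_mul_card_subgroup (MulAction.stabilizer G x)
  rw [← Nat.card_congr (MulAction.orbitEquivQuotientStabilizer G x)] at h1
  exact h1

end general

section action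
variable {F : Type*} [Field F] (m k : ℕ)

/-- the action of the symplectic group on families of vectors -/
@[reducible] noncomputable def frameAction :
    MulAction (symplecticGroup (Fin m) F) (Fin k → (Fin m ⊕ Fin m → F)) where
  smul g s := fun i => g.1 *ᵥ s i
  one_smul s := by
    funext i
    show (1 : Matrix _ _ F) *ᵥ s i = s i
    rw [one_mulVec]
  mul_smul g h s := by
    funext i
    show (g.1 * h.1) *ᵥ s i = g.1 *ᵥ (h.1 *ᵥ s i)
    rw [mulVec_mulVec]

attribute [local instance] frameAction

theorem smul_apply (g : symplecticGroup (Fin m) F) (s : Fin k → (Fin m ⊕ Fin m → F)) (i : Fin k) :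
    (g • s) i = g.1 *ᵥ s i := rfl

/-- a symplectic matrix as a linear equivalence -/
noncomputable def linEquiv (g : symplecticGroup (Fin m) F) :
    (Fin m ⊕ Fin m → F) ≃ₗ[F] (Fin m ⊕ Fin m → F) :=
  Matrix.toLin'OfInv (M := (g⁻¹).1) (M' := g.1)
    (by
      have : (g⁻¹ * g : symplecticGroup (Fin m) F) = 1 := inv_mul_cancel g
      exact congrArg Subtype.val this)
    (by
      have : (g * g⁻¹ : symplecticGroup (Fin m) F) = 1 := mul_inv_cancel g
      exact congrArg Subtype.val this)

theorem linEquiv_apply (g : symplecticGroup (Fin m) F) (v : Fin m ⊕ Fin m → F) :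
    linEquiv m g v = g.1 *ᵥ v := by
  unfold linEquiv
  simp [Matrix.toLin'OfInv, Matrix.toLin'_apply]

theorem smul_eq_comp (g : symplecticGroup (Fin m) F) (s : Fin k → (Fin m ⊕ Fin m → F)) :
    g • s = (linEquiv m g) ∘ s := by
  funext i
  rw [smul_apply, Function.comp_apply, linEquiv_apply]

theorem isIso_smul (g : symplecticGroup (Fin m) F) (s : Fin k → (Fin m ⊕ Fin m → F))
    (hs : IsIso m s) : IsIso m (g • s) := by
  constructor
  · rw [smul_eq_comp]
    exact hs.1.map' (linEquiv m g).toLinearMap (linEquiv m g).ker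
  · intro i j
    rw [smul_apply, smul_apply, sympForm_mulVec m g.2]
    exact hs.2 i j

theorem exists_smul_eq (s t : Fin k → (Fin m ⊕ Fin m → F)) (hs : IsIso m s) (ht : IsIso m t) :
    ∃ g : symplecticGroup (Fin m) F, g • s = t := by
  obtain ⟨g, hg, hgs⟩ := AltWitt.witt_family (sympBilin F m) (sympBilin_nondegenerate m)
    (sympBilin_isAlt m) k s t hs.1 ht.1 (fun i j => by
      rw [sympBilin_apply, sympBilin_apply, hs.2, ht.2])
  obtain ⟨A, hA⟩ := exists_symplectic_of_isometry m g hg
  refine ⟨A, ?_⟩
  funext i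
  rw [smul_apply, hA, hgs]

theorem orbit_eq_isIso (s : Fin k → (Fin m ⊕ Fin m → F)) (hs : IsIso m s) :
    MulAction.orbit (symplecticGroup (Fin m) F) s = {t | IsIso m t} := by
  ext t
  constructor
  · rintro ⟨g, rfl⟩
    exact isIso_smul m k g s hs
  · intro ht
    obtain ⟨g, hg⟩ := exists_smul_eq m k s t hs ht
    exact ⟨g, hg⟩

/-- `|Sp| = N_k * |pointwise stabiliser of an isotropic k-frame|` -/
theorem card_eq_mul_card_stabilizer [Fintype F] (s : Fin k → (Fin m ⊕ Fin m → F)) (hs : IsIso m s) :
    Nat.card (symplecticGroup (Fin m) F) =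
      (∏ i ∈ Finset.range k, (Fintype.card F ^ (2 * m - i) - Fintype.card F ^ i)) *
        Nat.card (MulAction.stabilizer (symplecticGroup (Fin m) F) s) := by
  rw [card_group_eq (G := symplecticGroup (Fin m) F) s, orbit_eq_isIso m k s hs, ← card_isoFrame m k]
  rfl

/-- membership in `stabilizing` from `map = self` -/
theorem mem_stabilizing_of_map_eq (g : symplecticGroup (Fin m) F)
    (W : Submodule F (Fin m ⊕ Fin m → F))
    (h : W.map (linEquiv m g).toLinearMap = W) :
    g ∈ Cfsg.stabilizing (Cfsg.spToMat m F) (W : Set (Fin m ⊕ Fin m → F)) := by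
  intro v
  show v ∈ W ↔ g.1 *ᵥ v ∈ W
  rw [← linEquiv_apply]
  constructor
  · intro hv
    rw [← h]
    exact Submodule.mem_map_of_mem hv
  · intro hv
    rw [← h] at hv
    obtain ⟨w, hw, hwv⟩ := hv
    have : w = v := (linEquiv m g).injective hwv
    rw [← this]
    exact hw

end action

section parabolic
variable {F : Type*} [Field F] (m k : ℕ)

attribute [local instance] frameAction

theorem map_span_range (g : symplecticGroup (Fin m) F) (s : Fin k → (Fin m ⊕ Fin m → F)) :
    (Submodule.span F (Set.range s)).map (linEquiv m g).toLinearMap =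
      Submodule.span F (Set.range (g • s)) := by
  rw [Submodule.map_span, smul_eq_comp, Set.range_comp]
  rfl

/-- the orbit of a basis of `W` under the stabiliser of `W` consists of all bases of `W` -/
theorem orbit_stab_eq (W : Submodule F (Fin m ⊕ Fin m → F)) (hWk : Module.finrank F W = k)
    (hW : ∀ u ∈ W, ∀ v ∈ W, sympForm m F u v = 0)
    (s : Fin k → (Fin m ⊕ Fin m → F)) (hs : LinearIndependent F s)
    (hsW : Submodule.span F (Set.range s) = W) :
    MulAction.orbit ↥(Cfsg.stabilizing (Cfsg.spToMat m F) (W : Set (Fin m ⊕ Fin m → F))) s =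
      {t | LinearIndependent F t ∧ ∀ i, t i ∈ W} := by
  have hsmem : ∀ i, s i ∈ W := fun i => by
    rw [← hsW]; exact Submodule.subset_span ⟨i, rfl⟩
  have hsI : IsIso m s := ⟨hs, fun i j => hW _ (hsmem i) _ (hsmem j)⟩
  ext t
  constructor
  · rintro ⟨p, rfl⟩
    show (p.1 : symplecticGroup (Fin m) F) • s ∈ _
    refine ⟨(isIso_smul m k p.1 s hsI).1, fun i => ?_⟩
    rw [smul_apply]
    exact (p.2 (s i)).mp (hsmem i)
  · rintro ⟨ht, htW⟩
    have htI : IsIso m t := ⟨ht, fun i j => hW _ (htW i) _ (htW j)⟩
    obtain ⟨g, hg⟩ := exists_smul_eq m k s t hsI htI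
    have hspan : Submodule.span F (Set.range t) = W := by
      apply Submodule.eq_of_le_of_finrank_eq
      · rw [Submodule.span_le]
        rintro _ ⟨i, rfl⟩
        exact htW i
      · rw [finrank_span_eq_card ht, Fintype.card_fin, hWk]
    have hgP : g ∈ Cfsg.stabilizing (Cfsg.spToMat m F) (W : Set (Fin m ⊕ Fin m → F)) := by
      apply mem_stabilizing_of_map_eq
      conv_lhs => rw [← hsW]
      rw [map_span_range, hg, hspan]
    exact ⟨⟨g, hgP⟩, hg⟩

theorem stabilizer_le_stab (W : Submodule F (Fin m ⊕ Fin m → F))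
    (s : Fin k → (Fin m ⊕ Fin m → F))
    (hsW : Submodule.span F (Set.range s) = W) :
    MulAction.stabilizer (symplecticGroup (Fin m) F) s ≤
      Cfsg.stabilizing (Cfsg.spToMat m F) (W : Set (Fin m ⊕ Fin m → F)) := by
  intro g hg
  rw [MulAction.mem_stabilizer_iff] at hg
  apply mem_stabilizing_of_map_eq
  conv_lhs => rw [← hsW]
  rw [map_span_range, hg, hsW]

/-- `|Stab(W)| * N_k = |GL_k| * |Sp_2m|` for a totally isotropic `k`-subspace `W` -/
theorem card_stab_mul [Fintype F] (W : Submodule F (Fin m ⊕ Fin m → F))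
    (hWk : Module.finrank F W = k) (hW : ∀ u ∈ W, ∀ v ∈ W, sympForm m F u v = 0) :
    Nat.card ↥(Cfsg.stabilizing (Cfsg.spToMat m F) (W : Set (Fin m ⊕ Fin m → F))) *
      (∏ i ∈ Finset.range k, (Fintype.card F ^ (2 * m - i) - Fintype.card F ^ i)) =
      (∏ i : Fin k, (Fintype.card F ^ k - Fintype.card F ^ (i : ℕ))) *
        Nat.card (symplecticGroup (Fin m) F) := by
  let b := Module.finBasisOfFinrankEq F W hWk
  set s : Fin k → (Fin m ⊕ Fin m → F) := fun i => (b i : Fin m ⊕ Fin m → F) with hs_def
  have hs : LinearIndependent F s := b.linearIndependent.map' W.subtype (Submodule.ker_subtype W)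
  have hsW : Submodule.span F (Set.range s) = W := by
    have h1 : Set.range s = W.subtype '' (Set.range b) := by
      rw [← Set.range_comp]; rfl
    rw [h1, ← Submodule.map_span, b.span_eq, Submodule.map_subtype_top]
  have hsmem : ∀ i, s i ∈ W := fun i => (b i).2
  have hsI : IsIso m s := ⟨hs, fun i j => hW _ (hsmem i) _ (hsmem j)⟩
  rw [card_subgroup_eq _ s (stabilizer_le_stab m k W s hsW), orbit_stab_eq m k W hWk hW s hs hsW,
    card_eq_mul_card_stabilizer m k s hsI]
  have hcard : Nat.card ↥{t : Fin k → (Fin m ⊕ Fin m → F) | LinearIndependent F t ∧ ∀ i, t i ∈ W} =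
      ∏ i : Fin k, (Fintype.card F ^ k - Fintype.card F ^ (i : ℕ)) := by
    have h2 := card_linearIndependent (K := F) (V := W) (k := k) (by rw [hWk])
    rw [hWk] at h2
    rw [← h2]
    apply Nat.card_congr
    exact
      { toFun := fun t => ⟨fun i => ⟨t.1 i, t.2.2 i⟩, by
          apply LinearIndependent.of_comp W.subtype
          exact t.2.1⟩
        invFun := fun t => ⟨fun i => (t.1 i : Fin m ⊕ Fin m → F),
          t.2.map' W.subtype (Submodule.ker_subtype W), fun i => (t.1 i).2⟩
        left_inv := fun t => rfl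
        right_inv := fun t => rfl }
  rw [hcard]
  ring

end parabolic

end Cfsg.Agent.Lib.Helper5.SympFrames
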