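import Mathlib
import Cfsg.Prelude.Def_ClassicalGeometry
import Cfsg.Agent.Lib.Helper5.CartanDieudonne
import Cfsg.Agent.Lib.Helper5.QuadIsom
import Cfsg.Agent.Lib.Helper5.SympFrames

set_option autoImplicit false
open Cfsg

namespace Cfsg.Agent.Lib.Helper5.OrthCard

open Matrix QuadraticMap Cfsg.Agent.Lib.Helper5.CartanDieudonne

section bridge
variable {ι : Type} [Fintype ι] [DecidableEq ι] {F : Type*} [Field F]

theorem mem_isometryGroup_iff (Q : (ι → F) → F) (g : Matrix.GeneralLinearGroup ι F) :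
    g ∈ isometryGroup F Q ↔ ∀ v, Q ((g : Matrix ι ι F) *ᵥ v) = Q v := by
  constructor
  · intro h v
    exact h v v
  · intro h u v
    exact h u

/-- a linear isometry of `F^ι` as an element of the matrix isometry group -/
theorem exists_isom_of_linearEquiv (Q : QuadraticForm F (ι → F)) (g : (ι → F) ≃ₗ[F] (ι → F))
    (hg : ∀ v, Q (g v) = Q v) : ∃ A : ↥(isometryGroup F ⇑Q), ∀ v, act Q A v = g v := by
  have hmul : ∀ v, LinearMap.toMatrix' (g : (ι → F) →ₗ[F] (ι → F)) *ᵥ v = g v :=
    fun v => LinearMap.toMatrix'_mulVec _ v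
  have h1 : LinearMap.toMatrix' (g : (ι → F) →ₗ[F] (ι → F)) *
      LinearMap.toMatrix' (g.symm : (ι → F) →ₗ[F] (ι → F)) = 1 := by
    rw [← LinearMap.toMatrix'_comp, ← LinearMap.toMatrix'_id]
    congr 1
    ext v : 1
    simp
  have h2 : LinearMap.toMatrix' (g.symm : (ι → F) →ₗ[F] (ι → F)) *
      LinearMap.toMatrix' (g : (ι → F) →ₗ[F] (ι → F)) = 1 := by
    rw [← LinearMap.toMatrix'_comp, ← LinearMap.toMatrix'_id]
    congr 1
    ext v : 1
    simp
  refine ⟨⟨⟨LinearMap.toMatrix' (g : (ι → F) →ₗ[F] (ι → F)),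
    LinearMap.toMatrix' (g.symm : (ι → F) →ₗ[F] (ι → F)), h1, h2⟩, ?_⟩, ?_⟩
  · rw [mem_isometryGroup_iff]
    intro v
    show Q (LinearMap.toMatrix' (g : (ι → F) →ₗ[F] (ι → F)) *ᵥ v) = Q v
    rw [hmul, hg]
  · intro v
    exact hmul v

end bridge

section reindex
variable {ι ι' : Type} [Fintype ι] [DecidableEq ι] [Fintype ι'] [DecidableEq ι'] {F : Type*} [Field F]

/-- reindexing the coordinates does not change the isometry group -/
noncomputable def isometryGroupReindex (σ : ι ≃ ι') (Q : (ι → F) → F) (Q' : (ι' → F) → F)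
    (h : ∀ v : ι' → F, Q' v = Q (v ∘ σ)) : ↥(isometryGroup F Q) ≃ ↥(isometryGroup F Q') where
  toFun g := ⟨Units.mapEquiv (Matrix.reindexAlgEquiv F F σ).toMulEquiv g.1, by
    rw [mem_isometryGroup_iff]
    intro v
    show Q' ((Matrix.reindex σ σ (g.1 : Matrix ι ι F)) *ᵥ v) = Q' v
    rw [h, h, Matrix.reindex_apply, Matrix.submatrix_mulVec_equiv]
    have : ((g.1 : Matrix ι ι F) *ᵥ (v ∘ ⇑σ.symm.symm)) ∘ ⇑σ.symm ∘ ⇑σ =
        (g.1 : Matrix ι ι F) *ᵥ (v ∘ σ) := by
      ext i
      simp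
    rw [Function.comp_assoc, this]
    exact (mem_isometryGroup_iff Q g.1).mp g.2 _⟩
  invFun g := ⟨Units.mapEquiv (Matrix.reindexAlgEquiv F F σ.symm).toMulEquiv g.1, by
    rw [mem_isometryGroup_iff]
    intro v
    show Q ((Matrix.reindex σ.symm σ.symm (g.1 : Matrix ι' ι' F)) *ᵥ v) = Q v
    have hv : v = (v ∘ σ.symm) ∘ σ := by ext i; simp
    have h3 := (mem_isometryGroup_iff Q' g.1).mp g.2 (v ∘ σ.symm)
    rw [h, h, ← hv] at h3
    rw [← h3, Matrix.reindex_apply, Matrix.submatrix_mulVec_equiv]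
    rfl⟩
  left_inv g := by
    apply Subtype.ext
    apply Units.ext
    show Matrix.reindex σ.symm σ.symm (Matrix.reindex σ σ (g.1 : Matrix ι ι F)) = _
    ext i j
    simp
  right_inv g := by
    apply Subtype.ext
    apply Units.ext
    show Matrix.reindex σ σ (Matrix.reindex σ.symm σ.symm (g.1 : Matrix ι' ι' F)) = _
    ext i j
    simp

theorem card_isometryGroup_reindex (σ : ι ≃ ι') (Q : (ι → F) → F) (Q' : (ι' → F) → F)
    (h : ∀ v : ι' → F, Q' v = Q (v ∘ σ)) :
    Nat.card ↥(isometryGroup F Q) = Nat.card ↥(isometryGroup F Q') :=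
  Nat.card_congr (isometryGroupReindex σ Q Q' h)

omit [Fintype ι] [DecidableEq ι] [Fintype ι'] [DecidableEq ι'] in
theorem card_zeros_reindex (σ : ι ≃ ι') (Q : (ι → F) → F) (Q' : (ι' → F) → F)
    (h : ∀ v : ι' → F, Q' v = Q (v ∘ σ)) :
    Nat.card {v : ι → F // Q v = 0} = Nat.card {v : ι' → F // Q' v = 0} := by
  apply Nat.card_congr
  exact
    { toFun := fun v => ⟨v.1 ∘ σ.symm, by
        rw [h]
        have : (v.1 ∘ σ.symm) ∘ σ = v.1 := by ext i; simp
        rw [this]; exact v.2⟩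
      invFun := fun v => ⟨v.1 ∘ σ, by rw [← h]; exact v.2⟩
      left_inv := fun v => by apply Subtype.ext; ext i; simp
      right_inv := fun v => by apply Subtype.ext; ext i; simp }

end reindex

section pairs
variable {ι : Type} [Fintype ι] [DecidableEq ι] {F : Type*} [Field F] (Q : QuadraticForm F (ι → F))

omit [Fintype ι] [DecidableEq ι] in
theorem linearIndependent_hyp_pair (e f : ι → F) (he : Q e = 0) (hf : Q f = 0)
    (hef : polar Q e f = 1) : LinearIndependent F ![e, f] := by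
  rw [LinearIndependent.pair_iff]
  intro s t hst
  have h1 : polar Q (s • e + t • f) f = s := by
    rw [polar_add_left, polar_smul_left, polar_smul_left, hef, polar_self, hf]
    simp
  have h2 : polar Q e (s • e + t • f) = t := by
    rw [polar_add_right, polar_smul_right, polar_smul_right, hef, polar_self, he]
    simp
  rw [hst] at h1 h2
  constructor
  · rw [← h1]; simp
  · rw [← h2]; simp

/-- the isometry group is transitive on hyperbolic pairs -/
theorem exists_isom_pair (hQ : (polarBilin Q).Nondegenerate) (e f e' f' : ι → F)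
    (he : Q e = 0) (hf : Q f = 0) (hef : polar Q e f = 1)
    (he' : Q e' = 0) (hf' : Q f' = 0) (hef' : polar Q e' f' = 1) :
    ∃ A : ↥(isometryGroup F ⇑Q), act Q A e = e' ∧ act Q A f = f' := by
  obtain ⟨g, hg, hgx⟩ := QuadIsom.witt_family Q hQ 2 ![e, f] ![e', f']
    (linearIndependent_hyp_pair Q e f he hf hef) (linearIndependent_hyp_pair Q e' f' he' hf' hef')
    (by
      intro i
      fin_cases i
      · simp [he, he']
      · simp [hf, hf'])
    (by
      intro i j
      fin_cases i <;> fin_cases j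
      · simp [polar_self, he, he']
      · simp [hef, hef']
      · simp only [Fin.mk_one, Fin.isValue, Matrix.cons_val_one, Matrix.cons_val_zero, Fin.zero_eta]
        rw [polar_comm, hef, polar_comm, hef']
      · simp [polar_self, hf, hf'])
  obtain ⟨A, hA⟩ := exists_isom_of_linearEquiv Q g hg
  refine ⟨A, ?_, ?_⟩
  · rw [hA]; exact hgx 0
  · rw [hA]; exact hgx 1

/-- the action of the isometry group on pairs of vectors -/
@[reducible] noncomputable def pairSMul : SMul ↥(isometryGroup F ⇑Q) ((ι → F) × (ι → F)) where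
  smul g p := (act Q g p.1, act Q g p.2)

attribute [local instance 2000] pairSMul

@[reducible] noncomputable def pairAction :
    MulAction ↥(isometryGroup F ⇑Q) ((ι → F) × (ι → F)) where
  one_smul p := by
    show ((1 : Matrix ι ι F) *ᵥ p.1, (1 : Matrix ι ι F) *ᵥ p.2) = p
    rw [one_mulVec, one_mulVec]
  mul_smul g h p := by
    show (act Q (g * h) p.1, act Q (g * h) p.2) = (act Q g (act Q h p.1), act Q g (act Q h p.2))
    rw [act_mul, act_mul]

end pairs

section count
variable {ι : Type} [Fintype ι] {F : Type*} [Field F] [Fintype F]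
  (Q : QuadraticForm F (ι → F))

omit [Fintype ι] [Fintype F] in
theorem exists_polar_eq (hQ : (polarBilin Q).Nondegenerate) (u : ι → F) (hu : u ≠ 0) (c : F) :
    ∃ w, polar Q u w = c := by
  by_contra hcon
  push Not at hcon
  apply hu
  apply hQ.1 u
  intro v
  show polar Q u v = 0
  by_contra hv
  apply hcon ((c * (polar Q u v)⁻¹) • v)
  rw [polar_smul_right, smul_eq_mul, mul_assoc, inv_mul_cancel₀ hv, mul_one]

omit [Fintype ι] [Fintype F] in
theorem card_polar_fiber_eq (hQ : (polarBilin Q).Nondegenerate) (u : ι → F) (hu : u ≠ 0) (c : F) :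
    Nat.card {v : ι → F // polar Q u v = c} = Nat.card {v : ι → F // polar Q u v = 1} := by
  obtain ⟨w, hw⟩ := exists_polar_eq Q hQ u hu (c - 1)
  apply Nat.card_congr
  exact
    { toFun := fun v => ⟨v.1 - w, by rw [polar_sub_right, v.2, hw]; ring⟩
      invFun := fun v => ⟨v.1 + w, by rw [polar_add_right, v.2, hw]; ring⟩
      left_inv := fun v => by apply Subtype.ext; simp
      right_inv := fun v => by apply Subtype.ext; simp }

theorem card_polar_fiber (hQ : (polarBilin Q).Nondegenerate) (u : ι → F) (hu : u ≠ 0) :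
    Nat.card {v : ι → F // polar Q u v = 1} * Fintype.card F =
      Fintype.card F ^ Fintype.card ι := by
  classical
  have h1 : Nat.card (ι → F) = Nat.card (Σ c : F, {v : ι → F // polar Q u v = c}) :=
    Nat.card_congr (Equiv.sigmaFiberEquiv (fun v => polar Q u v)).symm
  rw [Nat.card_sigma] at h1
  simp only [card_polar_fiber_eq Q hQ u hu] at h1
  rw [Finset.sum_const, Finset.card_univ, smul_eq_mul] at h1
  rw [mul_comm, ← h1, Nat.card_eq_fintype_card, Fintype.card_fun]

omit [Fintype ι] [Fintype F] in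
/-- singular vectors on the affine hyperplane `polar u · = 1`, for singular `u` -/
noncomputable def singFiberEquiv (u : ι → F) (hu : Q u = 0) :
    {v : ι → F // Q v = 0 ∧ polar Q u v = 1} × F ≃ {v : ι → F // polar Q u v = 1} where
  toFun p := ⟨p.1.1 + p.2 • u, by
    rw [polar_add_right, polar_smul_right, polar_self, hu, p.1.2.2]
    simp⟩
  invFun v := (⟨v.1 - Q v.1 • u, by
    constructor
    · rw [sub_eq_add_neg, ← neg_smul, Refl.quad_add_smul, hu, polar_comm, v.2]
      ring
    · rw [polar_sub_right, polar_smul_right, polar_self, hu, v.2]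
      simp⟩, Q v.1)
  left_inv p := by
    have hq : Q (p.1.1 + p.2 • u) = p.2 := by
      rw [Refl.quad_add_smul, hu, p.1.2.1, polar_comm, p.1.2.2]
      ring
    apply Prod.ext
    · apply Subtype.ext
      show p.1.1 + p.2 • u - Q (p.1.1 + p.2 • u) • u = p.1.1
      rw [hq]
      abel
    · exact hq
  right_inv v := by
    apply Subtype.ext
    show v.1 - Q v.1 • u + Q v.1 • u = v.1
    abel

theorem card_sing_fiber (hQ : (polarBilin Q).Nondegenerate) (u : ι → F) (hu0 : u ≠ 0)
    (hu : Q u = 0) :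
    Nat.card {v : ι → F // Q v = 0 ∧ polar Q u v = 1} * Fintype.card F * Fintype.card F =
      Fintype.card F ^ Fintype.card ι := by
  rw [← card_polar_fiber Q hQ u hu0, ← Nat.card_congr (singFiberEquiv Q u hu), Nat.card_prod,
    Nat.card_eq_fintype_card (α := F)]

/-- the number of hyperbolic pairs -/
theorem card_hyp_pairs (hQ : (polarBilin Q).Nondegenerate) :
    Nat.card {p : (ι → F) × (ι → F) // Q p.1 = 0 ∧ Q p.2 = 0 ∧ polar Q p.1 p.2 = 1} *
      Fintype.card F * Fintype.card F =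
      (Nat.card {v : ι → F // Q v = 0} - 1) * Fintype.card F ^ Fintype.card ι := by
  classical
  have e : {p : (ι → F) × (ι → F) // Q p.1 = 0 ∧ Q p.2 = 0 ∧ polar Q p.1 p.2 = 1} ≃
      Σ u : {u : ι → F // Q u = 0}, {v : ι → F // Q v = 0 ∧ polar Q u.1 v = 1} :=
    { toFun := fun p => ⟨⟨p.1.1, p.2.1⟩, ⟨p.1.2, p.2.2.1, p.2.2.2⟩⟩
      invFun := fun s => ⟨(s.1.1, s.2.1), s.1.2, s.2.2.1, s.2.2.2⟩
      left_inv := fun p => rfl
      right_inv := fun s => rfl }
  rw [Nat.card_congr e, Nat.card_sigma, Finset.sum_mul, Finset.sum_mul]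
  have h : ∀ u : {u : ι → F // Q u = 0},
      Nat.card {v : ι → F // Q v = 0 ∧ polar Q u.1 v = 1} * Fintype.card F * Fintype.card F =
        if u.1 = 0 then 0 else Fintype.card F ^ Fintype.card ι := by
    intro u
    split_ifs with hu
    · have : IsEmpty {v : ι → F // Q v = 0 ∧ polar Q u.1 v = 1} := by
        constructor
        rintro ⟨v, -, hv⟩
        rw [hu] at hv
        simp at hv
      rw [Nat.card_of_isEmpty, zero_mul, zero_mul]
    · exact card_sing_fiber Q hQ u.1 hu u.2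
  simp only [h]
  rw [Finset.sum_ite, Finset.sum_const_zero, zero_add, Finset.sum_const, smul_eq_mul,
    Finset.filter_not, Finset.card_sdiff]
  congr 1
  have hz : Q 0 = 0 := map_zero Q
  have : (Finset.filter (fun u : {u : ι → F // Q u = 0} => u.1 = 0) Finset.univ) =
      {⟨0, hz⟩} := by
    ext u
    simp [Subtype.ext_iff]
  rw [Finset.inter_eq_left.mpr (Finset.subset_univ _), this, Finset.card_singleton,
    Finset.card_univ, Nat.card_eq_fintype_card]

end count

section hyp
variable {F : Type*} [Field F] {κ : Type} [Fintype κ] [DecidableEq κ]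
  (Qκ : QuadraticForm F (κ → F))

/-- orthogonal sum of a hyperbolic plane with a quadratic form -/
noncomputable def hypExt : QuadraticForm F (Fin 2 ⊕ κ → F) :=
  QuadraticMap.proj (Sum.inl 0) (Sum.inl 1) + Qκ.comp (LinearMap.funLeft F F Sum.inr)

omit [Fintype κ] [DecidableEq κ] in
theorem hypExt_apply (v : Fin 2 ⊕ κ → F) :
    hypExt Qκ v = v (Sum.inl 0) * v (Sum.inl 1) + Qκ (fun k => v (Sum.inr k)) := by
  simp only [hypExt, _root_.add_apply, QuadraticMap.proj_apply, QuadraticMap.comp_apply]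
  rfl

omit [Fintype κ] [DecidableEq κ] in
theorem polar_hypExt (u v : Fin 2 ⊕ κ → F) :
    polar (hypExt Qκ) u v = u (Sum.inl 0) * v (Sum.inl 1) + u (Sum.inl 1) * v (Sum.inl 0) +
      polar Qκ (fun k => u (Sum.inr k)) (fun k => v (Sum.inr k)) := by
  simp only [polar, hypExt_apply, Pi.add_apply]
  have : (fun k => u (Sum.inr k) + v (Sum.inr k)) =
      (fun k => u (Sum.inr k)) + (fun k => v (Sum.inr k)) := rfl
  rw [this]
  ring

/-- the standard hyperbolic pair -/
abbrev eH (F : Type*) [Field F] (κ : Type) [DecidableEq κ] : Fin 2 ⊕ κ → F :=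
  Pi.single (Sum.inl 0) 1
abbrev fH (F : Type*) [Field F] (κ : Type) [DecidableEq κ] : Fin 2 ⊕ κ → F :=
  Pi.single (Sum.inl 1) 1

/-- extension by zero -/
abbrev ext0 (w : κ → F) : Fin 2 ⊕ κ → F := Sum.elim 0 w

omit [Fintype κ] in
theorem hypExt_eH : hypExt Qκ (eH F κ) = 0 := by
  rw [hypExt_apply]
  have : (fun k => eH F κ (Sum.inr k)) = 0 := by
    ext k; simp [eH]
  rw [this]
  simp [eH]

omit [Fintype κ] in
theorem hypExt_fH : hypExt Qκ (fH F κ) = 0 := by
  rw [hypExt_apply]
  have : (fun k => fH F κ (Sum.inr k)) = 0 := by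
    ext k; simp [fH]
  rw [this]
  simp [fH]

omit [Fintype κ] in
theorem polar_eH (v : Fin 2 ⊕ κ → F) : polar (hypExt Qκ) (eH F κ) v = v (Sum.inl 1) := by
  rw [polar_hypExt]
  have : (fun k => eH F κ (Sum.inr k)) = 0 := by
    ext k; simp [eH]
  rw [this]
  simp [eH]

omit [Fintype κ] in
theorem polar_fH (v : Fin 2 ⊕ κ → F) : polar (hypExt Qκ) (fH F κ) v = v (Sum.inl 0) := by
  rw [polar_hypExt]
  have : (fun k => fH F κ (Sum.inr k)) = 0 := by
    ext k; simp [fH]
  rw [this]
  simp [fH]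

omit [Fintype κ] [DecidableEq κ] in
theorem hypExt_ext0 (w : κ → F) : hypExt Qκ (ext0 w) = Qκ w := by
  rw [hypExt_apply]
  simp [ext0]

omit [Fintype κ] [DecidableEq κ] in
theorem polar_ext0 (u : Fin 2 ⊕ κ → F) (w : κ → F) :
    polar (hypExt Qκ) u (ext0 w) = polar Qκ (fun k => u (Sum.inr k)) w := by
  rw [polar_hypExt]
  simp [ext0]

omit [Fintype κ] in
theorem hypExt_nondegenerate (hQκ : (polarBilin Qκ).Nondegenerate) :
    (polarBilin (hypExt Qκ)).Nondegenerate := by
  have key : ∀ u : Fin 2 ⊕ κ → F, (∀ v, polar (hypExt Qκ) u v = 0) → u = 0 := by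
    intro u hu
    have h0 : u (Sum.inl 0) = 0 := by
      rw [← polar_fH Qκ u, polar_comm]; exact hu _
    have h1 : u (Sum.inl 1) = 0 := by
      rw [← polar_eH Qκ u, polar_comm]; exact hu _
    have h2 : (fun k => u (Sum.inr k)) = 0 := by
      apply hQκ.1
      intro w
      have := hu (ext0 w)
      rw [polar_ext0] at this
      simpa using this
    ext i
    rcases i with i | k
    · fin_cases i
      · exact h0
      · exact h1
    · exact congrFun h2 k
  constructor
  · intro u hu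
    exact key u (fun v => by simpa using hu v)
  · intro u hu
    apply key u
    intro v
    rw [polar_comm]
    simpa using hu v

attribute [local instance 2000] pairSMul
attribute [local instance 2000] pairAction

theorem orbit_eq (hQκ : (polarBilin Qκ).Nondegenerate) :
    MulAction.orbit ↥(isometryGroup F ⇑(hypExt Qκ)) ((eH F κ, fH F κ)) =
      {p | hypExt Qκ p.1 = 0 ∧ hypExt Qκ p.2 = 0 ∧ polar (hypExt Qκ) p.1 p.2 = 1} := by
  ext p
  constructor
  · rintro ⟨g, rfl⟩
    refine ⟨?_, ?_, ?_⟩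
    · show hypExt Qκ (act (hypExt Qκ) g (eH F κ)) = 0
      rw [quad_act, hypExt_eH]
    · show hypExt Qκ (act (hypExt Qκ) g (fH F κ)) = 0
      rw [quad_act, hypExt_fH]
    · show polar (hypExt Qκ) (act (hypExt Qκ) g (eH F κ)) (act (hypExt Qκ) g (fH F κ)) = 1
      rw [polar_act, polar_eH]
      simp [fH]
  · rintro ⟨h1, h2, h3⟩
    obtain ⟨A, hA1, hA2⟩ := exists_isom_pair (hypExt Qκ) (hypExt_nondegenerate Qκ hQκ)
      (eH F κ) (fH F κ) p.1 p.2 (hypExt_eH Qκ) (hypExt_fH Qκ)
      (by rw [polar_eH]; simp [fH]) h1 h2 h3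
    refine ⟨A, ?_⟩
    show (act (hypExt Qκ) A (eH F κ), act (hypExt Qκ) A (fH F κ)) = p
    rw [hA1, hA2]

/-- block-diagonal embedding -/
def blk (T : Matrix κ κ F) : Matrix (Fin 2 ⊕ κ) (Fin 2 ⊕ κ) F := fromBlocks 1 0 0 T

omit [DecidableEq κ] in
theorem blk_mul (T T' : Matrix κ κ F) : blk T * blk T' = blk (T * T') := by
  unfold blk
  rw [fromBlocks_multiply]
  simp

omit [Fintype κ] in
theorem blk_one : blk (1 : Matrix κ κ F) = 1 := by
  unfold blk
  exact fromBlocks_one

omit [DecidableEq κ] in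
theorem blk_mulVec (T : Matrix κ κ F) (v : Fin 2 ⊕ κ → F) :
    blk T *ᵥ v = Sum.elim (fun i => v (Sum.inl i)) (T *ᵥ fun k => v (Sum.inr k)) := by
  unfold blk
  rw [fromBlocks_mulVec]
  simp only [one_mulVec, zero_mulVec, add_zero, zero_add]
  rfl

omit [Fintype κ] [DecidableEq κ] in
theorem blk_injective : Function.Injective (blk (F := F) (κ := κ)) := by
  intro T T' h
  unfold blk at h
  exact (fromBlocks_inj.mp h).2.2.2

omit [DecidableEq κ] in
theorem hypExt_blk (T : Matrix κ κ F) (hT : ∀ w, Qκ (T *ᵥ w) = Qκ w) (v : Fin 2 ⊕ κ → F) :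
    hypExt Qκ (blk T *ᵥ v) = hypExt Qκ v := by
  rw [blk_mulVec, hypExt_apply, hypExt_apply]
  simp only [Sum.elim_inl, Sum.elim_inr]
  rw [hT]

/-- the block embedding of the isometry group of `Qκ` -/
noncomputable def blkIsom (T : ↥(isometryGroup F ⇑Qκ)) : ↥(isometryGroup F ⇑(hypExt Qκ)) :=
  ⟨⟨blk (T.1 : Matrix κ κ F), blk ((T.1⁻¹ : Matrix.GeneralLinearGroup κ F) : Matrix κ κ F), by
      rw [blk_mul, ← Units.val_mul, mul_inv_cancel, Units.val_one, blk_one], by
      rw [blk_mul, ← Units.val_mul, inv_mul_cancel, Units.val_one, blk_one]⟩, by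
    rw [mem_isometryGroup_iff]
    intro v
    exact hypExt_blk Qκ _ ((mem_isometryGroup_iff _ T.1).mp T.2) v⟩

theorem blkIsom_coe (T : ↥(isometryGroup F ⇑Qκ)) :
    (((blkIsom Qκ T : ↥(isometryGroup F ⇑(hypExt Qκ))) : Matrix.GeneralLinearGroup (Fin 2 ⊕ κ) F) :
      Matrix (Fin 2 ⊕ κ) (Fin 2 ⊕ κ) F) = blk (T.1 : Matrix κ κ F) := rfl

theorem blk_fix_inl (T : Matrix κ κ F) (i : Fin 2) :
    blk T *ᵥ (Pi.single (Sum.inl i) 1 : Fin 2 ⊕ κ → F) = Pi.single (Sum.inl i) 1 := by
  rw [blk_mulVec]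
  ext j
  rcases j with j | k
  · simp [Pi.single_apply]
  · simp only [Sum.elim_inr]
    have : (fun k : κ => (Pi.single (Sum.inl i) 1 : Fin 2 ⊕ κ → F) (Sum.inr k)) = 0 := by
      ext k; simp
    rw [this, mulVec_zero]
    simp

/-- the embedding onto the stabiliser of the standard hyperbolic pair -/
noncomputable def toStab (T : ↥(isometryGroup F ⇑Qκ)) :
    ↥(MulAction.stabilizer ↥(isometryGroup F ⇑(hypExt Qκ)) ((eH F κ, fH F κ))) :=
  ⟨blkIsom Qκ T, by
    rw [MulAction.mem_stabilizer_iff]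
    show (blk (T.1 : Matrix κ κ F) *ᵥ eH F κ, blk (T.1 : Matrix κ κ F) *ᵥ fH F κ) = _
    rw [blk_fix_inl, blk_fix_inl]⟩

theorem toStab_injective : Function.Injective (toStab Qκ) := by
  intro T T' h
  have h1 : blk (T.1 : Matrix κ κ F) = blk (T'.1 : Matrix κ κ F) :=
    congrArg (fun x : ↥(MulAction.stabilizer ↥(isometryGroup F ⇑(hypExt Qκ)) ((eH F κ, fH F κ))) =>
      ((x.1.1 : Matrix.GeneralLinearGroup (Fin 2 ⊕ κ) F) : Matrix (Fin 2 ⊕ κ) (Fin 2 ⊕ κ) F)) h
  exact Subtype.ext (Units.ext (blk_injective h1))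

/-- elements of the stabiliser are block diagonal -/
theorem stab_block (g : ↥(isometryGroup F ⇑(hypExt Qκ)))
    (hg : g ∈ MulAction.stabilizer ↥(isometryGroup F ⇑(hypExt Qκ)) ((eH F κ, fH F κ))) :
    ∃ T : Matrix κ κ F, ((g : Matrix.GeneralLinearGroup (Fin 2 ⊕ κ) F) :
      Matrix (Fin 2 ⊕ κ) (Fin 2 ⊕ κ) F) = blk T := by
  rw [MulAction.mem_stabilizer_iff] at hg
  have hg' : (act (hypExt Qκ) g (eH F κ), act (hypExt Qκ) g (fH F κ)) = (eH F κ, fH F κ) := hg
  rw [Prod.mk.injEq] at hg'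
  obtain ⟨hge, hgf⟩ := hg'
  set M : Matrix (Fin 2 ⊕ κ) (Fin 2 ⊕ κ) F :=
    ((g : Matrix.GeneralLinearGroup (Fin 2 ⊕ κ) F) : Matrix (Fin 2 ⊕ κ) (Fin 2 ⊕ κ) F) with hM
  have hcol : ∀ (i : Fin 2) (a : Fin 2 ⊕ κ), M a (Sum.inl i) =
      (Pi.single (Sum.inl i) 1 : Fin 2 ⊕ κ → F) a := by
    intro i a
    fin_cases i
    · have := congrFun hge a
      unfold act eH at this
      rw [mulVec_single_one] at this
      exact this
    · have := congrFun hgf a
      unfold act fH at this
      rw [mulVec_single_one] at this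
      exact this
  have hrow : ∀ (i : Fin 2) (k : κ), M (Sum.inl i) (Sum.inr k) = 0 := by
    intro i k
    have hcolk : M *ᵥ (Pi.single (Sum.inr k) 1 : Fin 2 ⊕ κ → F) = fun a => M a (Sum.inr k) := by
      rw [mulVec_single_one]; rfl
    fin_cases i
    · have h1 := polar_act (hypExt Qκ) g (fH F κ) (Pi.single (Sum.inr k) 1)
      rw [hgf, polar_fH, polar_fH] at h1
      unfold act at h1
      rw [← hM, hcolk] at h1
      simpa using h1
    · have h1 := polar_act (hypExt Qκ) g (eH F κ) (Pi.single (Sum.inr k) 1)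
      rw [hge, polar_eH, polar_eH] at h1
      unfold act at h1
      rw [← hM, hcolk] at h1
      simpa using h1
  refine ⟨M.toBlocks₂₂, ?_⟩
  unfold blk
  rw [← fromBlocks_toBlocks M]
  congr 1
  · ext i j
    rw [toBlocks₁₁, of_apply, hcol j (Sum.inl i), Pi.single_apply, Matrix.one_apply]
    simp
  · ext i k
    rw [toBlocks₁₂, of_apply, hrow]
    rfl
  · ext k j
    rw [toBlocks₂₁, of_apply, hcol j (Sum.inr k)]
    simp

theorem toStab_surjective : Function.Surjective (toStab Qκ) := by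
  intro g
  obtain ⟨T, hT⟩ := stab_block Qκ g.1 g.2
  obtain ⟨T', hT'⟩ := stab_block Qκ (g.1)⁻¹ (inv_mem g.2)
  have h1 : T * T' = 1 := by
    apply blk_injective
    rw [← blk_mul, ← hT, ← hT', blk_one]
    show (((g.1.1 * (g.1.1)⁻¹ : Matrix.GeneralLinearGroup (Fin 2 ⊕ κ) F)) :
      Matrix (Fin 2 ⊕ κ) (Fin 2 ⊕ κ) F) = 1
    rw [mul_inv_cancel]; rfl
  have h2 : T' * T = 1 := by
    apply blk_injective
    rw [← blk_mul, ← hT, ← hT', blk_one]
    show ((((g.1.1)⁻¹ * g.1.1 : Matrix.GeneralLinearGroup (Fin 2 ⊕ κ) F)) :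
      Matrix (Fin 2 ⊕ κ) (Fin 2 ⊕ κ) F) = 1
    rw [inv_mul_cancel]; rfl
  have hTmem : (⟨T, T', h1, h2⟩ : Matrix.GeneralLinearGroup κ F) ∈ isometryGroup F ⇑Qκ := by
    rw [mem_isometryGroup_iff]
    intro w
    show Qκ (T *ᵥ w) = Qκ w
    have h3 := quad_act (hypExt Qκ) g.1 (ext0 w)
    unfold act at h3
    rw [hT, blk_mulVec, hypExt_ext0, hypExt_apply] at h3
    simpa [ext0] using h3
  refine ⟨⟨⟨T, T', h1, h2⟩, hTmem⟩, ?_⟩
  apply Subtype.ext
  apply Subtype.ext
  apply Units.ext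
  show blk T = _
  exact hT.symm

theorem card_stabilizer :
    Nat.card ↥(MulAction.stabilizer ↥(isometryGroup F ⇑(hypExt Qκ)) ((eH F κ, fH F κ))) =
      Nat.card ↥(isometryGroup F ⇑Qκ) :=
  (Nat.card_congr (Equiv.ofBijective (toStab Qκ)
    ⟨toStab_injective Qκ, toStab_surjective Qκ⟩)).symm

end hyp

section hypcount
variable {F : Type*} [Field F] [Fintype F] {κ : Type} [Fintype κ] [DecidableEq κ]
  (Qκ : QuadraticForm F (κ → F))

attribute [local instance 2000] pairSMul
attribute [local instance 2000] pairAction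

theorem card_hyp_pairs_hypExt (hQκ : (polarBilin Qκ).Nondegenerate) :
    Nat.card {p : (Fin 2 ⊕ κ → F) × (Fin 2 ⊕ κ → F) //
      hypExt Qκ p.1 = 0 ∧ hypExt Qκ p.2 = 0 ∧ polar (hypExt Qκ) p.1 p.2 = 1} =
      (Nat.card {v : Fin 2 ⊕ κ → F // hypExt Qκ v = 0} - 1) *
        Fintype.card F ^ Fintype.card κ := by
  have h := card_hyp_pairs (hypExt Qκ) (hypExt_nondegenerate Qκ hQκ)
  have hq : 0 < Fintype.card F := Fintype.card_pos
  rw [Fintype.card_sum, Fintype.card_fin, add_comm, pow_add, pow_two, ← mul_assoc, ← mul_assoc] at h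
  exact Nat.eq_of_mul_eq_mul_right hq (Nat.eq_of_mul_eq_mul_right hq h)

/-- peeling off a hyperbolic plane -/
theorem card_hypExt (hQκ : (polarBilin Qκ).Nondegenerate) :
    Nat.card ↥(isometryGroup F ⇑(hypExt Qκ)) =
      (Nat.card {v : Fin 2 ⊕ κ → F // hypExt Qκ v = 0} - 1) * Fintype.card F ^ Fintype.card κ *
        Nat.card ↥(isometryGroup F ⇑Qκ) := by
  rw [SympFrames.card_group_eq (G := ↥(isometryGroup F ⇑(hypExt Qκ))) ((eH F κ, fH F κ)),
    card_stabilizer, ← card_hyp_pairs_hypExt Qκ hQκ, orbit_eq Qκ hQκ]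
  rfl

theorem card_mul_eq [DecidableEq F] (c : F) : Nat.card {p : F × F // p.1 * p.2 = c} =
    (Fintype.card F - 1) + (if c = 0 then Fintype.card F else 0) := by
  split_ifs with hc
  · subst hc
    rw [Nat.card_eq_fintype_card, Fintype.card_subtype]
    have : (Finset.univ.filter fun p : F × F => p.1 * p.2 = 0) =
        (({0} : Finset F) ×ˢ (Finset.univ : Finset F)) ∪
          ((Finset.univ : Finset F) ×ˢ ({0} : Finset F)) := by
      ext p
      simp only [Finset.mem_filter, Finset.mem_univ, true_and, mul_eq_zero, Finset.mem_union,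
        Finset.mem_product, Finset.mem_singleton, and_true]
    rw [this]
    have h1 := Finset.card_union_add_card_inter (({0} : Finset F) ×ˢ (Finset.univ : Finset F))
      ((Finset.univ : Finset F) ×ˢ ({0} : Finset F))
    have h2 : (({0} : Finset F) ×ˢ (Finset.univ : Finset F)) ∩
        ((Finset.univ : Finset F) ×ˢ ({0} : Finset F)) = {(0, 0)} := by
      ext p
      simp only [Finset.mem_inter, Finset.mem_product, Finset.mem_singleton, Finset.mem_univ,
        and_true, true_and, Prod.ext_iff]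
    rw [h2, Finset.card_singleton, Finset.card_product, Finset.card_product, Finset.card_singleton,
      Finset.card_univ] at h1
    have hq : 0 < Fintype.card F := Fintype.card_pos
    omega
  · rw [add_zero, ← Nat.card_eq_fintype_card (α := F), ← Nat.card_units]
    apply Nat.card_congr
    exact
      { toFun := fun p => Units.mk0 p.1.1 (by
          intro h
          apply hc
          rw [← p.2, h, zero_mul])
        invFun := fun a => ⟨((a : F), (a : F)⁻¹ * c), by
          show (a : F) * ((a : F)⁻¹ * c) = c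
          rw [← mul_assoc, mul_inv_cancel₀ a.ne_zero, one_mul]⟩
        left_inv := fun p => by
          apply Subtype.ext
          apply Prod.ext
          · rfl
          · show (p.1.1)⁻¹ * c = p.1.2
            have h1 : p.1.1 ≠ 0 := by
              intro h
              apply hc
              rw [← p.2, h, zero_mul]
            have h2 : p.1.1 * p.1.2 = c := p.2
            calc (p.1.1)⁻¹ * c = (p.1.1)⁻¹ * (p.1.1 * p.1.2) := by rw [h2]
              _ = p.1.2 := by rw [← mul_assoc, inv_mul_cancel₀ h1, one_mul]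
        right_inv := fun a => by
          apply Units.ext
          rfl }

/-- the number of singular vectors of the hyperbolic extension -/
theorem card_zeros_hypExt :
    Nat.card {v : Fin 2 ⊕ κ → F // hypExt Qκ v = 0} =
      Fintype.card F ^ Fintype.card κ * (Fintype.card F - 1) +
        Fintype.card F * Nat.card {w : κ → F // Qκ w = 0} := by
  classical
  let f : {v : Fin 2 ⊕ κ → F // hypExt Qκ v = 0} → (κ → F) := fun v k => v.1 (Sum.inr k)
  have e : ∀ w : κ → F, {v : {v : Fin 2 ⊕ κ → F // hypExt Qκ v = 0} // f v = w} ≃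
      {p : F × F // p.1 * p.2 = - Qκ w} := fun w =>
    { toFun := fun v => ⟨(v.1.1 (Sum.inl 0), v.1.1 (Sum.inl 1)), by
        have h1 := v.1.2
        rw [hypExt_apply] at h1
        have h2 : (fun k => v.1.1 (Sum.inr k)) = w := v.2
        rw [h2] at h1
        show v.1.1 (Sum.inl 0) * v.1.1 (Sum.inl 1) = - Qκ w
        linear_combination h1⟩
      invFun := fun p => ⟨⟨Sum.elim ![p.1.1, p.1.2] w, by
        rw [hypExt_apply]
        simp only [Sum.elim_inl, Sum.elim_inr, Matrix.cons_val_zero, Matrix.cons_val_one]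
        have := p.2
        linear_combination this⟩, by
        funext k
        simp [f]⟩
      left_inv := fun v => by
        apply Subtype.ext
        apply Subtype.ext
        funext i
        rcases i with i | k
        · fin_cases i <;> simp
        · have h2 : (fun k => v.1.1 (Sum.inr k)) = w := v.2
          simp only [Sum.elim_inr]
          exact (congrFun h2 k).symm
      right_inv := fun p => by
        apply Subtype.ext
        apply Prod.ext <;> simp }
  rw [Nat.card_congr (Equiv.sigmaFiberEquiv f).symm, Nat.card_sigma]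
  simp only [Nat.card_congr (e _), card_mul_eq, neg_eq_zero]
  rw [Finset.sum_add_distrib, Finset.sum_const, Finset.card_univ, smul_eq_mul,
    ← Finset.sum_filter, Finset.sum_const, smul_eq_mul, Fintype.card_fun,
    Nat.card_eq_fintype_card, Fintype.card_subtype]
  ring

end hypcount

section gen
variable {F : Type*} [Field F] {κ₀ : Type} [Fintype κ₀] [DecidableEq κ₀]
  (Q₀ : QuadraticForm F (κ₀ → F))

/-- `j` hyperbolic planes plus `Q₀` -/
noncomputable def genForm (j : ℕ) : QuadraticForm F ((Fin j ⊕ Fin j) ⊕ κ₀ → F) :=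
  (∑ i : Fin j, QuadraticMap.proj (Sum.inl (Sum.inl i)) (Sum.inl (Sum.inr i))) +
    Q₀.comp (LinearMap.funLeft F F Sum.inr)

omit [Fintype κ₀] [DecidableEq κ₀] in
theorem genForm_apply (j : ℕ) (v : (Fin j ⊕ Fin j) ⊕ κ₀ → F) :
    genForm Q₀ j v = ∑ i : Fin j, v (Sum.inl (Sum.inl i)) * v (Sum.inl (Sum.inr i)) +
      Q₀ (fun k => v (Sum.inr k)) := by
  simp only [genForm, _root_.add_apply, _root_.sum_apply, QuadraticMap.proj_apply,
    QuadraticMap.comp_apply]
  rfl

omit [Fintype κ₀] [DecidableEq κ₀] in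
theorem polar_genForm (j : ℕ) (u v : (Fin j ⊕ Fin j) ⊕ κ₀ → F) :
    polar (genForm Q₀ j) u v =
      ∑ i : Fin j, (u (Sum.inl (Sum.inl i)) * v (Sum.inl (Sum.inr i)) +
        v (Sum.inl (Sum.inl i)) * u (Sum.inl (Sum.inr i))) +
      polar Q₀ (fun k => u (Sum.inr k)) (fun k => v (Sum.inr k)) := by
  simp only [polar, genForm_apply, Pi.add_apply]
  have : (fun k => u (Sum.inr k) + v (Sum.inr k)) =
      (fun k => u (Sum.inr k)) + (fun k => v (Sum.inr k)) := rfl
  rw [this]
  have h2 : ∑ i : Fin j, (u (Sum.inl (Sum.inl i)) * v (Sum.inl (Sum.inr i)) +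
        v (Sum.inl (Sum.inl i)) * u (Sum.inl (Sum.inr i))) =
      ∑ i : Fin j, (u (Sum.inl (Sum.inl i)) + v (Sum.inl (Sum.inl i))) *
        (u (Sum.inl (Sum.inr i)) + v (Sum.inl (Sum.inr i))) -
      ∑ i : Fin j, u (Sum.inl (Sum.inl i)) * u (Sum.inl (Sum.inr i)) -
      ∑ i : Fin j, v (Sum.inl (Sum.inl i)) * v (Sum.inl (Sum.inr i)) := by
    rw [← Finset.sum_sub_distrib, ← Finset.sum_sub_distrib]
    apply Finset.sum_congr rfl
    intro i _
    ring
  rw [h2]
  ring

omit [Fintype κ₀] in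
theorem genForm_nondegenerate (hQ₀ : (polarBilin Q₀).Nondegenerate) (j : ℕ) :
    (polarBilin (genForm Q₀ j)).Nondegenerate := by
  have key : ∀ u : (Fin j ⊕ Fin j) ⊕ κ₀ → F, (∀ v, polar (genForm Q₀ j) u v = 0) → u = 0 := by
    intro u hu
    have h0 : ∀ i, u (Sum.inl (Sum.inl i)) = 0 := by
      intro i
      have := hu (Pi.single (Sum.inl (Sum.inr i)) 1)
      rw [polar_genForm] at this
      have h3 : (fun k : κ₀ => (Pi.single (Sum.inl (Sum.inr i)) 1 :
          (Fin j ⊕ Fin j) ⊕ κ₀ → F) (Sum.inr k)) = 0 := by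
        ext k; simp
      rw [h3] at this
      simpa [Pi.single_apply] using this
    have h1 : ∀ i, u (Sum.inl (Sum.inr i)) = 0 := by
      intro i
      have := hu (Pi.single (Sum.inl (Sum.inl i)) 1)
      rw [polar_genForm] at this
      have h3 : (fun k : κ₀ => (Pi.single (Sum.inl (Sum.inl i)) 1 :
          (Fin j ⊕ Fin j) ⊕ κ₀ → F) (Sum.inr k)) = 0 := by
        ext k; simp
      rw [h3] at this
      simpa [Pi.single_apply] using this
    have h2 : (fun k => u (Sum.inr k)) = 0 := by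
      apply hQ₀.1
      intro w
      have := hu (Sum.elim 0 w)
      rw [polar_genForm] at this
      simpa using this
    ext i
    rcases i with (i | i) | k
    · exact h0 i
    · exact h1 i
    · exact congrFun h2 k
  constructor
  · intro u hu
    exact key u (fun v => by simpa using hu v)
  · intro u hu
    apply key u
    intro v
    rw [polar_comm]
    simpa using hu v

/-- the reindexing for the inductive step -/
def stepEquiv (j : ℕ) (κ₀ : Type) :
    Fin 2 ⊕ ((Fin j ⊕ Fin j) ⊕ κ₀) ≃ (Fin (j + 1) ⊕ Fin (j + 1)) ⊕ κ₀ where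
  toFun := Sum.elim ![Sum.inl (Sum.inl 0), Sum.inl (Sum.inr 0)]
    (Sum.elim (Sum.elim (fun i => Sum.inl (Sum.inl i.succ)) (fun i => Sum.inl (Sum.inr i.succ)))
      (fun k => Sum.inr k))
  invFun := Sum.elim
    (Sum.elim (Fin.cases (Sum.inl 0) (fun i => Sum.inr (Sum.inl (Sum.inl i))))
      (Fin.cases (Sum.inl 1) (fun i => Sum.inr (Sum.inl (Sum.inr i)))))
    (fun k => Sum.inr (Sum.inr k))
  left_inv := by
    rintro (i | (i | i) | k)
    · fin_cases i <;> rfl
    · rfl
    · rfl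
    · rfl
  right_inv := by
    rintro ((i | i) | k)
    · refine Fin.cases ?_ (fun i => ?_) i <;> rfl
    · refine Fin.cases ?_ (fun i => ?_) i <;> rfl
    · rfl

omit [Fintype κ₀] [DecidableEq κ₀] in
theorem genForm_succ (j : ℕ) (v : (Fin (j + 1) ⊕ Fin (j + 1)) ⊕ κ₀ → F) :
    genForm Q₀ (j + 1) v = hypExt (genForm Q₀ j) (v ∘ stepEquiv j κ₀) := by
  rw [genForm_apply, hypExt_apply, genForm_apply, Fin.sum_univ_succ]
  rw [add_assoc]
  rfl

/-- reindexing for the base case -/
def baseEquiv (κ₀ : Type) : κ₀ ≃ (Fin 0 ⊕ Fin 0) ⊕ κ₀ where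
  toFun := Sum.inr
  invFun := Sum.elim (Sum.elim Fin.elim0 Fin.elim0) id
  left_inv := fun k => rfl
  right_inv := by
    rintro ((i | i) | k)
    · exact i.elim0
    · exact i.elim0
    · rfl

omit [Fintype κ₀] [DecidableEq κ₀] in
theorem genForm_zero (v : (Fin 0 ⊕ Fin 0) ⊕ κ₀ → F) :
    genForm Q₀ 0 v = Q₀ (v ∘ baseEquiv κ₀) := by
  rw [genForm_apply]
  simp
  rfl

end gen

section genCount
variable {F : Type*} [Field F] [Fintype F] {κ₀ : Type} [Fintype κ₀] [DecidableEq κ₀]
  (Q₀ : QuadraticForm F (κ₀ → F))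

omit [Fintype F] in
theorem card_genForm_zero :
    Nat.card ↥(isometryGroup F ⇑(genForm Q₀ 0)) = Nat.card ↥(isometryGroup F ⇑Q₀) :=
  (card_isometryGroup_reindex (baseEquiv κ₀) ⇑Q₀ ⇑(genForm Q₀ 0) (genForm_zero Q₀)).symm

omit [Fintype F] [Fintype κ₀] [DecidableEq κ₀] in
theorem zeros_genForm_zero :
    Nat.card {v : (Fin 0 ⊕ Fin 0) ⊕ κ₀ → F // genForm Q₀ 0 v = 0} =
      Nat.card {v : κ₀ → F // Q₀ v = 0} :=
  (card_zeros_reindex (baseEquiv κ₀) ⇑Q₀ ⇑(genForm Q₀ 0) (genForm_zero Q₀)).symm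

theorem zeros_genForm_succ (j : ℕ) :
    Nat.card {v : (Fin (j + 1) ⊕ Fin (j + 1)) ⊕ κ₀ → F // genForm Q₀ (j + 1) v = 0} =
      Fintype.card F ^ (2 * j + Fintype.card κ₀) * (Fintype.card F - 1) +
        Fintype.card F * Nat.card {v : (Fin j ⊕ Fin j) ⊕ κ₀ → F // genForm Q₀ j v = 0} := by
  rw [← card_zeros_reindex (stepEquiv j κ₀) ⇑(hypExt (genForm Q₀ j)) ⇑(genForm Q₀ (j + 1))
    (genForm_succ Q₀ j), card_zeros_hypExt]
  simp only [Fintype.card_sum, Fintype.card_fin]
  rw [two_mul]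

theorem card_genForm_succ (hQ₀ : (polarBilin Q₀).Nondegenerate) (j : ℕ) :
    Nat.card ↥(isometryGroup F ⇑(genForm Q₀ (j + 1))) =
      (Nat.card {v : (Fin (j + 1) ⊕ Fin (j + 1)) ⊕ κ₀ → F // genForm Q₀ (j + 1) v = 0} - 1) *
        Fintype.card F ^ (2 * j + Fintype.card κ₀) *
        Nat.card ↥(isometryGroup F ⇑(genForm Q₀ j)) := by
  rw [← card_isometryGroup_reindex (stepEquiv j κ₀) ⇑(hypExt (genForm Q₀ j))
    ⇑(genForm Q₀ (j + 1)) (genForm_succ Q₀ j),
    ← card_zeros_reindex (stepEquiv j κ₀) ⇑(hypExt (genForm Q₀ j)) ⇑(genForm Q₀ (j + 1))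
    (genForm_succ Q₀ j), card_hypExt _ (genForm_nondegenerate Q₀ hQ₀ j)]
  simp only [Fintype.card_sum, Fintype.card_fin]
  rw [two_mul]

/-- closed form for the number of singular vectors, when `Q₀` is anisotropic -/
theorem zeros_genForm_closed (hz : Nat.card {v : κ₀ → F // Q₀ v = 0} = 1) (j : ℕ) :
    Fintype.card F * Nat.card {v : (Fin j ⊕ Fin j) ⊕ κ₀ → F // genForm Q₀ j v = 0} +
      Fintype.card F ^ (j + Fintype.card κ₀) =
      Fintype.card F ^ (2 * j + Fintype.card κ₀) + Fintype.card F ^ (j + 1) := by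
  induction j with
  | zero =>
    rw [zeros_genForm_zero, hz]
    simp
    ring
  | succ j ih =>
    rw [zeros_genForm_succ]
    have hq : 1 ≤ Fintype.card F := Fintype.card_pos
    generalize Fintype.card F = q at *
    generalize Nat.card {v : (Fin j ⊕ Fin j) ⊕ κ₀ → F // genForm Q₀ j v = 0} = Z at *
    generalize Fintype.card κ₀ = k at *
    obtain ⟨r, rfl⟩ : ∃ r, q = r + 1 := ⟨q - 1, by omega⟩
    simp only [Nat.add_sub_cancel]
    have e1 : (r + 1) ^ (2 * (j + 1) + k) = (r + 1) ^ (2 * j + k) * (r + 1) ^ 2 := by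
      rw [← pow_add]; congr 1; ring
    have e2 : (r + 1) ^ (j + 1 + k) = (r + 1) ^ (j + k) * (r + 1) := by
      rw [← pow_succ]; congr 1; ring
    have e3 : (r + 1) ^ (j + 1 + 1) = (r + 1) ^ (j + 1) * (r + 1) := by
      rw [← pow_succ]
    rw [e1, e2, e3]
    linear_combination (r + 1) * ih

theorem zeros_genForm_factor (hz : Nat.card {v : κ₀ → F // Q₀ v = 0} = 1) (j : ℕ) :
    Nat.card {v : (Fin (j + 1) ⊕ Fin (j + 1)) ⊕ κ₀ → F // genForm Q₀ (j + 1) v = 0} - 1 =
      (Fintype.card F ^ (j + 1) - 1) * (Fintype.card F ^ (j + Fintype.card κ₀) + 1) := by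
  have h := zeros_genForm_closed Q₀ hz (j + 1)
  have hq : 1 ≤ Fintype.card F := Fintype.card_pos
  generalize Fintype.card F = q at *
  generalize Nat.card {v : (Fin (j + 1) ⊕ Fin (j + 1)) ⊕ κ₀ → F // genForm Q₀ (j + 1) v = 0} = Z
    at *
  generalize Fintype.card κ₀ = k at *
  have hp : 1 ≤ q ^ (j + 1) := Nat.one_le_pow _ _ hq
  have hZ : Z = (q ^ (j + 1) - 1) * (q ^ (j + k) + 1) + 1 := by
    apply Nat.eq_of_mul_eq_mul_left hq
    have e1 : q ^ (2 * (j + 1) + k) = q ^ (j + 1) * q ^ (j + k) * q := by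
      rw [← pow_add, ← pow_succ]; congr 1; ring
    have e2 : q ^ (j + 1 + k) = q ^ (j + k) * q := by
      rw [← pow_succ]; congr 1; ring
    have e3 : q ^ (j + 1 + 1) = q ^ (j + 1) * q := by
      rw [← pow_succ]
    rw [e1, e2, e3] at h
    zify [hp] at h ⊢
    linear_combination h
  rw [hZ, Nat.add_sub_cancel]

/-- the order of the isometry group of `genForm Q₀ j` for anisotropic `Q₀` -/
theorem card_genForm (hQ₀ : (polarBilin Q₀).Nondegenerate)
    (hz : Nat.card {v : κ₀ → F // Q₀ v = 0} = 1) (j : ℕ) :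
    Nat.card ↥(isometryGroup F ⇑(genForm Q₀ j)) =
      Nat.card ↥(isometryGroup F ⇑Q₀) * ∏ i ∈ Finset.range j,
        ((Fintype.card F ^ (i + 1) - 1) * (Fintype.card F ^ (i + Fintype.card κ₀) + 1) *
          Fintype.card F ^ (2 * i + Fintype.card κ₀)) := by
  induction j with
  | zero => rw [card_genForm_zero]; simp
  | succ j ih =>
    rw [card_genForm_succ Q₀ hQ₀, zeros_genForm_factor Q₀ hz, ih, Finset.prod_range_succ]
    ring

end genCount

end Cfsg.Agent.Lib.Helper5.OrthCard
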