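import Mathlib

set_option autoImplicit false

namespace Cfsg.Agent.Lib.Helper5

open Module QuadraticMap

section
variable {F : Type*} [Field F] {V : Type*} [AddCommGroup V] [Module F V]

/-- Chevalley–Warning: a quadratic form in at least three variables over a finite field has a
nontrivial zero. -/
theorem exists_singular [Finite F] [FiniteDimensional F V] (Q : QuadraticForm F V)
    (h3 : 3 ≤ finrank F V) : ∃ v : V, v ≠ 0 ∧ Q v = 0 := by
  classical
  have := Fintype.ofFinite F
  obtain ⟨p, hp⟩ := CharP.exists F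
  set n := finrank F V with hn
  let b : Basis (Fin n) F V := Module.finBasis F V
  obtain ⟨B, hB⟩ := LinearMap.BilinMap.toQuadraticMap_surjective Q
  let f : MvPolynomial (Fin n) F :=
    ∑ i, ∑ j, MvPolynomial.C (B (b i) (b j)) * MvPolynomial.X i * MvPolynomial.X j
  have hdeg : f.totalDegree < Fintype.card (Fin n) := by
    rw [Fintype.card_fin]
    refine lt_of_le_of_lt ?_ (show 2 < n by omega)
    apply MvPolynomial.totalDegree_finsetSum_le
    intro i _
    apply MvPolynomial.totalDegree_finsetSum_le
    intro j _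
    refine (MvPolynomial.totalDegree_mul _ _).trans ?_
    have h1 : (MvPolynomial.C (B (b i) (b j)) * MvPolynomial.X i : MvPolynomial (Fin n) F).totalDegree
        ≤ 1 := by
      refine (MvPolynomial.totalDegree_mul _ _).trans ?_
      rw [MvPolynomial.totalDegree_C, MvPolynomial.totalDegree_X]
    have h2 : (MvPolynomial.X j : MvPolynomial (Fin n) F).totalDegree = 1 :=
      MvPolynomial.totalDegree_X _
    omega
  have heval : ∀ x : Fin n → F, MvPolynomial.eval x f = Q (∑ i, x i • b i) := by
    intro x
    rw [← hB]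
    simp only [f, map_sum, map_mul, MvPolynomial.eval_C, MvPolynomial.eval_X,
      LinearMap.BilinMap.toQuadraticMap_apply, LinearMap.sum_apply, map_smul,
      LinearMap.smul_apply, smul_eq_mul, Finset.mul_sum]
    rw [Finset.sum_comm]
    apply Finset.sum_congr rfl
    intro i _
    apply Finset.sum_congr rfl
    intro j _
    ring
  have hdvd := char_dvd_card_solutions p hdeg
  have hp2 : 2 ≤ p := (CharP.char_is_prime F p).two_le
  have hcard : 2 ≤ Fintype.card {x : Fin n → F // MvPolynomial.eval x f = 0} := by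
    have hpos : 0 < Fintype.card {x : Fin n → F // MvPolynomial.eval x f = 0} :=
      Fintype.card_pos_iff.2 ⟨⟨0, by rw [heval]; simp⟩⟩
    exact le_trans hp2 (Nat.le_of_dvd hpos hdvd)
  obtain ⟨⟨x, hx⟩, hne⟩ := Fintype.exists_ne_of_one_lt_card (by omega)
    (⟨0, by rw [heval]; simp⟩ : {x : Fin n → F // MvPolynomial.eval x f = 0})
  refine ⟨∑ i, x i • b i, ?_, by rw [← heval]; exact hx⟩
  intro h0
  apply hne
  apply Subtype.ext
  have := (Fintype.linearIndependent_iff.1 b.linearIndependent) x h0
  ext i
  exact this i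

theorem quad_add (Q : QuadraticForm F V) (x y : V) : Q (x + y) = Q x + Q y + polar Q x y := by
  simp only [polar]; ring

/-- a singular vector has a hyperbolic partner -/
theorem exists_partner (Q : QuadraticForm F V)
    (hQ : ∀ z : V, (∀ z', polar Q z z' = 0) → z = 0) (v : V) (hv : v ≠ 0) (hQv : Q v = 0) :
    ∃ w, Q w = 0 ∧ polar Q v w = 1 := by
  have : ∃ u₀, polar Q v u₀ ≠ 0 := by
    by_contra hcon
    push Not at hcon
    exact hv (hQ v hcon)
  obtain ⟨u₀, hu₀⟩ := this
  obtain ⟨u, hvu⟩ : ∃ u, polar Q v u = 1 :=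
    ⟨(polar Q v u₀)⁻¹ • u₀, by rw [polar_smul_right, smul_eq_mul, inv_mul_cancel₀ hu₀]⟩
  have hvv : polar Q v v = 0 := by
    rw [polar_self, hQv, smul_zero]
  refine ⟨u + (-(Q u)) • v, ?_, ?_⟩
  · rw [quad_add, QuadraticMap.map_smul, hQv, polar_smul_right, polar_comm, hvu]
    simp
  · rw [polar_add_right, polar_smul_right, hvu, hvv]
    simp

/-- the orthogonal complement of a pair of vectors -/
def pairPerp (Q : QuadraticForm F V) (v w : V) : Submodule F V :=
  LinearMap.ker (polarBilin Q v) ⊓ LinearMap.ker (polarBilin Q w)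

theorem mem_pairPerp (Q : QuadraticForm F V) (v w z : V) :
    z ∈ pairPerp Q v w ↔ polar Q v z = 0 ∧ polar Q w z = 0 := by
  simp [pairPerp, Submodule.mem_inf, LinearMap.mem_ker]

theorem finrank_pairPerp [FiniteDimensional F V] (Q : QuadraticForm F V) (v w : V)
    (hQv : Q v = 0) (hQw : Q w = 0) (hvw : polar Q v w = 1) :
    finrank F (pairPerp Q v w) + 2 = finrank F V := by
  set φ : V →ₗ[F] F × F := (polarBilin Q v).prod (polarBilin Q w) with hφ
  have hker : LinearMap.ker φ = pairPerp Q v w := by
    rw [hφ, LinearMap.ker_prod]; rfl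
  have hvv : polar Q v v = 0 := by rw [polar_self, hQv, smul_zero]
  have hww : polar Q w w = 0 := by rw [polar_self, hQw, smul_zero]
  have hwv : polar Q w v = 1 := by rw [polar_comm, hvw]
  have hsurj : LinearMap.range φ = ⊤ := by
    rw [LinearMap.range_eq_top]
    rintro ⟨a, b⟩
    refine ⟨a • w + b • v, ?_⟩
    show (polar Q v (a • w + b • v), polar Q w (a • w + b • v)) = (a, b)
    simp only [polar_add_right,
      polar_smul_right, hvw, hvv, hww, hwv, smul_eq_mul, mul_one, mul_zero, add_zero, zero_add]
  have := LinearMap.finrank_range_add_finrank_ker φ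
  rw [hsurj, finrank_top, hker, Module.finrank_prod, Module.finrank_self] at this
  omega

theorem nondeg_pairPerp (Q : QuadraticForm F V)
    (hQ : ∀ z : V, (∀ z', polar Q z z' = 0) → z = 0) (v w : V)
    (hQv : Q v = 0) (hQw : Q w = 0) (hvw : polar Q v w = 1) :
    ∀ z ∈ pairPerp Q v w, (∀ z' ∈ pairPerp Q v w, polar Q z z' = 0) → z = 0 := by
  intro z hz hzz
  rw [mem_pairPerp] at hz
  have hvv : polar Q v v = 0 := by rw [polar_self, hQv, smul_zero]
  have hww : polar Q w w = 0 := by rw [polar_self, hQw, smul_zero]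
  have hwv : polar Q w v = 1 := by rw [polar_comm, hvw]
  apply hQ
  intro u
  set u' := u - polar Q w u • v - polar Q v u • w with hu'
  have hu'mem : u' ∈ pairPerp Q v w := by
    rw [mem_pairPerp]
    constructor
    · simp only [hu', polar_sub_right, polar_smul_right, hvv, hvw, smul_eq_mul]; ring
    · simp only [hu', polar_sub_right, polar_smul_right, hww, hwv, smul_eq_mul]; ring
  have h1 := hzz u' hu'mem
  have hzv : polar Q z v = 0 := by rw [polar_comm]; exact hz.1
  have hzw : polar Q z w = 0 := by rw [polar_comm]; exact hz.2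
  have hu : u = u' + polar Q w u • v + polar Q v u • w := by rw [hu']; abel
  rw [hu, polar_add_right, polar_add_right, polar_smul_right, polar_smul_right, h1, hzv, hzw]
  simp

/-- hyperbolic pairs together with an orthogonal independent family are independent -/
theorem linearIndependent_hyperbolic (Q : QuadraticForm F V) {k : ℕ} (e f : Fin k → V)
    (h2 : ∀ i j, polar Q (e i) (f j) = if i = j then 1 else 0)
    (h3 : ∀ i j, polar Q (e i) (e j) = 0 ∧ polar Q (f i) (f j) = 0)
    {κ : Type*} [Fintype κ] (g : κ → V) (hg : LinearIndependent F g)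
    (h4 : ∀ i j, polar Q (e i) (g j) = 0 ∧ polar Q (f i) (g j) = 0) :
    LinearIndependent F (Sum.elim g (Sum.elim e f)) := by
  classical
  rw [Fintype.linearIndependent_iff]
  intro c hc
  rw [Fintype.sum_sum_type, Fintype.sum_sum_type] at hc
  simp only [Sum.elim_inl, Sum.elim_inr] at hc
  have hpair : ∀ z : V, ∑ l, c (Sum.inl l) * polar Q (g l) z +
      (∑ i, c (Sum.inr (Sum.inl i)) * polar Q (e i) z +
        ∑ i, c (Sum.inr (Sum.inr i)) * polar Q (f i) z) = 0 := by
    intro z
    have := congrArg (fun y => (polarBilin Q).flip z y) hc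
    simpa only [map_add, map_sum, map_smul, LinearMap.flip_apply, polarBilin_apply_apply,
      smul_eq_mul, map_zero] using this
  have he : ∀ j, c (Sum.inr (Sum.inl j)) = 0 := by
    intro j
    have := hpair (f j)
    have hg0 : ∀ l, polar Q (g l) (f j) = 0 := fun l => by rw [polar_comm]; exact (h4 j l).2
    simp only [hg0, mul_zero, Finset.sum_const_zero, zero_add, h2, (h3 _ _).2, mul_ite, mul_one,
      Finset.sum_ite_eq', Finset.mem_univ, if_true, add_zero] at this
    exact this
  have hf : ∀ j, c (Sum.inr (Sum.inr j)) = 0 := by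
    intro j
    have := hpair (e j)
    have hg0 : ∀ l, polar Q (g l) (e j) = 0 := fun l => by rw [polar_comm]; exact (h4 j l).1
    have hfe : ∀ i, polar Q (f i) (e j) = if i = j then 1 else 0 := by
      intro i
      rw [polar_comm, h2]
      simp only [eq_comm]
    simp only [hg0, mul_zero, Finset.sum_const_zero, zero_add, hfe, (h3 _ _).1, mul_ite, mul_one,
      Finset.sum_ite_eq', Finset.mem_univ, if_true] at this
    exact this
  simp only [he, hf, zero_smul, Finset.sum_const_zero, add_zero] at hc
  have hgc := (Fintype.linearIndependent_iff.1 hg) (fun l => c (Sum.inl l)) hc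
  rintro (l | i | i)
  · exact hgc l
  · exact he i
  · exact hf i

theorem linearIndependent_hyperbolic' (Q : QuadraticForm F V) {k : ℕ} (e f : Fin k → V)
    (h2 : ∀ i j, polar Q (e i) (f j) = if i = j then 1 else 0)
    (h3 : ∀ i j, polar Q (e i) (e j) = 0 ∧ polar Q (f i) (f j) = 0)
    {κ : Type*} [Fintype κ] (g : κ → V) (hg : LinearIndependent F g)
    (h4 : ∀ i j, polar Q (e i) (g j) = 0 ∧ polar Q (f i) (g j) = 0) :
    LinearIndependent F (Sum.elim (Sum.elim e f) g) := by
  have := (linearIndependent_hyperbolic Q e f h2 h3 g hg h4).comp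
    (Equiv.sumComm (Fin k ⊕ Fin k) κ) (Equiv.injective _)
  convert this using 1
  funext x
  rcases x with x | x <;> simp

end

universe u

/-- Witt decomposition over a finite field: a nondegenerate quadratic space of dimension
`2k + r` with `r ≥ 1` contains `k` mutually orthogonal hyperbolic pairs whose common orthogonal
complement contains a nondegenerate subspace `R` of dimension `r`. -/
theorem exists_hyperbolic_family {F : Type*} [Field F] [Finite F] (k : ℕ) :
    ∀ {V : Type u} [AddCommGroup V] [Module F V] [FiniteDimensional F V] (Q : QuadraticForm F V)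
      (_ : ∀ z : V, (∀ z', polar Q z z' = 0) → z = 0) (r : ℕ) (_ : 1 ≤ r)
      (_ : finrank F V = 2 * k + r),
    ∃ (e f : Fin k → V) (R : Submodule F V),
      (∀ i, Q (e i) = 0 ∧ Q (f i) = 0) ∧
      (∀ i j, polar Q (e i) (f j) = if i = j then 1 else 0) ∧
      (∀ i j, polar Q (e i) (e j) = 0 ∧ polar Q (f i) (f j) = 0) ∧
      (∀ i, ∀ z ∈ R, polar Q (e i) z = 0 ∧ polar Q (f i) z = 0) ∧
      finrank F R = r ∧ (∀ z ∈ R, (∀ z' ∈ R, polar Q z z' = 0) → z = 0) := by
  induction k with
  | zero =>
    intro V _ _ _ Q hQ r hr hd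
    refine ⟨Fin.elim0, Fin.elim0, ⊤, fun i => i.elim0, fun i => i.elim0, fun i => i.elim0,
      fun i => i.elim0, ?_, ?_⟩
    · rw [finrank_top, hd]; simp
    · intro z _ hz
      exact hQ z (fun z' => hz z' Submodule.mem_top)
  | succ k ih =>
    intro V _ _ _ Q hQ r hr hd
    obtain ⟨v, hv0, hQv⟩ := exists_singular Q (by omega)
    obtain ⟨w, hQw, hvw⟩ := exists_partner Q hQ v hv0 hQv
    set W := pairPerp Q v w with hW
    have hdW : finrank F W = 2 * k + r := by
      have := finrank_pairPerp Q v w hQv hQw hvw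
      rw [← hW] at this
      omega
    have hndW := nondeg_pairPerp Q hQ v w hQv hQw hvw
    have hQW : ∀ z : W, (∀ z' : W, polar (Q.comp W.subtype) z z' = 0) → z = 0 := by
      intro z hz
      apply Subtype.ext
      apply hndW z.1 z.2
      intro z' hz'
      exact hz ⟨z', hz'⟩
    obtain ⟨e', f', R', h1, h2, h3, h4, h5, h6⟩ := ih (Q.comp W.subtype) hQW r hr hdW
    have hwv : polar Q w v = 1 := by rw [polar_comm, hvw]
    have hvv : polar Q v v = 0 := by rw [polar_self, hQv, smul_zero]
    have hww : polar Q w w = 0 := by rw [polar_self, hQw, smul_zero]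
    have hWv : ∀ z : W, polar Q v z = 0 ∧ polar Q w z = 0 := fun z => (mem_pairPerp Q v w z).1 z.2
    refine ⟨Fin.cons v (fun i => (e' i : V)), Fin.cons w (fun i => (f' i : V)),
      R'.map W.subtype, ?_, ?_, ?_, ?_, ?_, ?_⟩
    · intro i
      refine Fin.cases ?_ (fun i => ?_) i
      · simp [hQv, hQw]
      · simpa using h1 i
    · intro i j
      refine Fin.cases ?_ (fun i => ?_) i <;> refine Fin.cases ?_ (fun j => ?_) j
      · simp [hvw]
      · simp only [Fin.cons_zero, Fin.cons_succ]
        rw [(hWv (f' j)).1, if_neg (Fin.succ_ne_zero j).symm]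
      · simp only [Fin.cons_zero, Fin.cons_succ]
        rw [polar_comm, (hWv (e' i)).2, if_neg (Fin.succ_ne_zero i)]
      · simp only [Fin.cons_succ]
        have := h2 i j
        simp only [Fin.succ_inj]
        exact this
    · intro i j
      refine Fin.cases ?_ (fun i => ?_) i <;> refine Fin.cases ?_ (fun j => ?_) j
      · simp [hvv, hww]
      · simp only [Fin.cons_zero, Fin.cons_succ]
        exact ⟨(hWv (e' j)).1, (hWv (f' j)).2⟩
      · simp only [Fin.cons_zero, Fin.cons_succ]
        rw [polar_comm, (hWv (e' i)).1, polar_comm, (hWv (f' i)).2]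
        exact ⟨rfl, rfl⟩
      · simp only [Fin.cons_succ]
        exact h3 i j
    · intro i z hz
      obtain ⟨z₀, hz₀, rfl⟩ := Submodule.mem_map.1 hz
      refine Fin.cases ?_ (fun i => ?_) i
      · simp only [Fin.cons_zero]
        exact hWv z₀
      · simp only [Fin.cons_succ]
        exact h4 i z₀ hz₀
    · rw [Submodule.finrank_map_subtype_eq, h5]
    · intro z hz hzz
      obtain ⟨z₀, hz₀, rfl⟩ := Submodule.mem_map.1 hz
      have := h6 z₀ hz₀ (fun z' hz' => hzz (W.subtype z') (Submodule.mem_map_of_mem hz'))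
      rw [this]; simp

end Cfsg.Agent.Lib.Helper5
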