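import Mathlib
import Cfsg.Agent.Lib.Helper5.QuadWitt

set_option autoImplicit false

namespace Cfsg.Agent.Lib.Helper5

open Module QuadraticMap

section
variable {F : Type*} [Field F] [Finite F] {V : Type*} [AddCommGroup V] [Module F V]
  [FiniteDimensional F V]

/-- an anisotropic subspace of dimension two over a finite field represents every nonzero
scalar -/
theorem exists_represent (Q : QuadraticForm F V) (R : Submodule F V) (hR : finrank F R = 2)
    (han : ∀ z ∈ R, Q z = 0 → z = 0) (c : F) (hc : c ≠ 0) : ∃ x ∈ R, Q x = c := by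
  let Q' : QuadraticForm F (R × F) :=
    (Q.comp (R.subtype.comp (LinearMap.fst F R F))) -
      c • ((QuadraticMap.sq (R := F) (A := F)).comp (LinearMap.snd F R F))
  have hQ' : ∀ p : R × F, Q' p = Q (p.1 : V) - c * (p.2 * p.2) := by
    intro p
    simp [Q']
  have hdim : 3 ≤ finrank F (R × F) := by
    rw [Module.finrank_prod, hR, Module.finrank_self]
  obtain ⟨⟨z, u⟩, hne, hzero⟩ := exists_singular Q' hdim
  rw [hQ'] at hzero
  simp only at hzero
  have hu : u ≠ 0 := by
    rintro rfl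
    apply hne
    have : Q (z : V) = 0 := by simpa using hzero
    have hz := han z z.2 this
    ext <;> simp [hz]
  refine ⟨u⁻¹ • (z : V), R.smul_mem _ z.2, ?_⟩
  rw [QuadraticMap.map_smul, smul_eq_mul]
  have : Q (z : V) = c * (u * u) := by linear_combination hzero
  rw [this]
  field_simp

/-- the standard basis `x, y` of an anisotropic plane: `Q x = 1`, `polar x y = 1`, and
`t² + t + Q y` has no root -/
theorem exists_elliptic_pair (Q : QuadraticForm F V) (R : Submodule F V) (hR : finrank F R = 2)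
    (hnd : ∀ z ∈ R, (∀ z' ∈ R, polar Q z z' = 0) → z = 0)
    (han : ∀ z ∈ R, Q z = 0 → z = 0) :
    ∃ x ∈ R, ∃ y ∈ R, Q x = 1 ∧ polar Q x y = 1 ∧ LinearIndependent F ![x, y] ∧
      ∀ t : F, t ^ 2 + t + Q y ≠ 0 := by
  obtain ⟨x, hxR, hQx⟩ := exists_represent Q R hR han 1 one_ne_zero
  have hx0 : x ≠ 0 := by
    rintro rfl
    simp at hQx
  -- a vector of `R` outside the line through `x`
  have hz : ∃ z ∈ R, ∀ a : F, a • x ≠ z := by
    by_contra hcon
    push Not at hcon
    have hle : R ≤ F ∙ x := by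
      intro z hz
      obtain ⟨a, ha⟩ := hcon z hz
      exact Submodule.mem_span_singleton.2 ⟨a, ha⟩
    have := Submodule.finrank_mono hle
    rw [hR, finrank_span_singleton hx0] at this
    omega
  obtain ⟨z, hzR, hzx⟩ := hz
  -- a vector pairing to one with `x`
  have hy₀ : ∃ y₀ ∈ R, polar Q x y₀ = 1 := by
    have : ∃ u ∈ R, polar Q x u ≠ 0 := by
      by_contra hcon
      push Not at hcon
      exact hx0 (hnd x hxR hcon)
    obtain ⟨u, huR, hu⟩ := this
    exact ⟨(polar Q x u)⁻¹ • u, R.smul_mem _ huR,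
      by rw [polar_smul_right, smul_eq_mul, inv_mul_cancel₀ hu]⟩
  obtain ⟨y₀, hy₀R, hxy₀⟩ := hy₀
  -- choose `y`
  have hy : ∃ y ∈ R, polar Q x y = 1 ∧ ∀ a : F, a • x ≠ y := by
    by_cases hind : ∀ a : F, a • x ≠ y₀
    · exact ⟨y₀, hy₀R, hxy₀, hind⟩
    · push Not at hind
      obtain ⟨c, hc⟩ := hind
      refine ⟨z + (1 - polar Q x z) • y₀, R.add_mem hzR (R.smul_mem _ hy₀R), ?_, ?_⟩
      · rw [polar_add_right, polar_smul_right, hxy₀]
        simp
      · intro a ha
        apply hzx (a - (1 - polar Q x z) * c)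
        rw [sub_smul, ha, mul_smul, hc]
        abel
  obtain ⟨y, hyR, hxy, hyx⟩ := hy
  refine ⟨x, hxR, y, hyR, hQx, hxy, (LinearIndependent.pair_iff' hx0).2 hyx, ?_⟩
  intro t ht
  have h1 : Q (t • x + y) = t ^ 2 + t + Q y := by
    rw [quad_add, QuadraticMap.map_smul, polar_smul_left, hQx, hxy]
    simp only [smul_eq_mul]
    ring
  have h2 := han (t • x + y) (R.add_mem (R.smul_mem _ hxR) hyR) (by rw [h1, ht])
  apply hyx (-t)
  rw [neg_smul]
  exact (eq_neg_of_add_eq_zero_left h2).symm ▸ by simp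

end

end Cfsg.Agent.Lib.Helper5
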