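import Mathlib
import Cfsg.Prelude.Def_ClassicalGeometry
import Cfsg.Agent.Lib.Helper5.OrthCard
import Cfsg.Agent.Lib.Helper5.QuadPlane

set_option autoImplicit false
open Cfsg

namespace Cfsg.Agent.Lib.Helper5.OrthPlane

open Matrix QuadraticMap Cfsg.Agent.Lib.Helper5.CartanDieudonne Cfsg.Agent.Lib.Helper5.OrthCard

section vec
variable {ι : Type} [Fintype ι] [DecidableEq ι] {F : Type*} [Field F] (Q : QuadraticForm F (ι → F))

/-- the action of the isometry group on vectors -/
@[reducible] noncomputable def vecSMul : SMul ↥(isometryGroup F ⇑Q) (ι → F) where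
  smul g v := act Q g v

attribute [local instance 2000] vecSMul

@[reducible] noncomputable def vecAction : MulAction ↥(isometryGroup F ⇑Q) (ι → F) where
  one_smul v := by
    show (1 : Matrix ι ι F) *ᵥ v = v
    rw [one_mulVec]
  mul_smul g h v := by
    show act Q (g * h) v = act Q g (act Q h v)
    rw [act_mul]

end vec

section bin
variable {F : Type*} [Field F] (a b : F)

/-- the binary form `x² + a x y + b y²` -/
noncomputable def binForm : QuadraticForm F (Fin 2 → F) :=
  QuadraticMap.proj 0 0 + a • QuadraticMap.proj 0 1 + b • QuadraticMap.proj 1 1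

theorem binForm_apply (v : Fin 2 → F) :
    binForm a b v = v 0 * v 0 + a * (v 0 * v 1) + b * (v 1 * v 1) := by
  simp [binForm]

theorem polar_binForm (u v : Fin 2 → F) :
    polar (binForm a b) u v = 2 * (u 0 * v 0) + a * (u 0 * v 1 + u 1 * v 0) + 2 * b * (u 1 * v 1) := by
  simp only [polar, binForm_apply, Pi.add_apply]
  ring

/-- multiplication in `F[ω]`, `ω² = aω - b` -/
def mul (u x : Fin 2 → F) : Fin 2 → F :=
  ![u 0 * x 0 - b * (u 1 * x 1), u 0 * x 1 + u 1 * x 0 + a * (u 1 * x 1)]

/-- conjugation in `F[ω]` -/
def conj (u : Fin 2 → F) : Fin 2 → F := ![u 0 + a * u 1, - u 1]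

theorem binForm_mul (u x : Fin 2 → F) :
    binForm a b (mul a b u x) = binForm a b u * binForm a b x := by
  simp only [binForm_apply, mul, Matrix.cons_val_zero, Matrix.cons_val_one]
  ring

theorem binForm_conj (u : Fin 2 → F) : binForm a b (conj a u) = binForm a b u := by
  simp only [binForm_apply, conj, Matrix.cons_val_zero, Matrix.cons_val_one]
  ring

theorem mul_conj_mul (u y : Fin 2 → F) :
    mul a b u (mul a b (conj a u) y) = binForm a b u • y := by
  ext i
  fin_cases i
  · simp only [binForm_apply, mul, conj, Matrix.cons_val_zero, Matrix.cons_val_one, Pi.smul_apply,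
      smul_eq_mul, Fin.zero_eta]
    ring
  · simp only [binForm_apply, mul, conj, Matrix.cons_val_zero, Matrix.cons_val_one, Pi.smul_apply,
      smul_eq_mul, Fin.mk_one]
    ring

theorem conj_mul_mul (u y : Fin 2 → F) :
    mul a b (conj a u) (mul a b u y) = binForm a b u • y := by
  ext i
  fin_cases i
  · simp only [binForm_apply, mul, conj, Matrix.cons_val_zero, Matrix.cons_val_one, Pi.smul_apply,
      smul_eq_mul, Fin.zero_eta]
    ring
  · simp only [binForm_apply, mul, conj, Matrix.cons_val_zero, Matrix.cons_val_one, Pi.smul_apply,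
      smul_eq_mul, Fin.mk_one]
    ring

theorem mul_smul_right (u y : Fin 2 → F) (c : F) : mul a b u (c • y) = c • mul a b u y := by
  ext i
  fin_cases i
  · simp only [mul, Matrix.cons_val_zero, Pi.smul_apply,
      smul_eq_mul, Fin.zero_eta]
    ring
  · simp only [mul, Matrix.cons_val_zero, Matrix.cons_val_one, Pi.smul_apply,
      smul_eq_mul, Fin.mk_one]
    ring

/-- level sets of nonzero values all have the same size -/
noncomputable def levelEquiv (u : Fin 2 → F) (hu : binForm a b u ≠ 0) :
    {x : Fin 2 → F // binForm a b x = 1} ≃ {x : Fin 2 → F // binForm a b x = binForm a b u} where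
  toFun x := ⟨mul a b u x.1, by rw [binForm_mul, x.2, mul_one]⟩
  invFun y := ⟨(binForm a b u)⁻¹ • mul a b (conj a u) y.1, by
    rw [QuadraticMap.map_smul, binForm_mul, binForm_conj, y.2, smul_eq_mul]
    field_simp⟩
  left_inv x := by
    apply Subtype.ext
    show (binForm a b u)⁻¹ • mul a b (conj a u) (mul a b u x.1) = x.1
    rw [conj_mul_mul, smul_smul, inv_mul_cancel₀ hu, one_smul]
  right_inv y := by
    apply Subtype.ext
    show mul a b u ((binForm a b u)⁻¹ • mul a b (conj a u) y.1) = y.1
    rw [mul_smul_right, mul_conj_mul, smul_smul, inv_mul_cancel₀ hu, one_smul]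

theorem anisotropic_of (hab : ∀ z₁ z₂ : F, z₁ ^ 2 + a * z₁ * z₂ + b * z₂ ^ 2 = 0 → z₁ = 0 ∧ z₂ = 0)
    (v : Fin 2 → F) (hv : binForm a b v = 0) : v = 0 := by
  rw [binForm_apply] at hv
  have := hab (v 0) (v 1) (by linear_combination hv)
  ext i
  fin_cases i
  · exact this.1
  · exact this.2

theorem binForm_zeros (han : ∀ v : Fin 2 → F, binForm a b v = 0 → v = 0) :
    Nat.card {v : Fin 2 → F // binForm a b v = 0} = 1 := by
  rw [Nat.card_eq_one_iff_unique]
  refine ⟨⟨?_⟩, ⟨⟨0, map_zero _⟩⟩⟩
  intro x y
  apply Subtype.ext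
  rw [han x.1 x.2, han y.1 y.2]

theorem binForm_nondegenerate [Finite F] (han : ∀ v : Fin 2 → F, binForm a b v = 0 → v = 0) :
    (polarBilin (binForm a b)).Nondegenerate := by
  have key : ∀ u : Fin 2 → F, (∀ v, polar (binForm a b) u v = 0) → u = 0 := by
    intro u hu
    by_cases h2 : (2 : F) = 0
    · -- characteristic two
      have ha : a ≠ 0 := by
        rintro rfl
        have hchar : ringChar F = 2 := by
          have : CharP F 2 := by
            apply CharTwo.of_one_ne_zero_of_two_eq_zero one_ne_zero h2
          exact ringChar.eq F 2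
        obtain ⟨β, hβ⟩ := FiniteField.isSquare_of_char_two hchar b
        have h3 := han ![β, 1] (by
          rw [binForm_apply]
          simp only [Matrix.cons_val_zero, Matrix.cons_val_one]
          rw [hβ]
          linear_combination (β * β) * h2)
        have := congrFun h3 1
        simp at this
      have h0 := hu ![0, 1]
      have h1 := hu ![1, 0]
      rw [polar_binForm] at h0 h1
      simp only [Matrix.cons_val_zero, Matrix.cons_val_one] at h0 h1
      have e0 : a * u 0 = 0 := by linear_combination h0 - (b * u 1) * h2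
      have e1 : a * u 1 = 0 := by linear_combination h1 - (u 0) * h2
      ext i
      fin_cases i
      · exact (mul_eq_zero.mp e0).resolve_left ha
      · exact (mul_eq_zero.mp e1).resolve_left ha
    · apply han
      have := hu u
      rw [polar_self] at this
      have h3 : (2 : F) * binForm a b u = 0 := by
        rw [← this]; simp [two_mul, two_smul]
      exact (mul_eq_zero.mp h3).resolve_left h2
  constructor
  · intro u hu
    exact key u (fun v => by simpa using hu v)
  · intro u hu
    apply key u
    intro v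
    rw [polar_comm]
    simpa using hu v

end bin

section count
variable {F : Type*} [Field F] [Fintype F] (a b : F)

theorem exists_binForm_eq (han : ∀ v : Fin 2 → F, binForm a b v = 0 → v = 0) (c : F) (hc : c ≠ 0) :
    ∃ u : Fin 2 → F, binForm a b u = c := by
  obtain ⟨x, -, hx⟩ := exists_represent (binForm a b) ⊤ (by
    rw [finrank_top, Module.finrank_fin_fun]) (fun z _ hz => han z hz) c hc
  exact ⟨x, hx⟩

theorem card_level_eq (han : ∀ v : Fin 2 → F, binForm a b v = 0 → v = 0) (c : F) (hc : c ≠ 0) :
    Nat.card {x : Fin 2 → F // binForm a b x = c} =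
      Nat.card {x : Fin 2 → F // binForm a b x = 1} := by
  obtain ⟨u, hu⟩ := exists_binForm_eq a b han c hc
  have hu' : binForm a b u ≠ 0 := by rw [hu]; exact hc
  rw [← hu]
  exact (Nat.card_congr (levelEquiv a b u hu')).symm

/-- an anisotropic binary form takes the value `1` exactly `q + 1` times -/
theorem card_level_one (han : ∀ v : Fin 2 → F, binForm a b v = 0 → v = 0) :
    Nat.card {x : Fin 2 → F // binForm a b x = 1} = Fintype.card F + 1 := by
  classical
  have h1 : Nat.card (Fin 2 → F) = Nat.card (Σ c : F, {v : Fin 2 → F // binForm a b v = c}) :=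
    Nat.card_congr (Equiv.sigmaFiberEquiv (fun v => binForm a b v)).symm
  rw [Nat.card_sigma] at h1
  obtain ⟨N, hN⟩ : ∃ N, N = Nat.card {x : Fin 2 → F // binForm a b x = 1} := ⟨_, rfl⟩
  have h2 : ∀ c : F, Nat.card {v : Fin 2 → F // binForm a b v = c} =
      if c = 0 then 1 else N := by
    intro c
    split_ifs with hc
    · rw [hc]; exact binForm_zeros a b han
    · rw [hN]; exact card_level_eq a b han c hc
  rw [← hN]
  clear hN
  simp only [h2] at h1
  rw [← Finset.add_sum_erase Finset.univ _ (Finset.mem_univ (0 : F)), if_pos rfl,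
    Finset.sum_congr rfl (fun c hc => if_neg (Finset.ne_of_mem_erase hc)), Finset.sum_const,
    smul_eq_mul, Finset.card_erase_of_mem (Finset.mem_univ _), Finset.card_univ,
    Nat.card_eq_fintype_card, Fintype.card_fun, Fintype.card_fin] at h1
  have hq : 2 ≤ Fintype.card F := Fintype.one_lt_card
  generalize Fintype.card F = q at *
  obtain ⟨r, rfl⟩ : ∃ r, q = r + 1 := ⟨q - 1, by omega⟩
  simp only [Nat.add_sub_cancel] at h1
  have hr : 0 < r := by omega
  have : r * N = r * (r + 1 + 1) := by nlinarith
  exact Nat.eq_of_mul_eq_mul_left hr this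

end count

section group
variable {F : Type*} [Field F] [Fintype F] (a b : F)

attribute [local instance 2000] vecSMul
attribute [local instance 2000] vecAction

omit [Fintype F] in
theorem a_ne_zero [Finite F] (han : ∀ v : Fin 2 → F, binForm a b v = 0 → v = 0) (h2 : (2 : F) = 0) :
    a ≠ 0 := by
  rintro rfl
  have hchar : ringChar F = 2 := by
    have : CharP F 2 := by
      apply CharTwo.of_one_ne_zero_of_two_eq_zero one_ne_zero h2
    exact ringChar.eq F 2
  obtain ⟨β, hβ⟩ := FiniteField.isSquare_of_char_two hchar b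
  have h3 := han ![β, 1] (by
    rw [binForm_apply]
    simp only [Matrix.cons_val_zero, Matrix.cons_val_one]
    rw [hβ]
    linear_combination (β * β) * h2)
  have := congrFun h3 1
  simp at this

omit [Fintype F] in
theorem disc_ne_zero (han : ∀ v : Fin 2 → F, binForm a b v = 0 → v = 0) (h2 : (2 : F) ≠ 0) :
    4 * b - a * a ≠ 0 := by
  intro h
  have h3 := han ![a, -2] (by
    rw [binForm_apply]
    simp only [Matrix.cons_val_zero, Matrix.cons_val_one]
    linear_combination h)
  have := congrFun h3 1
  simp at this
  exact h2 this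

/-- the matrix of multiplication by `u` -/
def Lmat (u : Fin 2 → F) : Matrix (Fin 2) (Fin 2) F := !![u 0, -(b * u 1); u 1, u 0 + a * u 1]

omit [Fintype F] in
theorem Lmat_mulVec (u x : Fin 2 → F) : Lmat a b u *ᵥ x = mul a b u x := by
  ext i
  fin_cases i
  · simp [Lmat, mul, Matrix.mulVec, dotProduct, Fin.sum_univ_two]
    ring
  · simp [Lmat, mul, Matrix.mulVec, dotProduct, Fin.sum_univ_two]
    ring

omit [Fintype F] in
theorem Lmat_mul_conj (u : Fin 2 → F) (hu : binForm a b u = 1) :
    Lmat a b u * Lmat a b (conj a u) = 1 := by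
  rw [ext_iff_mulVec]
  intro x
  rw [← mulVec_mulVec, Lmat_mulVec, Lmat_mulVec, mul_conj_mul, hu, one_smul, one_mulVec]

omit [Fintype F] in
theorem Lmat_conj_mul (u : Fin 2 → F) (hu : binForm a b u = 1) :
    Lmat a b (conj a u) * Lmat a b u = 1 := by
  rw [ext_iff_mulVec]
  intro x
  rw [← mulVec_mulVec, Lmat_mulVec, Lmat_mulVec, conj_mul_mul, hu, one_smul, one_mulVec]

/-- multiplication by a norm-one element, as an isometry -/
noncomputable def LIsom (u : Fin 2 → F) (hu : binForm a b u = 1) :
    ↥(isometryGroup F ⇑(binForm a b)) :=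
  ⟨⟨Lmat a b u, Lmat a b (conj a u), Lmat_mul_conj a b u hu, Lmat_conj_mul a b u hu⟩, by
    rw [mem_isometryGroup_iff]
    intro v
    show binForm a b (Lmat a b u *ᵥ v) = binForm a b v
    rw [Lmat_mulVec, binForm_mul, hu, one_mul]⟩

omit [Fintype F] in
theorem orbit_e0 :
    MulAction.orbit ↥(isometryGroup F ⇑(binForm a b)) (![1, 0] : Fin 2 → F) =
      {x | binForm a b x = 1} := by
  ext x
  constructor
  · rintro ⟨g, rfl⟩
    show binForm a b (act (binForm a b) g ![1, 0]) = 1
    rw [quad_act, binForm_apply]
    simp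
  · intro hx
    refine ⟨LIsom a b x hx, ?_⟩
    show Lmat a b x *ᵥ ![1, 0] = x
    rw [Lmat_mulVec]
    ext i
    fin_cases i <;> simp [mul]

/-- the conjugation matrix -/
def Cmat : Matrix (Fin 2) (Fin 2) F := !![1, a; 0, -1]

omit [Fintype F] in
theorem Cmat_mulVec (x : Fin 2 → F) : Cmat a *ᵥ x = conj a x := by
  ext i
  fin_cases i
  · simp [Cmat, conj, Matrix.mulVec, dotProduct, Fin.sum_univ_two]
  · simp [Cmat, conj, Matrix.mulVec, dotProduct, Fin.sum_univ_two]

omit [Fintype F] in
theorem Cmat_mul_self : Cmat a * Cmat a = 1 := by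
  rw [ext_iff_mulVec]
  intro x
  rw [← mulVec_mulVec, Cmat_mulVec, Cmat_mulVec, one_mulVec]
  ext i
  fin_cases i
  · simp [conj]
  · simp [conj]

/-- conjugation as an isometry -/
noncomputable def CIsom : ↥(isometryGroup F ⇑(binForm a b)) :=
  ⟨⟨Cmat a, Cmat a, Cmat_mul_self a, Cmat_mul_self a⟩, by
    rw [mem_isometryGroup_iff]
    intro v
    show binForm a b (Cmat a *ᵥ v) = binForm a b v
    rw [Cmat_mulVec, binForm_conj]⟩

/-- the stabiliser of `(1, 0)` consists of the identity and the conjugation -/
theorem stab_e0 (han : ∀ v : Fin 2 → F, binForm a b v = 0 → v = 0)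
    (g : ↥(isometryGroup F ⇑(binForm a b)))
    (hg : g ∈ MulAction.stabilizer ↥(isometryGroup F ⇑(binForm a b)) (![1, 0] : Fin 2 → F)) :
    g = 1 ∨ g = CIsom a b := by
  rw [MulAction.mem_stabilizer_iff] at hg
  have hg' : act (binForm a b) g ![1, 0] = ![1, 0] := hg
  set M : Matrix (Fin 2) (Fin 2) F :=
    ((g : Matrix.GeneralLinearGroup (Fin 2) F) : Matrix (Fin 2) (Fin 2) F) with hM
  have hcol0 : ∀ i, M i 0 = (![1, 0] : Fin 2 → F) i := by
    intro i
    have := congrFun hg' i
    unfold act at this
    rw [← hM] at this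
    simpa [Matrix.mulVec, dotProduct, Fin.sum_univ_two] using this
  have hcol1 : M *ᵥ ![0, 1] = ![M 0 1, M 1 1] := by
    ext i
    fin_cases i <;> simp [Matrix.mulVec, dotProduct, Fin.sum_univ_two]
  have hE2 : binForm a b ![M 0 1, M 1 1] = b := by
    have := quad_act (binForm a b) g ![0, 1]
    unfold act at this
    rw [← hM, hcol1] at this
    rw [this, binForm_apply]
    simp
  have hE1 : polar (binForm a b) ![1, 0] ![M 0 1, M 1 1] = a := by
    have := polar_act (binForm a b) g ![1, 0] ![0, 1]
    rw [hg'] at this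
    unfold act at this
    rw [← hM, hcol1] at this
    rw [this, polar_binForm]
    simp
  rw [binForm_apply] at hE2
  rw [polar_binForm] at hE1
  simp only [Matrix.cons_val_zero, Matrix.cons_val_one] at hE1 hE2
  set x := M 0 1 with hx
  set y := M 1 1 with hy
  have hsol : (x = 0 ∧ y = 1) ∨ (x = a ∧ y = -1) := by
    by_cases h2 : (2 : F) = 0
    · have ha := a_ne_zero a b han h2
      have hy1 : y = 1 := by
        have : a * (y - 1) = 0 := by linear_combination hE1 - x * h2
        have := (mul_eq_zero.mp this).resolve_left ha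
        linear_combination this
      rw [hy1] at hE2
      have hx2 : x * (x + a) = 0 := by linear_combination hE2
      rcases mul_eq_zero.mp hx2 with h | h
      · left; exact ⟨h, hy1⟩
      · right
        constructor
        · linear_combination h - a * h2
        · rw [hy1]; linear_combination h2
    · have hd := disc_ne_zero a b han h2
      have hprod : (4 * b - a * a) * ((y - 1) * (y + 1)) = 0 := by
        linear_combination 4 * hE2 - (2 * x + a * y + a) * hE1
      rcases mul_eq_zero.mp ((mul_eq_zero.mp hprod).resolve_left hd) with h | h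
      · left
        have hy1 : y = 1 := by linear_combination h
        refine ⟨?_, hy1⟩
        have : (2 : F) * x = 0 := by rw [hy1] at hE1; linear_combination hE1
        exact (mul_eq_zero.mp this).resolve_left h2
      · right
        have hy1 : y = -1 := by linear_combination h
        refine ⟨?_, hy1⟩
        have : (2 : F) * (x - a) = 0 := by rw [hy1] at hE1; linear_combination hE1
        have := (mul_eq_zero.mp this).resolve_left h2
        linear_combination this
  rcases hsol with ⟨h1, h2⟩ | ⟨h1, h2⟩
  · left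
    apply Subtype.ext
    apply Units.ext
    show M = 1
    ext i j
    fin_cases i <;> fin_cases j
    · simpa using hcol0 0
    · simpa using h1
    · simpa using hcol0 1
    · simpa using h2
  · right
    apply Subtype.ext
    apply Units.ext
    show M = Cmat a
    ext i j
    fin_cases i <;> fin_cases j
    · simpa [Cmat] using hcol0 0
    · simpa [Cmat] using h1
    · simpa [Cmat] using hcol0 1
    · simpa [Cmat] using h2

omit [Fintype F] in
theorem CIsom_ne_one [Finite F] (han : ∀ v : Fin 2 → F, binForm a b v = 0 → v = 0) :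
    CIsom a b ≠ 1 := by
  intro h
  have hM : Cmat a = 1 := congrArg (fun g : ↥(isometryGroup F ⇑(binForm a b)) =>
    ((g : Matrix.GeneralLinearGroup (Fin 2) F) : Matrix (Fin 2) (Fin 2) F)) h
  by_cases h2 : (2 : F) = 0
  · have := congrFun (congrFun hM 0) 1
    simp [Cmat] at this
    exact a_ne_zero a b han h2 this
  · have := congrFun (congrFun hM 1) 1
    simp [Cmat] at this
    apply h2
    linear_combination -this

theorem card_stab_e0 (han : ∀ v : Fin 2 → F, binForm a b v = 0 → v = 0) :
    Nat.card ↥(MulAction.stabilizer ↥(isometryGroup F ⇑(binForm a b)) (![1, 0] : Fin 2 → F)) = 2 := by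
  have hC : CIsom a b ∈ MulAction.stabilizer ↥(isometryGroup F ⇑(binForm a b))
      (![1, 0] : Fin 2 → F) := by
    rw [MulAction.mem_stabilizer_iff]
    show Cmat a *ᵥ ![1, 0] = ![1, 0]
    rw [Cmat_mulVec]
    ext i
    fin_cases i <;> simp [conj]
  rw [Nat.card_eq_two_iff]
  refine ⟨1, ⟨CIsom a b, hC⟩, ?_, ?_⟩
  · intro h
    exact CIsom_ne_one a b han (congrArg Subtype.val h).symm
  · ext g
    simp only [Set.mem_insert_iff, Set.mem_singleton_iff, Set.mem_univ, iff_true]
    rcases stab_e0 a b han g.1 g.2 with h | h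
    · left; exact Subtype.ext h
    · right; exact Subtype.ext h

/-- the isometry group of an anisotropic binary form has order `2(q+1)` -/
theorem card_binForm_isom (han : ∀ v : Fin 2 → F, binForm a b v = 0 → v = 0) :
    Nat.card ↥(isometryGroup F ⇑(binForm a b)) = 2 * (Fintype.card F + 1) := by
  rw [SympFrames.card_group_eq (G := ↥(isometryGroup F ⇑(binForm a b))) (![1, 0] : Fin 2 → F),
    card_stab_e0 a b han, orbit_e0, mul_comm]
  congr 1
  exact card_level_one a b han

end group

end Cfsg.Agent.Lib.Helper5.OrthPlane
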