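import Mathlib

set_option autoImplicit false

namespace Cfsg.Agent.Lib.Helper5

open Matrix

/-- Gram determinant of a bilinear form in an arbitrary basis versus the standard basis. -/
theorem gram_det_basis {F : Type*} [Field F] {κ ι : Type*} [Fintype κ] [DecidableEq κ] [Fintype ι] [DecidableEq ι]
    (B : LinearMap.BilinForm F (κ → F)) (b : Module.Basis ι F (κ → F)) :
    ∃ d : F, d ≠ 0 ∧ (Matrix.of (fun i j : ι => B (b i) (b j))).det = d * d * (LinearMap.BilinForm.toMatrix' B).det := by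
  classical
  let e : ι ≃ κ := b.indexEquiv (Pi.basisFun F κ)
  let c : Module.Basis κ F (κ → F) := b.reindex e
  have h1 : LinearMap.BilinForm.toMatrix c B = (Matrix.of (fun i j : ι => B (b i) (b j))).submatrix e.symm e.symm := by
    ext i j
    simp [c, LinearMap.BilinForm.toMatrix_apply, Module.Basis.reindex_apply]
  have h2 := LinearMap.BilinForm.toMatrix_mul_basis_toMatrix (Pi.basisFun F κ) c B
  rw [LinearMap.BilinForm.toMatrix_basisFun] at h2
  have h3 : (Matrix.of (fun i j : ι => B (b i) (b j))).det = (LinearMap.BilinForm.toMatrix c B).det := by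
    rw [h1, Matrix.det_submatrix_equiv_self]
  refine ⟨((Pi.basisFun F κ).toMatrix c).det, ?_, ?_⟩
  · have hu : IsUnit ((Pi.basisFun F κ).toMatrix c).det := by
      have : Invertible ((Pi.basisFun F κ).toMatrix c) := (Pi.basisFun F κ).invertibleToMatrix c
      exact (Matrix.isUnit_iff_isUnit_det _).mp (isUnit_of_invertible _)
    exact hu.ne_zero
  · rw [h3, ← h2, Matrix.det_mul, Matrix.det_mul, Matrix.det_transpose]
    ring

/-- determinant of the hyperbolic Gram matrix -/
theorem det_hyp {F : Type*} [Field F] (m : ℕ) :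
    (Matrix.fromBlocks (0 : Matrix (Fin m) (Fin m) F) (1 : Matrix (Fin m) (Fin m) F) (1 : Matrix (Fin m) (Fin m) F) (0 : Matrix (Fin m) (Fin m) F)).det = (-1) ^ m := by
  have h1 : Matrix.fromBlocks (0 : Matrix (Fin m) (Fin m) F) (1 : Matrix (Fin m) (Fin m) F) (1 : Matrix (Fin m) (Fin m) F) (1 : Matrix (Fin m) (Fin m) F) =
      Matrix.fromBlocks (0 : Matrix (Fin m) (Fin m) F) (1 : Matrix (Fin m) (Fin m) F) (1 : Matrix (Fin m) (Fin m) F) (0 : Matrix (Fin m) (Fin m) F) * Matrix.fromBlocks (1 : Matrix (Fin m) (Fin m) F) (1 : Matrix (Fin m) (Fin m) F) (0 : Matrix (Fin m) (Fin m) F) (1 : Matrix (Fin m) (Fin m) F) := by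
    rw [Matrix.fromBlocks_multiply]
    simp
  have h2 : (Matrix.fromBlocks (1 : Matrix (Fin m) (Fin m) F) (1 : Matrix (Fin m) (Fin m) F) (0 : Matrix (Fin m) (Fin m) F) (1 : Matrix (Fin m) (Fin m) F)).det = 1 := by
    rw [Matrix.det_fromBlocks_zero₂₁]; simp
  have h3 : (Matrix.fromBlocks (0 : Matrix (Fin m) (Fin m) F) (1 : Matrix (Fin m) (Fin m) F) (1 : Matrix (Fin m) (Fin m) F) (1 : Matrix (Fin m) (Fin m) F)).det = (-1) ^ m := by
    rw [Matrix.det_fromBlocks_one₂₂]
    simp [Matrix.det_neg]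
  rw [← h3, h1, Matrix.det_mul, h2, mul_one]

/-- squares times a nonzero square -/
theorem isSquare_mul_sq_iff {F : Type*} [Field F] (d x : F) (hd : d ≠ 0) :
    IsSquare (d * d * x) ↔ IsSquare x := by
  constructor
  · rintro ⟨y, hy⟩
    refine ⟨y / d, ?_⟩
    field_simp
    rw [sq, sq, ← hy]; ring
  · rintro ⟨y, hy⟩
    exact ⟨d * y, by rw [hy]; ring⟩

/-- when is `(-1)^m` a square in a finite field of odd order `q` -/
theorem isSquare_neg_one_pow_iff {F : Type*} [Field F] [Fintype F] {q : ℕ} (hF : Fintype.card F = q) (hq : Odd q) (m : ℕ) :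
    IsSquare ((-1 : F) ^ m) ↔ Even (m * (q - 1) / 2) := by
  obtain ⟨t, ht⟩ := hq
  have hq1 : q - 1 = 2 * t := by omega
  have hdiv : m * (q - 1) / 2 = m * t := by
    rw [hq1, ← mul_assoc, mul_comm m 2, mul_assoc, Nat.mul_div_cancel_left _ (by norm_num : 0 < 2)]
  rw [hdiv]
  rcases Nat.even_or_odd m with hm | hm
  · rw [Even.neg_one_pow hm]
    simp [hm, Nat.even_mul]
  · rw [Odd.neg_one_pow hm, FiniteField.isSquare_neg_one_iff, hF, Nat.even_mul]
    have hmne : ¬ Even m := Nat.not_even_iff_odd.mpr hm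
    simp only [hmne, false_or]
    rw [ht]
    constructor
    · intro h
      rcases Nat.even_or_odd t with h' | h'
      · exact h'
      · exfalso; obtain ⟨s, hs⟩ := h'; apply h; omega
    · rintro ⟨s, hs⟩; omega

/-- `2 ≠ 0` in a finite field of odd order -/
theorem two_ne_zero_of_odd_card {F : Type*} [Field F] [Fintype F] (hq : Odd (Fintype.card F)) : (2 : F) ≠ 0 := by
  apply Ring.two_ne_zero
  intro h
  have := FiniteField.even_card_iff_char_two.mp h
  rw [Nat.odd_iff] at hq
  omega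

/-- in a finite field of odd order, a nonsquare times `x ≠ 0` is a square iff `x` is not -/
theorem isSquare_mul_nonsquare_iff {F : Type*} [Field F] [Fintype F] (hq : Odd (Fintype.card F))
    (x n : F) (hx : x ≠ 0) (hn : ¬ IsSquare n) : IsSquare (x * n) ↔ ¬ IsSquare x := by
  classical
  have hn0 : n ≠ 0 := by
    rintro rfl
    exact hn ⟨0, by simp⟩
  have hxn : x * n ≠ 0 := mul_ne_zero hx hn0
  rw [← quadraticChar_one_iff_isSquare hxn, ← quadraticChar_one_iff_isSquare hx, map_mul,
    quadraticChar_neg_one_iff_not_isSquare.mpr hn]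
  rcases quadraticChar_dichotomy hx with h | h <;> rw [h] <;> decide

end Cfsg.Agent.Lib.Helper5
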