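import Mathlib
import Cfsg.Agent.Lib.Helper5.QuadWitt

set_option autoImplicit false

namespace Cfsg.Agent.Lib.Helper5

open Module QuadraticMap

section
variable {F : Type*} [Field F] [Finite F] {V : Type*} [AddCommGroup V] [Module F V]
  [FiniteDimensional F V]

/-- a nondegenerate quadratic form in at least two variables over a finite field represents 1 -/
theorem exists_eq_one (Q : QuadraticForm F V)
    (hQ : ∀ z : V, (∀ z', polar Q z z' = 0) → z = 0) (h2 : 2 ≤ finrank F V) :
    ∃ x : V, Q x = 1 := by
  let Q' : QuadraticForm F (V × F) :=
    (Q.comp (LinearMap.fst F V F)) -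
      ((QuadraticMap.sq (R := F) (A := F)).comp (LinearMap.snd F V F))
  have hQ' : ∀ p : V × F, Q' p = Q p.1 - p.2 * p.2 := by
    intro p
    simp [Q']
  have hdim : 3 ≤ finrank F (V × F) := by
    rw [Module.finrank_prod, Module.finrank_self]; omega
  obtain ⟨⟨z, u⟩, hne, hzero⟩ := exists_singular Q' hdim
  rw [hQ'] at hzero
  simp only at hzero
  by_cases hu : u = 0
  · subst hu
    have hQz : Q z = 0 := by simpa using hzero
    have hz0 : z ≠ 0 := by
      rintro rfl
      exact hne rfl
    obtain ⟨w, hQw, hzw⟩ := exists_partner Q hQ z hz0 hQz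
    refine ⟨z + w, ?_⟩
    rw [quad_add, hQz, hQw, hzw]; simp
  · refine ⟨u⁻¹ • z, ?_⟩
    rw [QuadraticMap.map_smul, smul_eq_mul]
    have : Q z = u * u := by linear_combination hzero
    rw [this]
    field_simp

end

universe u

/-- Over a finite field of odd characteristic a nondegenerate quadratic space has an orthogonal
basis on which `Q` takes the value `1` except possibly at the last vector. -/
theorem exists_diag_basis {F : Type*} [Field F] [Finite F] (h2 : (2 : F) ≠ 0) (n : ℕ) :
    ∀ {V : Type u} [AddCommGroup V] [Module F V] [FiniteDimensional F V] (Q : QuadraticForm F V)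
      (_ : ∀ z : V, (∀ z', polar Q z z' = 0) → z = 0) (_ : finrank F V = n + 1),
    ∃ b : Basis (Fin (n + 1)) F V, (∀ i j, i ≠ j → polar Q (b i) (b j) = 0) ∧
      (∀ i : Fin (n + 1), (i : ℕ) < n → Q (b i) = 1) := by
  induction n with
  | zero =>
    intro V _ _ _ Q hQ hd
    let b : Basis (Fin (0 + 1)) F V := Module.finBasisOfFinrankEq F V hd
    refine ⟨b, ?_, ?_⟩
    · intro i j hij
      exact absurd (Fin.ext (by omega)) hij
    · intro i hi
      omega
  | succ n ih =>
    intro V _ _ _ Q hQ hd
    obtain ⟨x, hQx⟩ := exists_eq_one Q hQ (by omega)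
    have hxx : polar Q x x = 2 := by rw [polar_self, hQx]; simp
    set W : Submodule F V := LinearMap.ker (polarBilin Q x) with hW
    have hmemW : ∀ z, z ∈ W ↔ polar Q x z = 0 := by
      intro z
      rw [hW, LinearMap.mem_ker, polarBilin_apply_apply]
    have hdW : finrank F W = n + 1 := by
      have h1 := LinearMap.finrank_range_add_finrank_ker (polarBilin Q x)
      have h3 : LinearMap.range (polarBilin Q x) = ⊤ := by
        rw [LinearMap.range_eq_top]
        intro a
        refine ⟨(a / 2) • x, ?_⟩
        rw [polarBilin_apply_apply, polar_smul_right, hxx, smul_eq_mul]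
        field_simp
      rw [h3, finrank_top, Module.finrank_self, ← hW] at h1
      omega
    have hQW : ∀ z : W, (∀ z' : W, polar (Q.comp W.subtype) z z' = 0) → z = 0 := by
      intro z hz
      apply Subtype.ext
      apply hQ
      intro u
      have hzx : polar Q z x = 0 := by rw [polar_comm]; exact (hmemW z).1 z.2
      set u' := u - (polar Q x u / 2) • x with hu'
      have hu'W : u' ∈ W := by
        rw [hmemW, hu', polar_sub_right, polar_smul_right, hxx, smul_eq_mul]
        field_simp
        ring
      have h1 := hz ⟨u', hu'W⟩
      have h1' : polar Q z u' = 0 := h1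
      have hu : u = u' + (polar Q x u / 2) • x := by rw [hu']; abel
      rw [hu, polar_add_right, polar_smul_right, h1', hzx]
      simp
    obtain ⟨v', hv1, hv2⟩ := ih (Q.comp W.subtype) hQW hdW
    let b :=
      Basis.mkFinCons x v'
        (by
          intro c y hy hc
          have h1 := congrArg (fun t => polar Q x t) hc
          simp only [polar_add_right, polar_smul_right, hxx, (hmemW y).1 hy, smul_eq_mul,
            add_zero, polar_zero_right] at h1
          exact (mul_eq_zero.1 h1).resolve_right h2)
        (by
          intro z
          refine ⟨-(polar Q x z / 2), ?_⟩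
          rw [hmemW, polar_add_right, polar_smul_right, hxx, smul_eq_mul]
          field_simp
          ring)
    refine ⟨b, ?_, ?_⟩
    · intro i j
      have hb : (b : Fin (n + 1 + 1) → V) = Fin.cons x ((↑) ∘ v') := Basis.coe_mkFinCons _ _ _ _
      rw [hb]
      refine Fin.cases ?_ (fun i => ?_) i <;> refine Fin.cases ?_ (fun j => ?_) j
      · intro h; exact absurd rfl h
      · intro _
        simp only [Fin.cons_zero, Fin.cons_succ, Function.comp_apply]
        exact (hmemW _).1 (v' j).2
      · intro _
        simp only [Fin.cons_zero, Fin.cons_succ, Function.comp_apply]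
        rw [polar_comm]
        exact (hmemW _).1 (v' i).2
      · intro hij
        simp only [Fin.cons_succ, Function.comp_apply]
        exact hv1 i j (fun h => hij (by rw [h]))
    · intro i
      have hb : (b : Fin (n + 1 + 1) → V) = Fin.cons x ((↑) ∘ v') := Basis.coe_mkFinCons _ _ _ _
      rw [hb]
      refine Fin.cases ?_ (fun i => ?_) i
      · intro _
        simpa using hQx
      · intro hi
        simp only [Fin.cons_succ, Function.comp_apply]
        have := hv2 i (by simpa using hi)
        exact this

end Cfsg.Agent.Lib.Helper5
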