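import Mathlib

set_option autoImplicit false

namespace Cfsg.Agent.Lib.Helper5.SpinClifford

open CliffordAlgebra QuadraticMap

section basic
variable {F : Type*} [Field F] {V : Type*} [AddCommGroup V] [Module F V] (Q : QuadraticForm F V)

/-- the twisted commutator with a vector is a contraction -/
theorem twisted_comm (w : V) (x : CliffordAlgebra Q) :
    ι Q w * x - involute x * ι Q w = contractLeft (Q := Q) (polarBilin Q w) x := by
  induction x using CliffordAlgebra.left_induction with
  | algebraMap r =>
    rw [contractLeft_algebraMap, AlgHom.commutes, Algebra.commutes, sub_self]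
  | add x y hx hy =>
    rw [map_add, map_add, mul_add, add_mul, ← hx, ← hy]
    abel
  | ι_mul x m hx =>
    rw [contractLeft_ι_mul, ← hx, map_mul, involute_ι, polarBilin_apply_apply]
    have h1 := ι_mul_ι_comm (Q := Q) w m
    rw [← mul_assoc, h1, Algebra.smul_def]
    noncomm_ring

/-- the reflection in a nonsingular vector -/
def refl (v w : V) : V := w - ((Q v)⁻¹ * polar Q v w) • v

theorem ι_mul_ι_refl (v w : V) (hv : Q v ≠ 0) :
    ι Q v * ι Q w = -(ι Q (refl Q v w) * ι Q v) := by
  have h1 : ι Q (refl Q v w) * ι Q v = ι Q w * ι Q v - algebraMap F _ (polar Q v w) := by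
    unfold refl
    rw [map_sub, map_smul, sub_mul, smul_mul_assoc, ι_sq_scalar, Algebra.smul_def,
      ← (algebraMap F (CliffordAlgebra Q)).map_mul]
    congr 2
    field_simp
  rw [h1, ι_mul_ι_comm]
  abel

/-- the composite of the reflections in a list of vectors -/
def reflList : List V → V → V
  | [], w => w
  | v :: vs, w => refl Q v (reflList vs w)

/-- the product of a list of vectors in the Clifford algebra -/
def cprod (vs : List V) : CliffordAlgebra Q := (vs.map (ι Q)).prod

theorem cprod_nil : cprod Q [] = 1 := rfl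

theorem cprod_cons (v : V) (vs : List V) : cprod Q (v :: vs) = ι Q v * cprod Q vs := by
  unfold cprod
  rw [List.map_cons, List.prod_cons]

theorem cprod_mul_ι (vs : List V) (hvs : ∀ v ∈ vs, Q v ≠ 0) (w : V) :
    cprod Q vs * ι Q w = (-1 : F) ^ vs.length • (ι Q (reflList Q vs w) * cprod Q vs) := by
  induction vs with
  | nil => simp [cprod_nil, reflList]
  | cons v vs ih =>
    have hv : Q v ≠ 0 := hvs v (List.mem_cons_self ..)
    have ih' := ih (fun u hu => hvs u (List.mem_cons_of_mem _ hu))
    rw [cprod_cons, mul_assoc, ih', mul_smul_comm, ← mul_assoc, ι_mul_ι_refl Q v _ hv,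
      List.length_cons, pow_succ, mul_smul, neg_mul, mul_assoc]
    simp [reflList]

theorem involute_cprod (vs : List V) :
    involute (cprod Q vs) = (-1 : F) ^ vs.length • cprod Q vs := by
  induction vs with
  | nil => simp [cprod_nil]
  | cons v vs ih =>
    rw [cprod_cons, map_mul, involute_ι, ih, List.length_cons, pow_succ, mul_smul]
    simp

theorem reverse_cprod_mul (vs : List V) :
    reverse (cprod Q vs) * cprod Q vs = algebraMap F _ (vs.map Q).prod := by
  induction vs with
  | nil => simp [cprod_nil]
  | cons v vs ih =>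
    rw [cprod_cons, reverse.map_mul, reverse_ι, mul_assoc, ← mul_assoc (ι Q v), ι_sq_scalar,
      ← mul_assoc, ← Algebra.commutes, mul_assoc, ih, List.map_cons, List.prod_cons, map_mul]

end basic

section scalar
variable {F : Type*} [Field F] {V : Type*} [AddCommGroup V] [Module F V] (Q : QuadraticForm F V)
  {κ : Type*} [DecidableEq κ] (b : Module.Basis κ F V)

/-- the subalgebra generated by the basis vectors with index in `S` -/
def adj (S : Finset κ) : Subalgebra F (CliffordAlgebra Q) :=
  Algebra.adjoin F ((fun i => ι Q (b i)) '' (S : Set κ))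

omit [DecidableEq κ] in
theorem ι_mem_adj (S : Finset κ) (i : κ) (hi : i ∈ S) : ι Q (b i) ∈ adj Q b S :=
  Algebra.subset_adjoin ⟨i, hi, rfl⟩

omit [DecidableEq κ] in
/-- a contraction killing the generators kills the subalgebra -/
theorem contract_adj (d : Module.Dual F V) (S : Finset κ) (hd : ∀ i ∈ S, d (b i) = 0)
    (y : CliffordAlgebra Q) (hy : y ∈ adj Q b S) : contractLeft (Q := Q) d y = 0 := by
  have hle : Subalgebra.toSubmodule (adj Q b S) ≤ LinearMap.ker (contractLeft (Q := Q) d) := by
    unfold adj
    rw [Algebra.adjoin_eq_span, Submodule.span_le]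
    intro y hy
    induction hy using Submonoid.closure_induction_left with
    | one => exact contractLeft_one (Q := Q) (d := d)
    | mul_left s hs y _ ih =>
      obtain ⟨i, hi, rfl⟩ := hs
      show contractLeft (Q := Q) d (ι Q (b i) * y) = 0
      have ih' : contractLeft (Q := Q) d y = 0 := ih
      rw [contractLeft_ι_mul, hd i hi, ih']
      simp
  exact hle hy

/-- decomposition of the subalgebra when one generator is added -/
theorem adj_insert_dec (S : Finset κ) (i₀ : κ) (x : CliffordAlgebra Q)
    (hx : x ∈ adj Q b (insert i₀ S)) :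
    ∃ a ∈ adj Q b S, ∃ c ∈ adj Q b S, x = a + ι Q (b i₀) * c := by
  let T : Submodule F (CliffordAlgebra Q) :=
    { carrier := {x | ∃ a ∈ adj Q b S, ∃ c ∈ adj Q b S, x = a + ι Q (b i₀) * c}
      add_mem' := by
        rintro _ _ ⟨a, ha, c, hc, rfl⟩ ⟨a', ha', c', hc', rfl⟩
        exact ⟨a + a', add_mem ha ha', c + c', add_mem hc hc', by rw [mul_add]; abel⟩
      zero_mem' := ⟨0, zero_mem _, 0, zero_mem _, by simp⟩
      smul_mem' := by
        rintro r _ ⟨a, ha, c, hc, rfl⟩
        exact ⟨r • a, Subalgebra.smul_mem _ ha r, r • c, Subalgebra.smul_mem _ hc r, by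
          rw [smul_add, mul_smul_comm]⟩ }
  have hle : Subalgebra.toSubmodule (adj Q b (insert i₀ S)) ≤ T := by
    unfold adj
    rw [Algebra.adjoin_eq_span, Submodule.span_le]
    intro y hy
    induction hy using Submonoid.closure_induction_left with
    | one => exact ⟨1, one_mem _, 0, zero_mem _, by simp⟩
    | mul_left s hs y _ ih =>
      obtain ⟨i, hi, rfl⟩ := hs
      obtain ⟨a, ha, c, hc, rfl⟩ := ih
      rw [Finset.coe_insert, Set.mem_insert_iff] at hi
      rcases hi with rfl | hi
      · refine ⟨algebraMap F _ (Q (b i)) * c, mul_mem (Subalgebra.algebraMap_mem _ _) hc, a, ha, ?_⟩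
        show ι Q (b i) * (a + ι Q (b i) * c) = _
        rw [mul_add, ← mul_assoc, ι_sq_scalar]
        abel
      · have hgen : ι Q (b i) ∈ adj Q b S := ι_mem_adj Q b S i hi
        refine ⟨ι Q (b i) * a + algebraMap F _ (polar Q (b i) (b i₀)) * c,
          add_mem (mul_mem hgen ha) (mul_mem (Subalgebra.algebraMap_mem _ _) hc),
          -(ι Q (b i) * c), neg_mem (mul_mem hgen hc), ?_⟩
        show ι Q (b i) * (a + ι Q (b i₀) * c) = _
        rw [mul_add, ← mul_assoc, ι_mul_ι_comm]
        noncomm_ring
  exact hle hx

/-- an element of the subalgebra generated by `S` all of whose contractions along `S` vanish is a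
scalar -/
theorem scalar_of_contract (S : Finset κ) :
    ∀ x ∈ adj Q b S, (∀ i ∈ S, contractLeft (Q := Q) (b.coord i) x = 0) →
      ∃ r : F, x = algebraMap F _ r := by
  induction S using Finset.induction_on with
  | empty =>
    intro x hx _
    unfold adj at hx
    rw [Finset.coe_empty, Set.image_empty, Algebra.adjoin_empty, Algebra.mem_bot] at hx
    obtain ⟨r, hr⟩ := hx
    exact ⟨r, hr.symm⟩
  | insert i₀ S hi₀ ih =>
    intro x hx hcon
    obtain ⟨a, ha, c, hc, rfl⟩ := adj_insert_dec Q b S i₀ x hx
    have hd : ∀ i ∈ S, (b.coord i₀) (b i) = 0 := by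
      intro i hi
      rw [Module.Basis.coord_apply, Module.Basis.repr_self, Finsupp.single_apply, if_neg]
      rintro rfl
      exact hi₀ hi
    have h0 := hcon i₀ (Finset.mem_insert_self _ _)
    rw [map_add, contractLeft_ι_mul, contract_adj Q b _ S hd a ha, contract_adj Q b _ S hd c hc]
      at h0
    have hc0 : c = 0 := by
      have h1 : (b.coord i₀) (b i₀) = 1 := by
        rw [Module.Basis.coord_apply, Module.Basis.repr_self, Finsupp.single_apply, if_pos rfl]
      rw [h1] at h0
      simpa using h0
    subst hc0
    rw [mul_zero, add_zero] at hcon ⊢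
    exact ih a ha (fun i hi => hcon i (Finset.mem_insert_of_mem hi))

omit [DecidableEq κ] in
theorem adj_univ [Fintype κ] : adj Q b Finset.univ = ⊤ := by
  rw [← adjoin_range_ι (Q := Q)]
  apply le_antisymm
  · apply Algebra.adjoin_mono
    rintro _ ⟨i, -, rfl⟩
    exact ⟨b i, rfl⟩
  · apply Algebra.adjoin_le
    rintro _ ⟨v, rfl⟩
    rw [← b.sum_repr v, map_sum]
    apply sum_mem
    intro i _
    rw [map_smul]
    exact Subalgebra.smul_mem _ (ι_mem_adj Q b _ i (Finset.mem_univ i)) _

/-- twisted-central elements of the Clifford algebra of a nondegenerate form are scalars -/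
theorem scalar_of_twisted_central [FiniteDimensional F V] (hQ : (polarBilin Q).Nondegenerate)
    (x : CliffordAlgebra Q) (hx : ∀ w : V, ι Q w * x = involute x * ι Q w) :
    ∃ r : F, x = algebraMap F _ r := by
  classical
  let b := Module.finBasis F V
  apply scalar_of_contract Q b Finset.univ x (by rw [adj_univ]; exact Algebra.mem_top)
  intro i _
  set w := (LinearMap.BilinForm.toDual (polarBilin Q) hQ).symm (b.coord i) with hw
  have h1 : polarBilin Q w = b.coord i := by
    have := (LinearMap.BilinForm.toDual (polarBilin Q) hQ).apply_symm_apply (b.coord i)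
    rw [← hw] at this
    rw [← this]
    ext n
    rw [LinearMap.BilinForm.toDual_def]
  rw [← h1, ← twisted_comm, hx w, sub_self]

/-- well-definedness of the spinor norm: if an even number of reflections compose to the identity,
the product of the norms of the vectors is a square -/
theorem isSquare_of_reflList_eq_id [FiniteDimensional F V] (h2 : (2 : F) ≠ 0)
    (hQ : (polarBilin Q).Nondegenerate) (vs : List V) (hvs : ∀ v ∈ vs, Q v ≠ 0)
    (heven : Even vs.length) (hid : ∀ w, reflList Q vs w = w) :
    IsSquare (vs.map Q).prod := by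
  have : Invertible (2 : F) := invertibleOfNonzero h2
  have hpow : (-1 : F) ^ vs.length = 1 := heven.neg_one_pow
  have hinv : involute (cprod Q vs) = cprod Q vs := by
    rw [involute_cprod, hpow, one_smul]
  have hcomm : ∀ w : V, ι Q w * cprod Q vs = involute (cprod Q vs) * ι Q w := by
    intro w
    rw [hinv, cprod_mul_ι Q vs hvs w, hpow, one_smul, hid]
  obtain ⟨r, hr⟩ := scalar_of_twisted_central Q hQ (cprod Q vs) hcomm
  have h3 := reverse_cprod_mul Q vs
  rw [hr, reverse.commutes, ← map_mul] at h3
  have hinj : Function.Injective (algebraMap F (CliffordAlgebra Q)) :=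
    (algebraMap F (CliffordAlgebra Q)).injective
  exact ⟨r, (hinj h3).symm⟩

end scalar

end Cfsg.Agent.Lib.Helper5.SpinClifford
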