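import Mathlib
import Cfsg.Prelude.Def_ClassicalGeometry
import Cfsg.Agent.Lib.Helper5.CartanDieudonne
import Cfsg.Agent.Lib.Helper5.OrthCard
import Cfsg.Agent.Lib.Helper5.SpinClifford
import Cfsg.Agent.Lib.Helper5.QuadDiag

set_option autoImplicit false
open Cfsg

namespace Cfsg.Agent.Lib.Helper5.SpinorNorm

open Matrix QuadraticMap Cfsg.Agent.Lib.Helper5.CartanDieudonne Cfsg.Agent.Lib.Helper5.Refl
  Cfsg.Agent.Lib.Helper5.OrthCard Cfsg.Agent.Lib.Helper5.SpinClifford

section lists
variable {ι : Type} [Fintype ι] [DecidableEq ι] {F : Type*} [Field F]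
  (Q : QuadraticForm F (ι → F))

/-- the product of the reflection matrices of a list of vectors -/
def rprod (vs : List (ι → F)) : Matrix ι ι F := (vs.map (reflectionMatrix ⇑Q)).prod

theorem rprod_nil : rprod Q [] = 1 := rfl

theorem rprod_cons (v : ι → F) (vs : List (ι → F)) :
    rprod Q (v :: vs) = reflectionMatrix ⇑Q v * rprod Q vs := by
  unfold rprod
  rw [List.map_cons, List.prod_cons]

theorem rprod_append (vs ws : List (ι → F)) : rprod Q (vs ++ ws) = rprod Q vs * rprod Q ws := by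
  unfold rprod
  rw [List.map_append, List.prod_append]

theorem rprod_mulVec (vs : List (ι → F)) (w : ι → F) : rprod Q vs *ᵥ w = reflList Q vs w := by
  induction vs with
  | nil => simp [rprod_nil, reflList]
  | cons v vs ih =>
    rw [rprod_cons, ← mulVec_mulVec, ih, reflectionMatrix_mulVec]
    rfl

theorem rprod_det (vs : List (ι → F)) (hvs : ∀ v ∈ vs, Q v ≠ 0) :
    (rprod Q vs).det = (-1) ^ vs.length := by
  induction vs with
  | nil => simp [rprod_nil]
  | cons v vs ih =>
    rw [rprod_cons, det_mul, reflection_det Q v (hvs v (List.mem_cons_self ..)),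
      ih (fun u hu => hvs u (List.mem_cons_of_mem _ hu)), List.length_cons, pow_succ]
    ring

theorem rprod_mul_reverse (vs : List (ι → F)) (hvs : ∀ v ∈ vs, Q v ≠ 0) :
    rprod Q vs * rprod Q vs.reverse = 1 := by
  induction vs with
  | nil => simp [rprod_nil]
  | cons v vs ih =>
    rw [List.reverse_cons, rprod_append, rprod_cons, rprod_cons, rprod_nil, mul_one,
      mul_assoc, ← mul_assoc (rprod Q vs), ih (fun u hu => hvs u (List.mem_cons_of_mem _ hu)),
      one_mul, reflection_mul_self Q v (hvs v (List.mem_cons_self ..))]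

omit [Fintype ι] [DecidableEq ι] in
theorem prodQ_ne_zero (vs : List (ι → F)) (hvs : ∀ v ∈ vs, Q v ≠ 0) : (vs.map Q).prod ≠ 0 := by
  induction vs with
  | nil => simp
  | cons v vs ih =>
    rw [List.map_cons, List.prod_cons]
    exact mul_ne_zero (hvs v (List.mem_cons_self ..))
      (ih (fun u hu => hvs u (List.mem_cons_of_mem _ hu)))

omit [Fintype ι] [DecidableEq ι] in
theorem prodQ_reverse (vs : List (ι → F)) : (vs.reverse.map Q).prod = (vs.map Q).prod := by
  rw [List.map_reverse, List.prod_reverse]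

omit [Fintype ι] [DecidableEq ι] in
theorem isSquare_mul_iff {x y : F} (hx : x ≠ 0) (hy : y ≠ 0) (h : IsSquare (x * y)) :
    IsSquare x ↔ IsSquare y := by
  obtain ⟨c, hc⟩ := h
  constructor
  · rintro ⟨s, rfl⟩
    have hs : s ≠ 0 := by
      rintro rfl
      simp at hx
    refine ⟨c / s, ?_⟩
    field_simp
    linear_combination hc
  · rintro ⟨s, rfl⟩
    have hs : s ≠ 0 := by
      rintro rfl
      simp at hy
    refine ⟨c / (s * s) * s, ?_⟩
    field_simp
    linear_combination hc

/-- the spinor norm and the parity of the number of reflections are well defined -/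
theorem spinor_welldefined (h2 : (2 : F) ≠ 0) (hQ : (polarBilin Q).Nondegenerate)
    (vs ws : List (ι → F)) (hvs : ∀ v ∈ vs, Q v ≠ 0) (hws : ∀ w ∈ ws, Q w ≠ 0)
    (h : rprod Q vs = rprod Q ws) :
    (Even vs.length ↔ Even ws.length) ∧
      (IsSquare (vs.map Q).prod ↔ IsSquare (ws.map Q).prod) := by
  have hpar : Even vs.length ↔ Even ws.length := by
    have h1 := congrArg Matrix.det h
    rw [rprod_det Q vs hvs, rprod_det Q ws hws] at h1
    have hne : (-1 : F) ≠ 1 := by
      intro h
      apply h2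
      linear_combination -h
    constructor
    · intro he
      by_contra hno
      rw [Nat.not_even_iff_odd] at hno
      rw [he.neg_one_pow, hno.neg_one_pow] at h1
      exact hne h1.symm
    · intro he
      by_contra hno
      rw [Nat.not_even_iff_odd] at hno
      rw [he.neg_one_pow, hno.neg_one_pow] at h1
      exact hne h1
  refine ⟨hpar, ?_⟩
  have hall : ∀ v ∈ vs ++ ws.reverse, Q v ≠ 0 := by
    intro v hv
    rcases List.mem_append.mp hv with h | h
    · exact hvs v h
    · exact hws v (List.mem_reverse.mp h)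
  have heven : Even (vs ++ ws.reverse).length := by
    rw [List.length_append, List.length_reverse, Nat.even_add]
    exact hpar
  have hid : ∀ w, reflList Q (vs ++ ws.reverse) w = w := by
    intro w
    rw [← rprod_mulVec, rprod_append, h, rprod_mul_reverse Q ws hws, one_mulVec]
  have hsq := isSquare_of_reflList_eq_id Q h2 hQ _ hall heven hid
  rw [List.map_append, List.prod_append, prodQ_reverse] at hsq
  exact isSquare_mul_iff (prodQ_ne_zero Q vs hvs) (prodQ_ne_zero Q ws hws) hsq

end lists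

section sgn
variable {F : Type*} [Field F]

open Classical in
/-- the square class of an element, as a sign -/
noncomputable def sgn (x : F) : ℤˣ := if IsSquare x then 1 else -1

theorem sgn_of_isSquare {x : F} (h : IsSquare x) : sgn x = 1 := by
  unfold sgn; rw [if_pos h]

theorem sgn_of_not_isSquare {x : F} (h : ¬ IsSquare x) : sgn x = -1 := by
  unfold sgn; rw [if_neg h]

theorem sgn_eq_one_iff {x : F} : sgn x = 1 ↔ IsSquare x := by
  constructor
  · intro h
    by_contra hn
    rw [sgn_of_not_isSquare hn] at h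
    exact absurd h (by decide)
  · exact sgn_of_isSquare

theorem sgn_coe [Fintype F] [DecidableEq F] {x : F} (hx : x ≠ 0) :
    ((sgn x : ℤˣ) : ℤ) = quadraticChar F x := by
  by_cases h : IsSquare x
  · rw [sgn_of_isSquare h, (quadraticChar_one_iff_isSquare hx).mpr h]
    rfl
  · rw [sgn_of_not_isSquare h, quadraticChar_neg_one_iff_not_isSquare.mpr h]
    rfl

theorem sgn_mul [Finite F] {x y : F} (hx : x ≠ 0) (hy : y ≠ 0) : sgn (x * y) = sgn x * sgn y := by
  classical
  have := Fintype.ofFinite F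
  apply Units.ext
  rw [Units.val_mul, sgn_coe hx, sgn_coe hy, sgn_coe (mul_ne_zero hx hy), map_mul]

theorem sgn_one : sgn (1 : F) = 1 := sgn_of_isSquare ⟨1, by simp⟩

end sgn

section reps
variable {ι : Type} [Fintype ι] [DecidableEq ι] {F : Type*} [Field F]
  (Q : QuadraticForm F (ι → F))

/-- `vs` is a reflection factorisation of `g` -/
def IsRep (g : ↥(isometryGroup F ⇑Q)) (vs : List (ι → F)) : Prop :=
  (∀ v ∈ vs, Q v ≠ 0) ∧
    ((g : Matrix.GeneralLinearGroup ι F) : Matrix ι ι F) = rprod Q vs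

theorem isRep_one : IsRep Q 1 [] := ⟨by simp, rfl⟩

theorem isRep_mul {g h : ↥(isometryGroup F ⇑Q)} {vs ws : List (ι → F)} (hg : IsRep Q g vs)
    (hh : IsRep Q h ws) : IsRep Q (g * h) (vs ++ ws) := by
  refine ⟨?_, ?_⟩
  · intro v hv
    rcases List.mem_append.mp hv with h | h
    · exact hg.1 v h
    · exact hh.1 v h
  · rw [rprod_append, ← hg.2, ← hh.2]
    rfl

theorem isRep_inv {g : ↥(isometryGroup F ⇑Q)} {vs : List (ι → F)} (hg : IsRep Q g vs) :
    IsRep Q g⁻¹ vs.reverse := by
  refine ⟨fun v hv => hg.1 v (List.mem_reverse.mp hv), ?_⟩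
  have h1 : ((g⁻¹ : ↥(isometryGroup F ⇑Q)) : Matrix.GeneralLinearGroup ι F).1 *
      ((g : Matrix.GeneralLinearGroup ι F) : Matrix ι ι F) = 1 := by
    show (((g⁻¹ * g : ↥(isometryGroup F ⇑Q)) : Matrix.GeneralLinearGroup ι F) : Matrix ι ι F) = 1
    rw [inv_mul_cancel]
    rfl
  calc ((g⁻¹ : ↥(isometryGroup F ⇑Q)) : Matrix.GeneralLinearGroup ι F).1
      = ((g⁻¹ : ↥(isometryGroup F ⇑Q)) : Matrix.GeneralLinearGroup ι F).1 *
          (rprod Q vs * rprod Q vs.reverse) := by
        rw [rprod_mul_reverse Q vs hg.1, mul_one]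
    _ = rprod Q vs.reverse := by
        rw [← mul_assoc, ← hg.2, h1, one_mul]

theorem isRep_reflection (v : ι → F) (hv : Q v ≠ 0) : IsRep Q (reflection Q v hv) [v] := by
  refine ⟨?_, ?_⟩
  · intro u hu
    rw [List.mem_singleton] at hu
    rw [hu]; exact hv
  · rw [rprod_cons, rprod_nil, mul_one]
    rfl

/-- in odd characteristic every isometry is a product of reflections -/
theorem exists_rep (h2 : (2 : F) ≠ 0) (hQ : (polarBilin Q).Nondegenerate)
    (g : ↥(isometryGroup F ⇑Q)) : ∃ vs, IsRep Q g vs := by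
  have hg : g ∈ reflSubgroup Q := by rw [reflSubgroup_eq_top h2 Q hQ]; trivial
  unfold reflSubgroup at hg
  induction hg using Subgroup.closure_induction with
  | mem x hx =>
    obtain ⟨v, hv, hx⟩ := hx
    refine ⟨[v], ?_, ?_⟩
    · intro u hu
      rw [List.mem_singleton] at hu
      rw [hu]; exact hv
    · rw [rprod_cons, rprod_nil, mul_one]
      exact hx
  | one => exact ⟨[], isRep_one Q⟩
  | mul x y _ _ hx hy =>
    obtain ⟨vs, hvs⟩ := hx
    obtain ⟨ws, hws⟩ := hy
    exact ⟨vs ++ ws, isRep_mul Q hvs hws⟩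
  | inv x _ hx =>
    obtain ⟨vs, hvs⟩ := hx
    exact ⟨vs.reverse, isRep_inv Q hvs⟩

variable [Finite F]

/-- the invariant (parity, spinor norm) of a factorisation -/
noncomputable def inv2 (vs : List (ι → F)) : ℤˣ × ℤˣ :=
  ((-1) ^ vs.length, sgn (vs.map Q).prod)

omit [Fintype ι] [DecidableEq ι] in
theorem inv2_append (vs ws : List (ι → F)) (hvs : ∀ v ∈ vs, Q v ≠ 0) (hws : ∀ w ∈ ws, Q w ≠ 0) :
    inv2 Q (vs ++ ws) = inv2 Q vs * inv2 Q ws := by
  unfold inv2
  rw [List.length_append, pow_add, List.map_append, List.prod_append,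
    sgn_mul (prodQ_ne_zero Q vs hvs) (prodQ_ne_zero Q ws hws)]
  rfl

omit [Finite F] in
theorem inv2_welldefined (h2 : (2 : F) ≠ 0) (hQ : (polarBilin Q).Nondegenerate)
    (g : ↥(isometryGroup F ⇑Q)) (vs ws : List (ι → F)) (hvs : IsRep Q g vs)
    (hws : IsRep Q g ws) : inv2 Q vs = inv2 Q ws := by
  obtain ⟨h1, h3⟩ := spinor_welldefined Q h2 hQ vs ws hvs.1 hws.1 (hvs.2.symm.trans hws.2)
  unfold inv2
  congr 1
  · by_cases he : Even vs.length
    · rw [he.neg_one_pow, (h1.mp he).neg_one_pow]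
    · have ho : ¬ Even ws.length := fun h => he (h1.mpr h)
      rw [Nat.not_even_iff_odd] at he ho
      rw [he.neg_one_pow, ho.neg_one_pow]
  · by_cases hs : IsSquare (vs.map Q).prod
    · rw [sgn_of_isSquare hs, sgn_of_isSquare (h3.mp hs)]
    · rw [sgn_of_not_isSquare hs, sgn_of_not_isSquare (fun h => hs (h3.mpr h))]

/-- the homomorphism (determinant sign, spinor norm) -/
noncomputable def theta (h2 : (2 : F) ≠ 0) (hQ : (polarBilin Q).Nondegenerate) :
    ↥(isometryGroup F ⇑Q) →* ℤˣ × ℤˣ :=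
  MonoidHom.mk' (fun g => inv2 Q (Classical.choose (exists_rep Q h2 hQ g))) (by
    intro g h
    have hg := Classical.choose_spec (exists_rep Q h2 hQ g)
    have hh := Classical.choose_spec (exists_rep Q h2 hQ h)
    have hgh := Classical.choose_spec (exists_rep Q h2 hQ (g * h))
    rw [inv2_welldefined Q h2 hQ (g * h) _ _ hgh (isRep_mul Q hg hh),
      inv2_append Q _ _ hg.1 hh.1])

theorem theta_eq (h2 : (2 : F) ≠ 0) (hQ : (polarBilin Q).Nondegenerate)
    (g : ↥(isometryGroup F ⇑Q)) (vs : List (ι → F)) (hvs : IsRep Q g vs) :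
    theta Q h2 hQ g = inv2 Q vs :=
  inv2_welldefined Q h2 hQ g _ _ (Classical.choose_spec (exists_rep Q h2 hQ g)) hvs

end reps

section kernel
variable {ι : Type} [Fintype ι] [DecidableEq ι] {F : Type*} [Field F]
  (Q : QuadraticForm F (ι → F))

omit [DecidableEq ι] in
/-- a nondegenerate form in at least two variables over a finite field is universal -/
theorem exists_quad_eq [Finite F] (hQ : (polarBilin Q).Nondegenerate) (hn : 2 ≤ Fintype.card ι)
    (c : F) (hc : c ≠ 0) : ∃ v : ι → F, Q v = c := by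
  have hQ' : ∀ z : ι → F, (∀ z', polar (c⁻¹ • Q) z z' = 0) → z = 0 := by
    intro z hz
    apply hQ.1 z
    intro z'
    have := hz z'
    have h1 : polar (⇑(c⁻¹ • Q)) z z' = c⁻¹ * polar Q z z' := by
      simp only [polar, _root_.smul_apply, smul_eq_mul]
      ring
    rw [h1] at this
    show polar Q z z' = 0
    exact (mul_eq_zero.mp this).resolve_left (inv_ne_zero hc)
  obtain ⟨x, hx⟩ := Cfsg.Agent.Lib.Helper5.exists_eq_one (c⁻¹ • Q) hQ' (by rw [Module.finrank_fintype_fun_eq_card]; exact hn)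
  refine ⟨x, ?_⟩
  rw [_root_.smul_apply, smul_eq_mul] at hx
  field_simp at hx
  exact hx

theorem conj_reflection (g : ↥(isometryGroup F ⇑Q)) (v : ι → F) (hv : Q v ≠ 0) :
    g * reflection Q v hv * g⁻¹ =
      reflection Q (act Q g v) (by rw [quad_act]; exact hv) := by
  apply Subtype.ext
  apply Units.ext
  rw [ext_iff_mulVec]
  intro x
  show act Q (g * reflection Q v hv * g⁻¹) x = act Q (reflection Q (act Q g v) _) x
  rw [act_mul, act_mul, act_reflection, act_reflection, quad_act]
  have h1 : polar ⇑Q (act Q g v) x = polar ⇑Q v (act Q g⁻¹ x) := by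
    rw [← polar_act Q g v (act Q g⁻¹ x), ← act_mul, mul_inv_cancel]
    congr 1
    show x = (1 : Matrix ι ι F) *ᵥ x
    rw [one_mulVec]
  rw [h1]
  unfold act
  rw [mulVec_sub, mulVec_smul, mulVec_mulVec]
  congr 1
  show (((g * g⁻¹ : ↥(isometryGroup F ⇑Q)) : Matrix.GeneralLinearGroup ι F) : Matrix ι ι F) *ᵥ x = x
  rw [mul_inv_cancel]
  show (1 : Matrix ι ι F) *ᵥ x = x
  rw [one_mulVec]

theorem reflectionMatrix_smul (t : F) (ht : t ≠ 0) (v : ι → F) (hv : Q v ≠ 0) :
    reflectionMatrix ⇑Q (t • v) = reflectionMatrix ⇑Q v := by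
  rw [ext_iff_mulVec]
  intro x
  rw [reflectionMatrix_mulVec, reflectionMatrix_mulVec, QuadraticMap.map_smul, polar_smul_left,
    smul_smul]
  congr 2
  simp only [smul_eq_mul]
  field_simp

/-- the isometry group is transitive on vectors of a given nonzero norm -/
theorem exists_isom_vec (hQ : (polarBilin Q).Nondegenerate) (v u : ι → F) (hv : Q v ≠ 0)
    (h : Q v = Q u) : ∃ g : ↥(isometryGroup F ⇑Q), act Q g v = u := by
  have hv0 : v ≠ 0 := by
    rintro rfl
    exact hv (map_zero Q)
  have hu0 : u ≠ 0 := by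
    rintro rfl
    rw [map_zero] at h
    exact hv h
  obtain ⟨g, hg, hgx⟩ := QuadIsom.witt_family Q hQ 1 (fun _ => v) (fun _ => u)
    (linearIndependent_unique_iff.mpr hv0) (linearIndependent_unique_iff.mpr hu0)
    (fun _ => h) (fun _ _ => by rw [polar_self, polar_self, h])
  obtain ⟨A, hA⟩ := exists_isom_of_linearEquiv Q g hg
  exact ⟨A, by rw [hA]; exact hgx 0⟩

/-- reflections in vectors whose norms lie in the same square class are conjugate -/
theorem exists_conj_reflection (hQ : (polarBilin Q).Nondegenerate) (v w : ι → F) (hv : Q v ≠ 0)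
    (hw : Q w ≠ 0) (hsq : IsSquare (Q v * Q w)) :
    ∃ g : ↥(isometryGroup F ⇑Q), g * reflection Q v hv * g⁻¹ = reflection Q w hw := by
  obtain ⟨c, hc⟩ := hsq
  have hc0 : c ≠ 0 := by
    rintro rfl
    rw [mul_zero] at hc
    exact mul_ne_zero hv hw hc
  set t := c / Q v with ht
  have ht0 : t ≠ 0 := div_ne_zero hc0 hv
  have hQu : Q v = Q (t⁻¹ • w) := by
    rw [QuadraticMap.map_smul, smul_eq_mul, ht]
    field_simp
    linear_combination -hc
  obtain ⟨g, hg⟩ := exists_isom_vec Q hQ v (t⁻¹ • w) hv hQu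
  refine ⟨g, ?_⟩
  rw [conj_reflection]
  apply Subtype.ext
  apply Units.ext
  show reflectionMatrix ⇑Q (act Q g v) = reflectionMatrix ⇑Q w
  rw [hg, reflectionMatrix_smul Q _ (inv_ne_zero ht0) w hw]

open Classical in
/-- the reflection in `v`, or `1` if `v` is singular -/
noncomputable def reflE (v : ι → F) : ↥(isometryGroup F ⇑Q) :=
  if hv : Q v ≠ 0 then reflection Q v hv else 1

theorem reflE_of_ne (v : ι → F) (hv : Q v ≠ 0) : reflE Q v = reflection Q v hv := by
  unfold reflE; rw [dif_pos hv]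

theorem coe_prod_reflE (vs : List (ι → F)) (hvs : ∀ v ∈ vs, Q v ≠ 0) :
    ((((vs.map (reflE Q)).prod : ↥(isometryGroup F ⇑Q)) : Matrix.GeneralLinearGroup ι F) :
      Matrix ι ι F) = rprod Q vs := by
  induction vs with
  | nil => rfl
  | cons v vs ih =>
    rw [List.map_cons, List.prod_cons, rprod_cons,
      ← ih (fun u hu => hvs u (List.mem_cons_of_mem _ hu)),
      reflE_of_ne Q v (hvs v (List.mem_cons_self ..))]
    rfl

theorem rep_eq_prod {g : ↥(isometryGroup F ⇑Q)} {vs : List (ι → F)} (hg : IsRep Q g vs) :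
    g = (vs.map (reflE Q)).prod := by
  apply Subtype.ext
  apply Units.ext
  rw [coe_prod_reflE Q vs hg.1]
  exact hg.2

theorem reflE_mul_self (v : ι → F) : reflE Q v * reflE Q v = 1 := by
  by_cases hv : Q v ≠ 0
  · rw [reflE_of_ne Q v hv]
    apply Subtype.ext
    apply Units.ext
    exact reflection_mul_self Q v hv
  · unfold reflE
    rw [dif_neg hv, one_mul]

section ab
variable [Finite F] {A : Type*} [CommGroup A] (π : ↥(isometryGroup F ⇑Q) →* A)

theorem pi_reflE_eq (hQ : (polarBilin Q).Nondegenerate) (v w : ι → F) (hv : Q v ≠ 0)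
    (hw : Q w ≠ 0) (hs : sgn (Q v) = sgn (Q w)) : π (reflE Q v) = π (reflE Q w) := by
  have hsq : IsSquare (Q v * Q w) := by
    rw [← sgn_eq_one_iff, sgn_mul hv hw, hs]
    rcases Int.units_eq_one_or (sgn (Q w)) with h | h <;> rw [h] <;> rfl
  obtain ⟨g, hg⟩ := exists_conj_reflection Q hQ v w hv hw hsq
  rw [reflE_of_ne Q v hv, reflE_of_ne Q w hw, ← hg, map_mul, map_mul, map_inv]
  rw [mul_comm (π g), mul_assoc, mul_inv_cancel, mul_one]

/-- the image of a product of reflections in an abelian quotient depends only on the invariant -/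
theorem pi_prod_eq_one (hQ : (polarBilin Q).Nondegenerate) (p nn : ι → F) (hp : Q p = 1)
    (hnn : Q nn ≠ 0) (hnn' : ¬ IsSquare (Q nn)) (vs : List (ι → F)) (hvs : ∀ v ∈ vs, Q v ≠ 0) :
    ∃ a b : ℕ, a + b = vs.length ∧ sgn (vs.map Q).prod = (-1) ^ b ∧
      π (vs.map (reflE Q)).prod = π (reflE Q p) ^ a * π (reflE Q nn) ^ b := by
  induction vs with
  | nil => exact ⟨0, 0, rfl, by simp [sgn_one], by simp⟩
  | cons v vs ih =>
    obtain ⟨a, b, hab, hsg, hpi⟩ := ih (fun u hu => hvs u (List.mem_cons_of_mem _ hu))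
    have hv : Q v ≠ 0 := hvs v (List.mem_cons_self ..)
    have hprod := prodQ_ne_zero Q vs (fun u hu => hvs u (List.mem_cons_of_mem _ hu))
    by_cases hsq : IsSquare (Q v)
    · refine ⟨a + 1, b, by rw [List.length_cons]; omega, ?_, ?_⟩
      · rw [List.map_cons, List.prod_cons, sgn_mul hv hprod, sgn_of_isSquare hsq, one_mul, hsg]
      · rw [List.map_cons, List.prod_cons, map_mul, hpi,
          pi_reflE_eq Q π hQ v p hv (by rw [hp]; exact one_ne_zero)
            (by rw [sgn_of_isSquare hsq, hp, sgn_one]), pow_succ]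
        rw [mul_comm (π (reflE Q p) ^ a) (π (reflE Q p)), mul_assoc]
    · refine ⟨a, b + 1, by rw [List.length_cons]; omega, ?_, ?_⟩
      · rw [List.map_cons, List.prod_cons, sgn_mul hv hprod, sgn_of_not_isSquare hsq, hsg,
          pow_succ, mul_comm]
      · rw [List.map_cons, List.prod_cons, map_mul, hpi,
          pi_reflE_eq Q π hQ v nn hv hnn
            (by rw [sgn_of_not_isSquare hsq, sgn_of_not_isSquare hnn']), pow_succ]
        rw [← mul_assoc, mul_comm (π (reflE Q nn)) (π (reflE Q p) ^ a), mul_assoc,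
          mul_comm (π (reflE Q nn))]

end ab

section main
variable [Finite F]

theorem neg_one_pow_eq_one_iff (b : ℕ) : (-1 : ℤˣ) ^ b = 1 ↔ Even b := by
  constructor
  · intro h
    by_contra hno
    rw [Nat.not_even_iff_odd] at hno
    rw [hno.neg_one_pow] at h
    exact absurd h (by decide)
  · intro h
    exact h.neg_one_pow

omit [Fintype ι] [DecidableEq ι] [Finite F] in
theorem inv2_eq_one_iff (vs : List (ι → F)) :
    inv2 Q vs = 1 ↔ Even vs.length ∧ IsSquare (vs.map Q).prod := by
  unfold inv2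
  rw [Prod.mk_eq_one, neg_one_pow_eq_one_iff, sgn_eq_one_iff]

omit [Fintype ι] [DecidableEq ι] in
theorem exists_nonsquare (h2 : (2 : F) ≠ 0) : ∃ ν : F, ν ≠ 0 ∧ ¬ IsSquare ν := by
  classical
  have := Fintype.ofFinite F
  have hchar : ringChar F ≠ 2 := by
    intro h
    apply h2
    have := ringChar.Nat.cast_ringChar (R := F)
    rw [h] at this
    exact_mod_cast this
  obtain ⟨a, ha⟩ := quadraticChar_exists_neg_one hchar
  refine ⟨a, ?_, quadraticChar_neg_one_iff_not_isSquare.mp ha⟩
  rintro rfl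
  rw [quadraticChar_zero] at ha
  exact absurd ha (by decide)

/-- the kernel of `(det, spinor norm)` is the commutator subgroup -/
theorem ker_theta (h2 : (2 : F) ≠ 0) (hQ : (polarBilin Q).Nondegenerate)
    (hn : 2 ≤ Fintype.card ι) :
    (theta Q h2 hQ).ker = commutator ↥(isometryGroup F ⇑Q) := by
  apply le_antisymm
  · intro g hg
    rw [MonoidHom.mem_ker] at hg
    obtain ⟨vs, hvs⟩ := exists_rep Q h2 hQ g
    rw [theta_eq Q h2 hQ g vs hvs, inv2_eq_one_iff] at hg
    obtain ⟨hlen, hsq⟩ := hg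
    obtain ⟨p, hp⟩ := exists_quad_eq Q hQ hn 1 one_ne_zero
    obtain ⟨ν, hν0, hν⟩ := exists_nonsquare (F := F) h2
    obtain ⟨nn, hnn⟩ := exists_quad_eq Q hQ hn ν hν0
    obtain ⟨a, b, hab, hsg, hpi⟩ := pi_prod_eq_one Q (Abelianization.of (G := ↥(isometryGroup F ⇑Q)))
      hQ p nn hp (by rw [hnn]; exact hν0) (by rw [hnn]; exact hν) vs hvs.1
    rw [sgn_of_isSquare hsq] at hsg
    have hb : Even b := (neg_one_pow_eq_one_iff b).mp hsg.symm
    have ha : Even a := by
      rw [← hab] at hlen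
      exact (Nat.even_add.mp hlen).mpr hb
    rw [← Abelianization.ker_of, MonoidHom.mem_ker, rep_eq_prod Q hvs, hpi]
    obtain ⟨a', rfl⟩ := ha
    obtain ⟨b', rfl⟩ := hb
    rw [pow_add, pow_add, ← mul_pow, ← mul_pow, ← map_mul, ← map_mul, reflE_mul_self,
      reflE_mul_self, map_one, one_pow, one_pow, one_mul]
  · exact Abelianization.commutator_subset_ker _

theorem theta_surjective (h2 : (2 : F) ≠ 0) (hQ : (polarBilin Q).Nondegenerate)
    (hn : 2 ≤ Fintype.card ι) : Function.Surjective (theta Q h2 hQ) := by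
  obtain ⟨p, hp⟩ := exists_quad_eq Q hQ hn 1 one_ne_zero
  obtain ⟨ν, hν0, hν⟩ := exists_nonsquare (F := F) h2
  obtain ⟨nn, hnn⟩ := exists_quad_eq Q hQ hn ν hν0
  have hp0 : Q p ≠ 0 := by rw [hp]; exact one_ne_zero
  have hnn0 : Q nn ≠ 0 := by rw [hnn]; exact hν0
  have h1 : theta Q h2 hQ (reflection Q p hp0) = (-1, 1) := by
    rw [theta_eq Q h2 hQ _ [p] (isRep_reflection Q p hp0)]
    unfold inv2
    simp [hp, sgn_one]
  have h3 : theta Q h2 hQ (reflection Q nn hnn0) = (-1, -1) := by
    rw [theta_eq Q h2 hQ _ [nn] (isRep_reflection Q nn hnn0)]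
    unfold inv2
    simp [hnn, sgn_of_not_isSquare hν]
  rintro ⟨x1, x2⟩
  rcases Int.units_eq_one_or x1 with rfl | rfl <;> rcases Int.units_eq_one_or x2 with rfl | rfl
  · exact ⟨1, map_one _⟩
  · refine ⟨reflection Q p hp0 * reflection Q nn hnn0, ?_⟩
    rw [map_mul, h1, h3]
    rfl
  · exact ⟨_, h1⟩
  · exact ⟨_, h3⟩

/-- in odd characteristic the commutator subgroup of the orthogonal group has index four -/
theorem index_commutator (h2 : (2 : F) ≠ 0) (hQ : (polarBilin Q).Nondegenerate)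
    (hn : 2 ≤ Fintype.card ι) : (commutator ↥(isometryGroup F ⇑Q)).index = 4 := by
  rw [← ker_theta Q h2 hQ hn, Subgroup.index_ker,
    MonoidHom.range_eq_top.mpr (theta_surjective Q h2 hQ hn)]
  rw [Nat.card_congr (Subgroup.topEquiv (G := ℤˣ × ℤˣ)).toEquiv, Nat.card_prod,
    Nat.card_eq_fintype_card, Fintype.card_units_int]

/-- spinor norm criterion for membership in the commutator subgroup -/
theorem mem_commutator_iff (h2 : (2 : F) ≠ 0) (hQ : (polarBilin Q).Nondegenerate)
    (hn : 2 ≤ Fintype.card ι) (g : ↥(isometryGroup F ⇑Q)) (vs : List (ι → F))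
    (hvs : IsRep Q g vs) :
    g ∈ commutator ↥(isometryGroup F ⇑Q) ↔ Even vs.length ∧ IsSquare (vs.map Q).prod := by
  rw [← ker_theta Q h2 hQ hn, MonoidHom.mem_ker, theta_eq Q h2 hQ g vs hvs, inv2_eq_one_iff]

end main

end kernel

end Cfsg.Agent.Lib.Helper5.SpinorNorm
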