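import Mathlib
import Cfsg.Prelude.Def_ClassicalGeometry
import Cfsg.Agent.Lib.Helper5.SpinorNorm
import Cfsg.Agent.Lib.Helper5.Discriminant

set_option autoImplicit false
open Cfsg

namespace Cfsg.Agent.Lib.Helper5.SpinorDiag

open Matrix QuadraticMap Cfsg.Agent.Lib.Helper5.CartanDieudonne Cfsg.Agent.Lib.Helper5.Refl
  Cfsg.Agent.Lib.Helper5.OrthCard Cfsg.Agent.Lib.Helper5.SpinorNorm

section
variable {ι : Type} [Fintype ι] [DecidableEq ι] {F : Type*} [Field F]
  (Q : QuadraticForm F (ι → F))

/-- a product of reflections fixes the vectors orthogonal to all the reflecting vectors -/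
theorem rprod_fix (vs : List (ι → F)) (w : ι → F) (h : ∀ u ∈ vs, polar ⇑Q u w = 0) :
    rprod Q vs *ᵥ w = w := by
  induction vs with
  | nil => rw [rprod_nil, one_mulVec]
  | cons u vs ih =>
    rw [rprod_cons, ← mulVec_mulVec, ih (fun x hx => h x (List.mem_cons_of_mem _ hx)),
      reflection_fix Q u w (h u (List.mem_cons_self ..))]

/-- a product of reflections in pairwise orthogonal vectors negates each of them -/
theorem rprod_orth_mem (vs : List (ι → F)) (hvs : ∀ v ∈ vs, Q v ≠ 0)
    (horth : vs.Pairwise (fun u v => polar ⇑Q u v = 0)) (v : ι → F) (hv : v ∈ vs) :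
    rprod Q vs *ᵥ v = -v := by
  induction vs with
  | nil => simp at hv
  | cons u vs ih =>
    rw [List.pairwise_cons] at horth
    rw [rprod_cons, ← mulVec_mulVec]
    rcases List.mem_cons.mp hv with rfl | hmem
    · rw [rprod_fix Q vs v (fun x hx => by rw [polar_comm]; exact horth.1 x hx),
        reflection_self Q v (hvs v (List.mem_cons_self ..))]
    · rw [ih (fun x hx => hvs x (List.mem_cons_of_mem _ hx)) horth.2 hmem, mulVec_neg,
        reflection_fix Q u v (horth.1 v hmem)]

omit [Fintype ι] [DecidableEq ι] in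
theorem quad_ne_zero_of_orth_basis (hQ : (polarBilin Q).Nondegenerate)
    {κ : Type*} [Fintype κ] (b : Module.Basis κ F (ι → F))
    (horth : ∀ i j, i ≠ j → polar ⇑Q (b i) (b j) = 0) (i : κ) : Q (b i) ≠ 0 := by
  intro h
  have h0 : b i = 0 := by
    apply hQ.1
    intro y
    show polar ⇑Q (b i) y = 0
    rw [← b.sum_repr y]
    have : polar ⇑Q (b i) (∑ j, b.repr y j • b j) = polarBilin Q (b i) (∑ j, b.repr y j • b j) := rfl
    rw [this, map_sum]
    apply Finset.sum_eq_zero
    intro j _
    rw [map_smul, polarBilin_apply_apply]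
    by_cases hij : i = j
    · subst hij
      rw [polar_self, h]
      simp
    · rw [horth i j hij, smul_zero]
  exact b.ne_zero i h0

theorem matrix_eq_of_basis {κ : Type*} (b : Module.Basis κ F (ι → F)) (M N : Matrix ι ι F)
    (h : ∀ i, M *ᵥ b i = N *ᵥ b i) : M = N := by
  have : Matrix.toLin' M = Matrix.toLin' N := b.ext (fun i => by
    rw [Matrix.toLin'_apply, Matrix.toLin'_apply, h i])
  exact Matrix.toLin'.injective this

/-- the product of the reflections in an orthogonal basis is `-1` -/
theorem rprod_orth_basis (hQ : (polarBilin Q).Nondegenerate) {n : ℕ}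
    (b : Module.Basis (Fin n) F (ι → F)) (horth : ∀ i j, i ≠ j → polar ⇑Q (b i) (b j) = 0) :
    rprod Q (List.ofFn b) = -1 := by
  apply matrix_eq_of_basis b
  intro i
  rw [neg_mulVec, one_mulVec]
  apply rprod_orth_mem Q
  · intro v hv
    obtain ⟨j, rfl⟩ := (List.mem_ofFn' _ _).mp hv
    exact quad_ne_zero_of_orth_basis Q hQ b horth j
  · rw [List.pairwise_ofFn]
    intro i j hij
    exact horth i j (ne_of_lt hij)
  · exact (List.mem_ofFn' _ _).mpr ⟨i, rfl⟩

/-- the scalar `-1` as an isometry -/
noncomputable def negOne : ↥(isometryGroup F ⇑Q) :=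
  ⟨⟨-1, -1, by simp, by simp⟩, by
    rw [mem_isometryGroup_iff]
    intro v
    show Q ((-1 : Matrix ι ι F) *ᵥ v) = Q v
    rw [neg_mulVec, one_mulVec, QuadraticMap.map_neg]⟩

theorem negOne_coe :
    (((negOne Q : ↥(isometryGroup F ⇑Q)) : Matrix.GeneralLinearGroup ι F) : Matrix ι ι F) = -1 := rfl

end

end Cfsg.Agent.Lib.Helper5.SpinorDiag
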