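import Mathlib
import Cfsg.Prelude.Def_ClassicalGeometry
import Cfsg.Agent.Lib.Helper5.SpinorDiag

set_option autoImplicit false
open Cfsg

namespace Cfsg.Agent.Lib.Helper5.SpinorHyp

open Matrix QuadraticMap Cfsg.Agent.Lib.Helper5.CartanDieudonne Cfsg.Agent.Lib.Helper5.Refl
  Cfsg.Agent.Lib.Helper5.OrthCard Cfsg.Agent.Lib.Helper5.SpinorNorm
  Cfsg.Agent.Lib.Helper5.SpinorDiag

section general
variable {ι : Type} [Fintype ι] [DecidableEq ι] {F : Type*} [Field F]
  (Q : QuadraticForm F (ι → F))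

/-- a product of reflections in pairwise orthogonal vectors negates their span -/
theorem rprod_neg_of_span (vs : List (ι → F)) (hvs : ∀ v ∈ vs, Q v ≠ 0)
    (horth : vs.Pairwise (fun u v => polar ⇑Q u v = 0)) (x : ι → F)
    (hx : x ∈ Submodule.span F {v | v ∈ vs}) : rprod Q vs *ᵥ x = -x := by
  induction hx using Submodule.span_induction with
  | mem v hv => exact rprod_orth_mem Q vs hvs horth v hv
  | zero => simp
  | add u v _ _ hu hv => rw [mulVec_add, hu, hv]; abel
  | smul c u _ hu => rw [mulVec_smul, hu, smul_neg]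

/-- a product of reflections in pairwise orthogonal vectors is diagonal if every standard basis
vector is in their span or orthogonal to all of them -/
theorem rprod_eq_diagonal (vs : List (ι → F)) (hvs : ∀ v ∈ vs, Q v ≠ 0)
    (horth : vs.Pairwise (fun u v => polar ⇑Q u v = 0)) (d : ι → F)
    (hd : ∀ k, (d k = -1 ∧ (Pi.single k 1 : ι → F) ∈ Submodule.span F {v | v ∈ vs}) ∨
      (d k = 1 ∧ ∀ u ∈ vs, polar ⇑Q u (Pi.single k 1) = 0)) :
    rprod Q vs = Matrix.diagonal d := by
  apply matrix_eq_of_basis (Pi.basisFun F ι)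
  intro k
  rw [Pi.basisFun_apply, Matrix.diagonal_mulVec_single, mul_one]
  rcases hd k with ⟨h1, h3⟩ | ⟨h1, h3⟩
  · rw [rprod_neg_of_span Q vs hvs horth _ h3, h1, ← Pi.single_neg]
  · rw [rprod_fix Q vs _ h3, h1]

/-- the isometry with matrix `rprod Q vs` -/
noncomputable def ofList (vs : List (ι → F)) : ↥(isometryGroup F ⇑Q) := (vs.map (reflE Q)).prod

theorem isRep_ofList (vs : List (ι → F)) (hvs : ∀ v ∈ vs, Q v ≠ 0) : IsRep Q (ofList Q vs) vs :=
  ⟨hvs, coe_prod_reflE Q vs hvs⟩

/-- membership in `Ω` of the isometry with a prescribed matrix, given a reflection factorisation -/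
theorem exists_mem_commutator_iff [Finite F] (h2 : (2 : F) ≠ 0) (hQ : (polarBilin Q).Nondegenerate)
    (hn : 2 ≤ Fintype.card ι) (vs : List (ι → F)) (hvs : ∀ v ∈ vs, Q v ≠ 0) (D : Matrix ι ι F)
    (hD : rprod Q vs = D) :
    (∃ g : ↥(isometryGroup F ⇑Q), g ∈ commutator ↥(isometryGroup F ⇑Q) ∧
      ((g : Matrix.GeneralLinearGroup ι F) : Matrix ι ι F) = D) ↔
      Even vs.length ∧ IsSquare (vs.map Q).prod := by
  constructor
  · rintro ⟨g, hg, hgD⟩
    exact (mem_commutator_iff Q h2 hQ hn g vs ⟨hvs, hgD.trans hD.symm⟩).mp hg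
  · intro h
    refine ⟨ofList Q vs, ?_, ?_⟩
    · exact (mem_commutator_iff Q h2 hQ hn _ vs (isRep_ofList Q vs hvs)).mpr h
    · rw [(isRep_ofList Q vs hvs).2, hD]

end general

section hyp
variable {ι : Type} [Fintype ι] [DecidableEq ι] {F : Type*} [Field F]
  (Q : QuadraticForm F (ι → F)) {i : ℕ} (α β : Fin i → ι)

/-- the standard basis vectors at `α t`, `β t` form mutually orthogonal hyperbolic pairs -/
structure IsHypFamily : Prop where
  inj_α : Function.Injective α
  inj_β : Function.Injective β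
  disj : ∀ s t, α s ≠ β t
  polar_α : ∀ t (v : ι → F), polar ⇑Q (Pi.single (α t) 1) v = v (β t)
  polar_β : ∀ t (v : ι → F), polar ⇑Q (Pi.single (β t) 1) v = v (α t)
  sing_α : ∀ t, Q (Pi.single (α t) 1) = 0
  sing_β : ∀ t, Q (Pi.single (β t) 1) = 0

/-- `e_t + f_t` -/
def uvec (t : Fin i) : ι → F := Pi.single (α t) 1 + Pi.single (β t) 1

/-- `e_t - f_t` -/
def wvec (t : Fin i) : ι → F := Pi.single (α t) 1 - Pi.single (β t) 1

/-- the list of the vectors `e_t + f_t` followed by the vectors `e_t - f_t` -/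
def hypList : List (ι → F) := List.ofFn (uvec (F := F) α β) ++ List.ofFn (wvec (F := F) α β)

variable {Q α β}

omit [Fintype ι] in
theorem quad_uvec (h : IsHypFamily Q α β) (t : Fin i) : Q (uvec α β t) = 1 := by
  unfold uvec
  rw [quad_add', h.sing_α, h.sing_β, h.polar_α]
  simp

omit [Fintype ι] in
theorem quad_wvec (h : IsHypFamily Q α β) (t : Fin i) : Q (wvec α β t) = -1 := by
  unfold wvec
  rw [quad_sub', h.sing_α, h.sing_β, h.polar_α]
  simp

omit [Fintype ι] in
theorem polar_uvec (h : IsHypFamily Q α β) (t : Fin i) (v : ι → F) :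
    polar ⇑Q (uvec α β t) v = v (β t) + v (α t) := by
  unfold uvec
  rw [polar_add_left, h.polar_α, h.polar_β]

omit [Fintype ι] in
theorem polar_wvec (h : IsHypFamily Q α β) (t : Fin i) (v : ι → F) :
    polar ⇑Q (wvec α β t) v = v (β t) - v (α t) := by
  unfold wvec
  rw [polar_sub_left, h.polar_α, h.polar_β]

omit [Fintype ι] in
theorem hypList_ne (h : IsHypFamily Q α β) : ∀ v ∈ hypList (F := F) α β, Q v ≠ 0 := by
  intro v hv
  unfold hypList at hv
  rcases List.mem_append.mp hv with hv | hv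
  · obtain ⟨t, rfl⟩ := (List.mem_ofFn' _ _).mp hv
    rw [quad_uvec h]; exact one_ne_zero
  · obtain ⟨t, rfl⟩ := (List.mem_ofFn' _ _).mp hv
    rw [quad_wvec h]; exact neg_ne_zero.mpr one_ne_zero

omit [Fintype ι] in
theorem hypList_pairwise (h : IsHypFamily Q α β) :
    (hypList (F := F) α β).Pairwise (fun u v => polar ⇑Q u v = 0) := by
  have hαβ : ∀ s t, β t ≠ α s := fun s t hc => h.disj s t hc.symm
  unfold hypList
  rw [List.pairwise_append]
  refine ⟨?_, ?_, ?_⟩
  · rw [List.pairwise_ofFn]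
    intro s t hst
    have hne : s ≠ t := ne_of_lt hst
    rw [polar_uvec h]
    simp [uvec, h.disj, hαβ, h.inj_α.ne hne.symm, h.inj_β.ne hne.symm]
  · rw [List.pairwise_ofFn]
    intro s t hst
    have hne : s ≠ t := ne_of_lt hst
    rw [polar_wvec h]
    simp [wvec, h.disj, hαβ, h.inj_α.ne hne.symm, h.inj_β.ne hne.symm]
  · intro u hu w hw
    obtain ⟨s, rfl⟩ := (List.mem_ofFn' _ _).mp hu
    obtain ⟨t, rfl⟩ := (List.mem_ofFn' _ _).mp hw
    rw [polar_uvec h]
    by_cases hst : s = t
    · subst hst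
      simp [wvec, h.disj, hαβ]
    · simp [wvec, h.disj, hαβ, h.inj_α.ne (Ne.symm hst), h.inj_β.ne (Ne.symm hst)]

omit [Fintype ι] in
theorem hypList_length : (hypList (F := F) α β).length = i + i := by
  unfold hypList
  rw [List.length_append, List.length_ofFn, List.length_ofFn]

omit [Fintype ι] in
theorem hypList_prod (h : IsHypFamily Q α β) :
    ((hypList (F := F) α β).map Q).prod = (-1) ^ i := by
  unfold hypList
  rw [List.map_append, List.prod_append, List.map_ofFn, List.map_ofFn, List.prod_ofFn,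
    List.prod_ofFn]
  simp only [Function.comp_apply, quad_uvec h, quad_wvec h, Finset.prod_const_one, one_mul,
    Finset.prod_const, Finset.card_univ, Fintype.card_fin]

/-- the product of the reflections in the `e_t ± f_t` is the diagonal matrix negating the
hyperbolic pairs -/
theorem rprod_hypList (h2 : (2 : F) ≠ 0) (h : IsHypFamily Q α β) (d : ι → F)
    (hd1 : ∀ t, d (α t) = -1) (hd2 : ∀ t, d (β t) = -1)
    (hd3 : ∀ k, (∀ t, α t ≠ k) → (∀ t, β t ≠ k) → d k = 1) :
    rprod Q (hypList α β) = Matrix.diagonal d := by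
  apply rprod_eq_diagonal Q _ (hypList_ne h) (hypList_pairwise h)
  intro k
  have hu : ∀ t, uvec (F := F) α β t ∈ Submodule.span F {v | v ∈ hypList (F := F) α β} := by
    intro t
    apply Submodule.subset_span
    unfold hypList
    exact List.mem_append_left _ ((List.mem_ofFn' _ _).mpr ⟨t, rfl⟩)
  have hw : ∀ t, wvec (F := F) α β t ∈ Submodule.span F {v | v ∈ hypList (F := F) α β} := by
    intro t
    apply Submodule.subset_span
    unfold hypList
    exact List.mem_append_right _ ((List.mem_ofFn' _ _).mpr ⟨t, rfl⟩)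
  by_cases hα : ∃ t, α t = k
  · obtain ⟨t, rfl⟩ := hα
    left
    refine ⟨hd1 t, ?_⟩
    have : (Pi.single (α t) 1 : ι → F) = (2 : F)⁻¹ • (uvec α β t + wvec α β t) := by
      unfold uvec wvec
      rw [add_add_sub_cancel, ← two_smul F, smul_smul, inv_mul_cancel₀ h2, one_smul]
    rw [this]
    exact Submodule.smul_mem _ _ (Submodule.add_mem _ (hu t) (hw t))
  · by_cases hβ : ∃ t, β t = k
    · obtain ⟨t, rfl⟩ := hβ
      left
      refine ⟨hd2 t, ?_⟩
      have : (Pi.single (β t) 1 : ι → F) = (2 : F)⁻¹ • (uvec α β t - wvec α β t) := by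
        unfold uvec wvec
        rw [add_sub_sub_cancel, ← two_smul F, smul_smul, inv_mul_cancel₀ h2, one_smul]
      rw [this]
      exact Submodule.smul_mem _ _ (Submodule.sub_mem _ (hu t) (hw t))
    · push Not at hα hβ
      right
      refine ⟨hd3 k hα hβ, ?_⟩
      intro u hu'
      unfold hypList at hu'
      rcases List.mem_append.mp hu' with hv | hv
      · obtain ⟨t, rfl⟩ := (List.mem_ofFn' _ _).mp hv
        rw [polar_uvec h]
        simp [(hα t).symm, (hβ t).symm]
      · obtain ⟨t, rfl⟩ := (List.mem_ofFn' _ _).mp hv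
        rw [polar_wvec h]
        simp [(hα t).symm, (hβ t).symm]

end hyp

section arith

theorem even_iff_pow_mod_four (q i : ℕ) (hq : Odd q) :
    Even (i * (q - 1) / 2) ↔ q ^ i % 4 = 1 := by
  obtain ⟨t, rfl⟩ := hq
  have h1 : i * (2 * t + 1 - 1) / 2 = i * t := by
    rw [Nat.add_sub_cancel, mul_comm 2 t, ← mul_assoc, Nat.mul_div_cancel _ (by norm_num)]
  rw [h1]
  rcases Nat.even_or_odd t with ⟨s, rfl⟩ | ⟨s, rfl⟩
  · -- q = 4s+1
    have h3 : (2 * (s + s) + 1) ^ i % 4 = 1 := by
      rw [Nat.pow_mod]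
      have : (2 * (s + s) + 1) % 4 = 1 := by omega
      rw [this, one_pow]
      rfl
    rw [h3]
    simp only [iff_true]
    exact ⟨i * s, by ring⟩
  · -- q = 4s+3
    have h3 : (2 * (2 * s + 1) + 1) % 4 = 3 := by omega
    rw [Nat.pow_mod, h3]
    rcases Nat.even_or_odd i with ⟨j, rfl⟩ | ⟨j, rfl⟩
    · have : 3 ^ (j + j) % 4 = 1 := by
        rw [← two_mul, pow_mul, Nat.pow_mod]
        norm_num
      rw [this]
      simp only [iff_true]
      exact ⟨j * (2 * s + 1), by ring⟩
    · have : 3 ^ (2 * j + 1) % 4 = 3 := by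
        rw [pow_succ, pow_mul, Nat.mul_mod, Nat.pow_mod]
        norm_num
      rw [this]
      constructor
      · intro h
        exfalso
        have hodd : Odd ((2 * j + 1) * (2 * s + 1)) := by
          exact ⟨2 * j * s + j + s, by ring⟩
        exact (Nat.not_even_iff_odd.mpr hodd) h
      · intro h; omega

theorem isSquare_neg_one_pow_iff' {F : Type*} [Field F] [Fintype F] {q : ℕ}
    (hF : Fintype.card F = q) (hq : Odd q) (i : ℕ) :
    IsSquare ((-1 : F) ^ i) ↔ q ^ i % 4 = 1 := by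
  rw [isSquare_neg_one_pow_iff hF hq, even_iff_pow_mod_four q i hq]

end arith

section packaged
variable {ι : Type} [Fintype ι] [DecidableEq ι] {F : Type*} [Field F] [Fintype F]
  {Q : QuadraticForm F (ι → F)} {i : ℕ} {α β : Fin i → ι}

/-- the involution negating `i` hyperbolic pairs lies in `Ω` iff `q^i ≡ 1 (mod 4)` -/
theorem hyp_involution_iff {q : ℕ} (hF : Fintype.card F = q) (hq : Odd q)
    (hQ : (polarBilin Q).Nondegenerate) (hn : 2 ≤ Fintype.card ι) (h : IsHypFamily Q α β)
    (d : ι → F) (hd1 : ∀ t, d (α t) = -1) (hd2 : ∀ t, d (β t) = -1)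
    (hd3 : ∀ k, (∀ t, α t ≠ k) → (∀ t, β t ≠ k) → d k = 1) :
    (∃ g : ↥(isometryGroup F ⇑Q), g ∈ commutator ↥(isometryGroup F ⇑Q) ∧
      ((g : Matrix.GeneralLinearGroup ι F) : Matrix ι ι F) = Matrix.diagonal d) ↔
      q ^ i % 4 = 1 := by
  have h2 : (2 : F) ≠ 0 := two_ne_zero_of_odd_card (by rw [hF]; exact hq)
  rw [exists_mem_commutator_iff Q h2 hQ hn (hypList α β) (hypList_ne h) _
    (rprod_hypList h2 h d hd1 hd2 hd3), hypList_length, hypList_prod h,
    isSquare_neg_one_pow_iff' hF hq]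
  constructor
  · exact fun h => h.2
  · exact fun h => ⟨⟨i, rfl⟩, h⟩

end packaged

end Cfsg.Agent.Lib.Helper5.SpinorHyp
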