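import Mathlib
import Cfsg.Prelude.Def_ClassicalGeometry
import Cfsg.Agent.Lib.Helper5.SpinorHyp
import Cfsg.Agent.Lib.Helper5.OrthPlane

set_option autoImplicit false
open Cfsg

namespace Cfsg.Agent.Lib.Helper5.SpinorHyp2

open Matrix QuadraticMap Cfsg.Agent.Lib.Helper5.CartanDieudonne Cfsg.Agent.Lib.Helper5.Refl
  Cfsg.Agent.Lib.Helper5.OrthCard Cfsg.Agent.Lib.Helper5.SpinorNorm
  Cfsg.Agent.Lib.Helper5.SpinorDiag Cfsg.Agent.Lib.Helper5.SpinorHyp
  Cfsg.Agent.Lib.Helper5.OrthPlane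

section more
variable {ι : Type} [Fintype ι] [DecidableEq ι] {F : Type*} [Field F]
  {Q : QuadraticForm F (ι → F)} {i : ℕ} {α β : Fin i → ι}

omit [Fintype ι] in
theorem single_α_mem_span (h2 : (2 : F) ≠ 0) (t : Fin i) :
    (Pi.single (α t) 1 : ι → F) ∈ Submodule.span F {v | v ∈ hypList (F := F) α β} := by
  have hu : uvec (F := F) α β t ∈ Submodule.span F {v | v ∈ hypList (F := F) α β} := by
    apply Submodule.subset_span
    unfold hypList
    exact List.mem_append_left _ ((List.mem_ofFn' _ _).mpr ⟨t, rfl⟩)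
  have hw : wvec (F := F) α β t ∈ Submodule.span F {v | v ∈ hypList (F := F) α β} := by
    apply Submodule.subset_span
    unfold hypList
    exact List.mem_append_right _ ((List.mem_ofFn' _ _).mpr ⟨t, rfl⟩)
  have : (Pi.single (α t) 1 : ι → F) = (2 : F)⁻¹ • (uvec α β t + wvec α β t) := by
    unfold uvec wvec
    rw [add_add_sub_cancel, ← two_smul F, smul_smul, inv_mul_cancel₀ h2, one_smul]
  rw [this]
  exact Submodule.smul_mem _ _ (Submodule.add_mem _ hu hw)

omit [Fintype ι] in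
theorem single_β_mem_span (h2 : (2 : F) ≠ 0) (t : Fin i) :
    (Pi.single (β t) 1 : ι → F) ∈ Submodule.span F {v | v ∈ hypList (F := F) α β} := by
  have hu : uvec (F := F) α β t ∈ Submodule.span F {v | v ∈ hypList (F := F) α β} := by
    apply Submodule.subset_span
    unfold hypList
    exact List.mem_append_left _ ((List.mem_ofFn' _ _).mpr ⟨t, rfl⟩)
  have hw : wvec (F := F) α β t ∈ Submodule.span F {v | v ∈ hypList (F := F) α β} := by
    apply Submodule.subset_span
    unfold hypList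
    exact List.mem_append_right _ ((List.mem_ofFn' _ _).mpr ⟨t, rfl⟩)
  have : (Pi.single (β t) 1 : ι → F) = (2 : F)⁻¹ • (uvec α β t - wvec α β t) := by
    unfold uvec wvec
    rw [add_sub_sub_cancel, ← two_smul F, smul_smul, inv_mul_cancel₀ h2, one_smul]
  rw [this]
  exact Submodule.smul_mem _ _ (Submodule.sub_mem _ hu hw)

omit [Fintype ι] in
/-- vectors vanishing at the hyperbolic coordinates are orthogonal to the list -/
theorem polar_hypList_eq_zero (h : IsHypFamily Q α β) (v : ι → F) (hα : ∀ t, v (α t) = 0)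
    (hβ : ∀ t, v (β t) = 0) : ∀ u ∈ hypList (F := F) α β, polar ⇑Q u v = 0 := by
  intro u hu
  unfold hypList at hu
  rcases List.mem_append.mp hu with hv | hv
  · obtain ⟨t, rfl⟩ := (List.mem_ofFn' _ _).mp hv
    rw [polar_uvec h, hα, hβ, add_zero]
  · obtain ⟨t, rfl⟩ := (List.mem_ofFn' _ _).mp hv
    rw [polar_wvec h, hα, hβ, sub_zero]

end more

section gen
variable {F : Type*} [Field F] {κ₀ : Type} [Fintype κ₀] [DecidableEq κ₀]
  (Q₀ : QuadraticForm F (κ₀ → F))

omit [Fintype κ₀] in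
theorem polar_genForm_single_ll (k : ℕ) (j : Fin k) (v : (Fin k ⊕ Fin k) ⊕ κ₀ → F) :
    polar (genForm Q₀ k) (Pi.single (Sum.inl (Sum.inl j)) 1) v = v (Sum.inl (Sum.inr j)) := by
  rw [polar_genForm]
  have h3 : (fun x : κ₀ => (Pi.single (Sum.inl (Sum.inl j)) 1 :
      (Fin k ⊕ Fin k) ⊕ κ₀ → F) (Sum.inr x)) = 0 := by
    ext x; simp
  rw [h3]
  simp [Pi.single_apply]

omit [Fintype κ₀] in
theorem polar_genForm_single_lr (k : ℕ) (j : Fin k) (v : (Fin k ⊕ Fin k) ⊕ κ₀ → F) :
    polar (genForm Q₀ k) (Pi.single (Sum.inl (Sum.inr j)) 1) v = v (Sum.inl (Sum.inl j)) := by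
  rw [polar_genForm]
  have h3 : (fun x : κ₀ => (Pi.single (Sum.inl (Sum.inr j)) 1 :
      (Fin k ⊕ Fin k) ⊕ κ₀ → F) (Sum.inr x)) = 0 := by
    ext x; simp
  rw [h3]
  simp [Pi.single_apply]

omit [Fintype κ₀] in
theorem genForm_single_ll (k : ℕ) (j : Fin k) :
    genForm Q₀ k (Pi.single (Sum.inl (Sum.inl j)) 1) = 0 := by
  rw [genForm_apply]
  have h3 : (fun x : κ₀ => (Pi.single (Sum.inl (Sum.inl j)) 1 :
      (Fin k ⊕ Fin k) ⊕ κ₀ → F) (Sum.inr x)) = 0 := by
    ext x; simp
  rw [h3]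
  simp

omit [Fintype κ₀] in
theorem genForm_single_lr (k : ℕ) (j : Fin k) :
    genForm Q₀ k (Pi.single (Sum.inl (Sum.inr j)) 1) = 0 := by
  rw [genForm_apply]
  have h3 : (fun x : κ₀ => (Pi.single (Sum.inl (Sum.inr j)) 1 :
      (Fin k ⊕ Fin k) ⊕ κ₀ → F) (Sum.inr x)) = 0 := by
    ext x; simp
  rw [h3]
  simp

omit [Fintype κ₀] in
/-- the first `i` hyperbolic pairs of `genForm Q₀ k` -/
theorem genForm_hypFamily {k i : ℕ} (hik : i ≤ k) :
    IsHypFamily (genForm Q₀ k)
      (fun t : Fin i => (Sum.inl (Sum.inl (Fin.castLE hik t)) : (Fin k ⊕ Fin k) ⊕ κ₀))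
      (fun t : Fin i => (Sum.inl (Sum.inr (Fin.castLE hik t)) : (Fin k ⊕ Fin k) ⊕ κ₀)) where
  inj_α := fun _ _ hst => Fin.castLE_injective hik (Sum.inl_injective (Sum.inl_injective hst))
  inj_β := fun _ _ hst => Fin.castLE_injective hik (Sum.inr_injective (Sum.inl_injective hst))
  disj := fun _ _ hst => Sum.inl_ne_inr (Sum.inl_injective hst)
  polar_α := fun _ v => polar_genForm_single_ll Q₀ k _ v
  polar_β := fun _ v => polar_genForm_single_lr Q₀ k _ v
  sing_α := fun _ => genForm_single_ll Q₀ k _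
  sing_β := fun _ => genForm_single_lr Q₀ k _

end gen

section odd
variable {F : Type*} [Field F]

/-- the odd-dimensional form as a bundled quadratic form -/
noncomputable def oddForm (m : ℕ) (F : Type*) [Field F] :
    QuadraticForm F (Unit ⊕ (Fin m ⊕ Fin m) → F) :=
  QuadraticMap.proj (Sum.inl ()) (Sum.inl ()) +
    ∑ i : Fin m, QuadraticMap.proj (Sum.inr (Sum.inl i)) (Sum.inr (Sum.inr i))

theorem oddForm_apply (m : ℕ) (v : Unit ⊕ (Fin m ⊕ Fin m) → F) :
    oddForm m F v = Cfsg.quadFormOdd m F v := by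
  simp [oddForm, Cfsg.quadFormOdd, _root_.sq]

theorem coe_oddForm (m : ℕ) : ⇑(oddForm m F) = Cfsg.quadFormOdd m F :=
  funext (oddForm_apply m)

theorem polar_oddForm (m : ℕ) (u v : Unit ⊕ (Fin m ⊕ Fin m) → F) :
    polar (oddForm m F) u v = 2 * (u (Sum.inl ()) * v (Sum.inl ())) +
      ∑ i : Fin m, (u (Sum.inr (Sum.inl i)) * v (Sum.inr (Sum.inr i)) +
        v (Sum.inr (Sum.inl i)) * u (Sum.inr (Sum.inr i))) := by
  simp only [polar, oddForm_apply, Cfsg.quadFormOdd, Pi.add_apply]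
  have h2 : ∑ i : Fin m, (u (Sum.inr (Sum.inl i)) * v (Sum.inr (Sum.inr i)) +
        v (Sum.inr (Sum.inl i)) * u (Sum.inr (Sum.inr i))) =
      ∑ i : Fin m, (u (Sum.inr (Sum.inl i)) + v (Sum.inr (Sum.inl i))) *
        (u (Sum.inr (Sum.inr i)) + v (Sum.inr (Sum.inr i))) -
      ∑ i : Fin m, u (Sum.inr (Sum.inl i)) * u (Sum.inr (Sum.inr i)) -
      ∑ i : Fin m, v (Sum.inr (Sum.inl i)) * v (Sum.inr (Sum.inr i)) := by
    rw [← Finset.sum_sub_distrib, ← Finset.sum_sub_distrib]
    apply Finset.sum_congr rfl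
    intro i _
    ring
  rw [h2]
  ring

theorem oddForm_nondegenerate (h2 : (2 : F) ≠ 0) (m : ℕ) :
    (polarBilin (oddForm m F)).Nondegenerate := by
  have key : ∀ u : Unit ⊕ (Fin m ⊕ Fin m) → F, (∀ v, polar (oddForm m F) u v = 0) → u = 0 := by
    intro u hu
    ext k
    rcases k with ⟨⟩ | j | j
    · have := hu (Pi.single (Sum.inl ()) 1)
      rw [polar_oddForm] at this
      simpa [h2] using this
    · have := hu (Pi.single (Sum.inr (Sum.inr j)) 1)
      rw [polar_oddForm] at this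
      simpa [Pi.single_apply] using this
    · have := hu (Pi.single (Sum.inr (Sum.inl j)) 1)
      rw [polar_oddForm] at this
      simpa [Pi.single_apply] using this
  constructor
  · intro u hu
    exact key u (fun v => by simpa using hu v)
  · intro u hu
    apply key u
    intro v
    rw [polar_comm]
    simpa using hu v

/-- the first `i` hyperbolic pairs of the odd-dimensional form -/
theorem oddForm_hypFamily {m i : ℕ} (him : i ≤ m) :
    IsHypFamily (oddForm m F)
      (fun t : Fin i => (Sum.inr (Sum.inl (Fin.castLE him t)) : Unit ⊕ (Fin m ⊕ Fin m)))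
      (fun t : Fin i => (Sum.inr (Sum.inr (Fin.castLE him t)) : Unit ⊕ (Fin m ⊕ Fin m))) where
  inj_α := fun _ _ hst => Fin.castLE_injective him (Sum.inl_injective (Sum.inr_injective hst))
  inj_β := fun _ _ hst => Fin.castLE_injective him (Sum.inr_injective (Sum.inr_injective hst))
  disj := fun _ _ hst => Sum.inl_ne_inr (Sum.inr_injective hst)
  polar_α := fun t v => by
    rw [polar_oddForm]
    simp [Pi.single_apply]
  polar_β := fun t v => by
    rw [polar_oddForm]
    simp [Pi.single_apply]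
  sing_α := fun t => by
    rw [oddForm_apply]
    simp [Cfsg.quadFormOdd]
  sing_β := fun t => by
    rw [oddForm_apply]
    simp [Cfsg.quadFormOdd]

end odd

end Cfsg.Agent.Lib.Helper5.SpinorHyp2
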