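import Mathlib
import Cfsg.Prelude
import Cfsg.Agent.Lib.Helper5.Refl
import Cfsg.Agent.Lib.Helper5.CartanDieudonne
import Cfsg.Agent.Lib.Helper5.QuadIsom
import Cfsg.Agent.Lib.Helper5.OrthCard

set_option autoImplicit false
open Cfsg

namespace Cfsg.Agent.Lib.Helper5.Siegel

open Matrix QuadraticMap Cfsg.Agent.Lib.Helper5.CartanDieudonne Cfsg.Agent.Lib.Helper5.Refl
  Cfsg.Agent.Lib.Helper5.OrthCard

variable {ι : Type} [Fintype ι] [DecidableEq ι] {F : Type*} [Field F]

theorem siegelMatrix_zero (Q : QuadraticForm F (ι → F)) (u v : ι → F) :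
    siegelMatrix (⇑Q) u v 0 = 1 := by
  unfold siegelMatrix
  rw [zero_smul, add_zero]

/-- The Siegel transformation as an element of the isometry group. -/
noncomputable def siegel (Q : QuadraticForm F (ι → F)) (u v : ι → F) (hu : Q u = 0) (hv : Q v = 0)
    (huv : polar (⇑Q) u v = 0) (c : F) : isometryGroup F (⇑Q) :=
  ⟨⟨siegelMatrix (⇑Q) u v c, siegelMatrix (⇑Q) u v (-c),
    by rw [siegel_mul Q u v hu hv huv, add_neg_cancel, siegelMatrix_zero],
    by rw [siegel_mul Q u v hu hv huv, neg_add_cancel, siegelMatrix_zero]⟩,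
    fun x _ => siegel_preserves Q u v hu hv huv c x⟩

theorem siegel_coe (Q : QuadraticForm F (ι → F)) (u v : ι → F) (hu : Q u = 0) (hv : Q v = 0)
    (huv : polar (⇑Q) u v = 0) (c : F) :
    ((siegel Q u v hu hv huv c : Matrix.GeneralLinearGroup ι F) : Matrix ι ι F) =
      siegelMatrix (⇑Q) u v c := rfl

theorem siegel_mul_siegel (Q : QuadraticForm F (ι → F)) (u v : ι → F) (hu : Q u = 0) (hv : Q v = 0)
    (huv : polar (⇑Q) u v = 0) (c d : F) :
    siegel Q u v hu hv huv c * siegel Q u v hu hv huv d = siegel Q u v hu hv huv (c + d) := by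
  apply Subtype.ext
  apply Units.ext
  exact siegel_mul Q u v hu hv huv c d

theorem siegel_inv (Q : QuadraticForm F (ι → F)) (u v : ι → F) (hu : Q u = 0) (hv : Q v = 0)
    (huv : polar (⇑Q) u v = 0) (c : F) :
    (siegel Q u v hu hv huv c)⁻¹ = siegel Q u v hu hv huv (-c) := by
  rw [inv_eq_iff_mul_eq_one, siegel_mul_siegel, add_neg_cancel]
  apply Subtype.ext
  apply Units.ext
  exact siegelMatrix_zero Q u v

theorem act_inv_act (Q : QuadraticForm F (ι → F)) (a : ↥(isometryGroup F ⇑Q)) (x : ι → F) :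
    act Q a (act Q a⁻¹ x) = x := by
  rw [← act_mul, mul_inv_cancel]
  exact one_mulVec x

theorem act_add (Q : QuadraticForm F (ι → F)) (a : ↥(isometryGroup F ⇑Q)) (x y : ι → F) :
    act Q a (x + y) = act Q a x + act Q a y := mulVec_add _ _ _

theorem act_sub (Q : QuadraticForm F (ι → F)) (a : ↥(isometryGroup F ⇑Q)) (x y : ι → F) :
    act Q a (x - y) = act Q a x - act Q a y := mulVec_sub _ _ _

theorem act_smul (Q : QuadraticForm F (ι → F)) (a : ↥(isometryGroup F ⇑Q)) (c : F) (x : ι → F) :
    act Q a (c • x) = c • act Q a x := mulVec_smul _ _ _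

theorem act_neg (Q : QuadraticForm F (ι → F)) (a : ↥(isometryGroup F ⇑Q)) (x : ι → F) :
    act Q a (-x) = - act Q a x := mulVec_neg _ _

theorem act_siegel (Q : QuadraticForm F (ι → F)) (u v : ι → F) (hu : Q u = 0) (hv : Q v = 0)
    (huv : polar (⇑Q) u v = 0) (c : F) (x : ι → F) :
    act Q (siegel Q u v hu hv huv c) x =
      x + (c * polar (⇑Q) u x) • v - (c * polar (⇑Q) v x) • u :=
  siegelMatrix_mulVec Q u v c x

/-- Conjugating a Siegel transformation by an isometry. -/
theorem conj_siegel (Q : QuadraticForm F (ι → F)) (a : ↥(isometryGroup F ⇑Q)) (u v : ι → F)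
    (hu : Q u = 0) (hv : Q v = 0) (huv : polar (⇑Q) u v = 0) (c : F) :
    a * siegel Q u v hu hv huv c * a⁻¹ =
      siegel Q (act Q a u) (act Q a v) (by rw [quad_act, hu]) (by rw [quad_act, hv])
        (by rw [polar_act, huv]) c := by
  apply Subtype.ext
  apply Units.ext
  rw [siegel_coe]
  rw [ext_iff_mulVec]
  intro x
  have h1 : ((((a * siegel Q u v hu hv huv c * a⁻¹ : ↥(isometryGroup F ⇑Q)) :
      Matrix.GeneralLinearGroup ι F) : Matrix ι ι F)) *ᵥ x =
      act Q (a * siegel Q u v hu hv huv c * a⁻¹) x := rfl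
  rw [h1, act_mul, act_mul, act_siegel, siegelMatrix_mulVec, act_sub, act_add, act_smul, act_smul,
    act_inv_act]
  have h2 : ∀ w, polar (⇑Q) w (act Q a⁻¹ x) = polar (⇑Q) (act Q a w) x := by
    intro w
    rw [← polar_act Q a w (act Q a⁻¹ x), act_inv_act]
  rw [h2, h2]

theorem siegelMatrix_neg_right (Q : QuadraticForm F (ι → F)) (u v : ι → F) (c : F) :
    siegelMatrix (⇑Q) u (-v) c = siegelMatrix (⇑Q) u v (-c) := by
  rw [ext_iff_mulVec]
  intro x
  rw [siegelMatrix_mulVec, siegelMatrix_mulVec, polar_neg_left, smul_neg, mul_neg, neg_smul,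
    neg_mul, neg_mul, neg_smul, neg_smul]

theorem siegelMatrix_eq_one_of_smul (Q : QuadraticForm F (ι → F)) (u : ι → F) (l c : F) :
    siegelMatrix (⇑Q) u (l • u) c = 1 := by
  rw [ext_iff_mulVec]
  intro x
  rw [siegelMatrix_mulVec, polar_smul_left, one_mulVec, smul_smul, smul_eq_mul]
  rw [add_sub_assoc, mul_assoc, mul_comm (polar (⇑Q) u x) l, sub_self, add_zero]

theorem siegelMatrix_eq_one_of_left_zero (Q : QuadraticForm F (ι → F)) (v : ι → F) (c : F) :
    siegelMatrix (⇑Q) 0 v c = 1 := by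
  rw [ext_iff_mulVec]
  intro x
  rw [siegelMatrix_mulVec, one_mulVec]
  simp [polar]

/-- If `u, v` are not linearly independent then the Siegel matrix is the identity. -/
theorem siegelMatrix_eq_one_of_not_li (Q : QuadraticForm F (ι → F)) (u v : ι → F) (c : F)
    (h : ¬ LinearIndependent F ![u, v]) : siegelMatrix (⇑Q) u v c = 1 := by
  by_cases hu0 : u = 0
  · rw [hu0]; exact siegelMatrix_eq_one_of_left_zero Q v c
  rw [LinearIndependent.pair_iff' hu0] at h
  push Not at h
  obtain ⟨l, hl⟩ := h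
  rw [← hl]
  exact siegelMatrix_eq_one_of_smul Q u l c

/-- Every Siegel transformation is a commutator of two isometries (odd characteristic). -/
theorem siegel_mem_commutatorSet [FiniteDimensional F (ι → F)] (h2 : (2 : F) ≠ 0)
    (Q : QuadraticForm F (ι → F))
    (hQ : (polarBilin Q).Nondegenerate) (u v : ι → F) (hu : Q u = 0) (hv : Q v = 0)
    (huv : polar (⇑Q) u v = 0) (c : F) (g : ↥(isometryGroup F ⇑Q))
    (hg : ((g : Matrix.GeneralLinearGroup ι F) : Matrix ι ι F) = siegelMatrix (⇑Q) u v c) :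
    g ∈ commutatorSet ↥(isometryGroup F ⇑Q) := by
  by_cases hli : LinearIndependent F ![u, v]
  · have hli' : LinearIndependent F ![u, -v] := by
      rw [LinearIndependent.pair_iff] at hli ⊢
      intro s t hst
      have := hli s (-t) (by rw [neg_smul, ← smul_neg]; exact hst)
      exact ⟨this.1, neg_eq_zero.mp this.2⟩
    obtain ⟨φ, hφ, hφx⟩ := QuadIsom.witt_family Q hQ 2 ![u, v] ![u, -v] hli hli'
      (by
        intro i
        fin_cases i
        · simp
        · simp [hv])
      (by
        intro i j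
        fin_cases i <;> fin_cases j
        · simp
        · simp [huv]
        · simp only [Fin.mk_one, Fin.isValue, Matrix.cons_val_one, Matrix.cons_val_zero,
            Fin.zero_eta]
          rw [polar_comm, huv, polar_neg_left, polar_comm, huv, neg_zero]
        · simp [polar_self, hv])
    obtain ⟨a, ha⟩ := exists_isom_of_linearEquiv Q φ hφ
    have hau : act Q a u = u := by rw [ha]; exact hφx 0
    have hav : act Q a v = -v := by rw [ha]; exact hφx 1
    refine ⟨a, siegel Q u v hu hv huv (-c / 2), ?_⟩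
    rw [commutatorElement_def, conj_siegel, siegel_inv]
    apply Subtype.ext
    apply Units.ext
    rw [hg]
    have h3 : (((siegel Q (act Q a u) (act Q a v) (by rw [quad_act, hu]) (by rw [quad_act, hv])
        (by rw [polar_act, huv]) (-c / 2) * siegel Q u v hu hv huv (-(-c / 2)) :
        ↥(isometryGroup F ⇑Q)) : Matrix.GeneralLinearGroup ι F) : Matrix ι ι F) =
        siegelMatrix (⇑Q) (act Q a u) (act Q a v) (-c / 2) *
          siegelMatrix (⇑Q) u v (-(-c / 2)) := rfl
    rw [h3, hau, hav, siegelMatrix_neg_right, siegel_mul Q u v hu hv huv]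
    congr 1
    field_simp
    ring
  · refine ⟨1, 1, ?_⟩
    rw [commutatorElement_def]
    apply Subtype.ext
    apply Units.ext
    rw [hg, siegelMatrix_eq_one_of_not_li Q u v c hli]
    simp

end Cfsg.Agent.Lib.Helper5.Siegel
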