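import Mathlib
import Cfsg.Prelude
import Cfsg.Agent.Lib.Helper5.Siegel
import Cfsg.Agent.Lib.Helper5.SpinorHyp

set_option autoImplicit false
set_option linter.unusedSimpArgs false
open Cfsg

namespace Cfsg.Agent.Lib.Helper5.OmegaCenter

open Matrix QuadraticMap Cfsg.Agent.Lib.Helper5.CartanDieudonne Cfsg.Agent.Lib.Helper5.Refl
  Cfsg.Agent.Lib.Helper5.Siegel Cfsg.Agent.Lib.Helper5.SpinorHyp

variable {ι : Type} [Fintype ι] [DecidableEq ι] {F : Type*} [Field F]
  {Q : QuadraticForm F (ι → F)}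

/-- If `z` commutes with the Siegel element of `(u, v)` then `z u` lies in the span of `u, v`. -/
theorem act_eq_of_commute (z : ↥(isometryGroup F ⇑Q)) (u v x : ι → F) (hu : Q u = 0) (hv : Q v = 0)
    (huv : polar (⇑Q) u v = 0) (hz : z * siegel Q u v hu hv huv 1 = siegel Q u v hu hv huv 1 * z)
    (hux : polar (⇑Q) u x = 0) (hvx : polar (⇑Q) v x = 1) :
    act Q z u = polar (⇑Q) v (act Q z x) • u - polar (⇑Q) u (act Q z x) • v := by
  have h1 := congrArg (fun g => act Q g x) hz
  simp only [act_mul, act_siegel] at h1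
  rw [hux, hvx, mul_zero, zero_smul, add_zero, one_mul, one_mul, one_mul, one_smul, act_sub] at h1
  have h2 : act Q z u = act Q z x - (act Q z x + polar (⇑Q) u (act Q z x) • v -
      polar (⇑Q) v (act Q z x) • u) := by
    rw [← h1]; abel
  rw [h2]; abel

variable {i : ℕ} {α β : Fin i → ι}

omit [Fintype ι] in
theorem IsHypFamily.swap (h : IsHypFamily Q α β) : IsHypFamily Q β α where
  inj_α := h.inj_β
  inj_β := h.inj_α
  disj := fun s t hc => h.disj t s hc.symm
  polar_α := h.polar_β
  polar_β := h.polar_α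
  sing_α := h.sing_β
  sing_β := h.sing_α

/-- Step 1: `z e_t` is a multiple of `e_t`. -/
theorem act_single_α (h : IsHypFamily Q α β)
    (z : ↥(isometryGroup F ⇑Q))
    (hz : ∀ u v hu hv huv, z * siegel Q u v hu hv huv 1 = siegel Q u v hu hv huv 1 * z)
    (t t' : Fin i) (htt : t ≠ t') :
    ∃ a : F, act Q z (Pi.single (α t) 1) = a • Pi.single (α t) 1 := by
  have hβ : β t' ≠ β t := h.inj_β.ne htt.symm
  have hα : α t' ≠ α t := h.inj_α.ne htt.symm
  have hαβ : ∀ s t, β t ≠ α s := fun s t hc => h.disj s t hc.symm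
  have e1 := act_eq_of_commute z (Pi.single (α t) 1) (Pi.single (α t') 1) (Pi.single (β t') 1)
    (h.sing_α t) (h.sing_α t') (by rw [h.polar_α]; simp [h.disj]) (hz _ _ _ _ _)
    (by rw [h.polar_α]; simp [hβ]) (by rw [h.polar_α]; simp)
  have e2 := act_eq_of_commute z (Pi.single (α t) 1) (Pi.single (β t') 1) (Pi.single (α t') 1)
    (h.sing_α t) (h.sing_β t') (by rw [h.polar_α]; simp [hβ]) (hz _ _ _ _ _)
    (by rw [h.polar_α]; simp [h.disj]) (by rw [h.polar_β]; simp)
  have h3 := congrFun e1 (α t')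
  rw [e2] at h3
  simp only [Pi.sub_apply, Pi.smul_apply, smul_eq_mul, Pi.single_apply, if_neg hα, if_true,
    mul_zero, mul_one, sub_zero, zero_sub, h.disj, if_false] at h3
  refine ⟨polar (⇑Q) (Pi.single (α t') 1) (act Q z (Pi.single (β t') 1)), ?_⟩
  rw [e1]
  have h4 : polar (⇑Q) (Pi.single (α t) 1) (act Q z (Pi.single (β t') 1)) = 0 := by
    rw [eq_comm, neg_eq_zero] at h3
    exact h3
  rw [h4, zero_smul, sub_zero]

omit [Fintype ι] in
theorem quad_pair_αα (h : IsHypFamily Q α β) (t t' : Fin i) :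
    Q (Pi.single (α t) 1 + Pi.single (α t') 1) = 0 := by
  rw [quad_add', h.sing_α, h.sing_α, h.polar_α]
  simp [h.disj]

omit [Fintype ι] in
theorem quad_pair_ββ (h : IsHypFamily Q α β) (t t' : Fin i) :
    Q (Pi.single (β t) 1 - Pi.single (β t') 1) = 0 := by
  have hαβ : ∀ s t, β t ≠ α s := fun s t hc => h.disj s t hc.symm
  rw [quad_sub', h.sing_β, h.sing_β, h.polar_β]
  simp [hαβ]

omit [Fintype ι] in
theorem quad_pair_αβ (h : IsHypFamily Q α β) (t t' : Fin i) (htt : t ≠ t') :
    Q (Pi.single (α t) 1 + Pi.single (β t') 1) = 0 := by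
  rw [quad_add', h.sing_α, h.sing_β, h.polar_α]
  simp [h.inj_β.ne htt]

omit [Fintype ι] in
theorem quad_pair_βα (h : IsHypFamily Q α β) (t t' : Fin i) (htt : t ≠ t') :
    Q (Pi.single (β t) 1 - Pi.single (α t') 1) = 0 := by
  rw [quad_sub', h.sing_β, h.sing_α, h.polar_β]
  simp [h.inj_α.ne htt]

/-- Step 2: relations between the eigenvalues. -/
theorem coeff_relations (h : IsHypFamily Q α β)
    (z : ↥(isometryGroup F ⇑Q))
    (hz : ∀ u v hu hv huv, z * siegel Q u v hu hv huv 1 = siegel Q u v hu hv huv 1 * z)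
    (a b : Fin i → F)
    (ha : ∀ t, act Q z (Pi.single (α t) 1) = a t • Pi.single (α t) 1)
    (hb : ∀ t, act Q z (Pi.single (β t) 1) = b t • Pi.single (β t) 1)
    (t t' : Fin i) (htt : t ≠ t') : a t = a t' ∧ a t = b t' := by
  have hβ : β t' ≠ β t := h.inj_β.ne htt.symm
  have hα : α t' ≠ α t := h.inj_α.ne htt.symm
  have hαβ : ∀ s t, β t ≠ α s := fun s t hc => h.disj s t hc.symm
  constructor
  · have e1 := act_eq_of_commute z (Pi.single (α t) 1 + Pi.single (α t') 1)
      (Pi.single (β t) 1 - Pi.single (β t') 1) (Pi.single (α t) 1)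
      (quad_pair_αα h t t') (quad_pair_ββ h t t')
      (by rw [polar_add_left, h.polar_α, h.polar_α]; simp [hβ, hβ.symm]) (hz _ _ _ _ _)
      (by rw [polar_add_left, h.polar_α, h.polar_α]; simp [hαβ])
      (by rw [polar_sub_left, h.polar_β, h.polar_β]; simp [hα, hα.symm])
    rw [act_add, ha, ha] at e1
    have c2 := congrFun e1 (α t)
    have c3 := congrFun e1 (α t')
    simp only [Pi.add_apply, Pi.sub_apply, Pi.smul_apply, smul_eq_mul, Pi.single_apply,
      if_neg hα, if_neg hα.symm, if_neg hβ, if_neg hβ.symm, if_true, hαβ, h.disj,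
      if_false, mul_zero, mul_one, add_zero, zero_add, sub_zero, zero_sub] at c2 c3
    exact c2.trans c3.symm
  · have e1 := act_eq_of_commute z (Pi.single (α t) 1 + Pi.single (β t') 1)
      (Pi.single (β t) 1 - Pi.single (α t') 1) (Pi.single (α t) 1)
      (quad_pair_αβ h t t' htt) (quad_pair_βα h t t' htt)
      (by rw [polar_add_left, h.polar_α, h.polar_β]; simp [hα, hα.symm, hαβ])
      (hz _ _ _ _ _)
      (by rw [polar_add_left, h.polar_α, h.polar_β]; simp [hαβ, hα, hα.symm])
      (by rw [polar_sub_left, h.polar_β, h.polar_α]; simp [hαβ])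
    rw [act_add, ha, hb] at e1
    have c2 := congrFun e1 (α t)
    have c3 := congrFun e1 (β t')
    simp only [Pi.add_apply, Pi.sub_apply, Pi.smul_apply, smul_eq_mul, Pi.single_apply,
      if_neg hα, if_neg hα.symm, if_neg hβ, if_neg hβ.symm, if_true, hαβ, h.disj,
      if_false, mul_zero, mul_one, add_zero, zero_add, sub_zero, zero_sub] at c2 c3
    exact c2.trans c3.symm

/-- Step 3: the coordinates outside the hyperbolic family. -/
theorem act_single_rest (h : IsHypFamily Q α β)
    (z : ↥(isometryGroup F ⇑Q))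
    (hz : ∀ u v hu hv huv, z * siegel Q u v hu hv huv 1 = siegel Q u v hu hv huv 1 * z)
    (a b : Fin i → F)
    (ha : ∀ t, act Q z (Pi.single (α t) 1) = a t • Pi.single (α t) 1)
    (hb : ∀ t, act Q z (Pi.single (β t) 1) = b t • Pi.single (β t) 1)
    (hab : ∀ t, a t * b t = 1)
    (t t' : Fin i) (htt : t ≠ t') (hbt : b t = a t) (ρ : ι) (hρα : ∀ s, ρ ≠ α s)
    (hρβ : ∀ s, ρ ≠ β s) :
    act Q z (Pi.single ρ 1) = a t • Pi.single ρ 1 := by
  have hβ : β t' ≠ β t := h.inj_β.ne htt.symm
  have hα : α t' ≠ α t := h.inj_α.ne htt.symm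
  have hαβ : ∀ s t, β t ≠ α s := fun s t hc => h.disj s t hc.symm
  have hρα' : ∀ s, α s ≠ ρ := fun s hc => hρα s hc.symm
  have hρβ' : ∀ s, β s ≠ ρ := fun s hc => hρβ s hc.symm
  set d : ι → F := Pi.single ρ 1 with hd
  set μ : F := Q d with hμ
  set w : ι → F := act Q z d with hw
  -- `w` has no component in the hyperbolic part
  have hwα : ∀ s, w (α s) = 0 := by
    intro s
    have h1 := polar_act Q z (Pi.single (β s) 1) d
    rw [hb, polar_smul_left, h.polar_β, h.polar_β, smul_eq_mul] at h1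
    have hbs : b s ≠ 0 := right_ne_zero_of_mul_eq_one (hab s)
    have : d (α s) = 0 := by simp [hd, hρα']
    rw [this] at h1
    exact (mul_eq_zero.mp h1).resolve_left hbs
  have hwβ : ∀ s, w (β s) = 0 := by
    intro s
    have h1 := polar_act Q z (Pi.single (α s) 1) d
    rw [ha, polar_smul_left, h.polar_α, h.polar_α, smul_eq_mul] at h1
    have has : a s ≠ 0 := left_ne_zero_of_mul_eq_one (hab s)
    have : d (β s) = 0 := by simp [hd, hρβ']
    rw [this] at h1
    exact (mul_eq_zero.mp h1).resolve_left has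
  have hs : Q (Pi.single (α t) 1 + d - μ • Pi.single (β t) 1) = 0 := by
    rw [quad_sub', quad_add', h.sing_α, QuadraticMap.map_smul, h.sing_β, polar_add_left, polar_smul_right,
      polar_smul_right, h.polar_α, h.polar_α, polar_comm (⇑Q) d, h.polar_β, ← hμ]
    simp [hd, hρα', hρβ']
  have e1 := act_eq_of_commute z (Pi.single (α t) 1 + d - μ • Pi.single (β t) 1)
    (Pi.single (α t') 1) (Pi.single (β t') 1) hs (h.sing_α t')
    (by rw [polar_comm, h.polar_α]; simp [hd, hρβ', hβ, hβ.symm, hαβ, h.disj])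
    (hz _ _ _ _ _)
    (by rw [polar_comm, h.polar_β]; simp [hd, hρα', hα, hα.symm, hαβ, h.disj])
    (by rw [h.polar_α]; simp)
  rw [act_sub, act_add, act_smul, ha, hb, ← hw] at e1
  have c1 := congrFun e1 (α t)
  have c2 := congrFun e1 (α t')
  simp only [Pi.add_apply, Pi.sub_apply, Pi.smul_apply, smul_eq_mul, Pi.single_apply,
    if_neg hα, if_neg hα.symm, if_neg hβ, if_neg hβ.symm, if_true, hαβ, h.disj, hwα, hd,
    hρα, hρα', hρβ, hρβ', if_false, mul_zero, mul_one, add_zero, zero_add, sub_zero,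
    zero_sub] at c1 c2
  rw [eq_comm, neg_eq_zero] at c2
  rw [c2, zero_smul, sub_zero, ← c1, hbt] at e1
  have e2 : w = a t • (Pi.single (α t) 1 + d - μ • Pi.single (β t) 1) -
      a t • Pi.single (α t) 1 + μ • a t • Pi.single (β t) 1 := by
    rw [← e1]; abel
  rw [e2, smul_sub, smul_add, smul_comm μ (a t)]
  abel

/-- An isometry commuting with all Siegel elements is a scalar `a` with `a * a = 1`
(at least two hyperbolic pairs). -/
theorem scalar_of_commute_siegel (h : IsHypFamily Q α β) (hi : 2 ≤ i)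
    (z : ↥(isometryGroup F ⇑Q))
    (hz : ∀ u v hu hv huv, z * siegel Q u v hu hv huv 1 = siegel Q u v hu hv huv 1 * z) :
    ∃ a : F, a * a = 1 ∧ ((z : Matrix.GeneralLinearGroup ι F) : Matrix ι ι F) = a • 1 := by
  have hαβ : ∀ s t, β t ≠ α s := fun s t hc => h.disj s t hc.symm
  let t0 : Fin i := ⟨0, by omega⟩
  let t1 : Fin i := ⟨1, by omega⟩
  have h01 : t0 ≠ t1 := by
    intro hc
    have := congrArg Fin.val hc
    simp [t0, t1] at this
  have hother : ∀ t : Fin i, ∃ t' : Fin i, t ≠ t' := by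
    intro t
    by_cases ht : t = t0
    · exact ⟨t1, ht ▸ h01⟩
    · exact ⟨t0, ht⟩
  have hA : ∀ t, ∃ a : F, act Q z (Pi.single (α t) 1) = a • Pi.single (α t) 1 := by
    intro t
    obtain ⟨t', ht'⟩ := hother t
    exact act_single_α h z hz t t' ht'
  have hB : ∀ t, ∃ b : F, act Q z (Pi.single (β t) 1) = b • Pi.single (β t) 1 := by
    intro t
    obtain ⟨t', ht'⟩ := hother t
    exact act_single_α (IsHypFamily.swap h) z hz t t' ht'
  choose a ha using hA
  choose b hb using hB
  have hab : ∀ t, a t * b t = 1 := by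
    intro t
    have h1 := polar_act Q z (Pi.single (α t) 1) (Pi.single (β t) 1)
    rw [ha, hb, polar_smul_left, polar_smul_right, h.polar_α, smul_eq_mul, smul_eq_mul] at h1
    simpa using h1
  have hrel := coeff_relations h z hz a b ha hb
  have ha_all : ∀ t, a t = a t0 := by
    intro t
    by_cases ht : t = t0
    · rw [ht]
    · exact (hrel t t0 ht).1
  have hb_all : ∀ t, b t = a t0 := by
    intro t
    by_cases ht : t = t0
    · rw [ht, ← (hrel t1 t0 h01.symm).2, ha_all t1]
    · exact ((hrel t0 t (Ne.symm ht)).2).symm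
  refine ⟨a t0, ?_, ?_⟩
  · have := hab t0
    rwa [hb_all t0] at this
  · have hcol : ∀ k : ι, act Q z (Pi.single k 1) = a t0 • Pi.single k 1 := by
      intro k
      by_cases hkα : ∃ s, k = α s
      · obtain ⟨s, rfl⟩ := hkα
        rw [ha, ha_all]
      · by_cases hkβ : ∃ s, k = β s
        · obtain ⟨s, rfl⟩ := hkβ
          rw [hb, hb_all]
        · push Not at hkα hkβ
          exact act_single_rest h z hz a b ha hb hab t0 t1 h01 (hb_all t0) k hkα hkβ
    ext r k
    have := congrFun (hcol k) r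
    unfold act at this
    rw [Matrix.mulVec_single_one] at this
    simp only [Matrix.col_apply, Pi.smul_apply, smul_eq_mul] at this
    rw [this, Matrix.smul_apply, Matrix.one_apply, Pi.single_apply, smul_eq_mul]

/-- elements of `Ω` have determinant one -/
theorem det_eq_one_of_mem_commutator (g : ↥(isometryGroup F ⇑Q))
    (hg : g ∈ commutator ↥(isometryGroup F ⇑Q)) :
    ((g : Matrix.GeneralLinearGroup ι F) : Matrix ι ι F).det = 1 := by
  have h1 := Abelianization.commutator_subset_ker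
    (Matrix.GeneralLinearGroup.det.comp (isometryGroup F ⇑Q).subtype) hg
  rw [MonoidHom.mem_ker] at h1
  have h2 := congrArg (fun u : Fˣ => (u : F)) h1
  simpa using h2

/-- Central elements of `Ω` are scalars `±1` (odd characteristic, two hyperbolic pairs). -/
theorem center_Omega_scalar (h2 : (2 : F) ≠ 0) (hQ : (polarBilin Q).Nondegenerate)
    (h : IsHypFamily Q α β) (hi : 2 ≤ i) (z : ↥(Omega F ⇑Q))
    (hz : z ∈ Subgroup.center ↥(Omega F ⇑Q)) :
    ∃ a : F, a * a = 1 ∧
      (((z : ↥(isometryGroup F ⇑Q)) : Matrix.GeneralLinearGroup ι F) : Matrix ι ι F) = a • 1 := by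
  apply scalar_of_commute_siegel h hi
  intro u v hu hv huv
  have hS : siegel Q u v hu hv huv 1 ∈ Omega F ⇑Q := by
    show _ ∈ commutator _
    rw [commutator_eq_closure]
    exact Subgroup.subset_closure
      (siegel_mem_commutatorSet h2 Q hQ u v hu hv huv 1 _ rfl)
  have := Subgroup.mem_center_iff.mp hz ⟨_, hS⟩
  have h3 := congrArg Subtype.val this
  exact h3.symm

end Cfsg.Agent.Lib.Helper5.OmegaCenter
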