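import Mathlib

set_option autoImplicit false

namespace Cfsg.Agent.Lib.Helper5.AltForm

open Module

section
variable {F : Type*} [Field F] {V : Type*} [AddCommGroup V] [Module F V]

/-- A family of hyperbolic pairs together with an independent family in the radical is linearly
independent. -/
theorem linearIndependent_hyp (B : LinearMap.BilinForm F V) (hA : B.IsAlt) {m : ℕ} (e f : Fin m → V)
    (h1 : ∀ i j, B (e i) (f j) = if i = j then 1 else 0) (h2 : ∀ i j, B (e i) (e j) = 0)
    (h3 : ∀ i j, B (f i) (f j) = 0) {κ : Type*} [Fintype κ] (r : κ → V)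
    (hr : LinearIndependent F r) (hrad : ∀ j v, B (r j) v = 0) :
    LinearIndependent F (Sum.elim (Sum.elim e f) r) := by
  classical
  rw [Fintype.linearIndependent_iff]
  intro c hc
  rw [Fintype.sum_sum_type, Fintype.sum_sum_type] at hc
  simp only [Sum.elim_inl, Sum.elim_inr] at hc
  have hpair : ∀ z : V, (∑ i, c (Sum.inl (Sum.inl i)) * B (e i) z +
      ∑ i, c (Sum.inl (Sum.inr i)) * B (f i) z) = 0 := by
    intro z
    have := congrArg (fun x => B x z) hc
    simp only [map_add, map_sum, map_smul, LinearMap.add_apply, LinearMap.sum_apply,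
      LinearMap.smul_apply, smul_eq_mul, hrad, mul_zero, Finset.sum_const_zero, add_zero,
      map_zero, LinearMap.zero_apply] at this
    exact this
  have hfe : ∀ i j, B (f i) (e j) = if i = j then -1 else 0 := by
    intro i j
    rw [← hA.neg_eq, h1]
    by_cases h : i = j
    · subst h; simp
    · have : ¬ j = i := fun h' => h h'.symm
      simp [h, this]
  have he0 : ∀ j, c (Sum.inl (Sum.inl j)) = 0 := by
    intro j
    have := hpair (f j)
    simp only [h1, h3, mul_zero, Finset.sum_const_zero, add_zero, mul_ite, mul_one,
      Finset.sum_ite_eq', Finset.mem_univ, if_true] at this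
    exact this
  have hf0 : ∀ j, c (Sum.inl (Sum.inr j)) = 0 := by
    intro j
    have := hpair (e j)
    simp only [h2, hfe, mul_zero, Finset.sum_const_zero, zero_add, mul_ite, mul_neg, mul_one,
      Finset.sum_ite_eq', Finset.mem_univ, if_true, neg_eq_zero] at this
    exact this
  have hr0 : ∑ l, c (Sum.inr l) • r l = 0 := by
    simpa [he0, hf0] using hc
  have := Fintype.linearIndependent_iff.mp hr (fun l => c (Sum.inr l)) hr0
  rintro ((i | i) | l)
  · exact he0 i
  · exact hf0 i
  · exact this l

end

universe u

/-- Existence of a maximal hyperbolic family for an alternating form: the number of pairs `m`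
satisfies `2 * m + dim (radical) = dim V`. -/
theorem exists_hyp_family {F : Type*} [Field F] (n : ℕ) :
    ∀ {V : Type u} [AddCommGroup V] [Module F V] [FiniteDimensional F V]
      (B : LinearMap.BilinForm F V) (_ : B.IsAlt) (_ : finrank F V = n),
    ∃ (m : ℕ) (e f : Fin m → V),
      (∀ i j, B (e i) (f j) = if i = j then 1 else 0) ∧ (∀ i j, B (e i) (e j) = 0) ∧
      (∀ i j, B (f i) (f j) = 0) ∧ 2 * m + finrank F (LinearMap.ker B) = n := by
  induction n using Nat.strong_induction_on with
  | _ n ih =>
    intro V _ _ _ B hA hn
    by_cases hB0 : B = 0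
    · refine ⟨0, Fin.elim0, Fin.elim0, fun i => i.elim0, fun i => i.elim0, fun i => i.elim0, ?_⟩
      rw [hB0, LinearMap.ker_zero, finrank_top, hn]
      omega
    · obtain ⟨u, v₀, huv₀⟩ : ∃ u v, B u v ≠ 0 := by
        by_contra hcon
        push Not at hcon
        apply hB0
        apply LinearMap.ext
        intro x
        apply LinearMap.ext
        intro y
        exact hcon x y
      set v : V := (B u v₀)⁻¹ • v₀ with hv
      have huv : B u v = 1 := by
        rw [hv, map_smul, smul_eq_mul, inv_mul_cancel₀ huv₀]
      have hvu : B v u = -1 := by rw [← hA.neg_eq, huv]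
      have huu : B u u = 0 := hA.self_eq_zero u
      have hvv : B v v = 0 := hA.self_eq_zero v
      set Φ : V →ₗ[F] F × F := (B.flip u).prod (B.flip v) with hΦ
      have hΦa : ∀ x, Φ x = (B x u, B x v) := fun x => rfl
      obtain ⟨W, hW⟩ : ∃ W : Submodule F V, W = LinearMap.ker Φ := ⟨_, rfl⟩
      have hmemW : ∀ x, x ∈ W ↔ B x u = 0 ∧ B x v = 0 := by
        intro x
        rw [hW, LinearMap.mem_ker, hΦa, Prod.mk_eq_zero]
      have hsurj : LinearMap.range Φ = ⊤ := by
        rw [eq_top_iff]
        rintro ⟨a, b⟩ _
        refine ⟨b • u - a • v, ?_⟩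
        rw [hΦa]
        simp only [map_sub, map_smul, LinearMap.sub_apply, LinearMap.smul_apply, huu, huv, hvu, hvv,
          smul_eq_mul]
        ext <;> simp
      have hdimW : finrank F W + 2 = n := by
        have := LinearMap.finrank_range_add_finrank_ker Φ
        rw [hsurj, finrank_top, Module.finrank_prod, Module.finrank_self, hn, ← hW] at this
        omega
      have hlt : finrank F W < n := by omega
      have hA' : (B.restrict W).IsAlt := fun x => hA (x : V)
      obtain ⟨m', e', f', h1, h2, h3, h4⟩ := ih (finrank F W) hlt (B.restrict W) hA' rfl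
      -- radicals agree
      have hrad : (LinearMap.ker (B.restrict W)).map W.subtype = LinearMap.ker B := by
        ext x
        constructor
        · rintro ⟨⟨x, hxW⟩, hx', rfl⟩
          have hx := LinearMap.mem_ker.mp hx'
          rw [LinearMap.mem_ker]
          obtain ⟨hxu, hxv⟩ := (hmemW x).mp hxW
          apply LinearMap.ext
          intro y
          have hw : y - B y v • u + B y u • v ∈ W := by
            rw [hmemW]
            simp only [map_sub, map_add, map_smul, LinearMap.sub_apply, LinearMap.add_apply,
              LinearMap.smul_apply, huu, huv, hvu, hvv, smul_eq_mul]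
            constructor <;> ring
          have h5 : B x (y - B y v • u + B y u • v) = 0 := by
            have := congrArg (fun φ => φ ⟨_, hw⟩) hx
            exact this
          have h6 : B x y = B x (y - B y v • u + B y u • v) + B y v * B x u - B y u * B x v := by
            simp only [map_sub, map_add, map_smul, smul_eq_mul]
            ring
          show B x y = 0
          rw [h6, h5, hxu, hxv]
          simp
        · intro hx
          rw [LinearMap.mem_ker] at hx
          have hxW : x ∈ W := by
            rw [hmemW, hx]; simp
          refine ⟨⟨x, hxW⟩, ?_, rfl⟩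
          apply LinearMap.mem_ker.mpr
          apply LinearMap.ext
          intro y
          show B x (y : V) = 0
          rw [hx]; rfl
      have hradfin : finrank F (LinearMap.ker (B.restrict W)) = finrank F (LinearMap.ker B) := by
        rw [← hrad]
        exact (LinearEquiv.finrank_eq (Submodule.equivMapOfInjective W.subtype
          (Submodule.injective_subtype W) _))
      refine ⟨m' + 1, Fin.cons u (fun i => (e' i : V)), Fin.cons v (fun i => (f' i : V)), ?_, ?_, ?_, ?_⟩
      · intro i j
        refine Fin.cases ?_ (fun i => ?_) i <;> refine Fin.cases ?_ (fun j => ?_) j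
        · simp [huv]
        · simp only [Fin.cons_zero, Fin.cons_succ]
          rw [← hA.neg_eq, ((hmemW _).mp (f' j).2).1]
          simp [Fin.succ_ne_zero j |>.symm]
        · simp only [Fin.cons_zero, Fin.cons_succ]
          rw [((hmemW _).mp (e' i).2).2]
          simp [Fin.succ_ne_zero i]
        · simp only [Fin.cons_succ, Fin.succ_inj]
          exact h1 i j
      · intro i j
        refine Fin.cases ?_ (fun i => ?_) i <;> refine Fin.cases ?_ (fun j => ?_) j
        · simp [huu]
        · simp only [Fin.cons_zero, Fin.cons_succ]
          rw [← hA.neg_eq, ((hmemW _).mp (e' j).2).1, neg_zero]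
        · simp only [Fin.cons_zero, Fin.cons_succ]
          exact ((hmemW _).mp (e' i).2).1
        · simp only [Fin.cons_succ]
          exact h2 i j
      · intro i j
        refine Fin.cases ?_ (fun i => ?_) i <;> refine Fin.cases ?_ (fun j => ?_) j
        · simp [hvv]
        · simp only [Fin.cons_zero, Fin.cons_succ]
          rw [← hA.neg_eq, ((hmemW _).mp (f' j).2).2, neg_zero]
        · simp only [Fin.cons_zero, Fin.cons_succ]
          exact ((hmemW _).mp (f' i).2).2
        · simp only [Fin.cons_succ]
          exact h3 i j
      · rw [← hradfin]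
        omega

/-- Darboux basis for an arbitrary alternating form. -/
theorem exists_darboux_basis {F : Type*} [Field F] {V : Type u} [AddCommGroup V] [Module F V]
    [FiniteDimensional F V] (B : LinearMap.BilinForm F V) (hA : B.IsAlt) :
    ∃ (m k : ℕ) (b : Module.Basis ((Fin m ⊕ Fin m) ⊕ Fin k) F V),
      (∀ i j : Fin m, B (b (Sum.inl (Sum.inl i))) (b (Sum.inl (Sum.inr j))) = if i = j then 1 else 0) ∧
      (∀ i j : Fin m, B (b (Sum.inl (Sum.inl i))) (b (Sum.inl (Sum.inl j))) = 0) ∧
      (∀ i j : Fin m, B (b (Sum.inl (Sum.inr i))) (b (Sum.inl (Sum.inr j))) = 0) ∧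
      (∀ (j : Fin k) (v : V), B (b (Sum.inr j)) v = 0) ∧
      2 * m + k = finrank F V ∧ k = finrank F (LinearMap.ker B) := by
  obtain ⟨m, e, f, h1, h2, h3, h4⟩ := exists_hyp_family (finrank F V) B hA rfl
  set k := finrank F (LinearMap.ker B) with hk
  let r₀ : Module.Basis (Fin k) F (LinearMap.ker B) := Module.finBasisOfFinrankEq F _ hk.symm
  set r : Fin k → V := fun j => (r₀ j : V) with hr
  have hrli : LinearIndependent F r := by
    have := r₀.linearIndependent
    exact this.map' (LinearMap.ker B).subtype (Submodule.ker_subtype _)
  have hrad : ∀ j v, B (r j) v = 0 := by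
    intro j v
    have : r j ∈ LinearMap.ker B := (r₀ j).2
    rw [LinearMap.mem_ker] at this
    rw [this]; rfl
  have hli := linearIndependent_hyp B hA e f h1 h2 h3 r hrli hrad
  have hcard : Fintype.card ((Fin m ⊕ Fin m) ⊕ Fin k) = finrank F V := by
    simp only [Fintype.card_sum, Fintype.card_fin]
    omega
  refine ⟨m, k, basisOfLinearIndependentOfCardEqFinrank' _ hli hcard, ?_, ?_, ?_, ?_, ?_, rfl⟩
  · intro i j
    simp only [coe_basisOfLinearIndependentOfCardEqFinrank', Sum.elim_inl, Sum.elim_inr]
    exact h1 i j
  · intro i j
    simp only [coe_basisOfLinearIndependentOfCardEqFinrank', Sum.elim_inl]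
    exact h2 i j
  · intro i j
    simp only [coe_basisOfLinearIndependentOfCardEqFinrank', Sum.elim_inl, Sum.elim_inr]
    exact h3 i j
  · intro j v
    simp only [coe_basisOfLinearIndependentOfCardEqFinrank', Sum.elim_inr]
    exact hrad j v
  · omega

end Cfsg.Agent.Lib.Helper5.AltForm
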