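import Mathlib
import Cfsg.Agent.Lib.Helper6.ResField

/-!
# Brandt's theorem (S4607), bridge piece BR1: the residue field `O / P` of the local ring
of algebraic integers at a `p`-modular ideal is algebraically closed.
-/

set_option autoImplicit false
set_option linter.style.haveILetI false
set_option linter.unusedSectionVars false

open Cfsg Polynomial

namespace Cfsg.Agent.Lib.Helper5.BrandtBR1

open Cfsg.Agent.Lib.Helper6

variable {p : ℕ} {M : Ideal Cfsg.AlgInt}

/-- algebraic integers inside the local ring -/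
noncomputable def incl (hM : Cfsg.IsPModular p M) : Cfsg.AlgInt →+* localSubring hM :=
  RingHom.codRestrict (algebraMap Cfsg.AlgInt ℂ) (localSubring hM)
    (fun a => (mem_localSubring hM _).2 (memLocalRing_coe hM a))

theorem incl_coe (hM : Cfsg.IsPModular p M) (a : Cfsg.AlgInt) :
    ((incl hM a : localSubring hM) : ℂ) = (a : ℂ) := rfl

/-- reduction of algebraic integers to the residue field -/
noncomputable def redInt (hM : Cfsg.IsPModular p M) : Cfsg.AlgInt →+* ResField hM :=
  (resMap hM).comp (incl hM)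

theorem redInt_surjective (hM : Cfsg.IsPModular p M) : Function.Surjective (redInt hM) := by
  intro x
  obtain ⟨o, rfl⟩ := Ideal.Quotient.mk_surjective x
  obtain ⟨a, b, hb, hab⟩ := o.2
  obtain ⟨b', i, hi, hbi⟩ := hM.2.1.exists_inv hb
  refine ⟨a * b', ?_⟩
  show resMap hM (incl hM (a * b')) = resMap hM o
  rw [resMap_eq_iff]
  have hb0 : (b : ℂ) ≠ 0 := coe_ne_zero_of_notMem hb
  refine ⟨-(a * i), b, M.neg_mem (M.mul_mem_left a hi), hb, ?_⟩
  rw [incl_coe, ← hab]
  have h1 : ((b' : ℂ) * (b : ℂ) + (i : ℂ)) = 1 := by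
    have := congrArg (fun t : Cfsg.AlgInt => (t : ℂ)) hbi
    simpa using this
  have h2 : (i : ℂ) = 1 - (b' : ℂ) * (b : ℂ) := by rw [← h1]; ring
  push_cast
  rw [h2]
  field_simp
  ring

theorem resField_isAlgClosed (hM : Cfsg.IsPModular p M) :
    IsAlgClosed (ResField hM) := by
  apply IsAlgClosed.of_exists_root
  intro q hq hirr
  have hlift : q ∈ Polynomial.lifts (redInt hM) := by
    rw [Polynomial.mem_lifts]
    exact Polynomial.map_surjective _ (redInt_surjective hM) q
  obtain ⟨f, hfq, hfdeg, hfmon⟩ := Polynomial.lifts_and_natDegree_eq_and_monic hlift hq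
  -- a complex root of `f`
  have hqdeg : q.natDegree ≠ 0 := by
    intro h
    have h1 : q.degree = 0 := by
      rw [Polynomial.degree_eq_natDegree hq.ne_zero, h]
      rfl
    exact hirr.not_isUnit (Polynomial.isUnit_iff_degree_eq_zero.mpr h1)
  have hgdeg : (f.map (algebraMap Cfsg.AlgInt ℂ)).degree ≠ 0 := by
    have hmon := hfmon.map (algebraMap Cfsg.AlgInt ℂ)
    rw [Polynomial.degree_eq_natDegree hmon.ne_zero, hfmon.natDegree_map, hfdeg]
    exact_mod_cast hqdeg
  obtain ⟨z, hz⟩ := IsAlgClosed.exists_root (f.map (algebraMap Cfsg.AlgInt ℂ)) hgdeg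
  have hzint : IsIntegral Cfsg.AlgInt z := ⟨f, hfmon, by rwa [Polynomial.IsRoot.def, Polynomial.eval_map] at hz⟩
  have hzint' : IsIntegral ℤ z := isIntegral_trans z hzint
  let z' : Cfsg.AlgInt := ⟨z, hzint'⟩
  have hz' : f.eval z' = 0 := by
    have h1 : algebraMap Cfsg.AlgInt ℂ (f.eval z') = 0 := by
      rw [← Polynomial.eval₂_hom, ← Polynomial.eval_map]
      exact hz
    apply Subtype.ext
    exact h1
  refine ⟨redInt hM z', ?_⟩
  rw [← hfq, Polynomial.eval_map, Polynomial.eval₂_hom, hz', map_zero]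

end Cfsg.Agent.Lib.Helper5.BrandtBR1
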