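import Mathlib
import Cfsg.Agent.Lib.Helper6.ResField
import Cfsg.Agent.Lib.Helper5.BrandtBR1

/-!
# Brandt's theorem (S4607), bridge piece BR1 under the exact name of helper1's farm
-/

set_option autoImplicit false

namespace Cfsg.Agent.Lib.Helper1.Brandt

open Cfsg.Agent.Lib.Helper6

variable {p : ℕ} {M : Ideal Cfsg.AlgInt}

/-- BR1 -/
theorem isAlgClosed_resField (hM : Cfsg.IsPModular p M) : IsAlgClosed (ResField hM) :=
  Cfsg.Agent.Lib.Helper5.BrandtBR1.resField_isAlgClosed hM

end Cfsg.Agent.Lib.Helper1.Brandt
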