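import Mathlib
import Cfsg.Prelude.Def_PLocal
import Cfsg.Agent.Lib.Helper1.BestOffender

set_option autoImplicit false

/-! # S2770 farm (owner helper6): the abstract units of case C
(i) a `p'`-element centralizing `Ω₁(W)` centralizes the abelian `p`-group `W`;
(ii) Thompson's bound `|W : C_W(A)| ≤ |A : C_A(W)|` for `A` abelian of maximal order;
(iii) sub-multiplicativity of `|· : C_·(A)|` along `Ω₁(W) → W → W^p`. -/

namespace Cfsg.Agent.Lib.Helper5.PU2770T

open Cfsg

/-- two abelian subgroups that commute elementwise generate an abelian subgroup -/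
theorem comm_of_mem_sup {G : Type*} [Group G] (H K : Subgroup G)
    (hH : ∀ a ∈ H, ∀ b ∈ H, a * b = b * a) (hK : ∀ a ∈ K, ∀ b ∈ K, a * b = b * a)
    (hHK : ∀ a ∈ H, ∀ b ∈ K, a * b = b * a) : ∀ a ∈ H ⊔ K, ∀ b ∈ H ⊔ K, a * b = b * a := by
  have h1 : H ⊔ K ≤ Subgroup.centralizer ((H : Set G) ∪ K) := by
    rw [sup_le_iff]
    constructor
    · intro x hx
      rw [Subgroup.mem_centralizer_iff]
      rintro y (hy | hy)
      · exact hH y hy x hx
      · exact (hHK x hx y hy).symm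
    · intro x hx
      rw [Subgroup.mem_centralizer_iff]
      rintro y (hy | hy)
      · exact hHK y hy x hx
      · exact hK y hy x hx
  intro a ha b hb
  have ha' := h1 ha
  rw [Subgroup.mem_centralizer_iff] at ha'
  have h2 : H ⊔ K ≤ Subgroup.centralizer ({a} : Set G) := by
    rw [sup_le_iff]
    constructor
    · intro x hx
      rw [Subgroup.mem_centralizer_iff]
      intro y hy
      rw [Set.mem_singleton_iff] at hy
      rw [hy]
      exact (ha' x (Or.inl hx)).symm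
    · intro x hx
      rw [Subgroup.mem_centralizer_iff]
      intro y hy
      rw [Set.mem_singleton_iff] at hy
      rw [hy]
      exact (ha' x (Or.inr hx)).symm
  have hb' := h2 hb
  rw [Subgroup.mem_centralizer_iff] at hb'
  exact hb' a rfl

/-- **(ii) THOMPSON.** `|W| · |C_A(W)| ≤ |A| · |C_W(A)|` for an abelian subgroup `A` of `S` of maximal
order and an abelian subgroup `W` of `S`. -/
theorem thompson_bound {G : Type*} [Group G] [Finite G] (S A W : Subgroup G) (hAS : A ≤ S)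
    (hWS : W ≤ S) (hAab : ∀ a ∈ A, ∀ b ∈ A, a * b = b * a)
    (hWab : ∀ a ∈ W, ∀ b ∈ W, a * b = b * a)
    (hmax : ∀ B : Subgroup G, B ≤ S → (∀ a ∈ B, ∀ b ∈ B, a * b = b * a) →
      Nat.card B ≤ Nat.card A) :
    Nat.card W * Nat.card (A ⊓ Subgroup.centralizer (W : Set G) : Subgroup G) ≤
      Nat.card A * Nat.card (W ⊓ Subgroup.centralizer (A : Set G) : Subgroup G) := by
  have hCab : ∀ a ∈ A ⊓ Subgroup.centralizer (W : Set G),
      ∀ b ∈ A ⊓ Subgroup.centralizer (W : Set G), a * b = b * a :=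
    fun a ha b hb => hAab a (Subgroup.mem_inf.mp ha).1 b (Subgroup.mem_inf.mp hb).1
  have hCW : ∀ a ∈ A ⊓ Subgroup.centralizer (W : Set G), ∀ b ∈ W, a * b = b * a := by
    intro a ha b hb
    have := (Subgroup.mem_inf.mp ha).2
    rw [Subgroup.mem_centralizer_iff] at this
    exact (this b hb).symm
  have hBab := comm_of_mem_sup _ W hCab hWab hCW
  have hBS : (A ⊓ Subgroup.centralizer (W : Set G)) ⊔ W ≤ S :=
    sup_le (inf_le_left.trans hAS) hWS
  have h1 := hmax _ hBS hBab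
  have h2 := Cfsg.Agent.Lib.Helper1.card_mul_card_le_card_sup_mul_card_inf
    (A ⊓ Subgroup.centralizer (W : Set G)) W
  have h3 : (A ⊓ Subgroup.centralizer (W : Set G)) ⊓ W ≤ W ⊓ Subgroup.centralizer (A : Set G) := by
    intro x hx
    have hx1 := (Subgroup.mem_inf.mp (Subgroup.mem_inf.mp hx).1).1
    refine Subgroup.mem_inf.mpr ⟨(Subgroup.mem_inf.mp hx).2, ?_⟩
    rw [Subgroup.mem_centralizer_iff]
    intro y hy
    exact hAab y hy x hx1
  have h4 := Subgroup.card_le_of_le h3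
  calc Nat.card W * Nat.card (A ⊓ Subgroup.centralizer (W : Set G) : Subgroup G)
      = Nat.card (A ⊓ Subgroup.centralizer (W : Set G) : Subgroup G) * Nat.card W := by ring
    _ ≤ Nat.card ((A ⊓ Subgroup.centralizer (W : Set G)) ⊔ W : Subgroup G) *
          Nat.card ((A ⊓ Subgroup.centralizer (W : Set G)) ⊓ W : Subgroup G) := h2
    _ ≤ Nat.card A * Nat.card (W ⊓ Subgroup.centralizer (A : Set G) : Subgroup G) :=
        Nat.mul_le_mul h1 h4

/-- the `p`-th power endomorphism of an abelian subgroup -/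
def powHom {G : Type*} [Group G] (D : Subgroup G) (hD : ∀ a ∈ D, ∀ b ∈ D, a * b = b * a) (p : ℕ) :
    D →* D :=
  MonoidHom.mk' (fun d => d ^ p) (by
    intro a b
    have hab : Commute a b := Subtype.ext (hD a a.2 b b.2)
    exact hab.mul_pow p)

theorem powHom_apply {G : Type*} [Group G] (D : Subgroup G)
    (hD : ∀ a ∈ D, ∀ b ∈ D, a * b = b * a) (p : ℕ) (d : D) : powHom D hD p d = d ^ p := rfl

theorem map_ker_powHom {G : Type*} [Group G] (D : Subgroup G)
    (hD : ∀ a ∈ D, ∀ b ∈ D, a * b = b * a) (p : ℕ) :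
    (powHom D hD p).ker.map D.subtype = omegaOne p D := by
  apply le_antisymm
  · rintro x ⟨d, hd, rfl⟩
    rw [SetLike.mem_coe, MonoidHom.mem_ker, powHom_apply] at hd
    apply Subgroup.subset_closure
    refine ⟨d.2, ?_⟩
    have := congrArg Subtype.val hd
    simpa using this
  · unfold omegaOne
    rw [Subgroup.closure_le]
    rintro x ⟨hxD, hxp⟩
    refine ⟨⟨x, hxD⟩, ?_, rfl⟩
    rw [SetLike.mem_coe, MonoidHom.mem_ker, powHom_apply]
    exact Subtype.ext (by simpa using hxp)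

theorem map_range_powHom {G : Type*} [Group G] (D : Subgroup G)
    (hD : ∀ a ∈ D, ∀ b ∈ D, a * b = b * a) (p : ℕ) :
    (powHom D hD p).range.map D.subtype = powerClosure p 1 D := by
  apply le_antisymm
  · rintro x ⟨e, ⟨d, rfl⟩, rfl⟩
    apply Subgroup.subset_closure
    refine ⟨d, d.2, ?_⟩
    rw [powHom_apply, pow_one]
    simp
  · unfold powerClosure
    rw [Subgroup.closure_le]
    rintro y ⟨x, hxD, rfl⟩
    refine ⟨⟨x, hxD⟩ ^ p, ⟨⟨x, hxD⟩, rfl⟩, ?_⟩
    rw [pow_one]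
    simp

/-- bridge: for abelian `W`, `Ω₁(W)` is the set of elements of `W` with trivial `p`-th power -/
theorem mem_omegaOne_iff {G : Type*} [Group G] (W : Subgroup G)
    (hW : ∀ a ∈ W, ∀ b ∈ W, a * b = b * a) (p : ℕ) (w : G) :
    w ∈ omegaOne p W ↔ w ∈ W ∧ w ^ p = 1 := by
  rw [← map_ker_powHom W hW p]
  constructor
  · rintro ⟨d, hd, rfl⟩
    rw [SetLike.mem_coe, MonoidHom.mem_ker, powHom_apply] at hd
    refine ⟨d.2, ?_⟩
    have := congrArg Subtype.val hd
    simpa using this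
  · rintro ⟨hwW, hwp⟩
    refine ⟨⟨w, hwW⟩, ?_, rfl⟩
    rw [SetLike.mem_coe, MonoidHom.mem_ker, powHom_apply]
    exact Subtype.ext (by simpa using hwp)

/-- bridge: for abelian `W`, `℧¹(W)` is the set of `p`-th powers of elements of `W` -/
theorem mem_powerClosure_iff {G : Type*} [Group G] (W : Subgroup G)
    (hW : ∀ a ∈ W, ∀ b ∈ W, a * b = b * a) (p : ℕ) (v : G) :
    v ∈ powerClosure p 1 W ↔ ∃ w ∈ W, v = w ^ p := by
  rw [← map_range_powHom W hW p]
  constructor
  · rintro ⟨e, ⟨d, rfl⟩, rfl⟩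
    refine ⟨d, d.2, ?_⟩
    rw [powHom_apply]
    simp
  · rintro ⟨w, hwW, rfl⟩
    refine ⟨⟨w, hwW⟩ ^ p, ⟨⟨w, hwW⟩, rfl⟩, ?_⟩
    simp

/-- `|D| = |Ω₁(D)| · |D^p|` for an abelian subgroup `D` -/
theorem card_eq_card_omegaOne_mul_card_powerClosure {G : Type*} [Group G] [Finite G]
    (D : Subgroup G) (hD : ∀ a ∈ D, ∀ b ∈ D, a * b = b * a) (p : ℕ) :
    Nat.card D = Nat.card (omegaOne p D) * Nat.card (powerClosure p 1 D) := by
  rw [← map_ker_powHom D hD p, ← map_range_powHom D hD p,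
    Subgroup.card_map_of_injective D.subtype_injective,
    Subgroup.card_map_of_injective D.subtype_injective, ← Subgroup.index_ker,
    Subgroup.card_mul_index]

/-- **(iii) SUBMULT.** -/
theorem submult {G : Type*} [Group G] [Finite G] (p : ℕ) (W A : Subgroup G)
    (hWab : ∀ a ∈ W, ∀ b ∈ W, a * b = b * a) :
    Nat.card W = Nat.card (Cfsg.omegaOne p W) * Nat.card (Cfsg.powerClosure p 1 W) ∧
    Nat.card (W ⊓ Subgroup.centralizer (A : Set G) : Subgroup G) ≤
      Nat.card (Cfsg.omegaOne p W ⊓ Subgroup.centralizer (A : Set G) : Subgroup G) *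
        Nat.card (Cfsg.powerClosure p 1 W ⊓ Subgroup.centralizer (A : Set G) : Subgroup G) := by
  refine ⟨card_eq_card_omegaOne_mul_card_powerClosure W hWab p, ?_⟩
  have hDab : ∀ a ∈ W ⊓ Subgroup.centralizer (A : Set G),
      ∀ b ∈ W ⊓ Subgroup.centralizer (A : Set G), a * b = b * a :=
    fun a ha b hb => hWab a (Subgroup.mem_inf.mp ha).1 b (Subgroup.mem_inf.mp hb).1
  rw [card_eq_card_omegaOne_mul_card_powerClosure _ hDab p]
  apply Nat.mul_le_mul
  · apply Subgroup.card_le_of_le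
    intro x hx
    rw [mem_omegaOne_iff _ hDab] at hx
    refine Subgroup.mem_inf.mpr ⟨?_, (Subgroup.mem_inf.mp hx.1).2⟩
    rw [mem_omegaOne_iff _ hWab]
    exact ⟨(Subgroup.mem_inf.mp hx.1).1, hx.2⟩
  · apply Subgroup.card_le_of_le
    intro x hx
    rw [mem_powerClosure_iff _ hDab] at hx
    obtain ⟨w, hw, rfl⟩ := hx
    refine Subgroup.mem_inf.mpr ⟨?_, Subgroup.pow_mem _ (Subgroup.mem_inf.mp hw).2 p⟩
    rw [mem_powerClosure_iff _ hWab]
    exact ⟨w, (Subgroup.mem_inf.mp hw).1, rfl⟩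

/-- **(i) COPRIME-Ω₁.** A `p'`-element normalizing the abelian `p`-group `W` and centralizing the
elements of `W` of order dividing `p` centralizes `W`. -/
theorem centralizes_of_centralizes_omegaOne {G : Type*} [Group G] [Finite G] (p : ℕ)
    [Fact p.Prime] (W : Subgroup G) (hWp : IsPGroup p W)
    (hWab : ∀ a ∈ W, ∀ b ∈ W, a * b = b * a) (y : G) (hyW : ∀ w ∈ W, y * w * y⁻¹ ∈ W)
    (hcop : (orderOf y).Coprime p) (hc : ∀ w ∈ W, w ^ p = 1 → y * w * y⁻¹ = w) :
    ∀ w ∈ W, y * w * y⁻¹ = w := by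
  have key : ∀ j : ℕ, ∀ w ∈ W, w ^ (p ^ j) = 1 → y * w * y⁻¹ = w := by
    intro j
    induction j with
    | zero =>
      intro w _ hw
      rw [pow_zero, pow_one] at hw
      rw [hw]; group
    | succ j ih =>
      intro w hw hwp
      have hwp' : (w ^ p) ^ (p ^ j) = 1 := by
        rw [← pow_mul, ← pow_succ']; exact hwp
      have h1 : y * w ^ p * y⁻¹ = w ^ p := ih _ (Subgroup.pow_mem _ hw p) hwp'
      have hyw : y * w * y⁻¹ ∈ W := hyW w hw
      have hwi : w⁻¹ ∈ W := W.inv_mem hw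
      have hcW : y * w * y⁻¹ * w⁻¹ ∈ W := W.mul_mem hyw hwi
      have hcp : (y * w * y⁻¹ * w⁻¹) ^ p = 1 := by
        have hcomm : Commute (y * w * y⁻¹) w⁻¹ := hWab _ hyw _ hwi
        rw [hcomm.mul_pow, conj_pow, h1, inv_pow, mul_inv_cancel]
      have hcc : y * (y * w * y⁻¹ * w⁻¹) * y⁻¹ = y * w * y⁻¹ * w⁻¹ := hc _ hcW hcp
      -- iterate
      have hit : ∀ k : ℕ, y ^ k * w * (y ^ k)⁻¹ = w * (y * w * y⁻¹ * w⁻¹) ^ k := by
        intro k
        induction k with
        | zero => simp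
        | succ k ihk =>
          have e1 : y ^ (k + 1) * w * (y ^ (k + 1))⁻¹ = y * (y ^ k * w * (y ^ k)⁻¹) * y⁻¹ := by
            rw [pow_succ']; group
          have e2 : y * (y * w * y⁻¹ * w⁻¹) ^ k * y⁻¹ = (y * w * y⁻¹ * w⁻¹) ^ k := by
            rw [← conj_pow, hcc]
          have e3 : (y * w * y⁻¹ * w⁻¹) * w = w * (y * w * y⁻¹ * w⁻¹) := hWab _ hcW _ hw
          calc y ^ (k + 1) * w * (y ^ (k + 1))⁻¹
              = y * (w * (y * w * y⁻¹ * w⁻¹) ^ k) * y⁻¹ := by rw [e1, ihk]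
            _ = (y * w * y⁻¹) * (y * (y * w * y⁻¹ * w⁻¹) ^ k * y⁻¹) := by group
            _ = (y * w * y⁻¹) * (y * w * y⁻¹ * w⁻¹) ^ k := by rw [e2]
            _ = ((y * w * y⁻¹ * w⁻¹) * w) * (y * w * y⁻¹ * w⁻¹) ^ k := by group
            _ = w * (y * w * y⁻¹ * w⁻¹) ^ (k + 1) := by rw [e3, pow_succ', mul_assoc]
      have h2 := hit (orderOf y)
      rw [pow_orderOf_eq_one, one_mul, inv_one, mul_one] at h2
      have h3 : (y * w * y⁻¹ * w⁻¹) ^ orderOf y = 1 := by
        have := congrArg (fun z => w⁻¹ * z) h2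
        simpa using this.symm
      have h4 : orderOf (y * w * y⁻¹ * w⁻¹) ∣ Nat.gcd (orderOf y) p :=
        Nat.dvd_gcd (orderOf_dvd_of_pow_eq_one h3) (orderOf_dvd_of_pow_eq_one hcp)
      rw [hcop] at h4
      have h5 : y * w * y⁻¹ * w⁻¹ = 1 := orderOf_eq_one_iff.mp (Nat.dvd_one.mp h4)
      calc y * w * y⁻¹ = (y * w * y⁻¹ * w⁻¹) * w := by group
        _ = w := by rw [h5, one_mul]
  intro w hw
  obtain ⟨j, hj⟩ := hWp ⟨w, hw⟩
  have hj' : w ^ (p ^ j) = 1 := by
    have := congrArg Subtype.val hj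
    simpa using this
  exact key j w hw hj'

end Cfsg.Agent.Lib.Helper5.PU2770T
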