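import Mathlib
import Cfsg.Agent.Lib.Helper6.PU0
import Cfsg.Agent.Lib.Helper9.PU2770A
import Cfsg.Agent.Lib.Helper1.PCore
import Cfsg.Agent.Lib.Helper1.SubnormalSylow

set_option autoImplicit false

/-! # S2770 farm (owner helper6), unit U-STRUCT -/

namespace Cfsg.Agent.Lib.Helper5.PU2770S

open Cfsg.Agent.Lib.Helper6.PU

variable {G : Type*} [Group G] [Finite G] {p : ℕ} [Fact p.Prime]

/-- U-STRUCT : `S` is not normal, `K = ker φ ≤ M`, `K ∩ S = O_p(G)`, `|S : O_p(G)| = p^n` and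
`S / O_p(G)` is abelian. -/
theorem struct {n : ℕ} (S : Sylow p G) (M : Subgroup G) {P : Type*} [Group P] (φ : G →* P)
    (hs : Setup p n S M φ) :
    ¬ (S : Subgroup G).Normal ∧ φ.ker ≤ M ∧ φ.ker ⊓ (S : Subgroup G) = Cfsg.pCore p G ∧
    Nat.card (S : Subgroup G) = p ^ n * Nat.card (Cfsg.pCore p G) ∧
    ∀ a ∈ (S : Subgroup G), ∀ b ∈ (S : Subgroup G), a * b * a⁻¹ * b⁻¹ ∈ Cfsg.pCore p G := by
  have : Finite P := Finite.of_surjective φ hs.surj
  obtain ⟨U, U', hUU'⟩ := hs.psl.inf_bot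
  obtain ⟨Ub, hUbdef⟩ : ∃ Ub : Sylow p P, Ub = S.mapSurjective hs.surj := ⟨_, rfl⟩
  have hUbcoe : (Ub : Subgroup P) = (S : Subgroup G).map φ := by
    rw [hUbdef]; exact Sylow.coe_mapSurjective hs.surj S
  have hcard : Nat.card (Ub : Subgroup P) = p ^ n := hs.psl.card_sylow Ub
  have hp1 : 1 < p ^ n :=
    Nat.one_lt_pow (by have := hs.pos; omega) (Fact.out : p.Prime).one_lt
  have hUbp : IsPGroup p ((S : Subgroup G).map φ) := by
    rw [← hUbcoe]; exact Ub.isPGroup'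
  -- normal `p`-subgroups of `P` are trivial
  have hnp : ∀ N : Subgroup P, N.Normal → IsPGroup p N → N = ⊥ := by
    intro N hN hNp
    have := hN
    have h1 : N ≤ U := hNp.le_sylow_of_normal U
    have h2 : N ≤ U' := hNp.le_sylow_of_normal U'
    have h3 : N ≤ (U : Subgroup P) ⊓ (U' : Subgroup P) := le_inf h1 h2
    rw [hUU'] at h3
    exact le_bot_iff.mp h3
  have hne : (S : Subgroup G).map φ ≠ ⊥ := by
    intro h
    rw [hUbcoe, h, Subgroup.card_bot] at hcard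
    omega
  -- B1
  have hSn : ¬ (S : Subgroup G).Normal := by
    intro hSnorm
    exact hne (hnp _ (hSnorm.map φ hs.surj) hUbp)
  -- B3
  have hK := Cfsg.Agent.Lib.Helper9.PU2770A.dich S M hs.coatom hs.le hs.uniq φ.ker
  have hKcase : φ.ker ≤ M ∧ (φ.ker ⊓ (S : Subgroup G)).Normal := by
    rcases hK with hKS | h
    · exfalso
      have h1 : (φ.ker ⊔ (S : Subgroup G)).map φ = ⊤ := by
        rw [hKS, ← MonoidHom.range_eq_map, MonoidHom.range_eq_top.mpr hs.surj]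
      rw [Subgroup.map_sup, (Subgroup.map_eq_bot_iff _).mpr le_rfl, bot_sup_eq] at h1
      have h2 : (⊤ : Subgroup P) = ⊥ := hnp ⊤ inferInstance (by rw [← h1]; exact hUbp)
      exact hne (by rw [h1, h2])
    · exact h
  obtain ⟨hKM, hKSn⟩ := hKcase
  have hpn := Cfsg.Agent.Lib.Helper1.pCore_normal (G := G) p
  have hpp := Cfsg.Agent.Lib.Helper1.pCore_isPGroup (G := G) p
  have hKS_eq : φ.ker ⊓ (S : Subgroup G) = Cfsg.pCore p G := by
    apply le_antisymm
    · exact Cfsg.Agent.Lib.Helper1.le_pCore hKSn (S.isPGroup'.to_le inf_le_right)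
    · apply le_inf
      · have h1 : (Cfsg.pCore p G).map φ = ⊥ := hnp _ (hpn.map φ hs.surj) (hpp.map φ)
        exact (Subgroup.map_eq_bot_iff _).mp h1
      · exact Cfsg.Agent.Lib.Helper1.pCore_le_sylow p S
  refine ⟨hSn, hKM, hKS_eq, ?_, ?_⟩
  · have h1 := Cfsg.Agent.Lib.Helper1.relIndex_mul_card_inf φ.ker (S : Subgroup G)
    rw [Subgroup.relIndex_ker, hKS_eq, ← hUbcoe, hcard] at h1
    exact h1.symm
  · intro a ha b hb
    rw [← hKS_eq]
    refine Subgroup.mem_inf.mpr ⟨?_, ?_⟩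
    · rw [MonoidHom.mem_ker, map_mul, map_mul, map_mul, map_inv, map_inv]
      have hφa : φ a ∈ (Ub : Subgroup P) := by rw [hUbcoe]; exact ⟨a, ha, rfl⟩
      have hφb : φ b ∈ (Ub : Subgroup P) := by rw [hUbcoe]; exact ⟨b, hb, rfl⟩
      have hc := hs.psl.comm Ub (φ a) hφa (φ b) hφb
      rw [hc]; group
    · exact (S : Subgroup G).mul_mem ((S : Subgroup G).mul_mem ((S : Subgroup G).mul_mem ha hb)
        ((S : Subgroup G).inv_mem ha)) ((S : Subgroup G).inv_mem hb)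

end Cfsg.Agent.Lib.Helper5.PU2770S
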