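import Mathlib
import Cfsg.Prelude.Def_ClassicalGeometry
import Cfsg.Agent.Lib.Helper5.SpinorNorm

set_option autoImplicit false
open Cfsg

namespace Cfsg.Agent.Lib.Helper5.ReflClass

open Matrix QuadraticMap Cfsg.Agent.Lib.Helper5.CartanDieudonne Cfsg.Agent.Lib.Helper5.Refl
  Cfsg.Agent.Lib.Helper5.SpinorNorm

variable {ι : Type} [Fintype ι] [DecidableEq ι] {F : Type*} [Field F]

omit [DecidableEq ι] in
/-- a vector orthogonal to a full orthogonal family of nonsingular vectors is zero -/
theorem eq_zero_of_perp (h2 : (2 : F) ≠ 0) (Q : QuadraticForm F (ι → F))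
    (hQ : (polarBilin Q).Nondegenerate) {k : ℕ}
    (v : Fin k → ι → F) (hv : ∀ i, Q (v i) ≠ 0)
    (horth : ∀ i j, i ≠ j → polar ⇑Q (v i) (v j) = 0) (hk : Fintype.card ι ≤ k)
    (z : ι → F) (hz : ∀ i, polar ⇑Q (v i) z = 0) : z = 0 := by
  have hli := linearIndependent_of_orth h2 Q v hv horth
  have hle := hli.fintype_card_le_finrank
  rw [Module.finrank_fintype_fun_eq_card, Fintype.card_fin] at hle
  have hspan : Submodule.span F (Set.range v) = ⊤ :=
    hli.span_eq_top_of_card_eq_finrank' (by
      rw [Module.finrank_fintype_fun_eq_card, Fintype.card_fin]; omega)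
  apply hQ.1 z
  intro x
  show polar ⇑Q z x = 0
  have hx : x ∈ Submodule.span F (Set.range v) := by rw [hspan]; trivial
  induction hx using Submodule.span_induction with
  | mem y hy =>
    obtain ⟨i, rfl⟩ := hy
    rw [polar_comm]; exact hz i
  | zero =>
    have := polar_smul_right Q (0 : F) z (0 : ι → F)
    rw [zero_smul, zero_smul] at this
    exact this
  | add a b _ _ ha hb => rw [polar_add_right, ha, hb, add_zero]
  | smul c a _ ha => rw [polar_smul_right, ha, smul_zero]

omit [Fintype ι] [DecidableEq ι] in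
/-- extend a family by one vector -/
theorem cons_props (Q : QuadraticForm F (ι → F)) {k : ℕ}
    (v : Fin k → ι → F) (hv : ∀ i, Q (v i) ≠ 0)
    (horth : ∀ i j, i ≠ j → polar ⇑Q (v i) (v j) = 0) (w : ι → F) (hw : Q w ≠ 0)
    (hwv : ∀ i, polar ⇑Q (v i) w = 0) :
    (∀ i, Q ((Fin.cons w v : Fin (k + 1) → ι → F) i) ≠ 0) ∧
    (∀ i j, i ≠ j → polar ⇑Q ((Fin.cons w v : Fin (k + 1) → ι → F) i)
      ((Fin.cons w v : Fin (k + 1) → ι → F) j) = 0) := by
  refine ⟨?_, ?_⟩
  · intro i
    refine Fin.cases ?_ (fun i => ?_) i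
    · simpa using hw
    · simpa using hv i
  · intro i i'
    refine Fin.cases ?_ (fun a => ?_) i <;> refine Fin.cases ?_ (fun b => ?_) i'
    · intro h; exact absurd rfl h
    · intro _
      simp only [Fin.cons_zero, Fin.cons_succ]
      rw [polar_comm]; exact hwv b
    · intro _
      simp only [Fin.cons_zero, Fin.cons_succ]
      exact hwv a
    · intro h
      simp only [Fin.cons_succ]
      exact horth a b (fun e => h (by rw [e]))

omit [DecidableEq ι] in
/-- a vector orthogonal to `n - 1` orthogonal nonsingular vectors is a multiple of any nonsingular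
such vector -/
theorem eq_smul_of_perp (h2 : (2 : F) ≠ 0) (Q : QuadraticForm F (ι → F))
    (hQ : (polarBilin Q).Nondegenerate) {k : ℕ}
    (v : Fin k → ι → F) (hv : ∀ i, Q (v i) ≠ 0)
    (horth : ∀ i j, i ≠ j → polar ⇑Q (v i) (v j) = 0) (hk : Fintype.card ι ≤ k + 1)
    (x : ι → F) (hx : Q x ≠ 0) (hxv : ∀ i, polar ⇑Q (v i) x = 0)
    (z : ι → F) (hz : ∀ i, polar ⇑Q (v i) z = 0) : ∃ l : F, z = l • x := by
  classical
  refine ⟨polar ⇑Q x z / (2 * Q x), ?_⟩
  obtain ⟨h1, h3⟩ := cons_props Q v hv horth x hx hxv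
  have hz0 := eq_zero_of_perp h2 Q hQ (Fin.cons x v : Fin (k + 1) → ι → F) h1 h3 hk
    (z - (polar ⇑Q x z / (2 * Q x)) • x) (by
      intro i
      refine Fin.cases ?_ (fun i => ?_) i
      · simp only [Fin.cons_zero]
        rw [polar_sub_right, polar_smul_right, polar_self, nsmul_eq_mul, smul_eq_mul]
        field_simp
        ring
      · simp only [Fin.cons_succ]
        rw [polar_sub_right, polar_smul_right, hz i, hxv i, smul_zero, sub_zero])
  exact sub_eq_zero.mp hz0

/-- the determinant of an isometry, as an element of the field -/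
noncomputable abbrev detF (Q : QuadraticForm F (ι → F)) (g : ↥(isometryGroup F ⇑Q)) : F :=
  (((g : Matrix.GeneralLinearGroup ι F) : Matrix ι ι F)).det

theorem detF_mul (Q : QuadraticForm F (ι → F)) (g h : ↥(isometryGroup F ⇑Q)) :
    detF Q (g * h) = detF Q g * detF Q h := by
  unfold detF
  rw [← Matrix.det_mul]
  rfl

theorem detF_one (Q : QuadraticForm F (ι → F)) : detF Q 1 = 1 := by
  unfold detF
  show (1 : Matrix ι ι F).det = 1
  exact Matrix.det_one

theorem detF_reflection (Q : QuadraticForm F (ι → F)) (v : ι → F) (hv : Q v ≠ 0) :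
    detF Q (reflection Q v hv) = -1 := reflection_det Q v hv

theorem reflection_mul_self' (Q : QuadraticForm F (ι → F)) (v : ι → F) (hv : Q v ≠ 0) :
    reflection Q v hv * reflection Q v hv = 1 := by
  apply Subtype.ext
  apply Units.ext
  exact reflection_mul_self Q v hv

theorem reflection_inv (Q : QuadraticForm F (ι → F)) (v : ι → F) (hv : Q v ≠ 0) :
    (reflection Q v hv)⁻¹ = reflection Q v hv :=
  inv_eq_of_mul_eq_one_left (reflection_mul_self' Q v hv)

theorem act_one (Q : QuadraticForm F (ι → F)) (x : ι → F) : act Q 1 x = x := by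
  show (1 : Matrix ι ι F) *ᵥ x = x
  rw [one_mulVec]

theorem act_sub (Q : QuadraticForm F (ι → F)) (g : ↥(isometryGroup F ⇑Q)) (x y : ι → F) :
    act Q g (x - y) = act Q g x - act Q g y := Matrix.mulVec_sub _ _ _

theorem act_add (Q : QuadraticForm F (ι → F)) (g : ↥(isometryGroup F ⇑Q)) (x y : ι → F) :
    act Q g (x + y) = act Q g x + act Q g y := Matrix.mulVec_add _ _ _

theorem act_smul (Q : QuadraticForm F (ι → F)) (g : ↥(isometryGroup F ⇑Q)) (c : F) (x : ι → F) :
    act Q g (c • x) = c • act Q g x := Matrix.mulVec_smul _ _ _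

theorem act_neg (Q : QuadraticForm F (ι → F)) (g : ↥(isometryGroup F ⇑Q)) (x : ι → F) :
    act Q g (-x) = -act Q g x := Matrix.mulVec_neg _ _

theorem act_reflection_of_perp (Q : QuadraticForm F (ι → F)) (v : ι → F) (hv : Q v ≠ 0)
    (x : ι → F) (hx : polar ⇑Q v x = 0) : act Q (reflection Q v hv) x = x := by
  rw [act_reflection, hx, mul_zero, zero_smul, sub_zero]

theorem act_reflection_self (Q : QuadraticForm F (ι → F)) (v : ι → F) (hv : Q v ≠ 0) :
    act Q (reflection Q v hv) v = -v := reflection_self Q v hv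

/-- an isometry fixing `n - 1` orthogonal nonsingular vectors is `1` or a reflection -/
theorem eq_one_or_reflection (h2 : (2 : F) ≠ 0) (Q : QuadraticForm F (ι → F))
    (hQ : (polarBilin Q).Nondegenerate) {k : ℕ}
    (v : Fin k → ι → F) (hv : ∀ i, Q (v i) ≠ 0)
    (horth : ∀ i j, i ≠ j → polar ⇑Q (v i) (v j) = 0) (hk : Fintype.card ι ≤ k + 1)
    (x : ι → F) (hx : Q x ≠ 0) (hxv : ∀ i, polar ⇑Q (v i) x = 0)
    (g : ↥(isometryGroup F ⇑Q)) (hg : ∀ i, act Q g (v i) = v i) :
    g = 1 ∨ g = reflection Q x hx := by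
  obtain ⟨h1, h3⟩ := cons_props Q v hv horth x hx hxv
  have hz : ∀ i, polar ⇑Q (v i) (act Q g x) = 0 := by
    intro i
    rw [← hg i, polar_act, hxv i]
  obtain ⟨l, hl⟩ := eq_smul_of_perp h2 Q hQ v hv horth hk x hx hxv (act Q g x) hz
  have hl2 : l * l = 1 := by
    have := quad_act Q g x
    rw [hl, QuadraticMap.map_smul, smul_eq_mul] at this
    have h4 : (l * l - 1) * Q x = 0 := by linear_combination this
    rcases mul_eq_zero.mp h4 with h | h
    · linear_combination h
    · exact absurd h hx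
  have hl' : l = 1 ∨ l = -1 := by
    have : (l - 1) * (l + 1) = 0 := by linear_combination hl2
    rcases mul_eq_zero.mp this with h | h
    · left; linear_combination h
    · right; linear_combination h
  rcases hl' with rfl | rfl
  · left
    refine eq_one_of_fix h2 Q (Fin.cons x v : Fin (k + 1) → ι → F) h1 h3 hk g ?_
    intro i
    refine Fin.cases ?_ (fun i => ?_) i
    · simp only [Fin.cons_zero]
      rw [hl, one_smul]
    · simp only [Fin.cons_succ]
      exact hg i
  · right
    have : reflection Q x hx * g = 1 := by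
      refine eq_one_of_fix h2 Q (Fin.cons x v : Fin (k + 1) → ι → F) h1 h3 hk _ ?_
      intro i
      refine Fin.cases ?_ (fun i => ?_) i
      · simp only [Fin.cons_zero]
        rw [act_mul, hl, act_smul, act_reflection_self]
        simp
      · simp only [Fin.cons_succ]
        rw [act_mul, hg i, act_reflection_of_perp]
        rw [polar_comm]; exact hxv i
    rw [← reflection_inv Q x hx]
    exact (inv_eq_of_mul_eq_one_right this).symm

/-- an isometry of determinant `-1` fixing `n - 2` orthogonal nonsingular vectors is a reflection -/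
theorem exists_reflection_of_fix (h2 : (2 : F) ≠ 0) (Q : QuadraticForm F (ι → F))
    (hQ : (polarBilin Q).Nondegenerate) {k : ℕ}
    (v : Fin k → ι → F) (hv : ∀ i, Q (v i) ≠ 0)
    (horth : ∀ i j, i ≠ j → polar ⇑Q (v i) (v j) = 0) (hk : Fintype.card ι = k + 2)
    (h : ↥(isometryGroup F ⇑Q)) (hh : ∀ i, act Q h (v i) = v i) (hdet : detF Q h = -1) :
    ∃ (y : ι → F) (hy : Q y ≠ 0), (∀ i, polar ⇑Q (v i) y = 0) ∧ h = reflection Q y hy := by
  have h11 : (1 : F) ≠ -1 := by
    intro h
    apply h2
    linear_combination h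
  obtain ⟨x, hx, hxv⟩ := exists_anisotropic_perp h2 Q hQ v hv horth (by omega)
  obtain ⟨h1, h3⟩ := cons_props Q v hv horth x hx hxv
  obtain ⟨x', hx', hx'v⟩ := exists_anisotropic_perp h2 Q hQ (Fin.cons x v : Fin (k + 1) → ι → F)
    h1 h3 (by omega)
  have hx'x : polar ⇑Q x x' = 0 := by simpa using hx'v 0
  have hx'v' : ∀ i, polar ⇑Q (v i) x' = 0 := fun i => by simpa using hx'v i.succ
  -- key: isometries fixing x and the v i
  have key : ∀ g : ↥(isometryGroup F ⇑Q), (∀ i, act Q g (v i) = v i) → act Q g x = x →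
      g = 1 ∨ g = reflection Q x' hx' := by
    intro g hg hgx
    refine eq_one_or_reflection h2 Q hQ (Fin.cons x v : Fin (k + 1) → ι → F) h1 h3 (by omega)
      x' hx' hx'v g ?_
    intro i
    refine Fin.cases ?_ (fun i => ?_) i
    · simpa using hgx
    · simpa using hg i
  by_cases he : act Q h x = x
  · rcases key h hh he with h0 | h0
    · exfalso
      rw [h0, detF_one] at hdet
      exact h11 hdet
    · exact ⟨x', hx', hx'v', h0⟩
  · have hQe : Q (x - act Q h x) ≠ 0 := by
      intro h0
      have hpx : polar ⇑Q x (x - act Q h x) = 0 := by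
        have := quad_sub' Q x (act Q h x)
        rw [h0, quad_act] at this
        rw [polar_sub_right, polar_self, nsmul_eq_mul]
        push_cast
        linear_combination -this
      have hpv : ∀ i, polar ⇑Q ((Fin.cons x v : Fin (k + 1) → ι → F) i) (x - act Q h x) = 0 := by
        intro i
        refine Fin.cases ?_ (fun i => ?_) i
        · simpa using hpx
        · simp only [Fin.cons_succ]
          rw [polar_sub_right, hxv i, zero_sub, neg_eq_zero]
          rw [← hh i, polar_act, hxv i]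
      obtain ⟨l, hl⟩ := eq_smul_of_perp h2 Q hQ (Fin.cons x v : Fin (k + 1) → ι → F) h1 h3
        (by omega) x' hx' hx'v _ hpv
      rw [hl, QuadraticMap.map_smul, smul_eq_mul] at h0
      rcases mul_eq_zero.mp h0 with h | h
      · have hl0 : l = 0 := by
          rcases mul_eq_zero.mp h with h | h <;> exact h
        rw [hl0, zero_smul] at hl
        exact he (sub_eq_zero.mp hl).symm
      · exact hx' h
    have hQx : Q x = Q (act Q h x) := (quad_act Q h x).symm
    have hpv : ∀ i, polar ⇑Q (x - act Q h x) (v i) = 0 := by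
      intro i
      rw [polar_sub_left, polar_comm, hxv i, zero_sub, neg_eq_zero, polar_comm]
      rw [← hh i, polar_act, hxv i]
    rcases key (reflection Q (x - act Q h x) hQe * h) (fun i => by
        rw [act_mul, hh i, act_reflection_of_perp Q _ hQe _ (hpv i)]) (by
        rw [act_mul]; exact refl_move Q x (act Q h x) hQx hQe) with h0 | h0
    · refine ⟨x - act Q h x, hQe, fun i => by rw [polar_comm]; exact hpv i, ?_⟩
      rw [← reflection_inv Q _ hQe]
      exact (inv_eq_of_mul_eq_one_right h0).symm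
    · exfalso
      have := congrArg (detF Q) h0
      rw [detF_mul, detF_reflection, detF_reflection, hdet] at this
      apply h11
      linear_combination this

omit [DecidableEq ι] in
/-- an orthogonal family of nonsingular vectors can be extended -/
theorem exists_complement (h2 : (2 : F) ≠ 0) (Q : QuadraticForm F (ι → F))
    (hQ : (polarBilin Q).Nondegenerate) :
    ∀ (j k : ℕ) (v : Fin k → ι → F), (∀ i, Q (v i) ≠ 0) →
      (∀ i i', i ≠ i' → polar ⇑Q (v i) (v i') = 0) → k + j ≤ Fintype.card ι →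
      ∃ w : Fin j → ι → F, (∀ i, Q (w i) ≠ 0) ∧ (∀ i i', i ≠ i' → polar ⇑Q (w i) (w i') = 0) ∧
        ∀ i i', polar ⇑Q (v i) (w i') = 0 := by
  intro j
  induction j with
  | zero =>
    intro k v _ _ _
    exact ⟨fun i => i.elim0, fun i => i.elim0, fun i => i.elim0, fun _ i => i.elim0⟩
  | succ j ih =>
    intro k v hv horth hk
    obtain ⟨z, hz, hzv⟩ := exists_anisotropic_perp h2 Q hQ v hv horth (by omega)
    obtain ⟨h1, h3⟩ := cons_props Q v hv horth z hz hzv
    obtain ⟨w, hw1, hw2, hw3⟩ := ih (k + 1) (Fin.cons z v) h1 h3 (by omega)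
    have hzw : ∀ i, polar ⇑Q z (w i) = 0 := fun i => by simpa using hw3 0 i
    have hvw : ∀ i i', polar ⇑Q (v i) (w i') = 0 := fun i i' => by simpa using hw3 i.succ i'
    obtain ⟨h1', h3'⟩ := cons_props Q w hw1 hw2 z hz (fun i => by rw [polar_comm]; exact hzw i)
    refine ⟨Fin.cons z w, h1', h3', ?_⟩
    intro i i'
    refine Fin.cases ?_ (fun a => ?_) i'
    · simpa using hzv i
    · simpa using hvw i a

theorem exists_diag_rep [Fintype F] (h2 : (2 : F) ≠ 0) (α β c : F) (hα : α ≠ 0) (hβ : β ≠ 0) :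
    ∃ a b : F, α * a ^ 2 + β * b ^ 2 = c := by
  classical
  have hodd : Fintype.card F % 2 = 1 := by
    apply FiniteField.odd_card_of_char_ne_two
    intro hch
    have : CharP F 2 := by rw [← hch]; exact ringChar.charP F
    exact h2 (CharTwo.two_eq_zero)
  have hf : (Polynomial.C α * Polynomial.X ^ 2 : Polynomial F).degree = 2 := by
    rw [Polynomial.degree_C_mul_X_pow 2 hα]; rfl
  have hg : (Polynomial.C β * Polynomial.X ^ 2 - Polynomial.C c : Polynomial F).degree = 2 := by
    rw [Polynomial.degree_sub_C]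
    · rw [Polynomial.degree_C_mul_X_pow 2 hβ]; rfl
    · rw [Polynomial.degree_C_mul_X_pow 2 hβ]; norm_num
  obtain ⟨a, b, hab⟩ := FiniteField.exists_root_sum_quadratic hf hg hodd
  refine ⟨a, b, ?_⟩
  simp only [Polynomial.eval_mul, Polynomial.eval_C, Polynomial.eval_pow, Polynomial.eval_X,
    Polynomial.eval_sub] at hab
  linear_combination hab

/-- in a nondegenerate plane, a product of two reflections can be rewritten so that the first
reflection has any prescribed norm -/
theorem plane_rewrite [Fintype F] (h2 : (2 : F) ≠ 0) (Q : QuadraticForm F (ι → F))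
    (hQ : (polarBilin Q).Nondegenerate) (u w : ι → F) (hu : Q u ≠ 0) (hw : Q w ≠ 0)
    (hd : 4 * Q u * Q w - polar ⇑Q u w ^ 2 ≠ 0) (c : F) (hc : c ≠ 0) :
    ∃ (x y : ι → F) (hx : Q x ≠ 0) (hy : Q y ≠ 0), Q x = c ∧
      reflection Q u hu * reflection Q w hw = reflection Q x hx * reflection Q y hy := by
  have h4 : (4 : F) ≠ 0 := by
    have : (4 : F) = 2 * 2 := by norm_num
    rw [this]; exact mul_ne_zero h2 h2
  obtain ⟨p, hp⟩ : ∃ p, p = polar ⇑Q u w := ⟨_, rfl⟩
  obtain ⟨u', hu'⟩ : ∃ u', u' = w - (p / (2 * Q u)) • u := ⟨_, rfl⟩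
  have hw_eq : w = u' + (p / (2 * Q u)) • u := by rw [hu']; abel
  have hpuu' : polar ⇑Q u u' = 0 := by
    rw [hu', polar_sub_right, polar_smul_right, polar_self, nsmul_eq_mul, smul_eq_mul, ← hp]
    field_simp
    ring
  have hQu' : Q u' = (4 * Q u * Q w - p ^ 2) / (4 * Q u) := by
    have := quad_add_smul Q w u (-(p / (2 * Q u)))
    rw [neg_smul, ← sub_eq_add_neg, ← hu', polar_comm, ← hp] at this
    rw [this]
    field_simp
    ring
  have hu'0 : Q u' ≠ 0 := by
    rw [hQu']
    apply div_ne_zero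
    · rw [hp]; exact hd
    · exact mul_ne_zero h4 hu
  have hcard : 2 ≤ Fintype.card ι := by
    by_contra hlt
    push Not at hlt
    have := eq_zero_of_perp h2 Q hQ (![u] : Fin 1 → ι → F) (fun i => by
      fin_cases i; simpa using hu) (fun i j hij => by
      exfalso; apply hij; exact Subsingleton.elim _ _) (by omega) u' (fun i => by
      fin_cases i; simpa using hpuu')
    rw [this, map_zero] at hu'0
    exact hu'0 rfl
  -- the family `![u, u']`
  have hf1 : ∀ i, Q ((![u, u'] : Fin 2 → ι → F) i) ≠ 0 := by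
    intro i
    fin_cases i
    · simpa using hu
    · simpa using hu'0
  have hf2 : ∀ i j, i ≠ j → polar ⇑Q ((![u, u'] : Fin 2 → ι → F) i)
      ((![u, u'] : Fin 2 → ι → F) j) = 0 := by
    intro i j hij
    fin_cases i <;> fin_cases j
    · exact absurd rfl hij
    · simpa using hpuu'
    · simp only [Fin.mk_one, Fin.zero_eta, Matrix.cons_val_one, Matrix.cons_val_zero]
      rw [polar_comm]; exact hpuu'
    · exact absurd rfl hij
  obtain ⟨vs, hvs1, hvs2, hvs3⟩ := exists_complement h2 Q hQ (Fintype.card ι - 2) 2 ![u, u'] hf1 hf2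
    (by omega)
  have hvu : ∀ i, polar ⇑Q (vs i) u = 0 := fun i => by
    rw [polar_comm]; simpa using hvs3 0 i
  have hvu' : ∀ i, polar ⇑Q (vs i) u' = 0 := fun i => by
    rw [polar_comm]; simpa using hvs3 1 i
  have hvw : ∀ i, polar ⇑Q (vs i) w = 0 := fun i => by
    rw [hw_eq, polar_add_right, polar_smul_right, hvu i, hvu' i, smul_zero, add_zero]
  obtain ⟨a, b, hab⟩ := exists_diag_rep h2 (Q u') (Q u) c hu'0 hu
  obtain ⟨x, hx⟩ : ∃ x, x = a • u' + b • u := ⟨_, rfl⟩
  have hQx : Q x = c := by
    have := quad_add_smul Q (a • u') u b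
    rw [← hx, QuadraticMap.map_smul, polar_smul_left, polar_comm, hpuu', smul_zero, mul_zero,
      add_zero, smul_eq_mul] at this
    rw [this, ← hab]
    ring
  have hx0 : Q x ≠ 0 := by rw [hQx]; exact hc
  have hvx : ∀ i, polar ⇑Q (vs i) x = 0 := fun i => by
    rw [hx, polar_add_right, polar_smul_right, polar_smul_right, hvu i, hvu' i, smul_zero,
      smul_zero, add_zero]
  obtain ⟨y, hy, -, hyeq⟩ := exists_reflection_of_fix h2 Q hQ vs hvs1 hvs2 (by omega)
    (reflection Q x hx0 * (reflection Q u hu * reflection Q w hw)) (fun i => by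
      rw [act_mul, act_mul, act_reflection_of_perp Q w hw _ (by rw [polar_comm]; exact hvw i),
        act_reflection_of_perp Q u hu _ (by rw [polar_comm]; exact hvu i),
        act_reflection_of_perp Q x hx0 _ (by rw [polar_comm]; exact hvx i)]) (by
      rw [detF_mul, detF_mul, detF_reflection, detF_reflection, detF_reflection]
      ring)
  refine ⟨x, y, hx0, hy, hQx, ?_⟩
  rw [← hyeq, ← mul_assoc, reflection_mul_self', one_mul]

omit [DecidableEq ι] in
/-- a singular vector orthogonal to `n - 1` orthogonal nonsingular vectors is zero -/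
theorem eq_zero_of_singular_perp (h2 : (2 : F) ≠ 0) (Q : QuadraticForm F (ι → F))
    (hQ : (polarBilin Q).Nondegenerate) {k : ℕ}
    (v : Fin k → ι → F) (hv : ∀ i, Q (v i) ≠ 0)
    (horth : ∀ i j, i ≠ j → polar ⇑Q (v i) (v j) = 0) (hk : Fintype.card ι ≤ k + 1)
    (z : ι → F) (hz : ∀ i, polar ⇑Q (v i) z = 0) (hz0 : Q z = 0) : z = 0 := by
  by_cases hk' : Fintype.card ι ≤ k
  · exact eq_zero_of_perp h2 Q hQ v hv horth hk' z hz
  · obtain ⟨x, hx, hxv⟩ := exists_anisotropic_perp h2 Q hQ v hv horth (by omega)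
    obtain ⟨l, hl⟩ := eq_smul_of_perp h2 Q hQ v hv horth hk x hx hxv z hz
    rw [hl, QuadraticMap.map_smul, smul_eq_mul] at hz0
    rcases mul_eq_zero.mp hz0 with h | h
    · have hl0 : l = 0 := by
        rcases mul_eq_zero.mp h with h | h <;> exact h
      rw [hl, hl0, zero_smul]
    · exact absurd h hx

omit [Fintype ι] [DecidableEq ι] in
/-- a hyperbolic partner of a singular vector inside the orthogonal complement of a nonsingular
vector -/
theorem exists_partner_perp (h2 : (2 : F) ≠ 0) (Q : QuadraticForm F (ι → F))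
    (hQ : (polarBilin Q).Nondegenerate) (u e : ι → F) (hu : Q u ≠ 0) (he0 : e ≠ 0)
    (he : Q e = 0) (hue : polar ⇑Q u e = 0) :
    ∃ f, Q f = 0 ∧ polar ⇑Q e f = 1 ∧ polar ⇑Q u f = 0 := by
  obtain ⟨g0, hg0⟩ : ∃ g0, polar ⇑Q e g0 ≠ 0 := by
    by_contra hcon
    push Not at hcon
    exact he0 (hQ.1 e hcon)
  obtain ⟨g1, hg1⟩ : ∃ g1, g1 = g0 - (polar ⇑Q u g0 / (2 * Q u)) • u := ⟨_, rfl⟩
  have heg1 : polar ⇑Q e g1 = polar ⇑Q e g0 := by
    rw [hg1, polar_sub_right, polar_smul_right, polar_comm ⇑Q e u, hue, smul_zero, sub_zero]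
  have hug1 : polar ⇑Q u g1 = 0 := by
    rw [hg1, polar_sub_right, polar_smul_right, polar_self, nsmul_eq_mul, smul_eq_mul]
    field_simp
    ring
  obtain ⟨g2, hg2⟩ : ∃ g2, g2 = (polar ⇑Q e g0)⁻¹ • g1 := ⟨_, rfl⟩
  have heg2 : polar ⇑Q e g2 = 1 := by
    rw [hg2, polar_smul_right, heg1, smul_eq_mul, inv_mul_cancel₀ hg0]
  have hug2 : polar ⇑Q u g2 = 0 := by
    rw [hg2, polar_smul_right, hug1, smul_zero]
  refine ⟨g2 - Q g2 • e, ?_, ?_, ?_⟩
  · have := quad_add_smul Q g2 e (-(Q g2))
    rw [neg_smul, ← sub_eq_add_neg] at this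
    rw [this, he, polar_comm, heg2]
    ring
  · rw [polar_sub_right, polar_smul_right, polar_self, he, heg2]
    simp
  · rw [polar_sub_right, polar_smul_right, hug2, hue]
    simp

section classes
variable [Fintype F] (Q : QuadraticForm F (ι → F))

/-- the subgroup generated by the reflections whose norm lies in the square class of `c` -/
def classSubgroup (c : F) : Subgroup ↥(isometryGroup F ⇑Q) :=
  Subgroup.closure {g : ↥(isometryGroup F ⇑Q) | ∃ (v : ι → F) (t : F), t ≠ 0 ∧ Q v = c * t ^ 2 ∧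
    ((g : Matrix.GeneralLinearGroup ι F) : Matrix ι ι F) = reflectionMatrix ⇑Q v}

omit [Fintype ι] [DecidableEq ι] in
theorem class_iff (c : F) (hc : c ≠ 0) (v : ι → F) :
    (∃ t : F, t ≠ 0 ∧ Q v = c * t ^ 2) ↔ Q v ≠ 0 ∧ sgn (Q v) = sgn c := by
  constructor
  · rintro ⟨t, ht, h⟩
    have ht2 : t ^ 2 ≠ 0 := pow_ne_zero 2 ht
    refine ⟨by rw [h]; exact mul_ne_zero hc ht2, ?_⟩
    rw [h, sgn_mul hc ht2, sgn_of_isSquare ⟨t, sq t⟩, mul_one]
  · rintro ⟨h0, h⟩
    have hsq : IsSquare (Q v * c) := by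
      rw [← sgn_eq_one_iff, sgn_mul h0 hc, h]
      rcases Int.units_eq_one_or (sgn c) with h | h <;> rw [h] <;> rfl
    obtain ⟨s, hs⟩ := hsq
    have hs0 : s ≠ 0 := by
      rintro rfl
      rw [mul_zero] at hs
      exact mul_ne_zero h0 hc hs
    refine ⟨s / c, div_ne_zero hs0 hc, ?_⟩
    field_simp
    linear_combination hs

theorem reflection_mem_class (c : F) (hc : c ≠ 0) (v : ι → F) (hv : Q v ≠ 0)
    (h : sgn (Q v) = sgn c) : reflection Q v hv ∈ classSubgroup Q c := by
  obtain ⟨t, ht, h'⟩ := (class_iff Q c hc v).2 ⟨hv, h⟩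
  exact Subgroup.subset_closure ⟨v, t, ht, h', rfl⟩

theorem conj_mem_class (c : F) (hc : c ≠ 0) (g : ↥(isometryGroup F ⇑Q))
    (r : ↥(isometryGroup F ⇑Q)) (hr : r ∈ classSubgroup Q c) :
    g * r * g⁻¹ ∈ classSubgroup Q c := by
  unfold classSubgroup at hr
  induction hr using Subgroup.closure_induction with
  | mem x hx =>
    obtain ⟨v, t, ht, hv, hx⟩ := hx
    obtain ⟨hv0, hvs⟩ := (class_iff Q c hc v).1 ⟨t, ht, hv⟩
    have hxe : x = reflection Q v hv0 := by
      apply Subtype.ext
      apply Units.ext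
      exact hx
    rw [hxe, conj_reflection]
    apply reflection_mem_class Q c hc
    rw [quad_act]; exact hvs
  | one => rw [mul_one, mul_inv_cancel]; exact Subgroup.one_mem _
  | mul x y _ _ hx hy =>
    have : g * (x * y) * g⁻¹ = (g * x * g⁻¹) * (g * y * g⁻¹) := by group
    rw [this]; exact Subgroup.mul_mem _ hx hy
  | inv x _ hx =>
    have : g * x⁻¹ * g⁻¹ = (g * x * g⁻¹)⁻¹ := by group
    rw [this]; exact Subgroup.inv_mem _ hx

theorem theta_reflection (h2 : (2 : F) ≠ 0) (hQ : (polarBilin Q).Nondegenerate) (v : ι → F)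
    (hv : Q v ≠ 0) : theta Q h2 hQ (reflection Q v hv) = (-1, sgn (Q v)) := by
  rw [theta_eq Q h2 hQ _ [v] (isRep_reflection Q v hv)]
  unfold inv2
  simp

theorem theta_mem_class (h2 : (2 : F) ≠ 0) (hQ : (polarBilin Q).Nondegenerate) (c : F)
    (hc : c ≠ 0) (r : ↥(isometryGroup F ⇑Q)) (hr : r ∈ classSubgroup Q c) :
    theta Q h2 hQ r = 1 ∨ theta Q h2 hQ r = (-1, sgn c) := by
  have hee : ((-1, sgn c) : ℤˣ × ℤˣ) * (-1, sgn c) = 1 := by
    rcases Int.units_eq_one_or (sgn c) with h | h <;> rw [h] <;> rfl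
  unfold classSubgroup at hr
  induction hr using Subgroup.closure_induction with
  | mem x hx =>
    obtain ⟨v, t, ht, hv, hx⟩ := hx
    obtain ⟨hv0, hvs⟩ := (class_iff Q c hc v).1 ⟨t, ht, hv⟩
    have hxe : x = reflection Q v hv0 := by
      apply Subtype.ext
      apply Units.ext
      exact hx
    right
    rw [hxe, theta_reflection, hvs]
  | one => left; exact map_one _
  | mul x y _ _ hx hy =>
    rw [map_mul]
    rcases hx with hx | hx <;> rcases hy with hy | hy <;> rw [hx, hy]
    · left; rfl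
    · right; rw [one_mul]
    · right; rw [mul_one]
    · left; exact hee
  | inv x _ hx =>
    rw [map_inv]
    rcases hx with hx | hx <;> rw [hx]
    · left; rfl
    · right
      exact inv_eq_of_mul_eq_one_left hee

/-- in a nondegenerate plane, a product of two reflections of the same class lies in every
class subgroup -/
theorem pair_mem_of_nondeg (h2 : (2 : F) ≠ 0) (hQ : (polarBilin Q).Nondegenerate) (c : F)
    (hc : c ≠ 0) (u w : ι → F) (hu : Q u ≠ 0) (hw : Q w ≠ 0) (hs : sgn (Q u) = sgn (Q w))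
    (hd : 4 * Q u * Q w - polar ⇑Q u w ^ 2 ≠ 0) :
    reflection Q u hu * reflection Q w hw ∈ classSubgroup Q c := by
  obtain ⟨x, y, hx, hy, hxc, heq⟩ := plane_rewrite h2 Q hQ u w hu hw hd c hc
  have hth := congrArg (theta Q h2 hQ) heq
  rw [map_mul, map_mul, theta_reflection, theta_reflection, theta_reflection, theta_reflection,
    hs, hxc] at hth
  have hy' : sgn (Q y) = sgn c := by
    have h1 := congrArg Prod.snd hth
    simp only [Prod.snd_mul] at h1
    have hww : sgn (Q w) * sgn (Q w) = 1 := by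
      rcases Int.units_eq_one_or (sgn (Q w)) with h | h <;> rw [h] <;> rfl
    have hcc : sgn c * sgn c = 1 := by
      rcases Int.units_eq_one_or (sgn c) with h | h <;> rw [h] <;> rfl
    rw [hww] at h1
    calc sgn (Q y) = (sgn c * sgn c) * sgn (Q y) := by rw [hcc, one_mul]
      _ = sgn c * (sgn c * sgn (Q y)) := mul_assoc _ _ _
      _ = sgn c := by rw [← h1, mul_one]
  rw [heq]
  exact Subgroup.mul_mem _ (reflection_mem_class Q c hc x hx (by rw [hxc]))
    (reflection_mem_class Q c hc y hy hy')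

omit [DecidableEq ι] [Fintype ι] in
theorem exists_ne3 (hF : 4 ≤ Fintype.card F) : ∃ μ : F, μ ≠ 0 ∧ μ ≠ 1 ∧ μ ≠ -1 := by
  classical
  by_contra hcon
  push Not at hcon
  have hsub : (Finset.univ : Finset F) ⊆ {0, 1, -1} := by
    intro μ _
    simp only [Finset.mem_insert, Finset.mem_singleton]
    by_cases h0 : μ = 0
    · left; exact h0
    · by_cases h1 : μ = 1
      · right; left; exact h1
      · right; right; exact hcon μ h0 h1
  have := Finset.card_le_card hsub
  rw [Finset.card_univ] at this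
  have h3 : ({0, 1, -1} : Finset F).card ≤ 3 := Finset.card_le_three
  omega

omit [DecidableEq ι] in
theorem exists_mid (h2 : (2 : F) ≠ 0) (hQ : (polarBilin Q).Nondegenerate)
    (heven : Even (Fintype.card ι)) (h43 : ¬ (Fintype.card ι = 4 ∧ Fintype.card F = 3))
    (u e : ι → F) (hu : Q u ≠ 0) (he0 : e ≠ 0) (he : Q e = 0) (hue : polar ⇑Q u e = 0) :
    ∃ (m : ι → F) (l : F), polar ⇑Q u m = 0 ∧ polar ⇑Q e m = 0 ∧ Q m ≠ 0 ∧
      l ^ 2 * Q u + Q m ≠ 0 ∧ sgn (l ^ 2 * Q u + Q m) = sgn (Q u) := by
  classical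
  obtain ⟨f, hf, hef, huf⟩ := exists_partner_perp h2 Q hQ u e hu he0 he hue
  have hee : polar ⇑Q e e = 0 := by rw [polar_self, he, smul_zero]
  have hff : polar ⇑Q f f = 0 := by rw [polar_self, hf, smul_zero]
  have hQp1 : Q (e + f) = 1 := by rw [quad_add', he, hf, hef]; ring
  have hQp2 : Q (e - f) = -1 := by rw [quad_sub', he, hf, hef]; ring
  have hp12 : polar ⇑Q (e + f) (e - f) = 0 := by
    rw [polar_add_left, polar_sub_right, polar_sub_right, hee, hff, polar_comm ⇑Q f e, hef]
    ring
  have hup1 : polar ⇑Q u (e + f) = 0 := by rw [polar_add_right, hue, huf, add_zero]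
  have hup2 : polar ⇑Q u (e - f) = 0 := by rw [polar_sub_right, hue, huf, sub_zero]
  have hcard : 4 ≤ Fintype.card ι := by
    have h3 : ¬ Fintype.card ι ≤ 2 := by
      intro hle
      apply he0
      refine eq_zero_of_singular_perp h2 Q hQ (![u] : Fin 1 → ι → F) (fun i => by
        fin_cases i; simpa using hu) (fun i j hij => by
        exfalso; apply hij; exact Subsingleton.elim _ _) (by omega) e (fun i => by
        fin_cases i; simpa using hue) he
    obtain ⟨r, hr⟩ := heven
    omega
  have hf1 : ∀ i, Q ((![u, e + f, e - f] : Fin 3 → ι → F) i) ≠ 0 := by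
    intro i
    fin_cases i
    · simpa using hu
    · simp [hQp1]
    · simp [hQp2]
  have hf2 : ∀ i j, i ≠ j → polar ⇑Q ((![u, e + f, e - f] : Fin 3 → ι → F) i)
      ((![u, e + f, e - f] : Fin 3 → ι → F) j) = 0 := by
    intro i j hij
    fin_cases i <;> fin_cases j
    · exact absurd rfl hij
    · simpa using hup1
    · simpa using hup2
    · simp only [Fin.mk_one, Fin.zero_eta, Matrix.cons_val_one, Matrix.cons_val_zero]
      rw [polar_comm]; exact hup1
    · exact absurd rfl hij
    · simpa using hp12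
    · simp only [Fin.reduceFinMk, Fin.zero_eta, Matrix.cons_val_two, Matrix.cons_val_zero,
        Matrix.tail_cons, Matrix.head_cons]
      rw [polar_comm]; exact hup2
    · simp only [Fin.reduceFinMk, Fin.mk_one, Matrix.cons_val_two, Matrix.cons_val_one,
        Matrix.tail_cons, Matrix.head_cons]
      rw [polar_comm]; exact hp12
    · exact absurd rfl hij
  -- orthogonality to `e` from orthogonality to `e + f` and `e - f`
  have hperp_e : ∀ x, polar ⇑Q (e + f) x = 0 → polar ⇑Q (e - f) x = 0 → polar ⇑Q e x = 0 := by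
    intro x h1 h3
    rw [polar_add_left] at h1
    rw [polar_sub_left] at h3
    have : 2 * polar ⇑Q e x = 0 := by linear_combination h1 + h3
    rcases mul_eq_zero.mp this with h | h
    · exact absurd h h2
    · exact h
  by_cases h6 : 6 ≤ Fintype.card ι
  · obtain ⟨ms, hms1, hms2, hms3⟩ := exists_complement h2 Q hQ 2 3 ![u, e + f, e - f] hf1 hf2
      (by omega)
    obtain ⟨α, β, hαβ⟩ := exists_diag_rep h2 (Q (ms 0)) (Q (ms 1)) (Q u) (hms1 0) (hms1 1)
    have hum : ∀ i, polar ⇑Q u (ms i) = 0 := fun i => by simpa using hms3 0 i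
    have hem : ∀ i, polar ⇑Q e (ms i) = 0 := fun i =>
      hperp_e _ (by simpa using hms3 1 i) (by simpa using hms3 2 i)
    have hQm : Q (α • ms 0 + β • ms 1) = Q u := by
      have := quad_add_smul Q (α • ms 0) (ms 1) β
      rw [QuadraticMap.map_smul, polar_smul_left, hms2 0 1 (by decide), smul_zero, mul_zero,
        add_zero, smul_eq_mul] at this
      rw [this, ← hαβ]
      ring
    refine ⟨α • ms 0 + β • ms 1, 0, ?_, ?_, ?_, ?_, ?_⟩
    · rw [polar_add_right, polar_smul_right, polar_smul_right, hum, hum, smul_zero, smul_zero,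
        add_zero]
    · rw [polar_add_right, polar_smul_right, polar_smul_right, hem, hem, smul_zero, smul_zero,
        add_zero]
    · rw [hQm]; exact hu
    · rw [hQm]; simpa using hu
    · rw [hQm]; simp
  · have hc4 : Fintype.card ι = 4 := by
      obtain ⟨r, hr⟩ := heven
      omega
    have hF4 : 4 ≤ Fintype.card F := by
      have h1 : Fintype.card F ≠ 3 := fun h => h43 ⟨hc4, h⟩
      have h3 : Fintype.card F ≠ 2 := by
        intro h
        apply h2
        have := Nat.cast_card_eq_zero F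
        rw [h] at this
        exact_mod_cast this
      have h5 : 1 < Fintype.card F := Fintype.one_lt_card
      omega
    obtain ⟨ms, hms1, -, hms3⟩ := exists_complement h2 Q hQ 1 3 ![u, e + f, e - f] hf1 hf2
      (by omega)
    have hum : polar ⇑Q u (ms 0) = 0 := by simpa using hms3 0 0
    have hem : polar ⇑Q e (ms 0) = 0 :=
      hperp_e _ (by simpa using hms3 1 0) (by simpa using hms3 2 0)
    obtain ⟨κ, hκ⟩ : ∃ κ, κ = Q (ms 0) / Q u := ⟨_, rfl⟩
    have hκ0 : κ ≠ 0 := by rw [hκ]; exact div_ne_zero (hms1 0) hu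
    obtain ⟨μ, hμ0, hμ⟩ : ∃ μ : F, μ ≠ 0 ∧ μ ^ 2 + κ ≠ 0 := by
      by_cases h1 : (1 : F) + κ ≠ 0
      · exact ⟨1, one_ne_zero, by simpa using h1⟩
      · push Not at h1
        obtain ⟨μ, hμ0, hμ1, hμ2⟩ := exists_ne3 (F := F) hF4
        refine ⟨μ, hμ0, ?_⟩
        intro h
        have : (μ - 1) * (μ + 1) = 0 := by linear_combination h - h1
        rcases mul_eq_zero.mp this with h' | h'
        · exact hμ1 (by linear_combination h')
        · exact hμ2 (by linear_combination h')
    obtain ⟨σ, hσ⟩ : ∃ σ, σ = (μ + κ / μ) / 2 := ⟨_, rfl⟩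
    have hσ0 : σ ≠ 0 := by
      rw [hσ]
      apply div_ne_zero _ h2
      intro h
      apply hμ
      field_simp at h
      linear_combination h
    have hkey : ((κ / μ - μ) / 2) ^ 2 * Q u + Q (ms 0) = Q u * σ ^ 2 := by
      have : Q (ms 0) = κ * Q u := by rw [hκ]; field_simp
      rw [this, hσ]
      field_simp
      ring
    refine ⟨ms 0, (κ / μ - μ) / 2, hum, hem, hms1 0, ?_, ?_⟩
    · rw [hkey]; exact mul_ne_zero hu (pow_ne_zero 2 hσ0)
    · rw [hkey, sgn_mul hu (pow_ne_zero 2 hσ0), sgn_of_isSquare ⟨σ, sq σ⟩, mul_one]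

/-- a product of two reflections of the same class lies in every class subgroup -/
theorem pair_mem (h2 : (2 : F) ≠ 0) (hQ : (polarBilin Q).Nondegenerate)
    (heven : Even (Fintype.card ι)) (h43 : ¬ (Fintype.card ι = 4 ∧ Fintype.card F = 3))
    (c : F) (hc : c ≠ 0) (u w : ι → F) (hu : Q u ≠ 0) (hw : Q w ≠ 0)
    (hs : sgn (Q u) = sgn (Q w)) :
    reflection Q u hu * reflection Q w hw ∈ classSubgroup Q c := by
  by_cases hd : 4 * Q u * Q w - polar ⇑Q u w ^ 2 ≠ 0
  · exact pair_mem_of_nondeg Q h2 hQ c hc u w hu hw hs hd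
  push Not at hd
  have h4 : (4 : F) ≠ 0 := by
    have : (4 : F) = 2 * 2 := by norm_num
    rw [this]; exact mul_ne_zero h2 h2
  obtain ⟨a, ha⟩ : ∃ a, a = Q u := ⟨_, rfl⟩
  obtain ⟨p, hp⟩ : ∃ p, p = polar ⇑Q u w := ⟨_, rfl⟩
  rw [← ha, ← hp] at hd
  have ha0 : a ≠ 0 := by rw [ha]; exact hu
  have hp0 : p ≠ 0 := by
    rintro rfl
    have : 4 * a * Q w = 0 := by linear_combination hd
    exact mul_ne_zero (mul_ne_zero h4 ha0) hw this
  obtain ⟨τ, hτ⟩ : ∃ τ, τ = p / (2 * a) := ⟨_, rfl⟩
  have hτ0 : τ ≠ 0 := by rw [hτ]; exact div_ne_zero hp0 (mul_ne_zero h2 ha0)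
  have hτ2 : τ ^ 2 * a = Q w := by
    rw [hτ]
    field_simp
    linear_combination -hd
  obtain ⟨w', hw'⟩ : ∃ w', w' = τ⁻¹ • w := ⟨_, rfl⟩
  have hQw' : Q w' = a := by
    rw [hw', QuadraticMap.map_smul, smul_eq_mul, ← hτ2]
    field_simp
  have hpw' : polar ⇑Q u w' = 2 * a := by
    rw [hw', polar_smul_right, ← hp, smul_eq_mul, hτ]
    field_simp
  have hw'0 : Q w' ≠ 0 := by rw [hQw']; exact ha0
  have hrefl : reflection Q w hw = reflection Q w' hw'0 := by
    apply Subtype.ext
    apply Units.ext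
    show reflectionMatrix ⇑Q w = reflectionMatrix ⇑Q w'
    rw [hw', reflectionMatrix_smul Q _ (inv_ne_zero hτ0) w hw]
  obtain ⟨e, he⟩ : ∃ e, e = u - w' := ⟨_, rfl⟩
  have hQe : Q e = 0 := by
    rw [he, quad_sub', hQw', hpw', ← ha]; ring
  have hue : polar ⇑Q u e = 0 := by
    rw [he, polar_sub_right, polar_self, hpw', ← ha, nsmul_eq_mul]
    push_cast
    ring
  rw [hrefl]
  by_cases he0 : e = 0
  · have huw : u = w' := by rw [he] at he0; exact sub_eq_zero.mp he0
    have : reflection Q w' hw'0 = reflection Q u hu := by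
      apply Subtype.ext
      apply Units.ext
      show reflectionMatrix ⇑Q w' = reflectionMatrix ⇑Q u
      rw [huw]
    rw [this, reflection_mul_self']
    exact Subgroup.one_mem _
  · obtain ⟨m, l, hum, hem, hm0, hz0, hzs⟩ := exists_mid Q h2 hQ heven h43 u e hu he0 hQe hue
    obtain ⟨z, hz⟩ : ∃ z, z = m + l • u := ⟨_, rfl⟩
    have hQz : Q z = l ^ 2 * a + Q m := by
      rw [hz, quad_add_smul, polar_comm, hum, ← ha]; ring
    have hz0' : Q z ≠ 0 := by rw [hQz, ha]; exact hz0
    have hzs' : sgn (Q z) = sgn a := by rw [hQz, ha]; exact hzs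
    have hpuz : polar ⇑Q u z = 2 * a * l := by
      rw [hz, polar_add_right, polar_smul_right, hum, polar_self, ← ha, nsmul_eq_mul, smul_eq_mul]
      push_cast
      ring
    have hpze : polar ⇑Q z e = 0 := by
      rw [hz, polar_add_left, polar_smul_left, polar_comm ⇑Q m e, hem, hue, smul_zero, add_zero]
    have hpzw : polar ⇑Q z w' = 2 * a * l := by
      have hw'e : w' = u - e := by rw [he]; abel
      rw [hw'e, polar_sub_right, hpze, sub_zero, polar_comm, hpuz]
    have h4am : 4 * a * Q m ≠ 0 := mul_ne_zero (mul_ne_zero h4 ha0) hm0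
    have hd1 : 4 * Q u * Q z - polar ⇑Q u z ^ 2 ≠ 0 := by
      rw [hpuz, hQz, ← ha]
      intro h
      apply h4am
      linear_combination h
    have hd2 : 4 * Q z * Q w' - polar ⇑Q z w' ^ 2 ≠ 0 := by
      rw [hpzw, hQz, hQw']
      intro h
      apply h4am
      linear_combination h
    have h1 := pair_mem_of_nondeg Q h2 hQ c hc u z hu hz0' (by rw [hzs', ha]) hd1
    have h3 := pair_mem_of_nondeg Q h2 hQ c hc z w' hz0' hw'0 (by rw [hzs', hQw']) hd2
    have := Subgroup.mul_mem _ h1 h3
    rwa [mul_assoc, ← mul_assoc (reflection Q z hz0'), reflection_mul_self', one_mul] at this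

/-- the reflections of one class generate a subgroup of index two -/
theorem index_classSubgroup (h2 : (2 : F) ≠ 0) (hQ : (polarBilin Q).Nondegenerate)
    (hn : 2 ≤ Fintype.card ι)
    (heven : Even (Fintype.card ι)) (h43 : ¬ (Fintype.card ι = 4 ∧ Fintype.card F = 3))
    (c : F) (hc : c ≠ 0) : (classSubgroup Q c).index = 2 := by
  obtain ⟨ν, hν0, hν⟩ := exists_nonsquare (F := F) h2
  obtain ⟨u0, hu0⟩ := exists_quad_eq Q hQ hn (c * ν) (mul_ne_zero hc hν0)
  have hu0' : Q u0 ≠ 0 := by rw [hu0]; exact mul_ne_zero hc hν0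
  have hs0 : sgn (Q u0) = -sgn c := by
    rw [hu0, sgn_mul hc hν0, sgn_of_not_isSquare hν]
    simp
  have hcases : ∀ x : ℤˣ, x = sgn c ∨ x = -sgn c := by
    intro x
    rcases Int.units_eq_one_or x with h | h <;> rcases Int.units_eq_one_or (sgn c) with h' | h' <;>
      rw [h, h'] <;> simp
  obtain ⟨a, ha⟩ : ∃ a, a = reflection Q u0 hu0' := ⟨_, rfl⟩
  have haa : a * a = 1 := by rw [ha]; exact reflection_mul_self' Q u0 hu0'
  have hainv : a⁻¹ = a := inv_eq_of_mul_eq_one_left haa
  have hnot : a ∉ classSubgroup Q c := by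
    intro hmem
    have hth : theta Q h2 hQ a = (-1, -sgn c) := by rw [ha, theta_reflection, hs0]
    rcases theta_mem_class Q h2 hQ c hc a hmem with h | h
    · rw [hth] at h
      have := congrArg Prod.fst h
      simp at this
    · rw [hth] at h
      have := congrArg Prod.snd h
      simp only at this
      rcases Int.units_eq_one_or (sgn c) with h' | h' <;> rw [h'] at this <;> simp at this
  -- every element lies in `R` or `R a`
  have hall : ∀ b : ↥(isometryGroup F ⇑Q), b ∈ classSubgroup Q c ∨ b * a ∈ classSubgroup Q c := by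
    intro b
    have hb : b ∈ reflSubgroup Q := by rw [reflSubgroup_eq_top h2 Q hQ]; trivial
    have hstep : ∀ x : ↥(isometryGroup F ⇑Q), (∃ v : ι → F, Q v ≠ 0 ∧
        ((x : Matrix.GeneralLinearGroup ι F) : Matrix ι ι F) = reflectionMatrix ⇑Q v) →
        ∀ y : ↥(isometryGroup F ⇑Q), (y ∈ classSubgroup Q c ∨ y * a ∈ classSubgroup Q c) →
        (x * y ∈ classSubgroup Q c ∨ x * y * a ∈ classSubgroup Q c) := by
      rintro x ⟨v, hv, hx⟩ y hy
      have hxe : x = reflection Q v hv := by
        apply Subtype.ext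
        apply Units.ext
        exact hx
      rcases hcases (sgn (Q v)) with hsv | hsv
      · have hxR : x ∈ classSubgroup Q c := by
          rw [hxe]; exact reflection_mem_class Q c hc v hv hsv
        rcases hy with hy | hy
        · left; exact Subgroup.mul_mem _ hxR hy
        · right; rw [mul_assoc]; exact Subgroup.mul_mem _ hxR hy
      · have hxa : x * a ∈ classSubgroup Q c := by
          rw [hxe, ha]
          exact pair_mem Q h2 hQ heven h43 c hc v u0 hv hu0' (by rw [hsv, hs0])
        rcases hy with hy | hy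
        · right
          have h1 := conj_mem_class Q c hc a⁻¹ y hy
          rw [inv_inv, hainv] at h1
          have : x * y * a = (x * a) * (a * y * a) := by
            have h : (x * a) * (a * y * a) = x * (a * a) * y * a := by simp only [mul_assoc]
            rw [h, haa, mul_one]
          rw [this]
          exact Subgroup.mul_mem _ hxa h1
        · left
          have h1 := conj_mem_class Q c hc a⁻¹ (y * a) hy
          rw [inv_inv, hainv] at h1
          have : x * y = (x * a) * (a * (y * a) * a) := by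
            have h : (x * a) * (a * (y * a) * a) = x * (a * a) * y * (a * a) := by
              simp only [mul_assoc]
            rw [h, haa, mul_one, mul_one]
          rw [this]
          exact Subgroup.mul_mem _ hxa h1
    unfold reflSubgroup at hb
    induction hb using Subgroup.closure_induction_left with
    | one => left; exact Subgroup.one_mem _
    | mul_left x hx y _ ih => exact hstep x hx y ih
    | inv_mul_cancel x hx y _ ih =>
      obtain ⟨v, hv, hx'⟩ := hx
      have hxe : x = reflection Q v hv := by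
        apply Subtype.ext
        apply Units.ext
        exact hx'
      have : x⁻¹ = x := by rw [hxe]; exact reflection_inv Q v hv
      rw [this]
      exact hstep x ⟨v, hv, hx'⟩ y ih
  rw [Subgroup.index_eq_two_iff]
  refine ⟨a, fun b => ?_⟩
  rcases hall b with hb | hb
  · right
    refine ⟨hb, fun hba => hnot ?_⟩
    have := Subgroup.mul_mem _ (Subgroup.inv_mem _ hb) hba
    rwa [inv_mul_cancel_left] at this
  · left
    refine ⟨hb, fun hb' => hnot ?_⟩
    have := Subgroup.mul_mem _ (Subgroup.inv_mem _ hb') hb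
    rwa [inv_mul_cancel_left] at this

end classes

end Cfsg.Agent.Lib.Helper5.ReflClass
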