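import Mathlib
import Cfsg.Agent.Lib.Helper5.QuadIsom
import Cfsg.Agent.Lib.Helper5.QuadWitt

set_option autoImplicit false
set_option linter.unusedSimpArgs false
set_option linter.unusedSectionVars false

namespace Cfsg.Agent.Lib.Helper5.ReflGen

open Module QuadraticMap Cfsg.Agent.Lib.Helper5.QuadIsom Cfsg.Agent.Lib.Helper5

variable {F : Type*} [Field F] {V : Type*} [AddCommGroup V] [Module F V]

/-- nondegeneracy of the polar form -/
def ND (Q : QuadraticForm F V) : Prop := ∀ z : V, (∀ z', polar Q z z' = 0) → z = 0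

/-- linear isometries -/
def IsIsom (Q : QuadraticForm F V) (g : Module.End F V) : Prop := ∀ x, Q (g x) = Q x

/-- the reflections -/
def reflSet (Q : QuadraticForm F V) : Set (Module.End F V) :=
  {g | ∃ p, Q p ≠ 0 ∧ g = reflMap Q p}

/-- the long root elements -/
def rootSet (Q : QuadraticForm F V) : Set (Module.End F V) :=
  {g | ∃ p y, Q p = 0 ∧ Q y = 0 ∧ polar Q p y = 0 ∧ g = eichlerMap Q p y}

/-- the monoid generated by the reflections -/
def R (Q : QuadraticForm F V) : Submonoid (Module.End F V) := Submonoid.closure (reflSet Q)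

/-- the monoid generated by the reflections and the long root elements -/
def Rp (Q : QuadraticForm F V) : Submonoid (Module.End F V) :=
  Submonoid.closure (reflSet Q ∪ rootSet Q)

theorem R_le_Rp (Q : QuadraticForm F V) : R Q ≤ Rp Q :=
  Submonoid.closure_mono Set.subset_union_left

theorem refl_mem_R (Q : QuadraticForm F V) (p : V) (hp : Q p ≠ 0) : reflMap Q p ∈ R Q :=
  Submonoid.subset_closure ⟨p, hp, rfl⟩

theorem root_mem_Rp (Q : QuadraticForm F V) (p y : V) (hp : Q p = 0) (hy : Q y = 0)
    (hpy : polar Q p y = 0) : eichlerMap Q p y ∈ Rp Q :=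
  Submonoid.subset_closure (Or.inr ⟨p, y, hp, hy, hpy, rfl⟩)

theorem isIsom_one (Q : QuadraticForm F V) : IsIsom Q 1 := fun _ => rfl

theorem isIsom_mul (Q : QuadraticForm F V) {g h : Module.End F V} (hg : IsIsom Q g)
    (hh : IsIsom Q h) : IsIsom Q (g * h) := fun x => by
  rw [Module.End.mul_apply, hg, hh]

theorem polar_isIsom (Q : QuadraticForm F V) {g : Module.End F V} (hg : IsIsom Q g) (x y : V) :
    polar Q (g x) (g y) = polar Q x y := polar_of_isom Q g hg x y

/-- a reflection fixes the vectors orthogonal to its root -/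
theorem reflMap_fix (Q : QuadraticForm F V) (p x : V) (h : polar Q p x = 0) :
    reflMap Q p x = x := by
  rw [reflMap_apply, h, mul_zero, neg_zero, zero_smul, add_zero]

/-- the reflection in `b - a` moves `a` to `b` when `Q a = Q b` -/
theorem reflMap_move (Q : QuadraticForm F V) (a b : V) (hab : Q a = Q b) (hne : Q (b - a) ≠ 0) :
    reflMap Q (b - a) a = b := by
  rw [reflMap_apply]
  have h1 : polar Q (b - a) a = -Q (b - a) := by
    have h2 : Q (b - a) = Q b + Q a - polar Q b a := by
      have := quad_add_smul Q b a (-1)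
      rw [neg_one_smul, ← sub_eq_add_neg] at this
      rw [this]; ring
    rw [polar_sub_left, polar_self, h2, hab, nsmul_eq_mul]
    push_cast
    ring
  rw [h1, mul_neg, neg_neg, inv_mul_cancel₀ hne, one_smul]
  abel

theorem exists_polar_ne (Q : QuadraticForm F V) (hQ : ND Q) (x : V) (hx : x ≠ 0) :
    ∃ w, polar Q x w ≠ 0 := by
  by_contra hcon
  push Not at hcon
  exact hx (hQ x hcon)

/-- a vector non-orthogonal to two given nonzero vectors -/
theorem exists_cross (Q : QuadraticForm F V) (hQ : ND Q) (x z : V) (hx : x ≠ 0) (hz : z ≠ 0) :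
    ∃ w, polar Q x w ≠ 0 ∧ polar Q z w ≠ 0 := by
  obtain ⟨w1, hw1⟩ := exists_polar_ne Q hQ x hx
  obtain ⟨w2, hw2⟩ := exists_polar_ne Q hQ z hz
  by_cases h1 : polar Q z w1 = 0
  · by_cases h2 : polar Q x w2 = 0
    · refine ⟨w1 + w2, ?_, ?_⟩
      · rw [polar_add_right, h2, add_zero]; exact hw1
      · rw [polar_add_right, h1, zero_add]; exact hw2
    · exact ⟨w2, h2, hw2⟩
  · exact ⟨w1, hw1, h1⟩

theorem polar_self_of_sing (Q : QuadraticForm F V) (e : V) (he : Q e = 0) : polar Q e e = 0 := by
  rw [polar_self, he, smul_zero]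

/-- (S1) the group generated by reflections is transitive on nonzero singular vectors -/
theorem sing_move (Q : QuadraticForm F V) (hQ : ND Q) (e e' : V) (he0 : e ≠ 0) (he0' : e' ≠ 0)
    (he : Q e = 0) (he' : Q e' = 0) : ∃ ρ ∈ R Q, ρ e = e' := by
  have key : ∀ a b : V, Q a = 0 → Q b = 0 → polar Q a b ≠ 0 → ∃ ρ ∈ R Q, ρ a = b := by
    intro a b ha hb hab
    have hne : Q (b - a) ≠ 0 := by
      have := quad_add_smul Q b a (-1)
      rw [neg_one_smul, ← sub_eq_add_neg] at this
      rw [this, ha, hb, polar_comm]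
      simpa using hab
    exact ⟨reflMap Q (b - a), refl_mem_R Q _ hne, reflMap_move Q a b (by rw [ha, hb]) hne⟩
  by_cases h0 : polar Q e e' = 0
  · obtain ⟨y, hy1, hy2⟩ := exists_cross Q hQ e e' he0 he0'
    -- make `y` singular
    set μ : F := -(Q y) * (polar Q e y)⁻¹ with hμ
    set e'' : V := y + μ • e with he''
    have hs : Q e'' = 0 := by
      rw [he'', quad_add_smul, he, mul_zero, add_zero, polar_comm Q y e, hμ]
      field_simp
      ring
    have h1 : polar Q e e'' ≠ 0 := by
      rw [he'', polar_add_right, polar_smul_right, polar_self_of_sing Q e he, smul_zero, add_zero]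
      exact hy1
    have h2 : polar Q e'' e' ≠ 0 := by
      rw [he'', polar_add_left, polar_smul_left, h0, smul_zero, add_zero, polar_comm]
      exact hy2
    obtain ⟨ρ1, hρ1, h3⟩ := key e e'' he hs h1
    obtain ⟨ρ2, hρ2, h4⟩ := key e'' e' hs he' h2
    exact ⟨ρ2 * ρ1, mul_mem hρ2 hρ1, by rw [Module.End.mul_apply, h3, h4]⟩
  · exact key e e' he he' h0

/-- the partners of `e`: `f + w - Q(w) e` for `w ⊥ e, f` -/
def partner (Q : QuadraticForm F V) (e f w : V) : V := f + w - Q w • e

section partners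
variable (Q : QuadraticForm F V) (e f : V) (he : Q e = 0) (hf : Q f = 0) (hef : polar Q e f = 1)
include he hf hef

theorem partner_zero : partner Q e f 0 = f := by
  simp [partner]

theorem quad_partner (w : V) (hw : w ∈ pairPerp Q e f) : Q (partner Q e f w) = 0 := by
  rw [mem_pairPerp] at hw
  unfold partner
  rw [sub_eq_add_neg, ← neg_smul, quad_add_smul, he, mul_zero, add_zero, Cfsg.Agent.Lib.Helper5.quad_add, hf,
    polar_add_left, polar_comm Q f e, hef, polar_comm Q w e, hw.1, hw.2]
  ring

theorem polar_partner (w : V) (hw : w ∈ pairPerp Q e f) : polar Q e (partner Q e f w) = 1 := by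
  rw [mem_pairPerp] at hw
  unfold partner
  rw [polar_sub_right, polar_add_right, polar_smul_right, hef, hw.1,
    polar_self_of_sing Q e he]
  simp

/-- every partner of `e` has this form -/
theorem exists_partner_eq (f' : V) (hf' : Q f' = 0) (hef' : polar Q e f' = 1) :
    ∃ w ∈ pairPerp Q e f, f' = partner Q e f w := by
  set t : F := -polar Q f f' with ht
  set w : V := f' - f + t • e with hw
  have hfe : polar Q f e = 1 := by rw [polar_comm, hef]
  have hw1 : polar Q e w = 0 := by
    rw [hw, polar_add_right, polar_sub_right, polar_smul_right, hef', hef,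
      polar_self_of_sing Q e he]
    simp
  have hw2 : polar Q f w = 0 := by
    rw [hw, polar_add_right, polar_sub_right, polar_smul_right, polar_self_of_sing Q f hf, hfe, ht]
    simp
  have hwmem : w ∈ pairPerp Q e f := (mem_pairPerp Q e f w).mpr ⟨hw1, hw2⟩
  have hQw : Q w = t := by
    have h1 : f' = f + (w + (-t) • e) := by rw [hw]; simp
    have h2 := hf'
    rw [h1, Cfsg.Agent.Lib.Helper5.quad_add, hf, quad_add_smul, he, polar_add_right, polar_smul_right, hw2, hfe,
      polar_comm Q w e, hw1] at h2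
    simp only [mul_zero, add_zero, zero_add, smul_eq_mul, mul_one] at h2
    linear_combination h2
  refine ⟨w, hwmem, ?_⟩
  unfold partner
  rw [hQw, hw]
  abel

/-- adding an anisotropic vector of the complement by a reflection fixing `e` -/
theorem partner_add_aniso (w a : V) (hw : w ∈ pairPerp Q e f) (ha : a ∈ pairPerp Q e f)
    (hQa : Q a ≠ 0) :
    ∃ ρ ∈ R Q, ρ e = e ∧ ρ (partner Q e f w) = partner Q e f (w + a) := by
  have hwa : w + a ∈ pairPerp Q e f := Submodule.add_mem _ hw ha
  have hdiff : partner Q e f (w + a) - partner Q e f w = a + (-(Q a + polar Q w a)) • e := by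
    unfold partner
    rw [Cfsg.Agent.Lib.Helper5.quad_add]
    module
  have hae : polar Q a e = 0 := by
    rw [polar_comm]; exact ((mem_pairPerp Q e f a).mp ha).1
  have hne : Q (partner Q e f (w + a) - partner Q e f w) ≠ 0 := by
    rw [hdiff, quad_add_smul, he, mul_zero, add_zero, hae, mul_zero, add_zero]
    exact hQa
  refine ⟨reflMap Q (partner Q e f (w + a) - partner Q e f w), refl_mem_R Q _ hne, ?_, ?_⟩
  · apply reflMap_fix
    rw [hdiff, polar_add_left, polar_smul_left, hae, polar_self_of_sing Q e he]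
    simp
  · exact reflMap_move Q _ _ (by rw [quad_partner Q e f he hf hef w hw,
      quad_partner Q e f he hf hef (w + a) hwa]) hne

/-- adding a singular vector of the complement by a long root element fixing `e` -/
theorem partner_add_sing (w x : V) (hw : w ∈ pairPerp Q e f) (hx : x ∈ pairPerp Q e f)
    (hQx : Q x = 0) :
    ∃ ρ ∈ Rp Q, ρ e = e ∧ ρ (partner Q e f w) = partner Q e f (w + x) := by
  have hex : polar Q e x = 0 := ((mem_pairPerp Q e f x).mp hx).1
  have hfx : polar Q f x = 0 := ((mem_pairPerp Q e f x).mp hx).2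
  refine ⟨eichlerMap Q e x, root_mem_Rp Q e x he hQx hex, ?_, ?_⟩
  · rw [eichlerMap_apply, polar_self_of_sing Q e he, polar_comm Q x e, hex, hQx]
    simp
  · rw [eichlerMap_apply, polar_partner Q e f he hf hef w hw, hQx]
    unfold partner
    rw [polar_sub_right, polar_add_right, polar_smul_right, polar_comm Q x f, hfx,
      polar_comm Q x e, hex, Cfsg.Agent.Lib.Helper5.quad_add, hQx, polar_comm Q x w]
    simp only [one_smul, zero_add, smul_eq_mul, mul_zero, sub_zero, zero_mul, add_zero]
    module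

end partners

theorem reflMap_mul_self (Q : QuadraticForm F V) (p : V) (hp : Q p ≠ 0) :
    reflMap Q p * reflMap Q p = 1 := by
  ext x
  rw [Module.End.mul_apply, reflMap_apply, reflMap_apply, polar_add_right, polar_smul_right,
    polar_self, Module.End.one_apply]
  have : (-((Q p)⁻¹ * (polar Q p x + (-((Q p)⁻¹ * polar Q p x)) • (2 • Q p)))) =
      (Q p)⁻¹ * polar Q p x := by
    rw [smul_eq_mul, nsmul_eq_mul]
    push_cast
    field_simp
    ring
  rw [this, add_assoc, ← add_smul, neg_add_cancel, zero_smul, add_zero]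

theorem eichlerMap_mul_neg (Q : QuadraticForm F V) (p y : V) (hp : Q p = 0)
    (hpy : polar Q p y = 0) : eichlerMap Q p y * eichlerMap Q p (-y) = 1 := by
  ext x
  rw [Module.End.mul_apply, eichlerMap_apply, eichlerMap_apply, Module.End.one_apply]
  simp only [polar_add_right, polar_smul_right, polar_neg_left, polar_neg_right,
    polar_self_of_sing Q p hp, hpy, polar_comm Q y p, QuadraticMap.map_neg, polar_self, smul_eq_mul,
    nsmul_eq_mul]
  push_cast
  module

/-- a submonoid of `End V` closed under inverses -/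
def InvClosed (M : Submonoid (Module.End F V)) : Prop :=
  ∀ ρ ∈ M, ∃ ρ' ∈ M, ρ' * ρ = 1 ∧ ρ * ρ' = 1

theorem invClosed_closure (S : Set (Module.End F V))
    (hS : ∀ g ∈ S, ∃ g' ∈ S, g' * g = 1 ∧ g * g' = 1) : InvClosed (Submonoid.closure S) := by
  intro ρ hρ
  induction hρ using Submonoid.closure_induction with
  | mem g hg =>
    obtain ⟨g', hg', h1, h2⟩ := hS g hg
    exact ⟨g', Submonoid.subset_closure hg', h1, h2⟩
  | one => exact ⟨1, one_mem _, one_mul 1, one_mul 1⟩
  | mul a b _ _ iha ihb =>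
    obtain ⟨a', ha', h1, h2⟩ := iha
    obtain ⟨b', hb', h3, h4⟩ := ihb
    refine ⟨b' * a', mul_mem hb' ha', ?_, ?_⟩
    · rw [mul_assoc, ← mul_assoc a', h1, one_mul, h3]
    · rw [mul_assoc, ← mul_assoc b, h4, one_mul, h2]

theorem invClosed_R (Q : QuadraticForm F V) : InvClosed (R Q) := by
  apply invClosed_closure
  rintro g ⟨p, hp, rfl⟩
  exact ⟨reflMap Q p, ⟨p, hp, rfl⟩, reflMap_mul_self Q p hp, reflMap_mul_self Q p hp⟩

theorem invClosed_Rp (Q : QuadraticForm F V) : InvClosed (Rp Q) := by
  apply invClosed_closure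
  rintro g (⟨p, hp, rfl⟩ | ⟨p, y, hp, hy, hpy, rfl⟩)
  · exact ⟨reflMap Q p, Or.inl ⟨p, hp, rfl⟩, reflMap_mul_self Q p hp, reflMap_mul_self Q p hp⟩
  · refine ⟨eichlerMap Q p (-y), Or.inr ⟨p, -y, hp, by rw [QuadraticMap.map_neg, hy],
      by rw [polar_neg_right, hpy, neg_zero], rfl⟩, ?_, ?_⟩
    · have := eichlerMap_mul_neg Q p (-y) hp (by rw [polar_neg_right, hpy, neg_zero])
      rwa [neg_neg] at this
    · exact eichlerMap_mul_neg Q p y hp hpy

theorem isIsom_of_mem_closure (Q : QuadraticForm F V) (S : Set (Module.End F V))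
    (hS : ∀ g ∈ S, IsIsom Q g) : ∀ ρ ∈ Submonoid.closure S, IsIsom Q ρ := by
  intro ρ hρ
  induction hρ using Submonoid.closure_induction with
  | mem g hg => exact hS g hg
  | one => exact isIsom_one Q
  | mul a b _ _ iha ihb => exact isIsom_mul Q iha ihb

theorem isIsom_of_mem_R (Q : QuadraticForm F V) : ∀ ρ ∈ R Q, IsIsom Q ρ := by
  apply isIsom_of_mem_closure
  rintro g ⟨p, hp, rfl⟩
  exact reflMap_isom Q p hp

theorem isIsom_of_mem_Rp (Q : QuadraticForm F V) : ∀ ρ ∈ Rp Q, IsIsom Q ρ := by
  apply isIsom_of_mem_closure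
  rintro g (⟨p, hp, rfl⟩ | ⟨p, y, hp, hy, hpy, rfl⟩)
  · exact reflMap_isom Q p hp
  · exact eichlerMap_isom Q p y hp hpy

section steps
variable (Q : QuadraticForm F V) (e f : V) (he : Q e = 0) (hf : Q f = 0) (hef : polar Q e f = 1)
include he hf hef

/-- (S2) for `Rp`: the stabiliser of `e` in `Rp` is transitive on the partners of `e` -/
theorem partner_move_Rp (f' : V) (hf' : Q f' = 0) (hef' : polar Q e f' = 1) :
    ∃ ρ ∈ Rp Q, ρ e = e ∧ ρ f = f' := by
  obtain ⟨w, hw, rfl⟩ := exists_partner_eq Q e f he hf hef f' hf' hef'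
  have h0 : (0 : V) ∈ pairPerp Q e f := Submodule.zero_mem _
  by_cases hQw : Q w = 0
  · obtain ⟨ρ, hρ, h1, h2⟩ := partner_add_sing Q e f he hf hef 0 w h0 hw hQw
    rw [partner_zero Q e f he hf hef, zero_add] at h2
    exact ⟨ρ, hρ, h1, h2⟩
  · obtain ⟨ρ, hρ, h1, h2⟩ := partner_add_aniso Q e f he hf hef 0 w h0 hw hQw
    rw [partner_zero Q e f he hf hef, zero_add] at h2
    exact ⟨ρ, R_le_Rp Q hρ, h1, h2⟩

/-- (S2) for `R`, when the complement is additively generated by its anisotropic vectors -/
theorem partner_move_R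
    (hspan : ∀ w ∈ pairPerp Q e f,
      w ∈ AddSubmonoid.closure {a : V | a ∈ pairPerp Q e f ∧ Q a ≠ 0})
    (f' : V) (hf' : Q f' = 0) (hef' : polar Q e f' = 1) :
    ∃ ρ ∈ R Q, ρ e = e ∧ ρ f = f' := by
  obtain ⟨w, hw, rfl⟩ := exists_partner_eq Q e f he hf hef f' hf' hef'
  have key : ∀ w ∈ AddSubmonoid.closure {a : V | a ∈ pairPerp Q e f ∧ Q a ≠ 0},
      w ∈ pairPerp Q e f ∧ ∃ ρ ∈ R Q, ρ e = e ∧ ρ f = partner Q e f w := by
    intro w hw
    induction hw using AddSubmonoid.closure_induction with
    | mem a ha =>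
      refine ⟨ha.1, ?_⟩
      obtain ⟨ρ, hρ, h1, h2⟩ := partner_add_aniso Q e f he hf hef 0 a (Submodule.zero_mem _)
        ha.1 ha.2
      rw [partner_zero Q e f he hf hef, zero_add] at h2
      exact ⟨ρ, hρ, h1, h2⟩
    | zero =>
      exact ⟨Submodule.zero_mem _, 1, one_mem _, rfl, by
        rw [partner_zero Q e f he hf hef]; rfl⟩
    | add a b ha hb iha ihb =>
      obtain ⟨ha1, ρ1, hρ1, h1, h2⟩ := iha
      obtain ⟨hb1, _⟩ := ihb
      refine ⟨Submodule.add_mem _ ha1 hb1, ?_⟩
      -- add the generators of `b` one at a time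
      have step : ∀ b ∈ AddSubmonoid.closure {a : V | a ∈ pairPerp Q e f ∧ Q a ≠ 0},
          ∀ a ∈ pairPerp Q e f, (∃ ρ ∈ R Q, ρ e = e ∧ ρ f = partner Q e f a) →
          b ∈ pairPerp Q e f ∧ ∃ ρ ∈ R Q, ρ e = e ∧ ρ f = partner Q e f (a + b) := by
        intro b hb
        induction hb using AddSubmonoid.closure_induction with
        | mem c hc =>
          intro a ha ⟨ρ, hρ, h1, h2⟩
          refine ⟨hc.1, ?_⟩
          obtain ⟨ρ', hρ', h3, h4⟩ := partner_add_aniso Q e f he hf hef a c ha hc.1 hc.2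
          exact ⟨ρ' * ρ, mul_mem hρ' hρ, by rw [Module.End.mul_apply, h1, h3],
            by rw [Module.End.mul_apply, h2, h4]⟩
        | zero =>
          intro a ha h
          exact ⟨Submodule.zero_mem _, by rwa [add_zero]⟩
        | add c d _ _ ihc ihd =>
          intro a ha h
          obtain ⟨hc1, h1⟩ := ihc a ha h
          obtain ⟨hd1, h2⟩ := ihd (a + c) (Submodule.add_mem _ ha hc1) h1
          exact ⟨Submodule.add_mem _ hc1 hd1, by rwa [add_assoc] at h2⟩
      exact (step b hb a ha1 ⟨ρ1, hρ1, h1, h2⟩).2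
  exact (key w (hspan w hw)).2

/-- The hyperbolic induction step. -/
theorem hyp_step (hQ : ND Q) (M : Submonoid (Module.End F V)) (hRM : R Q ≤ M)
    (hMiso : ∀ ρ ∈ M, IsIsom Q ρ) (hMinv : InvClosed M)
    (hS2 : ∀ f', Q f' = 0 → polar Q e f' = 1 → ∃ ρ ∈ M, ρ e = e ∧ ρ f = f')
    (hW : ∀ h, IsIsom Q h → h e = e → h f = f → h ∈ M)
    (g : Module.End F V) (hg : IsIsom Q g) : g ∈ M := by
  have hge0 : g e ≠ 0 := by
    intro h0
    have := polar_isIsom Q hg e f
    rw [h0, hef] at this
    simp [polar] at this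
  have he0 : e ≠ 0 := by
    rintro rfl
    simp [polar] at hef
  obtain ⟨ρ1, hρ1, h1⟩ := sing_move Q hQ e (g e) he0 hge0 he (by rw [hg, he])
  obtain ⟨ρ1', hρ1', h2, h3⟩ := hMinv ρ1 (hRM hρ1)
  -- `ρ1' g` fixes `e`
  have h4 : (ρ1' * g) e = e := by
    rw [Module.End.mul_apply, ← h1, ← Module.End.mul_apply, h2, Module.End.one_apply]
  have hiso1 : IsIsom Q (ρ1' * g) := isIsom_mul Q (hMiso _ hρ1') hg
  have h5 : Q ((ρ1' * g) f) = 0 := by rw [hiso1, hf]
  have h6 : polar Q e ((ρ1' * g) f) = 1 := by
    conv_lhs => rw [← h4]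
    rw [polar_isIsom Q hiso1, hef]
  obtain ⟨ρ2, hρ2, h7, h8⟩ := hS2 _ h5 h6
  obtain ⟨ρ2', hρ2', h9, h10⟩ := hMinv ρ2 hρ2
  have h11 : (ρ2' * (ρ1' * g)) e = e := by
    rw [Module.End.mul_apply, h4]
    conv_lhs => rw [← h7]
    rw [← Module.End.mul_apply, h9, Module.End.one_apply]
  have h12 : (ρ2' * (ρ1' * g)) f = f := by
    rw [Module.End.mul_apply, ← h8, ← Module.End.mul_apply, h9, Module.End.one_apply]
  have h13 : ρ2' * (ρ1' * g) ∈ M :=
    hW _ (isIsom_mul Q (hMiso _ hρ2') hiso1) h11 h12
  have h14 : g = ρ1 * (ρ2 * (ρ2' * (ρ1' * g))) := by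
    rw [← mul_assoc ρ2, h10, one_mul, ← mul_assoc, h3, one_mul]
  rw [h14]
  exact mul_mem (hRM hρ1) (mul_mem hρ2 h13)

end steps

theorem reflMap_neg (Q : QuadraticForm F V) (p : V) : reflMap Q (-p) = reflMap Q p := by
  ext x
  rw [reflMap_apply, reflMap_apply, QuadraticMap.map_neg, polar_neg_left, smul_neg, mul_neg,
    neg_neg, neg_smul]

/-- anisotropic spaces: every isometry is a product of reflections -/
theorem mem_R_of_anisotropic [FiniteDimensional F V] (Q : QuadraticForm F V)
    (han : ∀ x : V, x ≠ 0 → Q x ≠ 0) (g : Module.End F V) (hg : IsIsom Q g) : g ∈ R Q := by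
  classical
  let b := Module.finBasis F V
  have key : ∀ s : Finset (Fin (finrank F V)), ∃ ρ ∈ R Q, ∀ j ∈ s, (ρ * g) (b j) = b j := by
    intro s
    induction s using Finset.induction_on with
    | empty => exact ⟨1, one_mem _, fun j hj => absurd hj (Finset.notMem_empty j)⟩
    | insert i s _ ih =>
      obtain ⟨ρ, hρ, hfix⟩ := ih
      have hiso : IsIsom Q (ρ * g) := isIsom_mul Q (isIsom_of_mem_R Q ρ hρ) hg
      by_cases hd : (ρ * g) (b i) - b i = 0
      · refine ⟨ρ, hρ, ?_⟩
        intro j hj
        rcases Finset.mem_insert.mp hj with rfl | hj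
        · exact sub_eq_zero.mp hd
        · exact hfix j hj
      · have hQd : Q ((ρ * g) (b i) - b i) ≠ 0 := han _ hd
        refine ⟨reflMap Q ((ρ * g) (b i) - b i) * ρ, mul_mem (refl_mem_R Q _ hQd) hρ, ?_⟩
        intro j hj
        rw [mul_assoc, Module.End.mul_apply]
        rcases Finset.mem_insert.mp hj with rfl | hj
        · -- the reflection in `g' b - b` swaps `b` and `g' b`
          have h1 := reflMap_move Q ((ρ * g) (b j)) (b j) (hiso (b j))
            (by rw [← neg_sub, QuadraticMap.map_neg]; exact hQd)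
          have h2 : reflMap Q (b j - (ρ * g) (b j)) = reflMap Q ((ρ * g) (b j) - b j) := by
            rw [← neg_sub, reflMap_neg]
          rw [← h2]; exact h1
        · rw [hfix j hj]
          apply reflMap_fix
          rw [polar_sub_left]
          conv_lhs => rw [← hfix j hj]
          rw [polar_isIsom Q hiso, hfix j hj, sub_self]
  obtain ⟨ρ, hρ, hfix⟩ := key Finset.univ
  have h1 : ρ * g = 1 := b.ext (fun j => by rw [hfix j (Finset.mem_univ j)]; rfl)
  obtain ⟨ρ', hρ', h2, h3⟩ := invClosed_R Q ρ hρ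
  have : g = ρ' := by
    calc g = (ρ' * ρ) * g := by rw [h2, one_mul]
      _ = ρ' * (ρ * g) := mul_assoc _ _ _
      _ = ρ' := by rw [h1, mul_one]
  rw [this]; exact hρ'

section lift
variable (Q : QuadraticForm F V) (e f : V)

/-- the form restricted to the complement of a hyperbolic pair -/
abbrev QW : QuadraticForm F (pairPerp Q e f) := Q.comp (pairPerp Q e f).subtype

theorem QW_apply (x : pairPerp Q e f) : QW Q e f x = Q (x : V) := rfl

theorem polar_QW (x y : pairPerp Q e f) : polar (QW Q e f) x y = polar Q (x : V) (y : V) := by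
  simp only [polar, QW_apply, Submodule.coe_add]

theorem coe_reflMap (p x : pairPerp Q e f) :
    ((reflMap (QW Q e f) p x : pairPerp Q e f) : V) = reflMap Q (p : V) (x : V) := by
  rw [reflMap_apply, reflMap_apply, Submodule.coe_add, Submodule.coe_smul, polar_QW, QW_apply]

theorem coe_eichlerMap (p y x : pairPerp Q e f) :
    ((eichlerMap (QW Q e f) p y x : pairPerp Q e f) : V) = eichlerMap Q (p : V) (y : V) (x : V) := by
  rw [eichlerMap_apply, eichlerMap_apply, Submodule.coe_add, Submodule.coe_add, Submodule.coe_smul,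
    Submodule.coe_smul, polar_QW, polar_QW, QW_apply]

/-- lifting products of generators from the complement -/
theorem lift_closure (SW : Set (Module.End F (pairPerp Q e f))) (S : Set (Module.End F V))
    (h : ∀ k ∈ SW, ∃ K ∈ S, K e = e ∧ K f = f ∧ ∀ w : pairPerp Q e f, K (w : V) = (k w : V)) :
    ∀ k ∈ Submonoid.closure SW, ∃ K ∈ Submonoid.closure S, K e = e ∧ K f = f ∧
      ∀ w : pairPerp Q e f, K (w : V) = (k w : V) := by
  intro k hk
  induction hk using Submonoid.closure_induction with
  | mem k hk =>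
    obtain ⟨K, hK, h1, h2, h3⟩ := h k hk
    exact ⟨K, Submonoid.subset_closure hK, h1, h2, h3⟩
  | one => exact ⟨1, one_mem _, rfl, rfl, fun w => rfl⟩
  | mul a b _ _ iha ihb =>
    obtain ⟨A, hA, h1, h2, h3⟩ := iha
    obtain ⟨B, hB, h4, h5, h6⟩ := ihb
    refine ⟨A * B, mul_mem hA hB, ?_, ?_, ?_⟩
    · rw [Module.End.mul_apply, h4, h1]
    · rw [Module.End.mul_apply, h5, h2]
    · intro w
      rw [Module.End.mul_apply, h6, h3, Module.End.mul_apply]

theorem lift_refl (p : pairPerp Q e f) (hp : QW Q e f p ≠ 0) :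
    ∃ K ∈ reflSet Q, K e = e ∧ K f = f ∧
      ∀ w : pairPerp Q e f, K (w : V) = (reflMap (QW Q e f) p w : V) := by
  have hp' := (mem_pairPerp Q e f p).mp p.2
  refine ⟨reflMap Q (p : V), ⟨p, hp, rfl⟩, ?_, ?_, fun w => (coe_reflMap Q e f p w).symm⟩
  · apply reflMap_fix; rw [polar_comm]; exact hp'.1
  · apply reflMap_fix; rw [polar_comm]; exact hp'.2

theorem lift_root (p y : pairPerp Q e f) (hp : QW Q e f p = 0) (hy : QW Q e f y = 0)
    (hpy : polar (QW Q e f) p y = 0) :
    ∃ K ∈ rootSet Q, K e = e ∧ K f = f ∧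
      ∀ w : pairPerp Q e f, K (w : V) = (eichlerMap (QW Q e f) p y w : V) := by
  have hp' := (mem_pairPerp Q e f p).mp p.2
  have hy' := (mem_pairPerp Q e f y).mp y.2
  refine ⟨eichlerMap Q (p : V) (y : V), ⟨p, y, hp, hy, by rw [← polar_QW]; exact hpy, rfl⟩, ?_, ?_,
    fun w => (coe_eichlerMap Q e f p y w).symm⟩
  · rw [eichlerMap_apply, polar_comm Q _ e, hp'.1, polar_comm Q _ e, hy'.1]; simp
  · rw [eichlerMap_apply, polar_comm Q _ f, hp'.2, polar_comm Q _ f, hy'.2]; simp

theorem lift_R : ∀ k ∈ R (QW Q e f), ∃ K ∈ R Q, K e = e ∧ K f = f ∧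
    ∀ w : pairPerp Q e f, K (w : V) = (k w : V) := by
  apply lift_closure
  rintro k ⟨p, hp, rfl⟩
  exact lift_refl Q e f p hp

theorem lift_Rp : ∀ k ∈ Rp (QW Q e f), ∃ K ∈ Rp Q, K e = e ∧ K f = f ∧
    ∀ w : pairPerp Q e f, K (w : V) = (k w : V) := by
  apply lift_closure
  rintro k (⟨p, hp, rfl⟩ | ⟨p, y, hp, hy, hpy, rfl⟩)
  · obtain ⟨K, hK, h⟩ := lift_refl Q e f p hp
    exact ⟨K, Or.inl hK, h⟩
  · obtain ⟨K, hK, h⟩ := lift_root Q e f p y hp hy hpy
    exact ⟨K, Or.inr hK, h⟩

variable (he : Q e = 0) (hf : Q f = 0) (hef : polar Q e f = 1)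
include he hf hef

/-- an isometry fixing `e, f` comes from the complement -/
theorem stab_mem (M : Submonoid (Module.End F V)) (MW : Submonoid (Module.End F (pairPerp Q e f)))
    (hlift : ∀ k ∈ MW, ∃ K ∈ M, K e = e ∧ K f = f ∧ ∀ w : pairPerp Q e f, K (w : V) = (k w : V))
    (hIH : ∀ k : Module.End F (pairPerp Q e f), IsIsom (QW Q e f) k → k ∈ MW)
    (h : Module.End F V) (hh : IsIsom Q h) (h1 : h e = e) (h2 : h f = f) : h ∈ M := by
  have hmaps : ∀ w ∈ pairPerp Q e f, h w ∈ pairPerp Q e f := by
    intro w hw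
    rw [mem_pairPerp] at hw ⊢
    constructor
    · conv_lhs => rw [← h1]
      rw [polar_isIsom Q hh]; exact hw.1
    · conv_lhs => rw [← h2]
      rw [polar_isIsom Q hh]; exact hw.2
  have hk : IsIsom (QW Q e f) (h.restrict hmaps) := by
    intro x
    rw [QW_apply, QW_apply, LinearMap.coe_restrict_apply, hh]
  obtain ⟨K, hK, h3, h4, h5⟩ := hlift _ (hIH _ hk)
  have hfe : polar Q f e = 1 := by rw [polar_comm, hef]
  have : K = h := by
    ext x
    set w : V := x - polar Q x f • e - polar Q e x • f with hw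
    have hwmem : w ∈ pairPerp Q e f := by
      rw [mem_pairPerp, hw]
      constructor
      · rw [polar_sub_right, polar_sub_right, polar_smul_right, polar_smul_right,
          polar_self_of_sing Q e he, hef]
        simp
      · rw [polar_sub_right, polar_sub_right, polar_smul_right, polar_smul_right,
          polar_self_of_sing Q f hf, hfe, polar_comm Q f x]
        simp
    have hx : x = w + polar Q x f • e + polar Q e x • f := by rw [hw]; abel
    have h6 := h5 ⟨w, hwmem⟩
    rw [LinearMap.coe_restrict_apply] at h6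
    rw [hx, map_add, map_add, map_smul, map_smul, map_add, map_add, map_smul, map_smul, h3, h4,
      h1, h2]
    congr 2
  rw [← this]; exact hK

end lift

theorem nd_QW (Q : QuadraticForm F V) (hQ : ND Q) (e f : V) (he : Q e = 0) (hf : Q f = 0)
    (hef : polar Q e f = 1) : ND (QW Q e f) := by
  intro z hz
  apply Subtype.ext
  apply nondeg_pairPerp Q hQ e f he hf hef z z.2
  intro z' hz'
  have := hz ⟨z', hz'⟩
  rwa [polar_QW] at this

universe v

/-- **Theorem A**: every isometry of a nondegenerate finite dimensional quadratic space (over any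
field) is a product of reflections and long root elements. -/
theorem mem_Rp_of_isIsom : ∀ (n : ℕ) (V : Type v) [AddCommGroup V] [Module F V]
    [FiniteDimensional F V] (Q : QuadraticForm F V), ND Q → finrank F V = n →
    ∀ g : Module.End F V, IsIsom Q g → g ∈ Rp Q := by
  intro n
  induction n using Nat.strong_induction_on with
  | _ n ih =>
    intro V _ _ _ Q hQ hn g hg
    by_cases hs : ∃ e : V, e ≠ 0 ∧ Q e = 0
    · obtain ⟨e, he0, he⟩ := hs
      obtain ⟨f, hf, hef⟩ := exists_partner Q hQ e he0 he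
      have hdim := finrank_pairPerp Q e f he hf hef
      refine hyp_step Q e f he hf hef hQ (Rp Q) (R_le_Rp Q) (isIsom_of_mem_Rp Q) (invClosed_Rp Q)
        (partner_move_Rp Q e f he hf hef) ?_ g hg
      exact stab_mem Q e f he hf hef (Rp Q) (Rp (QW Q e f)) (lift_Rp Q e f)
        (ih (n - 2) (by omega) (pairPerp Q e f) (QW Q e f) (nd_QW Q hQ e f he hf hef) (by omega))
    · push Not at hs
      exact R_le_Rp Q (mem_R_of_anisotropic Q hs g hg)

/-- Eichler transformations along a fixed singular vector compose additively -/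
theorem eichlerMap_mul (Q : QuadraticForm F V) (p y y' : V) (hp : Q p = 0)
    (hpy : polar Q p y = 0) (hpy' : polar Q p y' = 0) :
    eichlerMap Q p y * eichlerMap Q p y' = eichlerMap Q p (y + y') := by
  ext x
  rw [Module.End.mul_apply, eichlerMap_apply, eichlerMap_apply, eichlerMap_apply]
  simp only [polar_add_right, polar_add_left, polar_smul_right, polar_self_of_sing Q p hp, hpy, hpy',
    polar_comm Q y p, Cfsg.Agent.Lib.Helper5.quad_add, smul_eq_mul]
  module

/-- an Eichler transformation along an anisotropic vector is a product of two reflections -/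
theorem eichlerMap_eq_refl_mul (Q : QuadraticForm F V) (p y : V) (hp : Q p = 0) (hy : Q y ≠ 0)
    (hpy : polar Q p y = 0) :
    eichlerMap Q p y = reflMap Q y * reflMap Q (y + Q y • p) := by
  have hyp : polar Q y p = 0 := by rw [polar_comm]; exact hpy
  have hQ' : Q (y + Q y • p) = Q y := by
    rw [quad_add_smul, hp, hyp]; ring
  ext x
  rw [Module.End.mul_apply, eichlerMap_apply, reflMap_apply, reflMap_apply, hQ']
  simp only [polar_add_right, polar_add_left, polar_smul_right, polar_smul_left,
    polar_self_of_sing Q p hp, hpy, hyp, polar_self, smul_eq_mul, nsmul_eq_mul]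
  push_cast
  match_scalars <;> field_simp <;> ring

/-- **Theorem B**: a long root element is a product of four reflections, given an anisotropic
vector orthogonal to its plane. -/
theorem root_mem_R (Q : QuadraticForm F V) (p y w : V) (hp : Q p = 0) (hy : Q y = 0)
    (hpy : polar Q p y = 0) (hw : Q w ≠ 0) (hwp : polar Q w p = 0) (hwy : polar Q w y = 0) :
    eichlerMap Q p y ∈ R Q := by
  have hpw : polar Q p w = 0 := by rw [polar_comm]; exact hwp
  have h1 : eichlerMap Q p y = eichlerMap Q p (w + y) * eichlerMap Q p (-w) := by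
    rw [eichlerMap_mul Q p _ _ hp (by rw [polar_add_right, hpw, hpy, add_zero])
      (by rw [polar_neg_right, hpw, neg_zero])]
    congr 1
    abel
  have hQ1 : Q (w + y) ≠ 0 := by
    rw [Cfsg.Agent.Lib.Helper5.quad_add, hy, hwy, add_zero, add_zero]; exact hw
  have hQ2 : Q (-w) ≠ 0 := by rw [QuadraticMap.map_neg]; exact hw
  rw [h1, eichlerMap_eq_refl_mul Q p (w + y) hp hQ1 (by rw [polar_add_right, hpw, hpy, add_zero]),
    eichlerMap_eq_refl_mul Q p (-w) hp hQ2 (by rw [polar_neg_right, hpw, neg_zero])]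
  have hQ3 : Q (w + y + Q (w + y) • p) ≠ 0 := by
    rw [quad_add_smul, hp, polar_add_left, hwp, polar_comm Q y p, hpy]
    simpa using hQ1
  have hQ4 : Q (-w + Q (-w) • p) ≠ 0 := by
    rw [quad_add_smul, hp, polar_neg_left, hwp]
    simpa using hQ2
  exact mul_mem (mul_mem (refl_mem_R Q _ hQ1) (refl_mem_R Q _ hQ3))
    (mul_mem (refl_mem_R Q _ hQ2) (refl_mem_R Q _ hQ4))

/-- if every long root element is a product of reflections then `Rp = R` -/
theorem Rp_le_R (Q : QuadraticForm F V)
    (h : ∀ p y, Q p = 0 → Q y = 0 → polar Q p y = 0 → eichlerMap Q p y ∈ R Q) : Rp Q ≤ R Q := by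
  unfold Rp
  rw [Submonoid.closure_le]
  rintro g (hg | ⟨p, y, hp, hy, hpy, rfl⟩)
  · exact Submonoid.subset_closure hg
  · exact h p y hp hy hpy

theorem nondegenerate_of_ND (Q : QuadraticForm F V) (hQ : ND Q) :
    (polarBilin Q).Nondegenerate := by
  constructor
  · intro x hx
    exact hQ x hx
  · intro x hx
    apply hQ x
    intro y
    rw [polar_comm]
    exact hx y

/-- in dimension at least five, two vectors have a common anisotropic perpendicular -/
theorem exists_aniso_perp [FiniteDimensional F V] (Q : QuadraticForm F V) (hQ : ND Q)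
    (h5 : 5 ≤ finrank F V) (p y : V) :
    ∃ w, Q w ≠ 0 ∧ polar Q w p = 0 ∧ polar Q w y = 0 := by
  by_contra hcon
  push Not at hcon
  have hsing : ∀ w ∈ pairPerp Q p y, Q w = 0 := by
    intro w hw
    by_contra hne
    rw [mem_pairPerp] at hw
    exact hcon w hne (by rw [polar_comm]; exact hw.1) (by rw [polar_comm]; exact hw.2)
  -- dimension of the perpendicular space
  set φ : V →ₗ[F] F × F := (polarBilin Q p).prod (polarBilin Q y) with hφ
  have hker : LinearMap.ker φ = pairPerp Q p y := by
    rw [hφ, LinearMap.ker_prod]; rfl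
  have h1 := LinearMap.finrank_range_add_finrank_ker φ
  have h2 : finrank F (LinearMap.range φ) ≤ 2 := by
    have := Submodule.finrank_le (LinearMap.range φ)
    rwa [Module.finrank_prod, Module.finrank_self] at this
  rw [hker] at h1
  -- the perpendicular space is totally isotropic
  have hle : pairPerp Q p y ≤ LinearMap.BilinForm.orthogonal (polarBilin Q) (pairPerp Q p y) := by
    intro u hu v hv
    show polarBilin Q v u = 0
    rw [polarBilin_apply_apply]
    have h3 := hsing _ (Submodule.add_mem _ hv hu)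
    rw [Cfsg.Agent.Lib.Helper5.quad_add, hsing v hv, hsing u hu, zero_add, zero_add] at h3
    exact h3
  have h4 := Submodule.finrank_mono hle
  rw [LinearMap.BilinForm.finrank_orthogonal (nondegenerate_of_ND Q hQ)] at h4
  omega

/-- decomposition along a hyperbolic pair -/
theorem hyp_decomp (Q : QuadraticForm F V) (e f : V) (he : Q e = 0) (hf : Q f = 0)
    (hef : polar Q e f = 1) (x : V) :
    x - polar Q x f • e - polar Q e x • f ∈ pairPerp Q e f := by
  have hfe : polar Q f e = 1 := by rw [polar_comm, hef]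
  rw [mem_pairPerp]
  constructor
  · rw [polar_sub_right, polar_sub_right, polar_smul_right, polar_smul_right,
      polar_self_of_sing Q e he, hef]
    simp
  · rw [polar_sub_right, polar_sub_right, polar_smul_right, polar_smul_right,
      polar_self_of_sing Q f hf, hfe, polar_comm Q f x]
    simp

/-- with more than two scalars, every vector is a sum of anisotropic vectors -/
theorem mem_closure_aniso (Q : QuadraticForm F V) (hQ : ND Q) (a : F) (ha0 : a ≠ 0) (ha1 : a ≠ 1)
    (w : V) : ∃ u v : V, (u = 0 ∨ Q u ≠ 0) ∧ (v = 0 ∨ Q v ≠ 0) ∧ w = u + v := by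
  by_cases hw0 : w = 0
  · exact ⟨0, 0, Or.inl rfl, Or.inl rfl, by rw [hw0, add_zero]⟩
  by_cases hQw : Q w = 0
  · obtain ⟨w', hw', hww'⟩ := exists_partner Q hQ w hw0 hQw
    have hne : a - 1 ≠ 0 := sub_ne_zero.mpr ha1
    refine ⟨(a - 1)⁻¹ • (a • w + w'), (-(a - 1)⁻¹) • (w + w'), Or.inr ?_, Or.inr ?_, ?_⟩
    · rw [QuadraticMap.map_smul, Cfsg.Agent.Lib.Helper5.quad_add, QuadraticMap.map_smul, hQw, hw',
        polar_smul_left, hww']
      simp only [smul_eq_mul, mul_zero, add_zero, zero_add, mul_one]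
      exact mul_ne_zero (mul_ne_zero (inv_ne_zero hne) (inv_ne_zero hne)) ha0
    · rw [QuadraticMap.map_smul, Cfsg.Agent.Lib.Helper5.quad_add, hQw, hw', hww']
      simp only [smul_eq_mul, add_zero, zero_add, mul_one]
      exact mul_ne_zero (neg_ne_zero.mpr (inv_ne_zero hne)) (neg_ne_zero.mpr (inv_ne_zero hne))
    · have : w = ((a - 1)⁻¹ * (a - 1)) • w := by rw [inv_mul_cancel₀ hne, one_smul]
      conv_lhs => rw [this]
      module
  · exact ⟨w, 0, Or.inr hQw, Or.inl rfl, by rw [add_zero]⟩

/-- a nondegenerate space of dimension at most one is anisotropic -/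
theorem aniso_of_finrank_le_one [FiniteDimensional F V] (Q : QuadraticForm F V) (hQ : ND Q)
    (h1 : finrank F V ≤ 1) (w : V) (hw : w ≠ 0) : Q w ≠ 0 := by
  intro hQw
  apply hw
  apply hQ
  intro w'
  obtain ⟨v0, hv0⟩ := finrank_le_one_iff.mp h1
  obtain ⟨c, rfl⟩ := hv0 w
  obtain ⟨c', rfl⟩ := hv0 w'
  have hc : c ≠ 0 := by
    rintro rfl
    exact hw (zero_smul _ _)
  have hv : Q v0 = 0 := by
    rw [QuadraticMap.map_smul] at hQw
    simpa [hc] using hQw
  rw [polar_smul_left, polar_smul_right, polar_self, hv]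
  simp

/-- **Theorem D**: every isometry of a nondegenerate finite dimensional quadratic space is a product
of reflections, except possibly in dimension four over the field with two elements. -/
theorem mem_R_of_isIsom : ∀ (n : ℕ) (V : Type v) [AddCommGroup V] [Module F V]
    [FiniteDimensional F V] (Q : QuadraticForm F V), ND Q → finrank F V = n →
    (n = 4 → ∃ a : F, a ≠ 0 ∧ a ≠ 1) →
    ∀ g : Module.End F V, IsIsom Q g → g ∈ R Q := by
  intro n
  induction n using Nat.strong_induction_on with
  | _ n ih =>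
    intro V _ _ _ Q hQ hn hex g hg
    by_cases h5 : 5 ≤ n
    · refine Rp_le_R Q (fun p y hp hy hpy => ?_) (mem_Rp_of_isIsom n V Q hQ hn g hg)
      obtain ⟨w, hw, hwp, hwy⟩ := exists_aniso_perp Q hQ (by omega) p y
      exact root_mem_R Q p y w hp hy hpy hw hwp hwy
    by_cases hs : ∃ e : V, e ≠ 0 ∧ Q e = 0
    · obtain ⟨e, he0, he⟩ := hs
      obtain ⟨f, hf, hef⟩ := exists_partner Q hQ e he0 he
      have hdim := finrank_pairPerp Q e f he hf hef
      have hndW := nd_QW Q hQ e f he hf hef
      have hspan : ∀ w ∈ pairPerp Q e f,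
          w ∈ AddSubmonoid.closure {a : V | a ∈ pairPerp Q e f ∧ Q a ≠ 0} := by
        intro w hw
        by_cases h4 : n = 4
        · obtain ⟨a, ha0, ha1⟩ := hex h4
          obtain ⟨u, v, hu, hv, huv⟩ := mem_closure_aniso (QW Q e f) hndW a ha0 ha1 ⟨w, hw⟩
          have hw' : w = (u : V) + (v : V) := by
            have := congrArg Subtype.val huv
            simpa using this
          rw [hw']
          apply add_mem
          · rcases hu with rfl | hu
            · simp
            · exact AddSubmonoid.subset_closure ⟨u.2, hu⟩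
          · rcases hv with rfl | hv
            · simp
            · exact AddSubmonoid.subset_closure ⟨v.2, hv⟩
        · by_cases hw0 : w = 0
          · rw [hw0]; exact zero_mem _
          · apply AddSubmonoid.subset_closure
            refine ⟨hw, ?_⟩
            have := aniso_of_finrank_le_one (QW Q e f) hndW (by omega) ⟨w, hw⟩
              (by intro h; exact hw0 (congrArg Subtype.val h))
            exact this
      refine hyp_step Q e f he hf hef hQ (R Q) le_rfl (isIsom_of_mem_R Q) (invClosed_R Q)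
        (partner_move_R Q e f he hf hef hspan) ?_ g hg
      exact stab_mem Q e f he hf hef (R Q) (R (QW Q e f)) (lift_R Q e f)
        (ih (n - 2) (by omega) (pairPerp Q e f) (QW Q e f) hndW (by omega) (by omega))
    · push Not at hs
      exact mem_R_of_anisotropic Q hs g hg

end Cfsg.Agent.Lib.Helper5.ReflGen
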