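import Mathlib
import Cfsg.Prelude
import Cfsg.Agent.Lib.Helper5.ReflGen
import Cfsg.Agent.Lib.Helper5.Refl
import Cfsg.Agent.Lib.Helper5.CartanDieudonne

set_option autoImplicit false
open Cfsg

namespace Cfsg.Agent.Lib.Helper5.ReflGenMat

open Matrix QuadraticMap Cfsg.Agent.Lib.Helper5.CartanDieudonne Cfsg.Agent.Lib.Helper5.Refl
  Cfsg.Agent.Lib.Helper5.ReflGen Cfsg.Agent.Lib.Helper5.QuadIsom

variable {ι : Type} [Fintype ι] [DecidableEq ι] {F : Type*} [Field F]

/-- every product of abstract reflections is realised in the matrix group -/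
theorem exists_of_mem_R (Q : QuadraticForm F (ι → F)) :
    ∀ ρ ∈ R Q, ∃ h ∈ reflSubgroup Q, ∀ x, act Q h x = ρ x := by
  intro ρ hρ
  induction hρ using Submonoid.closure_induction with
  | mem g hg =>
    obtain ⟨p, hp, rfl⟩ := hg
    refine ⟨reflection Q p hp, reflection_mem Q p hp, fun x => ?_⟩
    rw [act_reflection, reflMap_apply, neg_smul, sub_eq_add_neg]
  | one => exact ⟨1, one_mem _, fun x => one_mulVec x⟩
  | mul a b _ _ iha ihb =>
    obtain ⟨A, hA, h1⟩ := iha
    obtain ⟨B, hB, h2⟩ := ihb
    exact ⟨A * B, mul_mem hA hB, fun x => by rw [act_mul, h2, h1, Module.End.mul_apply]⟩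

/-- Over any field, the isometry group of a quadratic form with nondegenerate polar form is
generated by reflections, except possibly in dimension 4 over the field with two elements. -/
theorem reflSubgroup_eq_top (Q : QuadraticForm F (ι → F))
    (hQ : (polarBilin Q).Nondegenerate)
    (hex : Fintype.card ι = 4 → ∃ a : F, a ≠ 0 ∧ a ≠ 1) : reflSubgroup Q = ⊤ := by
  rw [eq_top_iff]
  intro g _
  have hND : ND Q := fun z hz => hQ.1 z hz
  have hiso : IsIsom Q (Matrix.mulVecLin ((g : Matrix.GeneralLinearGroup ι F) : Matrix ι ι F)) :=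
    fun x => quad_act Q g x
  have hmem := mem_R_of_isIsom (Fintype.card ι) (ι → F) Q hND (Module.finrank_fintype_fun_eq_card F)
    hex _ hiso
  obtain ⟨h, hh, hact⟩ := exists_of_mem_R Q _ hmem
  have : h = g := by
    apply Subtype.ext
    apply Units.ext
    rw [ext_iff_mulVec]
    intro x
    exact hact x
  rw [← this]; exact hh

end Cfsg.Agent.Lib.Helper5.ReflGenMat
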