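import Mathlib
import Cfsg.Prelude
import Cfsg.Agent.Lib.Helper5.SpinClifford
import Cfsg.Agent.Lib.Helper5.SpinorNorm
import Cfsg.Agent.Lib.Helper5.ReflGenMat

set_option autoImplicit false
open Cfsg

namespace Cfsg.Agent.Lib.Helper5.Dickson

open Matrix QuadraticMap CliffordAlgebra Cfsg.Agent.Lib.Helper5.CartanDieudonne
  Cfsg.Agent.Lib.Helper5.Refl Cfsg.Agent.Lib.Helper5.SpinClifford
  Cfsg.Agent.Lib.Helper5.SpinorNorm

section abstract
variable {F : Type*} [Field F] {V : Type*} [AddCommGroup V] [Module F V] (Q : QuadraticForm F V)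

theorem cprod_mem_evenOdd (vs : List V) : cprod Q vs ∈ evenOdd Q (vs.length : ZMod 2) := by
  induction vs with
  | nil =>
    rw [cprod_nil, List.length_nil, Nat.cast_zero]
    exact SetLike.one_mem_graded _
  | cons v vs ih =>
    rw [cprod_cons, List.length_cons, Nat.cast_add, Nat.cast_one, add_comm]
    exact SetLike.mul_mem_graded (ι_mem_evenOdd_one Q v) ih

/-- scalars embed in the Clifford algebra of a free module (any characteristic) -/
theorem algebraMap_injective' [Module.Free F V] :
    Function.Injective (algebraMap F (CliffordAlgebra Q)) := by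
  obtain ⟨B, hB⟩ := LinearMap.BilinMap.toQuadraticMap_surjective Q
  have h : (-B).toQuadraticMap = (0 : QuadraticForm F V) - Q := by
    rw [LinearMap.BilinMap.toQuadraticMap_neg, hB, zero_sub]
  intro r r' hrr'
  have := congrArg (changeForm h) hrr'
  rw [changeForm_algebraMap, changeForm_algebraMap] at this
  exact (ExteriorAlgebra.algebraMap_inj V r r').mp this

/-- if a product of reflections is the identity, their number is even (any characteristic) -/
theorem even_length_of_reflList_eq_id [FiniteDimensional F V]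
    (hQ : (polarBilin Q).Nondegenerate) (vs : List V) (hvs : ∀ v ∈ vs, Q v ≠ 0)
    (hid : ∀ w, reflList Q vs w = w) : Even vs.length := by
  by_contra hodd
  rw [Nat.not_even_iff_odd] at hodd
  have hsq : ((-1 : F) ^ vs.length) * ((-1 : F) ^ vs.length) = 1 := by
    rw [← mul_pow]; simp
  have hcomm : ∀ w : V, ι Q w * cprod Q vs = involute (cprod Q vs) * ι Q w := by
    intro w
    rw [involute_cprod, smul_mul_assoc, cprod_mul_ι Q vs hvs w, hid, smul_smul, hsq, one_smul]
  obtain ⟨r, hr⟩ := scalar_of_twisted_central Q hQ (cprod Q vs) hcomm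
  have h1 : cprod Q vs ∈ evenOdd Q 1 := by
    have := cprod_mem_evenOdd Q vs
    have hc : ((vs.length : ℕ) : ZMod 2) = 1 := by
      rw [ZMod.natCast_eq_one_iff_odd]; exact hodd
    rwa [hc] at this
  have h0 : cprod Q vs ∈ evenOdd Q 0 := by
    rw [hr]
    exact SetLike.algebraMap_mem_graded _ r
  have hzero : cprod Q vs = 0 := by
    have := (evenOdd_isCompl Q).disjoint
    rw [Submodule.disjoint_def] at this
    exact this _ h0 h1
  have h3 := reverse_cprod_mul Q vs
  rw [hzero, mul_zero] at h3
  have hinj : Function.Injective (algebraMap F (CliffordAlgebra Q)) := algebraMap_injective' Q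
  have h4 : (vs.map Q).prod = 0 := hinj (by rw [← h3, map_zero])
  have h5 : (vs.map Q).prod ≠ 0 := by
    clear hid hcomm hr h1 h0 hzero h3 h4 hodd hsq
    induction vs with
    | nil => simp
    | cons v vs ih =>
      rw [List.map_cons, List.prod_cons]
      exact mul_ne_zero (hvs v (List.mem_cons_self ..))
        (ih (fun u hu => hvs u (List.mem_cons_of_mem _ hu)))
  exact h5 h4

end abstract

section matrix
variable {ι : Type} [Fintype ι] [DecidableEq ι] {F : Type*} [Field F]
  (Q : QuadraticForm F (ι → F))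

/-- the parity of the number of reflections in a factorisation is well defined -/
theorem parity_welldefined (hQ : (polarBilin Q).Nondegenerate)
    (vs ws : List (ι → F)) (hvs : ∀ v ∈ vs, Q v ≠ 0) (hws : ∀ w ∈ ws, Q w ≠ 0)
    (h : rprod Q vs = rprod Q ws) : Even vs.length ↔ Even ws.length := by
  have hall : ∀ v ∈ vs ++ ws.reverse, Q v ≠ 0 := by
    intro v hv
    rcases List.mem_append.mp hv with h | h
    · exact hvs v h
    · exact hws v (List.mem_reverse.mp h)
  have hid : ∀ w, reflList Q (vs ++ ws.reverse) w = w := by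
    intro w
    rw [← rprod_mulVec, rprod_append, h, rprod_mul_reverse Q ws hws, one_mulVec]
  have heven := even_length_of_reflList_eq_id Q hQ _ hall hid
  rw [List.length_append, List.length_reverse, Nat.even_add] at heven
  exact heven

/-- every isometry is a product of reflections -/
theorem exists_rep' (hQ : (polarBilin Q).Nondegenerate)
    (hex : Fintype.card ι = 4 → ∃ a : F, a ≠ 0 ∧ a ≠ 1)
    (g : ↥(isometryGroup F ⇑Q)) : ∃ vs, IsRep Q g vs := by
  have hg : g ∈ reflSubgroup Q := by
    rw [Cfsg.Agent.Lib.Helper5.ReflGenMat.reflSubgroup_eq_top Q hQ hex]; trivial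
  unfold reflSubgroup at hg
  induction hg using Subgroup.closure_induction with
  | mem x hx =>
    obtain ⟨v, hv, hx⟩ := hx
    refine ⟨[v], ?_, ?_⟩
    · intro u hu
      rw [List.mem_singleton] at hu
      rw [hu]; exact hv
    · rw [rprod_cons, rprod_nil, mul_one]
      exact hx
  | one => exact ⟨[], isRep_one Q⟩
  | mul x y _ _ hx hy =>
    obtain ⟨vs, hvs⟩ := hx
    obtain ⟨ws, hws⟩ := hy
    exact ⟨vs ++ ws, isRep_mul Q hvs hws⟩
  | inv x _ hx =>
    obtain ⟨vs, hvs⟩ := hx
    exact ⟨vs.reverse, isRep_inv Q hvs⟩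

theorem neg_one_pow_eq_of_even_iff {a b : ℕ} (h : Even a ↔ Even b) :
    (-1 : ℤˣ) ^ a = (-1 : ℤˣ) ^ b := by
  by_cases he : Even a
  · rw [he.neg_one_pow, (h.mp he).neg_one_pow]
  · have ho : ¬ Even b := fun hb => he (h.mpr hb)
    rw [Nat.not_even_iff_odd] at he ho
    rw [he.neg_one_pow, ho.neg_one_pow]

/-- the parity homomorphism (the Dickson invariant in characteristic two, the determinant in odd
characteristic) -/
noncomputable def par (hQ : (polarBilin Q).Nondegenerate)
    (hex : Fintype.card ι = 4 → ∃ a : F, a ≠ 0 ∧ a ≠ 1) : ↥(isometryGroup F ⇑Q) →* ℤˣ :=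
  MonoidHom.mk' (fun g => (-1) ^ (Classical.choose (exists_rep' Q hQ hex g)).length) (by
    intro g h
    have hg := Classical.choose_spec (exists_rep' Q hQ hex g)
    have hh := Classical.choose_spec (exists_rep' Q hQ hex h)
    have hgh := Classical.choose_spec (exists_rep' Q hQ hex (g * h))
    have h1 := isRep_mul Q hg hh
    rw [← pow_add, ← List.length_append]
    exact neg_one_pow_eq_of_even_iff
      (parity_welldefined Q hQ _ _ hgh.1 h1.1 (hgh.2.symm.trans h1.2)))

theorem par_eq (hQ : (polarBilin Q).Nondegenerate)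
    (hex : Fintype.card ι = 4 → ∃ a : F, a ≠ 0 ∧ a ≠ 1)
    (g : ↥(isometryGroup F ⇑Q)) (vs : List (ι → F)) (hvs : IsRep Q g vs) :
    par Q hQ hex g = (-1) ^ vs.length := by
  have hg := Classical.choose_spec (exists_rep' Q hQ hex g)
  exact neg_one_pow_eq_of_even_iff
    (parity_welldefined Q hQ _ _ hg.1 hvs.1 (hg.2.symm.trans hvs.2))

theorem par_reflection (hQ : (polarBilin Q).Nondegenerate)
    (hex : Fintype.card ι = 4 → ∃ a : F, a ≠ 0 ∧ a ≠ 1) (v : ι → F) (hv : Q v ≠ 0) :
    par Q hQ hex (reflection Q v hv) = -1 := by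
  rw [par_eq Q hQ hex _ [v] (isRep_reflection Q v hv)]
  simp

end matrix

end Cfsg.Agent.Lib.Helper5.Dickson
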