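import Mathlib
import Cfsg.Prelude
import Cfsg.Agent.Lib.Helper5.Siegel
import Cfsg.Agent.Lib.Helper5.ReflGen

set_option autoImplicit false
set_option linter.unusedSectionVars false
open Cfsg

/-! Eichler (Siegel) transformations `ρ_{u,z}` with `u` singular and `z ⊥ u` arbitrary, as elements
of the matrix isometry group. -/

namespace Cfsg.Agent.Lib.Helper5.Eichler

open Matrix QuadraticMap Cfsg.Agent.Lib.Helper5.CartanDieudonne Cfsg.Agent.Lib.Helper5.Refl
  Cfsg.Agent.Lib.Helper5.OrthCard Cfsg.Agent.Lib.Helper5.Siegel Cfsg.Agent.Lib.Helper5.QuadIsom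
  Cfsg.Agent.Lib.Helper5.ReflGen

variable {ι : Type} [Fintype ι] [DecidableEq ι] {F : Type*} [Field F]
  (Q : QuadraticForm F (ι → F))

theorem eichlerMap_zero (u : ι → F) : eichlerMap Q u 0 = LinearMap.id := by
  apply LinearMap.ext
  intro x
  rw [eichlerMap_apply]
  simp [polar]

/-- the Eichler transformation as an element of the isometry group -/
noncomputable def eich (u z : ι → F) (hu : Q u = 0) (huz : polar ⇑Q u z = 0) :
    ↥(isometryGroup F ⇑Q) :=
  ⟨⟨LinearMap.toMatrix' (eichlerMap Q u z), LinearMap.toMatrix' (eichlerMap Q u (-z)), by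
      rw [← LinearMap.toMatrix'_mul, eichlerMap_mul Q u z (-z) hu huz
        (by rw [polar_neg_right, huz, neg_zero]), add_neg_cancel, eichlerMap_zero,
        LinearMap.toMatrix'_id], by
      rw [← LinearMap.toMatrix'_mul, eichlerMap_mul Q u (-z) z hu
        (by rw [polar_neg_right, huz, neg_zero]) huz, neg_add_cancel, eichlerMap_zero,
        LinearMap.toMatrix'_id]⟩, by
    rw [mem_isometryGroup_iff]
    intro v
    show Q (LinearMap.toMatrix' (eichlerMap Q u z) *ᵥ v) = Q v
    rw [LinearMap.toMatrix'_mulVec, eichlerMap_isom Q u z hu huz]⟩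

theorem act_eich (u z : ι → F) (hu : Q u = 0) (huz : polar ⇑Q u z = 0) (x : ι → F) :
    act Q (eich Q u z hu huz) x = eichlerMap Q u z x :=
  LinearMap.toMatrix'_mulVec _ x

/-- two isometries with the same action are equal -/
theorem ext_act {g h : ↥(isometryGroup F ⇑Q)} (H : ∀ x, act Q g x = act Q h x) : g = h := by
  apply Subtype.ext
  apply Units.ext
  rw [ext_iff_mulVec]
  exact H

theorem eich_mul (u z z' : ι → F) (hu : Q u = 0) (huz : polar ⇑Q u z = 0)
    (huz' : polar ⇑Q u z' = 0) :
    eich Q u z hu huz * eich Q u z' hu huz' =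
      eich Q u (z + z') hu (by rw [polar_add_right, huz, huz', add_zero]) := by
  apply ext_act
  intro x
  rw [act_mul, act_eich, act_eich, act_eich, ← eichlerMap_mul Q u z z' hu huz huz',
    Module.End.mul_apply]

theorem eich_zero (u : ι → F) (hu : Q u = 0) :
    eich Q u 0 hu (by simp [polar]) = 1 := by
  apply ext_act
  intro x
  rw [act_eich, eichlerMap_zero]
  exact (one_mulVec x).symm

theorem eich_inv (u z : ι → F) (hu : Q u = 0) (huz : polar ⇑Q u z = 0) :
    (eich Q u z hu huz)⁻¹ = eich Q u (-z) hu (by rw [polar_neg_right, huz, neg_zero]) := by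
  rw [inv_eq_iff_mul_eq_one, eich_mul]
  have : z + -z = 0 := add_neg_cancel z
  simp only [this]
  exact eich_zero Q u hu

theorem eich_comm (u z z' : ι → F) (hu : Q u = 0) (huz : polar ⇑Q u z = 0)
    (huz' : polar ⇑Q u z' = 0) :
    eich Q u z hu huz * eich Q u z' hu huz' = eich Q u z' hu huz' * eich Q u z hu huz := by
  rw [eich_mul, eich_mul]
  simp only [add_comm z z']

/-- conjugating an Eichler transformation by an isometry -/
theorem conj_eich (a : ↥(isometryGroup F ⇑Q)) (u z : ι → F) (hu : Q u = 0)
    (huz : polar ⇑Q u z = 0) :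
    a * eich Q u z hu huz * a⁻¹ =
      eich Q (act Q a u) (act Q a z) (by rw [quad_act, hu]) (by rw [polar_act, huz]) := by
  apply ext_act
  intro x
  rw [act_mul, act_mul, act_eich, act_eich, eichlerMap_apply, eichlerMap_apply, act_add, act_add,
    act_smul, act_smul, act_inv_act, quad_act]
  have h2 : ∀ w, polar (⇑Q) w (act Q a⁻¹ x) = polar (⇑Q) (act Q a w) x := by
    intro w
    rw [← polar_act Q a w (act Q a⁻¹ x), act_inv_act]
  rw [h2, h2]

/-- with `z` singular the Eichler transformation is a long root element -/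
theorem eich_coe_of_sing (u z : ι → F) (hu : Q u = 0) (huz : polar ⇑Q u z = 0) (hz : Q z = 0) :
    ((eich Q u z hu huz : Matrix.GeneralLinearGroup ι F) : Matrix ι ι F) =
      siegelMatrix ⇑Q u z 1 := by
  rw [ext_iff_mulVec]
  intro x
  have : (((eich Q u z hu huz : ↥(isometryGroup F ⇑Q)) : Matrix.GeneralLinearGroup ι F) :
      Matrix ι ι F) *ᵥ x = act Q (eich Q u z hu huz) x := rfl
  rw [this, act_eich, eichlerMap_apply, siegelMatrix_mulVec, hz]
  simp only [one_mul, zero_mul, add_zero, neg_smul]
  abel

theorem eich_eq_siegel (u z : ι → F) (hu : Q u = 0) (huz : polar ⇑Q u z = 0) (hz : Q z = 0) :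
    eich Q u z hu huz = siegel Q u z hu hz huz 1 := by
  apply Subtype.ext
  apply Units.ext
  rw [eich_coe_of_sing Q u z hu huz hz, siegel_coe]

/-- a long root element is an Eichler transformation -/
theorem siegel_eq_eich (u z : ι → F) (hu : Q u = 0) (hz : Q z = 0) (huz : polar ⇑Q u z = 0)
    (c : F) :
    siegel Q u z hu hz huz c =
      eich Q u (c • z) hu (by rw [polar_smul_right, huz, smul_zero]) := by
  apply ext_act
  intro x
  rw [act_siegel, act_eich, eichlerMap_apply, QuadraticMap.map_smul, hz, polar_smul_left]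
  simp only [smul_eq_mul, mul_zero, zero_mul, add_zero, neg_smul, smul_smul]
  rw [mul_comm (polar (⇑Q) u x) c]
  abel

/-- an Eichler transformation along an anisotropic vector is a product of two reflections -/
theorem eich_eq_refl_mul (u z : ι → F) (hu : Q u = 0) (huz : polar ⇑Q u z = 0) (hz : Q z ≠ 0)
    (hz' : Q (z + Q z • u) ≠ 0) :
    eich Q u z hu huz = reflection Q z hz * reflection Q (z + Q z • u) hz' := by
  apply ext_act
  intro x
  rw [act_mul, act_eich, eichlerMap_eq_refl_mul Q u z hu hz huz, Module.End.mul_apply,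
    act_reflection, act_reflection, reflMap_apply, reflMap_apply]
  simp only [neg_smul, sub_eq_add_neg]

theorem quad_add_smul_sing (u z : ι → F) (hu : Q u = 0) (huz : polar ⇑Q u z = 0) (c : F) :
    Q (z + c • u) = Q z := by
  rw [Cfsg.Agent.Lib.Helper5.QuadIsom.quad_add_smul, hu, polar_comm, huz]
  ring

/-- scaling the singular vector -/
theorem eich_smul_left (u z : ι → F) (hu : Q u = 0) (huz : polar ⇑Q u z = 0) (c : F) :
    eich Q (c • u) z (by rw [QuadraticMap.map_smul, hu, smul_zero])
      (by rw [polar_smul_left, huz, smul_zero]) =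
    eich Q u (c • z) hu (by rw [polar_smul_right, huz, smul_zero]) := by
  apply ext_act
  intro x
  rw [act_eich, act_eich, eichlerMap_apply, eichlerMap_apply, QuadraticMap.map_smul]
  simp only [polar_smul_left, smul_eq_mul, smul_smul, neg_smul]
  ring_nf
  module

end Cfsg.Agent.Lib.Helper5.Eichler
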