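import Mathlib
import Cfsg.Agent.Lib.Helper5.QuadIsom
import Cfsg.Agent.Lib.Helper5.QuadWitt
import Cfsg.Agent.Lib.Helper5.ReflGen

set_option autoImplicit false
set_option linter.unusedSectionVars false

/-! Existence lemmas for singular and anisotropic vectors in non-degenerate quadratic spaces of
dimension at least five over finite fields. -/

namespace Cfsg.Agent.Lib.Helper5.SingGeom

open Module QuadraticMap Cfsg.Agent.Lib.Helper5.QuadIsom Cfsg.Agent.Lib.Helper5
  Cfsg.Agent.Lib.Helper5.ReflGen

variable {F : Type*} [Field F] {V : Type*} [AddCommGroup V] [Module F V]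
  (Q : QuadraticForm F V)

/-- the common orthogonal complement of two vectors -/
def perp2 (y y1 : V) : Submodule F V :=
  LinearMap.ker (polarBilin Q y) ⊓ LinearMap.ker (polarBilin Q y1)

theorem mem_perp2 (y y1 z : V) : z ∈ perp2 Q y y1 ↔ polar Q y z = 0 ∧ polar Q y1 z = 0 := by
  simp [perp2, Submodule.mem_inf, LinearMap.mem_ker]

theorem finrank_perp2 [FiniteDimensional F V] (y y1 : V) :
    finrank F V ≤ finrank F ↥(perp2 Q y y1) + 2 := by
  set φ : V →ₗ[F] F × F := (polarBilin Q y).prod (polarBilin Q y1) with hφ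
  have hker : LinearMap.ker φ = perp2 Q y y1 := by
    rw [hφ, LinearMap.ker_prod]; rfl
  have h1 := LinearMap.finrank_range_add_finrank_ker φ
  have h2 : finrank F ↥(LinearMap.range φ) ≤ 2 := by
    have := Submodule.finrank_le (LinearMap.range φ)
    rw [Module.finrank_prod, Module.finrank_self] at this
    exact this
  rw [hker] at h1
  omega

/-- a nonzero singular vector in a subspace of dimension at least three -/
theorem exists_singular_in [Finite F] [FiniteDimensional F V] (U : Submodule F V)
    (h3 : 3 ≤ finrank F U) : ∃ e ∈ U, e ≠ 0 ∧ Q e = 0 := by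
  obtain ⟨e, he0, he⟩ := exists_singular (Q.comp U.subtype) h3
  refine ⟨e.1, e.2, ?_, he⟩
  intro h
  exact he0 (Subtype.ext h)

/-- a hyperbolic pair orthogonal to a given nonzero vector -/
theorem exists_hyp_pair_perp [Finite F] [FiniteDimensional F V]
    (hQ : (polarBilin Q).Nondegenerate) (h5 : 5 ≤ finrank F V) (y : V) (hy : y ≠ 0) :
    ∃ e f, Q e = 0 ∧ Q f = 0 ∧ polar Q e f = 1 ∧ polar Q y e = 0 ∧ polar Q y f = 0 := by
  have hND : ND Q := fun z hz => hQ.1 z hz
  obtain ⟨y1, hy1⟩ := exists_polar_ne Q hND y hy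
  have hfin := finrank_perp2 Q y y1
  obtain ⟨e0, he0U, he00, he0⟩ := exists_singular_in Q (perp2 Q y y1) (by omega)
  rw [mem_perp2] at he0U
  have hnot : e0 ∉ Submodule.span F {y} := by
    intro hmem
    obtain ⟨t, rfl⟩ := Submodule.mem_span_singleton.mp hmem
    have h1 := he0U.2
    rw [polar_smul_right, smul_eq_mul, polar_comm] at h1
    rcases mul_eq_zero.mp h1 with h | h
    · apply he00; rw [h, zero_smul]
    · exact hy1 h
  obtain ⟨z, hz1, hz2⟩ := exists_perp_not_perp Q hQ (Submodule.span F {y}) e0 hnot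
  have hyz : polar Q y z = 0 := hz1 y (Submodule.mem_span_singleton_self y)
  set c : F := (polar Q z e0)⁻¹ with hc
  refine ⟨e0, c • z + (-(Q (c • z))) • e0, he0, ?_, ?_, he0U.1, ?_⟩
  · rw [quad_add_smul, he0, polar_smul_left, smul_eq_mul, hc, inv_mul_cancel₀ hz2]
    ring
  · rw [polar_add_right, polar_smul_right, polar_smul_right, polar_self_of_sing Q e0 he0,
      polar_comm Q e0 z, smul_eq_mul, smul_eq_mul, hc, inv_mul_cancel₀ hz2]
    ring
  · rw [polar_add_right, polar_smul_right, polar_smul_right, hyz, he0U.1]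
    simp

/-- if `U` contains a hyperbolic pair, then a vector orthogonal to all singular vectors of `U` is
orthogonal to `U` -/
theorem perp_of_perp_singular (U : Submodule F V) (e f : V) (heU : e ∈ U) (hfU : f ∈ U)
    (he : Q e = 0) (hf : Q f = 0) (hef : polar Q e f = 1) (x : V)
    (hx : ∀ s ∈ U, Q s = 0 → polar Q s x = 0) : ∀ u ∈ U, polar Q u x = 0 := by
  intro u hu
  set w : V := u + (-(polar Q u f)) • e + (-(polar Q u e)) • f with hw
  have hwU : w ∈ U :=
    U.add_mem (U.add_mem hu (U.smul_mem _ heU)) (U.smul_mem _ hfU)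
  have hfe : polar Q f e = 1 := by rw [polar_comm]; exact hef
  have hwe : polar Q w e = 0 := by
    rw [hw, polar_add_left, polar_add_left, polar_smul_left, polar_smul_left,
      polar_self_of_sing Q e he, hfe]
    simp
  have hwf : polar Q w f = 0 := by
    rw [hw, polar_add_left, polar_add_left, polar_smul_left, polar_smul_left,
      polar_self_of_sing Q f hf, hef]
    simp
  set s : V := e + w + (-(Q w)) • f with hs
  have hsU : s ∈ U := U.add_mem (U.add_mem heU hwU) (U.smul_mem _ hfU)
  have hQs : Q s = 0 := by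
    rw [hs, quad_add_smul, hf, Cfsg.Agent.Lib.Helper5.quad_add, he, polar_add_left, hef, hwf,
      polar_comm Q e w, hwe]
    ring
  have h1 := hx s hsU hQs
  have h2 := hx e heU he
  have h3 := hx f hfU hf
  rw [hs, polar_add_left, polar_add_left, polar_smul_left, h2, h3] at h1
  have h4 : polar Q w x = 0 := by simpa using h1
  rw [hw, polar_add_left, polar_add_left, polar_smul_left, polar_smul_left, h2, h3] at h4
  simpa using h4

/-- a singular vector orthogonal to `y` and not orthogonal to `x ∉ ⟨y⟩` -/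
theorem exists_singular_perp_not_perp [Finite F] [FiniteDimensional F V]
    (hQ : (polarBilin Q).Nondegenerate) (h5 : 5 ≤ finrank F V) (y x : V) (hy : y ≠ 0)
    (hx : x ∉ Submodule.span F {y}) : ∃ e, Q e = 0 ∧ polar Q y e = 0 ∧ polar Q e x ≠ 0 := by
  by_contra hcon
  push Not at hcon
  obtain ⟨e, f, he, hf, hef, hye, hyf⟩ := exists_hyp_pair_perp Q hQ h5 y hy
  have hall := perp_of_perp_singular Q (LinearMap.ker (polarBilin Q y)) e f
    (by rw [LinearMap.mem_ker]; exact hye) (by rw [LinearMap.mem_ker]; exact hyf) he hf hef x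
    (fun s hs hQs => hcon s hQs (by rw [LinearMap.mem_ker] at hs; exact hs))
  obtain ⟨z, hz1, hz2⟩ := exists_perp_not_perp Q hQ (Submodule.span F {y}) x hx
  apply hz2
  apply hall
  rw [LinearMap.mem_ker]
  exact hz1 y (Submodule.mem_span_singleton_self y)

/-- a singular vector non-orthogonal to two given orthogonal nonzero vectors, the first of which
is singular -/
theorem exists_singular_cross (hQ : (polarBilin Q).Nondegenerate) (u u' : V) (hu0 : u ≠ 0)
    (hu0' : u' ≠ 0) (hu : Q u = 0) (huu' : polar Q u u' = 0) :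
    ∃ w, Q w = 0 ∧ polar Q w u ≠ 0 ∧ polar Q w u' ≠ 0 := by
  have hND : ND Q := fun z hz => hQ.1 z hz
  obtain ⟨y, hy1, hy2⟩ := exists_cross Q hND u u' hu0 hu0'
  set μ : F := -(Q y) * (polar Q u y)⁻¹ with hμ
  refine ⟨y + μ • u, ?_, ?_, ?_⟩
  · rw [quad_add_smul, hu, mul_zero, add_zero, polar_comm Q y u, hμ]
    field_simp
    ring
  · rw [polar_add_left, polar_smul_left, polar_self_of_sing Q u hu, smul_zero, add_zero,
      polar_comm]
    exact hy1
  · rw [polar_add_left, polar_smul_left, huu', smul_zero, add_zero, polar_comm]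
    exact hy2

/-- an anisotropic vector orthogonal to two given vectors -/
theorem exists_aniso_perp2 [FiniteDimensional F V]
    (hQ : (polarBilin Q).Nondegenerate) (h5 : 5 ≤ finrank F V) (w u' : V) :
    ∃ z, Q z ≠ 0 ∧ polar Q w z = 0 ∧ polar Q u' z = 0 := by
  by_contra hcon
  push Not at hcon
  have hfin := finrank_perp2 Q w u'
  have hsing : ∀ z ∈ perp2 Q w u', Q z = 0 := by
    intro z hz
    rw [mem_perp2] at hz
    by_contra hne
    exact hcon z hne hz.1 hz.2
  have hle : perp2 Q w u' ≤ LinearMap.BilinForm.orthogonal (polarBilin Q) (perp2 Q w u') := by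
    intro z hz
    rw [LinearMap.BilinForm.mem_orthogonal_iff]
    intro t ht
    show polarBilin Q t z = 0
    rw [polarBilin_apply_apply]
    unfold polar
    rw [hsing _ (Submodule.add_mem _ ht hz), hsing t ht, hsing z hz]
    ring
  have h1 := Submodule.finrank_mono hle
  rw [LinearMap.BilinForm.finrank_orthogonal hQ] at h1
  omega

end Cfsg.Agent.Lib.Helper5.SingGeom
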