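import Mathlib
import Cfsg.Prelude
import Cfsg.Agent.Lib.Helper5.SingGeom
import Cfsg.Agent.Lib.Helper5.Eichler
import Cfsg.Agent.Lib.Helper5.Dickson

set_option autoImplicit false
set_option linter.unusedSectionVars false
open Cfsg

/-! `Ω` is generated by the long root elements (dimension at least five, finite field). -/

namespace Cfsg.Agent.Lib.Helper5.OmegaGen

open Matrix QuadraticMap Cfsg.Agent.Lib.Helper5.CartanDieudonne Cfsg.Agent.Lib.Helper5.Refl
  Cfsg.Agent.Lib.Helper5.OrthCard Cfsg.Agent.Lib.Helper5.Siegel Cfsg.Agent.Lib.Helper5.QuadIsom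
  Cfsg.Agent.Lib.Helper5.ReflGen Cfsg.Agent.Lib.Helper5.Eichler Cfsg.Agent.Lib.Helper5.SingGeom
  Cfsg.Agent.Lib.Helper5.SpinorNorm Cfsg.Agent.Lib.Helper5.Dickson

variable {ι : Type} [Fintype ι] [DecidableEq ι] {F : Type*} [Field F]
  (Q : QuadraticForm F (ι → F))

/-- the long root elements -/
def rootSet : Set ↥(isometryGroup F ⇑Q) :=
  {g | ∃ (u v : ι → F) (c : F), Q u = 0 ∧ Q v = 0 ∧ polar ⇑Q u v = 0 ∧
    ((g : Matrix.GeneralLinearGroup ι F) : Matrix ι ι F) = siegelMatrix ⇑Q u v c}

/-- the subgroup generated by the long root elements -/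
def T : Subgroup ↥(isometryGroup F ⇑Q) := Subgroup.closure (rootSet Q)

theorem siegel_mem_T (u v : ι → F) (hu : Q u = 0) (hv : Q v = 0) (huv : polar ⇑Q u v = 0) (c : F) :
    siegel Q u v hu hv huv c ∈ T Q :=
  Subgroup.subset_closure ⟨u, v, c, hu, hv, huv, rfl⟩

theorem eq_siegel_of_mem_rootSet (g : ↥(isometryGroup F ⇑Q)) (hg : g ∈ rootSet Q) :
    ∃ (u v : ι → F) (c : F) (hu : Q u = 0) (hv : Q v = 0) (huv : polar ⇑Q u v = 0),
      g = siegel Q u v hu hv huv c := by
  obtain ⟨u, v, c, hu, hv, huv, hg⟩ := hg
  refine ⟨u, v, c, hu, hv, huv, ?_⟩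
  apply Subtype.ext
  apply Units.ext
  rw [hg, siegel_coe]

/-- the closure of a conjugation-invariant set is normal -/
theorem normal_closure_of_conj {G : Type*} [Group G] (S : Set G)
    (hS : ∀ a : G, ∀ s ∈ S, a * s * a⁻¹ ∈ S) : (Subgroup.closure S).Normal := by
  constructor
  intro n hn a
  induction hn using Subgroup.closure_induction with
  | mem x hx => exact Subgroup.subset_closure (hS a x hx)
  | one => simp
  | mul x y _ _ hx hy =>
    have : a * (x * y) * a⁻¹ = (a * x * a⁻¹) * (a * y * a⁻¹) := by group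
    rw [this]; exact mul_mem hx hy
  | inv x _ hx =>
    have : a * x⁻¹ * a⁻¹ = (a * x * a⁻¹)⁻¹ := by group
    rw [this]; exact inv_mem hx

instance T_normal : (T Q).Normal := by
  apply normal_closure_of_conj
  intro a s hs
  obtain ⟨u, v, c, hu, hv, huv, rfl⟩ := eq_siegel_of_mem_rootSet Q s hs
  rw [conj_siegel]
  exact ⟨_, _, c, by rw [quad_act, hu], by rw [quad_act, hv], by rw [polar_act, huv], rfl⟩

section finite
variable [Fintype F]

/-- every Eichler transformation lies in `T` -/
theorem eich_mem_T (hQ : (polarBilin Q).Nondegenerate) (h5 : 5 ≤ Fintype.card ι)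
    (u z : ι → F) (hu : Q u = 0) (huz : polar ⇑Q u z = 0) : eich Q u z hu huz ∈ T Q := by
  by_cases hz : Q z = 0
  · rw [eich_eq_siegel Q u z hu huz hz]
    exact siegel_mem_T Q u z hu hz huz 1
  · by_cases hu0 : u = 0
    · have : eich Q u z hu huz = 1 := by
        apply ext_act
        intro x
        rw [act_eich, eichlerMap_apply]
        subst hu0
        simp [polar]
        exact (one_mulVec x).symm
      rw [this]; exact one_mem _
    · have hzu : z ∉ Submodule.span F {u} := by
        intro hmem
        obtain ⟨t, rfl⟩ := Submodule.mem_span_singleton.mp hmem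
        apply hz
        rw [QuadraticMap.map_smul, hu, smul_zero]
      have h5' : 5 ≤ Module.finrank F (ι → F) := by
        rw [Module.finrank_fintype_fun_eq_card]; exact h5
      obtain ⟨e, he, hue, hez⟩ := exists_singular_perp_not_perp Q hQ h5' u z hu0 hzu
      set c : F := Q z * (polar ⇑Q e z)⁻¹ with hc
      have hce : Q (c • e) = 0 := by rw [QuadraticMap.map_smul, he, smul_zero]
      have huce : polar ⇑Q u (c • e) = 0 := by rw [polar_smul_right, hue, smul_zero]
      have hz2 : Q (z + (-c) • e) = 0 := by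
        rw [Cfsg.Agent.Lib.Helper5.QuadIsom.quad_add_smul, he, polar_comm (⇑Q) z e, hc]
        field_simp
        ring
      have huz2 : polar ⇑Q u (z + (-c) • e) = 0 := by
        rw [polar_add_right, polar_smul_right, huz, hue]; simp
      have hsplit : eich Q u z hu huz =
          eich Q u (c • e) hu huce * eich Q u (z + (-c) • e) hu huz2 := by
        rw [eich_mul]
        congr 1
        module
      rw [hsplit, eich_eq_siegel Q u _ hu huce hce, eich_eq_siegel Q u _ hu huz2 hz2]
      exact mul_mem (siegel_mem_T Q _ _ _ _ _ _) (siegel_mem_T Q _ _ _ _ _ _)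

theorem reflection_congr {v v' : ι → F} (h : v = v') (hv : Q v ≠ 0) (hv' : Q v' ≠ 0) :
    reflection Q v hv = reflection Q v' hv' := by
  subst h; rfl

/-- the product of two reflections in vectors of the same norm with singular difference -/
theorem refl_mul_mem_of_sing (hQ : (polarBilin Q).Nondegenerate) (h5 : 5 ≤ Fintype.card ι)
    (b c : ι → F) (hb : Q b ≠ 0) (hc : Q c ≠ 0) (hbc : Q c = Q b) (hd : Q (c - b) = 0) :
    reflection Q b hb * reflection Q c hc ∈ T Q := by
  have h1 : polar ⇑Q b (c - b) = 0 := by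
    have : Q c = Q (b + (c - b)) := by congr 1; abel
    rw [Cfsg.Agent.Lib.Helper5.quad_add, hd, add_zero] at this
    rw [hbc] at this
    linear_combination -this
  set u : ι → F := (Q b)⁻¹ • (c - b) with hu
  have hQu : Q u = 0 := by rw [hu, QuadraticMap.map_smul, hd, smul_zero]
  have hub : polar ⇑Q u b = 0 := by
    rw [hu, polar_smul_left, polar_comm, h1, smul_zero]
  have hcb : b + Q b • u = c := by
    rw [hu, smul_smul, mul_inv_cancel₀ hb, one_smul]; abel
  have hz' : Q (b + Q b • u) ≠ 0 := by rw [hcb]; exact hc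
  have := eich_eq_refl_mul Q u b hQu hub hb hz'
  rw [reflection_congr Q hcb hz' hc] at this
  rw [← this]
  exact eich_mem_T Q hQ h5 u b hQu hub

theorem reflection_mul_self' (b : ι → F) (hb : Q b ≠ 0) :
    reflection Q b hb * reflection Q b hb = 1 := by
  apply Subtype.ext
  apply Units.ext
  exact reflection_mul_self Q b hb

/-- the product of two reflections in vectors of the same norm lies in `T` -/
theorem refl_mul_mem (hQ : (polarBilin Q).Nondegenerate) (h5 : 5 ≤ Fintype.card ι)
    (b c : ι → F) (hb : Q b ≠ 0) (hc : Q c ≠ 0) (hbc : Q c = Q b) :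
    reflection Q b hb * reflection Q c hc ∈ T Q := by
  by_cases hspan : c ∈ Submodule.span F {b}
  · obtain ⟨t, rfl⟩ := Submodule.mem_span_singleton.mp hspan
    have ht : t ≠ 0 := by
      rintro rfl
      rw [zero_smul, map_zero] at hc
      exact hc rfl
    have : reflection Q (t • b) hc = reflection Q b hb := by
      apply Subtype.ext
      apply Units.ext
      exact reflectionMatrix_smul Q t ht b hb
    rw [this, reflection_mul_self']
    exact one_mem _
  · by_cases hd : Q (c - b) = 0
    · exact refl_mul_mem_of_sing Q hQ h5 b c hb hc hbc hd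
    · have hb0 : b ≠ 0 := by
        rintro rfl
        exact hb (map_zero _)
      have h5' : 5 ≤ Module.finrank F (ι → F) := by
        rw [Module.finrank_fintype_fun_eq_card]; exact h5
      obtain ⟨e, he, hbe, hec⟩ := exists_singular_perp_not_perp Q hQ h5' b c hb0 hspan
      set s : F := Q (c - b) * (polar ⇑Q e c)⁻¹ with hs
      set b' : ι → F := b + s • e with hb'
      have hQb' : Q b' = Q b := by
        rw [hb', Cfsg.Agent.Lib.Helper5.QuadIsom.quad_add_smul, he, hbe]; ring
      have hb'0 : Q b' ≠ 0 := by rw [hQb']; exact hb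
      have hd1 : Q (b' - b) = 0 := by
        have : b' - b = s • e := by rw [hb']; abel
        rw [this, QuadraticMap.map_smul, he, smul_zero]
      have hd2 : Q (c - b') = 0 := by
        have : c - b' = (c - b) + (-s) • e := by rw [hb']; module
        rw [this, Cfsg.Agent.Lib.Helper5.QuadIsom.quad_add_smul, he, polar_sub_left, hbe,
          polar_comm (⇑Q) c e, hs]
        field_simp
        ring
      have m1 := refl_mul_mem_of_sing Q hQ h5 b b' hb hb'0 hQb' hd1
      have m2 := refl_mul_mem_of_sing Q hQ h5 b' c hb'0 hc (hbc.trans hQb'.symm) hd2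
      have := mul_mem m1 m2
      rw [mul_assoc, ← mul_assoc (reflection Q b' hb'0), reflection_mul_self', one_mul] at this
      exact this

/-- reflections commute modulo `T` -/
theorem commutator_refl_mem (hQ : (polarBilin Q).Nondegenerate) (h5 : 5 ≤ Fintype.card ι)
    (a b : ι → F) (ha : Q a ≠ 0) (hb : Q b ≠ 0) :
    reflection Q a ha * reflection Q b hb * (reflection Q a ha)⁻¹ * (reflection Q b hb)⁻¹ ∈ T Q := by
  rw [conj_reflection]
  have hinv : (reflection Q b hb)⁻¹ = reflection Q b hb :=
    inv_eq_of_mul_eq_one_right (reflection_mul_self' Q b hb)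
  rw [hinv]
  have h1 := refl_mul_mem Q hQ h5 b (act Q (reflection Q a ha) b) hb
    (by rw [quad_act]; exact hb) (by rw [quad_act])
  have h2 := inv_mem h1
  rw [_root_.mul_inv_rev, hinv] at h2
  have hinv2 : (reflection Q (act Q (reflection Q a ha) b) (by rw [quad_act]; exact hb))⁻¹ =
      reflection Q (act Q (reflection Q a ha) b) (by rw [quad_act]; exact hb) :=
    inv_eq_of_mul_eq_one_right (reflection_mul_self' Q _ _)
  rw [hinv2] at h2
  exact h2

/-- `Ω ≤ T` -/
theorem commutator_le_T (hQ : (polarBilin Q).Nondegenerate) (h5 : 5 ≤ Fintype.card ι) :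
    commutator ↥(isometryGroup F ⇑Q) ≤ T Q := by
  have hex : Fintype.card ι = 4 → ∃ a : F, a ≠ 0 ∧ a ≠ 1 := by intro h; omega
  rw [commutator_def, Subgroup.commutator_le]
  intro a _ b _
  set π := QuotientGroup.mk' (T Q)
  rw [← QuotientGroup.ker_mk' (T Q), MonoidHom.mem_ker]
  obtain ⟨vs, hvs⟩ := exists_rep' Q hQ hex a
  obtain ⟨ws, hws⟩ := exists_rep' Q hQ hex b
  have hcomm : ∀ v w : ι → F, Commute (π (reflE Q v)) (π (reflE Q w)) := by
    intro v w
    by_cases hv : Q v ≠ 0
    · by_cases hw : Q w ≠ 0
      · rw [reflE_of_ne Q v hv, reflE_of_ne Q w hw]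
        have h1 := commutator_refl_mem Q hQ h5 v w hv hw
        rw [← QuotientGroup.ker_mk' (T Q), MonoidHom.mem_ker, map_mul, map_mul, map_mul,
          map_inv, map_inv] at h1
        unfold Commute SemiconjBy
        calc π (reflection Q v hv) * π (reflection Q w hw)
            = (π (reflection Q v hv) * π (reflection Q w hw) * (π (reflection Q v hv))⁻¹ *
                (π (reflection Q w hw))⁻¹) * (π (reflection Q w hw) * π (reflection Q v hv)) := by
              group
          _ = π (reflection Q w hw) * π (reflection Q v hv) := by rw [h1, one_mul]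
      · have : reflE Q w = 1 := by unfold reflE; rw [dif_neg hw]
        rw [this, map_one]; exact Commute.one_right _
    · have : reflE Q v = 1 := by unfold reflE; rw [dif_neg hv]
      rw [this, map_one]; exact Commute.one_left _
  have hab : Commute (π a) (π b) := by
    rw [rep_eq_prod Q hvs, rep_eq_prod Q hws, map_list_prod, map_list_prod]
    apply Commute.list_prod_left
    intro x hx
    apply Commute.list_prod_right
    intro y hy
    rw [List.mem_map] at hx hy
    obtain ⟨x', hx', rfl⟩ := hx
    obtain ⟨y', hy', rfl⟩ := hy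
    rw [List.mem_map] at hx' hy'
    obtain ⟨v, -, rfl⟩ := hx'
    obtain ⟨w, -, rfl⟩ := hy'
    exact hcomm v w
  rw [map_commutatorElement]
  exact commutatorElement_eq_one_iff_commute.mpr hab

/-- `T ≤ Ω` as soon as the long root elements are commutators -/
theorem T_le_commutator
    (hS : ∀ (u v : ι → F) (hu : Q u = 0) (hv : Q v = 0) (huv : polar ⇑Q u v = 0) (c : F),
      siegel Q u v hu hv huv c ∈ commutator ↥(isometryGroup F ⇑Q)) :
    T Q ≤ commutator ↥(isometryGroup F ⇑Q) := by
  unfold T
  rw [Subgroup.closure_le]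
  intro g hg
  obtain ⟨u, v, c, hu, hv, huv, rfl⟩ := eq_siegel_of_mem_rootSet Q g hg
  exact hS u v hu hv huv c

theorem commutator_eq_T (hQ : (polarBilin Q).Nondegenerate) (h5 : 5 ≤ Fintype.card ι)
    (hS : ∀ (u v : ι → F) (hu : Q u = 0) (hv : Q v = 0) (huv : polar ⇑Q u v = 0) (c : F),
      siegel Q u v hu hv huv c ∈ commutator ↥(isometryGroup F ⇑Q)) :
    commutator ↥(isometryGroup F ⇑Q) = T Q :=
  le_antisymm (commutator_le_T Q hQ h5) (T_le_commutator Q hS)

end finite

end Cfsg.Agent.Lib.Helper5.OmegaGen
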