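import Mathlib
import Cfsg.Prelude
import Cfsg.Agent.Lib.Helper5.Siegel
import Cfsg.Agent.Lib.Helper5.OmegaCenter

set_option autoImplicit false
open Cfsg

/-! Siegel transformations are commutators as soon as the Witt index is at least three
(all characteristics); consequently the centre of `Ω` consists of scalars. -/

namespace Cfsg.Agent.Lib.Helper5.SiegelComm

open Matrix QuadraticMap Cfsg.Agent.Lib.Helper5.CartanDieudonne Cfsg.Agent.Lib.Helper5.Refl
  Cfsg.Agent.Lib.Helper5.OrthCard Cfsg.Agent.Lib.Helper5.Siegel Cfsg.Agent.Lib.Helper5.SpinorHyp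
  Cfsg.Agent.Lib.Helper5.OmegaCenter
open scoped commutatorElement

variable {ι : Type} [Fintype ι] [DecidableEq ι] {F : Type*} [Field F]

/-- the commutator formula `[ρ_{u,w}(c), ρ_{w',v}(d)] = ρ_{u,v}(-cd)` -/
theorem siegel_commutator (Q : QuadraticForm F (ι → F)) (u v w w' : ι → F)
    (hu : Q u = 0) (hv : Q v = 0) (hw : Q w = 0) (hw' : Q w' = 0)
    (huw : polar ⇑Q u w = 0) (hw'v : polar ⇑Q w' v = 0) (huv : polar ⇑Q u v = 0)
    (huw' : polar ⇑Q u w' = 0) (hww' : polar ⇑Q w w' = 1) (hwv : polar ⇑Q w v = 0) (c d : F) :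
    ⁅(siegel Q u w hu hw huw c : ↥(isometryGroup F ⇑Q)), (siegel Q w' v hw' hv hw'v d : ↥(isometryGroup F ⇑Q))⁆ =
      siegel Q u v hu hv huv (-(c * d)) := by
  rw [commutatorElement_def, conj_siegel, siegel_inv]
  apply Subtype.ext
  apply Units.ext
  rw [ext_iff_mulVec]
  intro x
  have h1 : act Q (siegel Q u w hu hw huw c) w' = w' - c • u := by
    rw [act_siegel, huw', hww']
    simp
  have h2 : act Q (siegel Q u w hu hw huw c) v = v := by
    rw [act_siegel, huv, hwv]
    simp
  show (siegelMatrix ⇑Q (act Q (siegel Q u w hu hw huw c) w') (act Q (siegel Q u w hu hw huw c) v) d *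
    siegelMatrix ⇑Q w' v (-d)) *ᵥ x = siegelMatrix ⇑Q u v (-(c * d)) *ᵥ x
  rw [h1, h2, ← mulVec_mulVec, siegelMatrix_mulVec Q w' v, siegelMatrix_mulVec,
    siegelMatrix_mulVec]
  have hvv : polar ⇑Q v v = 0 := by rw [polar_self, hv]; simp
  have hw'w' : polar ⇑Q w' w' = 0 := by rw [polar_self, hw']; simp
  have hvw' : polar ⇑Q v w' = 0 := by rw [polar_comm]; exact hw'v
  simp only [polar_add_right, polar_sub_right, polar_smul_right, polar_sub_left, polar_smul_left,
    hvv, hw'w', hvw', hw'v, huv, huw', smul_eq_mul, mul_zero, sub_zero, add_zero]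
  module

section hyp
variable {Q : QuadraticForm F (ι → F)} {i : ℕ} {α β : Fin i → ι}

omit [Fintype ι] in
theorem single_ne {j k : ι} (hjk : j ≠ k) : (Pi.single j (1 : F) : ι → F) k = 0 := by
  rw [Pi.single_apply, if_neg (Ne.symm hjk)]

/-- the standard long root element along `e₀, e₂` is a commutator -/
theorem std_siegel_mem (h : IsHypFamily Q α β) (hi : 3 ≤ i) (c : F) :
    ∃ (huv : polar ⇑Q (Pi.single (α ⟨0, by omega⟩) 1) (Pi.single (α ⟨2, by omega⟩) 1) = 0),
      siegel Q (Pi.single (α ⟨0, by omega⟩) 1) (Pi.single (α ⟨2, by omega⟩) 1)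
        (h.sing_α _) (h.sing_α _) huv c ∈ commutator ↥(isometryGroup F ⇑Q) := by
  set t0 : Fin i := ⟨0, by omega⟩
  set t1 : Fin i := ⟨1, by omega⟩
  set t2 : Fin i := ⟨2, by omega⟩
  have h01 : t0 ≠ t1 := by intro hc; have := congrArg Fin.val hc; simp [t0, t1] at this
  have h02 : t0 ≠ t2 := by intro hc; have := congrArg Fin.val hc; simp [t0, t2] at this
  have h12 : t1 ≠ t2 := by intro hc; have := congrArg Fin.val hc; simp [t1, t2] at this
  have huw : polar ⇑Q (Pi.single (α t0) 1) (Pi.single (α t1) 1) = 0 := by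
    rw [h.polar_α]; exact single_ne (h.disj t1 t0)
  have hw'v : polar ⇑Q (Pi.single (β t1) 1) (Pi.single (α t2) 1) = 0 := by
    rw [h.polar_β]; exact single_ne (fun hc => h12 (h.inj_α hc).symm)
  have huv : polar ⇑Q (Pi.single (α t0) 1) (Pi.single (α t2) 1) = 0 := by
    rw [h.polar_α]; exact single_ne (h.disj t2 t0)
  have huw' : polar ⇑Q (Pi.single (α t0) 1) (Pi.single (β t1) 1) = 0 := by
    rw [h.polar_α]; exact single_ne (fun hc => h01 (h.inj_β hc).symm)
  have hww' : polar ⇑Q (Pi.single (α t1) 1) (Pi.single (β t1) 1) = 1 := by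
    rw [h.polar_α]; simp
  have hwv : polar ⇑Q (Pi.single (α t1) 1) (Pi.single (α t2) 1) = 0 := by
    rw [h.polar_α]; exact single_ne (h.disj t2 t1)
  refine ⟨huv, ?_⟩
  have key := siegel_commutator Q (Pi.single (α t0) 1) (Pi.single (α t2) 1) (Pi.single (α t1) 1)
    (Pi.single (β t1) 1) (h.sing_α _) (h.sing_α _) (h.sing_α _) (h.sing_β _) huw hw'v huv huw' hww'
    hwv (-c) 1
  have hc : -(-c * 1) = c := by ring
  rw [hc] at key
  rw [← key]
  exact Subgroup.commutator_mem_commutator (Subgroup.mem_top _) (Subgroup.mem_top _)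

/-- Every Siegel transformation lies in `Ω` when there are three hyperbolic pairs. -/
theorem siegel_mem_commutator [FiniteDimensional F (ι → F)] (hQ : (polarBilin Q).Nondegenerate)
    (h : IsHypFamily Q α β) (hi : 3 ≤ i) (u v : ι → F) (hu : Q u = 0) (hv : Q v = 0)
    (huv : polar ⇑Q u v = 0) (c : F) :
    siegel Q u v hu hv huv c ∈ commutator ↥(isometryGroup F ⇑Q) := by
  by_cases hli : LinearIndependent F ![u, v]
  · obtain ⟨huv0, hmem⟩ := std_siegel_mem h hi c
    set t0 : Fin i := ⟨0, by omega⟩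
    set t2 : Fin i := ⟨2, by omega⟩
    have h02 : α t0 ≠ α t2 := by
      intro hc
      have := congrArg Fin.val (h.inj_α hc)
      simp [t0, t2] at this
    have hli0 : LinearIndependent F ![(Pi.single (α t0) 1 : ι → F), Pi.single (α t2) 1] := by
      rw [LinearIndependent.pair_iff]
      intro s t hst
      have e1 := congrFun hst (α t0)
      have e2 := congrFun hst (α t2)
      simp only [Pi.add_apply, Pi.smul_apply, Pi.single_apply, smul_eq_mul, Pi.zero_apply] at e1 e2
      rw [if_pos trivial, if_neg h02] at e1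
      rw [if_neg (Ne.symm h02), if_pos trivial] at e2
      exact ⟨by simpa using e1, by simpa using e2⟩
    obtain ⟨φ, hφ, hφx⟩ := QuadIsom.witt_family Q hQ 2
      ![(Pi.single (α t0) 1 : ι → F), Pi.single (α t2) 1] ![u, v] hli0 hli
      (by
        intro j
        fin_cases j
        · simp [h.sing_α, hu]
        · simp [h.sing_α, hv])
      (by
        intro j k
        fin_cases j <;> fin_cases k
        · simp [polar_self, h.sing_α, hu]
        · simpa using huv0.trans huv.symm
        · simp only [Fin.mk_one, Fin.isValue, Matrix.cons_val_one, Matrix.cons_val_zero,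
            Fin.zero_eta]
          rw [polar_comm, huv0, polar_comm, huv]
        · simp [polar_self, h.sing_α, hv])
    obtain ⟨a, ha⟩ := exists_isom_of_linearEquiv Q φ hφ
    have hau : act Q a (Pi.single (α t0) 1) = u := by rw [ha]; exact hφx 0
    have hav : act Q a (Pi.single (α t2) 1) = v := by rw [ha]; exact hφx 1
    have hconj := conj_siegel Q a (Pi.single (α t0) 1) (Pi.single (α t2) 1) (h.sing_α _)
      (h.sing_α _) huv0 c
    have hnorm : a * siegel Q (Pi.single (α t0) 1) (Pi.single (α t2) 1) (h.sing_α _)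
        (h.sing_α _) huv0 c * a⁻¹ ∈ commutator ↥(isometryGroup F ⇑Q) :=
      (inferInstance : (commutator ↥(isometryGroup F ⇑Q)).Normal).conj_mem _ hmem a
    rw [hconj] at hnorm
    have : siegel Q u v hu hv huv c = siegel Q (act Q a (Pi.single (α t0) 1))
        (act Q a (Pi.single (α t2) 1)) (by rw [quad_act, h.sing_α]) (by rw [quad_act, h.sing_α])
        (by rw [polar_act, huv0]) c := by
      apply Subtype.ext
      apply Units.ext
      rw [siegel_coe, siegel_coe, hau, hav]
    rw [this]
    exact hnorm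
  · have : siegel Q u v hu hv huv c = 1 := by
      apply Subtype.ext
      apply Units.ext
      rw [siegel_coe, siegelMatrix_eq_one_of_not_li Q u v c hli]
      rfl
    rw [this]
    exact Subgroup.one_mem _

/-- Central elements of `Ω` are scalars `a` with `a * a = 1` (any characteristic, three hyperbolic
pairs). -/
theorem center_Omega_scalar' [FiniteDimensional F (ι → F)] (hQ : (polarBilin Q).Nondegenerate)
    (h : IsHypFamily Q α β) (hi : 3 ≤ i) (z : ↥(Omega F ⇑Q))
    (hz : z ∈ Subgroup.center ↥(Omega F ⇑Q)) :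
    ∃ a : F, a * a = 1 ∧
      (((z : ↥(isometryGroup F ⇑Q)) : Matrix.GeneralLinearGroup ι F) : Matrix ι ι F) = a • 1 := by
  apply scalar_of_commute_siegel h (by omega)
  intro u v hu hv huv
  have hS : siegel Q u v hu hv huv 1 ∈ Omega F ⇑Q := siegel_mem_commutator hQ h hi u v hu hv huv 1
  have := Subgroup.mem_center_iff.mp hz ⟨_, hS⟩
  have h3 := congrArg Subtype.val this
  exact h3.symm

end hyp

end Cfsg.Agent.Lib.Helper5.SiegelComm
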