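import Mathlib
import Cfsg.Prelude.Def_ClassicalGeometry
import Cfsg.Agent.Lib.Helper5.SympTv
import Cfsg.Agent.Lib.Helper5.SympGen

set_option autoImplicit false
set_option linter.unusedSimpArgs false
open Cfsg

namespace Cfsg.Agent.Lib.Helper5.SympPerfect

open Matrix Cfsg.Agent.Lib.Helper5.SympTv Cfsg.Agent.Lib.Helper5.SympGen

variable {F : Type*} [Field F] (m : ℕ)

/-- the symplectic transvection as an element of the symplectic group -/
def tv (v : Fin m ⊕ Fin m → F) (c : F) : symplecticGroup (Fin m) F :=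
  ⟨sympTransvection m v c, sympTransvection_mem m v c⟩

theorem tv_coe (v : Fin m ⊕ Fin m → F) (c : F) :
    ((tv m v c : symplecticGroup (Fin m) F) : Matrix (Fin m ⊕ Fin m) (Fin m ⊕ Fin m) F) =
      sympTransvection m v c := rfl

theorem tv_mul (v : Fin m ⊕ Fin m → F) (c d : F) : tv m v c * tv m v d = tv m v (c + d) :=
  Subtype.ext (sympTransvection_mul m v c d)

theorem tv_zero (v : Fin m ⊕ Fin m → F) : tv m v 0 = 1 := by
  apply Subtype.ext
  show sympTransvection m v 0 = 1
  unfold sympTransvection
  rw [zero_smul, add_zero]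

theorem tv_zero_vec (c : F) : tv m (0 : Fin m ⊕ Fin m → F) c = 1 := by
  apply Subtype.ext
  show sympTransvection m 0 c = 1
  rw [ext_iff_mulVec]
  intro x
  rw [sympTransvection_mulVec, smul_zero, add_zero, one_mulVec]

theorem tv_smul (a : F) (v : Fin m ⊕ Fin m → F) (c : F) :
    tv m (a • v) c = tv m v (a * a * c) := by
  apply Subtype.ext
  show sympTransvection m (a • v) c = sympTransvection m v (a * a * c)
  rw [ext_iff_mulVec]
  intro x
  rw [sympTransvection_mulVec, sympTransvection_mulVec, sympForm_smul_right, smul_smul]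
  congr 2
  ring

/-- `g t_v(c) = t_{g v}(c) g` -/
theorem mul_tv (g : symplecticGroup (Fin m) F) (v : Fin m ⊕ Fin m → F) (c : F) :
    g * tv m v c = tv m (g.1 *ᵥ v) c * g := by
  apply Subtype.ext
  show g.1 * sympTransvection m v c = sympTransvection m (g.1 *ᵥ v) c * g.1
  rw [ext_iff_mulVec]
  intro x
  rw [← mulVec_mulVec, ← mulVec_mulVec, sympTransvection_mulVec, sympTransvection_mulVec,
    sympForm_mulVec m g.2, mulVec_add, mulVec_smul]

theorem conj_tv (g : symplecticGroup (Fin m) F) (v : Fin m ⊕ Fin m → F) (c : F) :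
    g * tv m v c * g⁻¹ = tv m (g.1 *ᵥ v) c := by
  rw [mul_tv, mul_assoc, mul_inv_cancel, mul_one]

theorem exists_partner (v : Fin m ⊕ Fin m → F) (hv : v ≠ 0) :
    ∃ w, sympForm m F v w = 1 := by
  have : ∃ k, v k ≠ 0 := by
    by_contra hcon
    push Not at hcon
    exact hv (funext hcon)
  obtain ⟨k, hk⟩ := this
  rcases k with i | i
  · refine ⟨(-(v (Sum.inl i))⁻¹) • Pi.single (Sum.inr i) 1, ?_⟩
    rw [sympForm_smul_right, sympForm_single_inr]
    field_simp
  · refine ⟨((v (Sum.inr i))⁻¹) • Pi.single (Sum.inl i) 1, ?_⟩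
    rw [sympForm_smul_right, sympForm_single_inl]
    field_simp

theorem exists_move (v v' : Fin m ⊕ Fin m → F) (hv : v ≠ 0) (hv' : v' ≠ 0) :
    ∃ g : symplecticGroup (Fin m) F, g.1 *ᵥ v = v' := by
  obtain ⟨w, hw⟩ := exists_partner m v hv
  obtain ⟨w', hw'⟩ := exists_partner m v' hv'
  obtain ⟨A, _, hA, _⟩ := move_first m v w v' w' hw hw'
  exact ⟨A, hA⟩

/-- in the abelianisation all transvections with the same parameter have the same image -/
theorem ab_tv_eq (v v' : Fin m ⊕ Fin m → F) (hv : v ≠ 0) (hv' : v' ≠ 0) (c : F) :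
    Abelianization.of (tv m v c) = Abelianization.of (tv m v' c) := by
  obtain ⟨g, hg⟩ := exists_move m v v' hv hv'
  rw [← hg, ← conj_tv, map_mul, map_mul, map_inv, mul_comm, ← mul_assoc, inv_mul_cancel, one_mul]

/-- relation for two orthogonal vectors -/
theorem tv_rel_two (u v : Fin m ⊕ Fin m → F) (huv : sympForm m F u v = 0) (c : F) :
    tv m (u + v) c * tv m (u - v) c = tv m u (2 * c) * tv m v (2 * c) := by
  have hvu : sympForm m F v u = 0 := by rw [sympForm_swap, huv, neg_zero]
  apply Subtype.ext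
  show sympTransvection m (u + v) c * sympTransvection m (u - v) c =
    sympTransvection m u (2 * c) * sympTransvection m v (2 * c)
  rw [ext_iff_mulVec]
  intro x
  rw [← mulVec_mulVec, ← mulVec_mulVec]
  simp only [sympTransvection_mulVec, sympForm_add_left, sympForm_smul_left, sympForm_add_right,
    sympForm_sub_right, sympForm_sub_left, sympForm_self, huv, hvu]
  ext k
  simp only [Pi.add_apply, Pi.smul_apply, Pi.sub_apply, smul_eq_mul]
  ring

/-- relation for three mutually orthogonal vectors -/
theorem tv_rel_three (u v w : Fin m ⊕ Fin m → F) (huv : sympForm m F u v = 0)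
    (huw : sympForm m F u w = 0) (hvw : sympForm m F v w = 0) (c : F) :
    tv m (u + v + w) c * tv m u c * tv m v c * tv m w c =
      tv m (u + v) c * tv m (u + w) c * tv m (v + w) c := by
  have hvu : sympForm m F v u = 0 := by rw [sympForm_swap, huv, neg_zero]
  have hwu : sympForm m F w u = 0 := by rw [sympForm_swap, huw, neg_zero]
  have hwv : sympForm m F w v = 0 := by rw [sympForm_swap, hvw, neg_zero]
  apply Subtype.ext
  show sympTransvection m (u + v + w) c * sympTransvection m u c * sympTransvection m v c *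
      sympTransvection m w c =
    sympTransvection m (u + v) c * sympTransvection m (u + w) c * sympTransvection m (v + w) c
  rw [ext_iff_mulVec]
  intro x
  simp only [← mulVec_mulVec]
  simp only [sympTransvection_mulVec, sympForm_add_left, sympForm_smul_left, sympForm_add_right,
    sympForm_self, huv, hvu, huw, hwu, hvw, hwv]
  ext k
  simp only [Pi.add_apply, Pi.smul_apply, smul_eq_mul]
  ring

theorem single_inl_ne_zero (i : Fin m) : (Pi.single (Sum.inl i) 1 : Fin m ⊕ Fin m → F) ≠ 0 := by
  intro h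
  have := congrFun h (Sum.inl i)
  simp at this

theorem sympForm_inl_inl (i j : Fin m) :
    sympForm m F (Pi.single (Sum.inl i) 1) (Pi.single (Sum.inl j) 1) = 0 := by
  rw [sympForm_single_inl]
  simp

/-- for `m ≥ 3` every transvection dies in the abelianisation -/
theorem ab_tv_one_three (hm : 3 ≤ m) (v : Fin m ⊕ Fin m → F) (c : F) :
    Abelianization.of (tv m v c) = 1 := by
  by_cases hv : v = 0
  · rw [hv, tv_zero_vec, map_one]
  let i0 : Fin m := ⟨0, by omega⟩
  let i1 : Fin m := ⟨1, by omega⟩
  let i2 : Fin m := ⟨2, by omega⟩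
  have h01 : i0 ≠ i1 := by intro h; have := congrArg Fin.val h; simp [i0, i1] at this
  have h02 : i0 ≠ i2 := by intro h; have := congrArg Fin.val h; simp [i0, i2] at this
  have h12 : i1 ≠ i2 := by intro h; have := congrArg Fin.val h; simp [i1, i2] at this
  set u : Fin m ⊕ Fin m → F := Pi.single (Sum.inl i0) 1 with hu
  set v' : Fin m ⊕ Fin m → F := Pi.single (Sum.inl i1) 1 with hv'
  set w : Fin m ⊕ Fin m → F := Pi.single (Sum.inl i2) 1 with hw
  have hu0 : u ≠ 0 := single_inl_ne_zero m i0
  have hv0 : v' ≠ 0 := single_inl_ne_zero m i1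
  have hw0 : w ≠ 0 := single_inl_ne_zero m i2
  have ne1 : u + v' + w ≠ 0 := by
    intro h; have := congrFun h (Sum.inl i0); simp [hu, hv', hw, h01, h02] at this
  have ne2 : u + v' ≠ 0 := by
    intro h; have := congrFun h (Sum.inl i0); simp [hu, hv', h01] at this
  have ne3 : u + w ≠ 0 := by
    intro h; have := congrFun h (Sum.inl i0); simp [hu, hw, h02] at this
  have ne4 : v' + w ≠ 0 := by
    intro h; have := congrFun h (Sum.inl i1); simp [hv', hw, h12] at this
  have hrel := congrArg (Abelianization.of (G := symplecticGroup (Fin m) F))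
    (tv_rel_three m u v' w (sympForm_inl_inl m i0 i1) (sympForm_inl_inl m i0 i2)
    (sympForm_inl_inl m i1 i2) c)
  simp only [map_mul] at hrel
  rw [ab_tv_eq m _ v ne1 hv, ab_tv_eq m u v hu0 hv, ab_tv_eq m v' v hv0 hv, ab_tv_eq m w v hw0 hv,
    ab_tv_eq m _ v ne2 hv, ab_tv_eq m _ v ne3 hv, ab_tv_eq m _ v ne4 hv] at hrel
  have h1 : Abelianization.of (tv m v c) * Abelianization.of (tv m v c) *
      Abelianization.of (tv m v c) * Abelianization.of (tv m v c) =
      Abelianization.of (tv m v c) * Abelianization.of (tv m v c) *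
      Abelianization.of (tv m v c) * 1 := by rw [hrel, mul_one]
  exact mul_left_cancel h1

/-- for `m ≥ 2` and odd characteristic every transvection dies in the abelianisation -/
theorem ab_tv_one_two (hm : 2 ≤ m) (h2 : (2 : F) ≠ 0) (v : Fin m ⊕ Fin m → F) (c : F) :
    Abelianization.of (tv m v c) = 1 := by
  by_cases hv : v = 0
  · rw [hv, tv_zero_vec, map_one]
  let i0 : Fin m := ⟨0, by omega⟩
  let i1 : Fin m := ⟨1, by omega⟩
  have h01 : i0 ≠ i1 := by intro h; have := congrArg Fin.val h; simp [i0, i1] at this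
  set u : Fin m ⊕ Fin m → F := Pi.single (Sum.inl i0) 1 with hu
  set v' : Fin m ⊕ Fin m → F := Pi.single (Sum.inl i1) 1 with hv'
  have hu0 : u ≠ 0 := single_inl_ne_zero m i0
  have hv0 : v' ≠ 0 := single_inl_ne_zero m i1
  have ne1 : u + v' ≠ 0 := by
    intro h; have := congrFun h (Sum.inl i0); simp [hu, hv', h01] at this
  have ne2 : u - v' ≠ 0 := by
    intro h; have := congrFun h (Sum.inl i0); simp [hu, hv', h01] at this
  -- T(d)^2 = T(4d)
  have key : ∀ d : F, Abelianization.of (tv m v (2 * d)) = 1 := by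
    intro d
    have hrel := congrArg (Abelianization.of (G := symplecticGroup (Fin m) F))
      (tv_rel_two m u v' (sympForm_inl_inl m i0 i1) d)
    simp only [map_mul] at hrel
    rw [ab_tv_eq m _ v ne1 hv, ab_tv_eq m _ v ne2 hv, ab_tv_eq m u v hu0 hv,
      ab_tv_eq m v' v hv0 hv, ← map_mul, ← map_mul, tv_mul, tv_mul] at hrel
    have h3 : tv m v (2 * d + 2 * d) = tv m v (d + d) * tv m v (2 * d) := by
      rw [tv_mul]; congr 1; ring
    rw [h3, map_mul] at hrel
    have h4 : Abelianization.of (tv m v (d + d)) * 1 =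
        Abelianization.of (tv m v (d + d)) * Abelianization.of (tv m v (2 * d)) := by
      rw [mul_one]; exact hrel
    exact (mul_left_cancel h4).symm
  have := key (c / 2)
  rwa [mul_div_cancel₀ c h2] at this

section finite
variable [Fintype F]

theorem exists_sq_ne_one (hq : 4 ≤ Fintype.card F) : ∃ a : F, a ≠ 0 ∧ a * a ≠ 1 := by
  classical
  by_contra hcon
  push Not at hcon
  have hsub : (Finset.univ : Finset F) ⊆ {0, 1, -1} := by
    intro a _
    by_cases ha : a = 0
    · simp [ha]
    · rcases mul_self_eq_one_iff.mp (hcon a ha) with h | h <;> simp [h]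
  have h1 := Finset.card_le_card hsub
  have h3 : ({0, 1, -1} : Finset F).card ≤ 3 := Finset.card_le_three
  rw [Finset.card_univ] at h1
  omega

/-- for `q ≥ 4` every transvection dies in the abelianisation -/
theorem ab_tv_one_big (hq : 4 ≤ Fintype.card F) (v : Fin m ⊕ Fin m → F) (c : F) :
    Abelianization.of (tv m v c) = 1 := by
  by_cases hv : v = 0
  · rw [hv, tv_zero_vec, map_one]
  obtain ⟨a, ha0, ha1⟩ := exists_sq_ne_one hq
  have hav : a • v ≠ 0 := smul_ne_zero ha0 hv
  have hne : a * a - 1 ≠ 0 := sub_ne_zero.mpr ha1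
  have h1 : tv m v c = tv m (a • v) (c / (a * a - 1)) * tv m v (-(c / (a * a - 1))) := by
    rw [tv_smul, tv_mul]
    congr 1
    have : a * a * (c / (a * a - 1)) + -(c / (a * a - 1)) = (a * a - 1) * (c / (a * a - 1)) := by
      ring
    rw [this, mul_div_cancel₀ c hne]
  rw [h1, map_mul, ab_tv_eq m (a • v) v hav hv, ← map_mul, tv_mul, add_neg_cancel, tv_zero, map_one]

/-- `Sp_{2m}(q)` is perfect except for `Sp_2(2)`, `Sp_2(3)`, `Sp_4(2)`. -/
theorem perfect (h : 3 ≤ m ∨ (m = 2 ∧ 3 ≤ Fintype.card F) ∨ 4 ≤ Fintype.card F) :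
    commutator (symplecticGroup (Fin m) F) = ⊤ := by
  have key : ∀ (v : Fin m ⊕ Fin m → F) (c : F), Abelianization.of (tv m v c) = 1 := by
    rcases h with h | ⟨rfl, h⟩ | h
    · exact ab_tv_one_three m h
    · by_cases h4 : 4 ≤ Fintype.card F
      · exact ab_tv_one_big 2 h4
      · have h3 : Fintype.card F = 3 := by omega
        have h30 : (3 : F) = 0 := by
          have := Nat.cast_card_eq_zero F
          rw [h3] at this
          exact_mod_cast this
        have h2 : (2 : F) ≠ 0 := by
          intro h20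
          have : (1 : F) = 0 := by linear_combination h30 - h20
          exact one_ne_zero this
        exact ab_tv_one_two 2 (le_refl 2) h2
    · exact ab_tv_one_big m h
  rw [← Abelianization.ker_of, eq_top_iff, ← closure_tvSet_eq_top m, Subgroup.closure_le]
  rintro A ⟨w, c, hA⟩
  have : A = tv m w c := Subtype.ext hA
  rw [SetLike.mem_coe, MonoidHom.mem_ker, this]
  exact key w c

end finite

end Cfsg.Agent.Lib.Helper5.SympPerfect
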