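import Mathlib
import Cfsg.Prelude.Def_ClassicalGeometry
import Cfsg.Agent.Lib.Helper5.SympPerfect
import Cfsg.Agent.Lib.Helper5.SympBridge
import Cfsg.Agent.Lib.Helper5.AltWitt

set_option autoImplicit false
set_option linter.unusedSimpArgs false
open Cfsg

namespace Cfsg.Agent.Lib.Helper5.SympPrimitive

open Matrix Cfsg.Agent.Lib.Helper5.SympTv Cfsg.Agent.Lib.Helper5.SympGen
  Cfsg.Agent.Lib.Helper5.SympPerfect Cfsg.Agent.Lib.Helper5.SympBridge

variable {F : Type*} [Field F] (m : ℕ)

/-- `Sp` stabiliser of `x` is transitive on the vectors non-orthogonal to `x`, up to scalars. -/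
theorem stab_move_nonorth (x y y' : Fin m ⊕ Fin m → F) (hy : sympForm m F x y ≠ 0)
    (hy' : sympForm m F x y' ≠ 0) :
    ∃ g : symplecticGroup (Fin m) F, g.1 *ᵥ x = x ∧ ∃ a : F, a ≠ 0 ∧ g.1 *ᵥ y = a • y' := by
  have h1 : sympForm m F x ((sympForm m F x y)⁻¹ • y) = 1 := by
    rw [sympForm_smul_right, inv_mul_cancel₀ hy]
  have h2 : sympForm m F x ((sympForm m F x y')⁻¹ • y') = 1 := by
    rw [sympForm_smul_right, inv_mul_cancel₀ hy']
  obtain ⟨A, _, hAx, hAy, _⟩ := move_second m x _ _ h1 h2
  refine ⟨A, hAx, sympForm m F x y * (sympForm m F x y')⁻¹,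
    mul_ne_zero hy (inv_ne_zero hy'), ?_⟩
  rw [mulVec_smul] at hAy
  have : A.1 *ᵥ y = sympForm m F x y • ((sympForm m F x y)⁻¹ • A.1 *ᵥ y) := by
    rw [smul_smul, mul_inv_cancel₀ hy, one_smul]
  rw [this, hAy, smul_smul]

/-- `Sp` stabiliser of `x` is transitive on the vectors orthogonal to `x` and independent of it. -/
theorem stab_move_orth (x y y' : Fin m ⊕ Fin m → F) (hy : sympForm m F x y = 0)
    (hy' : sympForm m F x y' = 0) (hli : LinearIndependent F ![x, y])
    (hli' : LinearIndependent F ![x, y']) :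
    ∃ g : symplecticGroup (Fin m) F, g.1 *ᵥ x = x ∧ g.1 *ᵥ y = y' := by
  have hyx : sympForm m F y x = 0 := by rw [sympForm_swap, hy, neg_zero]
  have hyx' : sympForm m F y' x = 0 := by rw [sympForm_swap, hy', neg_zero]
  obtain ⟨φ, hφ, hφx⟩ := AltWitt.witt_family (sympBilin F m) (sympBilin_nondegenerate m)
    (sympBilin_isAlt m) 2 ![x, y] ![x, y'] hli hli' (by
      intro i j
      fin_cases i <;> fin_cases j <;>
        simp [sympForm_self, hy, hy', hyx, hyx'])
  obtain ⟨A, hA⟩ := exists_symplectic_of_isometry m φ hφ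
  refine ⟨A, ?_, ?_⟩
  · rw [hA]; exact hφx 0
  · rw [hA]; exact hφx 1

/-- a vector non-orthogonal to two given nonzero vectors -/
theorem exists_cross (x z : Fin m ⊕ Fin m → F) (hx : x ≠ 0) (hz : z ≠ 0) :
    ∃ w, sympForm m F x w ≠ 0 ∧ sympForm m F z w ≠ 0 := by
  obtain ⟨w1, hw1⟩ := exists_partner m x hx
  obtain ⟨w2, hw2⟩ := exists_partner m z hz
  by_cases h1 : sympForm m F z w1 = 0
  · by_cases h2 : sympForm m F x w2 = 0
    · refine ⟨w1 + w2, ?_, ?_⟩
      · rw [sympForm_add_right, hw1, h2, add_zero]; exact one_ne_zero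
      · rw [sympForm_add_right, h1, hw2, zero_add]; exact one_ne_zero
    · exact ⟨w2, h2, by rw [hw2]; exact one_ne_zero⟩
  · exact ⟨w1, by rw [hw1]; exact one_ne_zero, h1⟩

/-- for independent `x, y` a vector orthogonal to `y` but not to `x` -/
theorem exists_perp_cross (x y : Fin m ⊕ Fin m → F) (hli : LinearIndependent F ![x, y]) :
    ∃ z, sympForm m F y z = 0 ∧ sympForm m F x z ≠ 0 := by
  have hx : x ≠ 0 := hli.ne_zero 0
  obtain ⟨w1, hw1⟩ := exists_partner m x hx
  have hne : y - sympForm m F y w1 • x ≠ 0 := by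
    intro h
    rw [LinearIndependent.pair_iff] at hli
    have := hli (-(sympForm m F y w1)) 1 (by rw [neg_smul, one_smul, neg_add_eq_sub]; exact h)
    exact one_ne_zero this.2
  obtain ⟨w2, hw2⟩ := exists_partner m _ hne
  rw [sympForm_sub_left, sympForm_smul_left] at hw2
  refine ⟨(-(sympForm m F y w2)) • w1 + sympForm m F y w1 • w2, ?_, ?_⟩
  · rw [sympForm_add_right, sympForm_smul_right, sympForm_smul_right]; ring
  · rw [sympForm_add_right, sympForm_smul_right, sympForm_smul_right, hw1]
    have : -sympForm m F y w2 * 1 + sympForm m F y w1 * sympForm m F x w2 = -1 := by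
      linear_combination (-1 : F) * hw2
    rw [this]
    exact neg_ne_zero.mpr one_ne_zero

/-- the action of the symplectic group on vectors -/
@[reducible] def spAction :
    DistribMulAction (symplecticGroup (Fin m) F) (Fin m ⊕ Fin m → F) where
  smul g v := g.1 *ᵥ v
  one_smul v := one_mulVec v
  mul_smul g h v := (mulVec_mulVec v g.1 h.1).symm
  smul_zero g := mulVec_zero g.1
  smul_add g v w := mulVec_add g.1 v w

attribute [local instance 2000] spAction

theorem sp_smul_def (g : symplecticGroup (Fin m) F) (v : Fin m ⊕ Fin m → F) :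
    g • v = g.1 *ᵥ v := rfl

theorem spSMulComm :
    SMulCommClass (symplecticGroup (Fin m) F) F (Fin m ⊕ Fin m → F) :=
  ⟨fun g a v => mulVec_smul g.1 a v⟩

attribute [local instance 2000] spSMulComm

open scoped LinearAlgebra.Projectivization Pointwise

theorem smul_mk' (g : symplecticGroup (Fin m) F) (v : Fin m ⊕ Fin m → F) (hv : v ≠ 0) :
    g • Projectivization.mk F v hv =
      Projectivization.mk F (g.1 *ᵥ v) ((smul_ne_zero_iff_ne g).mpr hv) := rfl

/-- if `g` maps `y` to a nonzero multiple of `y'` then it maps the point of `y` to that of `y'` -/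
theorem smul_mk_eq (g : symplecticGroup (Fin m) F) (y y' : Fin m ⊕ Fin m → F) (hy : y ≠ 0)
    (hy' : y' ≠ 0) (a : F) (ha : a ≠ 0) (h : g.1 *ᵥ y = a • y') :
    g • Projectivization.mk F y hy = Projectivization.mk F y' hy' := by
  rw [smul_mk', Projectivization.mk_eq_mk_iff]
  exact ⟨Units.mk0 a ha, h.symm⟩

variable {m}

theorem mk_mem_of_nonorth {B : Set (ℙ F (Fin m ⊕ Fin m → F))}
    (hB : MulAction.IsBlock (symplecticGroup (Fin m) F) B) (x y z : Fin m ⊕ Fin m → F)
    (hx : x ≠ 0) (hy : y ≠ 0) (hz : z ≠ 0) (hxB : Projectivization.mk F x hx ∈ B)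
    (hyB : Projectivization.mk F y hy ∈ B) (hxy : sympForm m F x y ≠ 0)
    (hxz : sympForm m F x z ≠ 0) : Projectivization.mk F z hz ∈ B := by
  obtain ⟨g, hgx, a, ha, hgy⟩ := stab_move_nonorth m x y z hxy hxz
  have h1 : g • Projectivization.mk F x hx = Projectivization.mk F x hx :=
    smul_mk_eq m g x x hx hx 1 one_ne_zero (by rw [hgx, one_smul])
  have h2 : g • B = B := hB.smul_eq_of_mem hxB (by rw [h1]; exact hxB)
  have h3 : g • Projectivization.mk F y hy ∈ g • B := Set.smul_mem_smul_set hyB
  rw [h2, smul_mk_eq m g y z hy hz a ha hgy] at h3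
  exact h3

theorem block_univ_of_nonorth {B : Set (ℙ F (Fin m ⊕ Fin m → F))}
    (hB : MulAction.IsBlock (symplecticGroup (Fin m) F) B) (x y : Fin m ⊕ Fin m → F)
    (hx : x ≠ 0) (hy : y ≠ 0) (hxB : Projectivization.mk F x hx ∈ B)
    (hyB : Projectivization.mk F y hy ∈ B) (hxy : sympForm m F x y ≠ 0) : B = Set.univ := by
  rw [Set.eq_univ_iff_forall]
  intro p
  induction p using Projectivization.ind with
  | h z hz =>
    by_cases hxz : sympForm m F x z = 0
    · obtain ⟨w, hw1, hw2⟩ := exists_cross m x z hx hz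
      have hw0 : w ≠ 0 := by
        rintro rfl
        apply hw1
        simp [sympForm]
      have hwB : Projectivization.mk F w hw0 ∈ B :=
        mk_mem_of_nonorth hB x y w hx hy hw0 hxB hyB hxy hw1
      refine mk_mem_of_nonorth hB w x z hw0 hx hz hwB hxB ?_ ?_
      · rw [sympForm_swap]; exact neg_ne_zero.mpr hw1
      · rw [sympForm_swap]; exact neg_ne_zero.mpr hw2
    · exact mk_mem_of_nonorth hB x y z hx hy hz hxB hyB hxy hxz

theorem block_univ {B : Set (ℙ F (Fin m ⊕ Fin m → F))}
    (hB : MulAction.IsBlock (symplecticGroup (Fin m) F) B) (x y : Fin m ⊕ Fin m → F)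
    (hx : x ≠ 0) (hy : y ≠ 0) (hxB : Projectivization.mk F x hx ∈ B)
    (hyB : Projectivization.mk F y hy ∈ B)
    (hne : Projectivization.mk F x hx ≠ Projectivization.mk F y hy) : B = Set.univ := by
  by_cases hxy : sympForm m F x y = 0
  · have hli : LinearIndependent F ![x, y] := by
      rw [LinearIndependent.pair_iff' hx]
      intro a ha
      apply hne
      rw [Projectivization.mk_eq_mk_iff']
      have ha0 : a ≠ 0 := by
        rintro rfl
        rw [zero_smul] at ha
        exact hy ha.symm
      exact ⟨a⁻¹, by rw [← ha, smul_smul, inv_mul_cancel₀ ha0, one_smul]⟩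
    obtain ⟨z, hyz, hxz⟩ := exists_perp_cross m x y hli
    have hz : z ≠ 0 := by
      rintro rfl
      apply hxz
      simp [sympForm]
    have hli2 : LinearIndependent F ![y, z] := by
      rw [LinearIndependent.pair_iff' hy]
      intro a ha
      apply hxz
      rw [← ha, sympForm_smul_right, hxy, mul_zero]
    have hyx : sympForm m F y x = 0 := by rw [sympForm_swap, hxy, neg_zero]
    obtain ⟨g, hgy, hgx⟩ := stab_move_orth m y x z hyx hyz
      (LinearIndependent.pair_symm_iff.mp hli) hli2
    have h1 : g • Projectivization.mk F y hy = Projectivization.mk F y hy :=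
      smul_mk_eq m g y y hy hy 1 one_ne_zero (by rw [hgy, one_smul])
    have h2 : g • B = B := hB.smul_eq_of_mem hyB (by rw [h1]; exact hyB)
    have h3 : g • Projectivization.mk F x hx ∈ g • B := Set.smul_mem_smul_set hxB
    rw [h2, smul_mk_eq m g x z hx hz 1 one_ne_zero (by rw [hgx, one_smul])] at h3
    exact block_univ_of_nonorth hB x z hx hz hxB h3 hxz
  · exact block_univ_of_nonorth hB x y hx hy hxB hyB hxy

/-- `Sp_{2m}(F)` acts primitively on the points of projective space. -/
theorem isPreprimitive :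
    MulAction.IsPreprimitive (symplecticGroup (Fin m) F) (ℙ F (Fin m ⊕ Fin m → F)) where
  exists_smul_eq := by
    intro p p'
    induction p using Projectivization.ind with
    | h x hx =>
      induction p' using Projectivization.ind with
      | h y hy =>
        obtain ⟨g, hg⟩ := exists_move m x y hx hy
        exact ⟨g, smul_mk_eq m g x y hx hy 1 one_ne_zero (by rw [hg, one_smul])⟩
  isTrivialBlock_of_isBlock := by
    intro B hB
    by_cases hs : B.Subsingleton
    · exact Or.inl hs
    · right
      rw [Set.not_subsingleton_iff] at hs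
      obtain ⟨p, hp, p', hp', hne⟩ := hs
      induction p using Projectivization.ind with
      | h x hx =>
        induction p' using Projectivization.ind with
        | h y hy => exact block_univ hB x y hx hy hp hp' hne

variable (m)

/-- the root subgroup of transvections along `v` -/
def tvHom (v : Fin m ⊕ Fin m → F) : Multiplicative F →* symplecticGroup (Fin m) F where
  toFun c := tv m v (Multiplicative.toAdd c)
  map_one' := tv_zero m v
  map_mul' c d := (tv_mul m v (Multiplicative.toAdd c) (Multiplicative.toAdd d)).symm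

/-- the root subgroup of transvections along `v` -/
def tvSubgroup (v : Fin m ⊕ Fin m → F) : Subgroup (symplecticGroup (Fin m) F) := (tvHom m v).range

theorem mem_tvSubgroup (v : Fin m ⊕ Fin m → F) (g : symplecticGroup (Fin m) F) :
    g ∈ tvSubgroup m v ↔ ∃ c : F, tv m v c = g := by
  constructor
  · rintro ⟨c, rfl⟩
    exact ⟨Multiplicative.toAdd c, rfl⟩
  · rintro ⟨c, rfl⟩
    exact ⟨Multiplicative.ofAdd c, rfl⟩

theorem tvSubgroup_smul (a : F) (ha : a ≠ 0) (v : Fin m ⊕ Fin m → F) :
    tvSubgroup m (a • v) = tvSubgroup m v := by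
  ext g
  rw [mem_tvSubgroup, mem_tvSubgroup]
  constructor
  · rintro ⟨c, rfl⟩
    exact ⟨a * a * c, (tv_smul m a v c).symm⟩
  · rintro ⟨c, rfl⟩
    refine ⟨c / (a * a), ?_⟩
    rw [tv_smul, mul_div_cancel₀ c (mul_ne_zero ha ha)]

theorem tvSubgroup_conj (g : symplecticGroup (Fin m) F) (v : Fin m ⊕ Fin m → F) :
    tvSubgroup m (g.1 *ᵥ v) = MulAut.conj g • tvSubgroup m v := by
  ext h
  rw [mem_tvSubgroup, Subgroup.mem_smul_pointwise_iff_exists]
  constructor
  · rintro ⟨c, rfl⟩
    refine ⟨tv m v c, (mem_tvSubgroup m v _).mpr ⟨c, rfl⟩, ?_⟩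
    rw [MulAut.smul_def, MulAut.conj_apply, conj_tv]
  · rintro ⟨s, hs, rfl⟩
    obtain ⟨c, rfl⟩ := (mem_tvSubgroup m v s).mp hs
    refine ⟨c, ?_⟩
    rw [MulAut.smul_def, MulAut.conj_apply, conj_tv]

theorem tvSubgroup_rep (v : Fin m ⊕ Fin m → F) (hv : v ≠ 0) :
    tvSubgroup m (Projectivization.mk F v hv).rep = tvSubgroup m v := by
  obtain ⟨a, ha⟩ := Projectivization.exists_smul_eq_mk_rep F v hv
  rw [← ha, Units.smul_def, tvSubgroup_smul m (a : F) a.ne_zero]

/-- The Iwasawa structure of the symplectic group acting on projective points. -/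
noncomputable def iwasawa : MulAction.IwasawaStructure (symplecticGroup (Fin m) F)
    (ℙ F (Fin m ⊕ Fin m → F)) where
  T p := tvSubgroup m p.rep
  is_comm p := by
    unfold tvSubgroup
    infer_instance
  is_conj g p := by
    induction p using Projectivization.ind with
    | h v hv =>
      rw [smul_mk', tvSubgroup_rep, tvSubgroup_rep, tvSubgroup_conj]
  is_generator := by
    rw [eq_top_iff, ← closure_tvSet_eq_top m, Subgroup.closure_le]
    rintro A ⟨w, c, hA⟩
    have hA' : A = tv m w c := Subtype.ext hA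
    by_cases hw : w = 0
    · rw [hA', hw, tv_zero_vec]
      exact one_mem _
    · have h1 : A ∈ tvSubgroup m (Projectivization.mk F w hw).rep := by
        rw [tvSubgroup_rep, mem_tvSubgroup]
        exact ⟨c, hA'.symm⟩
      exact Subgroup.mem_iSup_of_mem (Projectivization.mk F w hw) h1

omit m in
/-- a matrix for which every nonzero vector is an eigenvector is scalar -/
theorem scalar_of_forall_eigen {ι : Type*} [Fintype ι] [DecidableEq ι] (M : Matrix ι ι F)
    (h : ∀ v : ι → F, v ≠ 0 → ∃ a : F, M *ᵥ v = a • v) : ∃ a : F, M = a • 1 := by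
  rcases isEmpty_or_nonempty ι with hι | ⟨⟨k0⟩⟩
  · exact ⟨0, Subsingleton.elim _ _⟩
  have hne : ∀ k : ι, (Pi.single k 1 : ι → F) ≠ 0 := by
    intro k hk
    have := congrFun hk k
    simp at this
  choose a ha using fun k => h (Pi.single k 1) (hne k)
  have hall : ∀ k, a k = a k0 := by
    intro k
    by_cases hk : k = k0
    · rw [hk]
    · have hne2 : (Pi.single k 1 + Pi.single k0 1 : ι → F) ≠ 0 := by
        intro h0
        have := congrFun h0 k
        simp [hk] at this
      obtain ⟨b, hb⟩ := h _ hne2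
      rw [mulVec_add, ha, ha] at hb
      have h1 := congrFun hb k
      have h2 := congrFun hb k0
      simp [hk, Ne.symm hk] at h1 h2
      rw [h1, h2]
  refine ⟨a k0, ?_⟩
  ext r c
  have := congrFun (ha c) r
  rw [mulVec_single_one] at this
  simp only [Matrix.col_apply, Pi.smul_apply, smul_eq_mul] at this
  rw [this, hall c, Matrix.smul_apply, Matrix.one_apply, Pi.single_apply, smul_eq_mul]

/-- an element of `Sp` fixing all projective points is central -/
theorem mem_center_of_fix (g : symplecticGroup (Fin m) F)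
    (h : ∀ p : ℙ F (Fin m ⊕ Fin m → F), g • p = p) :
    g ∈ Subgroup.center (symplecticGroup (Fin m) F) := by
  obtain ⟨a, ha⟩ := scalar_of_forall_eigen g.1 (by
    intro v hv
    have h1 := h (Projectivization.mk F v hv)
    rw [smul_mk', Projectivization.mk_eq_mk_iff'] at h1
    obtain ⟨b, hb⟩ := h1
    exact ⟨b, hb.symm⟩)
  rw [Subgroup.mem_center_iff]
  intro k
  apply Subtype.ext
  show k.1 * g.1 = g.1 * k.1
  rw [ha]
  simp

/-- every normal subgroup of a perfect `Sp` is central or everything -/
theorem normal_le_center_or_eq_top (hperf : commutator (symplecticGroup (Fin m) F) = ⊤)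
    (N : Subgroup (symplecticGroup (Fin m) F)) [N.Normal] :
    N ≤ Subgroup.center (symplecticGroup (Fin m) F) ∨ N = ⊤ := by
  by_cases hfix : MulAction.fixedPoints N (ℙ F (Fin m ⊕ Fin m → F)) = Set.univ
  · left
    intro n hn
    apply mem_center_of_fix
    intro p
    have : p ∈ MulAction.fixedPoints N (ℙ F (Fin m ⊕ Fin m → F)) := by
      rw [hfix]; exact Set.mem_univ p
    exact this ⟨n, hn⟩
  · right
    have := isPreprimitive (F := F) (m := m)
    have := (iwasawa m).commutator_le N hfix
    rw [hperf] at this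
    exact top_le_iff.mp this

omit m in
/-- a perfect nontrivial group all of whose normal subgroups are central or everything has
simple central quotient -/
theorem isSimpleGroup_quotient_center {G : Type*} [Group G] [Nontrivial G]
    (hperf : commutator G = ⊤)
    (hN : ∀ N : Subgroup G, N.Normal → N ≤ Subgroup.center G ∨ N = ⊤) :
    IsSimpleGroup (G ⧸ Subgroup.center G) := by
  have hcne : Subgroup.center G ≠ ⊤ := by
    intro hc
    have hcomm : ∀ a b : G, a * b = b * a := by
      intro a b
      have hb : b ∈ Subgroup.center G := by rw [hc]; exact Subgroup.mem_top b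
      exact (Subgroup.mem_center_iff.mp hb a)
    have h1 : commutator G = ⊥ := by
      rw [commutator_eq_closure, Subgroup.closure_eq_bot_iff]
      rintro x ⟨a, b, rfl⟩
      rw [Set.mem_singleton_iff, commutatorElement_def, hcomm a b, mul_assoc, mul_assoc,
        mul_inv_cancel_left, mul_inv_cancel]
    rw [hperf] at h1
    exact top_ne_bot h1
  have : Nontrivial (G ⧸ Subgroup.center G) := by
    rw [← not_subsingleton_iff_nontrivial]
    intro hs
    exact hcne (QuotientGroup.subgroup_eq_top_of_subsingleton _ hs)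
  refine ⟨fun H hH => ?_⟩
  rcases hN (H.comap (QuotientGroup.mk' (Subgroup.center G))) (hH.comap _) with h | h
  · left
    rw [Subgroup.eq_bot_iff_forall]
    intro x hx
    obtain ⟨g, rfl⟩ := QuotientGroup.mk'_surjective (Subgroup.center G) x
    have hg : g ∈ H.comap (QuotientGroup.mk' (Subgroup.center G)) := hx
    exact (QuotientGroup.eq_one_iff g).mpr (h hg)
  · right
    rw [Subgroup.eq_top_iff']
    intro x
    obtain ⟨g, rfl⟩ := QuotientGroup.mk'_surjective (Subgroup.center G) x
    have hg : g ∈ H.comap (QuotientGroup.mk' (Subgroup.center G)) := by rw [h]; exact Subgroup.mem_top g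
    exact hg

end Cfsg.Agent.Lib.Helper5.SympPrimitive
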