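import Mathlib
import Cfsg.Prelude
import Cfsg.Agent.Lib.Helper5.OmegaGen
import Cfsg.Agent.Lib.Helper5.SympPrimitive
import Cfsg.Agent.Lib.Helper5.SiegelComm

set_option autoImplicit false
set_option linter.unusedSectionVars false
set_option linter.unusedVariables false
open Cfsg

/-! Simplicity of `PΩ(Q)` via Iwasawa's criterion applied to the action of `Ω` on the singular
points. -/

namespace Cfsg.Agent.Lib.Helper5.OmegaSimple

open Matrix QuadraticMap Cfsg.Agent.Lib.Helper5.CartanDieudonne Cfsg.Agent.Lib.Helper5.Refl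
  Cfsg.Agent.Lib.Helper5.OrthCard Cfsg.Agent.Lib.Helper5.Siegel Cfsg.Agent.Lib.Helper5.QuadIsom
  Cfsg.Agent.Lib.Helper5.ReflGen Cfsg.Agent.Lib.Helper5.Eichler Cfsg.Agent.Lib.Helper5.SingGeom
  Cfsg.Agent.Lib.Helper5.OmegaGen

variable {ι : Type} [Fintype ι] [DecidableEq ι] {F : Type*} [Field F] [Fintype F]
  (Q : QuadraticForm F (ι → F))

/-- standing hypotheses -/
structure Hyp : Prop where
  nondeg : (polarBilin Q).Nondegenerate
  card5 : 5 ≤ Fintype.card ι
  siegel_mem : ∀ (u v : ι → F) (hu : Q u = 0) (hv : Q v = 0) (huv : polar ⇑Q u v = 0) (c : F),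
    siegel Q u v hu hv huv c ∈ commutator ↥(isometryGroup F ⇑Q)
  siegel_mem2 : ∀ (u v : ι → F) (hu : Q u = 0) (hv : Q v = 0) (huv : polar ⇑Q u v = 0) (c : F),
    siegel Q u v hu hv huv c ∈ ⁅Omega F ⇑Q, Omega F ⇑Q⁆

variable {Q}

theorem Hyp.finrank5 (H : Hyp Q) : 5 ≤ Module.finrank F (ι → F) := by
  rw [Module.finrank_fintype_fun_eq_card]; exact H.card5

theorem eich_mem_Omega (H : Hyp Q) (u z : ι → F) (hu : Q u = 0) (huz : polar ⇑Q u z = 0) :
    eich Q u z hu huz ∈ Omega F ⇑Q := by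
  show _ ∈ commutator _
  rw [commutator_eq_T Q H.nondeg H.card5 H.siegel_mem]
  exact eich_mem_T Q H.nondeg H.card5 u z hu huz

theorem act_eich_self (u z : ι → F) (hu : Q u = 0) (huz : polar ⇑Q u z = 0) :
    act Q (eich Q u z hu huz) u = u := by
  rw [act_eich, eichlerMap_apply, polar_self_of_sing Q u hu, polar_comm (⇑Q) z u, huz]
  simp

/-- the Eichler group of `e` is transitive on the partners of `e` -/
theorem move_partner (e f f' : ι → F) (he : Q e = 0) (hf : Q f = 0) (hef : polar ⇑Q e f = 1)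
    (hf' : Q f' = 0) (hef' : polar ⇑Q e f' = 1) :
    ∃ (w : ι → F) (hew : polar ⇑Q e w = 0), act Q (eich Q e w he hew) f = f' := by
  obtain ⟨w, hw, rfl⟩ := exists_partner_eq Q e f he hf hef f' hf' hef'
  rw [mem_pairPerp] at hw
  refine ⟨w, hw.1, ?_⟩
  rw [act_eich, eichlerMap_apply, hef, polar_comm (⇑Q) w f, hw.2]
  unfold partner
  simp only [one_smul, zero_add, mul_one, neg_smul]
  abel

/-- the stabiliser of a singular vector `x` in `Ω` is transitive on the singular points not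
orthogonal to `x` -/
theorem move_nonorth_stab (H : Hyp Q) (x y z : ι → F) (hx : Q x = 0) (hy : Q y = 0) (hz : Q z = 0)
    (hxy : polar ⇑Q x y ≠ 0) (hxz : polar ⇑Q x z ≠ 0) :
    ∃ g : ↥(isometryGroup F ⇑Q), g ∈ Omega F ⇑Q ∧ act Q g x = x ∧
      ∃ a : F, a ≠ 0 ∧ act Q g y = a • z := by
  obtain ⟨w, hew, hmove⟩ := move_partner x ((polar ⇑Q x y)⁻¹ • y) ((polar ⇑Q x z)⁻¹ • z) hx
    (by rw [QuadraticMap.map_smul, hy, smul_zero])
    (by rw [polar_smul_right, smul_eq_mul, inv_mul_cancel₀ hxy])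
    (by rw [QuadraticMap.map_smul, hz, smul_zero])
    (by rw [polar_smul_right, smul_eq_mul, inv_mul_cancel₀ hxz])
  refine ⟨eich Q x w hx hew, eich_mem_Omega H x w hx hew, act_eich_self x w hx hew,
    polar ⇑Q x y * (polar ⇑Q x z)⁻¹, mul_ne_zero hxy (inv_ne_zero hxz), ?_⟩
  rw [act_smul] at hmove
  have : act Q (eich Q x w hx hew) y =
      polar ⇑Q x y • ((polar ⇑Q x y)⁻¹ • act Q (eich Q x w hx hew) y) := by
    rw [smul_smul, mul_inv_cancel₀ hxy, one_smul]
  rw [this, hmove, smul_smul]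

/-- `Ω` moves a singular point to any orthogonal singular point -/
theorem move_orth (H : Hyp Q) (u u' : ι → F) (hu0 : u ≠ 0) (hu0' : u' ≠ 0) (hu : Q u = 0)
    (hu' : Q u' = 0) (huu' : polar ⇑Q u u' = 0) :
    ∃ g : ↥(isometryGroup F ⇑Q), g ∈ Omega F ⇑Q ∧ ∃ a : F, a ≠ 0 ∧ act Q g u = a • u' := by
  obtain ⟨w, hw, hwu, hwu'⟩ := exists_singular_cross Q H.nondeg u u' hu0 hu0' hu huu'
  obtain ⟨g, hg, -, a, ha, hga⟩ := move_nonorth_stab H w u u' hw hu hu' hwu hwu'
  exact ⟨g, hg, a, ha, hga⟩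

/-- `Ω` is transitive on singular points -/
theorem move (H : Hyp Q) (u u' : ι → F) (hu0 : u ≠ 0) (hu0' : u' ≠ 0) (hu : Q u = 0)
    (hu' : Q u' = 0) :
    ∃ g : ↥(isometryGroup F ⇑Q), g ∈ Omega F ⇑Q ∧ ∃ a : F, a ≠ 0 ∧ act Q g u = a • u' := by
  by_cases huu' : polar ⇑Q u u' = 0
  · exact move_orth H u u' hu0 hu0' hu hu' huu'
  · have hfin := finrank_perp2 Q u u'
    have h5 := H.finrank5
    obtain ⟨s, hsU, hs0, hs⟩ := exists_singular_in Q (perp2 Q u u') (by omega)
    rw [mem_perp2] at hsU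
    obtain ⟨g1, hg1, a1, ha1, h1⟩ := move_orth H u s hu0 hs0 hu hs hsU.1
    obtain ⟨g2, hg2, a2, ha2, h2⟩ := move_orth H s u' hs0 hu0' hs hu'
      (by rw [polar_comm]; exact hsU.2)
    refine ⟨g2 * g1, mul_mem hg2 hg1, a1 * a2, mul_ne_zero ha1 ha2, ?_⟩
    rw [act_mul, h1, act_smul, h2, smul_smul]

/-- an element of `Ω` fixing `y` and moving `x` to a non-orthogonal vector -/
theorem exists_fix_tilt (H : Hyp Q) (x y : ι → F) (hx : Q x = 0) (hy0 : y ≠ 0)
    (hxy : x ∉ Submodule.span F {y}) :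
    ∃ g : ↥(isometryGroup F ⇑Q), g ∈ Omega F ⇑Q ∧ act Q g y = y ∧
      polar ⇑Q x (act Q g x) ≠ 0 := by
  obtain ⟨w, hw, hyw, hwx⟩ := exists_singular_perp_not_perp Q H.nondeg H.finrank5 y x hy0 hxy
  obtain ⟨z, hz, hwz, hyz⟩ := exists_aniso_perp2 Q H.nondeg H.finrank5 w y
  refine ⟨eich Q w z hw hwz, eich_mem_Omega H w z hw hwz, ?_, ?_⟩
  · rw [act_eich, eichlerMap_apply, polar_comm (⇑Q) w y, hyw, polar_comm (⇑Q) z y, hyz]
    simp
  · rw [act_eich, eichlerMap_apply, polar_add_right, polar_add_right, polar_smul_right,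
      polar_smul_right, polar_self_of_sing Q x hx]
    have : polar ⇑Q w x • polar ⇑Q x z + -(polar ⇑Q z x + Q z * polar ⇑Q w x) • polar ⇑Q x w =
        -(Q z * (polar ⇑Q w x * polar ⇑Q w x)) := by
      rw [polar_comm (⇑Q) x z, polar_comm (⇑Q) x w]
      simp only [smul_eq_mul]
      ring
    rw [zero_add, this]
    exact neg_ne_zero.mpr (mul_ne_zero hz (mul_ne_zero hwx hwx))

section action
variable (Q)

/-- the action of `Ω` on vectors -/
@[reducible] def omSMul : SMul ↥(Omega F ⇑Q) (ι → F) where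
  smul g v := act Q g.1 v

attribute [local instance 2000] omSMul

/-- the action of `Ω` on vectors -/
@[reducible] def omAction : DistribMulAction ↥(Omega F ⇑Q) (ι → F) where
  toSMul := omSMul Q
  one_smul v := one_mulVec v
  mul_smul g h v := act_mul Q g.1 h.1 v
  smul_zero g := mulVec_zero _
  smul_add g v w := mulVec_add _ v w

attribute [local instance 2000] omAction

theorem om_smul_def (g : ↥(Omega F ⇑Q)) (v : ι → F) : g • v = act Q g.1 v := rfl

theorem omSMulComm : SMulCommClass ↥(Omega F ⇑Q) F (ι → F) :=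
  ⟨fun g a v => mulVec_smul _ a v⟩

attribute [local instance 2000] omSMulComm

open scoped LinearAlgebra.Projectivization Pointwise

theorem smul_mk' (g : ↥(Omega F ⇑Q)) (v : ι → F) (hv : v ≠ 0) :
    g • Projectivization.mk F v hv =
      Projectivization.mk F (act Q g.1 v) ((smul_ne_zero_iff_ne g).mpr hv) := rfl

/-- singular points -/
def IsSing (p : ℙ F (ι → F)) : Prop := Q p.rep = 0

theorem isSing_mk (v : ι → F) (hv : v ≠ 0) : IsSing Q (Projectivization.mk F v hv) ↔ Q v = 0 := by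
  obtain ⟨a, ha⟩ := Projectivization.exists_smul_eq_mk_rep F v hv
  unfold IsSing
  rw [← ha, Units.smul_def, QuadraticMap.map_smul, smul_eq_mul]
  constructor
  · intro h
    rcases mul_eq_zero.mp h with h1 | h1
    · exact absurd (mul_self_eq_zero.mp h1) a.ne_zero
    · exact h1
  · intro h
    rw [h, mul_zero]

/-- the set of singular points, with the action of `Ω` -/
def singPts : SubMulAction ↥(Omega F ⇑Q) (ℙ F (ι → F)) where
  carrier := {p | IsSing Q p}
  smul_mem' g p hp := by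
    induction p using Projectivization.ind with
    | h v hv =>
      have hp' : IsSing Q (Projectivization.mk F v hv) := hp
      show IsSing Q (g • Projectivization.mk F v hv)
      rw [smul_mk', isSing_mk, quad_act]
      exact (isSing_mk Q v hv).mp hp'

/-- the action of `Ω` on singular points -/
@[reducible] def singSMul : SMul ↥(Omega F ⇑Q) ↥(singPts Q) where
  smul g p := ⟨g • p.1, (singPts Q).smul_mem g p.2⟩

attribute [local instance 2000] singSMul

/-- the action of `Ω` on singular points -/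
@[reducible] def singAction : MulAction ↥(Omega F ⇑Q) ↥(singPts Q) where
  toSMul := singSMul Q
  one_smul p := Subtype.ext (one_smul _ p.1)
  mul_smul g h p := Subtype.ext (mul_smul g h p.1)

attribute [local instance 2000] singAction

/-- the singular point of a singular vector -/
def pt (v : ι → F) (hv : v ≠ 0) (hQv : Q v = 0) : ↥(singPts Q) :=
  ⟨Projectivization.mk F v hv, (isSing_mk Q v hv).mpr hQv⟩

theorem pt_ind {P : ↥(singPts Q) → Prop} (h : ∀ v hv hQv, P (pt Q v hv hQv)) (p : ↥(singPts Q)) :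
    P p := by
  obtain ⟨p, hp⟩ := p
  induction p using Projectivization.ind with
  | h v hv => exact h v hv ((isSing_mk Q v hv).mp hp)

theorem smul_pt (g : ↥(Omega F ⇑Q)) (v : ι → F) (hv : v ≠ 0) (hQv : Q v = 0) :
    g • pt Q v hv hQv = pt Q (act Q g.1 v) ((smul_ne_zero_iff_ne g).mpr hv)
      (by rw [quad_act]; exact hQv) := Subtype.ext (smul_mk' Q g v hv)

theorem pt_eq_pt_iff (v w : ι → F) (hv : v ≠ 0) (hw : w ≠ 0) (hQv : Q v = 0) (hQw : Q w = 0) :
    pt Q v hv hQv = pt Q w hw hQw ↔ ∃ a : F, a • w = v := by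
  unfold pt
  rw [← Projectivization.mk_eq_mk_iff' F v w hv hw]
  constructor
  · intro h
    exact congrArg Subtype.val h
  · intro h
    exact Subtype.ext h

/-- if `g` maps `y` to a nonzero multiple of `y'` then it maps the point of `y` to that of `y'` -/
theorem smul_pt_eq (g : ↥(Omega F ⇑Q)) (y y' : ι → F) (hy : y ≠ 0) (hy' : y' ≠ 0) (hQy : Q y = 0)
    (hQy' : Q y' = 0) (a : F) (h : act Q g.1 y = a • y') :
    g • pt Q y hy hQy = pt Q y' hy' hQy' := by
  rw [smul_pt, pt_eq_pt_iff]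
  exact ⟨a, h.symm⟩

variable {Q}

theorem ne_zero_of_polar_ne {x y : ι → F} (h : polar ⇑Q x y ≠ 0) : y ≠ 0 := by
  rintro rfl
  apply h
  simp [polar]

theorem mem_of_nonorth (H : Hyp Q) {B : Set ↥(singPts Q)}
    (hB : MulAction.IsBlock ↥(Omega F ⇑Q) B) (x y z : ι → F)
    (hx : x ≠ 0) (hy : y ≠ 0) (hz : z ≠ 0) (hQx : Q x = 0) (hQy : Q y = 0) (hQz : Q z = 0)
    (hxB : pt Q x hx hQx ∈ B) (hyB : pt Q y hy hQy ∈ B) (hxy : polar ⇑Q x y ≠ 0)
    (hxz : polar ⇑Q x z ≠ 0) : pt Q z hz hQz ∈ B := by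
  obtain ⟨g, hg, hgx, a, ha, hgy⟩ := move_nonorth_stab H x y z hQx hQy hQz hxy hxz
  have h1 : (⟨g, hg⟩ : ↥(Omega F ⇑Q)) • pt Q x hx hQx = pt Q x hx hQx :=
    smul_pt_eq Q ⟨g, hg⟩ x x hx hx hQx hQx 1 (by rw [hgx, one_smul])
  have h2 : (⟨g, hg⟩ : ↥(Omega F ⇑Q)) • B = B :=
    hB.smul_eq_of_mem hxB (by rw [h1]; exact hxB)
  have h3 : (⟨g, hg⟩ : ↥(Omega F ⇑Q)) • pt Q y hy hQy ∈ (⟨g, hg⟩ : ↥(Omega F ⇑Q)) • B :=
    Set.smul_mem_smul_set hyB
  rw [h2, smul_pt_eq Q ⟨g, hg⟩ y z hy hz hQy hQz a hgy] at h3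
  exact h3

theorem block_univ_of_nonorth (H : Hyp Q) {B : Set ↥(singPts Q)}
    (hB : MulAction.IsBlock ↥(Omega F ⇑Q) B) (x y : ι → F)
    (hx : x ≠ 0) (hy : y ≠ 0) (hQx : Q x = 0) (hQy : Q y = 0)
    (hxB : pt Q x hx hQx ∈ B) (hyB : pt Q y hy hQy ∈ B) (hxy : polar ⇑Q x y ≠ 0) :
    B = Set.univ := by
  rw [Set.eq_univ_iff_forall]
  intro p
  induction p using pt_ind with
  | h z hz hQz =>
    by_cases hxz : polar ⇑Q x z = 0
    · obtain ⟨w, hQw, hw1, hw2⟩ := exists_singular_cross Q H.nondeg x z hx hz hQx hxz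
      have hw1' : polar ⇑Q x w ≠ 0 := by rw [polar_comm]; exact hw1
      have hw0 : w ≠ 0 := ne_zero_of_polar_ne hw1'
      have hwB : pt Q w hw0 hQw ∈ B :=
        mem_of_nonorth H hB x y w hx hy hw0 hQx hQy hQw hxB hyB hxy hw1'
      exact mem_of_nonorth H hB w x z hw0 hx hz hQw hQx hQz hwB hxB hw1 hw2
    · exact mem_of_nonorth H hB x y z hx hy hz hQx hQy hQz hxB hyB hxy hxz

theorem block_univ (H : Hyp Q) {B : Set ↥(singPts Q)}
    (hB : MulAction.IsBlock ↥(Omega F ⇑Q) B) (x y : ι → F)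
    (hx : x ≠ 0) (hy : y ≠ 0) (hQx : Q x = 0) (hQy : Q y = 0)
    (hxB : pt Q x hx hQx ∈ B) (hyB : pt Q y hy hQy ∈ B)
    (hne : pt Q x hx hQx ≠ pt Q y hy hQy) : B = Set.univ := by
  by_cases hxy : polar ⇑Q x y = 0
  · have hspan : x ∉ Submodule.span F {y} := by
      intro hmem
      obtain ⟨a, ha⟩ := Submodule.mem_span_singleton.mp hmem
      exact hne ((pt_eq_pt_iff Q x y hx hy hQx hQy).mpr ⟨a, ha⟩)
    obtain ⟨g, hg, hgy, hgx⟩ := exists_fix_tilt H x y hQx hy hspan
    have h1 : (⟨g, hg⟩ : ↥(Omega F ⇑Q)) • pt Q y hy hQy = pt Q y hy hQy :=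
      smul_pt_eq Q ⟨g, hg⟩ y y hy hy hQy hQy 1 (by rw [hgy, one_smul])
    have h2 : (⟨g, hg⟩ : ↥(Omega F ⇑Q)) • B = B :=
      hB.smul_eq_of_mem hyB (by rw [h1]; exact hyB)
    have h3 : (⟨g, hg⟩ : ↥(Omega F ⇑Q)) • pt Q x hx hQx ∈ (⟨g, hg⟩ : ↥(Omega F ⇑Q)) • B :=
      Set.smul_mem_smul_set hxB
    have hgx0 : act Q g x ≠ 0 := ne_zero_of_polar_ne hgx
    have hQgx : Q (act Q g x) = 0 := by rw [quad_act]; exact hQx
    rw [h2, smul_pt_eq Q ⟨g, hg⟩ x (act Q g x) hx hgx0 hQx hQgx 1 (by rw [one_smul])] at h3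
    exact block_univ_of_nonorth H hB x (act Q g x) hx hgx0 hQx hQgx hxB h3 hgx
  · exact block_univ_of_nonorth H hB x y hx hy hQx hQy hxB hyB hxy

/-- `Ω` acts primitively on the singular points -/
theorem isPreprimitive (H : Hyp Q) : MulAction.IsPreprimitive ↥(Omega F ⇑Q) ↥(singPts Q) where
  exists_smul_eq := by
    intro p p'
    induction p using pt_ind with
    | h x hx hQx =>
      induction p' using pt_ind with
      | h y hy hQy =>
        obtain ⟨g, hg, a, ha, hga⟩ := move H x y hx hy hQx hQy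
        exact ⟨⟨g, hg⟩, smul_pt_eq Q ⟨g, hg⟩ x y hx hy hQx hQy a hga⟩
  isTrivialBlock_of_isBlock := by
    intro B hB
    by_cases hs : B.Subsingleton
    · exact Or.inl hs
    · right
      rw [Set.not_subsingleton_iff] at hs
      obtain ⟨p, hp, p', hp', hne⟩ := hs
      induction p using pt_ind with
      | h x hx hQx =>
        induction p' using pt_ind with
        | h y hy hQy => exact block_univ H hB x y hx hy hQx hQy hp hp' hne

end action

section eichsub
variable (Q)
open scoped Pointwise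

theorem eich_congr {u u' z z' : ι → F} (h1 : u = u') (h2 : z = z') (hu : Q u = 0)
    (huz : polar ⇑Q u z = 0) (hu' : Q u' = 0) (huz' : polar ⇑Q u' z' = 0) :
    eich Q u z hu huz = eich Q u' z' hu' huz' := by
  subst h1; subst h2; rfl

/-- the Eichler (Siegel) root subgroup of a singular vector -/
def eichSub (u : ι → F) (hu : Q u = 0) : Subgroup ↥(Omega F ⇑Q) where
  carrier := {g | ∃ (z : ι → F) (huz : polar ⇑Q u z = 0), g.1 = eich Q u z hu huz}
  one_mem' := ⟨0, by simp [polar], (eich_zero Q u hu).symm⟩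
  mul_mem' := by
    rintro a b ⟨z, hz, ha⟩ ⟨z', hz', hb⟩
    refine ⟨z + z', by rw [polar_add_right, hz, hz', add_zero], ?_⟩
    rw [Subgroup.coe_mul, ha, hb, eich_mul]
  inv_mem' := by
    rintro a ⟨z, hz, ha⟩
    refine ⟨-z, by rw [polar_neg_right, hz, neg_zero], ?_⟩
    rw [Subgroup.coe_inv, ha, eich_inv]

theorem mem_eichSub (u : ι → F) (hu : Q u = 0) (g : ↥(Omega F ⇑Q)) :
    g ∈ eichSub Q u hu ↔ ∃ (z : ι → F) (huz : polar ⇑Q u z = 0), g.1 = eich Q u z hu huz :=
  Iff.rfl

theorem eichSub_comm (u : ι → F) (hu : Q u = 0) : IsMulCommutative ↥(eichSub Q u hu) := by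
  rw [isMulCommutative_iff]
  rintro ⟨a, z, hz, ha⟩ ⟨b, z', hz', hb⟩
  apply Subtype.ext
  apply Subtype.ext
  show a.1 * b.1 = b.1 * a.1
  rw [ha, hb, eich_comm]

theorem eichSub_congr {u u' : ι → F} (h : u = u') (hu : Q u = 0) (hu' : Q u' = 0) :
    eichSub Q u hu = eichSub Q u' hu' := by
  subst h; rfl

theorem eichSub_smul (a : F) (ha : a ≠ 0) (u : ι → F) (hu : Q u = 0) (hau : Q (a • u) = 0) :
    eichSub Q (a • u) hau = eichSub Q u hu := by
  ext g
  rw [mem_eichSub, mem_eichSub]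
  constructor
  · rintro ⟨z, hz, hg⟩
    have hz' : polar ⇑Q u z = 0 := by
      rw [polar_smul_left, smul_eq_mul] at hz
      exact (mul_eq_zero.mp hz).resolve_left ha
    refine ⟨a • z, by rw [polar_smul_right, hz', smul_zero], ?_⟩
    rw [hg]
    exact eich_smul_left Q u z hu hz' a
  · rintro ⟨z, hz, hg⟩
    have hz' : polar ⇑Q u (a⁻¹ • z) = 0 := by rw [polar_smul_right, hz, smul_zero]
    refine ⟨a⁻¹ • z, by rw [polar_smul_left, hz', smul_zero], ?_⟩
    rw [hg, eich_smul_left Q u (a⁻¹ • z) hu hz' a]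
    exact eich_congr Q rfl (by rw [smul_smul, mul_inv_cancel₀ ha, one_smul]) _ _ _ _

theorem eichSub_conj_le (g : ↥(Omega F ⇑Q)) (u : ι → F) (hu : Q u = 0)
    (hgu : Q (act Q g.1 u) = 0) :
    MulAut.conj g • eichSub Q u hu ≤ eichSub Q (act Q g.1 u) hgu := by
  intro h hh
  rw [Subgroup.mem_smul_pointwise_iff_exists] at hh
  obtain ⟨s, ⟨z, hz, hs⟩, rfl⟩ := hh
  refine ⟨act Q g.1 z, by rw [polar_act, hz], ?_⟩
  rw [MulAut.smul_def, MulAut.conj_apply]
  show g.1 * s.1 * g.1⁻¹ = _
  rw [hs, conj_eich]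

theorem eichSub_conj (g : ↥(Omega F ⇑Q)) (u : ι → F) (hu : Q u = 0)
    (hgu : Q (act Q g.1 u) = 0) :
    eichSub Q (act Q g.1 u) hgu = MulAut.conj g • eichSub Q u hu := by
  apply le_antisymm _ (eichSub_conj_le Q g u hu hgu)
  rw [Subgroup.subset_pointwise_smul_iff, ← map_inv]
  have hback : act Q (g⁻¹ : ↥(Omega F ⇑Q)).1 (act Q g.1 u) = u := by
    rw [← act_mul, Subgroup.coe_inv, inv_mul_cancel]
    exact one_mulVec u
  have := eichSub_conj_le Q g⁻¹ (act Q g.1 u) hgu (by rw [hback]; exact hu)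
  rw [eichSub_congr Q hback _ hu] at this
  exact this

open scoped LinearAlgebra.Projectivization in
theorem eichSub_rep (v : ι → F) (hv : v ≠ 0) (hQv : Q v = 0)
    (h : Q (Projectivization.mk F v hv).rep = 0) :
    eichSub Q (Projectivization.mk F v hv).rep h = eichSub Q v hQv := by
  obtain ⟨a, ha⟩ := Projectivization.exists_smul_eq_mk_rep F v hv
  have ha' : (Projectivization.mk F v hv).rep = (a : F) • v := by rw [← ha, Units.smul_def]
  rw [eichSub_congr Q ha' h (by rw [← ha']; exact h), eichSub_smul Q (a : F) a.ne_zero v hQv]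

end eichsub

section iwasawa
open scoped Pointwise LinearAlgebra.Projectivization

attribute [local instance 2000] omSMul omAction omSMulComm singSMul singAction

/-- every element of `Ω` is a product of elements of Eichler root subgroups -/
theorem iSup_eichSub (H : Hyp Q) :
    (⨆ p : ↥(singPts Q), eichSub Q p.1.rep p.2) = ⊤ := by
  set K : Subgroup ↥(isometryGroup F ⇑Q) :=
    (⨆ p : ↥(singPts Q), eichSub Q p.1.rep p.2).map (Subgroup.subtype (Omega F ⇑Q)) with hK
  have hroot : OmegaGen.rootSet Q ⊆ K := by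
    intro g hg
    obtain ⟨u, v, c, hu, hv, huv, rfl⟩ := eq_siegel_of_mem_rootSet Q g hg
    by_cases hu0 : u = 0
    · have : siegel Q u v hu hv huv c = 1 := by
        apply Subtype.ext
        apply Units.ext
        rw [siegel_coe, hu0]
        exact siegelMatrix_eq_one_of_left_zero Q v c
      rw [this]
      exact one_mem _
    · have hmemΩ : siegel Q u v hu hv huv c ∈ Omega F ⇑Q := H.siegel_mem u v hu hv huv c
      refine ⟨⟨_, hmemΩ⟩, ?_, rfl⟩
      have h1 : (⟨_, hmemΩ⟩ : ↥(Omega F ⇑Q)) ∈ eichSub Q (pt Q u hu0 hu).1.rep (pt Q u hu0 hu).2 := by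
        rw [show eichSub Q (pt Q u hu0 hu).1.rep (pt Q u hu0 hu).2 = eichSub Q u hu from
          eichSub_rep Q u hu0 hu _]
        exact ⟨c • v, by rw [polar_smul_right, huv, smul_zero], siegel_eq_eich Q u v hu hv huv c⟩
      exact Subgroup.mem_iSup_of_mem (pt Q u hu0 hu) h1
  have hle : Omega F ⇑Q ≤ K := by
    show commutator _ ≤ K
    rw [commutator_eq_T Q H.nondeg H.card5 H.siegel_mem]
    unfold T
    rw [Subgroup.closure_le]
    exact hroot
  rw [eq_top_iff]
  intro g _
  obtain ⟨k, hk, hkg⟩ := hle g.2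
  have : k = g := Subtype.ext hkg
  rw [← this]
  exact hk

/-- The Iwasawa structure of `Ω` acting on singular points. -/
noncomputable def iwasawa (H : Hyp Q) :
    MulAction.IwasawaStructure ↥(Omega F ⇑Q) ↥(singPts Q) where
  T p := eichSub Q p.1.rep p.2
  is_comm p := eichSub_comm Q _ _
  is_conj g p := by
    induction p using pt_ind with
    | h v hv hQv =>
      rw [smul_pt]
      rw [show eichSub Q (pt Q v hv hQv).1.rep (pt Q v hv hQv).2 = eichSub Q v hQv from
        eichSub_rep Q v hv hQv _]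
      rw [show eichSub Q (pt Q (act Q g.1 v) _ _).1.rep (pt Q (act Q g.1 v) _ _).2 =
        eichSub Q (act Q g.1 v) (by rw [quad_act]; exact hQv) from eichSub_rep Q _ _ _ _]
      exact eichSub_conj Q g v hQv _
  is_generator := iSup_eichSub H

end iwasawa

section central
open scoped Pointwise LinearAlgebra.Projectivization

attribute [local instance 2000] omSMul omAction omSMulComm singSMul singAction

theorem perfect (H : Hyp Q) : commutator ↥(Omega F ⇑Q) = ⊤ := by
  have h1 : Omega F ⇑Q ≤ ⁅Omega F ⇑Q, Omega F ⇑Q⁆ := by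
    show commutator _ ≤ _
    rw [commutator_eq_T Q H.nondeg H.card5 H.siegel_mem]
    unfold T
    rw [Subgroup.closure_le]
    intro g hg
    obtain ⟨u, v, c, hu, hv, huv, rfl⟩ := eq_siegel_of_mem_rootSet Q g hg
    exact H.siegel_mem2 u v hu hv huv c
  rw [eq_top_iff]
  intro g _
  have h2 := h1 g.2
  rw [← Subgroup.map_subtype_commutator] at h2
  obtain ⟨k, hk, hkg⟩ := h2
  have : k = g := Subtype.ext hkg
  rw [← this]
  exact hk

theorem exists_hyp_pair (H : Hyp Q) : ∃ e f : ι → F, Q e = 0 ∧ Q f = 0 ∧ polar ⇑Q e f = 1 := by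
  have hne : Nonempty ι := by
    rw [← Fintype.card_pos_iff]
    have := H.card5
    omega
  obtain ⟨i⟩ := hne
  have hy : (Pi.single i 1 : ι → F) ≠ 0 := by
    intro h
    have := congrFun h i
    simp at this
  obtain ⟨e, f, he, hf, hef, -, -⟩ := exists_hyp_pair_perp Q H.nondeg H.finrank5 _ hy
  exact ⟨e, f, he, hf, hef⟩

/-- every vector is a sum of three singular vectors two of which are multiples of `e`, `f` -/
theorem sing_decomp (e f : ι → F) (he : Q e = 0) (hf : Q f = 0) (hef : polar ⇑Q e f = 1)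
    (x : ι → F) : ∃ (s : ι → F) (a b : F), Q s = 0 ∧ x = s + a • e + b • f := by
  set w : ι → F := x - polar ⇑Q x f • e - polar ⇑Q x e • f with hw
  have hfe : polar ⇑Q f e = 1 := by rw [polar_comm]; exact hef
  have hwe : polar ⇑Q w e = 0 := by
    rw [hw, polar_sub_left, polar_sub_left, polar_smul_left, polar_smul_left,
      polar_self_of_sing Q e he, hfe]
    simp
  have hwf : polar ⇑Q w f = 0 := by
    rw [hw, polar_sub_left, polar_sub_left, polar_smul_left, polar_smul_left,
      polar_self_of_sing Q f hf, hef]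
    simp
  refine ⟨w + (-(Q w)) • e + f, polar ⇑Q x f + Q w, polar ⇑Q x e - 1, ?_, ?_⟩
  · rw [quad_add', quad_add', QuadraticMap.map_smul, he, hf, polar_add_left, polar_smul_left,
      polar_smul_right, hwe, hwf, hef]
    simp
  · rw [hw]
    module

/-- eigenvalues on independent orthogonal singular vectors agree -/
theorem eigen_eq_of_orth (g : ↥(isometryGroup F ⇑Q))
    (hg : ∀ u : ι → F, u ≠ 0 → Q u = 0 → ∃ a : F, act Q g u = a • u)
    (u v : ι → F) (hu : Q u = 0) (hv : Q v = 0) (huv : polar ⇑Q u v = 0)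
    (hli : LinearIndependent F ![u, v]) (a b : F) (ha : act Q g u = a • u)
    (hb : act Q g v = b • v) : a = b := by
  have huv0 : u + v ≠ 0 := by
    intro h
    rw [LinearIndependent.pair_iff] at hli
    have := hli 1 1 (by rw [one_smul, one_smul]; exact h)
    exact one_ne_zero this.1
  have hQuv : Q (u + v) = 0 := by rw [quad_add', hu, hv, huv]; simp
  obtain ⟨c, hc⟩ := hg (u + v) huv0 hQuv
  rw [act_add, ha, hb, smul_add] at hc
  rw [LinearIndependent.pair_iff] at hli
  have := hli (a - c) (b - c) (by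
    rw [sub_smul, sub_smul]
    linear_combination (exp := 1) hc)
  have h1 := sub_eq_zero.mp this.1
  have h2 := sub_eq_zero.mp this.2
  rw [h1, h2]

/-- all eigenvalues on singular vectors agree -/
theorem eigen_eq (H : Hyp Q) (g : ↥(isometryGroup F ⇑Q))
    (hg : ∀ u : ι → F, u ≠ 0 → Q u = 0 → ∃ a : F, act Q g u = a • u)
    (u v : ι → F) (hu0 : u ≠ 0) (hv0 : v ≠ 0) (hu : Q u = 0) (hv : Q v = 0) (a b : F)
    (ha : act Q g u = a • u) (hb : act Q g v = b • v) : a = b := by
  by_cases hli : LinearIndependent F ![u, v]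
  · by_cases huv : polar ⇑Q u v = 0
    · exact eigen_eq_of_orth g hg u v hu hv huv hli a b ha hb
    · have hfin := finrank_perp2 Q u v
      have h5 := H.finrank5
      obtain ⟨w, hwU, hw0, hw⟩ := exists_singular_in Q (perp2 Q u v) (by omega)
      rw [mem_perp2] at hwU
      obtain ⟨d, hd⟩ := hg w hw0 hw
      have hli1 : LinearIndependent F ![u, w] := by
        rw [LinearIndependent.pair_iff' hu0]
        intro t ht
        apply huv
        have := hwU.2
        rw [← ht, polar_smul_right, polar_comm (⇑Q) v u] at this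
        rcases mul_eq_zero.mp this with h | h
        · rw [h, zero_smul] at ht
          exact absurd ht.symm hw0
        · exact h
      have hli2 : LinearIndependent F ![w, v] := by
        rw [LinearIndependent.pair_iff' hw0]
        intro t ht
        apply huv
        have := hwU.1
        rw [← ht] at huv ⊢
        rw [polar_smul_right, this, smul_zero]
      have e1 := eigen_eq_of_orth g hg u w hu hw hwU.1 hli1 a d ha hd
      have e2 := eigen_eq_of_orth g hg w v hw hv (by rw [polar_comm]; exact hwU.2) hli2 d b hd hb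
      rw [e1, e2]
  · rw [LinearIndependent.pair_iff' hu0] at hli
    push Not at hli
    obtain ⟨t, ht⟩ := hli
    rw [← ht, act_smul, ha, smul_smul, mul_comm, ← smul_smul] at hb
    have h3 : (a - b) • (t • u) = 0 := by rw [sub_smul, hb, sub_self]
    rw [ht] at h3
    rcases smul_eq_zero.mp h3 with h | h
    · exact sub_eq_zero.mp h
    · exact absurd h hv0

/-- an element of `Ω` fixing every singular point acts as a scalar -/
theorem scalar_of_fix (H : Hyp Q) (g : ↥(Omega F ⇑Q)) (hg : ∀ p : ↥(singPts Q), g • p = p) :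
    ∃ a : F, ∀ x : ι → F, act Q g.1 x = a • x := by
  have hg' : ∀ u : ι → F, u ≠ 0 → Q u = 0 → ∃ a : F, act Q g.1 u = a • u := by
    intro u hu0 hu
    have h1 := hg (pt Q u hu0 hu)
    rw [smul_pt, pt_eq_pt_iff] at h1
    obtain ⟨a, ha⟩ := h1
    exact ⟨a, ha.symm⟩
  obtain ⟨e, f, he, hf, hef⟩ := exists_hyp_pair H
  have he0 : e ≠ 0 := by
    rintro rfl
    simp [polar] at hef
  have hf0 : f ≠ 0 := ne_zero_of_polar_ne (by rw [hef]; exact one_ne_zero)
  obtain ⟨a, ha⟩ := hg' e he0 he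
  have hall : ∀ u : ι → F, Q u = 0 → act Q g.1 u = a • u := by
    intro u hu
    by_cases hu0 : u = 0
    · rw [hu0, smul_zero]
      exact mulVec_zero _
    · obtain ⟨b, hb⟩ := hg' u hu0 hu
      rw [hb, eigen_eq H g.1 hg' e u he0 hu0 he hu a b ha hb]
  refine ⟨a, fun x => ?_⟩
  obtain ⟨s, c, d, hs, rfl⟩ := sing_decomp e f he hf hef x
  rw [act_add, act_add, act_smul, act_smul, hall s hs, hall e he, hall f hf]
  module

/-- an element of `Ω` fixing every singular point is central -/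
theorem mem_center_of_fix (H : Hyp Q) (g : ↥(Omega F ⇑Q)) (hg : ∀ p : ↥(singPts Q), g • p = p) :
    g ∈ Subgroup.center ↥(Omega F ⇑Q) := by
  obtain ⟨a, ha⟩ := scalar_of_fix H g hg
  have hmat : ((g.1 : Matrix.GeneralLinearGroup ι F) : Matrix ι ι F) = a • 1 := by
    rw [ext_iff_mulVec]
    intro x
    rw [smul_mulVec, one_mulVec]
    exact ha x
  rw [Subgroup.mem_center_iff]
  intro k
  apply Subtype.ext
  apply Subtype.ext
  apply Units.ext
  show ((k.1 : Matrix.GeneralLinearGroup ι F) : Matrix ι ι F) * (g.1 : Matrix.GeneralLinearGroup ι F) =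
    ((g.1 : Matrix.GeneralLinearGroup ι F) : Matrix ι ι F) * (k.1 : Matrix.GeneralLinearGroup ι F)
  rw [hmat]
  simp

/-- every normal subgroup of `Ω` is central or everything -/
theorem normal_le_center_or_eq_top (H : Hyp Q) (N : Subgroup ↥(Omega F ⇑Q)) [N.Normal] :
    N ≤ Subgroup.center ↥(Omega F ⇑Q) ∨ N = ⊤ := by
  by_cases hfix : MulAction.fixedPoints N ↥(singPts Q) = Set.univ
  · left
    intro n hn
    apply mem_center_of_fix H
    intro p
    have : p ∈ MulAction.fixedPoints N ↥(singPts Q) := by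
      rw [hfix]; exact Set.mem_univ p
    exact this ⟨n, hn⟩
  · right
    have := isPreprimitive H
    have := (iwasawa H).commutator_le N hfix
    rw [perfect H] at this
    exact top_le_iff.mp this

theorem nontrivial_Omega (H : Hyp Q) : Nontrivial ↥(Omega F ⇑Q) := by
  obtain ⟨e, f, he, hf, hef⟩ := exists_hyp_pair H
  have hf0 : f ≠ 0 := ne_zero_of_polar_ne (by rw [hef]; exact one_ne_zero)
  have hspan : e ∉ Submodule.span F {f} := by
    intro hmem
    obtain ⟨a, ha⟩ := Submodule.mem_span_singleton.mp hmem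
    rw [← ha, polar_smul_left, polar_self_of_sing Q f hf, smul_zero] at hef
    exact zero_ne_one hef
  obtain ⟨g, hg, -, hgx⟩ := exists_fix_tilt H e f he hf0 hspan
  refine ⟨⟨⟨g, hg⟩, 1, ?_⟩⟩
  intro h
  have h1 : g = 1 := congrArg Subtype.val h
  apply hgx
  rw [h1]
  have : act Q (1 : ↥(isometryGroup F ⇑Q)) e = e := one_mulVec e
  rw [this, polar_self_of_sing Q e he]

/-- `PΩ(Q)` is simple -/
theorem isSimpleGroup_POmega (H : Hyp Q) : IsSimpleGroup (POmega F ⇑Q) := by
  have := nontrivial_Omega H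
  exact Cfsg.Agent.Lib.Helper5.SympPrimitive.isSimpleGroup_quotient_center (perfect H)
    (fun N hN => normal_le_center_or_eq_top H N)

end central

section hyp
open Cfsg.Agent.Lib.Helper5.SpinorHyp Cfsg.Agent.Lib.Helper5.SiegelComm
open scoped commutatorElement

variable {i : ℕ} {α β : Fin i → ι}

/-- the standard long root element along `e₀, e₂` is a commutator of elements of `Ω` -/
theorem std_siegel_mem2 (hQ : (polarBilin Q).Nondegenerate) (h : IsHypFamily Q α β) (hi : 3 ≤ i)
    (c : F) :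
    ∃ (huv : polar ⇑Q (Pi.single (α ⟨0, by omega⟩) 1) (Pi.single (α ⟨2, by omega⟩) 1) = 0),
      siegel Q (Pi.single (α ⟨0, by omega⟩) 1) (Pi.single (α ⟨2, by omega⟩) 1)
        (h.sing_α _) (h.sing_α _) huv c ∈ ⁅Omega F ⇑Q, Omega F ⇑Q⁆ := by
  set t0 : Fin i := ⟨0, by omega⟩
  set t1 : Fin i := ⟨1, by omega⟩
  set t2 : Fin i := ⟨2, by omega⟩
  have h01 : t0 ≠ t1 := by intro hc; have := congrArg Fin.val hc; simp [t0, t1] at this
  have h02 : t0 ≠ t2 := by intro hc; have := congrArg Fin.val hc; simp [t0, t2] at this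
  have h12 : t1 ≠ t2 := by intro hc; have := congrArg Fin.val hc; simp [t1, t2] at this
  have huw : polar ⇑Q (Pi.single (α t0) 1) (Pi.single (α t1) 1) = 0 := by
    rw [h.polar_α]; exact single_ne (h.disj t1 t0)
  have hw'v : polar ⇑Q (Pi.single (β t1) 1) (Pi.single (α t2) 1) = 0 := by
    rw [h.polar_β]; exact single_ne (fun hc => h12 (h.inj_α hc).symm)
  have huv : polar ⇑Q (Pi.single (α t0) 1) (Pi.single (α t2) 1) = 0 := by
    rw [h.polar_α]; exact single_ne (h.disj t2 t0)
  have huw' : polar ⇑Q (Pi.single (α t0) 1) (Pi.single (β t1) 1) = 0 := by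
    rw [h.polar_α]; exact single_ne (fun hc => h01 (h.inj_β hc).symm)
  have hww' : polar ⇑Q (Pi.single (α t1) 1) (Pi.single (β t1) 1) = 1 := by
    rw [h.polar_α]; simp
  have hwv : polar ⇑Q (Pi.single (α t1) 1) (Pi.single (α t2) 1) = 0 := by
    rw [h.polar_α]; exact single_ne (h.disj t2 t1)
  refine ⟨huv, ?_⟩
  have key := siegel_commutator Q (Pi.single (α t0) 1) (Pi.single (α t2) 1) (Pi.single (α t1) 1)
    (Pi.single (β t1) 1) (h.sing_α _) (h.sing_α _) (h.sing_α _) (h.sing_β _) huw hw'v huv huw' hww'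
    hwv (-c) 1
  have hc : -(-c * 1) = c := by ring
  rw [hc] at key
  rw [← key]
  exact Subgroup.commutator_mem_commutator
    (siegel_mem_commutator hQ h hi _ _ _ _ _ _) (siegel_mem_commutator hQ h hi _ _ _ _ _ _)

/-- Every Siegel transformation lies in `⁅Ω, Ω⁆` when there are three hyperbolic pairs. -/
theorem siegel_mem_commutator2 (hQ : (polarBilin Q).Nondegenerate)
    (h : IsHypFamily Q α β) (hi : 3 ≤ i) (u v : ι → F) (hu : Q u = 0) (hv : Q v = 0)
    (huv : polar ⇑Q u v = 0) (c : F) :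
    siegel Q u v hu hv huv c ∈ ⁅Omega F ⇑Q, Omega F ⇑Q⁆ := by
  by_cases hli : LinearIndependent F ![u, v]
  · obtain ⟨huv0, hmem⟩ := std_siegel_mem2 hQ h hi c
    set t0 : Fin i := ⟨0, by omega⟩
    set t2 : Fin i := ⟨2, by omega⟩
    have h02 : α t0 ≠ α t2 := by
      intro hc
      have := congrArg Fin.val (h.inj_α hc)
      simp [t0, t2] at this
    have hli0 : LinearIndependent F ![(Pi.single (α t0) 1 : ι → F), Pi.single (α t2) 1] := by
      rw [LinearIndependent.pair_iff]
      intro s t hst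
      have e1 := congrFun hst (α t0)
      have e2 := congrFun hst (α t2)
      simp only [Pi.add_apply, Pi.smul_apply, Pi.single_apply, smul_eq_mul, Pi.zero_apply] at e1 e2
      rw [if_pos trivial, if_neg h02] at e1
      rw [if_neg (Ne.symm h02), if_pos trivial] at e2
      exact ⟨by simpa using e1, by simpa using e2⟩
    obtain ⟨φ, hφ, hφx⟩ := QuadIsom.witt_family Q hQ 2
      ![(Pi.single (α t0) 1 : ι → F), Pi.single (α t2) 1] ![u, v] hli0 hli
      (by
        intro j
        fin_cases j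
        · simp [h.sing_α, hu]
        · simp [h.sing_α, hv])
      (by
        intro j k
        fin_cases j <;> fin_cases k
        · simp [polar_self, h.sing_α, hu]
        · simpa using huv0.trans huv.symm
        · simp only [Fin.mk_one, Fin.isValue, Matrix.cons_val_one, Matrix.cons_val_zero,
            Fin.zero_eta]
          rw [polar_comm, huv0, polar_comm, huv]
        · simp [polar_self, h.sing_α, hv])
    obtain ⟨a, ha⟩ := exists_isom_of_linearEquiv Q φ hφ
    have hau : act Q a (Pi.single (α t0) 1) = u := by rw [ha]; exact hφx 0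
    have hav : act Q a (Pi.single (α t2) 1) = v := by rw [ha]; exact hφx 1
    have hconj := conj_siegel Q a (Pi.single (α t0) 1) (Pi.single (α t2) 1) (h.sing_α _)
      (h.sing_α _) huv0 c
    have hnorm : a * siegel Q (Pi.single (α t0) 1) (Pi.single (α t2) 1) (h.sing_α _)
        (h.sing_α _) huv0 c * a⁻¹ ∈ ⁅Omega F ⇑Q, Omega F ⇑Q⁆ :=
      (inferInstance : (⁅Omega F ⇑Q, Omega F ⇑Q⁆).Normal).conj_mem _ hmem a
    rw [hconj] at hnorm
    have : siegel Q u v hu hv huv c = siegel Q (act Q a (Pi.single (α t0) 1))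
        (act Q a (Pi.single (α t2) 1)) (by rw [quad_act, h.sing_α]) (by rw [quad_act, h.sing_α])
        (by rw [polar_act, huv0]) c := by
      apply Subtype.ext
      apply Units.ext
      rw [siegel_coe, siegel_coe, hau, hav]
    rw [this]
    exact hnorm
  · have : siegel Q u v hu hv huv c = 1 := by
      apply Subtype.ext
      apply Units.ext
      rw [siegel_coe, siegelMatrix_eq_one_of_not_li Q u v c hli]
      rfl
    rw [this]
    exact Subgroup.one_mem _

theorem Hyp.of_hypFamily (hQ : (polarBilin Q).Nondegenerate) (h : IsHypFamily Q α β) (hi : 3 ≤ i)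
    (h5 : 5 ≤ Fintype.card ι) : Hyp Q where
  nondeg := hQ
  card5 := h5
  siegel_mem := siegel_mem_commutator hQ h hi
  siegel_mem2 := siegel_mem_commutator2 hQ h hi

/-- `PΩ(Q)` is simple for a nondegenerate quadratic form over a finite field with three explicit
hyperbolic pairs among the coordinates. -/
theorem isSimpleGroup_POmega_of_hypFamily (hQ : (polarBilin Q).Nondegenerate)
    (h : IsHypFamily Q α β) (hi : 3 ≤ i) (h5 : 5 ≤ Fintype.card ι) :
    IsSimpleGroup (POmega F ⇑Q) :=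
  isSimpleGroup_POmega (Hyp.of_hypFamily hQ h hi h5)

end hyp

end Cfsg.Agent.Lib.Helper5.OmegaSimple
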