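import Mathlib
import Cfsg.Prelude
import Cfsg.Agent.Lib.Helper5.SiegelComm
import Cfsg.Agent.Lib.Helper5.SpinorDiag
import Cfsg.Agent.S0789

set_option autoImplicit false
set_option linter.unusedSectionVars false
open Cfsg

/-! The order of `PΩ(Q)` in terms of the order of `O(Q)`, when the Witt index is at least three. -/

namespace Cfsg.Agent.Lib.Helper5.POmegaCard

open Matrix QuadraticMap Cfsg.Agent.Lib.Helper5.CartanDieudonne Cfsg.Agent.Lib.Helper5.Refl
  Cfsg.Agent.Lib.Helper5.OrthCard Cfsg.Agent.Lib.Helper5.Siegel Cfsg.Agent.Lib.Helper5.SpinorHyp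
  Cfsg.Agent.Lib.Helper5.OmegaCenter Cfsg.Agent.Lib.Helper5.SiegelComm
  Cfsg.Agent.Lib.Helper5.SpinorDiag Cfsg.Agent.Lib.Helper5.SpinorNorm

variable {ι : Type} [Fintype ι] [DecidableEq ι] {F : Type*} [Field F] [Fintype F]
  {Q : QuadraticForm F (ι → F)} {i : ℕ} {α β : Fin i → ι}

/-- in characteristic two the centre of `Ω` is trivial -/
theorem center_eq_bot_of_char_two (h2 : (2 : F) = 0) (hQ : (polarBilin Q).Nondegenerate)
    (h : IsHypFamily Q α β) (hi : 3 ≤ i) : Subgroup.center ↥(Omega F ⇑Q) = ⊥ := by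
  rw [Subgroup.eq_bot_iff_forall]
  intro z hz
  obtain ⟨a, ha, hza⟩ := center_Omega_scalar' hQ h hi z hz
  have ha1 : a = 1 := by
    have : (a - 1) * (a - 1) = 0 := by linear_combination ha + (1 - a) * h2
    have := mul_self_eq_zero.mp this
    linear_combination this
  rw [ha1, one_smul] at hza
  apply Subtype.ext
  apply Subtype.ext
  apply Units.ext
  rw [hza]
  rfl

/-- in odd characteristic the centre of `Ω` is `Ω ∩ {±1}` -/
theorem center_cases (hQ : (polarBilin Q).Nondegenerate)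
    (h : IsHypFamily Q α β) (hi : 3 ≤ i) (z : ↥(Omega F ⇑Q))
    (hz : z ∈ Subgroup.center ↥(Omega F ⇑Q)) :
    z = 1 ∨ (z : ↥(isometryGroup F ⇑Q)) = negOne Q := by
  obtain ⟨a, ha, hza⟩ := center_Omega_scalar' hQ h hi z hz
  have ha' : (a - 1) * (a + 1) = 0 := by linear_combination ha
  rcases mul_eq_zero.mp ha' with h1 | h1
  · left
    have ha1 : a = 1 := by linear_combination h1
    rw [ha1, one_smul] at hza
    apply Subtype.ext
    apply Subtype.ext
    apply Units.ext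
    rw [hza]
    rfl
  · right
    have ha1 : a = -1 := by linear_combination h1
    rw [ha1] at hza
    apply Subtype.ext
    apply Units.ext
    rw [hza, negOne_coe]
    simp

theorem negOne_ne_one (h2 : (2 : F) ≠ 0) [Nonempty ι] : negOne Q ≠ 1 := by
  intro hc
  obtain ⟨j⟩ := ‹Nonempty ι›
  have h1 : (-1 : Matrix ι ι F) = 1 := congrArg (fun g : ↥(isometryGroup F ⇑Q) =>
    ((g : Matrix.GeneralLinearGroup ι F) : Matrix ι ι F)) hc
  have := congrFun (congrFun h1 j) j
  simp only [Matrix.neg_apply, Matrix.one_apply_eq] at this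
  apply h2
  linear_combination -this

theorem card_center_of_mem (h2 : (2 : F) ≠ 0) (hQ : (polarBilin Q).Nondegenerate)
    (h : IsHypFamily Q α β) (hi : 3 ≤ i) [Nonempty ι] (hneg : negOne Q ∈ Omega F ⇑Q) :
    Nat.card (Subgroup.center ↥(Omega F ⇑Q)) = 2 := by
  have hcen : (⟨negOne Q, hneg⟩ : ↥(Omega F ⇑Q)) ∈ Subgroup.center ↥(Omega F ⇑Q) := by
    rw [Subgroup.mem_center_iff]
    intro g
    apply Subtype.ext
    apply Subtype.ext
    apply Units.ext
    show ((g : ↥(isometryGroup F ⇑Q)) : Matrix.GeneralLinearGroup ι F).val * (-1 : Matrix ι ι F) =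
      (-1 : Matrix ι ι F) * ((g : ↥(isometryGroup F ⇑Q)) : Matrix.GeneralLinearGroup ι F).val
    simp
  rw [Nat.card_eq_two_iff]
  refine ⟨1, ⟨⟨negOne Q, hneg⟩, hcen⟩, ?_, ?_⟩
  · intro hc
    apply negOne_ne_one (Q := Q) h2
    have := congrArg (fun z : ↥(Subgroup.center ↥(Omega F ⇑Q)) =>
      ((z : ↥(Omega F ⇑Q)) : ↥(isometryGroup F ⇑Q))) hc
    exact this.symm
  · ext z
    simp only [Set.mem_insert_iff, Set.mem_singleton_iff, Set.mem_univ, iff_true]
    rcases center_cases hQ h hi z.1 z.2 with h1 | h1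
    · left; exact Subtype.ext h1
    · right
      apply Subtype.ext
      apply Subtype.ext
      exact h1

theorem card_center_of_not_mem (hQ : (polarBilin Q).Nondegenerate)
    (h : IsHypFamily Q α β) (hi : 3 ≤ i) (hneg : negOne Q ∉ Omega F ⇑Q) :
    Nat.card (Subgroup.center ↥(Omega F ⇑Q)) = 1 := by
  have : Subgroup.center ↥(Omega F ⇑Q) = ⊥ := by
    rw [Subgroup.eq_bot_iff_forall]
    intro z hz
    rcases center_cases hQ h hi z hz with h1 | h1
    · exact h1
    · exfalso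
      apply hneg
      rw [← h1]
      exact z.2
  rw [this]
  exact Subgroup.card_bot

theorem card_eq_mul (k : ℕ) (hidx : (commutator ↥(isometryGroup F ⇑Q)).index = k) (c : ℕ)
    (hc : Nat.card (Subgroup.center ↥(Omega F ⇑Q)) = c) :
    k * c * Nat.card (POmega F ⇑Q) = Nat.card ↥(isometryGroup F ⇑Q) := by
  have h1 := (commutator ↥(isometryGroup F ⇑Q)).card_mul_index
  have h3 := Subgroup.card_eq_card_quotient_mul_card_subgroup
    (Subgroup.center ↥(Omega F ⇑Q))
  rw [hidx] at h1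
  rw [hc] at h3
  rw [← h1]
  show k * c * Nat.card (↥(Omega F ⇑Q) ⧸ Subgroup.center ↥(Omega F ⇑Q)) = _
  have h4 : Nat.card ↥(commutator ↥(isometryGroup F ⇑Q)) = Nat.card ↥(Omega F ⇑Q) := rfl
  rw [h4, h3]
  ring

/-- characteristic two: `|O| = 2 |PΩ|` -/
theorem card_of_char_two (h2 : (2 : F) = 0) (hQ : (polarBilin Q).Nondegenerate)
    (h : IsHypFamily Q α β) (hi : 3 ≤ i) (hex : Fintype.card ι = 4 → ∃ a : F, a ≠ 0 ∧ a ≠ 1)
    [Nonempty ι] : 2 * Nat.card (POmega F ⇑Q) = Nat.card ↥(isometryGroup F ⇑Q) := by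
  have : CharP F 2 := CharTwo.of_one_ne_zero_of_two_eq_zero one_ne_zero h2
  have hidx := Cfsg.Agent.S0789.index_commutator2 Q (ringChar.eq F 2) hQ hex
  have hc : Nat.card (Subgroup.center ↥(Omega F ⇑Q)) = 1 := by
    rw [center_eq_bot_of_char_two h2 hQ h hi]; exact Subgroup.card_bot
  have := card_eq_mul 2 hidx 1 hc
  rw [mul_one] at this
  exact this

/-- odd characteristic, `-1 ∈ Ω`: `|O| = 8 |PΩ|` -/
theorem card_of_mem (h2 : (2 : F) ≠ 0) (hQ : (polarBilin Q).Nondegenerate)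
    (h : IsHypFamily Q α β) (hi : 3 ≤ i) (hn : 2 ≤ Fintype.card ι) [Nonempty ι]
    (hneg : negOne Q ∈ Omega F ⇑Q) :
    8 * Nat.card (POmega F ⇑Q) = Nat.card ↥(isometryGroup F ⇑Q) := by
  have hidx := index_commutator Q h2 hQ hn
  exact card_eq_mul 4 hidx 2 (card_center_of_mem h2 hQ h hi hneg)

/-- odd characteristic, `-1 ∉ Ω`: `|O| = 4 |PΩ|` -/
theorem card_of_not_mem (h2 : (2 : F) ≠ 0) (hQ : (polarBilin Q).Nondegenerate)
    (h : IsHypFamily Q α β) (hi : 3 ≤ i) (hn : 2 ≤ Fintype.card ι)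
    (hneg : negOne Q ∉ Omega F ⇑Q) :
    4 * Nat.card (POmega F ⇑Q) = Nat.card ↥(isometryGroup F ⇑Q) := by
  have hidx := index_commutator Q h2 hQ hn
  have := card_eq_mul 4 hidx 1 (card_center_of_not_mem hQ h hi hneg)
  rw [mul_one] at this
  exact this

end Cfsg.Agent.Lib.Helper5.POmegaCard
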