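import Mathlib
import Cfsg.Prelude
import Cfsg.Agent.Lib.Helper5.ReflGenMat
import Cfsg.Agent.Lib.Helper5.SpinorNorm
import Cfsg.Agent.Lib.Helper5.OmegaGen

set_option autoImplicit false
set_option linter.unusedSectionVars false
set_option linter.unusedVariables false
open Cfsg

/-! In characteristic two the commutator subgroup of the orthogonal group has index at most two. -/

namespace Cfsg.Agent.Lib.Helper5.OrthIndexTwo

open Matrix QuadraticMap Module Cfsg.Agent.Lib.Helper5.CartanDieudonne Cfsg.Agent.Lib.Helper5.Refl
  Cfsg.Agent.Lib.Helper5.SpinorNorm Cfsg.Agent.Lib.Helper5.OmegaGen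

variable {ι : Type} [Fintype ι] [DecidableEq ι] {F : Type*} [Field F] [Fintype F]
  (Q : QuadraticForm F (ι → F))

/-- if all reflections are conjugate to a given one, every isometry lies in `Ω` up to it -/
theorem mem_or_mul_mem (hgen : reflSubgroup Q = ⊤) (w : ι → F) (hw : Q w ≠ 0)
    (hconj : ∀ (v : ι → F) (hv : Q v ≠ 0), ∃ h : ↥(isometryGroup F ⇑Q),
      h * reflection Q v hv * h⁻¹ = reflection Q w hw) (g : ↥(isometryGroup F ⇑Q)) :
    g ∈ Omega F ⇑Q ∨ g * reflection Q w hw ∈ Omega F ⇑Q := by
  have hrr : reflection Q w hw * reflection Q w hw = 1 := reflection_mul_self' Q w hw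
  have hker : ∀ x : ↥(isometryGroup F ⇑Q), x ∈ Omega F ⇑Q ↔
      (Abelianization.of x : Abelianization ↥(isometryGroup F ⇑Q)) = 1 := by
    intro x
    rw [← MonoidHom.mem_ker, Abelianization.ker_of]
  have hπr : (Abelianization.of (reflection Q w hw) : Abelianization ↥(isometryGroup F ⇑Q)) *
      Abelianization.of (reflection Q w hw) = 1 := by
    rw [← map_mul, hrr, map_one]
  have key : ∀ x : ↥(isometryGroup F ⇑Q), x ∈ reflSubgroup Q →
      (Abelianization.of x : Abelianization ↥(isometryGroup F ⇑Q)) = 1 ∨
        (Abelianization.of x : Abelianization ↥(isometryGroup F ⇑Q)) =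
          Abelianization.of (reflection Q w hw) := by
    intro x hx
    unfold reflSubgroup at hx
    induction hx using Subgroup.closure_induction with
    | mem t ht =>
      right
      obtain ⟨v, hv, htv⟩ := ht
      have e : t = reflection Q v hv := by
        apply Subtype.ext
        apply Units.ext
        exact htv
      obtain ⟨h, hh⟩ := hconj v hv
      rw [e, ← hh, map_mul, map_mul, map_inv, mul_comm, ← mul_assoc, inv_mul_cancel, one_mul]
    | one => left; exact map_one _
    | mul a b _ _ ha hb =>
      rw [map_mul]
      rcases ha with ha | ha <;> rcases hb with hb | hb <;> rw [ha, hb]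
      · left; exact one_mul _
      · right; exact one_mul _
      · right; exact mul_one _
      · left; exact hπr
    | inv a _ ha =>
      rw [map_inv]
      rcases ha with ha | ha <;> rw [ha]
      · left; exact inv_one
      · right; exact inv_eq_of_mul_eq_one_left hπr
  have hg : g ∈ reflSubgroup Q := by rw [hgen]; exact Subgroup.mem_top g
  rcases key g hg with h1 | h1
  · left; exact (hker g).mpr h1
  · right
    rw [hker, map_mul, h1]
    exact hπr

end Cfsg.Agent.Lib.Helper5.OrthIndexTwo
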