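import Mathlib
import Cfsg.Prelude
import Cfsg.Agent.Lib.Helper5.OrthIndexTwo
import Cfsg.Agent.Lib.Helper5.Dickson

set_option autoImplicit false
set_option linter.unusedSectionVars false
set_option linter.unusedVariables false
open Cfsg

/-! Membership criterion for `Ω(Q)` in terms of reflection factorisations, in all characteristics. -/

namespace Cfsg.Agent.Lib.Helper5.OmegaCrit

open Matrix QuadraticMap Module Cfsg.Agent.Lib.Helper5.CartanDieudonne Cfsg.Agent.Lib.Helper5.Refl
  Cfsg.Agent.Lib.Helper5.SpinorNorm Cfsg.Agent.Lib.Helper5.OmegaGen Cfsg.Agent.Lib.Helper5.Dickson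
  Cfsg.Agent.Lib.Helper5.OrthIndexTwo

variable {ι : Type} [Fintype ι] [DecidableEq ι] {F : Type*} [Field F] [Fintype F]
  (Q : QuadraticForm F (ι → F))

omit [Fintype ι] [DecidableEq ι] in
theorem isSquare_of_two_eq_zero (h2 : (2 : F) = 0) (a : F) : IsSquare a := by
  haveI : CharP F 2 := CharTwo.of_one_ne_zero_of_two_eq_zero one_ne_zero h2
  exact FiniteField.isSquare_of_char_two (ringChar.eq F 2) a

/-- in characteristic two `Ω` is the kernel of the Dickson invariant -/
theorem mem_Omega_iff_par (h2 : (2 : F) = 0) (hQ : (polarBilin Q).Nondegenerate)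
    (hex : Fintype.card ι = 4 → ∃ a : F, a ≠ 0 ∧ a ≠ 1) (g : ↥(isometryGroup F ⇑Q)) :
    g ∈ Omega F ⇑Q ↔ par Q hQ hex g = 1 := by
  constructor
  · intro hg
    exact Abelianization.commutator_subset_ker (par Q hQ hex) hg
  · intro hg
    by_cases hw : ∃ w : ι → F, Q w ≠ 0
    · obtain ⟨w, hw⟩ := hw
      have hgen := Cfsg.Agent.Lib.Helper5.ReflGenMat.reflSubgroup_eq_top Q hQ hex
      have hconj : ∀ (v : ι → F) (hv : Q v ≠ 0), ∃ h : ↥(isometryGroup F ⇑Q),
          h * reflection Q v hv * h⁻¹ = reflection Q w hw := fun v hv =>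
        exists_conj_reflection Q hQ v w hv hw (isSquare_of_two_eq_zero h2 _)
      rcases mem_or_mul_mem Q hgen w hw hconj g with h1 | h1
      · exact h1
      · exfalso
        have h3 : par Q hQ hex (g * reflection Q w hw) = 1 :=
          Abelianization.commutator_subset_ker (par Q hQ hex) h1
        rw [map_mul, hg, par_reflection, one_mul] at h3
        exact absurd h3 (by decide)
    · push Not at hw
      obtain ⟨vs, hvs⟩ := exists_rep' Q hQ hex g
      have hnil : vs = [] := by
        cases vs with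
        | nil => rfl
        | cons v t => exact absurd (hw v) (hvs.1 v (List.mem_cons_self ..))
      have hg1 : g = 1 := by
        rw [rep_eq_prod Q hvs, hnil]
        rfl
      rw [hg1]
      exact one_mem _

/-- membership in `Ω` in terms of a reflection factorisation -/
theorem mem_Omega_iff (hQ : (polarBilin Q).Nondegenerate)
    (hex : Fintype.card ι = 4 → ∃ a : F, a ≠ 0 ∧ a ≠ 1) (hn : 2 ≤ Fintype.card ι)
    (g : ↥(isometryGroup F ⇑Q)) (vs : List (ι → F)) (hvs : IsRep Q g vs) :
    g ∈ Omega F ⇑Q ↔ Even vs.length ∧ IsSquare (vs.map Q).prod := by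
  by_cases h2 : (2 : F) = 0
  · rw [mem_Omega_iff_par Q h2 hQ hex, par_eq Q hQ hex g vs hvs, neg_one_pow_eq_one_iff]
    exact ⟨fun h => ⟨h, isSquare_of_two_eq_zero h2 _⟩, fun h => h.1⟩
  · exact mem_commutator_iff Q h2 hQ hn g vs hvs

/-- products of an even number of reflections lie in the group generated by pairs -/
theorem pairs_prod_mem (k : ℕ) : ∀ vs : List (ι → F), vs.length = 2 * k → (∀ v ∈ vs, Q v ≠ 0) →
    (vs.map (reflE Q)).prod ∈ Subgroup.closure {g : ↥(isometryGroup F ⇑Q) |
      ∃ u v : ι → F, Q u ≠ 0 ∧ Q v ≠ 0 ∧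
        ((g : Matrix.GeneralLinearGroup ι F) : Matrix ι ι F) =
          Cfsg.reflectionMatrix ⇑Q u * Cfsg.reflectionMatrix ⇑Q v} := by
  induction k with
  | zero =>
    intro vs hlen _
    have : vs = [] := List.length_eq_zero_iff.mp (by omega)
    rw [this]
    exact one_mem _
  | succ k ih =>
    intro vs hlen hvs
    match vs, hlen, hvs with
    | [], hlen, _ => simp at hlen
    | [u], hlen, _ => simp at hlen; omega
    | u :: v :: rest, hlen, hvs =>
      have hu : Q u ≠ 0 := hvs u (by simp)
      have hv : Q v ≠ 0 := hvs v (by simp)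
      have hrest := ih rest (by simp at hlen; omega)
        (fun x hx => hvs x (List.mem_cons_of_mem _ (List.mem_cons_of_mem _ hx)))
      rw [List.map_cons, List.map_cons, List.prod_cons, List.prod_cons, ← mul_assoc]
      refine Subgroup.mul_mem _ (Subgroup.subset_closure ⟨u, v, hu, hv, ?_⟩) hrest
      rw [reflE_of_ne Q u hu, reflE_of_ne Q v hv]
      rfl

end Cfsg.Agent.Lib.Helper5.OmegaCrit
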