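import Mathlib
import Cfsg.Agent.S2619
import Cfsg.Agent.S2620
import Cfsg.Agent.S2621

set_option autoImplicit false

namespace Cfsg.Agent.Lib.Helper5

open Module QuadraticMap

section
variable {F : Type*} [Field F] {V : Type*} [AddCommGroup V] [Module F V]

/-- the plus-type form as a bundled quadratic form -/
noncomputable def plusForm (m : ℕ) (F : Type*) [Field F] : QuadraticForm F (Fin m ⊕ Fin m → F) :=
  ∑ i : Fin m, QuadraticMap.proj (Sum.inl i) (Sum.inr i)

theorem plusForm_apply (m : ℕ) (x : Fin m ⊕ Fin m → F) :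
    plusForm m F x = Cfsg.quadFormPlus m F x := by
  simp [plusForm, Cfsg.quadFormPlus]

theorem coe_plusForm (m : ℕ) : ⇑(plusForm m F) = Cfsg.quadFormPlus m F :=
  funext (plusForm_apply m)

/-- the minus-type form as a bundled quadratic form -/
noncomputable def minusForm (k : ℕ) (F : Type*) [Field F] (a c : F) :
    QuadraticForm F ((Fin k ⊕ Fin k) ⊕ Fin 2 → F) :=
  (∑ i : Fin k, QuadraticMap.proj (Sum.inl (Sum.inl i)) (Sum.inl (Sum.inr i))) +
    (QuadraticMap.proj (Sum.inr 0) (Sum.inr 0) + a • QuadraticMap.proj (Sum.inr 0) (Sum.inr 1) +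
      c • QuadraticMap.proj (Sum.inr 1) (Sum.inr 1))

theorem minusForm_apply (k : ℕ) (a c : F) (x : (Fin k ⊕ Fin k) ⊕ Fin 2 → F) :
    minusForm k F a c x = Cfsg.quadFormMinus k F a c x := by
  simp [minusForm, Cfsg.quadFormMinus]
  ring

theorem coe_minusForm (k : ℕ) (a c : F) : ⇑(minusForm k F a c) = Cfsg.quadFormMinus k F a c :=
  funext (minusForm_apply k a c)

theorem equivFun_basis {ι : Type*} [Fintype ι] [DecidableEq ι] (b : Basis ι F V) (j : ι) :
    b.equivFun (b j) = Pi.single j 1 := by
  ext l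
  rw [Basis.equivFun_self]
  simp [Pi.single_apply, eq_comm]

/-- a quadratic form with a hyperbolic basis is the plus-type form in the coordinates of that
basis -/
theorem eq_quadFormPlus_of_basis (Q : QuadraticForm F V) {m : ℕ}
    (b : Basis (Fin m ⊕ Fin m) F V)
    (h1 : ∀ i, Q (b (Sum.inl i)) = 0 ∧ Q (b (Sum.inr i)) = 0)
    (h2 : ∀ i j, polar Q (b (Sum.inl i)) (b (Sum.inr j)) = if i = j then 1 else 0)
    (h3 : ∀ i j, polar Q (b (Sum.inl i)) (b (Sum.inl j)) = 0 ∧
      polar Q (b (Sum.inr i)) (b (Sum.inr j)) = 0) :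
    ∀ v, Q v = Cfsg.quadFormPlus m F (b.equivFun v) := by
  classical
  have : Q = (plusForm m F).comp b.equivFun.toLinearMap := by
    apply Cfsg.Agent.S2619.unique_aux b
    · apply LinearMap.ext_basis b b
      intro j l
      simp only [polarBilin_apply_apply]
      have hc : polar ((plusForm m F).comp b.equivFun.toLinearMap) (b j) (b l) =
          polar (Cfsg.quadFormPlus m F) (Pi.single j 1) (Pi.single l 1) := by
        simp only [polar, QuadraticMap.comp_apply, LinearEquiv.coe_coe, plusForm_apply, map_add,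
          equivFun_basis]
      rw [hc, Cfsg.Agent.S2620.polar_eq, Matrix.toBilin'_single]
      rcases j with j | j <;> rcases l with l | l
      · simp [(h3 j l).1]
      · simp [h2, Matrix.one_apply]
      · rw [polar_comm, h2]
        simp [Matrix.one_apply, eq_comm]
      · simp [(h3 j l).2]
    · intro j
      simp only [QuadraticMap.comp_apply, LinearEquiv.coe_coe, equivFun_basis,
        plusForm_apply, Cfsg.quadFormPlus]
      rcases j with j | j
      · rw [(h1 j).1]; simp
      · rw [(h1 j).2]; simp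
  intro v
  rw [this]
  simp [plusForm_apply]

/-- a quadratic form with an elliptic basis is the minus-type form in the coordinates of that
basis -/
theorem eq_quadFormMinus_of_basis (Q : QuadraticForm F V) {k : ℕ}
    (b : Basis ((Fin k ⊕ Fin k) ⊕ Fin 2) F V) (ζ : F)
    (h1 : ∀ i, Q (b (Sum.inl (Sum.inl i))) = 0 ∧ Q (b (Sum.inl (Sum.inr i))) = 0)
    (h2 : ∀ i j, polar Q (b (Sum.inl (Sum.inl i))) (b (Sum.inl (Sum.inr j))) =
      if i = j then 1 else 0)
    (h3 : ∀ i j, polar Q (b (Sum.inl (Sum.inl i))) (b (Sum.inl (Sum.inl j))) = 0 ∧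
      polar Q (b (Sum.inl (Sum.inr i))) (b (Sum.inl (Sum.inr j))) = 0)
    (h4 : ∀ i (l : Fin 2), polar Q (b (Sum.inl (Sum.inl i))) (b (Sum.inr l)) = 0 ∧
      polar Q (b (Sum.inl (Sum.inr i))) (b (Sum.inr l)) = 0)
    (hx : Q (b (Sum.inr 0)) = 1) (hxy : polar Q (b (Sum.inr 0)) (b (Sum.inr 1)) = 1)
    (hy : Q (b (Sum.inr 1)) = ζ) :
    ∀ v, Q v = Cfsg.quadFormMinus k F 1 ζ (b.equivFun v) := by
  classical
  have : Q = (minusForm k F 1 ζ).comp b.equivFun.toLinearMap := by
    apply Cfsg.Agent.S2619.unique_aux b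
    · apply LinearMap.ext_basis b b
      intro j l
      simp only [polarBilin_apply_apply]
      have hc : polar ((minusForm k F 1 ζ).comp b.equivFun.toLinearMap) (b j) (b l) =
          polar (Cfsg.quadFormMinus k F 1 ζ) (Pi.single j 1) (Pi.single l 1) := by
        simp only [polar, QuadraticMap.comp_apply, LinearEquiv.coe_coe, minusForm_apply, map_add,
          equivFun_basis]
      rw [hc, Cfsg.Agent.S2621.polar_eq, Matrix.toBilin'_single]
      rcases j with (j | j) | j <;> rcases l with (l | l) | l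
      · simp [Cfsg.Agent.S2621.gramMinus, (h3 j l).1]
      · simp [Cfsg.Agent.S2621.gramMinus, h2, Matrix.one_apply]
      · simp [Cfsg.Agent.S2621.gramMinus, (h4 j l).1]
      · rw [polar_comm, h2]
        simp [Cfsg.Agent.S2621.gramMinus, Matrix.one_apply, eq_comm]
      · simp [Cfsg.Agent.S2621.gramMinus, (h3 j l).2]
      · simp [Cfsg.Agent.S2621.gramMinus, (h4 j l).2]
      · rw [polar_comm, (h4 l j).1]
        simp [Cfsg.Agent.S2621.gramMinus]
      · rw [polar_comm, (h4 l j).2]
        simp [Cfsg.Agent.S2621.gramMinus]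
      · fin_cases j <;> fin_cases l
        · simp [Cfsg.Agent.S2621.gramMinus, polar_self, hx]
        · simp [Cfsg.Agent.S2621.gramMinus, hxy]
        · rw [polar_comm]
          simp [Cfsg.Agent.S2621.gramMinus, hxy]
        · simp [Cfsg.Agent.S2621.gramMinus, polar_self, hy]
    · intro j
      simp only [QuadraticMap.comp_apply, LinearEquiv.coe_coe, equivFun_basis,
        minusForm_apply, Cfsg.quadFormMinus]
      rcases j with (j | j) | j
      · rw [(h1 j).1]; simp
      · rw [(h1 j).2]; simp
      · fin_cases j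
        · simp [hx]
        · simp [hy]
  intro v
  rw [this]
  simp [minusForm_apply]

end

end Cfsg.Agent.Lib.Helper5
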