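import Mathlib
import Cfsg.Agent.Lib.Helper5.QuadStd
import Cfsg.Agent.Lib.Helper5.QuadIsom

set_option autoImplicit false

namespace Cfsg.Agent.Lib.Helper5.PlusGeom

open QuadraticMap

section abstract
variable {F V : Type*} [Field F] [AddCommGroup V] [Module F V]

theorem polar_eq_zero_of_ts (Q : QuadraticForm F V) (W : Submodule F V) (hW : ∀ w ∈ W, Q w = 0)
    {u v : V} (hu : u ∈ W) (hv : v ∈ W) : polar Q u v = 0 := by
  simp only [polar]
  rw [hW _ (W.add_mem hu hv), hW u hu, hW v hv]
  simp

/-- adjoining a singular vector orthogonal to a totally singular subspace -/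
theorem ts_sup_span (Q : QuadraticForm F V) (U : Submodule F V) (hU : ∀ u ∈ U, Q u = 0) (p : V)
    (hp : Q p = 0) (hUp : ∀ u ∈ U, polar Q u p = 0) :
    ∀ w ∈ U ⊔ Submodule.span F {p}, Q w = 0 := by
  intro w hw
  obtain ⟨u, hu, z, hz, rfl⟩ := Submodule.mem_sup.mp hw
  obtain ⟨a, rfl⟩ := Submodule.mem_span_singleton.mp hz
  have h := QuadraticMap.polar_add_left Q u 0 (a • p)
  have : Q (u + a • p) = Q u + Q (a • p) + polar Q u (a • p) := by
    simp only [polar]; ring
  rw [this, hU u hu, QuadraticMap.map_smul, hp, polar_smul_right, hUp u hu]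
  simp

theorem finrank_sup_span [FiniteDimensional F V] (U : Submodule F V) (p : V) (hp : p ∉ U) :
    Module.finrank F ↥(U ⊔ Submodule.span F {p}) = Module.finrank F U + 1 := by
  have hlt : U < U ⊔ Submodule.span F {p} := by
    refine lt_of_le_of_ne le_sup_left ?_
    intro h
    apply hp
    rw [h]
    exact Submodule.mem_sup_right (Submodule.mem_span_singleton_self p)
  have h1 := Submodule.finrank_lt_finrank_of_lt hlt
  have h2 := Submodule.finrank_add_le_finrank_add_finrank U (Submodule.span F {p})
  have h3 : Module.finrank F (Submodule.span F {p}) ≤ 1 := by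
    have := finrank_span_finset_le_card (R := F) ({p} : Finset V)
    rw [Finset.coe_singleton, Finset.card_singleton] at this
    exact this
  omega

/-- the abstract statement: a totally singular subspace whose perp is `U ⊕ ⟨p, p'⟩` for a
hyperbolic pair lies in exactly two totally singular subspaces of one dimension more -/
theorem two_extensions [FiniteDimensional F V] (Q : QuadraticForm F V)
    (U : Submodule F V) (hU : ∀ u ∈ U, Q u = 0) (p p' : V) (hp : Q p = 0) (hp' : Q p' = 0)
    (hpp' : polar Q p p' = 1)
    (hUp : ∀ u ∈ U, polar Q u p = 0) (hUp' : ∀ u ∈ U, polar Q u p' = 0)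
    (hP : ∀ v, (∀ u ∈ U, polar Q u v = 0) → ∃ u ∈ U, ∃ a b : F, v = u + a • p + b • p') :
    {W : Submodule F V | Module.finrank F W = Module.finrank F U + 1 ∧ (∀ w ∈ W, Q w = 0) ∧ U ≤ W}
      = {U ⊔ Submodule.span F {p}, U ⊔ Submodule.span F {p'}} ∧
    U ⊔ Submodule.span F {p} ≠ U ⊔ Submodule.span F {p'} := by
  have hpU : p ∉ U := by
    intro h
    have := hUp' p h
    rw [hpp'] at this
    exact one_ne_zero this
  have hp'U : p' ∉ U := by
    intro h
    have := hUp p' h
    rw [polar_comm, hpp'] at this
    exact one_ne_zero this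
  have hts1 := ts_sup_span Q U hU p hp hUp
  have hts2 := ts_sup_span Q U hU p' hp' hUp'
  constructor
  · ext W
    simp only [Set.mem_ofPred_eq, Set.mem_insert_iff, Set.mem_singleton_iff]
    constructor
    · rintro ⟨hfin, hW, hUW⟩
      -- pick w ∈ W \ U
      have hne : ¬ W ≤ U := by
        intro h
        have := Submodule.finrank_mono h
        omega
      obtain ⟨w, hwW, hwU⟩ := Set.not_subset.mp hne
      have hperp : ∀ u ∈ U, polar Q u w = 0 := fun u hu =>
        polar_eq_zero_of_ts Q W hW (hUW hu) hwW
      obtain ⟨u, hu, a, b, hw⟩ := hP w hperp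
      have hz : a • p + b • p' ∈ W := by
        have : a • p + b • p' = w - u := by rw [hw]; abel
        rw [this]
        exact W.sub_mem hwW (hUW hu)
      have hQz : Q (a • p + b • p') = a * b := by
        have : Q (a • p + b • p') = Q (a • p) + Q (b • p') + polar Q (a • p) (b • p') := by
          simp only [polar]; ring
        rw [this, QuadraticMap.map_smul, QuadraticMap.map_smul, hp, hp', polar_smul_left,
          polar_smul_right, hpp']
        simp
      have hab : a * b = 0 := by rw [← hQz]; exact hW _ hz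
      rcases mul_eq_zero.mp hab with ha | hb
      · -- a = 0, so b ≠ 0 and p' ∈ W
        right
        have hb : b ≠ 0 := by
          rintro rfl
          apply hwU
          rw [hw, ha]
          simpa using hu
        have hp'W : p' ∈ W := by
          rw [ha, zero_smul, zero_add] at hz
          have := W.smul_mem b⁻¹ hz
          rwa [smul_smul, inv_mul_cancel₀ hb, one_smul] at this
        have hle : U ⊔ Submodule.span F {p'} ≤ W :=
          sup_le hUW ((Submodule.span_singleton_le_iff_mem _ _).mpr hp'W)
        exact (Submodule.eq_of_le_of_finrank_eq hle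
          (by rw [finrank_sup_span U p' hp'U, hfin])).symm
      · left
        have ha : a ≠ 0 := by
          rintro rfl
          apply hwU
          rw [hw, hb]
          simpa using hu
        have hpW : p ∈ W := by
          rw [hb, zero_smul, add_zero] at hz
          have := W.smul_mem a⁻¹ hz
          rwa [smul_smul, inv_mul_cancel₀ ha, one_smul] at this
        have hle : U ⊔ Submodule.span F {p} ≤ W :=
          sup_le hUW ((Submodule.span_singleton_le_iff_mem _ _).mpr hpW)
        exact (Submodule.eq_of_le_of_finrank_eq hle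
          (by rw [finrank_sup_span U p hpU, hfin])).symm
    · rintro (rfl | rfl)
      · exact ⟨finrank_sup_span U p hpU, hts1, le_sup_left⟩
      · exact ⟨finrank_sup_span U p' hp'U, hts2, le_sup_left⟩
  · intro h
    have h1 : p ∈ U ⊔ Submodule.span F {p'} := by
      rw [← h]
      exact Submodule.mem_sup_right (Submodule.mem_span_singleton_self p)
    have h2 : p' ∈ U ⊔ Submodule.span F {p'} :=
      Submodule.mem_sup_right (Submodule.mem_span_singleton_self p')
    have := polar_eq_zero_of_ts Q _ hts2 h1 h2
    rw [hpp'] at this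
    exact one_ne_zero this

/-- version of `two_extensions` with a dimension hypothesis instead of the decomposition -/
theorem two_extensions' [FiniteDimensional F V] (Q : QuadraticForm F V)
    (hQ : (polarBilin Q).Nondegenerate)
    (U : Submodule F V) (hU : ∀ u ∈ U, Q u = 0)
    (hdim : Module.finrank F V = 2 * (Module.finrank F U + 1))
    (p p' : V) (hp : Q p = 0) (hp' : Q p' = 0)
    (hpp' : polar Q p p' = 1)
    (hUp : ∀ u ∈ U, polar Q u p = 0) (hUp' : ∀ u ∈ U, polar Q u p' = 0) :
    {W : Submodule F V | Module.finrank F W = Module.finrank F U + 1 ∧ (∀ w ∈ W, Q w = 0) ∧ U ≤ W}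
      = {U ⊔ Submodule.span F {p}, U ⊔ Submodule.span F {p'}} ∧
    U ⊔ Submodule.span F {p} ≠ U ⊔ Submodule.span F {p'} := by
  apply two_extensions Q U hU p p' hp hp' hpp' hUp hUp'
  have hpU : p ∉ U := by
    intro h
    have := hUp' p h
    rw [hpp'] at this
    exact one_ne_zero this
  have hts1 := ts_sup_span Q U hU p hp hUp
  have hp'U : p' ∉ U ⊔ Submodule.span F {p} := by
    intro h
    have := polar_eq_zero_of_ts Q _ hts1
      (Submodule.mem_sup_right (Submodule.mem_span_singleton_self p)) h
    rw [hpp'] at this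
    exact one_ne_zero this
  set O := LinearMap.BilinForm.orthogonal (polarBilin Q) U with hO
  set T := U ⊔ Submodule.span F {p} ⊔ Submodule.span F {p'} with hT
  have hTO : T ≤ O := by
    refine sup_le (sup_le ?_ ?_) ?_
    · intro u hu n hn
      show polarBilin Q n u = 0
      rw [polarBilin_apply_apply]
      exact polar_eq_zero_of_ts Q U hU hn hu
    · rw [Submodule.span_singleton_le_iff_mem]
      intro n hn
      show polarBilin Q n p = 0
      rw [polarBilin_apply_apply]
      exact hUp n hn
    · rw [Submodule.span_singleton_le_iff_mem]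
      intro n hn
      show polarBilin Q n p' = 0
      rw [polarBilin_apply_apply]
      exact hUp' n hn
  have hfT : Module.finrank F T = Module.finrank F U + 2 := by
    rw [hT, finrank_sup_span _ p' hp'U, finrank_sup_span U p hpU]
  have hfO : Module.finrank F O = Module.finrank F U + 2 := by
    have := LinearMap.BilinForm.finrank_orthogonal hQ U
    rw [hO, this, hdim]
    omega
  have hEq : T = O := Submodule.eq_of_le_of_finrank_eq hTO (by rw [hfT, hfO])
  intro v hv
  have hvO : v ∈ O := by
    intro n hn
    show polarBilin Q n v = 0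
    rw [polarBilin_apply_apply]
    exact hv n hn
  rw [← hEq, hT] at hvO
  obtain ⟨t, ht, z', hz', rfl⟩ := Submodule.mem_sup.mp hvO
  obtain ⟨u, hu, z, hz, rfl⟩ := Submodule.mem_sup.mp ht
  obtain ⟨a, rfl⟩ := Submodule.mem_span_singleton.mp hz
  obtain ⟨b, rfl⟩ := Submodule.mem_span_singleton.mp hz'
  exact ⟨u, hu, a, b, rfl⟩

end abstract

section concrete
variable {F : Type*} [Field F] (m : ℕ)

theorem polar_plus (u v : Fin m ⊕ Fin m → F) :
    polar (plusForm m F) u v =
      ∑ i, (u (Sum.inl i) * v (Sum.inr i) + v (Sum.inl i) * u (Sum.inr i)) := by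
  simp only [polar, plusForm_apply, Cfsg.quadFormPlus, Pi.add_apply]
  rw [← Finset.sum_sub_distrib, ← Finset.sum_sub_distrib]
  apply Finset.sum_congr rfl
  intro i _
  ring

theorem polar_single_inr (u : Fin m ⊕ Fin m → F) (j : Fin m) :
    polar (plusForm m F) u (Pi.single (Sum.inr j) 1) = u (Sum.inl j) := by
  rw [polar_plus]
  simp [Pi.single_apply]

theorem polar_single_inl (u : Fin m ⊕ Fin m → F) (j : Fin m) :
    polar (plusForm m F) u (Pi.single (Sum.inl j) 1) = u (Sum.inr j) := by
  rw [polar_plus]
  simp [Pi.single_apply]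

theorem plus_single_inl (j : Fin m) (a : F) : plusForm m F (Pi.single (Sum.inl j) a) = 0 := by
  rw [plusForm_apply]
  simp [Cfsg.quadFormPlus]

theorem plus_single_inr (j : Fin m) (a : F) : plusForm m F (Pi.single (Sum.inr j) a) = 0 := by
  rw [plusForm_apply]
  simp [Cfsg.quadFormPlus]

theorem plus_nondegenerate : (polarBilin (plusForm m F)).Nondegenerate := by
  have key : ∀ u : Fin m ⊕ Fin m → F, (∀ v, polar (plusForm m F) u v = 0) → u = 0 := by
    intro u hu
    ext i
    rcases i with i | i
    · rw [← polar_single_inr m u i]; exact hu _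
    · rw [← polar_single_inl m u i]; exact hu _
  constructor
  · intro u hu
    exact key u (fun v => by simpa using hu v)
  · intro u hu
    apply key u
    intro v
    rw [polar_comm]
    simpa using hu v

/-- a totally singular `k`-subspace of the hyperbolic `2(k+1)`-space has a hyperbolic pair in its
perp (via Witt) -/
theorem exists_hyp_pair (k : ℕ) (U : Submodule F (Fin (k + 1) ⊕ Fin (k + 1) → F))
    (hfin : Module.finrank F U = k) (hU : ∀ u ∈ U, plusForm (k + 1) F u = 0) :
    ∃ p p' : Fin (k + 1) ⊕ Fin (k + 1) → F, plusForm (k + 1) F p = 0 ∧ plusForm (k + 1) F p' = 0 ∧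
      polar (plusForm (k + 1) F) p p' = 1 ∧ (∀ u ∈ U, polar (plusForm (k + 1) F) u p = 0) ∧
      (∀ u ∈ U, polar (plusForm (k + 1) F) u p' = 0) := by
  classical
  set Q := plusForm (k + 1) F with hQdef
  have hQ : (polarBilin Q).Nondegenerate := plus_nondegenerate (k + 1)
  let b : Module.Basis (Fin k) F U := (Module.finBasis F U).reindex (finCongr hfin)
  set x : Fin k → (Fin (k + 1) ⊕ Fin (k + 1) → F) := fun i => (b i : _) with hx
  set y : Fin k → (Fin (k + 1) ⊕ Fin (k + 1) → F) :=
    fun i => Pi.single (Sum.inl (Fin.castSucc i)) 1 with hy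
  have hxli : LinearIndependent F x :=
    b.linearIndependent.map' U.subtype (Submodule.ker_subtype _)
  have hyli : LinearIndependent F y := by
    have h1 := (Pi.basisFun F (Fin (k + 1) ⊕ Fin (k + 1))).linearIndependent
    have h2 := h1.comp (fun i : Fin k => (Sum.inl (Fin.castSucc i) : Fin (k + 1) ⊕ Fin (k + 1)))
      (fun i j hij => by simpa using hij)
    convert h2 using 1
    ext i j
    simp [hy, Pi.basisFun_apply]
  have hxU : ∀ i, x i ∈ U := fun i => (b i).2
  obtain ⟨g, hg, hgy⟩ := QuadIsom.witt_family Q hQ k y x hyli hxli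
    (fun i => by rw [hU _ (hxU i)]; exact plus_single_inl _ _ _)
    (fun i j => by
      rw [polar_eq_zero_of_ts Q U hU (hxU i) (hxU j), polar_single_inl]
      simp [hy])
  have hgp : ∀ u v, polar Q (g u) (g v) = polar Q u v :=
    QuadIsom.polar_of_isom Q (g : _ →ₗ[F] _) hg
  have hUspan : U = Submodule.span F (Set.range x) := by
    have h := b.span_eq
    have h' := congrArg (Submodule.map U.subtype) h
    rw [Submodule.map_span, Submodule.map_subtype_top, ← Set.range_comp] at h'
    exact h'.symm
  have hperp : ∀ z : Fin (k + 1) ⊕ Fin (k + 1) → F, (∀ i, polar Q (x i) z = 0) →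
      ∀ u ∈ U, polar Q u z = 0 := by
    intro z hz u hu
    rw [hUspan] at hu
    induction hu using Submodule.span_induction with
    | mem u hu =>
      obtain ⟨i, rfl⟩ := hu
      exact hz i
    | zero => simp
    | add u v _ _ hu hv => rw [polar_add_left, hu, hv, add_zero]
    | smul a u _ hu => rw [polar_smul_left, hu, smul_zero]
  refine ⟨g (Pi.single (Sum.inl (Fin.last k)) 1), g (Pi.single (Sum.inr (Fin.last k)) 1), ?_, ?_, ?_,
    ?_, ?_⟩
  · rw [hg]; exact plus_single_inl _ _ _
  · rw [hg]; exact plus_single_inr _ _ _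
  · rw [hgp, polar_single_inr]; simp
  · apply hperp
    intro i
    rw [← hgy i, hgp, polar_single_inl]
    simp [hy]
  · apply hperp
    intro i
    rw [← hgy i, hgp, polar_single_inr]
    simp [hy, Fin.castSucc_ne_last]

/-- S0832 in the form `m = k + 1` -/
theorem card_extensions (k : ℕ) (U : Submodule F (Fin (k + 1) ⊕ Fin (k + 1) → F))
    (hfin : Module.finrank F U = k) (hU : ∀ u ∈ U, Cfsg.quadFormPlus (k + 1) F u = 0) :
    Nat.card {W : Submodule F (Fin (k + 1) ⊕ Fin (k + 1) → F) //
      Module.finrank F W = k + 1 ∧ (∀ w ∈ W, Cfsg.quadFormPlus (k + 1) F w = 0) ∧ U ≤ W} = 2 := by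
  have hU' : ∀ u ∈ U, plusForm (k + 1) F u = 0 := fun u hu => by
    rw [plusForm_apply]; exact hU u hu
  obtain ⟨p, p', hp, hp', hpp', hUp, hUp'⟩ := exists_hyp_pair k U hfin hU'
  have hdim : Module.finrank F (Fin (k + 1) ⊕ Fin (k + 1) → F) =
      2 * (Module.finrank F U + 1) := by
    rw [Module.finrank_fintype_fun_eq_card, hfin]
    simp
    ring
  obtain ⟨hset, hne⟩ := two_extensions' (plusForm (k + 1) F) (plus_nondegenerate (k + 1)) U hU' hdim
    p p' hp hp' hpp' hUp hUp'
  have : {W : Submodule F (Fin (k + 1) ⊕ Fin (k + 1) → F) |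
      Module.finrank F W = k + 1 ∧ (∀ w ∈ W, Cfsg.quadFormPlus (k + 1) F w = 0) ∧ U ≤ W} =
      {U ⊔ Submodule.span F {p}, U ⊔ Submodule.span F {p'}} := by
    rw [← hset]
    ext W
    simp only [Set.mem_ofPred_eq, hfin, plusForm_apply]
  show Set.ncard {W : Submodule F (Fin (k + 1) ⊕ Fin (k + 1) → F) |
      Module.finrank F W = k + 1 ∧ (∀ w ∈ W, Cfsg.quadFormPlus (k + 1) F w = 0) ∧ U ≤ W} = 2
  rw [this]
  exact Set.ncard_pair hne

end concrete


end Cfsg.Agent.Lib.Helper5.PlusGeom
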