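import Mathlib
import Cfsg.Agent.Lib.Helper5.PlusGeom

set_option autoImplicit false

namespace Cfsg.Agent.Lib.Helper5.MaxTS

open QuadraticMap Module

section
variable {F V : Type*} [Field F] [AddCommGroup V] [Module F V]

/-- the perp of a subspace with respect to the polar form -/
def orth (Q : QuadraticForm F V) (W : Submodule F V) : Submodule F V :=
  LinearMap.BilinForm.orthogonal (polarBilin Q) W

theorem mem_orth (Q : QuadraticForm F V) (W : Submodule F V) (v : V) :
    v ∈ orth Q W ↔ ∀ w ∈ W, polar Q w v = 0 := by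
  unfold orth
  rw [LinearMap.BilinForm.mem_orthogonal_iff]
  constructor
  · intro h w hw
    have := h w hw
    rwa [polarBilin_apply_apply] at this
  · intro h w hw
    rw [polarBilin_apply_apply]
    exact h w hw

theorem orth_anti (Q : QuadraticForm F V) {A B : Submodule F V} (h : A ≤ B) :
    orth Q B ≤ orth Q A := LinearMap.BilinForm.orthogonal_le h

theorem orth_sup (Q : QuadraticForm F V) (A B : Submodule F V) :
    orth Q (A ⊔ B) = orth Q A ⊓ orth Q B := by
  apply le_antisymm
  · exact le_inf (orth_anti Q le_sup_left) (orth_anti Q le_sup_right)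
  · rintro v ⟨hA, hB⟩
    rw [SetLike.mem_coe, mem_orth] at hA hB
    rw [mem_orth]
    intro n hn
    obtain ⟨a, ha, b, hb, rfl⟩ := Submodule.mem_sup.mp hn
    rw [polar_add_left, hA a ha, hB b hb, add_zero]

theorem mem_orth_span_singleton (Q : QuadraticForm F V) (w v : V) :
    v ∈ orth Q (Submodule.span F {w}) ↔ polar Q w v = 0 := by
  rw [mem_orth]
  constructor
  · intro h
    exact h w (Submodule.mem_span_singleton_self w)
  · intro h n hn
    obtain ⟨a, rfl⟩ := Submodule.mem_span_singleton.mp hn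
    rw [polar_smul_left, h, smul_zero]

theorem le_orth_of_ts (Q : QuadraticForm F V) (W : Submodule F V) (hW : ∀ w ∈ W, Q w = 0) :
    W ≤ orth Q W := by
  intro v hv
  rw [mem_orth]
  intro w hw
  exact PlusGeom.polar_eq_zero_of_ts Q W hW hw hv

variable [FiniteDimensional F V]

theorem finrank_orth (Q : QuadraticForm F V) (hQ : (polarBilin Q).Nondegenerate)
    (W : Submodule F V) : finrank F (orth Q W) = finrank F V - finrank F W :=
  LinearMap.BilinForm.finrank_orthogonal hQ W

variable (Q : QuadraticForm F V) (hQ : (polarBilin Q).Nondegenerate) (m : ℕ)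
  (hV : finrank F V = 2 * m)

/-- maximal totally singular subspaces of a hyperbolic space -/
def IsMaxTS (W : Submodule F V) : Prop := finrank F W = m ∧ ∀ w ∈ W, Q w = 0

include hQ hV in
theorem finrank_le_of_ts (W : Submodule F V) (hW : ∀ w ∈ W, Q w = 0) : finrank F W ≤ m := by
  have h1 := Submodule.finrank_mono (le_orth_of_ts Q W hW)
  have h2 := finrank_orth Q hQ W
  have h3 : finrank F W ≤ finrank F V := Submodule.finrank_le W
  omega

include hQ hV in
theorem orth_eq_of_max (W : Submodule F V) (hW : IsMaxTS Q m W) : orth Q W = W := by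
  symm
  apply Submodule.eq_of_le_of_finrank_eq (le_orth_of_ts Q W hW.2)
  rw [finrank_orth Q hQ, hV, hW.1]
  omega

theorem eq_of_le (A B : Submodule F V) (hA : IsMaxTS Q m A) (hB : IsMaxTS Q m B) (h : A ≤ B) :
    A = B :=
  Submodule.eq_of_le_of_finrank_eq h (by rw [hA.1, hB.1])

include hQ hV in
/-- two distinct maximal totally singular subspaces through a common hyperplane `H` are the only
maximal totally singular subspaces through `H` -/
theorem adjacent_extensions (U W : Submodule F V) (hU : IsMaxTS Q m U) (hW : IsMaxTS Q m W)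
    (hne : U ≠ W) (H : Submodule F V) (hHU : H ≤ U) (hHW : H ≤ W) (hH : finrank F H + 1 = m)
    (X : Submodule F V) (hX : IsMaxTS Q m X) (hHX : H ≤ X) : X = U ∨ X = W := by
  have hWU : ¬ W ≤ U := fun h => hne (eq_of_le Q m W U hW hU h).symm
  have hUW : ¬ U ≤ W := fun h => hne (eq_of_le Q m U W hU hW h)
  obtain ⟨w, hwW, hwU⟩ := Set.not_subset.mp hWU
  obtain ⟨u, huU, huW⟩ := Set.not_subset.mp hUW
  have hHts : ∀ h ∈ H, Q h = 0 := fun h hh => hU.2 h (hHU hh)
  have huH : u ∉ H := fun h => huW (hHW h)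
  have hwH : w ∉ H := fun h => hwU (hHU h)
  have hHu : H ⊔ Submodule.span F {u} = U := by
    apply Submodule.eq_of_le_of_finrank_eq
      (sup_le hHU ((Submodule.span_singleton_le_iff_mem _ _).mpr huU))
    rw [PlusGeom.finrank_sup_span H u huH, hU.1, hH]
  have hc : polar Q u w ≠ 0 := by
    intro hc
    have hUw : ∀ u' ∈ U, polar Q u' w = 0 := by
      intro u' hu'
      rw [← hHu] at hu'
      obtain ⟨h, hh, z, hz, rfl⟩ := Submodule.mem_sup.mp hu'
      obtain ⟨a, rfl⟩ := Submodule.mem_span_singleton.mp hz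
      rw [polar_add_left, polar_smul_left, hc,
        PlusGeom.polar_eq_zero_of_ts Q W hW.2 (hHW hh) hwW]
      simp
    have hts := PlusGeom.ts_sup_span Q U hU.2 w (hW.2 w hwW) hUw
    have h1 := finrank_le_of_ts Q hQ m hV _ hts
    rw [PlusGeom.finrank_sup_span U w hwU, hU.1] at h1
    omega
  set c := polar Q u w with hcdef
  have hp' : Q (c⁻¹ • w) = 0 := by rw [QuadraticMap.map_smul, hW.2 w hwW, smul_zero]
  have hpp' : polar Q u (c⁻¹ • w) = 1 := by
    rw [polar_smul_right, ← hcdef, smul_eq_mul, inv_mul_cancel₀ hc]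
  have hdim : finrank F V = 2 * (finrank F H + 1) := by rw [hV, hH]
  obtain ⟨hset, -⟩ := PlusGeom.two_extensions' Q hQ H hHts hdim u (c⁻¹ • w) (hU.2 u huU) hp' hpp'
    (fun h hh => PlusGeom.polar_eq_zero_of_ts Q U hU.2 (hHU hh) huU)
    (fun h hh => by
      rw [polar_smul_right, PlusGeom.polar_eq_zero_of_ts Q W hW.2 (hHW hh) hwW, smul_zero])
  have hXmem : X ∈ {W : Submodule F V | finrank F W = finrank F H + 1 ∧ (∀ w ∈ W, Q w = 0) ∧
      H ≤ W} := ⟨by rw [hX.1, hH], hX.2, hHX⟩
  rw [hset] at hXmem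
  rcases hXmem with h | h
  · left
    rw [h, hHu]
  · right
    rw [Set.mem_singleton_iff] at h
    apply eq_of_le Q m X W hX hW
    rw [h]
    exact sup_le hHW ((Submodule.span_singleton_le_iff_mem _ _).mpr (W.smul_mem _ hwW))

include hQ hV in
theorem local_aux (U W X : Submodule F V) (hU : IsMaxTS Q m U) (hW : IsMaxTS Q m W)
    (hX' : (X ⊓ orth Q (U ⊓ W)) ⊔ (U ⊓ W) = U)
    (h1 : finrank F ↥(X ⊓ orth Q (U ⊓ W)) = finrank F ↥(X ⊓ (U ⊓ W)) + 1) :
    finrank F ↥(U ⊓ X) = finrank F ↥(W ⊓ X) + 1 := by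
  have hUo : U ≤ orth Q (U ⊓ W) := by
    have := orth_anti Q (inf_le_left : U ⊓ W ≤ U)
    rwa [orth_eq_of_max Q hQ m hV U hU] at this
  have hWo : W ≤ orth Q (U ⊓ W) := by
    have := orth_anti Q (inf_le_right : U ⊓ W ≤ W)
    rwa [orth_eq_of_max Q hQ m hV W hW] at this
  have hXU : X ⊓ orth Q (U ⊓ W) ≤ U :=
    le_of_le_of_eq (le_sup_left : X ⊓ orth Q (U ⊓ W) ≤ (X ⊓ orth Q (U ⊓ W)) ⊔ (U ⊓ W)) hX'
  have e1 : U ⊓ X = X ⊓ orth Q (U ⊓ W) := by
    apply le_antisymm
    · exact le_inf inf_le_right ((inf_le_left : U ⊓ X ≤ U).trans hUo)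
    · exact le_inf hXU inf_le_left
  have e2 : W ⊓ X = X ⊓ (U ⊓ W) := by
    apply le_antisymm
    · refine le_inf inf_le_right (le_inf ?_ inf_le_left)
      exact (le_inf inf_le_right ((inf_le_left : W ⊓ X ≤ W).trans hWo)).trans hXU
    · exact le_inf (inf_le_right.trans inf_le_right) inf_le_left
  rw [e1, e2, h1]

include hQ hV in
/-- passing to an adjacent maximal totally singular subspace changes the dimension of the
intersection with any third one by exactly one -/
theorem local_parity (U W X : Submodule F V) (hU : IsMaxTS Q m U) (hW : IsMaxTS Q m W)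
    (hX : IsMaxTS Q m X) (hadj : finrank F ↥(U ⊓ W) + 1 = m) :
    finrank F ↥(U ⊓ X) = finrank F ↥(W ⊓ X) + 1 ∨
      finrank F ↥(W ⊓ X) = finrank F ↥(U ⊓ X) + 1 := by
  have hne : U ≠ W := by
    rintro rfl
    rw [inf_idem, hU.1] at hadj
    omega
  set H := U ⊓ W with hHdef
  have hHts : ∀ h ∈ H, Q h = 0 := fun h hh => hU.2 h hh.1
  -- step 1
  have h1 : finrank F ↥(X ⊓ orth Q H) = finrank F ↥(X ⊓ H) + 1 := by
    have e1 : orth Q (X ⊔ H) = X ⊓ orth Q H := by
      rw [orth_sup, orth_eq_of_max Q hQ m hV X hX]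
    have h2 := finrank_orth Q hQ (X ⊔ H)
    have h3 := Submodule.finrank_sup_add_finrank_inf_eq X H
    have h4 : finrank F ↥(X ⊔ H) ≤ finrank F V := Submodule.finrank_le _
    rw [e1] at h2
    rw [hX.1] at h3
    omega
  -- step 2
  set X' := (X ⊓ orth Q H) ⊔ H with hX'def
  have hX'ts : ∀ z ∈ X', Q z = 0 := by
    intro z hz
    obtain ⟨x, hx, h, hh, rfl⟩ := Submodule.mem_sup.mp hz
    have hxo : x ∈ orth Q H := hx.2
    rw [mem_orth] at hxo
    have : Q (x + h) = Q x + Q h + polar Q h x := by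
      simp only [polar]
      rw [add_comm h x]
      ring
    rw [this, hX.2 x hx.1, hHts h hh, hxo h hh]
    simp
  have hX'not : ¬ X' ≤ H := by
    intro hle
    have h5 : X ⊓ orth Q H ≤ X ⊓ H := le_inf inf_le_left (le_sup_left.trans hle)
    have := Submodule.finrank_mono h5
    omega
  have hX'max : IsMaxTS Q m X' := by
    refine ⟨?_, hX'ts⟩
    have hlt : H < X' := lt_of_le_not_ge le_sup_right hX'not
    have h6 := Submodule.finrank_lt_finrank_of_lt hlt
    have h7 := finrank_le_of_ts Q hQ m hV X' hX'ts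
    omega
  -- step 3
  rcases adjacent_extensions Q hQ m hV U W hU hW hne H inf_le_left inf_le_right hadj X' hX'max
    le_sup_right with h | h
  · left
    exact local_aux Q hQ m hV U W X hU hW h h1
  · right
    have hc : W ⊓ U = U ⊓ W := inf_comm W U
    apply local_aux Q hQ m hV W U X hW hU
    · rw [hc]; exact h
    · rw [hc]; exact h1

include hQ hV in
/-- a step along a geodesic in the dual polar graph -/
theorem exists_adjacent (U W : Submodule F V) (hU : IsMaxTS Q m U) (hW : IsMaxTS Q m W)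
    (hne : U ≠ W) : ∃ U', IsMaxTS Q m U' ∧ finrank F ↥(U ⊓ U') + 1 = m ∧
      finrank F ↥(U' ⊓ W) = finrank F ↥(U ⊓ W) + 1 := by
  have hWU : ¬ W ≤ U := fun h => hne (eq_of_le Q m W U hW hU h).symm
  obtain ⟨w, hwW, hwU⟩ := Set.not_subset.mp hWU
  set H := U ⊓ orth Q (Submodule.span F {w}) with hHdef
  have hHe : H = orth Q (U ⊔ Submodule.span F {w}) := by
    rw [orth_sup, orth_eq_of_max Q hQ m hV U hU]
  have hUw := PlusGeom.finrank_sup_span U w hwU
  have hHfin : finrank F H + 1 = m := by
    have h2 := finrank_orth Q hQ (U ⊔ Submodule.span F {w})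
    have h4 : finrank F ↥(U ⊔ Submodule.span F {w}) ≤ finrank F V := Submodule.finrank_le _
    rw [← hHe] at h2
    rw [hU.1] at hUw
    omega
  have hHts : ∀ h ∈ H, Q h = 0 := fun h hh => hU.2 h hh.1
  have hHw : ∀ h ∈ H, polar Q h w = 0 := by
    intro h hh
    have := hh.2
    rw [SetLike.mem_coe, mem_orth_span_singleton] at this
    rw [polar_comm]; exact this
  have hwH : w ∉ H := fun h => hwU h.1
  set U' := H ⊔ Submodule.span F {w} with hU'def
  have hU'max : IsMaxTS Q m U' := by
    refine ⟨?_, PlusGeom.ts_sup_span Q H hHts w (hW.2 w hwW) hHw⟩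
    rw [PlusGeom.finrank_sup_span H w hwH, hHfin]
  have hwU' : w ∈ U' := Submodule.mem_sup_right (Submodule.mem_span_singleton_self w)
  have hadj : finrank F ↥(U ⊓ U') + 1 = m := by
    have h1 : H ≤ U ⊓ U' := le_inf inf_le_left le_sup_left
    have h2 := Submodule.finrank_mono h1
    have h3 := Submodule.finrank_sup_add_finrank_inf_eq U U'
    have h4 : U ⊔ Submodule.span F {w} ≤ U ⊔ U' := sup_le_sup_left le_sup_right U
    have h5 := Submodule.finrank_mono h4
    rw [hU.1, hU'max.1] at h3
    rw [hU.1] at hUw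
    omega
  refine ⟨U', hU'max, hadj, ?_⟩
  have hge : finrank F ↥(U ⊓ W) + 1 ≤ finrank F ↥(U' ⊓ W) := by
    have hwUW : w ∉ U ⊓ W := fun h => hwU h.1
    rw [← PlusGeom.finrank_sup_span (U ⊓ W) w hwUW]
    apply Submodule.finrank_mono
    refine sup_le (le_inf ?_ inf_le_right) ?_
    · refine le_trans ?_ (le_sup_left : H ≤ U')
      refine le_inf inf_le_left ?_
      intro v hv
      rw [mem_orth_span_singleton]
      exact PlusGeom.polar_eq_zero_of_ts Q W hW.2 hwW hv.2
    · rw [Submodule.span_singleton_le_iff_mem]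
      exact ⟨hwU', hwW⟩
  rcases local_parity Q hQ m hV U U' W hU hU'max hW hadj with h | h
  · omega
  · exact h

include hQ hV in
theorem even_sum_aux : ∀ (d : ℕ) (U W X : Submodule F V), IsMaxTS Q m U → IsMaxTS Q m W →
    IsMaxTS Q m X → m - finrank F ↥(U ⊓ W) = d →
    Even ((m - finrank F ↥(U ⊓ W)) + (m - finrank F ↥(W ⊓ X)) + (m - finrank F ↥(U ⊓ X))) := by
  intro d
  induction d with
  | zero =>
    intro U W X hU hW hX hd
    have h1 : finrank F ↥(U ⊓ W) ≤ m := by
      have := Submodule.finrank_mono (inf_le_left : U ⊓ W ≤ U)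
      rwa [hU.1] at this
    have h2 : U ⊓ W = U :=
      Submodule.eq_of_le_of_finrank_eq inf_le_left (by rw [hU.1]; omega)
    have h3 : U = W := eq_of_le Q m U W hU hW (inf_eq_left.mp h2)
    subst h3
    rw [Nat.even_iff]
    omega
  | succ d ih =>
    intro U W X hU hW hX hd
    have hne : U ≠ W := by
      rintro rfl
      rw [inf_idem, hU.1] at hd
      omega
    obtain ⟨U', hU', hadj, hstep⟩ := exists_adjacent Q hQ m hV U W hU hW hne
    have hb : ∀ A B : Submodule F V, IsMaxTS Q m A → finrank F ↥(A ⊓ B) ≤ m := by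
      intro A B hA
      have := Submodule.finrank_mono (inf_le_left : A ⊓ B ≤ A)
      rwa [hA.1] at this
    have b1 := hb U W hU
    have b2 := hb U' W hU'
    have b3 := hb W X hW
    have b4 := hb U X hU
    have b5 := hb U' X hU'
    have hIH := ih U' W X hU' hW hX (by omega)
    have hloc := local_parity Q hQ m hV U U' X hU hU' hX hadj
    rw [Nat.even_iff] at hIH ⊢
    omega

include hQ hV in
/-- the parity relation on maximal totally singular subspaces -/
theorem even_sum (U W X : Submodule F V) (hU : IsMaxTS Q m U) (hW : IsMaxTS Q m W)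
    (hX : IsMaxTS Q m X) :
    Even ((m - finrank F ↥(U ⊓ W)) + (m - finrank F ↥(W ⊓ X)) + (m - finrank F ↥(U ⊓ X))) :=
  even_sum_aux Q hQ m hV _ U W X hU hW hX rfl

end

section concrete
variable {F : Type*} [Field F] (m : ℕ)

/-- the standard maximal totally singular subspace `⟨e_i⟩` -/
def stdL : Submodule F (Fin m ⊕ Fin m → F) :=
  Submodule.span F (Set.range fun i : Fin m => (Pi.single (Sum.inl i) 1 : Fin m ⊕ Fin m → F))

/-- the standard maximal totally singular subspace `⟨f_i⟩` -/
def stdR : Submodule F (Fin m ⊕ Fin m → F) :=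
  Submodule.span F (Set.range fun i : Fin m => (Pi.single (Sum.inr i) 1 : Fin m ⊕ Fin m → F))

theorem stdL_inr (v : Fin m ⊕ Fin m → F) (hv : v ∈ stdL m) (i : Fin m) : v (Sum.inr i) = 0 := by
  unfold stdL at hv
  induction hv using Submodule.span_induction with
  | mem u hu =>
    obtain ⟨j, rfl⟩ := hu
    simp
  | zero => simp
  | add u v _ _ hu hv => rw [Pi.add_apply, hu, hv, add_zero]
  | smul a u _ hu => rw [Pi.smul_apply, hu, smul_zero]

theorem stdR_inl (v : Fin m ⊕ Fin m → F) (hv : v ∈ stdR m) (i : Fin m) : v (Sum.inl i) = 0 := by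
  unfold stdR at hv
  induction hv using Submodule.span_induction with
  | mem u hu =>
    obtain ⟨j, rfl⟩ := hu
    simp
  | zero => simp
  | add u v _ _ hu hv => rw [Pi.add_apply, hu, hv, add_zero]
  | smul a u _ hu => rw [Pi.smul_apply, hu, smul_zero]

theorem stdL_max : IsMaxTS (plusForm m F) m (stdL m) := by
  classical
  constructor
  · have h1 := (Pi.basisFun F (Fin m ⊕ Fin m)).linearIndependent
    have h2 := h1.comp (fun i : Fin m => (Sum.inl i : Fin m ⊕ Fin m)) Sum.inl_injective
    have h3 : LinearIndependent F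
        (fun i : Fin m => (Pi.single (Sum.inl i) 1 : Fin m ⊕ Fin m → F)) := by
      convert h2 using 1
      ext i j
      simp [Pi.basisFun_apply]
    unfold stdL
    rw [finrank_span_eq_card h3]
    simp
  · intro v hv
    rw [plusForm_apply, Cfsg.quadFormPlus]
    apply Finset.sum_eq_zero
    intro i _
    rw [stdL_inr m v hv i, mul_zero]

theorem stdR_max : IsMaxTS (plusForm m F) m (stdR m) := by
  classical
  constructor
  · have h1 := (Pi.basisFun F (Fin m ⊕ Fin m)).linearIndependent
    have h2 := h1.comp (fun i : Fin m => (Sum.inr i : Fin m ⊕ Fin m)) Sum.inr_injective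
    have h3 : LinearIndependent F
        (fun i : Fin m => (Pi.single (Sum.inr i) 1 : Fin m ⊕ Fin m → F)) := by
      convert h2 using 1
      ext i j
      simp [Pi.basisFun_apply]
    unfold stdR
    rw [finrank_span_eq_card h3]
    simp
  · intro v hv
    rw [plusForm_apply, Cfsg.quadFormPlus]
    apply Finset.sum_eq_zero
    intro i _
    rw [stdR_inl m v hv i, zero_mul]

theorem stdL_ne_stdR (hm : 1 ≤ m) : (stdL m : Submodule F (Fin m ⊕ Fin m → F)) ≠ stdR m := by
  classical
  intro h
  have h1 : (Pi.single (Sum.inl ⟨0, hm⟩) 1 : Fin m ⊕ Fin m → F) ∈ stdL m :=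
    Submodule.subset_span ⟨⟨0, hm⟩, rfl⟩
  rw [h] at h1
  have := stdR_inl m _ h1 ⟨0, hm⟩
  simp at this

theorem finrank_plus : finrank F (Fin m ⊕ Fin m → F) = 2 * m := by
  rw [Module.finrank_fintype_fun_eq_card]
  simp
  ring

end concrete

end Cfsg.Agent.Lib.Helper5.MaxTS
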