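import Mathlib
import Cfsg.Prelude.Def_GeometricClasses
import Cfsg.Agent.Lib.Helper5.SympBridge

set_option autoImplicit false

/-! Centres of symplectic transvections contained in a subgroup of the symplectic group. -/

namespace Cfsg.Agent.Lib.Helper5.SpCentres

open Matrix Cfsg Cfsg.Agent.Lib.Helper5.SympTv Cfsg.Agent.Lib.Helper5.SympGen
  Cfsg.Agent.Lib.Helper5.SympBridge

variable {F : Type*} [Field F] (m : ℕ)

theorem mem_spGL_iff (g : Matrix.GeneralLinearGroup (Fin m ⊕ Fin m) F) :
    g ∈ spGL m F ↔ ∀ u v, sympForm m F ((g : Matrix (Fin m ⊕ Fin m) (Fin m ⊕ Fin m) F) *ᵥ u)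
      ((g : Matrix (Fin m ⊕ Fin m) (Fin m ⊕ Fin m) F) *ᵥ v) = sympForm m F u v := Iff.rfl

theorem sympTransvection_zero (v : Fin m ⊕ Fin m → F) : sympTransvection m v (0 : F) = 1 := by
  unfold sympTransvection
  rw [zero_smul, add_zero]

/-- a symplectic transvection as an element of the general linear group -/
noncomputable def tvGL (v : Fin m ⊕ Fin m → F) (c : F) :
    Matrix.GeneralLinearGroup (Fin m ⊕ Fin m) F :=
  ⟨sympTransvection m v c, sympTransvection m v (-c),
    by rw [sympTransvection_mul, add_neg_cancel, sympTransvection_zero],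
    by rw [sympTransvection_mul, neg_add_cancel, sympTransvection_zero]⟩

theorem tvGL_mulVec (v : Fin m ⊕ Fin m → F) (c : F) (x : Fin m ⊕ Fin m → F) :
    (tvGL m v c : Matrix (Fin m ⊕ Fin m) (Fin m ⊕ Fin m) F) *ᵥ x =
      x + (c * sympForm m F x v) • v := sympTransvection_mulVec m v c x

theorem tvGL_mem (v : Fin m ⊕ Fin m → F) (c : F) : tvGL m v c ∈ spGL m F := by
  rw [mem_spGL_iff]
  intro u w
  exact sympForm_mulVec m (sympTransvection_mem m v c) u w

theorem conj_tvGL (g : Matrix.GeneralLinearGroup (Fin m ⊕ Fin m) F) (hg : g ∈ spGL m F)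
    (v : Fin m ⊕ Fin m → F) (c : F) :
    g * tvGL m v c * g⁻¹ =
      tvGL m ((g : Matrix (Fin m ⊕ Fin m) (Fin m ⊕ Fin m) F) *ᵥ v) c := by
  rw [mul_inv_eq_iff_eq_mul]
  apply Units.ext
  rw [Units.val_mul, Units.val_mul]
  rw [ext_iff_mulVec]
  intro x
  rw [← mulVec_mulVec, ← mulVec_mulVec, tvGL_mulVec, tvGL_mulVec, mulVec_add, mulVec_smul,
    (mem_spGL_iff m g).mp hg]

/-- `M` contains all transvections with centre `v` -/
def IsCentre (M : Subgroup (Matrix.GeneralLinearGroup (Fin m ⊕ Fin m) F))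
    (v : Fin m ⊕ Fin m → F) : Prop := ∀ c : F, tvGL m v c ∈ M

variable {m}

theorem isCentre_smul {M : Subgroup (Matrix.GeneralLinearGroup (Fin m ⊕ Fin m) F)}
    {v : Fin m ⊕ Fin m → F} (a : F) (hv : IsCentre m M v) : IsCentre m M (a • v) := by
  intro c
  have : tvGL m (a • v) c = tvGL m v (a * a * c) := by
    apply Units.ext
    show sympTransvection m (a • v) c = sympTransvection m v (a * a * c)
    rw [ext_iff_mulVec]
    intro x
    rw [sympTransvection_mulVec, sympTransvection_mulVec, sympForm_smul_right, smul_smul]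
    congr 2
    ring
  rw [this]
  exact hv _

theorem isCentre_zero (M : Subgroup (Matrix.GeneralLinearGroup (Fin m ⊕ Fin m) F)) :
    IsCentre m M 0 := by
  intro c
  have : tvGL m (0 : Fin m ⊕ Fin m → F) c = 1 := by
    apply Units.ext
    show sympTransvection m (0 : Fin m ⊕ Fin m → F) c = 1
    rw [ext_iff_mulVec]
    intro x
    rw [sympTransvection_mulVec, smul_zero, add_zero, one_mulVec]
  rw [this]
  exact one_mem M

theorem isCentre_mulVec {M : Subgroup (Matrix.GeneralLinearGroup (Fin m ⊕ Fin m) F)}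
    (hM : M ≤ spGL m F) {v : Fin m ⊕ Fin m → F}
    (g : Matrix.GeneralLinearGroup (Fin m ⊕ Fin m) F) (hg : g ∈ M) (hv : IsCentre m M v) :
    IsCentre m M ((g : Matrix (Fin m ⊕ Fin m) (Fin m ⊕ Fin m) F) *ᵥ v) := by
  intro c
  rw [← conj_tvGL m g (hM hg)]
  exact M.mul_mem (M.mul_mem hg (hv c)) (M.inv_mem hg)

theorem isCentre_add_smul {M : Subgroup (Matrix.GeneralLinearGroup (Fin m ⊕ Fin m) F)}
    (hM : M ≤ spGL m F) {u v : Fin m ⊕ Fin m → F} (hu : IsCentre m M u) (hv : IsCentre m M v)
    (huv : sympForm m F v u ≠ 0) (a : F) : IsCentre m M (v + a • u) := by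
  have h := isCentre_mulVec hM (tvGL m u (a / sympForm m F v u)) (hu _) hv
  rw [tvGL_mulVec, div_mul_cancel₀ _ huv] at h
  exact h

/-- the symplectic group of Mathlib inside the general linear group -/
noncomputable def toGL : symplecticGroup (Fin m) F →*
    Matrix.GeneralLinearGroup (Fin m ⊕ Fin m) F where
  toFun A := ⟨A.1, (A⁻¹).1, by
      have : (A * A⁻¹).1 = 1 := by rw [mul_inv_cancel]; rfl
      exact this, by
      have : (A⁻¹ * A).1 = 1 := by rw [inv_mul_cancel]; rfl
      exact this⟩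
  map_one' := Units.ext rfl
  map_mul' A B := Units.ext rfl

theorem spGL_le {M : Subgroup (Matrix.GeneralLinearGroup (Fin m ⊕ Fin m) F)}
    (h : ∀ v, IsCentre m M v) : spGL m F ≤ M := by
  intro g hg
  have hA : (g : Matrix (Fin m ⊕ Fin m) (Fin m ⊕ Fin m) F) ∈ symplecticGroup (Fin m) F :=
    (mem_symplectic_iff m _).mpr ((mem_spGL_iff m g).mp hg)
  have e : g = toGL ⟨g.1, hA⟩ := Units.ext rfl
  rw [e]
  have key : ∀ A : symplecticGroup (Fin m) F, A ∈ Subgroup.closure (tvSet F m) →
      toGL A ∈ M := by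
    intro A hmem
    induction hmem using Subgroup.closure_induction with
    | mem A hA' =>
      obtain ⟨w, c, hwc⟩ := hA'
      have : toGL A = tvGL m w c := Units.ext hwc
      rw [this]
      exact h w c
    | one => rw [map_one]; exact one_mem M
    | mul A B _ _ hA' hB' => rw [map_mul]; exact M.mul_mem hA' hB'
    | inv A _ hA' => rw [map_inv]; exact M.inv_mem hA'
  apply key
  rw [closure_tvSet_eq_top]
  exact Subgroup.mem_top _

end Cfsg.Agent.Lib.Helper5.SpCentres
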