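import Mathlib
import Cfsg.Prelude.Def_GeometricClasses
import Cfsg.Agent.Lib.Helper5.SpCentres
import Cfsg.Agent.Lib.Helper5.SympPerfect

set_option autoImplicit false

/-! The stabiliser of a totally singular subspace is maximal in the symplectic group. -/

namespace Cfsg.Agent.Lib.Helper5.SpSingularMax

open Matrix Cfsg Cfsg.Agent.Lib.Helper5.SympTv Cfsg.Agent.Lib.Helper5.SympGen
  Cfsg.Agent.Lib.Helper5.SympBridge Cfsg.Agent.Lib.Helper5.SpCentres

section general
variable {ι : Type} [Fintype ι] [DecidableEq ι] {F : Type*} [Field F]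

theorem mem_stab_iff (W : Submodule F (ι → F)) (g : Matrix.GeneralLinearGroup ι F) :
    g ∈ Cfsg.Geo.subspaceStabilizer W ↔
      ∀ x, x ∈ W ↔ (g : Matrix ι ι F) *ᵥ x ∈ W := Iff.rfl

/-- an invertible matrix mapping `W` into `W` stabilises `W` -/
theorem mem_stab_of_map_le (W : Submodule F (ι → F)) (g : Matrix.GeneralLinearGroup ι F)
    (h : ∀ x ∈ W, (g : Matrix ι ι F) *ᵥ x ∈ W) : g ∈ Cfsg.Geo.subspaceStabilizer W := by
  rw [mem_stab_iff]
  intro x
  refine ⟨h x, fun hx => ?_⟩
  have hinj : ∀ a b : ι → F, (g : Matrix ι ι F) *ᵥ a = (g : Matrix ι ι F) *ᵥ b → a = b := by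
    intro a b hab
    have := congrArg (fun y => ((g⁻¹ : Matrix.GeneralLinearGroup ι F) : Matrix ι ι F) *ᵥ y) hab
    simp only [mulVec_mulVec] at this
    rw [← Units.val_mul, inv_mul_cancel, Units.val_one, one_mulVec, one_mulVec] at this
    exact this
  let f : W →ₗ[F] W := (Matrix.toLin' (g : Matrix ι ι F)).restrict (by
    intro y hy
    rw [Matrix.toLin'_apply]
    exact h y hy)
  have hf : Function.Injective f := by
    intro a b hab
    have h1 : (g : Matrix ι ι F) *ᵥ a.1 = (g : Matrix ι ι F) *ᵥ b.1 := by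
      have := congrArg Subtype.val hab
      simpa [f, LinearMap.restrict_apply, Matrix.toLin'_apply] using this
    exact Subtype.ext (hinj _ _ h1)
  have hs : Function.Surjective f := LinearMap.injective_iff_surjective.mp hf
  obtain ⟨w, hw⟩ := hs ⟨_, hx⟩
  have h2 : (g : Matrix ι ι F) *ᵥ w.1 = (g : Matrix ι ι F) *ᵥ x := by
    have := congrArg Subtype.val hw
    simpa [f, LinearMap.restrict_apply, Matrix.toLin'_apply] using this
  rw [← hinj _ _ h2]
  exact w.2

end general

variable {F : Type*} [Field F] {m : ℕ}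

/-- the long root element `z ↦ z + f(z, v) u + f(z, u) v` -/
noncomputable def EE (u v : Fin m ⊕ Fin m → F) : Matrix.GeneralLinearGroup (Fin m ⊕ Fin m) F :=
  tvGL m (u + v) 1 * tvGL m u (-1) * tvGL m v (-1)

theorem EE_mem (u v : Fin m ⊕ Fin m → F) : EE u v ∈ spGL m F :=
  (spGL m F).mul_mem ((spGL m F).mul_mem (tvGL_mem m _ _) (tvGL_mem m _ _)) (tvGL_mem m _ _)

theorem EE_mulVec (u v : Fin m ⊕ Fin m → F) (huv : sympForm m F u v = 0)
    (z : Fin m ⊕ Fin m → F) :
    (EE u v : Matrix (Fin m ⊕ Fin m) (Fin m ⊕ Fin m) F) *ᵥ z =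
      z + sympForm m F z v • u + sympForm m F z u • v := by
  have hvu : sympForm m F v u = 0 := by rw [sympForm_swap, huv, neg_zero]
  unfold EE
  rw [Units.val_mul, Units.val_mul, ← mulVec_mulVec, ← mulVec_mulVec, tvGL_mulVec, tvGL_mulVec,
    tvGL_mulVec]
  simp only [sympForm_add_left, sympForm_add_right, sympForm_smul_left, sympForm_self, huv, hvu,
    mul_zero, add_zero, neg_mul, one_mul]
  ext i
  simp only [Pi.add_apply, Pi.smul_apply, smul_eq_mul]
  ring

/-- the orthogonal complement -/
noncomputable def perp (m : ℕ) (W : Submodule F (Fin m ⊕ Fin m → F)) :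
    Submodule F (Fin m ⊕ Fin m → F) := (sympBilin F m).orthogonal W

theorem mem_perp (W : Submodule F (Fin m ⊕ Fin m → F)) (v : Fin m ⊕ Fin m → F) :
    v ∈ perp m W ↔ ∀ w ∈ W, sympForm m F w v = 0 := by
  unfold perp
  rw [LinearMap.BilinForm.mem_orthogonal_iff]
  rfl

theorem perp_perp (W : Submodule F (Fin m ⊕ Fin m → F)) : perp m (perp m W) = W :=
  LinearMap.BilinForm.orthogonal_orthogonal (sympBilin_nondegenerate m)
    (sympBilin_isAlt m).isRefl W

/-- vectors of the perp are centres -/
theorem isCentre_of_mem_perp (W : Submodule F (Fin m ⊕ Fin m → F))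
    (M : Subgroup (Matrix.GeneralLinearGroup (Fin m ⊕ Fin m) F))
    (hPM : Cfsg.Geo.subspaceStabilizer W ⊓ spGL m F ≤ M) (v : Fin m ⊕ Fin m → F)
    (hv : v ∈ perp m W) : IsCentre m M v := by
  intro c
  apply hPM
  rw [Subgroup.mem_inf]
  refine ⟨mem_stab_of_map_le W _ ?_, tvGL_mem m v c⟩
  intro x hx
  rw [tvGL_mulVec, (mem_perp W v).mp hv x hx, mul_zero, zero_smul, add_zero]
  exact hx

theorem isMaximalIn (W : Submodule F (Fin m ⊕ Fin m → F)) (hW0 : W ≠ ⊥)
    (hW : Cfsg.Geo.IsTotallySingularFor (sympForm m F) W) :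
    Cfsg.Geo.IsMaximalIn (spGL m F) (Cfsg.Geo.subspaceStabilizer W ⊓ spGL m F) := by
  have hWp : W ≤ perp m W := by
    intro w hw
    rw [mem_perp]
    intro w' hw'
    exact hW w' hw' w hw
  obtain ⟨w₀, hw₀, hw₀0⟩ := (Submodule.ne_bot_iff W).1 hW0
  refine ⟨lt_of_le_of_ne inf_le_right ?_, ?_⟩
  · -- a transvection moving `W`
    intro h
    obtain ⟨y, hy⟩ := Cfsg.Agent.Lib.Helper5.SympPerfect.exists_partner m w₀ hw₀0
    have hmem : tvGL m y 1 ∈ Cfsg.Geo.subspaceStabilizer W ⊓ spGL m F := by
      rw [h]; exact tvGL_mem m y 1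
    have h1 := ((mem_stab_iff W _).mp hmem.1 w₀).mp hw₀
    rw [tvGL_mulVec, hy, mul_one, one_smul] at h1
    have hyW : y ∈ W := (Submodule.add_mem_iff_right W hw₀).mp h1
    have := hW w₀ hw₀ y hyW
    rw [hy] at this
    exact one_ne_zero this
  · intro M hPM hMS
    by_cases hMP : M ≤ Cfsg.Geo.subspaceStabilizer W ⊓ spGL m F
    · left
      exact le_antisymm hMP hPM
    right
    apply le_antisymm hMS
    apply spGL_le
    -- claim 1
    have claim1 : ∀ s y, IsCentre m M s → y ∈ perp m W → IsCentre m M (s + y) := by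
      intro s y hs hy
      have hyC := isCentre_of_mem_perp W M hPM y hy
      by_cases hsy : sympForm m F s y = 0
      · by_cases hsP : s ∈ perp m W
        · exact isCentre_of_mem_perp W M hPM _ ((perp m W).add_mem hsP hy)
        · rw [mem_perp] at hsP
          push Not at hsP
          obtain ⟨w, hw, hws⟩ := hsP
          have hsw : sympForm m F s w ≠ 0 := by
            rw [sympForm_swap]; exact neg_ne_zero.mpr hws
          have hy' : y + w ∈ perp m W := (perp m W).add_mem hy (hWp hw)
          have h1 : IsCentre m M (s + (1 : F) • (y + w)) := by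
            apply isCentre_add_smul hMS (isCentre_of_mem_perp W M hPM _ hy') hs
            rw [sympForm_add_right, hsy, zero_add]
            exact hsw
          have hyw : sympForm m F y w = 0 := by
            rw [sympForm_swap, (mem_perp W y).mp hy w hw, neg_zero]
          have h2 : IsCentre m M ((s + (1 : F) • (y + w)) + (-1 : F) • w) := by
            apply isCentre_add_smul hMS (isCentre_of_mem_perp W M hPM _ (hWp hw)) h1
            rw [one_smul, sympForm_add_left, sympForm_add_left, hyw, sympForm_self, add_zero,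
              add_zero]
            exact hsw
          have e : (s + (1 : F) • (y + w)) + (-1 : F) • w = s + y := by
            rw [one_smul, neg_smul, one_smul]; abel
          rw [e] at h2
          exact h2
      · have h1 := isCentre_add_smul hMS hyC hs hsy 1
        rw [one_smul] at h1
        exact h1
    -- an element of `M` moving `W`
    obtain ⟨g₀, hg₀M, hg₀P⟩ := SetLike.not_le_iff_exists.mp hMP
    have hg₀S : g₀ ∉ Cfsg.Geo.subspaceStabilizer W := fun h => hg₀P ⟨h, hMS hg₀M⟩
    obtain ⟨g, hgM, w, hw, hgw⟩ : ∃ g ∈ M, ∃ w ∈ W,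
        (g : Matrix (Fin m ⊕ Fin m) (Fin m ⊕ Fin m) F) *ᵥ w ∉ W := by
      by_contra hcon
      push Not at hcon
      exact hg₀S (mem_stab_of_map_le W g₀ (hcon g₀ hg₀M))
    -- a centre outside the perp
    obtain ⟨s₀, hs₀C, hs₀P⟩ : ∃ s₀, IsCentre m M s₀ ∧ s₀ ∉ perp m W := by
      have h1 : (g : Matrix (Fin m ⊕ Fin m) (Fin m ⊕ Fin m) F) *ᵥ w ∉ perp m (perp m W) := by
        rw [perp_perp]; exact hgw
      rw [mem_perp] at h1
      push Not at h1
      obtain ⟨y, hy, hyw⟩ := h1
      refine ⟨((g⁻¹ : Matrix.GeneralLinearGroup (Fin m ⊕ Fin m) F) :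
        Matrix (Fin m ⊕ Fin m) (Fin m ⊕ Fin m) F) *ᵥ y,
        isCentre_mulVec hMS _ (M.inv_mem hgM) (isCentre_of_mem_perp W M hPM y hy), ?_⟩
      rw [mem_perp]
      push Not
      refine ⟨w, hw, ?_⟩
      have h2 := (mem_spGL_iff m g).mp (hMS hgM) w
        (((g⁻¹ : Matrix.GeneralLinearGroup (Fin m ⊕ Fin m) F) :
        Matrix (Fin m ⊕ Fin m) (Fin m ⊕ Fin m) F) *ᵥ y)
      rw [mulVec_mulVec, ← Units.val_mul, mul_inv_cancel, Units.val_one, one_mulVec] at h2
      rw [← h2, sympForm_swap]
      exact neg_ne_zero.mpr hyw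
    -- a vector of `W` pairing to one with `s₀`
    obtain ⟨u₁, hu₁, hfu₁⟩ : ∃ u₁ ∈ W, sympForm m F s₀ u₁ = 1 := by
      rw [mem_perp] at hs₀P
      push Not at hs₀P
      obtain ⟨w', hw', hw's⟩ := hs₀P
      have h1 : sympForm m F s₀ w' ≠ 0 := by
        rw [sympForm_swap]; exact neg_ne_zero.mpr hw's
      refine ⟨(sympForm m F s₀ w')⁻¹ • w', W.smul_mem _ hw', ?_⟩
      rw [sympForm_smul_right, inv_mul_cancel₀ h1]
    intro x
    by_cases hcase : ∀ z ∈ W, sympForm m F s₀ z = 0 → sympForm m F x z = 0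
    · -- `x` is a multiple of `s₀` modulo the perp
      have hxp : x - sympForm m F x u₁ • s₀ ∈ perp m W := by
        rw [mem_perp]
        intro w' hw'
        have hz : w' - sympForm m F s₀ w' • u₁ ∈ W := W.sub_mem hw' (W.smul_mem _ hu₁)
        have h1 := hcase _ hz (by
          rw [sympForm_sub_right, sympForm_smul_right, hfu₁, mul_one, sub_self])
        rw [sympForm_sub_right, sympForm_smul_right, sub_eq_zero] at h1
        rw [sympForm_sub_right, sympForm_smul_right, sympForm_swap m w' x, sympForm_swap m w' s₀, h1]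
        ring
      have h2 := claim1 _ _ (isCentre_smul (sympForm m F x u₁) hs₀C) hxp
      have e : sympForm m F x u₁ • s₀ + (x - sympForm m F x u₁ • s₀) = x := by abel
      rw [e] at h2
      exact h2
    · push Not at hcase
      obtain ⟨z, hz, hfz, hgz⟩ := hcase
      set u := u₁ + ((1 - sympForm m F x u₁) / sympForm m F x z) • z with hu
      have huW : u ∈ W := W.add_mem hu₁ (W.smul_mem _ hz)
      have hfu : sympForm m F s₀ u = 1 := by
        rw [hu, sympForm_add_right, sympForm_smul_right, hfz, mul_zero, add_zero, hfu₁]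
      have hgu : sympForm m F x u = 1 := by
        rw [hu, sympForm_add_right, sympForm_smul_right, div_mul_cancel₀ _ hgz]
        ring
      set v := x - s₀ with hv
      have huv : sympForm m F u v = 0 := by
        rw [hv, sympForm_sub_right, sympForm_swap m u x, sympForm_swap m u s₀, hfu, hgu, sub_self]
      have hE : EE u v ∈ M := by
        apply hPM
        rw [Subgroup.mem_inf]
        refine ⟨mem_stab_of_map_le W _ ?_, EE_mem u v⟩
        intro y hy
        rw [EE_mulVec u v huv, hW y hy u huW, zero_smul, add_zero]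
        exact W.add_mem hy (W.smul_mem _ huW)
      have h1 := isCentre_mulVec hMS _ hE hs₀C
      rw [EE_mulVec u v huv, hfu, one_smul] at h1
      have h2 := claim1 _ _ h1 ((perp m W).smul_mem (-sympForm m F s₀ v) (hWp huW))
      have e : s₀ + sympForm m F s₀ v • u + v + -sympForm m F s₀ v • u = x := by
        rw [hv, neg_smul]; abel
      rw [e] at h2
      exact h2

end Cfsg.Agent.Lib.Helper5.SpSingularMax
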