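import Mathlib
import Cfsg.Prelude
import Cfsg.Agent.Lib.Helper5.OmegaSimple
import Cfsg.Agent.Lib.Helper5.MaxTS
import Cfsg.Agent.Lib.Helper5.SpSingularMax

set_option autoImplicit false
set_option linter.unusedSectionVars false
set_option linter.unusedVariables false
open Cfsg

/-! The stabiliser of a totally singular subspace is maximal in `Ω(Q)`. -/

namespace Cfsg.Agent.Lib.Helper5.OrthSingularMax

open Matrix QuadraticMap Module Cfsg.Agent.Lib.Helper5.CartanDieudonne Cfsg.Agent.Lib.Helper5.Refl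
  Cfsg.Agent.Lib.Helper5.OrthCard Cfsg.Agent.Lib.Helper5.Siegel Cfsg.Agent.Lib.Helper5.QuadIsom
  Cfsg.Agent.Lib.Helper5.ReflGen Cfsg.Agent.Lib.Helper5.Eichler Cfsg.Agent.Lib.Helper5.SingGeom
  Cfsg.Agent.Lib.Helper5.OmegaGen Cfsg.Agent.Lib.Helper5.OmegaSimple Cfsg.Agent.Lib.Helper5.MaxTS
  Cfsg.Agent.Lib.Helper5.SpSingularMax

variable {ι : Type} [Fintype ι] [DecidableEq ι] {F : Type*} [Field F] [Fintype F]
  (Q : QuadraticForm F (ι → F))

theorem mem_omegaGL_iff (g : Matrix.GeneralLinearGroup ι F) :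
    g ∈ Cfsg.Geo.omegaGL ⇑Q ↔ ∃ a : ↥(isometryGroup F ⇑Q), a ∈ Omega F ⇑Q ∧
      (a : Matrix.GeneralLinearGroup ι F) = g := by
  unfold Cfsg.Geo.omegaGL
  rw [Subgroup.mem_map]
  rfl

/-- `u` is singular and `M` contains all Eichler transformations with centre `u` -/
def IsCentre (M : Subgroup (Matrix.GeneralLinearGroup ι F)) (u : ι → F) : Prop :=
  Q u = 0 ∧ ∀ (hu : Q u = 0) (z : ι → F) (huz : polar ⇑Q u z = 0),
    ((eich Q u z hu huz : ↥(isometryGroup F ⇑Q)) : Matrix.GeneralLinearGroup ι F) ∈ M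

variable {Q}

theorem eich_mem_omegaGL (H : Hyp Q) (u z : ι → F) (hu : Q u = 0) (huz : polar ⇑Q u z = 0) :
    ((eich Q u z hu huz : ↥(isometryGroup F ⇑Q)) : Matrix.GeneralLinearGroup ι F) ∈
      Cfsg.Geo.omegaGL ⇑Q :=
  (mem_omegaGL_iff Q _).mpr ⟨_, eich_mem_Omega H u z hu huz, rfl⟩

theorem isCentre_zero (M : Subgroup (Matrix.GeneralLinearGroup ι F)) : IsCentre Q M 0 := by
  refine ⟨map_zero Q, fun hu z huz => ?_⟩
  have : eich Q 0 z hu huz = 1 := by
    apply ext_act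
    intro x
    rw [act_eich, eichlerMap_apply]
    simp only [polar_zero_left, zero_smul, smul_zero, add_zero]
    exact (one_mulVec x).symm
  rw [this]
  exact one_mem M

theorem isCentre_smul {M : Subgroup (Matrix.GeneralLinearGroup ι F)} {u : ι → F} (c : F)
    (hu : IsCentre Q M u) : IsCentre Q M (c • u) := by
  by_cases hc : c = 0
  · rw [hc, zero_smul]
    exact isCentre_zero M
  refine ⟨by rw [QuadraticMap.map_smul, hu.1, smul_zero], fun hcu z hcuz => ?_⟩
  have huz : polar ⇑Q u z = 0 := by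
    rw [polar_smul_left, smul_eq_mul] at hcuz
    exact (mul_eq_zero.mp hcuz).resolve_left hc
  have := eich_smul_left Q u z hu.1 huz c
  rw [this]
  exact hu.2 hu.1 (c • z) _

theorem act_inv_act' (a : ↥(isometryGroup F ⇑Q)) (x : ι → F) : act Q a⁻¹ (act Q a x) = x := by
  have := act_inv_act Q a⁻¹ x
  rwa [inv_inv] at this

theorem isCentre_act {M : Subgroup (Matrix.GeneralLinearGroup ι F)} {u : ι → F}
    (a : ↥(isometryGroup F ⇑Q)) (ha : (a : Matrix.GeneralLinearGroup ι F) ∈ M)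
    (hu : IsCentre Q M u) : IsCentre Q M (act Q a u) := by
  refine ⟨by rw [quad_act, hu.1], fun hau z hauz => ?_⟩
  have huz : polar ⇑Q u (act Q a⁻¹ z) = 0 := by
    rw [← polar_act Q a, act_inv_act]
    exact hauz
  have h1 := conj_eich Q a u (act Q a⁻¹ z) hu.1 huz
  have h2 : eich Q (act Q a u) z hau hauz = a * eich Q u (act Q a⁻¹ z) hu.1 huz * a⁻¹ := by
    rw [h1]
    apply ext_act
    intro x
    rw [act_eich, act_eich, act_inv_act]
  rw [h2]
  exact M.mul_mem (M.mul_mem ha (hu.2 hu.1 _ huz)) (M.inv_mem ha)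

/-- if all singular vectors are centres then `M` contains `Ω` -/
theorem omegaGL_le (H : Hyp Q) {M : Subgroup (Matrix.GeneralLinearGroup ι F)}
    (h : ∀ u, Q u = 0 → IsCentre Q M u) : Cfsg.Geo.omegaGL ⇑Q ≤ M := by
  intro g hg
  obtain ⟨a, ha, rfl⟩ := (mem_omegaGL_iff Q g).mp hg
  have haT : a ∈ T Q := by
    rw [← commutator_eq_T Q H.nondeg H.card5 H.siegel_mem]
    exact ha
  have key : ∀ t : ↥(isometryGroup F ⇑Q), t ∈ T Q →
      (t : Matrix.GeneralLinearGroup ι F) ∈ M := by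
    intro t ht
    unfold T at ht
    induction ht using Subgroup.closure_induction with
    | mem t ht' =>
      obtain ⟨u, v, c, hu, hv, huv, rfl⟩ := eq_siegel_of_mem_rootSet Q t ht'
      rw [siegel_eq_eich Q u v hu hv huv c]
      exact (h u hu).2 hu _ _
    | one => exact one_mem M
    | mul a b _ _ ha hb => exact M.mul_mem ha hb
    | inv a _ ha => exact M.inv_mem ha
  exact key a haT

section main
variable (H : Hyp Q) (W : Submodule F (ι → F)) (hW : ∀ w ∈ W, Q w = 0)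
  {M : Subgroup (Matrix.GeneralLinearGroup ι F)}
  (hPM : Cfsg.Geo.subspaceStabilizer W ⊓ Cfsg.Geo.omegaGL ⇑Q ≤ M)
  (hMS : M ≤ Cfsg.Geo.omegaGL ⇑Q)

include H hW in
/-- Eichler transformations with centre in `W` stabilise `W` -/
theorem eich_mem_P_of_mem (w z : ι → F) (hw : w ∈ W) (hwz : polar ⇑Q w z = 0) :
    ((eich Q w z (hW w hw) hwz : ↥(isometryGroup F ⇑Q)) : Matrix.GeneralLinearGroup ι F) ∈
      Cfsg.Geo.subspaceStabilizer W ⊓ Cfsg.Geo.omegaGL ⇑Q := by
  rw [Subgroup.mem_inf]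
  refine ⟨mem_stab_of_map_le W _ ?_, eich_mem_omegaGL H w z (hW w hw) hwz⟩
  intro x hx
  have : (((eich Q w z (hW w hw) hwz : ↥(isometryGroup F ⇑Q)) : Matrix.GeneralLinearGroup ι F) :
      Matrix ι ι F) *ᵥ x = eichlerMap Q w z x := act_eich Q w z (hW w hw) hwz x
  rw [this, eichlerMap_apply, PlusGeom.polar_eq_zero_of_ts Q W hW hw hx, zero_smul, add_zero]
  exact W.add_mem hx (W.smul_mem _ hw)

include H in
/-- Eichler transformations with both parameters in the perp fix `W` pointwise -/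
theorem eich_mem_P_of_perp (a z : ι → F) (ha : a ∈ orth Q W) (hz : z ∈ orth Q W) (hQa : Q a = 0)
    (haz : polar ⇑Q a z = 0) :
    ((eich Q a z hQa haz : ↥(isometryGroup F ⇑Q)) : Matrix.GeneralLinearGroup ι F) ∈
      Cfsg.Geo.subspaceStabilizer W ⊓ Cfsg.Geo.omegaGL ⇑Q := by
  rw [Subgroup.mem_inf]
  refine ⟨mem_stab_of_map_le W _ ?_, eich_mem_omegaGL H a z hQa haz⟩
  intro x hx
  have : (((eich Q a z hQa haz : ↥(isometryGroup F ⇑Q)) : Matrix.GeneralLinearGroup ι F) :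
      Matrix ι ι F) *ᵥ x = eichlerMap Q a z x := act_eich Q a z hQa haz x
  have h1 : polar ⇑Q a x = 0 := by rw [polar_comm]; exact (mem_orth Q W a).mp ha x hx
  have h2 : polar ⇑Q z x = 0 := by rw [polar_comm]; exact (mem_orth Q W z).mp hz x hx
  rw [this, eichlerMap_apply, h1, h2]
  simp only [zero_smul, add_zero, mul_zero, neg_zero]
  exact hx

include H hW hPM in
theorem isCentre_of_mem (w : ι → F) (hw : w ∈ W) : IsCentre Q M w :=
  ⟨hW w hw, fun _ z hwz => hPM (eich_mem_P_of_mem H W hW w z hw hwz)⟩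

include H hW hPM in
/-- moving a centre along the unipotent radical -/
theorem step (s w y : ι → F) (hs : IsCentre Q M s) (hw : w ∈ W) (hws : polar ⇑Q w s = 1)
    (hwy : polar ⇑Q w y = 0) (hQ : Q (s + y) = 0) : IsCentre Q M (s + y) := by
  have h1 := isCentre_act _ (hPM (eich_mem_P_of_mem H W hW w y hw hwy)) hs
  have e : act Q (eich Q w y (hW w hw) hwy) s = s + y := by
    rw [act_eich, eichlerMap_apply, hws, one_smul, mul_one]
    have h2 : Q y + polar ⇑Q y s = 0 := by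
      rw [quad_add', hs.1, zero_add, polar_comm] at hQ
      exact hQ
    rw [add_comm (polar ⇑Q y s), h2, neg_zero, zero_smul, add_zero]
  rw [e] at h1
  exact h1

include H hW hPM in
/-- all singular vectors outside the perp are centres as soon as one of them is -/
theorem all_outside (s : ι → F) (hs : IsCentre Q M s) (hsW : s ∉ orth Q W) :
    ∀ x, Q x = 0 → x ∉ orth Q W → IsCentre Q M x := by
  intro x hx hxW
  rw [mem_orth] at hsW hxW
  push Not at hsW hxW
  obtain ⟨w₁, hw₁, h₁⟩ := hsW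
  obtain ⟨w₂, hw₂, h₂⟩ := hxW
  obtain ⟨w, hw, hws, hwx⟩ : ∃ w ∈ W, polar ⇑Q w s ≠ 0 ∧ polar ⇑Q w x ≠ 0 := by
    by_cases h3 : polar ⇑Q w₁ x = 0
    · by_cases h4 : polar ⇑Q w₂ s = 0
      · refine ⟨w₁ + w₂, W.add_mem hw₁ hw₂, ?_, ?_⟩
        · rw [polar_add_left, h4, add_zero]; exact h₁
        · rw [polar_add_left, h3, zero_add]; exact h₂
      · exact ⟨w₂, hw₂, h4, h₂⟩
    · exact ⟨w₁, hw₁, h₁, h3⟩
  have hs' := isCentre_smul (polar ⇑Q w s)⁻¹ hs
  have h5 : polar ⇑Q w ((polar ⇑Q w s)⁻¹ • s) = 1 := by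
    rw [polar_smul_right, smul_eq_mul, inv_mul_cancel₀ hws]
  have h6 := step H W hW hPM _ w ((polar ⇑Q w x)⁻¹ • x - (polar ⇑Q w s)⁻¹ • s) hs' hw h5
    (by
      rw [polar_sub_right, polar_smul_right, polar_smul_right, smul_eq_mul, smul_eq_mul,
        inv_mul_cancel₀ hws, inv_mul_cancel₀ hwx, sub_self])
    (by
      rw [add_sub_cancel, QuadraticMap.map_smul, hx, smul_zero])
  rw [add_sub_cancel] at h6
  have h7 := isCentre_smul (polar ⇑Q w x) h6
  rw [smul_smul, mul_inv_cancel₀ hwx, one_smul] at h7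
  exact h7

include H hW hPM in
/-- singular vectors inside the perp are centres as soon as those outside are -/
theorem all_inside (hW0 : W ≠ ⊥)
    (hout : ∀ x, Q x = 0 → x ∉ orth Q W → IsCentre Q M x) :
    ∀ x, Q x = 0 → x ∈ orth Q W → IsCentre Q M x := by
  intro x hx hxW
  by_cases hx0 : x = 0
  · rw [hx0]; exact isCentre_zero M
  by_cases hxmem : x ∈ W
  · exact isCentre_of_mem H W hW hPM x hxmem
  obtain ⟨w, hw, hw0⟩ := (Submodule.ne_bot_iff W).1 hW0
  have hwx : w ∉ Submodule.span F {x} := by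
    intro hmem
    obtain ⟨c, rfl⟩ := Submodule.mem_span_singleton.mp hmem
    have hc : c ≠ 0 := by
      rintro rfl
      exact hw0 (zero_smul F x)
    apply hxmem
    have := W.smul_mem c⁻¹ hw
    rwa [smul_smul, inv_mul_cancel₀ hc, one_smul] at this
  obtain ⟨s, hQs, hxs, hsw⟩ := exists_singular_perp_not_perp Q H.nondeg H.finrank5 x w hx0 hwx
  have hsW : s ∉ orth Q W := by
    intro hmem
    apply hsw
    rw [polar_comm]
    exact (mem_orth Q W s).mp hmem w hw
  have hsC := hout s hQs hsW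
  have hs0 : s ≠ 0 := by
    rintro rfl
    exact hsw (polar_zero_left _ _)
  have hxs' : x ∉ Submodule.span F {s} := by
    intro hmem
    obtain ⟨c, rfl⟩ := Submodule.mem_span_singleton.mp hmem
    have hc : c ≠ 0 := by
      rintro rfl
      exact hx0 (zero_smul F s)
    have h1 := (mem_orth Q W _).mp hxW w hw
    rw [polar_smul_right, smul_eq_mul] at h1
    rcases mul_eq_zero.mp h1 with h2 | h2
    · exact hc h2
    · apply hsw
      rw [polar_comm]
      exact h2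
  obtain ⟨z, hQz, hsz, hzx⟩ := exists_singular_perp_not_perp Q H.nondeg H.finrank5 s x hs0 hxs'
  have hg := hsC.2 hQs z hsz
  have hsx : polar ⇑Q s x = 0 := by rw [polar_comm]; exact hxs
  have e : act Q (eich Q s z hQs hsz) x = x + (-(polar ⇑Q z x)) • s := by
    rw [act_eich, eichlerMap_apply, hsx, zero_smul, add_zero, mul_zero, add_zero]
  have hout' : act Q (eich Q s z hQs hsz) x ∉ orth Q W := by
    rw [e, mem_orth]
    push Not
    refine ⟨w, hw, ?_⟩
    rw [polar_add_right, (mem_orth Q W x).mp hxW w hw, zero_add, polar_smul_right, smul_eq_mul]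
    apply mul_ne_zero (neg_ne_zero.mpr hzx)
    rw [polar_comm]
    exact hsw
  have h1 := hout _ (by rw [quad_act, hx]) hout'
  have h2 := isCentre_act (eich Q s z hQs hsz)⁻¹ (M.inv_mem hg) h1
  rw [act_inv_act'] at h2
  exact h2


include H in
theorem two_mul_finrank_le_of_ts (U : Submodule F (ι → F)) (hU : ∀ u ∈ U, Q u = 0) :
    2 * finrank F U ≤ Fintype.card ι := by
  have h1 := Submodule.finrank_mono (le_orth_of_ts Q U hU)
  have h2 := finrank_orth Q H.nondeg U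
  have h3 : finrank F U ≤ finrank F (ι → F) := Submodule.finrank_le U
  rw [Module.finrank_fintype_fun_eq_card] at h2 h3
  omega

include H hW in
/-- a non-singular vector of the perp orthogonal to a hyperbolic pair of the perp -/
theorem exists_aniso (u a : ι → F) (huW : u ∈ orth Q W) (hunW : u ∉ W) (hQu : Q u = 0)
    (haW : a ∈ orth Q W) (hQa : Q a = 0) (hua : polar ⇑Q u a ≠ 0)
    (hex : ¬ (2 * (finrank F W + 1) = Fintype.card ι ∧ ∃ U : Submodule F (ι → F),
      (∀ u ∈ U, Q u = 0) ∧ 2 * finrank F U = Fintype.card ι)) :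
    ∃ z ∈ orth Q W, polar ⇑Q u z = 0 ∧ polar ⇑Q a z = 0 ∧ Q z ≠ 0 := by
  by_contra hcon
  push Not at hcon
  apply hex
  set R : Submodule F (ι → F) := orth Q W ⊓ perp2 Q u a with hRdef
  have hR : ∀ r ∈ R, Q r = 0 := by
    intro r hr
    have h2 := (mem_perp2 Q u a r).mp hr.2
    exact hcon r hr.1 h2.1 h2.2
  have hdimO := finrank_orth Q H.nondeg W
  have hdimP := finrank_perp2 Q u a
  have hsupinf := Submodule.finrank_sup_add_finrank_inf_eq (orth Q W) (perp2 Q u a)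
  have hsup : finrank F ↥(orth Q W ⊔ perp2 Q u a) ≤ finrank F (ι → F) := Submodule.finrank_le _
  have hkn : finrank F W ≤ finrank F (ι → F) := Submodule.finrank_le W
  rw [Module.finrank_fintype_fun_eq_card] at hdimO hdimP hsup hkn
  have huR : u ∉ R := by
    intro hmem
    have h2 := (mem_perp2 Q u a u).mp hmem.2
    apply hua
    rw [polar_comm]
    exact h2.2
  have hRu : ∀ r ∈ R, polar ⇑Q r u = 0 := by
    intro r hr
    rw [polar_comm]
    exact ((mem_perp2 Q u a r).mp hr.2).1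
  have hU := PlusGeom.ts_sup_span Q R hR u hQu hRu
  have hdimU := PlusGeom.finrank_sup_span R u huR
  have hbU := two_mul_finrank_le_of_ts H _ hU
  have hW' := PlusGeom.ts_sup_span Q W hW u hQu (fun w hw => (mem_orth Q W u).mp huW w hw)
  have hdimW' := PlusGeom.finrank_sup_span W u hunW
  have hbW' := two_mul_finrank_le_of_ts H _ hW'
  rw [← hRdef] at hsupinf
  refine ⟨by omega, R ⊔ Submodule.span F {u}, hU, by omega⟩

include H hW hPM hMS in
/-- a centre outside the perp -/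
theorem exists_outside (hW0 : W ≠ ⊥)
    (hex : ¬ (2 * (finrank F W + 1) = Fintype.card ι ∧ ∃ U : Submodule F (ι → F),
      (∀ u ∈ U, Q u = 0) ∧ 2 * finrank F U = Fintype.card ι))
    (hMP : ¬ M ≤ Cfsg.Geo.subspaceStabilizer W ⊓ Cfsg.Geo.omegaGL ⇑Q) :
    ∃ s, IsCentre Q M s ∧ s ∉ orth Q W := by
  obtain ⟨g₀, hg₀M, hg₀P⟩ := SetLike.not_le_iff_exists.mp hMP
  have hg₀S : g₀ ∉ Cfsg.Geo.subspaceStabilizer W := fun h => hg₀P ⟨h, hMS hg₀M⟩
  obtain ⟨a, haΩ, rfl⟩ := (mem_omegaGL_iff Q g₀).mp (hMS hg₀M)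
  obtain ⟨w, hw, hgw⟩ : ∃ w ∈ W, act Q a w ∉ W := by
    by_contra hcon
    push Not at hcon
    exact hg₀S (mem_stab_of_map_le W _ hcon)
  have huC : IsCentre Q M (act Q a w) := isCentre_act a hg₀M (isCentre_of_mem H W hW hPM w hw)
  obtain ⟨u, hudef⟩ : ∃ u, u = act Q a w := ⟨_, rfl⟩
  rw [← hudef] at huC hgw
  by_cases huW : u ∈ orth Q W
  swap
  · exact ⟨u, huC, huW⟩
  have hQu : Q u = 0 := huC.1
  have hu0 : u ≠ 0 := by
    rintro rfl
    exact hgw W.zero_mem
  have hrefl : (polarBilin Q).IsRefl := by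
    intro x y h
    rw [polarBilin_apply_apply] at h ⊢
    rw [polar_comm]
    exact h
  have hperp : orth Q (orth Q W) = W :=
    LinearMap.BilinForm.orthogonal_orthogonal H.nondeg hrefl W
  obtain ⟨y, hy, huy⟩ : ∃ y ∈ orth Q W, polar ⇑Q u y ≠ 0 := by
    by_contra hcon
    push Not at hcon
    apply hgw
    rw [← hperp, mem_orth]
    intro y hy
    rw [polar_comm]
    exact hcon y hy
  have huu : polar ⇑Q u u = 0 := polar_self_of_sing Q u hQu
  obtain ⟨a₁, ha₁def⟩ : ∃ a₁, a₁ = y + (-(Q y) / polar ⇑Q u y) • u := ⟨_, rfl⟩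
  have hQa₁ : Q a₁ = 0 := by
    rw [ha₁def, Cfsg.Agent.Lib.Helper5.QuadIsom.quad_add_smul, hQu, polar_comm (⇑Q) y u,
      div_mul_cancel₀ _ huy]
    ring
  have ha₁W : a₁ ∈ orth Q W := by
    rw [ha₁def]
    exact (orth Q W).add_mem hy ((orth Q W).smul_mem _ huW)
  have hua₁ : polar ⇑Q u a₁ = polar ⇑Q u y := by
    rw [ha₁def, polar_add_right, polar_smul_right, huu, smul_zero, add_zero]
  have hua₁0 : polar ⇑Q u a₁ ≠ 0 := by rw [hua₁]; exact huy
  obtain ⟨z, hzW, huz, ha₁z, hQz⟩ := exists_aniso H W hW u a₁ huW hgw hQu ha₁W hQa₁ hua₁0 hex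
  have hp := hPM (eich_mem_P_of_perp H W a₁ z ha₁W hzW hQa₁ ha₁z)
  have hu₂C := isCentre_act _ hp huC
  have ha₁u : polar ⇑Q a₁ u = polar ⇑Q u a₁ := polar_comm _ _ _
  have hzu : polar ⇑Q z u = 0 := by rw [polar_comm]; exact huz
  have e : act Q (eich Q a₁ z hQa₁ ha₁z) u =
      u + polar ⇑Q u a₁ • z + (-(Q z * polar ⇑Q u a₁)) • a₁ := by
    rw [act_eich, eichlerMap_apply, ha₁u, hzu, zero_add]
  rw [e] at hu₂C
  obtain ⟨u₂, hu₂def⟩ : ∃ u₂, u₂ = u + polar ⇑Q u a₁ • z + (-(Q z * polar ⇑Q u a₁)) • a₁ :=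
    ⟨_, rfl⟩
  rw [← hu₂def] at hu₂C
  have hu₂W : u₂ ∈ orth Q W := by
    rw [hu₂def]
    exact (orth Q W).add_mem ((orth Q W).add_mem huW ((orth Q W).smul_mem _ hzW))
      ((orth Q W).smul_mem _ ha₁W)
  have huu₂ : polar ⇑Q u u₂ ≠ 0 := by
    rw [hu₂def, polar_add_right, polar_add_right, polar_smul_right, polar_smul_right, huu, huz,
      smul_zero, add_zero, zero_add, smul_eq_mul]
    exact mul_ne_zero (neg_ne_zero.mpr (mul_ne_zero hQz hua₁0)) hua₁0
  obtain ⟨w₁, hw₁, hw₁0⟩ := (Submodule.ne_bot_iff W).1 hW0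
  have hw₁u : w₁ ∉ Submodule.span F {u} := by
    intro hmem
    obtain ⟨c, rfl⟩ := Submodule.mem_span_singleton.mp hmem
    have hc : c ≠ 0 := by
      rintro rfl
      exact hw₁0 (zero_smul F u)
    apply hgw
    have := W.smul_mem c⁻¹ hw₁
    rwa [smul_smul, inv_mul_cancel₀ hc, one_smul] at this
  obtain ⟨z', hQz', huz', hz'w₁⟩ :=
    exists_singular_perp_not_perp Q H.nondeg H.finrank5 u w₁ hu0 hw₁u
  have hg' := huC.2 hQu z' huz'
  have hsC := isCentre_act _ hg' hu₂C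
  refine ⟨_, hsC, ?_⟩
  rw [mem_orth]
  push Not
  refine ⟨w₁, hw₁, ?_⟩
  rw [act_eich, eichlerMap_apply, polar_add_right, polar_add_right, polar_smul_right,
    polar_smul_right, (mem_orth Q W u₂).mp hu₂W w₁ hw₁, (mem_orth Q W u).mp huW w₁ hw₁,
    smul_zero, add_zero, zero_add, smul_eq_mul]
  apply mul_ne_zero huu₂
  rw [polar_comm]
  exact hz'w₁

end main

theorem isMaximalIn (H : Hyp Q) (W : Submodule F (ι → F)) (hW0 : W ≠ ⊥)
    (hW : ∀ w ∈ W, Q w = 0)
    (hex : ¬ (2 * (finrank F W + 1) = Fintype.card ι ∧ ∃ U : Submodule F (ι → F),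
      (∀ u ∈ U, Q u = 0) ∧ 2 * finrank F U = Fintype.card ι)) :
    Cfsg.Geo.IsMaximalIn (Cfsg.Geo.omegaGL ⇑Q)
      (Cfsg.Geo.subspaceStabilizer W ⊓ Cfsg.Geo.omegaGL ⇑Q) := by
  obtain ⟨w₀, hw₀, hw₀0⟩ := (Submodule.ne_bot_iff W).1 hW0
  refine ⟨lt_of_le_of_ne inf_le_right ?_, ?_⟩
  · intro h
    obtain ⟨f, hQf, hw₀f⟩ := Cfsg.Agent.Lib.Helper5.exists_partner Q
      (fun z hz => H.nondeg.1 z hz) w₀ hw₀0 (hW w₀ hw₀)
    obtain ⟨z, hQz, hw₀z, hfz⟩ := exists_aniso_perp2 Q H.nondeg H.finrank5 w₀ f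
    have hmem : ((eich Q f z hQf hfz : ↥(isometryGroup F ⇑Q)) :
        Matrix.GeneralLinearGroup ι F) ∈
        Cfsg.Geo.subspaceStabilizer W ⊓ Cfsg.Geo.omegaGL ⇑Q := by
      rw [h]
      exact eich_mem_omegaGL H f z hQf hfz
    have h1 := ((mem_stab_iff W _).mp hmem.1 w₀).mp hw₀
    have e : (((eich Q f z hQf hfz : ↥(isometryGroup F ⇑Q)) : Matrix.GeneralLinearGroup ι F) :
        Matrix ι ι F) *ᵥ w₀ = eichlerMap Q f z w₀ := act_eich Q f z hQf hfz w₀
    rw [e, eichlerMap_apply] at h1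
    have h2 := PlusGeom.polar_eq_zero_of_ts Q W hW hw₀ h1
    have hfw₀ : polar ⇑Q f w₀ = 1 := by rw [polar_comm]; exact hw₀f
    have hzw₀ : polar ⇑Q z w₀ = 0 := by rw [polar_comm]; exact hw₀z
    rw [hfw₀, hzw₀, polar_add_right, polar_add_right, polar_smul_right, polar_smul_right,
      polar_self_of_sing Q w₀ (hW w₀ hw₀), hw₀z, hw₀f] at h2
    simp only [smul_eq_mul, mul_zero, zero_add, mul_one, add_zero] at h2
    exact hQz (neg_eq_zero.mp h2)
  · intro M hPM hMS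
    by_cases hMP : M ≤ Cfsg.Geo.subspaceStabilizer W ⊓ Cfsg.Geo.omegaGL ⇑Q
    · left
      exact le_antisymm hMP hPM
    right
    apply le_antisymm hMS
    apply omegaGL_le H
    obtain ⟨s, hsC, hsW⟩ := exists_outside H W hW hPM hMS hW0 hex hMP
    have hout := all_outside H W hW hPM s hsC hsW
    have hin := all_inside H W hW hPM hW0 hout
    intro u hu
    by_cases huW : u ∈ orth Q W
    · exact hin u hu huW
    · exact hout u hu huW

end Cfsg.Agent.Lib.Helper5.OrthSingularMax
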