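import Mathlib

set_option autoImplicit false

/-! Homomorphisms from `GL_n(F)` to commutative groups factor through the determinant
(except for `GL_2(𝔽₂)`). -/

namespace Cfsg.Agent.Lib.Helper5.GLAb

open Matrix
open scoped commutatorElement

variable {n : Type*} [Fintype n] [DecidableEq n] {F : Type*} [Field F]

/-- invertible diagonal matrices -/
noncomputable def diagHom : (n → Fˣ) →* GL n F where
  toFun d := ⟨diagonal (fun i => (d i : F)), diagonal (fun i => ((d i)⁻¹ : Fˣ)),
    by rw [diagonal_mul_diagonal]; simp, by rw [diagonal_mul_diagonal]; simp⟩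
  map_one' := by
    apply Units.ext
    simp
  map_mul' d e := by
    apply Units.ext
    show diagonal (fun i => ((d * e) i : F)) = diagonal (fun i => (d i : F)) * diagonal (fun i => (e i : F))
    rw [diagonal_mul_diagonal]
    simp

theorem diagHom_coe (d : n → Fˣ) :
    ((diagHom d : GL n F) : Matrix n n F) = diagonal (fun i => (d i : F)) := rfl

/-- the diagonal matrix with a single entry different from one -/
noncomputable def diagUnit (i : n) : Fˣ →* GL n F :=
  diagHom.comp (MonoidHom.mulSingle (fun _ : n => Fˣ) i)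

theorem diagUnit_coe (i : n) (u : Fˣ) :
    ((diagUnit i u : GL n F) : Matrix n n F) =
      diagonal (fun k => ((Pi.mulSingle i u : n → Fˣ) k : F)) := rfl

theorem map_diagHom_eq_prod {H : Type*} [CommGroup H] (χ : GL n F →* H) (d : n → Fˣ) :
    χ (diagHom d) = ∏ i, χ (diagUnit i (d i)) := by
  have h1 : ∀ i, χ (diagUnit i (d i)) = (χ.comp diagHom) (Pi.mulSingle i (d i)) := fun i => rfl
  simp only [h1]
  rw [← map_prod, Finset.univ_prod_mulSingle]
  rfl

/-- a transvection as an element of `GL` -/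
noncomputable def tvGL (t : TransvectionStruct n F) : GL n F :=
  GeneralLinearGroup.mkOfDetNeZero t.toMatrix (by rw [t.det]; exact one_ne_zero)

theorem tvGL_coe (t : TransvectionStruct n F) : ((tvGL t : GL n F) : Matrix n n F) = t.toMatrix :=
  rfl

/-- permutation matrices as elements of `GL` -/
noncomputable def permGL : Equiv.Perm n →* GL n F := (permMatrixHom (R := F)).toHomUnits

theorem permGL_coe (σ : Equiv.Perm n) :
    ((permGL σ : GL n F) : Matrix n n F) = (σ⁻¹).permMatrix F := rfl

theorem perm_conj_diag (σ : Equiv.Perm n) (d : n → Fˣ) :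
    permGL σ * diagHom d * (permGL σ)⁻¹ = diagHom (F := F) (d ∘ σ.symm) := by
  rw [← map_inv]
  apply Units.ext
  show (σ⁻¹).permMatrix F * diagonal (fun i => (d i : F)) * ((σ⁻¹)⁻¹).permMatrix F =
    diagonal (fun i => ((d ∘ σ.symm) i : F))
  rw [inv_inv]
  unfold Equiv.Perm.permMatrix
  rw [PEquiv.toMatrix_toPEquiv_mul, PEquiv.mul_toMatrix_toPEquiv]
  ext a b
  simp only [submatrix_apply, id_eq, diagonal_apply, Function.comp_apply]
  have : (σ⁻¹ a = σ.symm b) ↔ a = b := by
    constructor
    · intro h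
      exact σ⁻¹.injective h
    · rintro rfl; rfl
  by_cases hab : a = b
  · subst hab
    simp
  · rw [if_neg hab, if_neg]
    intro h
    exact hab (this.mp h)

theorem map_diagUnit_eq {H : Type*} [CommGroup H] (χ : GL n F →* H) (i j : n) (u : Fˣ) :
    χ (diagUnit i u) = χ (diagUnit j u) := by
  have h := perm_conj_diag (F := F) (Equiv.swap i j) (Pi.mulSingle i u)
  have h2 : (Pi.mulSingle i u : n → Fˣ) ∘ (Equiv.swap i j).symm = Pi.mulSingle j u := by
    ext k
    simp only [Function.comp_apply, Equiv.symm_swap]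
    by_cases hk : k = j
    · subst hk
      simp
    · rw [Pi.mulSingle_eq_of_ne hk]
      by_cases hki : k = i
      · subst hki
        rw [Equiv.swap_apply_left, Pi.mulSingle_eq_of_ne (Ne.symm hk)]
      · rw [Equiv.swap_apply_of_ne_of_ne hki hk, Pi.mulSingle_eq_of_ne hki]
  rw [h2] at h
  show χ (diagHom (Pi.mulSingle i u)) = χ (diagHom (Pi.mulSingle j u))
  rw [← h, map_mul, map_mul, map_inv, mul_comm, inv_mul_cancel_left]

theorem tvGL_mul (i j : n) (hij : i ≠ j) (c d : F) :
    tvGL (⟨i, j, hij, c⟩ : TransvectionStruct n F) * tvGL ⟨i, j, hij, d⟩ = tvGL ⟨i, j, hij, c + d⟩ := by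
  apply Units.ext
  show transvection i j c * transvection i j d = transvection i j (c + d)
  exact transvection_mul_transvection_same i j hij c d

theorem diagUnit_mul_tvGL (i j : n) (hij : i ≠ j) (a : Fˣ) (c : F) :
    diagUnit i a * tvGL (⟨i, j, hij, c⟩ : TransvectionStruct n F) =
      tvGL ⟨i, j, hij, (a : F) * c⟩ * diagUnit i a := by
  apply Units.ext
  show diagonal (fun k => ((Pi.mulSingle i a : n → Fˣ) k : F)) * transvection i j c =
    transvection i j ((a : F) * c) * diagonal (fun k => ((Pi.mulSingle i a : n → Fˣ) k : F))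
  unfold transvection
  rw [Matrix.mul_add, Matrix.add_mul, Matrix.mul_one, Matrix.one_mul]
  congr 1
  ext r s
  simp only [diagonal_mul, mul_diagonal, single_apply]
  by_cases h : i = r ∧ j = s
  · obtain ⟨rfl, rfl⟩ := h
    simp [Pi.mulSingle_eq_of_ne (Ne.symm hij)]
  · rw [if_neg h, if_neg h]
    simp

theorem map_tvGL_of_unit {H : Type*} [CommGroup H] (χ : GL n F →* H) (a : F) (ha0 : a ≠ 0)
    (ha1 : a ≠ 1) (t : TransvectionStruct n F) : χ (tvGL t) = 1 := by
  obtain ⟨i, j, hij, c⟩ := t
  have ha1' : a - 1 ≠ 0 := sub_ne_zero.mpr ha1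
  set c' : F := c / (a - 1) with hc'
  have h1 := diagUnit_mul_tvGL i j hij (Units.mk0 a ha0) c'
  have h2 := congrArg χ h1
  rw [map_mul, map_mul, mul_comm, mul_left_inj] at h2
  have h3 := tvGL_mul i j hij c' ((a - 1) * c')
  have h4 : c' + (a - 1) * c' = a * c' := by ring
  rw [h4] at h3
  have h5 := congrArg χ h3
  rw [Units.val_mk0] at h2
  rw [map_mul, ← h2] at h5
  have h6 : (a - 1) * c' = c := by rw [hc']; field_simp
  rw [h6] at h5
  exact mul_eq_left.mp h5

theorem tvGL_triple (i j k : n) (hij : i ≠ j) (hik : i ≠ k) (hkj : k ≠ j) (c : F) :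
    tvGL (⟨i, k, hik, c⟩ : TransvectionStruct n F) * tvGL ⟨k, j, hkj, 1⟩ =
      tvGL ⟨i, j, hij, c⟩ * tvGL ⟨k, j, hkj, 1⟩ * tvGL ⟨i, k, hik, c⟩ := by
  apply Units.ext
  show transvection i k c * transvection k j 1 =
    transvection i j c * transvection k j 1 * transvection i k c
  unfold transvection
  simp only [Matrix.mul_add, Matrix.add_mul, Matrix.one_mul,
    single_mul_single_same, single_mul_single_of_ne _ _ _ _ (Ne.symm hij),
    single_mul_single_of_ne _ _ _ _ (Ne.symm hkj), mul_one, add_zero]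
  abel

theorem map_tvGL_of_three {H : Type*} [CommGroup H] (χ : GL n F →* H)
    (h3 : 3 ≤ Fintype.card n) (t : TransvectionStruct n F) : χ (tvGL t) = 1 := by
  obtain ⟨i, j, hij, c⟩ := t
  obtain ⟨k, hk⟩ : ∃ k : n, k ≠ i ∧ k ≠ j := by
    by_contra hcon
    push Not at hcon
    have : (Finset.univ : Finset n) ⊆ {i, j} := by
      intro k _
      by_cases hki : k = i
      · simp [hki]
      · simp [hcon k hki]
    have := Finset.card_le_card this
    have h2 : ({i, j} : Finset n).card ≤ 2 := Finset.card_le_two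
    rw [Finset.card_univ] at this
    omega
  have h := congrArg χ (tvGL_triple i j k hij (Ne.symm hk.1) hk.2 c)
  rw [map_mul, map_mul, map_mul] at h
  have h' : χ (tvGL ⟨i, j, hij, c⟩) * (χ (tvGL ⟨i, k, Ne.symm hk.1, c⟩) * χ (tvGL ⟨k, j, hk.2, 1⟩)) =
      χ (tvGL ⟨i, k, Ne.symm hk.1, c⟩) * χ (tvGL ⟨k, j, hk.2, 1⟩) := by
    calc χ (tvGL ⟨i, j, hij, c⟩) * (χ (tvGL ⟨i, k, Ne.symm hk.1, c⟩) * χ (tvGL ⟨k, j, hk.2, 1⟩))
        = χ (tvGL ⟨i, j, hij, c⟩) * χ (tvGL ⟨k, j, hk.2, 1⟩) * χ (tvGL ⟨i, k, Ne.symm hk.1, c⟩) := by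
          ac_rfl
      _ = _ := h.symm
  exact (mul_eq_right.mp h')

/-- the hypothesis excluding `GL_2(𝔽₂)` -/
def Cond (n F : Type*) [Fintype n] [Field F] : Prop :=
  (∃ a : F, a ≠ 0 ∧ a ≠ 1) ∨ 3 ≤ Fintype.card n ∨ Fintype.card n ≤ 1

theorem map_tvGL {H : Type*} [CommGroup H] (χ : GL n F →* H) (hc : Cond n F)
    (t : TransvectionStruct n F) : χ (tvGL t) = 1 := by
  rcases hc with ⟨a, ha0, ha1⟩ | h3 | h1
  · exact map_tvGL_of_unit χ a ha0 ha1 t
  · exact map_tvGL_of_three χ h3 t
  · exact absurd (Fintype.card_le_one_iff.mp h1 t.i t.j) t.hij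

/-- a homomorphism from `GL_n(F)` to a commutative group factors through the determinant -/
theorem map_eq_map_diagUnit {H : Type*} [CommGroup H] (χ : GL n F →* H) (hc : Cond n F) (i0 : n)
    (A : GL n F) : χ A = χ (diagUnit i0 (GeneralLinearGroup.det A)) := by
  have key : ∀ M : Matrix n n F, M.det ≠ 0 →
      ∀ A : GL n F, (A : Matrix n n F) = M → χ A = χ (diagUnit i0 (GeneralLinearGroup.det A)) := by
    intro M hM
    refine diagonal_transvection_induction_of_det_ne_zero
      (fun M => ∀ A : GL n F, (A : Matrix n n F) = M →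
        χ A = χ (diagUnit i0 (GeneralLinearGroup.det A))) M hM ?_ ?_ ?_
    · intro D hD A hA
      rw [det_diagonal] at hD
      have hD0 : ∀ i, D i ≠ 0 := fun i => by
        intro h
        exact hD (Finset.prod_eq_zero (Finset.mem_univ i) h)
      have hAd : A = diagHom (fun i => Units.mk0 (D i) (hD0 i)) := by
        apply Units.ext
        rw [hA, diagHom_coe]
        simp
      have hdet : GeneralLinearGroup.det A = ∏ i, Units.mk0 (D i) (hD0 i) := by
        apply Units.ext
        rw [GeneralLinearGroup.val_det_apply, hA, det_diagonal, Units.coe_prod]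
        simp
      rw [hdet, hAd, map_diagHom_eq_prod]
      have : ∀ i, χ (diagUnit i (Units.mk0 (D i) (hD0 i))) =
          (χ.comp (diagUnit i0)) (Units.mk0 (D i) (hD0 i)) := fun i => map_diagUnit_eq χ i i0 _
      simp only [this]
      rw [← map_prod]
      rfl
    · intro t A hA
      have hAt : A = tvGL t := Units.ext hA
      have hdet : GeneralLinearGroup.det A = 1 := by
        apply Units.ext
        rw [GeneralLinearGroup.val_det_apply, hA, t.det]
        rfl
      rw [hdet, map_one, map_one, hAt, map_tvGL χ hc t]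
    · intro M N hM hN ihM ihN A hA
      have hAMN : A = GeneralLinearGroup.mkOfDetNeZero M hM * GeneralLinearGroup.mkOfDetNeZero N hN :=
        Units.ext hA
      rw [hAMN, map_mul, map_mul, map_mul, map_mul,
        ihM (GeneralLinearGroup.mkOfDetNeZero M hM) rfl,
        ihN (GeneralLinearGroup.mkOfDetNeZero N hN) rfl]
  exact key A (GeneralLinearGroup.det_ne_zero A) A rfl

/-- a field with more than two elements has an element different from `0` and `1` -/
theorem exists_ne_zero_one [Fintype F] (h : Fintype.card F ≠ 2) : ∃ a : F, a ≠ 0 ∧ a ≠ 1 := by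
  classical
  by_contra hcon
  push Not at hcon
  have hsub : (Finset.univ : Finset F) ⊆ {0, 1} := by
    intro a _
    by_cases ha : a = 0
    · simp [ha]
    · simp [hcon a ha]
  have h1 := Finset.card_le_card hsub
  have h2 : ({0, 1} : Finset F).card ≤ 2 := Finset.card_le_two
  have h3 : 1 < Fintype.card F := Fintype.one_lt_card
  rw [Finset.card_univ] at h1
  omega

end Cfsg.Agent.Lib.Helper5.GLAb
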