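import Mathlib
import Cfsg.Prelude
import Cfsg.Agent.Lib.Helper5.GLAb
import Cfsg.Agent.Lib.Helper5.QuadStd
import Cfsg.Agent.Lib.Helper5.PlusGeom
import Cfsg.Agent.Lib.Helper5.SpinorNorm
import Cfsg.Agent.Lib.Helper5.Dickson

set_option autoImplicit false
set_option linter.unusedSectionVars false
set_option linter.unusedVariables false
set_option linter.unusedSimpArgs false
open Cfsg

/-! The Levi subgroup `GL_m` of `O⁺_{2m}` stabilising the two standard maximal totally singular
subspaces, and the element interchanging them. -/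

namespace Cfsg.Agent.Lib.Helper5.PlusLevi

open Matrix QuadraticMap Cfsg.Agent.Lib.Helper5 Cfsg.Agent.Lib.Helper5.CartanDieudonne
  Cfsg.Agent.Lib.Helper5.Refl Cfsg.Agent.Lib.Helper5.SpinorNorm Cfsg.Agent.Lib.Helper5.GLAb
  Cfsg.Agent.Lib.Helper5.PlusGeom

variable {m : ℕ} {F : Type*} [Field F]

/-- the value of the plus form on a block-diagonal image -/
theorem plus_fromBlocks (A D : Matrix (Fin m) (Fin m) F) (h : Aᵀ * D = 1)
    (v : Fin m ⊕ Fin m → F) :
    plusForm m F (fromBlocks A 0 0 D *ᵥ v) = plusForm m F v := by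
  rw [plusForm_apply, plusForm_apply, fromBlocks_mulVec]
  simp only [Cfsg.quadFormPlus, Sum.elim_inl, Sum.elim_inr, Matrix.zero_mulVec, add_zero, zero_add]
  show (A *ᵥ (v ∘ Sum.inl)) ⬝ᵥ (D *ᵥ (v ∘ Sum.inr)) = (v ∘ Sum.inl) ⬝ᵥ (v ∘ Sum.inr)
  rw [← vecMul_transpose, ← dotProduct_mulVec, mulVec_mulVec, h, one_mulVec]

/-- the value of the plus form on an anti-block-diagonal image -/
theorem plus_fromBlocks_anti (B C : Matrix (Fin m) (Fin m) F) (h : Cᵀ * B = 1)
    (v : Fin m ⊕ Fin m → F) :
    plusForm m F (fromBlocks 0 B C 0 *ᵥ v) = plusForm m F v := by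
  rw [plusForm_apply, plusForm_apply, fromBlocks_mulVec]
  simp only [Cfsg.quadFormPlus, Sum.elim_inl, Sum.elim_inr, Matrix.zero_mulVec, add_zero, zero_add]
  show (B *ᵥ (v ∘ Sum.inr)) ⬝ᵥ (C *ᵥ (v ∘ Sum.inl)) = (v ∘ Sum.inl) ⬝ᵥ (v ∘ Sum.inr)
  rw [dotProduct_comm, ← vecMul_transpose, ← dotProduct_mulVec, mulVec_mulVec, h, one_mulVec]

/-- the Levi embedding of `GL_m` -/
noncomputable def levi : GL (Fin m) F →* ↥(isometryGroup F ⇑(plusForm m F)) where
  toFun A := ⟨⟨fromBlocks (A : Matrix (Fin m) (Fin m) F) 0 0 ((A⁻¹ : GL (Fin m) F) : Matrix (Fin m) (Fin m) F)ᵀ,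
      fromBlocks ((A⁻¹ : GL (Fin m) F) : Matrix (Fin m) (Fin m) F) 0 0 (A : Matrix (Fin m) (Fin m) F)ᵀ,
      by
        rw [fromBlocks_multiply]
        simp only [Matrix.mul_zero, Matrix.zero_mul, add_zero, zero_add]
        rw [← transpose_mul, ← Units.val_mul, mul_inv_cancel]
        simp [fromBlocks_one],
      by
        rw [fromBlocks_multiply]
        simp only [Matrix.mul_zero, Matrix.zero_mul, add_zero, zero_add]
        rw [← transpose_mul, ← Units.val_mul, inv_mul_cancel]
        simp [fromBlocks_one]⟩,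
    by
      rw [OrthCard.mem_isometryGroup_iff]
      intro v
      apply plus_fromBlocks
      rw [← transpose_mul, ← Units.val_mul, inv_mul_cancel]
      simp⟩
  map_one' := by
    apply Subtype.ext
    apply Units.ext
    simp [fromBlocks_one]
  map_mul' A B := by
    apply Subtype.ext
    apply Units.ext
    show fromBlocks ((A * B : GL (Fin m) F) : Matrix (Fin m) (Fin m) F) 0 0
        (((A * B)⁻¹ : GL (Fin m) F) : Matrix (Fin m) (Fin m) F)ᵀ =
      fromBlocks (A : Matrix (Fin m) (Fin m) F) 0 0 ((A⁻¹ : GL (Fin m) F) : Matrix (Fin m) (Fin m) F)ᵀ *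
      fromBlocks (B : Matrix (Fin m) (Fin m) F) 0 0 ((B⁻¹ : GL (Fin m) F) : Matrix (Fin m) (Fin m) F)ᵀ
    rw [fromBlocks_multiply]
    simp only [Matrix.mul_zero, Matrix.zero_mul, add_zero, zero_add]
    rw [← transpose_mul, ← Units.val_mul, ← Units.val_mul, _root_.mul_inv_rev]

theorem levi_coe (A : GL (Fin m) F) :
    (((levi A : ↥(isometryGroup F ⇑(plusForm m F))) : GL (Fin m ⊕ Fin m) F) :
      Matrix (Fin m ⊕ Fin m) (Fin m ⊕ Fin m) F) =
      fromBlocks (A : Matrix (Fin m) (Fin m) F) 0 0 ((A : Matrix (Fin m) (Fin m) F)⁻¹)ᵀ := by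
  rw [← Matrix.coe_units_inv]
  rfl

/-- the vector `e_i - u f_i` -/
def vvec (i : Fin m) (u : F) : Fin m ⊕ Fin m → F :=
  Pi.single (Sum.inl i) 1 - u • Pi.single (Sum.inr i) 1

theorem vvec_inl (i k : Fin m) (u : F) : vvec i u (Sum.inl k) = if k = i then 1 else 0 := by
  unfold vvec
  simp [Pi.single_apply]

theorem vvec_inr (i k : Fin m) (u : F) : vvec i u (Sum.inr k) = if k = i then -u else 0 := by
  unfold vvec
  by_cases hk : k = i <;> simp [Pi.single_apply, hk]

theorem plus_vvec (i : Fin m) (u : F) : plusForm m F (vvec i u) = -u := by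
  rw [plusForm_apply]
  simp only [Cfsg.quadFormPlus, vvec_inl, vvec_inr]
  rw [Finset.sum_eq_single i]
  · simp
  · intro k _ hk
    simp [hk]
  · simp

theorem polar_vvec (i : Fin m) (u : F) (x : Fin m ⊕ Fin m → F) :
    polar (plusForm m F) (vvec i u) x = x (Sum.inr i) - u * x (Sum.inl i) := by
  unfold vvec
  rw [polar_sub_left, polar_smul_left, polar_comm, polar_single_inl,
    polar_comm _ (Pi.single (Sum.inr i) 1), polar_single_inr]
  rfl

/-- the reflection in `e_i - u f_i` -/
theorem refl_vvec (i : Fin m) (u : F) (hu : u ≠ 0) (x : Fin m ⊕ Fin m → F) :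
    reflectionMatrix ⇑(plusForm m F) (vvec i u) *ᵥ x =
      Function.update (Function.update x (Sum.inl i) (u⁻¹ * x (Sum.inr i))) (Sum.inr i)
        (u * x (Sum.inl i)) := by
  rw [reflectionMatrix_mulVec, plus_vvec, polar_vvec]
  ext k
  rcases k with k | k
  · rw [Function.update_of_ne (by simp)]
    by_cases hk : k = i
    · subst hk
      rw [Function.update_self]
      simp only [Pi.sub_apply, Pi.smul_apply, vvec_inl, if_true, smul_eq_mul, mul_one]
      field_simp
      ring
    · rw [Function.update_of_ne (by simpa using hk)]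
      simp [vvec_inl, hk]
  · by_cases hk : k = i
    · subst hk
      rw [Function.update_self]
      simp only [Pi.sub_apply, Pi.smul_apply, vvec_inr, if_true, smul_eq_mul]
      field_simp
      ring
    · rw [Function.update_of_ne (by simpa using hk), Function.update_of_ne (by simp)]
      simp [vvec_inr, hk]

theorem levi_diagUnit_mulVec (i : Fin m) (u : Fˣ) (x : Fin m ⊕ Fin m → F) :
    act (plusForm m F) (levi (diagUnit i u)) x =
      Function.update (Function.update x (Sum.inl i) ((u : F) * x (Sum.inl i))) (Sum.inr i)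
        ((u : F)⁻¹ * x (Sum.inr i)) := by
  show fromBlocks ((diagUnit i u : GL (Fin m) F) : Matrix (Fin m) (Fin m) F) 0 0
    (((diagUnit i u)⁻¹ : GL (Fin m) F) : Matrix (Fin m) (Fin m) F)ᵀ *ᵥ x = _
  rw [← map_inv, diagUnit_coe, diagUnit_coe, diagonal_transpose, fromBlocks_mulVec]
  ext k
  rcases k with k | k
  · rw [Function.update_of_ne (by simp)]
    simp only [Sum.elim_inl, Matrix.zero_mulVec, add_zero, mulVec_diagonal, Function.comp_apply]
    by_cases hk : k = i
    · subst hk
      rw [Function.update_self, Pi.mulSingle_eq_same]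
    · rw [Function.update_of_ne (by simpa using hk), Pi.mulSingle_eq_of_ne hk]
      simp
  · simp only [Sum.elim_inr, Matrix.zero_mulVec, zero_add, mulVec_diagonal, Function.comp_apply]
    by_cases hk : k = i
    · subst hk
      rw [Function.update_self, Pi.mulSingle_eq_same]
      simp
    · rw [Function.update_of_ne (by simpa using hk), Function.update_of_ne (by simp),
        Pi.mulSingle_eq_of_ne hk]
      simp

/-- `diag(u at i)` is the product of the reflections in `e_i - f_i` and `e_i - u f_i` -/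
theorem isRep_levi_diagUnit (i : Fin m) (u : Fˣ) :
    IsRep (plusForm m F) (levi (diagUnit i u)) [vvec i 1, vvec i (u : F)] := by
  refine ⟨?_, ?_⟩
  · intro v hv
    simp only [List.mem_cons, List.not_mem_nil, or_false] at hv
    rcases hv with rfl | rfl
    · rw [plus_vvec]; simp
    · rw [plus_vvec]; simp
  · rw [ext_iff_mulVec]
    intro x
    have h1 : ((levi (diagUnit i u) : ↥(isometryGroup F ⇑(plusForm m F))) :
      GL (Fin m ⊕ Fin m) F).1 *ᵥ x = act (plusForm m F) (levi (diagUnit i u)) x := rfl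
    rw [h1, levi_diagUnit_mulVec, rprod_cons, rprod_cons, rprod_nil, Matrix.mul_one,
      ← mulVec_mulVec, refl_vvec i (u : F) u.ne_zero, refl_vvec i 1 one_ne_zero]
    ext k
    rcases k with k | k
    · by_cases hk : k = i
      · subst hk
        simp [Function.update_apply]
      · simp [Function.update_apply, hk]
    · by_cases hk : k = i
      · subst hk
        simp [Function.update_apply]
      · simp [Function.update_apply, hk]

/-- the isometry interchanging `e_i` and `f_i` for all `i` -/
noncomputable def wswap : ↥(isometryGroup F ⇑(plusForm m F)) :=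
  ⟨⟨fromBlocks 0 1 1 0, fromBlocks 0 1 1 0,
      by simp [fromBlocks_multiply, fromBlocks_one], by simp [fromBlocks_multiply, fromBlocks_one]⟩,
    by
      rw [OrthCard.mem_isometryGroup_iff]
      intro v
      apply plus_fromBlocks_anti
      simp⟩

theorem wswap_coe :
    (((wswap : ↥(isometryGroup F ⇑(plusForm m F))) : GL (Fin m ⊕ Fin m) F) :
      Matrix (Fin m ⊕ Fin m) (Fin m ⊕ Fin m) F) = fromBlocks 0 1 1 0 := rfl

theorem act_wswap (x : Fin m ⊕ Fin m → F) (k : Fin m ⊕ Fin m) :
    act (plusForm m F) wswap x k = x (Sum.swap k) := by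
  show (fromBlocks (0 : Matrix (Fin m) (Fin m) F) 1 1 0 *ᵥ x) k = _
  rw [fromBlocks_mulVec]
  rcases k with k | k <;> simp

/-- a product of coordinate swaps -/
theorem rprod_swaps (L : List (Fin m)) (hL : L.Nodup) (x : Fin m ⊕ Fin m → F) :
    rprod (plusForm m F) (L.map (fun i => vvec i (1 : F))) *ᵥ x =
      fun k => if Sum.elim id id k ∈ L then x (Sum.swap k) else x k := by
  induction L generalizing x with
  | nil =>
    rw [List.map_nil, rprod_nil, one_mulVec]
    simp
  | cons i L ih =>
    rw [List.nodup_cons] at hL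
    rw [List.map_cons, rprod_cons, ← mulVec_mulVec, ih hL.2, refl_vvec i 1 one_ne_zero]
    ext k
    rcases k with k | k
    · by_cases hk : k = i
      · subst hk
        simp [Function.update_apply, hL.1]
      · by_cases hkL : k ∈ L <;> simp [Function.update_apply, hk, hkL]
    · by_cases hk : k = i
      · subst hk
        simp [Function.update_apply, hL.1]
      · by_cases hkL : k ∈ L <;> simp [Function.update_apply, hk, hkL]

theorem isRep_wswap :
    IsRep (plusForm m F) (wswap : ↥(isometryGroup F ⇑(plusForm m F)))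
      ((List.finRange m).map (fun i => vvec i (1 : F))) := by
  refine ⟨?_, ?_⟩
  · intro v hv
    rw [List.mem_map] at hv
    obtain ⟨i, -, rfl⟩ := hv
    rw [plus_vvec]
    simp
  · rw [ext_iff_mulVec]
    intro x
    rw [rprod_swaps _ (List.nodup_finRange m)]
    ext k
    rw [if_pos (List.mem_finRange _)]
    exact act_wswap x k

section general
variable {ι : Type} [Fintype ι] [DecidableEq ι] [Finite F] (Q : QuadraticForm F (ι → F))

theorem mem_commutator_iff_of {G : Type*} [Group G] (g : G) :
    g ∈ commutator G ↔ Abelianization.of g = 1 := by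
  rw [← Abelianization.ker_of, MonoidHom.mem_ker]

/-- the product of two reflections whose norms lie in the same square class lies in `Ω` -/
theorem refl_pair_mem (hQ : (polarBilin Q).Nondegenerate) (v w : ι → F) (hv : Q v ≠ 0)
    (hw : Q w ≠ 0) (hsq : IsSquare (Q v * Q w)) :
    reflection Q v hv * reflection Q w hw ∈ commutator ↥(isometryGroup F ⇑Q) := by
  obtain ⟨g, hg⟩ := exists_conj_reflection Q hQ v w hv hw hsq
  rw [mem_commutator_iff_of, ← hg, map_mul, map_mul, map_mul, map_inv]
  rw [mul_comm (Abelianization.of g), mul_assoc, mul_inv_cancel, mul_one, ← map_mul]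
  have : reflection Q v hv * reflection Q v hv = 1 := by
    apply Subtype.ext
    apply Units.ext
    exact reflection_mul_self Q v hv
  rw [this, map_one]

/-- an element with a two-reflection representation with square norm product lies in `Ω` -/
theorem mem_of_isRep_pair (hQ : (polarBilin Q).Nondegenerate) (g : ↥(isometryGroup F ⇑Q))
    (v w : ι → F) (hg : IsRep Q g [v, w]) (hsq : IsSquare (Q v * Q w)) :
    g ∈ commutator ↥(isometryGroup F ⇑Q) := by
  have hv : Q v ≠ 0 := hg.1 v (by simp)
  have hw : Q w ≠ 0 := hg.1 w (by simp)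
  have : g = reflection Q v hv * reflection Q w hw := by
    rw [rep_eq_prod Q hg]
    simp [reflE_of_ne Q v hv, reflE_of_ne Q w hw]
  rw [this]
  exact refl_pair_mem Q hQ v w hv hw hsq

/-- an even product of reflections in vectors of the same norm lies in `Ω` -/
theorem mem_of_isRep_const (hQ : (polarBilin Q).Nondegenerate) (g : ↥(isometryGroup F ⇑Q))
    (vs : List (ι → F)) (hg : IsRep Q g vs) (c : F) (hc : c ≠ 0) (hvs : ∀ v ∈ vs, Q v = c)
    (heven : Even vs.length) : g ∈ commutator ↥(isometryGroup F ⇑Q) := by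
  rw [mem_commutator_iff_of, rep_eq_prod Q hg, map_list_prod, List.map_map]
  obtain ⟨v0, hv0⟩ : ∃ ρ : Abelianization ↥(isometryGroup F ⇑Q), ρ * ρ = 1 ∧
      ∀ v ∈ vs, (Abelianization.of ∘ reflE Q) v = ρ := by
    rcases vs with _ | ⟨v, vs⟩
    · exact ⟨1, by simp, by simp⟩
    · refine ⟨Abelianization.of (reflE Q v), ?_, ?_⟩
      · rw [← map_mul, reflE_mul_self, map_one]
      · intro w hw
        have hv : Q v ≠ 0 := by rw [hvs v (by simp)]; exact hc
        have hw' : Q w ≠ 0 := by rw [hvs w hw]; exact hc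
        exact pi_reflE_eq Q Abelianization.of hQ w v hw' hv (by rw [hvs w hw, hvs v (by simp)])
  rw [List.map_congr_left hv0.2, List.map_const', List.prod_replicate]
  obtain ⟨k, hk⟩ := heven
  rw [hk, pow_add, ← mul_pow, hv0.1, one_pow]

end general

section main
variable [Fintype F]

theorem cond_of (hm : 1 ≤ m) (h : Fintype.card F ≠ 2 ∨ m ≠ 2) : Cond (Fin m) F := by
  rcases h with h | h
  · exact Or.inl (exists_ne_zero_one h)
  · right
    rw [Fintype.card_fin]
    omega

theorem card_idx : Fintype.card (Fin m ⊕ Fin m) = 2 * m := by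
  rw [Fintype.card_sum, Fintype.card_fin]; ring

theorem hex_of (h : Fintype.card F ≠ 2 ∨ m ≠ 2) :
    Fintype.card (Fin m ⊕ Fin m) = 4 → ∃ a : F, a ≠ 0 ∧ a ≠ 1 := by
  intro h4
  rw [card_idx] at h4
  rcases h with h | h
  · exact exists_ne_zero_one h
  · omega

/-- the image of `diag(u, 1, …, 1)` lies in `Ω` iff `u` is a square -/
theorem levi_diagUnit_mem_iff (hm : 1 ≤ m) (i : Fin m) (u : Fˣ) :
    levi (diagUnit i u) ∈ Omega F ⇑(plusForm m F) ↔ IsSquare (u : F) := by
  have hrep := isRep_levi_diagUnit (F := F) i u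
  have hprod : plusForm m F (vvec i 1) * plusForm m F (vvec i (u : F)) = (u : F) := by
    rw [plus_vvec, plus_vvec]; ring
  constructor
  · intro hmem
    by_cases h2 : (2 : F) = 0
    · have : CharP F 2 := CharTwo.of_one_ne_zero_of_two_eq_zero one_ne_zero h2
      exact FiniteField.isSquare_of_char_two (ringChar.eq F 2) _
    · have hn : 2 ≤ Fintype.card (Fin m ⊕ Fin m) := by rw [card_idx]; omega
      have := (mem_commutator_iff (plusForm m F) h2 (plus_nondegenerate m) hn _ _ hrep).mp hmem
      have h3 := this.2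
      simp only [List.map_cons, List.map_nil, List.prod_cons, List.prod_nil, mul_one] at h3
      rw [hprod] at h3
      exact h3
  · intro hsq
    exact mem_of_isRep_pair (plusForm m F) (plus_nondegenerate m) _ _ _ hrep (by rw [hprod]; exact hsq)

/-- `diag(A, A⁻ᵀ)` lies in `Ω` iff `det A` is a square -/
theorem levi_mem_iff (hm : 1 ≤ m) (h : Fintype.card F ≠ 2 ∨ m ≠ 2) (A : GL (Fin m) F) :
    levi A ∈ Omega F ⇑(plusForm m F) ↔ IsSquare (A : Matrix (Fin m) (Fin m) F).det := by
  have key := map_eq_map_diagUnit ((Abelianization.of).comp (levi (m := m) (F := F)))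
    (cond_of hm h) ⟨0, hm⟩ A
  simp only [MonoidHom.coe_comp, Function.comp_apply] at key
  have h1 : levi A ∈ Omega F ⇑(plusForm m F) ↔
      levi (diagUnit (⟨0, hm⟩ : Fin m) (GeneralLinearGroup.det A)) ∈ Omega F ⇑(plusForm m F) := by
    show _ ∈ commutator _ ↔ _ ∈ commutator _
    rw [mem_commutator_iff_of, mem_commutator_iff_of, key]
  rw [h1, levi_diagUnit_mem_iff hm, GeneralLinearGroup.val_det_apply]

/-- the Dickson/parity invariant is trivial on the Levi subgroup -/
theorem par_levi (hm : 1 ≤ m) (h : Fintype.card F ≠ 2 ∨ m ≠ 2) (A : GL (Fin m) F) :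
    Dickson.par (plusForm m F) (plus_nondegenerate m) (hex_of h) (levi A) = 1 := by
  have key := map_eq_map_diagUnit
    ((Dickson.par (plusForm m F) (plus_nondegenerate m) (hex_of h)).comp (levi (m := m) (F := F)))
    (cond_of hm h) ⟨0, hm⟩ A
  simp only [MonoidHom.coe_comp, Function.comp_apply] at key
  rw [key, Dickson.par_eq _ _ _ _ _ (isRep_levi_diagUnit _ _)]
  simp

theorem par_wswap (h : Fintype.card F ≠ 2 ∨ m ≠ 2) :
    Dickson.par (plusForm m F) (plus_nondegenerate m) (hex_of h) wswap = (-1) ^ m := by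
  rw [Dickson.par_eq _ _ _ _ _ isRep_wswap, List.length_map, List.length_finRange]

theorem wswap_mem (heven : Even m) : (wswap : ↥(isometryGroup F ⇑(plusForm m F))) ∈
    Omega F ⇑(plusForm m F) := by
  refine mem_of_isRep_const (plusForm m F) (plus_nondegenerate m) _ _ isRep_wswap (-1)
    (by simp) ?_ (by rw [List.length_map, List.length_finRange]; exact heven)
  intro v hv
  rw [List.mem_map] at hv
  obtain ⟨i, -, rfl⟩ := hv
  rw [plus_vvec]

theorem wswap_mul_self : (wswap : ↥(isometryGroup F ⇑(plusForm m F))) * wswap = 1 := by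
  apply Subtype.ext
  apply Units.ext
  show fromBlocks (0 : Matrix (Fin m) (Fin m) F) 1 1 0 * fromBlocks 0 1 1 0 = 1
  simp [fromBlocks_multiply, fromBlocks_one]

/-- the value of the plus form on a block-diagonal image -/
theorem plus_fromBlocks' (A D : Matrix (Fin m) (Fin m) F) (v : Fin m ⊕ Fin m → F) :
    plusForm m F (fromBlocks A 0 0 D *ᵥ v) = (v ∘ Sum.inl) ⬝ᵥ ((Aᵀ * D) *ᵥ (v ∘ Sum.inr)) := by
  rw [plusForm_apply, fromBlocks_mulVec]
  simp only [Cfsg.quadFormPlus, Sum.elim_inl, Sum.elim_inr, Matrix.zero_mulVec, add_zero, zero_add]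
  show (A *ᵥ (v ∘ Sum.inl)) ⬝ᵥ (D *ᵥ (v ∘ Sum.inr)) = _
  rw [← vecMul_transpose, ← dotProduct_mulVec, mulVec_mulVec]

/-- an isometry which is block diagonal comes from the Levi subgroup -/
theorem eq_levi_of_blocks (g : ↥(isometryGroup F ⇑(plusForm m F))) (C B : Matrix (Fin m) (Fin m) F)
    (hg : ((g : GL (Fin m ⊕ Fin m) F) : Matrix (Fin m ⊕ Fin m) (Fin m ⊕ Fin m) F) =
      fromBlocks C 0 0 B) : ∃ A : GL (Fin m) F, g = levi A := by
  have hCB : Cᵀ * B = 1 := by
    ext i j
    have h1 := quad_act (plusForm m F) g (Sum.elim (Pi.single i 1) (Pi.single j 1))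
    unfold act at h1
    rw [hg, plus_fromBlocks', plusForm_apply] at h1
    simp only [Cfsg.quadFormPlus, Sum.elim_inl, Sum.elim_inr] at h1
    have h2 : (Sum.elim (Pi.single i (1 : F)) (Pi.single j (1 : F)) : Fin m ⊕ Fin m → F) ∘ Sum.inl =
        Pi.single i 1 := by ext k; simp
    have h3 : (Sum.elim (Pi.single i (1 : F)) (Pi.single j (1 : F)) : Fin m ⊕ Fin m → F) ∘ Sum.inr =
        Pi.single j 1 := by ext k; simp
    rw [h2, h3, single_dotProduct, one_mul, mulVec_single_one] at h1
    rw [show (Cᵀ * B) i j = (Cᵀ * B).col j i from rfl, h1, Matrix.one_apply]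
    simp [Pi.single_apply, eq_comm]
  have hdet : C.det ≠ 0 := by
    intro h0
    have := congrArg Matrix.det hCB
    rw [det_mul, det_transpose, h0, zero_mul, det_one] at this
    exact zero_ne_one this
  refine ⟨GeneralLinearGroup.mkOfDetNeZero C hdet, ?_⟩
  apply Subtype.ext
  apply Units.ext
  rw [hg, levi_coe]
  have hB : B = (C⁻¹)ᵀ := by
    rw [Matrix.transpose_nonsing_inv]
    exact (Matrix.inv_eq_right_inv hCB).symm
  rw [hB]
  rfl

end main

end Cfsg.Agent.Lib.Helper5.PlusLevi
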