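import Mathlib
import Cfsg.Prelude.Def_GeometricClasses
import Cfsg.Agent.Lib.Helper5.SpSingularMax

set_option autoImplicit false

/-! The stabiliser of a non-degenerate subspace of dimension `< m` is maximal in `Sp_{2m}`. -/

namespace Cfsg.Agent.Lib.Helper5.SpNondegMax

open Matrix Cfsg Cfsg.Agent.Lib.Helper5.SympTv Cfsg.Agent.Lib.Helper5.SympGen
  Cfsg.Agent.Lib.Helper5.SympBridge Cfsg.Agent.Lib.Helper5.SpCentres
  Cfsg.Agent.Lib.Helper5.SpSingularMax

variable {F : Type*} [Field F] {m : ℕ}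

/-- a linear image of a subspace inside a union of two subspaces lies in one of them -/
theorem union_lemma {V' : Type*} [AddCommGroup V'] [Module F V'] (U A B : Submodule F V')
    (f : V' →ₗ[F] V') (h : ∀ u ∈ U, f u ∈ A ∨ f u ∈ B) :
    (∀ u ∈ U, f u ∈ A) ∨ (∀ u ∈ U, f u ∈ B) := by
  by_contra hcon
  push Not at hcon
  obtain ⟨⟨u₁, hu₁, h₁⟩, ⟨u₂, hu₂, h₂⟩⟩ := hcon
  have h₁B : f u₁ ∈ B := (h u₁ hu₁).resolve_left h₁
  have h₂A : f u₂ ∈ A := (h u₂ hu₂).resolve_right h₂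
  rcases h (u₁ + u₂) (U.add_mem hu₁ hu₂) with h3 | h3
  · rw [map_add] at h3
    exact h₁ ((Submodule.add_mem_iff_left A h₂A).mp h3)
  · rw [map_add] at h3
    exact h₂ ((Submodule.add_mem_iff_right B h₁B).mp h3)

/-- vectors of `W` are centres -/
theorem isCentre_of_mem (W : Submodule F (Fin m ⊕ Fin m → F))
    (M : Subgroup (Matrix.GeneralLinearGroup (Fin m ⊕ Fin m) F))
    (hPM : Cfsg.Geo.subspaceStabilizer W ⊓ spGL m F ≤ M) (v : Fin m ⊕ Fin m → F)
    (hv : v ∈ W) : IsCentre m M v := by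
  intro c
  apply hPM
  rw [Subgroup.mem_inf]
  refine ⟨mem_stab_of_map_le W _ ?_, tvGL_mem m v c⟩
  intro x hx
  rw [tvGL_mulVec]
  exact W.add_mem hx (W.smul_mem _ hv)

/-- two non-zero vectors of a non-degenerate subspace are linked by a third -/
theorem exists_link (A : Submodule F (Fin m ⊕ Fin m → F))
    (hnd : ∀ a ∈ A, a ≠ 0 → ∃ x ∈ A, sympForm m F a x ≠ 0) (a₀ a : Fin m ⊕ Fin m → F)
    (ha₀ : a₀ ∈ A) (ha : a ∈ A) (ha₀0 : a₀ ≠ 0) (ha0 : a ≠ 0) :
    ∃ a₁ ∈ A, sympForm m F a₀ a₁ ≠ 0 ∧ sympForm m F a₁ a ≠ 0 := by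
  obtain ⟨x, hx, hax⟩ := hnd a₀ ha₀ ha₀0
  obtain ⟨y, hy, hay⟩ := hnd a ha ha0
  have hya : sympForm m F y a ≠ 0 := by rw [sympForm_swap]; exact neg_ne_zero.mpr hay
  by_cases h1 : sympForm m F x a = 0
  · by_cases h2 : sympForm m F a₀ y = 0
    · refine ⟨x + y, A.add_mem hx hy, ?_, ?_⟩
      · rw [sympForm_add_right, h2, add_zero]; exact hax
      · rw [sympForm_add_left, h1, zero_add]; exact hya
    · exact ⟨y, hy, h2, hya⟩
  · exact ⟨x, hx, hax, h1⟩

/-- spreading a centre `a₀ + b` along the first component -/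
theorem spread {M : Subgroup (Matrix.GeneralLinearGroup (Fin m ⊕ Fin m) F)}
    (hMS : M ≤ spGL m F) (A B' : Submodule F (Fin m ⊕ Fin m → F))
    (hA : ∀ a ∈ A, IsCentre m M a)
    (horth : ∀ a ∈ A, ∀ b ∈ B', sympForm m F b a = 0)
    (hnd : ∀ a ∈ A, a ≠ 0 → ∃ x ∈ A, sympForm m F a x ≠ 0)
    (a₀ a : Fin m ⊕ Fin m → F) (ha₀ : a₀ ∈ A) (ha : a ∈ A) (ha₀0 : a₀ ≠ 0) (ha0 : a ≠ 0)
    (b : Fin m ⊕ Fin m → F) (hb : b ∈ B') (h : IsCentre m M (a₀ + b)) :
    IsCentre m M (a + b) := by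
  have step : ∀ a₀ a₁ : Fin m ⊕ Fin m → F, a₀ ∈ A → a₁ ∈ A → sympForm m F a₀ a₁ ≠ 0 →
      IsCentre m M (a₀ + b) → IsCentre m M (a₁ + b) := by
    intro a₀ a₁ ha₀ ha₁ h01 hC
    have hv : a₁ - a₀ ∈ A := A.sub_mem ha₁ ha₀
    have h1 := isCentre_add_smul hMS (hA _ hv) hC (by
      rw [sympForm_add_left, sympForm_sub_right, sympForm_self, sub_zero, horth _ hv b hb,
        add_zero]
      exact h01) 1
    have e : a₀ + b + (1 : F) • (a₁ - a₀) = a₁ + b := by rw [one_smul]; abel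
    rw [e] at h1
    exact h1
  obtain ⟨a₁, ha₁, h01, h1a⟩ := exists_link A hnd a₀ a ha₀ ha ha₀0 ha0
  exact step a₁ a ha₁ ha h1a (step a₀ a₁ ha₀ ha₁ h01 h)

theorem isMaximalIn (W : Submodule F (Fin m ⊕ Fin m → F)) (hW0 : W ≠ ⊥)
    (hW : Cfsg.Geo.IsNondegenerateOn (sympForm m F) W) (hdim : Module.finrank F W < m) :
    Cfsg.Geo.IsMaximalIn (spGL m F) (Cfsg.Geo.subspaceStabilizer W ⊓ spGL m F) := by
  have hndW : ∀ a ∈ W, a ≠ 0 → ∃ x ∈ W, sympForm m F a x ≠ 0 := fun a ha ha0 => (hW a ha ha0).2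
  have hinf : W ⊓ perp m W = ⊥ := by
    rw [eq_bot_iff]
    intro x hx
    rw [Submodule.mem_bot]
    by_contra hx0
    obtain ⟨y, hy, hyx⟩ := (hW x hx.1 hx0).1
    exact hyx ((mem_perp W x).mp hx.2 y hy)
  have hcompl : IsCompl W (perp m W) :=
    (LinearMap.BilinForm.isCompl_orthogonal_iff_disjoint (sympBilin_isAlt m).isRefl).mpr
      (disjoint_iff.mpr hinf)
  have hdecomp : ∀ x : Fin m ⊕ Fin m → F, ∃ a ∈ W, ∃ b ∈ perp m W, a + b = x := by
    intro x
    have : x ∈ W ⊔ perp m W := by rw [hcompl.sup_eq_top]; exact Submodule.mem_top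
    exact Submodule.mem_sup.mp this
  have horth1 : ∀ a ∈ W, ∀ b ∈ perp m W, sympForm m F b a = 0 := by
    intro a ha b hb
    rw [sympForm_swap, (mem_perp W b).mp hb a ha, neg_zero]
  have horth2 : ∀ b ∈ perp m W, ∀ a ∈ W, sympForm m F a b = 0 :=
    fun b hb a ha => (mem_perp W b).mp hb a ha
  have hndP : ∀ b ∈ perp m W, b ≠ 0 → ∃ y ∈ perp m W, sympForm m F b y ≠ 0 := by
    intro b hb hb0
    obtain ⟨z, hz⟩ := Cfsg.Agent.Lib.Helper5.SympPerfect.exists_partner m b hb0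
    obtain ⟨a, ha, y, hy, rfl⟩ := hdecomp z
    refine ⟨y, hy, ?_⟩
    rw [sympForm_add_right, horth1 a ha b hb, zero_add] at hz
    rw [hz]
    exact one_ne_zero
  have hfinP : Module.finrank F (perp m W) = 2 * m - Module.finrank F W := by
    unfold perp
    rw [LinearMap.BilinForm.finrank_orthogonal (sympBilin_nondegenerate m),
      Module.finrank_fintype_fun_eq_card, Fintype.card_sum, Fintype.card_fin, two_mul]
  obtain ⟨w₀, hw₀, hw₀0⟩ := (Submodule.ne_bot_iff W).1 hW0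
  have hPne : perp m W ≠ ⊥ := by
    intro h
    rw [h, finrank_bot] at hfinP
    omega
  obtain ⟨b₀, hb₀, hb₀0⟩ := (Submodule.ne_bot_iff _).1 hPne
  have hb₀W : b₀ ∉ W := by
    intro h
    have : b₀ ∈ W ⊓ perp m W := ⟨h, hb₀⟩
    rw [hinf, Submodule.mem_bot] at this
    exact hb₀0 this
  refine ⟨lt_of_le_of_ne inf_le_right ?_, ?_⟩
  · intro h
    obtain ⟨x, hx, hwx⟩ := hndW w₀ hw₀ hw₀0
    have hmem : tvGL m (x + b₀) 1 ∈ Cfsg.Geo.subspaceStabilizer W ⊓ spGL m F := by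
      rw [h]; exact tvGL_mem m _ 1
    have h1 := ((mem_stab_iff W _).mp hmem.1 w₀).mp hw₀
    rw [tvGL_mulVec, one_mul, sympForm_add_right, horth2 b₀ hb₀ w₀ hw₀, add_zero] at h1
    have h2 : sympForm m F w₀ x • (x + b₀) ∈ W := (Submodule.add_mem_iff_right W hw₀).mp h1
    have h3 : x + b₀ ∈ W := by
      have := W.smul_mem (sympForm m F w₀ x)⁻¹ h2
      rwa [smul_smul, inv_mul_cancel₀ hwx, one_smul] at this
    exact hb₀W ((Submodule.add_mem_iff_right W hx).mp h3)
  · intro M hPM hMS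
    by_cases hMP : M ≤ Cfsg.Geo.subspaceStabilizer W ⊓ spGL m F
    · left
      exact le_antisymm hMP hPM
    right
    apply le_antisymm hMS
    apply spGL_le
    have hCW : ∀ a ∈ W, IsCentre m M a := fun a ha => isCentre_of_mem W M hPM a ha
    have hCP : ∀ b ∈ perp m W, IsCentre m M b := fun b hb => isCentre_of_mem_perp W M hPM b hb
    -- a mixed centre
    obtain ⟨s, hsC, hsW, hsP⟩ : ∃ s, IsCentre m M s ∧ s ∉ W ∧ s ∉ perp m W := by
      by_contra hcon
      push Not at hcon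
      have hpure : ∀ s, IsCentre m M s → s ∈ W ∨ s ∈ perp m W := by
        intro s hs
        by_cases h : s ∈ W
        · exact Or.inl h
        · exact Or.inr (hcon s hs h)
      apply hMP
      intro g hgM
      rw [Subgroup.mem_inf]
      refine ⟨?_, hMS hgM⟩
      have h1 : ∀ w ∈ W, Matrix.mulVecLin (g : Matrix (Fin m ⊕ Fin m) (Fin m ⊕ Fin m) F) w ∈ W ∨
          Matrix.mulVecLin (g : Matrix (Fin m ⊕ Fin m) (Fin m ⊕ Fin m) F) w ∈ perp m W :=
        fun w hw => hpure _ (isCentre_mulVec hMS g hgM (hCW w hw))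
      have h2 : ∀ y ∈ perp m W,
          Matrix.mulVecLin (g : Matrix (Fin m ⊕ Fin m) (Fin m ⊕ Fin m) F) y ∈ W ∨
          Matrix.mulVecLin (g : Matrix (Fin m ⊕ Fin m) (Fin m ⊕ Fin m) F) y ∈ perp m W :=
        fun y hy => hpure _ (isCentre_mulVec hMS g hgM (hCP y hy))
      have hinj : Function.Injective
          (Matrix.mulVecLin (g : Matrix (Fin m ⊕ Fin m) (Fin m ⊕ Fin m) F)) := by
        intro a b hab
        have := congrArg (fun y => ((g⁻¹ : Matrix.GeneralLinearGroup (Fin m ⊕ Fin m) F) :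
          Matrix (Fin m ⊕ Fin m) (Fin m ⊕ Fin m) F) *ᵥ y) hab
        simp only [Matrix.mulVecLin_apply, mulVec_mulVec] at this
        rw [← Units.val_mul, inv_mul_cancel, Units.val_one, one_mulVec, one_mulVec] at this
        exact this
      rcases union_lemma W W (perp m W) _ h1 with h3 | h3
      · exact mem_stab_of_map_le W g h3
      · exfalso
        rcases union_lemma (perp m W) W (perp m W) _ h2 with h4 | h4
        · -- dimension contradiction
          let f : perp m W →ₗ[F] W :=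
            (Matrix.mulVecLin (g : Matrix (Fin m ⊕ Fin m) (Fin m ⊕ Fin m) F)).restrict h4
          have hf : Function.Injective f := by
            intro a b hab
            have := congrArg Subtype.val hab
            exact Subtype.ext (hinj this)
          have := LinearMap.finrank_le_finrank_of_injective hf
          omega
        · -- everything is mapped into the perp
          have hall : ∀ x, Matrix.mulVecLin
              (g : Matrix (Fin m ⊕ Fin m) (Fin m ⊕ Fin m) F) x ∈ perp m W := by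
            intro x
            obtain ⟨a, ha, b, hb, rfl⟩ := hdecomp x
            rw [map_add]
            exact (perp m W).add_mem (h3 a ha) (h4 b hb)
          have h5 := hall (((g⁻¹ : Matrix.GeneralLinearGroup (Fin m ⊕ Fin m) F) :
            Matrix (Fin m ⊕ Fin m) (Fin m ⊕ Fin m) F) *ᵥ w₀)
          rw [Matrix.mulVecLin_apply, mulVec_mulVec, ← Units.val_mul, mul_inv_cancel,
            Units.val_one, one_mulVec] at h5
          have : w₀ ∈ W ⊓ perp m W := ⟨hw₀, h5⟩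
          rw [hinf, Submodule.mem_bot] at this
          exact hw₀0 this
    obtain ⟨a₀, ha₀, b₁, hb₁, hs⟩ := hdecomp s
    have ha₀0 : a₀ ≠ 0 := by
      rintro rfl
      rw [zero_add] at hs
      rw [← hs] at hsP
      exact hsP hb₁
    have hb₁0 : b₁ ≠ 0 := by
      rintro rfl
      rw [add_zero] at hs
      rw [← hs] at hsW
      exact hsW ha₀
    rw [← hs] at hsC
    intro x
    obtain ⟨a, ha, b, hb, rfl⟩ := hdecomp x
    by_cases ha0 : a = 0
    · rw [ha0, zero_add]; exact hCP b hb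
    by_cases hb0 : b = 0
    · rw [hb0, add_zero]; exact hCW a ha
    have h1 : IsCentre m M (a + b₁) :=
      spread hMS W (perp m W) hCW horth1 hndW a₀ a ha₀ ha ha₀0 ha0 b₁ hb₁ hsC
    rw [add_comm] at h1
    have h2 : IsCentre m M (b + a) :=
      spread hMS (perp m W) W hCP horth2 hndP b₁ b hb₁ hb hb₁0 hb0 a ha h1
    rw [add_comm]
    exact h2

end Cfsg.Agent.Lib.Helper5.SpNondegMax
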