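import Mathlib
import Cfsg.Prelude
import Cfsg.Agent.Lib.Helper5.OrthSingularMax
import Cfsg.Agent.Lib.Helper5.PlusLevi
import Cfsg.Agent.Lib.Helper5.SpNondegMax

set_option autoImplicit false
set_option linter.unusedSectionVars false
set_option linter.unusedVariables false
open Cfsg

/-! The stabiliser of a pair of complementary totally singular subspaces of even dimension is a
maximal subgroup of `Ω⁺(Q)`. -/

namespace Cfsg.Agent.Lib.Helper5.OrthPairMax

open Matrix QuadraticMap Module Cfsg.Agent.Lib.Helper5.CartanDieudonne Cfsg.Agent.Lib.Helper5.Refl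
  Cfsg.Agent.Lib.Helper5.OrthCard Cfsg.Agent.Lib.Helper5.Siegel Cfsg.Agent.Lib.Helper5.QuadIsom
  Cfsg.Agent.Lib.Helper5.ReflGen Cfsg.Agent.Lib.Helper5.Eichler Cfsg.Agent.Lib.Helper5.SingGeom
  Cfsg.Agent.Lib.Helper5.OmegaGen Cfsg.Agent.Lib.Helper5.OmegaSimple Cfsg.Agent.Lib.Helper5.MaxTS
  Cfsg.Agent.Lib.Helper5.SpSingularMax Cfsg.Agent.Lib.Helper5.OrthSingularMax

variable {ι : Type} [Fintype ι] [DecidableEq ι] {F : Type*} [Field F] [Fintype F]

section calculus
variable (Q : QuadraticForm F (ι → F))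

open Classical in
/-- the Eichler transformation, trivial when the side conditions fail -/
noncomputable def EG (u z : ι → F) : ↥(isometryGroup F ⇑Q) :=
  if h : Q u = 0 ∧ polar ⇑Q u z = 0 then eich Q u z h.1 h.2 else 1

theorem EG_eq (u z : ι → F) (hu : Q u = 0) (huz : polar ⇑Q u z = 0) :
    EG Q u z = eich Q u z hu huz := by
  unfold EG
  rw [dif_pos ⟨hu, huz⟩]

theorem act_EG (u z : ι → F) (hu : Q u = 0) (huz : polar ⇑Q u z = 0) (x : ι → F) :
    act Q (EG Q u z) x =
      x + polar ⇑Q u x • z + (-(polar ⇑Q z x + Q z * polar ⇑Q u x)) • u := by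
  rw [EG_eq Q u z hu huz, act_eich, eichlerMap_apply]

/-- the pair `(x, y)` carries a full root subgroup of `M` -/
def InE (M : Subgroup (Matrix.GeneralLinearGroup ι F)) (x y : ι → F) : Prop :=
  Q x = 0 ∧ polar ⇑Q x y = 0 ∧
    ∀ s : F, ((EG Q x (s • y) : ↥(isometryGroup F ⇑Q)) : Matrix.GeneralLinearGroup ι F) ∈ M

variable {Q}
variable {M : Subgroup (Matrix.GeneralLinearGroup ι F)}

theorem inE_smul_right {x y : ι → F} (c : F) (h : InE Q M x y) : InE Q M x (c • y) := by
  refine ⟨h.1, by rw [polar_smul_right, h.2.1, smul_zero], fun s => ?_⟩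
  rw [smul_smul]
  exact h.2.2 (s * c)

theorem inE_add {x y y' : ι → F} (h : InE Q M x y) (h' : InE Q M x y') :
    InE Q M x (y + y') := by
  refine ⟨h.1, by rw [polar_add_right, h.2.1, h'.2.1, add_zero], fun s => ?_⟩
  have h1 : polar ⇑Q x (s • y) = 0 := by rw [polar_smul_right, h.2.1, smul_zero]
  have h2 : polar ⇑Q x (s • y') = 0 := by rw [polar_smul_right, h'.2.1, smul_zero]
  have h3 : polar ⇑Q x (s • y + s • y') = 0 := by rw [polar_add_right, h1, h2, add_zero]
  have e : EG Q x (s • (y + y')) = EG Q x (s • y) * EG Q x (s • y') := by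
    rw [smul_add, EG_eq Q _ _ h.1 h1, EG_eq Q _ _ h.1 h2, eich_mul, EG_eq Q _ _ h.1 h3]
  rw [e]
  exact M.mul_mem (h.2.2 s) (h'.2.2 s)

theorem inE_neg {x y : ι → F} (h : InE Q M x y) : InE Q M x (-y) := by
  have := inE_smul_right (-1) h
  rwa [neg_one_smul] at this

theorem inE_sub {x y y' : ι → F} (h : InE Q M x y) (h' : InE Q M x y') :
    InE Q M x (y - y') := by
  rw [sub_eq_add_neg]
  exact inE_add h (inE_neg h')

theorem inE_conj {x y : ι → F} (a : ↥(isometryGroup F ⇑Q))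
    (ha : (a : Matrix.GeneralLinearGroup ι F) ∈ M) (h : InE Q M x y) :
    InE Q M (act Q a x) (act Q a y) := by
  refine ⟨by rw [quad_act, h.1], by rw [polar_act, h.2.1], fun s => ?_⟩
  have h1 : polar ⇑Q x (s • y) = 0 := by rw [polar_smul_right, h.2.1, smul_zero]
  have e : EG Q (act Q a x) (s • act Q a y) = a * EG Q x (s • y) * a⁻¹ := by
    rw [← act_smul, EG_eq Q _ _ h.1 h1, conj_eich,
      EG_eq Q _ _ (by rw [quad_act, h.1]) (by rw [polar_act, h1])]
  rw [e]
  exact M.mul_mem (M.mul_mem ha (h.2.2 s)) (M.inv_mem ha)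

theorem inE_symm {x y : ι → F} (h : InE Q M x y) (hy : Q y = 0) : InE Q M y x := by
  have hyx : polar ⇑Q y x = 0 := by rw [polar_comm]; exact h.2.1
  refine ⟨hy, hyx, fun s => ?_⟩
  have h1 : polar ⇑Q y (s • x) = 0 := by rw [polar_smul_right, hyx, smul_zero]
  have h2 : polar ⇑Q x ((-s) • y) = 0 := by rw [polar_smul_right, h.2.1, smul_zero]
  have e : EG Q y (s • x) = EG Q x ((-s) • y) := by
    apply ext_act
    intro v
    rw [act_EG Q _ _ hy h1, act_EG Q _ _ h.1 h2]
    simp only [polar_smul_left, QuadraticMap.map_smul, h.1, hy, smul_eq_mul, mul_zero, zero_mul,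
      add_zero]
    module
  rw [e]
  exact h.2.2 (-s)

theorem inE_self {x : ι → F} (hx : Q x = 0) : InE Q M x x := by
  have hxx : polar ⇑Q x x = 0 := polar_self_of_sing Q x hx
  refine ⟨hx, hxx, fun s => ?_⟩
  have h1 : polar ⇑Q x (s • x) = 0 := by rw [polar_smul_right, hxx, smul_zero]
  have e : EG Q x (s • x) = 1 := by
    apply ext_act
    intro v
    rw [act_EG Q _ _ hx h1]
    simp only [polar_smul_left, QuadraticMap.map_smul, hx, smul_eq_mul, mul_zero, zero_mul,
      add_zero]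
    have : act Q 1 v = v := one_mulVec v
    rw [this]
    module
  rw [e]
  exact M.one_mem

/-- the root element attached to a pair in `InE` -/
theorem EG_mem_of_inE {x y : ι → F} (h : InE Q M x y) :
    ((EG Q x y : ↥(isometryGroup F ⇑Q)) : Matrix.GeneralLinearGroup ι F) ∈ M := by
  have := h.2.2 1
  rwa [one_smul] at this

theorem isCentre_of_inE_all {u : ι → F} (hu : Q u = 0)
    (h : ∀ z, polar ⇑Q u z = 0 → InE Q M u z) : IsCentre Q M u := by
  refine ⟨hu, fun hu' z huz => ?_⟩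
  have := EG_mem_of_inE (h z huz)
  rwa [EG_eq Q u z hu huz] at this

theorem EG_mem_of_isCentre {u : ι → F} (h : IsCentre Q M u) (z : ι → F)
    (huz : polar ⇑Q u z = 0) :
    ((EG Q u z : ↥(isometryGroup F ⇑Q)) : Matrix.GeneralLinearGroup ι F) ∈ M := by
  rw [EG_eq Q u z h.1 huz]
  exact h.2 h.1 z huz

end calculus

section geometry
variable {Q : QuadraticForm F (ι → F)}

theorem finrank_inf_orth (hQ : (polarBilin Q).Nondegenerate) (S T : Submodule F (ι → F)) :
    finrank F S ≤ finrank F ↥(S ⊓ orth Q T) + finrank F T := by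
  have h1 := Submodule.finrank_sup_add_finrank_inf_eq S (orth Q T)
  have h2 := finrank_orth Q hQ T
  have h3 : finrank F ↥(S ⊔ orth Q T) ≤ finrank F (ι → F) := Submodule.finrank_le _
  have h4 : finrank F T ≤ finrank F (ι → F) := Submodule.finrank_le T
  omega

theorem finrank_span_pair_le (x y : ι → F) :
    finrank F (Submodule.span F ({x, y} : Set (ι → F))) ≤ 2 := by
  classical
  have : ({x, y} : Set (ι → F)) = (({x, y} : Finset (ι → F)) : Set (ι → F)) := by simp
  rw [this]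
  exact (finrank_span_finset_le_card _).trans Finset.card_le_two

/-- a vector non-orthogonal to `x` but orthogonal to a subspace not containing `x` -/
theorem dual_vec (hQ : (polarBilin Q).Nondegenerate) (p : Submodule F (ι → F)) {x : ι → F}
    (hx : x ∉ p) : ∃ z : ι → F, polar ⇑Q x z ≠ 0 ∧ ∀ y ∈ p, polar ⇑Q y z = 0 := by
  obtain ⟨φ, hφx, hφp⟩ := Submodule.exists_dual_map_eq_bot_of_notMem hx inferInstance
  have hz : ∀ y, polar ⇑Q ((LinearMap.BilinForm.toDual (polarBilin Q) hQ).symm φ) y = φ y := fun y => by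
    rw [← polarBilin_apply_apply]
    exact LinearMap.BilinForm.apply_toDual_symm_apply φ y
  refine ⟨(LinearMap.BilinForm.toDual (polarBilin Q) hQ).symm φ, ?_, ?_⟩
  · rw [polar_comm, hz]
    exact hφx
  · intro y hy
    rw [polar_comm, hz]
    have : φ y ∈ p.map φ := ⟨y, hy, rfl⟩
    rw [hφp, Submodule.mem_bot] at this
    exact this

/-- a pair of complementary totally singular subspaces -/
structure TSPair (Q : QuadraticForm F (ι → F)) (U W : Submodule F (ι → F)) : Prop where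
  tsU : ∀ u ∈ U, Q u = 0
  tsW : ∀ w ∈ W, Q w = 0
  split : ∀ z : ι → F, ∃ u ∈ U, ∃ w ∈ W, u + w = z

theorem TSPair.symm {U W : Submodule F (ι → F)} (h : TSPair Q U W) : TSPair Q W U where
  tsU := h.tsW
  tsW := h.tsU
  split z := by
    obtain ⟨u, hu, w, hw, rfl⟩ := h.split z
    exact ⟨w, hw, u, hu, add_comm _ _⟩

theorem TSPair.polU {U W : Submodule F (ι → F)} (h : TSPair Q U W) {u u' : ι → F} (hu : u ∈ U)
    (hu' : u' ∈ U) : polar ⇑Q u u' = 0 := PlusGeom.polar_eq_zero_of_ts Q U h.tsU hu hu'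

theorem TSPair.polW {U W : Submodule F (ι → F)} (h : TSPair Q U W) {w w' : ι → F} (hw : w ∈ W)
    (hw' : w' ∈ W) : polar ⇑Q w w' = 0 := PlusGeom.polar_eq_zero_of_ts Q W h.tsW hw hw'

/-- the dual vector can be taken in the complementary subspace -/
theorem TSPair.dual_vec {U W : Submodule F (ι → F)} (h : TSPair Q U W)
    (hQ : (polarBilin Q).Nondegenerate) (p : Submodule F (ι → F)) {x : ι → F}
    (hxU : x ∈ U) (hpU : p ≤ U) (hx : x ∉ p) :
    ∃ w ∈ W, polar ⇑Q x w ≠ 0 ∧ ∀ y ∈ p, polar ⇑Q y w = 0 := by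
  obtain ⟨z, hxz, hpz⟩ := OrthPairMax.dual_vec hQ p hx
  obtain ⟨u, hu, w, hw, rfl⟩ := h.split z
  refine ⟨w, hw, ?_, ?_⟩
  · rwa [polar_add_right, h.polU hxU hu, zero_add] at hxz
  · intro y hy
    have := hpz y hy
    rwa [polar_add_right, h.polU (hpU hy) hu, zero_add] at this

theorem TSPair.inter {U W : Submodule F (ι → F)} (h : TSPair Q U W)
    (hQ : (polarBilin Q).Nondegenerate) {x : ι → F} (hU : x ∈ U) (hW : x ∈ W) : x = 0 := by
  apply hQ.1 x
  intro v
  obtain ⟨u, hu, w, hw, rfl⟩ := h.split v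
  rw [polarBilin_apply_apply, polar_add_right, h.polU hU hu, h.polW hW hw, add_zero]

theorem span_singleton_le {U : Submodule F (ι → F)} {a : ι → F} (ha : a ∈ U) :
    Submodule.span F ({a} : Set (ι → F)) ≤ U := by
  rw [Submodule.span_le]
  intro z hz
  rw [Set.mem_singleton_iff] at hz
  rw [hz]; exact ha

theorem span_pair_le {U : Submodule F (ι → F)} {a b : ι → F} (ha : a ∈ U) (hb : b ∈ U) :
    Submodule.span F ({a, b} : Set (ι → F)) ≤ U := by
  rw [Submodule.span_le]
  intro z hz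
  rcases hz with rfl | hz
  · exact ha
  · rw [Set.mem_singleton_iff] at hz
    rw [hz]; exact hb

variable {M : Subgroup (Matrix.GeneralLinearGroup ι F)}

/-- a root subgroup of `M` along a line of `U` through `a` makes `a` a centre -/
theorem TSPair.isCentre_of_pair {U W : Submodule F (ι → F)} (h : TSPair Q U W)
    (hQ : (polarBilin Q).Nondegenerate)
    (hK : ∀ a ∈ U, ∀ b ∈ W, polar ⇑Q a b = 0 → InE Q M a b) {a x' : ι → F} (haU : a ∈ U)
    (hx'U : x' ∈ U) (hx'a : x' ∉ Submodule.span F ({a} : Set (ι → F))) (hE : InE Q M a x') :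
    IsCentre Q M a := by
  obtain ⟨w, hwW, hx'w, hw⟩ := h.dual_vec hQ _ hx'U (span_singleton_le haU) hx'a
  have haw : polar ⇑Q a w = 0 := hw a (Submodule.subset_span (by simp))
  have hwa : polar ⇑Q w a = 0 := by rw [polar_comm]; exact haw
  have hwx' : polar ⇑Q w x' ≠ 0 := by rw [polar_comm]; exact hx'w
  have c1 : ∀ u ∈ U, polar ⇑Q u w = 0 → InE Q M a u := by
    intro u hu huw
    have hk := EG_mem_of_inE (hK u hu w hwW huw)
    have h3 := inE_conj (EG Q u w) hk hE
    rw [act_EG Q u w (h.tsU u hu) huw, act_EG Q u w (h.tsU u hu) huw, h.polU hu haU, hwa,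
      h.polU hu hx'U] at h3
    simp only [zero_smul, add_zero, mul_zero, neg_zero] at h3
    have h4 := inE_sub h3 hE
    rw [add_sub_cancel_left] at h4
    have h5 := inE_smul_right (-(polar ⇑Q w x'))⁻¹ h4
    rwa [smul_smul, inv_mul_cancel₀ (neg_ne_zero.mpr hwx'), one_smul] at h5
  have c2 : ∀ u' ∈ U, InE Q M a u' := by
    intro u' hu'
    have h1 : polar ⇑Q (u' - (polar ⇑Q u' w / polar ⇑Q x' w) • x') w = 0 := by
      rw [polar_sub_left, polar_smul_left, smul_eq_mul, div_mul_cancel₀ _ hx'w, sub_self]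
    have h2 := c1 _ (U.sub_mem hu' (U.smul_mem _ hx'U)) h1
    have h3 := inE_add h2 (inE_smul_right (polar ⇑Q u' w / polar ⇑Q x' w) hE)
    rwa [sub_add_cancel] at h3
  apply isCentre_of_inE_all (h.tsU a haU)
  intro z haz
  obtain ⟨u', hu', w', hw', rfl⟩ := h.split z
  have haw' : polar ⇑Q a w' = 0 := by
    rwa [polar_add_right, h.polU haU hu', zero_add] at haz
  exact inE_add (c2 u' hu') (hK a haU w' hw' haw')

/-- the main step: a root subgroup of `M` whose `U`-components are independent yields a centre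
in `U` -/
theorem TSPair.centre_of_inE {U W : Submodule F (ι → F)} (h : TSPair Q U W)
    (hQ : (polarBilin Q).Nondegenerate)
    (hK : ∀ a ∈ U, ∀ b ∈ W, polar ⇑Q a b = 0 → InE Q M a b)
    (hdim : 5 ≤ finrank F U) {x y xU xW yU yW : ι → F} (hxU : xU ∈ U) (hxW : xW ∈ W)
    (hx : xU + xW = x) (hyU : yU ∈ U) (hyW : yW ∈ W) (hy : yU + yW = y) (hE : InE Q M x y)
    (hQy : Q y = 0) (hxU0 : xU ≠ 0) (hyUx : yU ∉ Submodule.span F ({xU} : Set (ι → F))) :
    ∃ a ∈ U, a ≠ 0 ∧ IsCentre Q M a := by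
  have hlt : ¬ (U ⊓ orth Q (Submodule.span F ({x, y} : Set (ι → F))) ≤
      Submodule.span F ({xU, yU} : Set (ι → F))) := by
    intro hle
    have h1 := Submodule.finrank_mono hle
    have h3 := finrank_inf_orth hQ U (Submodule.span F ({x, y} : Set (ι → F)))
    have h4 := finrank_span_pair_le (F := F) x y
    have h5 := finrank_span_pair_le (F := F) xU yU
    omega
  obtain ⟨a, haU₁, haP⟩ := SetLike.not_le_iff_exists.mp hlt
  have haU : a ∈ U := haU₁.1
  have hperp := (mem_orth Q _ a).mp haU₁.2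
  have hxa : polar ⇑Q x a = 0 := hperp x (Submodule.subset_span (by simp))
  have hya : polar ⇑Q y a = 0 := hperp y (Submodule.subset_span (by simp))
  have hax : polar ⇑Q a x = 0 := by rw [polar_comm]; exact hxa
  have hay : polar ⇑Q a y = 0 := by rw [polar_comm]; exact hya
  have ha0 : a ≠ 0 := by
    rintro rfl
    exact haP (Submodule.zero_mem _)
  have hxUP : xU ∈ Submodule.span F ({xU, yU} : Set (ι → F)) := Submodule.subset_span (by simp)
  have hyUP : yU ∈ Submodule.span F ({xU, yU} : Set (ι → F)) := Submodule.subset_span (by simp)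
  have hx_a : xU ∉ Submodule.span F ({a} : Set (ι → F)) := by
    intro hmem
    obtain ⟨c, hc⟩ := Submodule.mem_span_singleton.mp hmem
    have hc0 : c ≠ 0 := by
      rintro rfl
      rw [zero_smul] at hc
      exact hxU0 hc.symm
    apply haP
    have : a = c⁻¹ • xU := by rw [← hc, smul_smul, inv_mul_cancel₀ hc0, one_smul]
    rw [this]
    exact Submodule.smul_mem _ _ hxUP
  have hy_ax : yU ∉ Submodule.span F ({a, xU} : Set (ι → F)) := by
    intro hmem
    obtain ⟨c, d, hcd⟩ := Submodule.mem_span_pair.mp hmem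
    by_cases hc0 : c = 0
    · rw [hc0, zero_smul, zero_add] at hcd
      exact hyUx (Submodule.mem_span_singleton.mpr ⟨d, hcd⟩)
    · apply haP
      have : a = c⁻¹ • (yU - d • xU) := by
        rw [← hcd, add_sub_cancel_right, smul_smul, inv_mul_cancel₀ hc0, one_smul]
      rw [this]
      exact Submodule.smul_mem _ _ (Submodule.sub_mem _ hyUP (Submodule.smul_mem _ _ hxUP))
  obtain ⟨b, hbW, hyb, hb⟩ := h.dual_vec hQ _ hyU (span_pair_le haU hxU) hy_ax
  have hab : polar ⇑Q a b = 0 := hb a (Submodule.subset_span (by simp))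
  have hxUb : polar ⇑Q xU b = 0 := hb xU (Submodule.subset_span (by simp))
  have hbx : polar ⇑Q b x = 0 := by
    rw [← hx, polar_add_right, polar_comm, hxUb, h.polW hbW hxW, add_zero]
  have hby : polar ⇑Q b y ≠ 0 := by
    rw [← hy, polar_add_right, h.polW hbW hyW, add_zero, polar_comm]; exact hyb
  have hk := EG_mem_of_inE (hK a haU b hbW hab)
  have h3 := inE_conj (EG Q a b) hk hE
  rw [act_EG Q a b (h.tsU a haU) hab, act_EG Q a b (h.tsU a haU) hab, hax, hay, hbx] at h3
  simp only [zero_smul, add_zero, mul_zero, neg_zero] at h3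
  have h4 := inE_sub h3 hE
  rw [add_sub_cancel_left] at h4
  have h5 : InE Q M x a := by
    have := inE_smul_right (-(polar ⇑Q b y))⁻¹ h4
    rwa [smul_smul, inv_mul_cancel₀ (neg_ne_zero.mpr hby), one_smul] at this
  have h6 : InE Q M a x := inE_symm h5 (h.tsU a haU)
  have haxW : polar ⇑Q a xW = 0 := by
    have := hax
    rwa [← hx, polar_add_right, h.polU haU hxU, zero_add] at this
  have h7 : InE Q M a xU := by
    have := inE_sub h6 (hK a haU xW hxW haxW)
    rwa [← hx, add_sub_cancel_right] at this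
  exact ⟨a, haU, ha0, h.isCentre_of_pair hQ hK haU hxU hx_a h7⟩

/-- one centre in `U` makes all of `U` consist of centres -/
theorem TSPair.centres_of_centre {U W : Submodule F (ι → F)} (h : TSPair Q U W)
    (hQ : (polarBilin Q).Nondegenerate)
    (hK : ∀ a ∈ U, ∀ b ∈ W, polar ⇑Q a b = 0 → InE Q M a b) {u₀ : ι → F} (hu₀ : u₀ ∈ U)
    (hu₀0 : u₀ ≠ 0) (hC : IsCentre Q M u₀) : ∀ u ∈ U, IsCentre Q M u := by
  intro u hu
  by_cases hspan : u ∈ Submodule.span F ({u₀} : Set (ι → F))
  · obtain ⟨c, rfl⟩ := Submodule.mem_span_singleton.mp hspan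
    exact isCentre_smul c hC
  have hnot : u₀ ∉ Submodule.span F ({u - u₀} : Set (ι → F)) := by
    intro hmem
    obtain ⟨c, hc⟩ := Submodule.mem_span_singleton.mp hmem
    by_cases hc0 : c = 0
    · rw [hc0, zero_smul] at hc
      exact hu₀0 hc.symm
    · apply hspan
      rw [Submodule.mem_span_singleton]
      refine ⟨c⁻¹ * (1 + c), ?_⟩
      rw [smul_sub] at hc
      have h3 : c • u = (1 + c) • u₀ := by
        rw [add_smul, one_smul]
        exact sub_eq_iff_eq_add.mp hc
      rw [mul_smul, ← h3, smul_smul, inv_mul_cancel₀ hc0, one_smul]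
  have hsub : u - u₀ ∈ U := U.sub_mem hu hu₀
  obtain ⟨b, hbW, hu₀b, hb⟩ := h.dual_vec hQ _ hu₀ (span_singleton_le hsub) hnot
  have hb1 : polar ⇑Q (u - u₀) b = 0 := hb _ (Submodule.subset_span (by simp))
  have hbu₀ : polar ⇑Q b u₀ ≠ 0 := by rw [polar_comm]; exact hu₀b
  have hb2 : polar ⇑Q (u - u₀) ((-(polar ⇑Q b u₀)⁻¹) • b) = 0 := by
    rw [polar_smul_right, hb1, smul_zero]
  have hk := EG_mem_of_inE (hK _ hsub _ (W.smul_mem (-(polar ⇑Q b u₀)⁻¹) hbW) hb2)
  have h4 := isCentre_act _ hk hC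
  rw [act_EG Q _ _ (h.tsU _ hsub) hb2, h.polU hsub hu₀, polar_smul_left, smul_eq_mul] at h4
  simp only [zero_smul, add_zero, mul_zero] at h4
  have e : -(-(polar ⇑Q b u₀)⁻¹ * polar ⇑Q b u₀) = 1 := by
    rw [neg_mul, neg_neg, inv_mul_cancel₀ hbu₀]
  rw [e, one_smul, add_sub_cancel] at h4
  exact h4

/-- if all vectors of `U` and of `W` are centres then all singular vectors are -/
theorem TSPair.all_centres {U W : Submodule F (ι → F)} (h : TSPair Q U W)
    (hQ : (polarBilin Q).Nondegenerate)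
    (hU : ∀ u ∈ U, IsCentre Q M u) (hW : ∀ w ∈ W, IsCentre Q M w)
    (z : ι → F) (hz : Q z = 0) : IsCentre Q M z := by
  obtain ⟨u, hu, w, hw, rfl⟩ := h.split z
  by_cases hu0 : u = 0
  · rw [hu0, zero_add]; exact hW w hw
  have huw : polar ⇑Q u w = 0 := by
    rw [quad_add', h.tsU u hu, h.tsW w hw, zero_add, zero_add] at hz
    exact hz
  have hwu : polar ⇑Q w u = 0 := by rw [polar_comm]; exact huw
  have hnot : u ∉ (⊥ : Submodule F (ι → F)) := by
    rw [Submodule.mem_bot]; exact hu0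
  obtain ⟨w', hw', huw', -⟩ := h.dual_vec hQ ⊥ hu bot_le hnot
  have hw'u : polar ⇑Q w' u ≠ 0 := by rw [polar_comm]; exact huw'
  have hwz' : polar ⇑Q w ((-(polar ⇑Q w' u)⁻¹) • w') = 0 := by
    rw [polar_smul_right, h.polW hw hw', smul_zero]
  have hk := EG_mem_of_isCentre (hW w hw) _ hwz'
  have h4 := isCentre_act _ hk (hU u hu)
  rw [act_EG Q _ _ (h.tsW w hw) hwz', hwu, polar_smul_left, smul_eq_mul] at h4
  simp only [zero_smul, add_zero, mul_zero] at h4
  have e : -(-(polar ⇑Q w' u)⁻¹ * polar ⇑Q w' u) = 1 := by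
    rw [neg_mul, neg_neg, inv_mul_cancel₀ hw'u]
  rw [e, one_smul] at h4
  exact h4

theorem gl_injective (g : Matrix.GeneralLinearGroup ι F) :
    Function.Injective (Matrix.toLin' (g : Matrix ι ι F)) := by
  intro a b hab
  have := congrArg (fun y => ((g⁻¹ : Matrix.GeneralLinearGroup ι F) : Matrix ι ι F) *ᵥ y) hab
  simp only [Matrix.toLin'_apply, mulVec_mulVec] at this
  rw [← Units.val_mul, inv_mul_cancel, Units.val_one, one_mulVec, one_mulVec] at this
  exact this

/-- if `g a` has non-zero components in both blocks, some `g b` with `b ⊥ a` in the other block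
has a component independent of the corresponding component of `g a` -/
theorem TSPair.good_pair_aux {U W : Submodule F (ι → F)} (h : TSPair Q U W)
    (hQ : (polarBilin Q).Nondegenerate)
    (hdim : 5 ≤ finrank F W) (g : Matrix.GeneralLinearGroup ι F) (a p q : ι → F) :
    ∃ b ∈ W, polar ⇑Q a b = 0 ∧ ∃ p' ∈ U, ∃ q' ∈ W, p' + q' = (g : Matrix ι ι F) *ᵥ b ∧
      (p' ∉ Submodule.span F ({p} : Set (ι → F)) ∨ q' ∉ Submodule.span F ({q} : Set (ι → F))) := by
  have hex : ∃ b ∈ W ⊓ orth Q (Submodule.span F ({a, a} : Set (ι → F))),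
      (g : Matrix ι ι F) *ᵥ b ∉ Submodule.span F ({p, q} : Set (ι → F)) := by
    by_contra hcon
    push Not at hcon
    have hle : (W ⊓ orth Q (Submodule.span F ({a, a} : Set (ι → F)))).map
        (Matrix.toLin' (g : Matrix ι ι F)) ≤ Submodule.span F ({p, q} : Set (ι → F)) := by
      rintro _ ⟨b, hb, rfl⟩
      rw [Matrix.toLin'_apply]
      exact hcon b hb
    have h1 := Submodule.finrank_mono hle
    rw [← (Submodule.equivMapOfInjective _ (gl_injective g) _).finrank_eq] at h1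
    have h2 := finrank_inf_orth hQ W (Submodule.span F ({a, a} : Set (ι → F)))
    have h3 := finrank_span_pair_le (F := F) a a
    have h4 := finrank_span_pair_le (F := F) p q
    omega
  obtain ⟨b, hb, hgb⟩ := hex
  have hab : polar ⇑Q a b = 0 :=
    (mem_orth Q _ b).mp hb.2 a (Submodule.subset_span (by simp))
  obtain ⟨p', hp', q', hq', hsum⟩ := h.split ((g : Matrix ι ι F) *ᵥ b)
  refine ⟨b, hb.1, hab, p', hp', q', hq', hsum, ?_⟩
  by_contra hcon
  push Not at hcon
  obtain ⟨c, hc⟩ := Submodule.mem_span_singleton.mp hcon.1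
  obtain ⟨d, hd⟩ := Submodule.mem_span_singleton.mp hcon.2
  apply hgb
  rw [← hsum, ← hc, ← hd]
  exact Submodule.add_mem _ (Submodule.smul_mem _ _ (Submodule.subset_span (by simp)))
    (Submodule.smul_mem _ _ (Submodule.subset_span (by simp)))

end geometry

section concrete
variable {Q : QuadraticForm F (ι → F)} {M : Subgroup (Matrix.GeneralLinearGroup ι F)}

theorem tsPair {D : Fin 2 → Submodule F (ι → F)} {k : ℕ} (hD : Cfsg.Geo.IsMDecomposition k D)
    (hts : ∀ i, ∀ w ∈ D i, Q w = 0) : TSPair Q (D 0) (D 1) where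
  tsU := hts 0
  tsW := hts 1
  split z := by
    have hle : (⊤ : Submodule F (ι → F)) ≤ D 0 ⊔ D 1 := by
      rw [← hD.iSup_eq_top]
      apply iSup_le
      intro i
      fin_cases i
      · exact le_sup_left
      · exact le_sup_right
    exact Submodule.mem_sup.mp (hle (Submodule.mem_top : z ∈ ⊤))

theorem mem_decompStab_of_le' {D : Fin 2 → Submodule F (ι → F)} {k : ℕ}
    (hD : Cfsg.Geo.IsMDecomposition k D)
    (g : Matrix.GeneralLinearGroup ι F) (σ : Equiv.Perm (Fin 2))
    (h : ∀ i, ∀ x ∈ D i, (g : Matrix ι ι F) *ᵥ x ∈ D (σ i)) :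
    g ∈ Cfsg.Geo.decompositionStabilizer D := by
  refine ⟨σ, fun i => ?_⟩
  apply Submodule.eq_of_le_of_finrank_eq
  · rintro _ ⟨x, hx, rfl⟩
    rw [Matrix.toLin'_apply]
    exact h i x hx
  · rw [← (Submodule.equivMapOfInjective _ (gl_injective g) (D i)).finrank_eq,
      hD.finrank_eq, hD.finrank_eq]

theorem mem_stab_of_fix {D : Fin 2 → Submodule F (ι → F)} {k : ℕ}
    (hD : Cfsg.Geo.IsMDecomposition k D) (g : Matrix.GeneralLinearGroup ι F)
    (hU : ∀ u ∈ D 0, (g : Matrix ι ι F) *ᵥ u ∈ D 0)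
    (hW : ∀ w ∈ D 1, (g : Matrix ι ι F) *ᵥ w ∈ D 1) :
    g ∈ Cfsg.Geo.decompositionStabilizer D := by
  apply mem_decompStab_of_le' hD g 1
  intro i x hx
  fin_cases i
  · exact hU x hx
  · exact hW x hx

theorem mem_stab_of_swap {D : Fin 2 → Submodule F (ι → F)} {k : ℕ}
    (hD : Cfsg.Geo.IsMDecomposition k D) (g : Matrix.GeneralLinearGroup ι F)
    (hU : ∀ u ∈ D 0, (g : Matrix ι ι F) *ᵥ u ∈ D 1)
    (hW : ∀ w ∈ D 1, (g : Matrix ι ι F) *ᵥ w ∈ D 0) :
    g ∈ Cfsg.Geo.decompositionStabilizer D := by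
  apply mem_decompStab_of_le' hD g (Equiv.swap 0 1)
  intro i x hx
  fin_cases i
  · simpa using hU x hx
  · simpa using hW x hx

/-- elements of the stabiliser map each block into a block -/
theorem stab_cases {D : Fin 2 → Submodule F (ι → F)}
    (g : Matrix.GeneralLinearGroup ι F) (hg : g ∈ Cfsg.Geo.decompositionStabilizer D) :
    ((∀ u ∈ D 0, (g : Matrix ι ι F) *ᵥ u ∈ D 0) ∧
      ∀ w ∈ D 1, (g : Matrix ι ι F) *ᵥ w ∈ D 1) ∨
    ((∀ u ∈ D 0, (g : Matrix ι ι F) *ᵥ u ∈ D 1) ∧
      ∀ w ∈ D 1, (g : Matrix ι ι F) *ᵥ w ∈ D 0) := by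
  obtain ⟨σ, hσ⟩ := hg
  have hmap : ∀ i, ∀ x ∈ D i, (g : Matrix ι ι F) *ᵥ x ∈ D (σ i) := by
    intro i x hx
    rw [← hσ i]
    exact ⟨x, hx, Matrix.toLin'_apply _ _⟩
  have h01 : ∀ i : Fin 2, i = 0 ∨ i = 1 := by decide
  rcases h01 (σ 0) with h0 | h0
  · have h1 : σ 1 = 1 := by
      rcases h01 (σ 1) with h1 | h1
      · exact absurd (σ.injective (h0.trans h1.symm)) (by decide)
      · exact h1
    left
    exact ⟨fun u hu => h0 ▸ hmap 0 u hu, fun w hw => h1 ▸ hmap 1 w hw⟩
  · have h1 : σ 1 = 0 := by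
      rcases h01 (σ 1) with h1 | h1
      · exact h1
      · exact absurd (σ.injective (h0.trans h1.symm)) (by decide)
    right
    exact ⟨fun u hu => h0 ▸ hmap 0 u hu, fun w hw => h1 ▸ hmap 1 w hw⟩

/-- the root elements of the stabiliser -/
theorem EG_mem_stab (H : Hyp Q) {D : Fin 2 → Submodule F (ι → F)} {k : ℕ}
    (hD : Cfsg.Geo.IsMDecomposition k D)
    (hts : ∀ i, ∀ w ∈ D i, Q w = 0) {a b : ι → F} (ha : a ∈ D 0)
    (hb : b ∈ D 1) (hab : polar ⇑Q a b = 0) :
    ((EG Q a b : ↥(isometryGroup F ⇑Q)) : Matrix.GeneralLinearGroup ι F) ∈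
      Cfsg.Geo.decompositionStabilizer D ⊓ Cfsg.Geo.omegaGL ⇑Q := by
  have hP := tsPair hD hts
  rw [Subgroup.mem_inf]
  refine ⟨mem_stab_of_fix hD _ ?_ ?_, ?_⟩
  · intro u hu
    have e : (((EG Q a b : ↥(isometryGroup F ⇑Q)) : Matrix.GeneralLinearGroup ι F) :
        Matrix ι ι F) *ᵥ u = act Q (EG Q a b) u := rfl
    rw [e, act_EG Q a b (hts 0 a ha) hab, hP.polU ha hu, zero_smul, add_zero]
    exact (D 0).add_mem hu ((D 0).smul_mem _ ha)
  · intro w hw
    have e : (((EG Q a b : ↥(isometryGroup F ⇑Q)) : Matrix.GeneralLinearGroup ι F) :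
        Matrix ι ι F) *ᵥ w = act Q (EG Q a b) w := rfl
    rw [e, act_EG Q a b (hts 0 a ha) hab, hP.polW hb hw, hts 1 b hb, zero_mul, add_zero,
      neg_zero, zero_smul, add_zero]
    exact (D 1).add_mem hw ((D 1).smul_mem _ hb)
  · rw [EG_eq Q a b (hts 0 a ha) hab]
    exact eich_mem_omegaGL H a b (hts 0 a ha) hab

theorem inE_of_stab (H : Hyp Q) {D : Fin 2 → Submodule F (ι → F)} {k : ℕ}
    (hD : Cfsg.Geo.IsMDecomposition k D)
    (hts : ∀ i, ∀ w ∈ D i, Q w = 0)
    (hKM : Cfsg.Geo.decompositionStabilizer D ⊓ Cfsg.Geo.omegaGL ⇑Q ≤ M) :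
    ∀ a ∈ D 0, ∀ b ∈ D 1, polar ⇑Q a b = 0 → InE Q M a b := by
  intro a ha b hb hab
  refine ⟨hts 0 a ha, hab, fun s => hKM (EG_mem_stab H hD hts ha ((D 1).smul_mem s hb) ?_)⟩
  rw [polar_smul_right, hab, smul_zero]

/-- dual bases of the two blocks -/
theorem exists_dual_bases (hQ : (polarBilin Q).Nondegenerate)
    {D : Fin 2 → Submodule F (ι → F)} {k : ℕ} (hD : Cfsg.Geo.IsMDecomposition k D)
    (hts : ∀ i, ∀ w ∈ D i, Q w = 0) :
    ∃ (bU : Module.Basis (Fin k) F (D 0)) (bW : Module.Basis (Fin k) F (D 1)),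
      ∀ i j, polar ⇑Q (bU i : ι → F) (bW j : ι → F) = if i = j then 1 else 0 := by
  have hP := tsPair hD hts
  let bU : Module.Basis (Fin k) F (D 0) := Module.finBasisOfFinrankEq F _ (hD.finrank_eq 0)
  let Φ : (D 1) →ₗ[F] Module.Dual F (D 0) :=
    (D 0).subtype.dualMap ∘ₗ (polarBilin Q).flip ∘ₗ (D 1).subtype
  have hΦ : ∀ (w : D 1) (u : D 0), Φ w u = polar ⇑Q (u : ι → F) (w : ι → F) := fun w u => rfl
  have hinj : Function.Injective Φ := by
    rw [← LinearMap.ker_eq_bot, eq_bot_iff]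
    intro w hw
    rw [LinearMap.mem_ker] at hw
    rw [Submodule.mem_bot]
    apply Subtype.ext
    show (w : ι → F) = 0
    apply hQ.1
    intro v
    obtain ⟨u, hu, w', hw', rfl⟩ := hP.split v
    have h1 : polar ⇑Q u (w : ι → F) = 0 := by
      have := LinearMap.congr_fun hw ⟨u, hu⟩
      rwa [hΦ] at this
    rw [polarBilin_apply_apply, polar_add_right, polar_comm, h1, hP.polW w.2 hw', add_zero]
  have hfin : Module.finrank F (D 1) = Module.finrank F (Module.Dual F (D 0)) := by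
    rw [Subspace.dual_finrank_eq, hD.finrank_eq, hD.finrank_eq]
  have hsurj : Function.Surjective Φ :=
    (LinearMap.injective_iff_surjective_of_finrank_eq_finrank hfin).mp hinj
  let Φe : (D 1) ≃ₗ[F] Module.Dual F (D 0) := LinearEquiv.ofBijective Φ ⟨hinj, hsurj⟩
  refine ⟨bU, bU.dualBasis.map Φe.symm, fun i j => ?_⟩
  rw [Module.Basis.map_apply, ← hΦ]
  have : Φ (Φe.symm (bU.dualBasis j)) = bU.dualBasis j := Φe.apply_symm_apply _
  rw [this, Module.Basis.dualBasis_apply_self]

/-- an element of `Ω` interchanging the two blocks, when their dimension is even -/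
theorem exists_swap (hQ : (polarBilin Q).Nondegenerate)
    {D : Fin 2 → Submodule F (ι → F)} {k : ℕ} (hD : Cfsg.Geo.IsMDecomposition k D)
    (hts : ∀ i, ∀ w ∈ D i, Q w = 0) (hke : Even k) :
    ∃ J : ↥(isometryGroup F ⇑Q), J ∈ Omega F ⇑Q ∧
      (∀ u ∈ D 0, act Q J u ∈ D 1) ∧ (∀ w ∈ D 1, act Q J w ∈ D 0) := by
  have hP := tsPair hD hts
  obtain ⟨bU, bW, hdual⟩ := exists_dual_bases hQ hD hts
  have hdual' : ∀ i j, polar ⇑Q (bW j : ι → F) (bU i : ι → F) = if i = j then 1 else 0 := by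
    intro i j
    rw [polar_comm, hdual]
  let v : Fin k → ι → F := fun i => (bU i : ι → F) - (bW i : ι → F)
  have hv : ∀ i, v i = (bU i : ι → F) - (bW i : ι → F) := fun i => rfl
  have hQv : ∀ i, Q (v i) = -1 := by
    intro i
    rw [hv, sub_eq_add_neg, quad_add', QuadraticMap.map_neg, hts 0 _ (bU i).2, hts 1 _ (bW i).2,
      polar_neg_right, hdual, if_pos rfl]
    ring
  have hQv0 : ∀ i, Q (v i) ≠ 0 := by
    intro i
    rw [hQv]
    exact neg_ne_zero.mpr one_ne_zero
  -- the action of a single reflection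
  have hrefl : ∀ i (x : ι → F), act Q (Cfsg.Agent.Lib.Helper5.SpinorNorm.reflE Q (v i)) x =
      x + polar ⇑Q (v i) x • v i := by
    intro i x
    rw [Cfsg.Agent.Lib.Helper5.SpinorNorm.reflE_of_ne Q (v i) (hQv0 i), act_reflection, hQv]
    have : ((-1 : F))⁻¹ = -1 := by rw [inv_neg, inv_one]
    rw [this, neg_one_mul, neg_smul, sub_neg_eq_add]
  have hpU : ∀ i j, polar ⇑Q (v i) (bU j : ι → F) = -(if j = i then 1 else 0) := by
    intro i j
    rw [hv, polar_sub_left, hP.polU (bU i).2 (bU j).2, hdual', zero_sub]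
  have hpW : ∀ i j, polar ⇑Q (v i) (bW j : ι → F) = if i = j then 1 else 0 := by
    intro i j
    rw [hv, polar_sub_left, hP.polW (bW i).2 (bW j).2, hdual, sub_zero]
  have key : ∀ L : List (Fin k), L.Nodup → ∀ j,
      (j ∈ L → act Q ((L.map (fun i => Cfsg.Agent.Lib.Helper5.SpinorNorm.reflE Q (v i))).prod)
          (bU j : ι → F) = (bW j : ι → F) ∧
        act Q ((L.map (fun i => Cfsg.Agent.Lib.Helper5.SpinorNorm.reflE Q (v i))).prod)
          (bW j : ι → F) = (bU j : ι → F)) ∧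
      (j ∉ L → act Q ((L.map (fun i => Cfsg.Agent.Lib.Helper5.SpinorNorm.reflE Q (v i))).prod)
          (bU j : ι → F) = (bU j : ι → F) ∧
        act Q ((L.map (fun i => Cfsg.Agent.Lib.Helper5.SpinorNorm.reflE Q (v i))).prod)
          (bW j : ι → F) = (bW j : ι → F)) := by
    intro L
    induction L with
    | nil =>
      intro _ j
      refine ⟨fun hj => absurd hj (List.not_mem_nil), fun _ => ?_⟩
      rw [List.map_nil, List.prod_nil]
      exact ⟨one_mulVec _, one_mulVec _⟩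
    | cons i L ih =>
      intro hnd j
      rw [List.nodup_cons] at hnd
      have ih' := ih hnd.2 j
      rw [List.map_cons, List.prod_cons]
      by_cases hji : j = i
      · subst hji
        have h1 := ih'.2 hnd.1
        refine ⟨fun _ => ?_, fun hj => absurd List.mem_cons_self hj⟩
        rw [act_mul, act_mul, h1.1, h1.2, hrefl, hrefl, hpU, hpW, if_pos rfl, hv]
        constructor
        · rw [neg_smul, one_smul]; abel
        · rw [one_smul]; abel
      · have hfixU : act Q (Cfsg.Agent.Lib.Helper5.SpinorNorm.reflE Q (v i)) (bU j : ι → F) =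
            (bU j : ι → F) := by
          rw [hrefl, hpU, if_neg hji, neg_zero, zero_smul, add_zero]
        have hfixW : act Q (Cfsg.Agent.Lib.Helper5.SpinorNorm.reflE Q (v i)) (bW j : ι → F) =
            (bW j : ι → F) := by
          rw [hrefl, hpW, if_neg (fun h => hji h.symm), zero_smul, add_zero]
        constructor
        · intro hj
          have hjL : j ∈ L := by
            rcases List.mem_cons.mp hj with h | h
            · exact absurd h hji
            · exact h
          have h1 := ih'.1 hjL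
          rw [act_mul, act_mul, h1.1, h1.2]
          exact ⟨hfixW, hfixU⟩
        · intro hj
          have hjL : j ∉ L := fun h => hj (List.mem_cons_of_mem _ h)
          have h1 := ih'.2 hjL
          rw [act_mul, act_mul, h1.1, h1.2]
          exact ⟨hfixU, hfixW⟩
  let vs : List (ι → F) := (List.finRange k).map v
  let J : ↥(isometryGroup F ⇑Q) := (vs.map (Cfsg.Agent.Lib.Helper5.SpinorNorm.reflE Q)).prod
  have hJeq : J = ((List.finRange k).map
      (fun i => Cfsg.Agent.Lib.Helper5.SpinorNorm.reflE Q (v i))).prod := by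
    show (((List.finRange k).map v).map (Cfsg.Agent.Lib.Helper5.SpinorNorm.reflE Q)).prod = _
    rw [List.map_map]
    rfl
  have hvs : ∀ x ∈ vs, Q x = -1 := by
    intro x hx
    obtain ⟨i, -, rfl⟩ := List.mem_map.mp hx
    exact hQv i
  have hrep : Cfsg.Agent.Lib.Helper5.SpinorNorm.IsRep Q J vs := by
    refine ⟨fun x hx => ?_, Cfsg.Agent.Lib.Helper5.SpinorNorm.coe_prod_reflE Q vs ?_⟩
    · rw [hvs x hx]; exact neg_ne_zero.mpr one_ne_zero
    · intro x hx
      rw [hvs x hx]; exact neg_ne_zero.mpr one_ne_zero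
  have hJΩ : J ∈ Omega F ⇑Q := by
    show J ∈ commutator _
    apply Cfsg.Agent.Lib.Helper5.PlusLevi.mem_of_isRep_const Q hQ J vs hrep (-1)
      (neg_ne_zero.mpr one_ne_zero) hvs
    show Even (((List.finRange k).map v).length)
    rw [List.length_map, List.length_finRange]
    exact hke
  have hJU : ∀ j, act Q J (bU j : ι → F) = (bW j : ι → F) := by
    intro j
    rw [hJeq]
    exact ((key _ (List.nodup_finRange k) j).1 (List.mem_finRange j)).1
  have hJW : ∀ j, act Q J (bW j : ι → F) = (bU j : ι → F) := by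
    intro j
    rw [hJeq]
    exact ((key _ (List.nodup_finRange k) j).1 (List.mem_finRange j)).2
  refine ⟨J, hJΩ, ?_, ?_⟩
  · intro u hu
    have hφ : Matrix.mulVecLin ((J : Matrix.GeneralLinearGroup ι F) : Matrix ι ι F) ∘ₗ
        (D 0).subtype = (D 1).subtype ∘ₗ (bU.constr F (fun i => bW i)) := by
      apply bU.ext
      intro i
      rw [LinearMap.comp_apply, LinearMap.comp_apply, Module.Basis.constr_basis,
        Submodule.subtype_apply, Submodule.subtype_apply, Matrix.mulVecLin_apply]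
      exact hJU i
    have := LinearMap.congr_fun hφ ⟨u, hu⟩
    rw [LinearMap.comp_apply, LinearMap.comp_apply, Submodule.subtype_apply,
      Matrix.mulVecLin_apply] at this
    show ((J : Matrix.GeneralLinearGroup ι F) : Matrix ι ι F) *ᵥ u ∈ D 1
    rw [this]
    exact Submodule.coe_mem _
  · intro w hw
    have hφ : Matrix.mulVecLin ((J : Matrix.GeneralLinearGroup ι F) : Matrix ι ι F) ∘ₗ
        (D 1).subtype = (D 0).subtype ∘ₗ (bW.constr F (fun i => bU i)) := by
      apply bW.ext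
      intro i
      rw [LinearMap.comp_apply, LinearMap.comp_apply, Module.Basis.constr_basis,
        Submodule.subtype_apply, Submodule.subtype_apply, Matrix.mulVecLin_apply]
      exact hJW i
    have := LinearMap.congr_fun hφ ⟨w, hw⟩
    rw [LinearMap.comp_apply, LinearMap.comp_apply, Submodule.subtype_apply,
      Matrix.mulVecLin_apply] at this
    show ((J : Matrix.GeneralLinearGroup ι F) : Matrix ι ι F) *ᵥ w ∈ D 0
    rw [this]
    exact Submodule.coe_mem _

/-- an element of `M` outside the stabiliser produces a centre in one of the blocks -/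
theorem exists_centre (H : Hyp Q) {D : Fin 2 → Submodule F (ι → F)} {k : ℕ}
    (hD : Cfsg.Geo.IsMDecomposition k D)
    (hts : ∀ i, ∀ w ∈ D i, Q w = 0) (hk : 5 ≤ k)
    (hKM : Cfsg.Geo.decompositionStabilizer D ⊓ Cfsg.Geo.omegaGL ⇑Q ≤ M)
    (g : ↥(isometryGroup F ⇑Q)) (hgM : (g : Matrix.GeneralLinearGroup ι F) ∈ M)
    (hg : (g : Matrix.GeneralLinearGroup ι F) ∉ Cfsg.Geo.decompositionStabilizer D) :
    (∃ a ∈ D 0, a ≠ 0 ∧ IsCentre Q M a) ∨ (∃ a ∈ D 1, a ≠ 0 ∧ IsCentre Q M a) := by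
  have hQ := H.nondeg
  have hP := tsPair hD hts
  have hK := inE_of_stab H hD hts hKM
  have hK' : ∀ a ∈ D 1, ∀ b ∈ D 0, polar ⇑Q a b = 0 → InE Q M a b :=
    fun a ha b hb hab => inE_symm (hK b hb a ha (by rw [polar_comm]; exact hab)) (hts 1 a ha)
  have hdU : 5 ≤ finrank F (D 0) := by rw [hD.finrank_eq]; exact hk
  have hdW : 5 ≤ finrank F (D 1) := by rw [hD.finrank_eq]; exact hk
  by_cases hA : ∃ a ∈ D 0, act Q g a ∉ D 0 ∧ act Q g a ∉ D 1
  · obtain ⟨a, ha, hga0, hga1⟩ := hA
    obtain ⟨p, hp, q, hq, hpq⟩ := hP.split (act Q g a)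
    have hp0 : p ≠ 0 := by
      rintro rfl
      rw [zero_add] at hpq
      exact hga1 (hpq ▸ hq)
    have hq0 : q ≠ 0 := by
      rintro rfl
      rw [add_zero] at hpq
      exact hga0 (hpq ▸ hp)
    obtain ⟨b, hbW, hab, p', hp', q', hq', hsum, hor⟩ := hP.good_pair_aux hQ hdW g a p q
    have hE : InE Q M (act Q g a) (act Q g b) := inE_conj g hgM (hK a ha b hbW hab)
    have hQgb : Q (act Q g b) = 0 := by rw [quad_act, hts 1 b hbW]
    rcases hor with h1 | h1
    · left
      exact hP.centre_of_inE hQ hK hdU hp hq hpq hp' hq' hsum hE hQgb hp0 h1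
    · right
      exact hP.symm.centre_of_inE hQ hK' hdW hq hp (by rw [add_comm]; exact hpq) hq' hp'
        (by rw [add_comm]; exact hsum) hE hQgb hq0 h1
  by_cases hB : ∃ b ∈ D 1, act Q g b ∉ D 0 ∧ act Q g b ∉ D 1
  · obtain ⟨b, hb, hgb0, hgb1⟩ := hB
    obtain ⟨p, hp, q, hq, hpq⟩ := hP.split (act Q g b)
    have hp0 : p ≠ 0 := by
      rintro rfl
      rw [zero_add] at hpq
      exact hgb1 (hpq ▸ hq)
    have hq0 : q ≠ 0 := by
      rintro rfl
      rw [add_zero] at hpq
      exact hgb0 (hpq ▸ hp)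
    obtain ⟨a, haU, hba, q', hq', p', hp', hsum, hor⟩ := hP.symm.good_pair_aux hQ hdU g b q p
    have hE : InE Q M (act Q g b) (act Q g a) := inE_conj g hgM (hK' b hb a haU hba)
    have hQga : Q (act Q g a) = 0 := by rw [quad_act, hts 0 a haU]
    rcases hor with h1 | h1
    · right
      exact hP.symm.centre_of_inE hQ hK' hdW hq hp (by rw [add_comm]; exact hpq) hq' hp'
        hsum hE hQga hq0 h1
    · left
      exact hP.centre_of_inE hQ hK hdU hp hq hpq hp' hq' (by rw [add_comm]; exact hsum) hE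
        hQga hp0 h1
  exfalso
  push Not at hA hB
  have hA' : ∀ u ∈ D 0,
      Matrix.mulVecLin ((g : Matrix.GeneralLinearGroup ι F) : Matrix ι ι F) u ∈ D 0 ∨
      Matrix.mulVecLin ((g : Matrix.GeneralLinearGroup ι F) : Matrix ι ι F) u ∈ D 1 := by
    intro u hu
    by_cases h : act Q g u ∈ D 0
    · exact Or.inl h
    · exact Or.inr (hA u hu h)
  have hB' : ∀ w ∈ D 1,
      Matrix.mulVecLin ((g : Matrix.GeneralLinearGroup ι F) : Matrix ι ι F) w ∈ D 0 ∨
      Matrix.mulVecLin ((g : Matrix.GeneralLinearGroup ι F) : Matrix ι ι F) w ∈ D 1 := by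
    intro w hw
    by_cases h : act Q g w ∈ D 0
    · exact Or.inl h
    · exact Or.inr (hB w hw h)
  have hnot : ∀ i : Fin 2, ¬ ((∀ u ∈ D 0, act Q g u ∈ D i) ∧ (∀ w ∈ D 1, act Q g w ∈ D i)) := by
    intro i ⟨h0, h1⟩
    have hall : ∀ z : ι → F, act Q g z ∈ D i := by
      intro z
      obtain ⟨u, hu, w, hw, rfl⟩ := hP.split z
      rw [act_add]
      exact (D i).add_mem (h0 u hu) (h1 w hw)
    have htop : D i = ⊤ := by
      rw [eq_top_iff]
      intro z _
      have := hall (act Q g⁻¹ z)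
      rwa [act_inv_act] at this
    have h3 := hD.finrank_eq i
    have h4 : i = 0 ∨ i = 1 := by
      have h01 : ∀ i : Fin 2, i = 0 ∨ i = 1 := by decide
      exact h01 i
    obtain ⟨u, hu, hu0⟩ : ∃ u ∈ D 0, u ≠ 0 := by
      have hne : D 0 ≠ ⊥ := by
        intro h0
        have h5 := hD.finrank_eq 0
        rw [h0, finrank_bot] at h5
        omega
      exact (Submodule.ne_bot_iff (D 0)).1 hne
    obtain ⟨w, hw, hw0⟩ : ∃ w ∈ D 1, w ≠ 0 := by
      have hne : D 1 ≠ ⊥ := by
        intro h0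
        have h5 := hD.finrank_eq 1
        rw [h0, finrank_bot] at h5
        omega
      exact (Submodule.ne_bot_iff (D 1)).1 hne
    rcases h4 with rfl | rfl
    · apply hw0
      exact hP.inter hQ (htop ▸ Submodule.mem_top) hw
    · apply hu0
      exact hP.inter hQ hu (htop ▸ Submodule.mem_top)
  rcases Cfsg.Agent.Lib.Helper5.SpNondegMax.union_lemma (D 0) (D 0) (D 1) _ hA' with h0 | h0 <;>
    rcases Cfsg.Agent.Lib.Helper5.SpNondegMax.union_lemma (D 1) (D 0) (D 1) _ hB' with h1 | h1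
  · exact hnot 0 ⟨h0, h1⟩
  · exact hg (mem_stab_of_fix hD _ h0 h1)
  · exact hg (mem_stab_of_swap hD _ h0 h1)
  · exact hnot 1 ⟨h0, h1⟩

/-- The stabiliser of a pair of complementary totally singular subspaces of even dimension is a
maximal subgroup of `Ω(Q)`. -/
theorem isMaximalIn (H : Hyp Q) {D : Fin 2 → Submodule F (ι → F)} {k : ℕ} (hk : 5 ≤ k)
    (hke : Even k) (hD : Cfsg.Geo.IsMDecomposition k D) (hts : ∀ i, ∀ w ∈ D i, Q w = 0) :
    Cfsg.Geo.IsMaximalIn (Cfsg.Geo.omegaGL ⇑Q)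
      (Cfsg.Geo.decompositionStabilizer D ⊓ Cfsg.Geo.omegaGL ⇑Q) := by
  have hQ := H.nondeg
  have hP := tsPair hD hts
  refine ⟨lt_of_le_of_ne inf_le_right ?_, ?_⟩
  · intro h
    have hne : D 0 ≠ ⊥ := by
      intro h0
      have h1 := hD.finrank_eq 0
      rw [h0, finrank_bot] at h1
      omega
    obtain ⟨u, hu, hu0⟩ := (Submodule.ne_bot_iff (D 0)).1 hne
    have hlt : ¬ (D 0 ≤ Submodule.span F ({u} : Set (ι → F))) := by
      intro hle
      have h1 := Submodule.finrank_mono hle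
      have h2 : finrank F (Submodule.span F ({u} : Set (ι → F))) ≤ 1 := by
        have := finrank_span_le_card (R := F) ({u} : Set (ι → F))
        simpa using this
      rw [hD.finrank_eq] at h1
      omega
    obtain ⟨u', hu', hu'u⟩ := SetLike.not_le_iff_exists.mp hlt
    have hu'0 : u' ≠ 0 := by
      rintro rfl
      exact hu'u (Submodule.zero_mem _)
    have hnot : u ∉ Submodule.span F ({u'} : Set (ι → F)) := by
      intro hmem
      obtain ⟨c, hc⟩ := Submodule.mem_span_singleton.mp hmem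
      have hc0 : c ≠ 0 := by
        rintro rfl
        rw [zero_smul] at hc
        exact hu0 hc.symm
      apply hu'u
      rw [Submodule.mem_span_singleton]
      exact ⟨c⁻¹, by rw [← hc, smul_smul, inv_mul_cancel₀ hc0, one_smul]⟩
    obtain ⟨w, hw, huw, hw'⟩ := hP.dual_vec hQ _ hu (span_singleton_le hu') hnot
    have hu'w : polar ⇑Q u' w = 0 := hw' u' (Submodule.subset_span (by simp))
    have huu' : polar ⇑Q u u' = 0 := hP.polU hu hu'
    have hmem : ((EG Q u u' : ↥(isometryGroup F ⇑Q)) : Matrix.GeneralLinearGroup ι F) ∈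
        Cfsg.Geo.decompositionStabilizer D ⊓ Cfsg.Geo.omegaGL ⇑Q := by
      rw [h, EG_eq Q u u' (hts 0 u hu) huu']
      exact eich_mem_omegaGL H u u' (hts 0 u hu) huu'
    rcases stab_cases _ hmem.1 with ⟨-, h1⟩ | ⟨h1, -⟩
    · have h3 : act Q (EG Q u u') w ∈ D 1 := h1 w hw
      rw [act_EG Q u u' (hts 0 u hu) huu', hu'w, hts 0 u' hu', zero_mul, add_zero, neg_zero,
        zero_smul, add_zero] at h3
      have h4 : polar ⇑Q u w • u' ∈ D 1 := (Submodule.add_mem_iff_right _ hw).mp h3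
      have h5 : u' ∈ D 1 := by
        have := (D 1).smul_mem (polar ⇑Q u w)⁻¹ h4
        rwa [smul_smul, inv_mul_cancel₀ huw, one_smul] at this
      exact hu'0 (hP.inter hQ hu' h5)
    · have h3 : act Q (EG Q u u') u ∈ D 1 := h1 u hu
      rw [act_EG Q u u' (hts 0 u hu) huu', polar_self_of_sing Q u (hts 0 u hu),
        hP.polU hu' hu, mul_zero, add_zero, neg_zero, zero_smul, zero_smul, add_zero,
        add_zero] at h3
      exact hu0 (hP.inter hQ hu h3)
  · intro M hKM hMS
    by_cases hMK : M ≤ Cfsg.Geo.decompositionStabilizer D ⊓ Cfsg.Geo.omegaGL ⇑Q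
    · left
      exact le_antisymm hMK hKM
    right
    apply le_antisymm hMS
    apply omegaGL_le H
    obtain ⟨g₀, hgM, hgK⟩ := SetLike.not_le_iff_exists.mp hMK
    obtain ⟨g, -, rfl⟩ := (mem_omegaGL_iff Q g₀).mp (hMS hgM)
    have hg : (g : Matrix.GeneralLinearGroup ι F) ∉ Cfsg.Geo.decompositionStabilizer D :=
      fun h => hgK ⟨h, hMS hgM⟩
    have hK := inE_of_stab H hD hts hKM
    have hK' : ∀ a ∈ D 1, ∀ b ∈ D 0, polar ⇑Q a b = 0 → InE Q M a b :=
      fun a ha b hb hab => inE_symm (hK b hb a ha (by rw [polar_comm]; exact hab)) (hts 1 a ha)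
    obtain ⟨J, hJΩ, hJU, hJW⟩ := exists_swap hQ hD hts hke
    have hJM : (J : Matrix.GeneralLinearGroup ι F) ∈ M := by
      apply hKM
      rw [Subgroup.mem_inf]
      exact ⟨mem_stab_of_swap hD _ hJU hJW, (mem_omegaGL_iff Q _).mpr ⟨J, hJΩ, rfl⟩⟩
    have hback : ∀ z : ι → F, IsCentre Q M (act Q J z) → IsCentre Q M z := by
      intro z hz
      have := isCentre_act J⁻¹ (M.inv_mem hJM) hz
      rwa [act_inv_act'] at this
    rcases exists_centre H hD hts hk hKM g hgM hg with ⟨a, ha, ha0, hC⟩ | ⟨a, ha, ha0, hC⟩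
    · have hU : ∀ u ∈ D 0, IsCentre Q M u := hP.centres_of_centre hQ hK ha ha0 hC
      have hW : ∀ w ∈ D 1, IsCentre Q M w := fun w hw => hback w (hU _ (hJW w hw))
      exact hP.all_centres hQ hU hW
    · have hW : ∀ w ∈ D 1, IsCentre Q M w := hP.symm.centres_of_centre hQ hK' ha ha0 hC
      have hU : ∀ u ∈ D 0, IsCentre Q M u := fun u hu => hback u (hW _ (hJU u hu))
      exact hP.all_centres hQ hU hW

end concrete

end Cfsg.Agent.Lib.Helper5.OrthPairMax
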