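import Mathlib
import Cfsg.Prelude
import Cfsg.Agent.Lib.Helper5.OrthPairMax

set_option autoImplicit false
set_option linter.unusedSectionVars false
set_option linter.unusedVariables false
open Cfsg

/-! Elements of `Ω⁺(Q)` preserve each of the two families of maximal totally singular
subspaces. -/

namespace Cfsg.Agent.Lib.Helper5.OrthParity

open Matrix QuadraticMap Module Cfsg.Agent.Lib.Helper5.CartanDieudonne Cfsg.Agent.Lib.Helper5.Refl
  Cfsg.Agent.Lib.Helper5.OrthCard Cfsg.Agent.Lib.Helper5.Siegel Cfsg.Agent.Lib.Helper5.QuadIsom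
  Cfsg.Agent.Lib.Helper5.MaxTS

variable {ι : Type} [Fintype ι] [DecidableEq ι] {F : Type*} [Field F]
  (Q : QuadraticForm F (ι → F))

/-- the image of a subspace under an isometry -/
def img (a : ↥(isometryGroup F ⇑Q)) (U : Submodule F (ι → F)) : Submodule F (ι → F) :=
  U.map (Matrix.toLin' ((a : Matrix.GeneralLinearGroup ι F) : Matrix ι ι F))

theorem mem_img (a : ↥(isometryGroup F ⇑Q)) (U : Submodule F (ι → F)) (x : ι → F) :
    x ∈ img Q a U ↔ ∃ u ∈ U, act Q a u = x := by
  unfold img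
  rw [Submodule.mem_map]
  simp only [Matrix.toLin'_apply]

theorem toLin_injective (a : ↥(isometryGroup F ⇑Q)) :
    Function.Injective (Matrix.toLin' ((a : Matrix.GeneralLinearGroup ι F) : Matrix ι ι F)) := by
  intro x y hxy
  have := congrArg (fun z => act Q a⁻¹ z) hxy
  simp only [Matrix.toLin'_apply] at this
  have h1 : act Q a⁻¹ (act Q a x) = x := by
    have := act_inv_act Q a⁻¹ x
    rwa [inv_inv] at this
  have h2 : act Q a⁻¹ (act Q a y) = y := by
    have := act_inv_act Q a⁻¹ y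
    rwa [inv_inv] at this
  rw [← h1, ← h2]
  exact this

theorem img_mul (a b : ↥(isometryGroup F ⇑Q)) (U : Submodule F (ι → F)) :
    img Q (a * b) U = img Q a (img Q b U) := by
  ext x
  rw [mem_img, mem_img]
  constructor
  · rintro ⟨u, hu, rfl⟩
    exact ⟨act Q b u, (mem_img Q b U _).mpr ⟨u, hu, rfl⟩, (act_mul Q a b u).symm⟩
  · rintro ⟨y, hy, rfl⟩
    obtain ⟨u, hu, rfl⟩ := (mem_img Q b U y).mp hy
    exact ⟨u, hu, act_mul Q a b u⟩

theorem finrank_img (a : ↥(isometryGroup F ⇑Q)) (U : Submodule F (ι → F)) :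
    finrank F (img Q a U) = finrank F U :=
  (Submodule.equivMapOfInjective _ (toLin_injective Q a) U).finrank_eq.symm

theorem img_inf (a : ↥(isometryGroup F ⇑Q)) (U W : Submodule F (ι → F)) :
    img Q a (U ⊓ W) = img Q a U ⊓ img Q a W :=
  Submodule.map_inf _ (toLin_injective Q a)

theorem img_ts (a : ↥(isometryGroup F ⇑Q)) (U : Submodule F (ι → F)) (hU : ∀ u ∈ U, Q u = 0) :
    ∀ x ∈ img Q a U, Q x = 0 := by
  intro x hx
  obtain ⟨u, hu, rfl⟩ := (mem_img Q a U x).mp hx
  rw [quad_act]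
  exact hU u hu

theorem img_mono (a : ↥(isometryGroup F ⇑Q)) {U W : Submodule F (ι → F)} (h : U ≤ W) :
    img Q a U ≤ img Q a W := Submodule.map_mono h

theorem img_isMaxTS (m : ℕ) (a : ↥(isometryGroup F ⇑Q)) (U : Submodule F (ι → F))
    (hU : IsMaxTS Q m U) : IsMaxTS Q m (img Q a U) :=
  ⟨by rw [finrank_img, hU.1], img_ts Q a U hU.2⟩

/-- the codimension in `U` of the intersection with the image of `U` -/
noncomputable def dist (m : ℕ) (U : Submodule F (ι → F)) (a : ↥(isometryGroup F ⇑Q)) : ℕ :=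
  m - finrank F ↥(U ⊓ img Q a U)

section parity
variable (hQ : (polarBilin Q).Nondegenerate) (m : ℕ) (hV : finrank F (ι → F) = 2 * m)
  (U : Submodule F (ι → F)) (hU : IsMaxTS Q m U)

include hQ hV hU in
theorem even_dist_mul (a b : ↥(isometryGroup F ⇑Q)) :
    Even (dist Q m U a + dist Q m U b + dist Q m U (a * b)) := by
  have h := even_sum Q hQ m hV U (img Q a U) (img Q (a * b) U) hU (img_isMaxTS Q m a U hU)
    (img_isMaxTS Q m (a * b) U hU)
  rw [img_mul, ← img_inf, finrank_img, ← img_mul] at h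
  exact h

include hQ hV hU in
theorem cast_dist_mul (a b : ↥(isometryGroup F ⇑Q)) :
    ((dist Q m U (a * b) : ℕ) : ZMod 2) = (dist Q m U a : ZMod 2) + (dist Q m U b : ZMod 2) := by
  have h := ZMod.natCast_eq_zero_iff_even.mpr (even_dist_mul Q hQ m hV U hU a b)
  push_cast at h
  have h2 : ((dist Q m U (a * b) : ℕ) : ZMod 2) =
      -((dist Q m U a : ZMod 2) + (dist Q m U b : ZMod 2)) := eq_neg_of_add_eq_zero_right h
  rw [h2, ZMod.neg_eq_self_mod_two]

/-- the parity homomorphism -/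
noncomputable def parHom : ↥(isometryGroup F ⇑Q) →* Multiplicative (ZMod 2) :=
  MonoidHom.mk' (fun a => Multiplicative.ofAdd ((dist Q m U a : ℕ) : ZMod 2)) (by
    intro a b
    rw [← ofAdd_add]
    exact congrArg _ (cast_dist_mul Q hQ m hV U hU a b))

include hQ hV hU in
/-- elements of `Ω` move a maximal totally singular subspace to one of the same family -/
theorem even_of_mem_Omega (a : ↥(isometryGroup F ⇑Q)) (ha : a ∈ Omega F ⇑Q) :
    Even (m - finrank F ↥(U ⊓ img Q a U)) := by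
  have h1 : a ∈ (parHom Q hQ m hV U hU).ker :=
    Abelianization.commutator_subset_ker (parHom Q hQ m hV U hU) ha
  rw [MonoidHom.mem_ker] at h1
  have h2 : ((dist Q m U a : ℕ) : ZMod 2) = 0 := by
    have : Multiplicative.ofAdd ((dist Q m U a : ℕ) : ZMod 2) = 1 := h1
    exact this
  exact ZMod.natCast_eq_zero_iff_even.mp h2

end parity

section pair
open Cfsg.Agent.Lib.Helper5.OrthPairMax Cfsg.Agent.Lib.Helper5.OmegaSimple
  Cfsg.Agent.Lib.Helper5.OrthSingularMax Cfsg.Agent.Lib.Helper5.Eichler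
  Cfsg.Agent.Lib.Helper5.ReflGen

variable {Q} [Fintype F]

/-- a root element fixing the first block pointwise and not stabilising the pair -/
theorem exists_eich_not_mem_stab (H : Hyp Q) {D : Fin 2 → Submodule F (ι → F)} {k : ℕ}
    (hk : 2 ≤ k) (hD : Cfsg.Geo.IsMDecomposition k D) (hts : ∀ i, ∀ w ∈ D i, Q w = 0) :
    ∃ u ∈ D 0, ∃ u' ∈ D 0, polar ⇑Q u u' = 0 ∧
      ((EG Q u u' : ↥(isometryGroup F ⇑Q)) : Matrix.GeneralLinearGroup ι F) ∉
        Cfsg.Geo.decompositionStabilizer D := by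
  have hQ := H.nondeg
  have hP := tsPair hD hts
  have hne : D 0 ≠ ⊥ := by
    intro h0
    have h1 := hD.finrank_eq 0
    rw [h0, finrank_bot] at h1
    omega
  obtain ⟨u, hu, hu0⟩ := (Submodule.ne_bot_iff (D 0)).1 hne
  have hlt : ¬ (D 0 ≤ Submodule.span F ({u} : Set (ι → F))) := by
    intro hle
    have h1 := Submodule.finrank_mono hle
    have h2 : finrank F (Submodule.span F ({u} : Set (ι → F))) ≤ 1 := by
      have := finrank_span_le_card (R := F) ({u} : Set (ι → F))
      simpa using this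
    rw [hD.finrank_eq] at h1
    omega
  obtain ⟨u', hu', hu'u⟩ := SetLike.not_le_iff_exists.mp hlt
  have hu'0 : u' ≠ 0 := by
    rintro rfl
    exact hu'u (Submodule.zero_mem _)
  have hnot : u ∉ Submodule.span F ({u'} : Set (ι → F)) := by
    intro hmem
    obtain ⟨c, hc⟩ := Submodule.mem_span_singleton.mp hmem
    have hc0 : c ≠ 0 := by
      rintro rfl
      rw [zero_smul] at hc
      exact hu0 hc.symm
    apply hu'u
    rw [Submodule.mem_span_singleton]
    exact ⟨c⁻¹, by rw [← hc, smul_smul, inv_mul_cancel₀ hc0, one_smul]⟩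
  obtain ⟨w, hw, huw, hw'⟩ := hP.dual_vec hQ _ hu (span_singleton_le hu') hnot
  have hu'w : polar ⇑Q u' w = 0 := hw' u' (Submodule.subset_span (by simp))
  have huu' : polar ⇑Q u u' = 0 := hP.polU hu hu'
  refine ⟨u, hu, u', hu', huu', fun hmem => ?_⟩
  rcases stab_cases _ hmem with ⟨-, h1⟩ | ⟨h1, -⟩
  · have h3 : act Q (EG Q u u') w ∈ D 1 := h1 w hw
    rw [act_EG Q u u' (hts 0 u hu) huu', hu'w, hts 0 u' hu', zero_mul, add_zero, neg_zero,
      zero_smul, add_zero] at h3
    have h4 : polar ⇑Q u w • u' ∈ D 1 := (Submodule.add_mem_iff_right _ hw).mp h3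
    have h5 : u' ∈ D 1 := by
      have := (D 1).smul_mem (polar ⇑Q u w)⁻¹ h4
      rwa [smul_smul, inv_mul_cancel₀ huw, one_smul] at this
    exact hu'0 (hP.inter hQ hu' h5)
  · have h3 : act Q (EG Q u u') u ∈ D 1 := h1 u hu
    rw [act_EG Q u u' (hts 0 u hu) huu', polar_self_of_sing Q u (hts 0 u hu),
      hP.polU hu' hu, mul_zero, add_zero, neg_zero, zero_smul, zero_smul, add_zero,
      add_zero] at h3
    exact hu0 (hP.inter hQ hu h3)

/-- for odd `k`, the stabiliser in `Ω` of a pair of complementary totally singular `k`-spaces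
lies strictly between... in the stabiliser of the first one -/
theorem pair_stab_lt (H : Hyp Q) {D : Fin 2 → Submodule F (ι → F)} {k : ℕ} (hk : 2 ≤ k)
    (hko : Odd k) (hV : finrank F (ι → F) = 2 * k) (hD : Cfsg.Geo.IsMDecomposition k D)
    (hts : ∀ i, ∀ w ∈ D i, Q w = 0) :
    Cfsg.Geo.decompositionStabilizer D ⊓ Cfsg.Geo.omegaGL ⇑Q <
      Cfsg.Geo.subspaceStabilizer (D 0) ⊓ Cfsg.Geo.omegaGL ⇑Q := by
  have hQ := H.nondeg
  have hP := tsPair hD hts
  have hU : IsMaxTS Q k (D 0) := ⟨hD.finrank_eq 0, hts 0⟩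
  apply lt_of_le_of_ne
  · rintro g ⟨hgS, hgΩ⟩
    refine ⟨?_, hgΩ⟩
    obtain ⟨a, haΩ, rfl⟩ := (mem_omegaGL_iff Q g).mp hgΩ
    obtain ⟨σ, hσ⟩ := hgS
    have h01 : ∀ i : Fin 2, i = 0 ∨ i = 1 := by decide
    rcases h01 (σ 0) with h0 | h0
    · apply Cfsg.Agent.Lib.Helper5.SpSingularMax.mem_stab_of_map_le
      intro x hx
      have : Matrix.toLin' ((a : Matrix.GeneralLinearGroup ι F) : Matrix ι ι F) x ∈
          (D 0).map (Matrix.toLin' ((a : Matrix.GeneralLinearGroup ι F) : Matrix ι ι F)) :=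
        ⟨x, hx, rfl⟩
      rw [hσ 0, h0, Matrix.toLin'_apply] at this
      exact this
    · exfalso
      have heven := even_of_mem_Omega Q hQ k hV (D 0) hU a haΩ
      have himg : img Q a (D 0) = D 1 := by
        unfold img
        rw [hσ 0, h0]
      rw [himg] at heven
      have hbot : D 0 ⊓ D 1 = ⊥ := by
        rw [eq_bot_iff]
        intro x hx
        rw [Submodule.mem_bot]
        exact hP.inter hQ hx.1 hx.2
      rw [hbot, finrank_bot, Nat.sub_zero] at heven
      exact (Nat.not_even_iff_odd.mpr hko) heven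
  · intro heq
    obtain ⟨u, hu, u', hu', huu', hnot⟩ := exists_eich_not_mem_stab H hk hD hts
    have hmem : ((EG Q u u' : ↥(isometryGroup F ⇑Q)) : Matrix.GeneralLinearGroup ι F) ∈
        Cfsg.Geo.subspaceStabilizer (D 0) ⊓ Cfsg.Geo.omegaGL ⇑Q := by
      rw [EG_eq Q u u' (hts 0 u hu) huu']
      exact eich_mem_P_of_mem H (D 0) (hts 0) u u' hu huu'
    rw [← heq] at hmem
    exact hnot hmem.1

end pair

end Cfsg.Agent.Lib.Helper5.OrthParity
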