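import Mathlib
import Cfsg.Prelude
import Cfsg.Agent.Lib.Helper5.OrthParity
import Cfsg.Agent.Lib.Helper5.OmegaCrit

set_option autoImplicit false
set_option linter.unusedSectionVars false
set_option linter.unusedVariables false
open Cfsg

/-! The class of a maximal totally singular subspace changes under every reflection. -/

namespace Cfsg.Agent.Lib.Helper5.ClassParity

open Matrix QuadraticMap Module Cfsg.Agent.Lib.Helper5.CartanDieudonne Cfsg.Agent.Lib.Helper5.Refl
  Cfsg.Agent.Lib.Helper5.OrthCard Cfsg.Agent.Lib.Helper5.Siegel Cfsg.Agent.Lib.Helper5.QuadIsom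
  Cfsg.Agent.Lib.Helper5.MaxTS Cfsg.Agent.Lib.Helper5.OrthParity
  Cfsg.Agent.Lib.Helper5.SpinorNorm Cfsg.Agent.Lib.Helper5.OrthPairMax

variable {ι : Type} [Fintype ι] [DecidableEq ι] {F : Type*} [Field F] [Fintype F]
  (Q : QuadraticForm F (ι → F))

section parity
variable (hQ : (polarBilin Q).Nondegenerate) (m : ℕ) (hV : finrank F (ι → F) = 2 * m)
  (U : Submodule F (ι → F)) (hU : IsMaxTS Q m U)

include hQ hV hU in
/-- a reflection moves a maximal totally singular subspace to an adjacent one -/
theorem dist_reflection (a : ι → F) (ha : Q a ≠ 0) : OrthParity.dist Q m U (reflection Q a ha) = 1 := by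
  unfold OrthParity.dist
  have h1 := finrank_inf_orth hQ U (Submodule.span F ({a} : Set (ι → F)))
  have h2 : finrank F (Submodule.span F ({a} : Set (ι → F))) ≤ 1 := by
    have := finrank_span_le_card (R := F) ({a} : Set (ι → F))
    simpa using this
  have hle : U ⊓ MaxTS.orth Q (Submodule.span F ({a} : Set (ι → F))) ≤
      U ⊓ img Q (reflection Q a ha) U := by
    intro x hx
    refine ⟨hx.1, (mem_img Q _ U x).mpr ⟨x, hx.1, ?_⟩⟩
    have hax : polar ⇑Q a x = 0 :=
      (mem_orth Q _ x).mp hx.2 a (Submodule.mem_span_singleton_self a)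
    rw [act_reflection, hax, mul_zero, zero_smul, sub_zero]
  have h3 := Submodule.finrank_mono hle
  have hlt : U ⊓ img Q (reflection Q a ha) U < U := by
    refine lt_of_le_of_ne inf_le_left ?_
    intro heq
    have hUr : U ≤ img Q (reflection Q a ha) U := by
      intro x hx
      have hx' : x ∈ U ⊓ img Q (reflection Q a ha) U := by
        rw [heq]
        exact hx
      exact hx'.2
    have himg := img_isMaxTS Q m (reflection Q a ha) U hU
    have hEq : U = img Q (reflection Q a ha) U := eq_of_le Q m U _ hU himg hUr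
    have haU : a ∈ MaxTS.orth Q U := by
      rw [mem_orth]
      intro u hu
      by_contra hne
      have hru : act Q (reflection Q a ha) u ∈ U := by
        rw [hEq]
        exact (mem_img Q _ U _).mpr ⟨u, hu, rfl⟩
      rw [act_reflection] at hru
      have h5 : ((Q a)⁻¹ * polar ⇑Q a u) • a ∈ U := by
        have := U.sub_mem hu hru
        rwa [sub_sub_cancel] at this
      have hc : (Q a)⁻¹ * polar ⇑Q a u ≠ 0 := by
        apply mul_ne_zero (inv_ne_zero ha)
        rw [polar_comm]
        exact hne
      have h6 : a ∈ U := by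
        have := U.smul_mem ((Q a)⁻¹ * polar ⇑Q a u)⁻¹ h5
        rwa [smul_smul, inv_mul_cancel₀ hc, one_smul] at this
      exact ha (hU.2 a h6)
    rw [orth_eq_of_max Q hQ m hV U hU] at haU
    exact ha (hU.2 a haU)
  have h4 := Submodule.finrank_lt_finrank_of_lt hlt
  rw [hU.1] at h1 h4
  omega

include hQ hV hU in
theorem parHom_reflE (a : ι → F) (ha : Q a ≠ 0) :
    parHom Q hQ m hV U hU (reflE Q a) = Multiplicative.ofAdd (1 : ZMod 2) := by
  rw [reflE_of_ne Q a ha]
  show Multiplicative.ofAdd ((OrthParity.dist Q m U (reflection Q a ha) : ℕ) : ZMod 2) = _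
  rw [dist_reflection Q hQ m hV U hU a ha, Nat.cast_one]

include hQ hV hU in
theorem parHom_prod (vs : List (ι → F)) (hvs : ∀ v ∈ vs, Q v ≠ 0) :
    parHom Q hQ m hV U hU (vs.map (reflE Q)).prod =
      Multiplicative.ofAdd ((vs.length : ℕ) : ZMod 2) := by
  induction vs with
  | nil => simp
  | cons v t ih =>
    rw [List.map_cons, List.prod_cons, map_mul,
      parHom_reflE Q hQ m hV U hU v (hvs v (List.mem_cons_self ..)),
      ih (fun x hx => hvs x (List.mem_cons_of_mem _ hx)), ← ofAdd_add, List.length_cons]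
    congr 1
    push_cast
    ring

include hQ hV hU in
/-- an isometry preserves the class iff it is a product of an even number of reflections -/
theorem even_dist_iff (g : ↥(isometryGroup F ⇑Q)) (vs : List (ι → F)) (hvs : IsRep Q g vs) :
    Even (m - finrank F ↥(U ⊓ img Q g U)) ↔ Even vs.length := by
  have h1 : parHom Q hQ m hV U hU g = Multiplicative.ofAdd ((vs.length : ℕ) : ZMod 2) := by
    rw [rep_eq_prod Q hvs]
    exact parHom_prod Q hQ m hV U hU vs hvs.1
  have h2 : parHom Q hQ m hV U hU g = Multiplicative.ofAdd ((OrthParity.dist Q m U g : ℕ) : ZMod 2) := rfl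
  rw [h2] at h1
  have h3 : ((OrthParity.dist Q m U g : ℕ) : ZMod 2) = ((vs.length : ℕ) : ZMod 2) :=
    Multiplicative.ofAdd.injective h1
  rw [← ZMod.natCast_eq_zero_iff_even, ← ZMod.natCast_eq_zero_iff_even]
  show ((OrthParity.dist Q m U g : ℕ) : ZMod 2) = 0 ↔ _
  rw [h3]

end parity

end Cfsg.Agent.Lib.Helper5.ClassParity
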