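import Mathlib

set_option autoImplicit false

/-!
The `q`-power endomorphism of a finite field with `q ^ m` elements and the number of its fixed
points.
-/

namespace Cfsg.Agent.Lib.Helper5.FrobFix

variable {K : Type*} [Field K] [Fintype K]

/-- the `q`-power map as a ring endomorphism -/
theorem exists_frob {q m : ℕ} (hq : IsPrimePow q) (hm : m ≠ 0) (hK : Fintype.card K = q ^ m) :
    ∃ f : K →+* K, (∀ x, f x = x ^ q) ∧ (∀ x, f^[m] x = x) := by
  obtain ⟨p, e, hp, he, rfl⟩ := hq
  have hp' : Nat.Prime p := Nat.prime_iff.2 hp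
  obtain ⟨p', hchar⟩ := CharP.exists K
  have := hchar
  have hp'' : Fact p'.Prime := ⟨CharP.char_is_prime K p'⟩
  obtain ⟨n, -, hn⟩ := FiniteField.card K p'
  have hpp : p = p' := by
    have h1 : p ∣ p' ^ (n : ℕ) := by
      rw [← hn, hK, ← pow_mul]
      exact dvd_pow_self p (Nat.mul_ne_zero (Nat.pos_iff_ne_zero.1 he) hm)
    exact (Nat.prime_dvd_prime_iff_eq hp' hp''.out).1 (hp'.dvd_of_dvd_pow h1)
  subst hpp
  have : ExpChar K p := ExpChar.prime hp'
  refine ⟨iterateFrobenius K p e, fun x => iterateFrobenius_def p e x, ?_⟩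
  have hit : ∀ k : ℕ, ∀ x : K, (iterateFrobenius K p e)^[k] x = x ^ ((p ^ e) ^ k) := by
    intro k
    induction k with
    | zero => intro x; simp
    | succ k ih =>
      intro x
      rw [Function.iterate_succ_apply', ih, iterateFrobenius_def, ← pow_mul, pow_succ]
  intro x
  rw [hit, ← hK, FiniteField.pow_card]

/-- the number of fixed points of the `q`-power map -/
theorem card_fixed {q m : ℕ} (hq : 2 ≤ q) (hK : Fintype.card K = q ^ m) :
    Nat.card {x : K // x ^ q = x} = q := by
  classical
  have hq1 : q - 1 + 1 = q := by omega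
  have hker : Nat.card (powMonoidHom (q - 1) : Kˣ →* Kˣ).ker = q - 1 := by
    rw [IsCyclic.card_powMonoidHom_ker, Nat.card_units, Nat.card_eq_fintype_card, hK]
    apply Nat.gcd_eq_right
    have h1 : ((q : ℤ) - 1) ∣ (q : ℤ) ^ m - 1 := sub_one_dvd_pow_sub_one (q : ℤ) m
    have h2 : ((q - 1 : ℕ) : ℤ) = (q : ℤ) - 1 := by
      rw [Nat.cast_sub (by omega)]; rfl
    have h3 : ((q ^ m - 1 : ℕ) : ℤ) = (q : ℤ) ^ m - 1 := by
      rw [Nat.cast_sub (Nat.one_le_pow _ _ (by omega)), Nat.cast_pow]; rfl
    rw [← h2, ← h3] at h1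
    exact Int.natCast_dvd_natCast.1 h1
  have e : {x : K // x ^ q = x} ≃ Option ((powMonoidHom (q - 1) : Kˣ →* Kˣ).ker) :=
    { toFun := fun x =>
        if h : x.1 = 0 then none else some ⟨Units.mk0 x.1 h, by
          rw [MonoidHom.mem_ker, powMonoidHom_apply]
          apply Units.ext
          rw [Units.val_pow_eq_pow_val, Units.val_mk0, Units.val_one]
          have h1 : x.1 ^ (q - 1) * x.1 = 1 * x.1 := by
            rw [← pow_succ, hq1, x.2, one_mul]
          exact mul_right_cancel₀ h h1⟩
      invFun := fun o =>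
        match o with
        | none => ⟨0, zero_pow (by omega)⟩
        | some u => ⟨(u.1 : K), by
            have h1 := u.2
            rw [MonoidHom.mem_ker, powMonoidHom_apply] at h1
            have h2 : ((u.1 : Kˣ) : K) ^ (q - 1) = 1 := by
              rw [← Units.val_pow_eq_pow_val, h1, Units.val_one]
            have h3 : ((u.1 : Kˣ) : K) ^ q = ((u.1 : Kˣ) : K) ^ (q - 1 + 1) := by
              congr 1; exact hq1.symm
            rw [h3, pow_succ, h2, one_mul]⟩
      left_inv := by
        intro x
        by_cases h : x.1 = 0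
        · simp only [dif_pos h]
          exact Subtype.ext h.symm
        · simp only [dif_neg h]
          rfl
      right_inv := by
        intro o
        cases o with
        | none => simp
        | some u =>
          have : ((u.1 : Kˣ) : K) ≠ 0 := Units.ne_zero _
          simp only [dif_neg this]
          congr 1
          apply Subtype.ext
          apply Units.ext
          rfl }
  rw [Nat.card_congr e, Nat.card_eq_fintype_card, Fintype.card_option,
    ← Nat.card_eq_fintype_card, hker, hq1]

/-- the number of non-zero fixed points of the `q`-power map -/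
theorem card_units_fixed {q m : ℕ} (hq : 2 ≤ q) (hK : Fintype.card K = q ^ m) :
    Nat.card {u : Kˣ // u ^ q = u} = q - 1 := by
  have hq1 : q - 1 + 1 = q := by omega
  have hker : Nat.card (powMonoidHom (q - 1) : Kˣ →* Kˣ).ker = q - 1 := by
    rw [IsCyclic.card_powMonoidHom_ker, Nat.card_units, Nat.card_eq_fintype_card, hK]
    apply Nat.gcd_eq_right
    have h1 : ((q : ℤ) - 1) ∣ (q : ℤ) ^ m - 1 := sub_one_dvd_pow_sub_one (q : ℤ) m
    have h2 : ((q - 1 : ℕ) : ℤ) = (q : ℤ) - 1 := by
      rw [Nat.cast_sub (by omega)]; rfl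
    have h3 : ((q ^ m - 1 : ℕ) : ℤ) = (q : ℤ) ^ m - 1 := by
      rw [Nat.cast_sub (Nat.one_le_pow _ _ (by omega)), Nat.cast_pow]; rfl
    rw [← h2, ← h3] at h1
    exact Int.natCast_dvd_natCast.1 h1
  rw [← hker]
  apply Nat.card_congr
  apply Equiv.subtypeEquivRight
  intro u
  rw [MonoidHom.mem_ker, powMonoidHom_apply]
  constructor
  · intro h
    have h1 : u ^ (q - 1) * u = 1 * u := by rw [← pow_succ, hq1, h, one_mul]
    exact mul_right_cancel h1
  · intro h
    have h3 : u ^ q = u ^ (q - 1 + 1) := by congr 1; exact hq1.symm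
    rw [h3, pow_succ, h, one_mul]

end Cfsg.Agent.Lib.Helper5.FrobFix
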