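import Mathlib
import Cfsg.Prelude.Def_LieTwisted
import Cfsg.Agent.Lib.Helper5.ChevTwistN
import Cfsg.Agent.Lib.Helper5.ChevChk.TwistData
import Cfsg.Agent.Lib.Helper5.FrobFix

set_option autoImplicit false

/-!
The twisted group `³D₄(q)`: it consists of fixed points of `σ`, it contains all the fixed points of
`σ` in `U`, and `U ∩ ³D₄(q)` has `q ^ 12` elements.
-/

namespace Cfsg.Agent.Lib.Helper5.Tw3D4

open Cfsg Cfsg.Lie Cfsg.Agent.Lib.Helper5.ChevStruct Cfsg.Agent.Lib.Helper5.ChevSym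

theorem hD4 : chevD4 ∈ Seven := by simp [Seven]

theorem hG4 : ∀ r < twD4.D.nroots, checkGraphAt twD4.D twD4.G r = true :=
  fun r hr => chkGraph_gD4a r hr

/-- the forest of blocks -/
def edges : List (List ℕ × ℕ × ℕ) :=
  [([1], 0, 2), ([0, 2, 3], 1, 4), ([0, 2, 3], 2, 3), ([1], 4, 5)]

/-- the orbits of the fundamental roots -/
def orbits : List (List ℕ) := [[0, 2, 3], [1]]

set_option maxRecDepth 100000 in
theorem forest_ok : checkForestB twD4 [0, 1] edges = true := by decide +kernel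

theorem edges_orbits : ∀ e ∈ edges, e.1 ∈ orbits := by decide

set_option maxRecDepth 100000 in
theorem orth_ok : ∀ J ∈ orbits, checkOrth chevD4 J = true := by decide +kernel

section

variable {K : Type*} [Field K] {q : ℕ} (f : K →+* K) (hf : ∀ x, f x = x ^ q)
  (hf3 : ∀ x, f (f (f x)) = x)

theorem wordGL_mem (w : List (ℕ × K)) (hw : w ∈ d4Words K q) :
    wordGL chevD4 hD4 w ∈ twistedD4 K q :=
  Subgroup.subset_closure ⟨w, hw, wordGL_val chevD4 hD4 w⟩

theorem single_mem (r : ℕ) (hr : r ∈ [d4p2, d4m2]) (t : K) (ht : t ^ q = t) :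
    xGL chevD4 hD4 r t ∈ twistedD4 K q := by
  have := wordGL_mem (q := q) [(r, t)] (Or.inl ⟨t, ht, r, hr, rfl⟩)
  simpa [wordGL] using this

theorem triple_mem (rs : ℕ × ℕ × ℕ) (hrs : rs ∈ [(d4p1, d4p3, d4p4), (d4m1, d4m3, d4m4)])
    (t : K) : xGL chevD4 hD4 rs.1 t * (xGL chevD4 hD4 rs.2.1 (t ^ q) *
      xGL chevD4 hD4 rs.2.2 (t ^ (q ^ 2))) ∈ twistedD4 K q := by
  have := wordGL_mem (q := q) [(rs.1, t), (rs.2.1, t ^ q), (rs.2.2, t ^ (q ^ 2))]
    (Or.inr ⟨t, rs, hrs, rfl⟩)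
  simpa [wordGL] using this

theorem triple_facts : ∀ rs ∈ [(d4p1, d4p3, d4p4), (d4m1, d4m3, d4m4)],
    commOK chevD4 rs.2.1 rs.1 = true ∧ commOK chevD4 rs.2.2 rs.1 = true ∧
    gD4a.pr.getD rs.1 0 = rs.2.1 ∧ gD4a.pr.getD rs.2.1 0 = rs.2.2 ∧ gD4a.pr.getD rs.2.2 0 = rs.1 ∧
    gD4a.eps.getD rs.1 1 = 1 ∧ gD4a.eps.getD rs.2.1 1 = 1 ∧ gD4a.eps.getD rs.2.2 1 = 1 ∧
    rs.1 < 24 ∧ rs.2.1 < 24 ∧ rs.2.2 < 24 := by
  decide +kernel

theorem single_facts : ∀ r ∈ [d4p2, d4m2],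
    gD4a.pr.getD r 0 = r ∧ gD4a.eps.getD r 1 = 1 ∧ r < 24 := by
  decide +kernel

include hf in
theorem f_sq (t : K) : f (f t) = t ^ (q ^ 2) := by
  rw [hf, hf, ← pow_mul, pow_two]

include hf hf3 in
/-- the twisted group consists of fixed points of `σ` -/
theorem twisted_le_fix : twistedD4 K q ≤ sigmaFix chevD4 gD4a chkGraphPerm_gD4a f := by
  unfold twistedD4 ChevalleyDatum.genSubgroup
  rw [Subgroup.closure_le]
  rintro g ⟨w, hw, hg⟩
  have e : g = wordGL chevD4 hD4 w := Units.ext (by rw [hg, wordGL_val])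
  rw [e, SetLike.mem_coe, mem_sigmaFix]
  rcases hw with ⟨t, ht, r, hr, rfl⟩ | ⟨t, rs, hrs, rfl⟩
  · obtain ⟨h1, h2, h3⟩ := single_facts r hr
    rw [sigma_wordGL chevD4 hD4 gD4a chkGraphPerm_gD4a (fun r hr => chkGraph_gD4a r hr) f _
      (by simp only [List.mem_cons, List.not_mem_nil, or_false]; rintro p rfl; exact h3)]
    simp only [List.map_cons, List.map_nil, h1, h2, Int.cast_one, one_mul, hf, ht]
  · obtain ⟨c1, c2, h1, h2, h3, h4, h5, h6, h7, h8, h9⟩ := triple_facts rs hrs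
    rw [sigma_wordGL chevD4 hD4 gD4a chkGraphPerm_gD4a (fun r hr => chkGraph_gD4a r hr) f _
      (by simp only [List.mem_cons, List.not_mem_nil, or_false]; rintro p (rfl | rfl | rfl)
          · exact h7
          · exact h8
          · exact h9)]
    simp only [List.map_cons, List.map_nil, h1, h2, h3, h4, h5, h6, Int.cast_one, one_mul]
    rw [← f_sq f hf t, ← hf t, hf3 t]
    simp only [wordGL, List.map_cons, List.map_nil, List.prod_cons, List.prod_nil, mul_one]
    have k1 := (xGL_commute chevD4 hD4 _ _ c1 (f t) t).eq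
    have k2 := (xGL_commute chevD4 hD4 _ _ c2 (f (f t)) t).eq
    rw [← mul_assoc, ← mul_assoc, mul_assoc (xGL chevD4 hD4 rs.2.1 (f t)), k2, ← mul_assoc, k1]

theorem orbits_nodup : ∀ J ∈ orbits, J.Nodup := by decide

theorem simple_vals : chevD4.simple 0 = d4p1 ∧ chevD4.simple 1 = d4p2 ∧ chevD4.simple 2 = d4p3 ∧
    chevD4.simple 3 = d4p4 ∧
    chevD4.neg d4p1 = d4m1 ∧ chevD4.neg d4p2 = d4m2 ∧ chevD4.neg d4p3 = d4m3 ∧
    chevD4.neg d4p4 = d4m4 := by
  decide +kernel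

include hf in
/-- the elements `n_J` lie in the twisted group -/
theorem nJ_mem : ∀ J ∈ orbits, wGL chevD4 hD4 J ∈ twistedD4 K q := by
  intro J hJ
  rw [wGL_orth chevD4 hD4 J (orth_ok J hJ) (orbits_nodup J hJ)]
  obtain ⟨s0, s1, s2, s3, n0, n1, n2, n3⟩ := simple_vals
  have h1 : (1 : K) ^ q = 1 := one_pow q
  have h1' : (1 : K) ^ (q ^ 2) = 1 := one_pow _
  have hm1 : (-1 : K) ^ q = -1 := by rw [← hf, map_neg, map_one]
  have hm1' : (-1 : K) ^ (q ^ 2) = -1 := by rw [← f_sq f hf, map_neg, map_one, map_neg, map_one]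
  simp only [orbits, List.mem_cons, List.not_mem_nil, or_false] at hJ
  rcases hJ with rfl | rfl
  · simp only [List.map_cons, List.map_nil, s0, s2, s3, n0, n2, n3, wordGL, List.prod_cons,
      List.prod_nil, mul_one]
    have a := triple_mem (q := q) (d4p1, d4p3, d4p4) (by simp) (1 : K)
    have b := triple_mem (q := q) (d4m1, d4m3, d4m4) (by simp) (-1 : K)
    rw [h1, h1'] at a
    rw [hm1, hm1'] at b
    exact mul_mem (mul_mem a b) a
  · simp only [List.map_cons, List.map_nil, s1, n1, wordGL, List.prod_cons, List.prod_nil,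
      mul_one]
    have a := single_mem (q := q) d4p2 (by simp) (1 : K) h1
    have b := single_mem (q := q) d4m2 (by simp) (-1 : K) hm1
    exact mul_mem (mul_mem a b) a

theorem base_facts : twD4.blocks.getD 0 [] = [d4p4, d4p1, d4p3] ∧ twD4.blocks.getD 1 [] = [d4p2] ∧
    twD4.prInv d4p4 = d4p3 ∧ twD4.prInv d4p3 = d4p1 ∧ twD4.prInv d4p2 = d4p2 ∧
    twD4.eps d4p1 = 1 ∧ twD4.eps d4p3 = 1 ∧ twD4.eps d4p2 = 1 ∧
    commOK chevD4 d4p4 d4p1 = true ∧ commOK chevD4 d4p4 d4p3 = true := by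
  decide +kernel

theorem base_mem_blocks : [d4p4, d4p1, d4p3] ∈ twD4.blocks ∧ [d4p2] ∈ twD4.blocks := by
  decide +kernel

include hf in
theorem base_mem [Fintype K] : ∀ i ∈ [0, 1], ∀ t : ℕ → K,
    prodL chevD4 hD4 (twD4.blocks.getD i []) t ∈ sigmaFix chevD4 gD4a chkGraphPerm_gD4a f →
      prodL chevD4 hD4 (twD4.blocks.getD i []) t ∈ twistedD4 K q := by
  obtain ⟨b0, b1, i4, i3, i2, e1, e3, e2, c1, c3⟩ := base_facts
  obtain ⟨m0, m1⟩ := base_mem_blocks
  intro i hi t ht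
  simp only [List.mem_cons, List.not_mem_nil, or_false] at hi
  rcases hi with rfl | rfl
  · rw [b0] at ht ⊢
    have hc := block_fixed_compat twD4 twD4_ok hD4 chkGraphPerm_gD4a hG4 f _ m0 t ht
    have hc4 := hc d4p4 (by simp)
    have hc3 := hc d4p3 (by simp)
    unfold sigT at hc4 hc3
    rw [i4, e3, Int.cast_one, one_mul] at hc4
    rw [i3, e1, Int.cast_one, one_mul, hf] at hc3
    rw [← hc3, ← hf, f_sq f hf] at hc4
    rw [prodL_cons, prodL_cons, prodL_cons, prodL_nil, mul_one, ← hc4, ← hc3]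
    have k1 := (xGL_commute chevD4 hD4 _ _ c1 (t d4p1 ^ q ^ 2) (t d4p1)).eq
    have k3 := (xGL_commute chevD4 hD4 _ _ c3 (t d4p1 ^ q ^ 2) (t d4p1 ^ q)).eq
    rw [← mul_assoc, k1, mul_assoc, k3]
    exact triple_mem (d4p1, d4p3, d4p4) (by simp) _
  · rw [b1] at ht ⊢
    have hc := block_fixed_compat twD4 twD4_ok hD4 chkGraphPerm_gD4a hG4 f _ m1 t ht d4p2 (by simp)
    unfold sigT at hc
    rw [i2, e2, Int.cast_one, one_mul, hf] at hc
    rw [prodL_cons, prodL_nil, mul_one]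
    exact single_mem d4p2 (by simp) _ hc

include hf hf3 in
/-- the fixed points of `σ` in `U` lie in the twisted group -/
theorem pos_fix_le_twisted [Fintype K] :
    chevD4.posUnipotent K ⊓ sigmaFix chevD4 gD4a chkGraphPerm_gD4a f ≤ twistedD4 K q :=
  pos_fix_le_of_forest twD4 twD4_ok hD4 chkGraphPerm_gD4a hG4 f (twistedD4 K q) [0, 1] edges
    orbits forest_ok edges_orbits (nJ_mem f hf)
    (fun J hJ => twisted_le_fix f hf hf3 (nJ_mem f hf J hJ)) (base_mem f hf)

include hf hf3 in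
theorem pos_inf_twisted [Fintype K] : chevD4.posUnipotent K ⊓ twistedD4 K q
    = chevD4.posUnipotent K ⊓ sigmaFix chevD4 gD4a chkGraphPerm_gD4a f :=
  le_antisymm (inf_le_inf_left _ (twisted_le_fix f hf hf3))
    (le_inf inf_le_left (pos_fix_le_twisted f hf hf3))

theorem prod_ite_pow (l : List ℕ) (p : ℕ → Prop) [DecidablePred p] (q m : ℕ) :
    (l.map fun r => if p r then q else q ^ m).prod = q ^ (l.map fun r => if p r then 1 else m).sum := by
  induction l with
  | nil => simp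
  | cons a l ih =>
    rw [List.map_cons, List.prod_cons, ih, List.map_cons, List.sum_cons, pow_add]
    by_cases h : p a
    · simp [h]
    · simp [h]

set_option maxRecDepth 100000 in
theorem rep_sum : ((repList twD4).map fun r => if twD4.pr r = r then 1 else 3).sum = 12 := by
  decide +kernel

end

/-- `|U ∩ ³D₄(q)| = q ^ 12` -/
theorem card_pos_twisted {K : Type*} [Field K] [Fintype K] {q : ℕ} (hq : IsPrimePow q)
    (hK : Fintype.card K = q ^ 3) :
    Nat.card ↥(chevD4.posUnipotent K ⊓ twistedD4 K q) = q ^ 12 := by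
  obtain ⟨f, hf, hfm⟩ := FrobFix.exists_frob hq (by norm_num : 3 ≠ 0) hK
  have hf3 : ∀ x, f (f (f x)) = x := fun x => hfm x
  rw [pos_inf_twisted f hf hf3]
  have h := card_pos_fix twD4 twD4_ok hD4 chkGraphPerm_gD4a hG4 f (by
    intro x
    show (f ^ 3) x = x
    rw [pow_succ, pow_two]
    exact hf3 x)
  have c1 : Nat.card {x : K // f x = x} = q := by
    have := FrobFix.card_fixed (K := K) (q := q) (m := 3) hq.two_le hK
    simpa only [hf] using this
  have c2 : Nat.card K = q ^ 3 := by rw [Nat.card_eq_fintype_card, hK]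
  rw [c1, c2, prod_ite_pow, rep_sum] at h
  exact h

end Cfsg.Agent.Lib.Helper5.Tw3D4
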