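import Mathlib

set_option autoImplicit false

/-! Counting Klein four-subgroups through pairs of commuting involutions. -/

namespace Cfsg.Agent.Lib.Helper5.KleinPairs

variable {G : Type*} [Group G]

/-- the subgroup `{1, s, t, st}` generated by two commuting involutions -/
def kv (s t : G) (hs : s * s = 1) (ht : t * t = 1) (hst : t * s = s * t) : Subgroup G where
  carrier := {x | x = 1 ∨ x = s ∨ x = t ∨ x = s * t}
  mul_mem' := by
    have hs' : ∀ x, s * (s * x) = x := fun x => by rw [← mul_assoc, hs, one_mul]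
    have ht' : ∀ x, t * (t * x) = x := fun x => by rw [← mul_assoc, ht, one_mul]
    have hst' : ∀ x, t * (s * x) = s * (t * x) := fun x => by
      rw [← mul_assoc, hst, mul_assoc]
    rintro a b (rfl | rfl | rfl | rfl) (rfl | rfl | rfl | rfl) <;>
      simp [mul_assoc, hs, ht, hst, hs', ht', hst']
  one_mem' := Or.inl rfl
  inv_mem' := by
    have hsi : s⁻¹ = s := inv_eq_of_mul_eq_one_right hs
    have hti : t⁻¹ = t := inv_eq_of_mul_eq_one_right ht
    rintro a (rfl | rfl | rfl | rfl)
    · simp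
    · simp [hsi]
    · simp [hti]
    · right; right; right
      rw [mul_inv_rev, hsi, hti, hst]

theorem mem_kv (s t : G) (hs : s * s = 1) (ht : t * t = 1) (hst : t * s = s * t) (x : G) :
    x ∈ kv s t hs ht hst ↔ x = 1 ∨ x = s ∨ x = t ∨ x = s * t := Iff.rfl

theorem left_mem_kv (s t : G) (hs : s * s = 1) (ht : t * t = 1) (hst : t * s = s * t) :
    s ∈ kv s t hs ht hst := Or.inr (Or.inl rfl)

theorem right_mem_kv (s t : G) (hs : s * s = 1) (ht : t * t = 1) (hst : t * s = s * t) :
    t ∈ kv s t hs ht hst := Or.inr (Or.inr (Or.inl rfl))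

theorem card_kv (s t : G) (hs : s * s = 1) (ht : t * t = 1) (hst : t * s = s * t)
    (hs1 : s ≠ 1) (ht1 : t ≠ 1) (hne : s ≠ t) : Nat.card (kv s t hs ht hst) = 4 := by
  have h1 : Nat.card (kv s t hs ht hst) = Set.ncard ((kv s t hs ht hst : Subgroup G) : Set G) :=
    rfl
  have h2 : ((kv s t hs ht hst : Subgroup G) : Set G) = {1, s, t, s * t} := by
    ext x
    simp only [SetLike.mem_coe, mem_kv, Set.mem_insert_iff, Set.mem_singleton_iff]
  have hst1 : s * t ≠ 1 := by
    intro h
    apply hne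
    have : s * t = s * s := by rw [h, hs]
    exact (mul_left_cancel this).symm
  have hsts : s * t ≠ s := by
    intro h
    apply ht1
    have : s * t = s * 1 := by rw [h, mul_one]
    exact mul_left_cancel this
  have hstt : s * t ≠ t := by
    intro h
    apply hs1
    have : s * t = 1 * t := by rw [h, one_mul]
    exact mul_right_cancel this
  rw [h1, h2, Set.ncard_insert_of_notMem, Set.ncard_insert_of_notMem,
    Set.ncard_insert_of_notMem, Set.ncard_singleton]
  · simp only [Set.mem_singleton_iff]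
    exact fun h => hstt h.symm
  · simp only [Set.mem_insert_iff, Set.mem_singleton_iff, not_or]
    exact ⟨hne, fun h => hsts h.symm⟩
  · simp only [Set.mem_insert_iff, Set.mem_singleton_iff, not_or]
    exact ⟨fun h => hs1 h.symm, fun h => ht1 h.symm, fun h => hst1 h.symm⟩

theorem isKleinFour_kv (s t : G) (hs : s * s = 1) (ht : t * t = 1) (hst : t * s = s * t)
    (hs1 : s ≠ 1) (ht1 : t ≠ 1) (hne : s ≠ t) : IsKleinFour (kv s t hs ht hst) := by
  refine ⟨card_kv s t hs ht hst hs1 ht1 hne, ?_⟩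
  have : Nontrivial (kv s t hs ht hst) :=
    ⟨⟨⟨s, left_mem_kv s t hs ht hst⟩, 1, fun h => hs1 (congrArg Subtype.val h)⟩⟩
  rw [Monoid.exponent_eq_prime_iff Nat.prime_two]
  rintro ⟨x, hx⟩ hx1
  have hxx : x * x = 1 := by
    have hs' : ∀ y, s * (s * y) = y := fun y => by rw [← mul_assoc, hs, one_mul]
    have hst' : ∀ y, t * (s * y) = s * (t * y) := fun y => by
      rw [← mul_assoc, hst, mul_assoc]
    rcases hx with rfl | rfl | rfl | rfl
    · simp
    · exact hs
    · exact ht
    · rw [mul_assoc, hst', hs', ht]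
  have : Fact (Nat.Prime 2) := ⟨Nat.prime_two⟩
  apply orderOf_eq_prime
  · apply Subtype.ext
    rw [pow_two]
    exact hxx
  · exact hx1

/-- a Klein four-subgroup is generated by any two distinct involutions in it -/
theorem kv_eq [Finite G] (V : Subgroup G) (hV : IsKleinFour V) (s t : G) (hsV : s ∈ V)
    (htV : t ∈ V) (hs : s * s = 1) (ht : t * t = 1) (hst : t * s = s * t)
    (hs1 : s ≠ 1) (ht1 : t ≠ 1) (hne : s ≠ t) : kv s t hs ht hst = V := by
  apply Subgroup.eq_of_le_of_card_ge
  · rintro x (rfl | rfl | rfl | rfl)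
    · exact one_mem _
    · exact hsV
    · exact htV
    · exact mul_mem hsV htV
  · rw [card_kv s t hs ht hst hs1 ht1 hne, hV.card_four]

section pairs
variable (G)

/-- the involutions -/
def Inv : Set G := {s | s ≠ 1 ∧ s * s = 1}

/-- the involutions commuting with `s` and different from it -/
def J (s : G) : Set G := {t | t ≠ 1 ∧ t * t = 1 ∧ t ≠ s ∧ t * s = s * t}

/-- ordered pairs of distinct commuting involutions -/
def Pairs : Type _ := Σ s : Inv G, J G s.1

end pairs

/-- the Klein four-group of a pair -/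
def pairKV (p : Pairs G) : {V : Subgroup G // IsKleinFour V} :=
  ⟨kv p.1.1 p.2.1 p.1.2.2 p.2.2.2.1 p.2.2.2.2.2,
    isKleinFour_kv _ _ _ _ _ p.1.2.1 p.2.2.1 (fun h => p.2.2.2.2.1 h.symm)⟩

/-- the number of ordered pairs of distinct non-identity elements of a Klein four-group -/
theorem card_pairs_klein (V : Type*) [Group V] [IsKleinFour V] :
    Nat.card {p : V × V // p.1 ≠ 1 ∧ p.2 ≠ 1 ∧ p.1 ≠ p.2} = 6 := by
  classical
  have : Finite V := IsKleinFour.instFinite
  have : Fintype V := Fintype.ofFinite V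
  have h4 : Fintype.card V = 4 := IsKleinFour.card_four'
  rw [Nat.card_eq_fintype_card, Fintype.card_subtype]
  have h1 : (Finset.univ.filter (fun p : V × V => p.1 ≠ 1 ∧ p.2 ≠ 1 ∧ p.1 ≠ p.2)) =
      (Finset.univ.erase (1 : V)).offDiag := by
    ext ⟨a, b⟩
    simp only [Finset.mem_filter, Finset.mem_univ, true_and, Finset.mem_offDiag,
      Finset.mem_erase, and_true]
  rw [h1, Finset.offDiag_card, Finset.card_erase_of_mem (Finset.mem_univ _),
    Finset.card_univ, h4]

theorem fst_mem (V : {V : Subgroup G // IsKleinFour V}) (p : Pairs G) (hp : pairKV p = V) :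
    p.1.1 ∈ V.1 := by
  subst hp
  exact left_mem_kv p.1.1 p.2.1 p.1.2.2 p.2.2.2.1 p.2.2.2.2.2

theorem snd_mem (V : {V : Subgroup G // IsKleinFour V}) (p : Pairs G) (hp : pairKV p = V) :
    p.2.1 ∈ V.1 := by
  subst hp
  exact right_mem_kv p.1.1 p.2.1 p.1.2.2 p.2.2.2.1 p.2.2.2.2.2

/-- the pairs generating a given Klein four-subgroup -/
noncomputable def fiberEquiv [Finite G] (V : {V : Subgroup G // IsKleinFour V}) :
    {p : Pairs G // pairKV p = V} ≃ {p : V.1 × V.1 // p.1 ≠ 1 ∧ p.2 ≠ 1 ∧ p.1 ≠ p.2} where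
  toFun p := ⟨(⟨p.1.1.1, fst_mem V p.1 p.2⟩, ⟨p.1.2.1, snd_mem V p.1 p.2⟩), by
    refine ⟨fun h => p.1.1.2.1 (congrArg Subtype.val h),
      fun h => p.1.2.2.1 (congrArg Subtype.val h),
      fun h => p.1.2.2.2.2.1 (congrArg Subtype.val h).symm⟩⟩
  invFun p :=
    have hV : IsKleinFour V.1 := V.2
    have hs : p.1.1.1 * p.1.1.1 = 1 := congrArg Subtype.val (IsKleinFour.mul_self p.1.1)
    have ht : p.1.2.1 * p.1.2.1 = 1 := congrArg Subtype.val (IsKleinFour.mul_self p.1.2)
    have hst : p.1.2.1 * p.1.1.1 = p.1.1.1 * p.1.2.1 :=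
      congrArg Subtype.val
        ((IsKleinFour.isMulCommutative (G := V.1)).is_comm.comm p.1.2 p.1.1)
    have hs1 : p.1.1.1 ≠ 1 := fun h => p.2.1 (Subtype.ext h)
    have ht1 : p.1.2.1 ≠ 1 := fun h => p.2.2.1 (Subtype.ext h)
    have hne : p.1.1.1 ≠ p.1.2.1 := fun h => p.2.2.2 (Subtype.ext h)
    ⟨⟨⟨p.1.1.1, hs1, hs⟩, ⟨p.1.2.1, ht1, ht, fun h => hne h.symm, hst⟩⟩, by
      apply Subtype.ext
      exact kv_eq V.1 V.2 _ _ p.1.1.2 p.1.2.2 hs ht hst hs1 ht1 hne⟩
  left_inv p := by
    apply Subtype.ext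
    rfl
  right_inv p := by
    apply Subtype.ext
    rfl

/-- the number of pairs is six times the number of Klein four-subgroups -/
theorem card_pairs [Finite G] :
    Nat.card (Pairs G) = 6 * Nat.card {V : Subgroup G // IsKleinFour V} := by
  classical
  have : Fintype {V : Subgroup G // IsKleinFour V} := Fintype.ofFinite _
  have : Finite (Inv G) := Subtype.finite
  have : ∀ s : Inv G, Finite (J G s.1) := fun s => Subtype.finite
  have : Finite (Pairs G) := by
    unfold Pairs
    infer_instance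
  rw [← Nat.card_congr (Equiv.sigmaFiberEquiv (pairKV (G := G))), Nat.card_sigma]
  have h : ∀ V : {V : Subgroup G // IsKleinFour V}, Nat.card {p : Pairs G // pairKV p = V} = 6 := by
    intro V
    rw [Nat.card_congr (fiberEquiv V)]
    have : IsKleinFour V.1 := V.2
    exact card_pairs_klein V.1
  rw [Finset.sum_congr rfl (fun V _ => h V), Finset.sum_const, Finset.card_univ, smul_eq_mul,
    mul_comm, Nat.card_eq_fintype_card]

end Cfsg.Agent.Lib.Helper5.KleinPairs
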