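import Mathlib
import Cfsg.Agent.S1012
import Cfsg.Agent.Lib.Helper5.KleinPairs

set_option autoImplicit false

/-! A group of order 24 with a self-centralising normal Klein four-subgroup is `S_4`. -/

namespace Cfsg.Agent.Lib.Helper5.S4Rec

open Cfsg.Agent.Lib.Helper5.KleinPairs

variable {K : Type*} [Group K]

theorem sq_of_mem (V : Subgroup K) (hV : IsKleinFour V) (v : K) (hv : v ∈ V) : v * v = 1 := by
  have h := Monoid.pow_exponent_eq_one (⟨v, hv⟩ : V)
  rw [hV.exponent_two, pow_two] at h
  exact congrArg Subtype.val h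

theorem comm_of_mem (V : Subgroup K) (hV : IsKleinFour V) (a b : K) (ha : a ∈ V) (hb : b ∈ V) :
    a * b = b * a := by
  have h1 := sq_of_mem V hV _ (mul_mem ha hb)
  have h2 := sq_of_mem V hV a ha
  have h3 := sq_of_mem V hV b hb
  have e1 : (a * b)⁻¹ = a * b := inv_eq_of_mul_eq_one_right h1
  have e2 : a⁻¹ = a := inv_eq_of_mul_eq_one_right h2
  have e3 : b⁻¹ = b := inv_eq_of_mul_eq_one_right h3
  rw [← e1, mul_inv_rev, e2, e3]

/-- an element of order three fixing a nontrivial element of `V` centralises `V` -/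
theorem mem_of_fix [Finite K] (V : Subgroup K) [hn : V.Normal] (hV : IsKleinFour V)
    (hC : ∀ g : K, (∀ v ∈ V, g * v = v * g) → g ∈ V) (c : K) (hc : c * c * c = 1)
    (v : K) (hv : v ∈ V) (hv1 : v ≠ 1) (hcv : c * v = v * c) : c ∈ V := by
  apply hC
  intro w hw
  by_cases hw1 : w = 1
  · rw [hw1, mul_one, one_mul]
  by_cases hwv : w = v
  · rw [hwv, hcv]
  have hvv := sq_of_mem V hV v hv
  have hww := sq_of_mem V hV w hw
  have hwvc := comm_of_mem V hV w v hw hv
  have hkv := kv_eq V hV v w hv hw hvv hww hwvc hv1 hw1 (fun h => hwv h.symm)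
  have hmem : c * w * c⁻¹ ∈ kv v w hvv hww hwvc := by
    rw [hkv]
    exact hn.conj_mem w hw c
  rcases hmem with h | h | h | h
  · exfalso
    apply hw1
    have : c * w = c * 1 := by rw [mul_one, ← mul_inv_eq_one, h]
    exact mul_left_cancel this
  · exfalso
    apply hwv
    rw [mul_inv_eq_iff_eq_mul, ← hcv] at h
    exact mul_left_cancel h
  · rw [mul_inv_eq_iff_eq_mul] at h
    exact h
  · rw [mul_inv_eq_iff_eq_mul] at h
    -- `c w = v w c`
    have h2 : c * c * w = w * (c * c) := by
      calc c * c * w = c * (c * w) := mul_assoc _ _ _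
        _ = c * (v * w * c) := by rw [h]
        _ = (c * v) * (w * c) := by simp only [mul_assoc]
        _ = v * (c * w) * c := by rw [hcv]; simp only [mul_assoc]
        _ = v * (v * w * c) * c := by rw [h]
        _ = (v * v) * w * (c * c) := by simp only [mul_assoc]
        _ = w * (c * c) := by rw [hvv, one_mul]
    have h4 : c = c * c * (c * c) := by
      calc c = 1 * c := (one_mul c).symm
        _ = c * c * c * c := by rw [hc]
        _ = c * c * (c * c) := by simp only [mul_assoc]
    calc c * w = c * c * (c * c) * w := by rw [← h4]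
      _ = c * c * (c * c * w) := mul_assoc _ _ _
      _ = c * c * (w * (c * c)) := by rw [h2]
      _ = (c * c * w) * (c * c) := (mul_assoc _ _ _).symm
      _ = w * (c * c) * (c * c) := by rw [h2]
      _ = w * (c * c * (c * c)) := mul_assoc _ _ _
      _ = w * c := by rw [← h4]

theorem nonempty_mulEquiv_perm [Finite K] (hK : Nat.card K = 24)
    (V : Subgroup K) [hn : V.Normal] (hV : IsKleinFour V)
    (hC : ∀ g : K, (∀ v ∈ V, g * v = v * g) → g ∈ V) :
    Nonempty (K ≃* Equiv.Perm (Fin 4)) := by
  apply Cfsg.Agent.S1012.result hK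
  intro g hg
  have hg6 : g ^ 6 = 1 := by rw [← hg]; exact pow_orderOf_eq_one g
  have hgk : ∀ k : ℕ, 0 < k → k < 6 → g ^ k ≠ 1 := by
    intro k hk0 hk6 h
    have := orderOf_dvd_of_pow_eq_one h
    rw [hg] at this
    have := Nat.le_of_dvd hk0 this
    omega
  set c := g * g with hcdef
  set z := g * g * g with hzdef
  have hc3 : c * c * c = 1 := by
    rw [← hg6, hcdef]; simp only [pow_succ, pow_zero, one_mul, mul_assoc]
  have hzz : z * z = 1 := by
    rw [← hg6, hzdef]; simp only [pow_succ, pow_zero, one_mul, mul_assoc]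
  have hc1 : c ≠ 1 := by
    have := hgk 2 (by norm_num) (by norm_num)
    rwa [pow_two] at this
  have hz1 : z ≠ 1 := by
    have := hgk 3 (by norm_num) (by norm_num)
    rwa [pow_succ, pow_two] at this
  have hcz : c * z = z * c := by
    rw [hcdef, hzdef]; simp only [mul_assoc]
  have hcV : c ∉ V := by
    intro h
    have h1 := sq_of_mem V hV c h
    have := hgk 4 (by norm_num) (by norm_num)
    apply this
    rw [← h1, hcdef]; simp only [pow_succ, pow_zero, one_mul, mul_assoc]
  have hzinv : z⁻¹ = z := inv_eq_of_mul_eq_one_right hzz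
  by_cases hzV : z ∈ V
  · exact hcV (mem_of_fix V hV hC c hc3 z hzV hz1 hcz)
  · -- a nontrivial element of `V` fixed by `z`
    have hex : ∃ v ∈ V, v ≠ 1 ∧ z * v = v * z := by
      have hnt : Nontrivial V := by
        have : 1 < Nat.card V := by rw [hV.card_four]; norm_num
        exact (Finite.one_lt_card_iff_nontrivial).mp this
      obtain ⟨⟨a, ha⟩, ha1⟩ := exists_ne (1 : V)
      have ha1' : a ≠ 1 := fun h => ha1 (Subtype.ext h)
      by_cases hza : z * a = a * z
      · exact ⟨a, ha, ha1', hza⟩
      · have hb : z * a * z⁻¹ ∈ V := hn.conj_mem a ha z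
        rw [hzinv] at hb
        have haa := sq_of_mem V hV a ha
        refine ⟨a * (z * a * z), mul_mem ha hb, ?_, ?_⟩
        · intro h
          apply hza
          have h2 : z * a * z = a := by
            have : a * (z * a * z) = a * a := by rw [h, haa]
            exact mul_left_cancel this
          calc z * a = z * a * (z * z) := by rw [hzz, mul_one]
            _ = (z * a * z) * z := by simp only [mul_assoc]
            _ = a * z := by rw [h2]
        · have hcomm := comm_of_mem V hV a (z * a * z) ha hb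
          calc z * (a * (z * a * z)) = (z * a * z) * a * z := by simp only [mul_assoc]
            _ = a * (z * a * z) * z := by rw [hcomm]
      
    obtain ⟨v, hv, hv1, hzv⟩ := hex
    have hv' : c * v * c⁻¹ ∈ V := hn.conj_mem v hv c
    have hv'1 : c * v * c⁻¹ ≠ 1 := by
      intro h
      apply hv1
      have : c * v = c * 1 := by rw [mul_one, ← mul_inv_eq_one, h]
      exact mul_left_cancel this
    have hzv' : z * (c * v * c⁻¹) = (c * v * c⁻¹) * z := by
      have hzc' : z * c⁻¹ = c⁻¹ * z := by
        rw [eq_inv_mul_iff_mul_eq, ← mul_assoc, hcz, mul_assoc, mul_inv_cancel, mul_one]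
      calc z * (c * v * c⁻¹) = (z * c) * v * c⁻¹ := by simp only [mul_assoc]
        _ = c * (z * v) * c⁻¹ := by rw [← hcz]; simp only [mul_assoc]
        _ = c * v * (z * c⁻¹) := by rw [hzv]; simp only [mul_assoc]
        _ = c * v * c⁻¹ * z := by rw [hzc']; simp only [mul_assoc]
    have hne : v ≠ c * v * c⁻¹ := by
      intro h
      apply hcV
      apply mem_of_fix V hV hC c hc3 v hv hv1
      rw [eq_mul_inv_iff_mul_eq] at h
      exact h.symm
    have hvv := sq_of_mem V hV v hv
    have hv'v' := sq_of_mem V hV _ hv'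
    have hcomm := comm_of_mem V hV _ v hv' hv
    have hkv := kv_eq V hV v (c * v * c⁻¹) hv hv' hvv hv'v' hcomm hv1 hv'1 hne
    apply hzV
    apply hC
    intro w hw
    rw [← hkv] at hw
    rcases hw with h | h | h | h
    · rw [h, mul_one, one_mul]
    · rw [h, hzv]
    · rw [h, hzv']
    · rw [h, ← mul_assoc, hzv, mul_assoc, hzv']
      simp only [mul_assoc]

end Cfsg.Agent.Lib.Helper5.S4Rec
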