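import Mathlib
import Cfsg.Prelude.Def_ClassicalGeometry

set_option autoImplicit false
open Cfsg

namespace Cfsg.Agent.Lib.Helper5.Herm

open Matrix

section basic

variable {F : Type*} [Field F] (n q : ℕ)

theorem hermForm_add_left (u u' v : Fin n → F) :
    hermForm n F q (u + u') v = hermForm n F q u v + hermForm n F q u' v := by
  unfold hermForm
  rw [← Finset.sum_add_distrib]
  exact Finset.sum_congr rfl fun i _ => by rw [Pi.add_apply, add_mul]

theorem hermForm_smul_left (a : F) (u v : Fin n → F) :
    hermForm n F q (a • u) v = a * hermForm n F q u v := by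
  unfold hermForm
  rw [Finset.mul_sum]
  exact Finset.sum_congr rfl fun i _ => by rw [Pi.smul_apply, smul_eq_mul, mul_assoc]

theorem hermForm_zero_left (v : Fin n → F) : hermForm n F q 0 v = 0 := by
  unfold hermForm
  simp

theorem hermForm_smul_right (a : F) (u v : Fin n → F) :
    hermForm n F q u (a • v) = a ^ q * hermForm n F q u v := by
  unfold hermForm
  rw [Finset.mul_sum]
  exact Finset.sum_congr rfl fun i _ => by rw [Pi.smul_apply, smul_eq_mul, mul_pow]; ring

theorem hermForm_single_left (i : Fin n) (v : Fin n → F) :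
    hermForm n F q (Pi.single i 1) v = (v i) ^ q := by
  unfold hermForm
  rw [Finset.sum_eq_single i]
  · simp
  · intro j _ hj; simp [hj]
  · intro h; exact absurd (Finset.mem_univ _) h

theorem hermForm_single_right (hq : q ≠ 0) (i : Fin n) (v : Fin n → F) :
    hermForm n F q v (Pi.single i 1) = v i := by
  unfold hermForm
  rw [Finset.sum_eq_single i]
  · simp
  · intro j _ hj; simp [hj, hq]
  · intro h; exact absurd (Finset.mem_univ _) h

theorem unitaryTransvection_mulVec (v : Fin n → F) (c : F) (x : Fin n → F) :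
    unitaryTransvection n q v c *ᵥ x = x + (c * hermForm n F q x v) • v := by
  unfold unitaryTransvection hermForm
  rw [add_mulVec, one_mulVec, smul_mulVec, vecMulVec_mulVec]
  ext i
  simp only [dotProduct, Pi.add_apply, Pi.smul_apply, smul_eq_mul, MulOpposite.smul_eq_mul_unop,
    MulOpposite.unop_op]
  congr 1
  rw [mul_comm (v i), ← mul_assoc]
  congr 2
  exact Finset.sum_congr rfl fun j _ => mul_comm _ _

end basic

section finite

variable {F : Type*} [Field F] [Fintype F] {q : ℕ} (hF : Fintype.card F = q ^ 2) (n : ℕ)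
include hF

theorem q_ne_zero : q ≠ 0 := by
  rintro rfl
  have := Fintype.card_pos (α := F)
  rw [hF] at this
  simp at this

theorem two_le_q : 2 ≤ q := by
  have := Fintype.one_lt_card (α := F)
  rw [hF] at this
  by_contra h
  have : q ≤ 1 := by omega
  interval_cases q <;> simp at *

theorem exists_char_pow : ∃ (p j : ℕ), p.Prime ∧ CharP F p ∧ q = p ^ j := by
  obtain ⟨p, hp⟩ := CharP.exists F
  have := hp
  have : Fact p.Prime := ⟨CharP.char_is_prime F p⟩
  obtain ⟨k, hk1, hk⟩ := FiniteField.card F p
  have hdvd : q ∣ p ^ (k : ℕ) := by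
    rw [← hk, hF]; exact Dvd.intro_left _ (by ring)
  obtain ⟨j, _, hj⟩ := (Nat.dvd_prime_pow hk1).mp hdvd
  exact ⟨p, j, hk1, hp, hj⟩

theorem pow_q_add (a b : F) : (a + b) ^ q = a ^ q + b ^ q := by
  obtain ⟨p, j, hp, hc, rfl⟩ := exists_char_pow hF
  have := hc
  have : Fact p.Prime := ⟨hp⟩
  exact add_pow_char_pow a b p j

theorem pow_q_sum {ι : Type*} (s : Finset ι) (f : ι → F) : (∑ i ∈ s, f i) ^ q = ∑ i ∈ s, (f i) ^ q := by
  classical
  induction s using Finset.induction_on with
  | empty => simp [q_ne_zero hF]
  | insert a s ha ih => rw [Finset.sum_insert ha, Finset.sum_insert ha, pow_q_add hF, ih]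

theorem pow_q_pow_q (a : F) : (a ^ q) ^ q = a := by
  rw [← pow_mul, ← sq, ← hF, FiniteField.pow_card]

theorem pow_q_neg_one : (-1 : F) ^ q = -1 := by
  have h := pow_q_add hF (1 : F) (-1)
  rw [add_neg_cancel, zero_pow (q_ne_zero hF), one_pow] at h
  exact (eq_neg_of_add_eq_zero_right h.symm)

theorem pow_q_neg (a : F) : (-a) ^ q = -(a ^ q) := by
  rw [neg_eq_neg_one_mul, mul_pow, pow_q_neg_one hF, neg_one_mul]

theorem pow_q_sub (a b : F) : (a - b) ^ q = a ^ q - b ^ q := by
  rw [sub_eq_add_neg, pow_q_add hF, pow_q_neg hF, ← sub_eq_add_neg]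

theorem hermForm_add_right (u v v' : Fin n → F) :
    hermForm n F q u (v + v') = hermForm n F q u v + hermForm n F q u v' := by
  unfold hermForm
  rw [← Finset.sum_add_distrib]
  exact Finset.sum_congr rfl fun i _ => by rw [Pi.add_apply, pow_q_add hF, mul_add]

theorem hermForm_conj (u v : Fin n → F) : (hermForm n F q u v) ^ q = hermForm n F q v u := by
  unfold hermForm
  rw [pow_q_sum hF]
  exact Finset.sum_congr rfl fun i _ => by rw [mul_pow, pow_q_pow_q hF, mul_comm]

theorem hermForm_zero_right (u : Fin n → F) : hermForm n F q u 0 = 0 := by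
  unfold hermForm
  simp [q_ne_zero hF]

/-- The effect of a unitary "transvection" on the form. -/
theorem hermForm_unitaryTransvection (v : Fin n → F) (c : F) (x y : Fin n → F) :
    hermForm n F q (unitaryTransvection n q v c *ᵥ x) (unitaryTransvection n q v c *ᵥ y) =
      hermForm n F q x y + (c + c ^ q) * (hermForm n F q x v * hermForm n F q v y)
        + c * c ^ q * (hermForm n F q x v * hermForm n F q v y) * hermForm n F q v v := by
  rw [unitaryTransvection_mulVec, unitaryTransvection_mulVec, hermForm_add_left, hermForm_add_right hF,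
    hermForm_add_right hF, hermForm_smul_left, hermForm_smul_left, hermForm_smul_right,
    hermForm_smul_right, mul_pow, hermForm_conj hF]
  ring

end finite

end Cfsg.Agent.Lib.Helper5.Herm
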