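import Mathlib
import Cfsg.Prelude.Def_ClassicalGeometry

set_option autoImplicit false

namespace Cfsg.Agent.Lib.Helper5.GLParabolic

open Matrix

variable {F : Type*} [Field F] {n : ℕ}

/-- the coordinate subspace spanned by the first `j` basis vectors, as a set -/
abbrev US (F : Type*) [Field F] (n j : ℕ) : Set (Fin n → F) :=
  {v : Fin n → F | ∀ i : Fin n, j ≤ (i : ℕ) → v i = 0}

/-- its stabiliser in `GL_n` -/
abbrev P (F : Type*) [Field F] (n j : ℕ) : Subgroup (Matrix.GeneralLinearGroup (Fin n) F) :=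
  Cfsg.stabilizing (Cfsg.glToMat (Fin n) F) (US F n j)

theorem single_mem_US {j : ℕ} (b : Fin n) (hb : (b : ℕ) < j) (c : F) :
    (Pi.single b c : Fin n → F) ∈ US F n j := by
  intro i hi
  rw [Pi.single_apply, if_neg]
  rintro rfl
  omega

theorem mem_P_iff [Finite F] (j : ℕ) (g : Matrix.GeneralLinearGroup (Fin n) F) :
    g ∈ P F n j ↔ ∀ a b : Fin n, j ≤ (a : ℕ) → (b : ℕ) < j →
      (g : Matrix (Fin n) (Fin n) F) a b = 0 := by
  constructor
  · intro hg a b ha hb
    have h1 := (hg (Pi.single b 1)).mp (single_mem_US b hb 1)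
    have h2 := h1 a ha
    simpa [Cfsg.glToMat, Matrix.mulVec_single_one] using h2
  · intro hg
    have hfwd : ∀ v : Fin n → F, v ∈ US F n j →
        (g : Matrix (Fin n) (Fin n) F) *ᵥ v ∈ US F n j := by
      intro v hv i hi
      rw [Matrix.mulVec, dotProduct]
      apply Finset.sum_eq_zero
      intro b _
      by_cases hb : j ≤ (b : ℕ)
      · rw [hv b hb, mul_zero]
      · push Not at hb
        rw [hg i b hi hb, zero_mul]
    intro v
    refine ⟨hfwd v, fun hv => ?_⟩
    let φ : US F n j → US F n j := fun w => ⟨(g : Matrix (Fin n) (Fin n) F) *ᵥ w.1, hfwd w.1 w.2⟩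
    have hcancel : ∀ a b : Fin n → F, (g : Matrix (Fin n) (Fin n) F) *ᵥ a =
        (g : Matrix (Fin n) (Fin n) F) *ᵥ b → a = b := by
      intro a b h4
      have h5 := congrArg (fun w => ((g⁻¹ : Matrix.GeneralLinearGroup (Fin n) F) :
        Matrix (Fin n) (Fin n) F) *ᵥ w) h4
      simpa only [Matrix.mulVec_mulVec, ← Units.val_mul, inv_mul_cancel, Units.val_one,
        Matrix.one_mulVec] using h5
    have hinj : Function.Injective φ := by
      intro a b hab
      exact Subtype.ext (hcancel _ _ (congrArg Subtype.val hab))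
    obtain ⟨w, hw⟩ := (Finite.injective_iff_surjective.mp hinj) ⟨_, hv⟩
    have h4 : (g : Matrix (Fin n) (Fin n) F) *ᵥ w.1 =
        (g : Matrix (Fin n) (Fin n) F) *ᵥ v := congrArg Subtype.val hw
    rw [← hcancel _ _ h4]
    exact w.2

/-! ### rank one perturbations of the identity -/

theorem exists_r (a φ : Fin n → F) (h : 1 + φ ⬝ᵥ a ≠ 0) :
    ∃ x : Matrix.GeneralLinearGroup (Fin n) F,
      (x : Matrix (Fin n) (Fin n) F) = 1 + vecMulVec a φ := by
  refine ⟨Matrix.GeneralLinearGroup.mkOfDetNeZero (1 + vecMulVec a φ) ?_, rfl⟩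
  rw [vecMulVec_eq Unit, det_one_add_replicateCol_mul_replicateRow]
  exact h

theorem r_mem_P [Finite F] {j : ℕ} (x : Matrix.GeneralLinearGroup (Fin n) F) (a φ : Fin n → F)
    (hx : (x : Matrix (Fin n) (Fin n) F) = 1 + vecMulVec a φ)
    (h : (∀ i : Fin n, j ≤ (i : ℕ) → a i = 0) ∨ (∀ b : Fin n, (b : ℕ) < j → φ b = 0)) :
    x ∈ P F n j := by
  rw [mem_P_iff]
  intro i b hi hb
  rw [hx, Matrix.add_apply, Matrix.one_apply_ne (by rintro rfl; omega), vecMulVec_apply, zero_add]
  rcases h with h | h
  · rw [h i hi, zero_mul]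
  · rw [h b hb, mul_zero]

theorem conj_val (g x : Matrix.GeneralLinearGroup (Fin n) F) (a φ : Fin n → F)
    (hx : (x : Matrix (Fin n) (Fin n) F) = 1 + vecMulVec a φ) :
    ((g * x * g⁻¹ : Matrix.GeneralLinearGroup (Fin n) F) : Matrix (Fin n) (Fin n) F) =
      1 + vecMulVec ((g : Matrix (Fin n) (Fin n) F) *ᵥ a)
        (φ ᵥ* ((g⁻¹ : Matrix.GeneralLinearGroup (Fin n) F) : Matrix (Fin n) (Fin n) F)) := by
  rw [Units.val_mul, Units.val_mul, hx, mul_add, add_mul, mul_one, ← Units.val_mul, mul_inv_cancel,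
    Units.val_one, mul_vecMulVec, vecMulVec_mul]

theorem mul_val_right (x y : Matrix.GeneralLinearGroup (Fin n) F) (a φ ψ : Fin n → F)
    (hx : (x : Matrix (Fin n) (Fin n) F) = 1 + vecMulVec a φ)
    (hy : (y : Matrix (Fin n) (Fin n) F) = 1 + vecMulVec a ψ) (h : φ ⬝ᵥ a = 0) :
    ((x * y : Matrix.GeneralLinearGroup (Fin n) F) : Matrix (Fin n) (Fin n) F) =
      1 + vecMulVec a (φ + ψ) := by
  rw [Units.val_mul, hx, hy]
  simp only [mul_add, add_mul, mul_one, one_mul]
  rw [vecMulVec_mul_vecMulVec, h, zero_smul, vecMulVec_add]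
  simp [vecMulVec_zero, add_assoc]

theorem mul_val_left (x y : Matrix.GeneralLinearGroup (Fin n) F) (a b φ : Fin n → F)
    (hx : (x : Matrix (Fin n) (Fin n) F) = 1 + vecMulVec a φ)
    (hy : (y : Matrix (Fin n) (Fin n) F) = 1 + vecMulVec b φ) (h : φ ⬝ᵥ b = 0) :
    ((x * y : Matrix.GeneralLinearGroup (Fin n) F) : Matrix (Fin n) (Fin n) F) =
      1 + vecMulVec (a + b) φ := by
  rw [Units.val_mul, hx, hy]
  simp only [mul_add, add_mul, mul_one, one_mul]
  rw [vecMulVec_mul_vecMulVec, h, zero_smul, add_vecMulVec]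
  simp [vecMulVec_zero, add_assoc]

theorem r_mulVec (x : Matrix.GeneralLinearGroup (Fin n) F) (a φ w : Fin n → F)
    (hx : (x : Matrix (Fin n) (Fin n) F) = 1 + vecMulVec a φ) :
    (x : Matrix (Fin n) (Fin n) F) *ᵥ w = w + (φ ⬝ᵥ w) • a := by
  rw [hx, add_mulVec, one_mulVec, vecMulVec_mulVec]
  congr 1
  ext i
  simp [mul_comm]

/-! ### the coordinate subspaces as submodules -/

/-- the coordinate subspace as a submodule -/
def Usub (F : Type*) [Field F] (n j : ℕ) : Submodule F (Fin n → F) where
  carrier := US F n j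
  add_mem' {u v} hu hv := fun i hi => by rw [Pi.add_apply, hu i hi, hv i hi, add_zero]
  zero_mem' := fun _ _ => rfl
  smul_mem' c v hv := fun i hi => by rw [Pi.smul_apply, hv i hi, smul_zero]

theorem mem_Usub {j : ℕ} (v : Fin n → F) :
    v ∈ Usub F n j ↔ ∀ i : Fin n, j ≤ (i : ℕ) → v i = 0 := Iff.rfl

theorem coe_Usub (j : ℕ) : (Usub F n j : Set (Fin n → F)) = US F n j := rfl

theorem Usub_lt {j j' : ℕ} (h : j < j') (hn : j < n) : Usub F n j < Usub F n j' := by
  refine lt_of_le_of_ne (fun v hv i hi => hv i (by omega)) ?_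
  intro heq
  have h1 : (Pi.single (⟨j, hn⟩ : Fin n) (1 : F) : Fin n → F) ∈ Usub F n j' :=
    single_mem_US _ (by simpa using h) 1
  rw [← heq] at h1
  have := h1 ⟨j, hn⟩ (le_refl _)
  simp at this

theorem Usub_lt_top {j : ℕ} (hn : j < n) : Usub F n j < ⊤ := by
  refine lt_of_le_of_ne le_top ?_
  intro heq
  have h1 : (Pi.single (⟨j, hn⟩ : Fin n) (1 : F) : Fin n → F) ∈ Usub F n j := by
    rw [heq]; trivial
  have := h1 ⟨j, hn⟩ (le_refl _)
  simp at this

/-- a vector with a nonzero coordinate `b`, all of whose other coordinates are either zero or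
belong to a basis vector already in `W`, puts `e_b` in `W` -/
theorem single_mem_of (W : Submodule F (Fin n → F)) (w : Fin n → F) (hw : w ∈ W) (b : Fin n)
    (hb : w b ≠ 0)
    (hA : ∀ a : Fin n, a ≠ b → w a = 0 ∨ (Pi.single a (1 : F) : Fin n → F) ∈ W) :
    (Pi.single b (1 : F) : Fin n → F) ∈ W := by
  classical
  have hsum : w = ∑ a : Fin n, w a • (Pi.single a (1 : F) : Fin n → F) := by
    ext i
    simp [Finset.sum_apply, Pi.single_apply]
  have h1 : w b • (Pi.single b (1 : F) : Fin n → F) =
      w - ∑ a ∈ Finset.univ.erase b, w a • (Pi.single a (1 : F) : Fin n → F) := by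
    rw [eq_sub_iff_add_eq, Finset.add_sum_erase Finset.univ
      (fun a => w a • (Pi.single a (1 : F) : Fin n → F)) (Finset.mem_univ b)]
    exact hsum.symm
  have h2 : w b • (Pi.single b (1 : F) : Fin n → F) ∈ W := by
    rw [h1]
    apply W.sub_mem hw
    apply W.sum_mem
    intro a ha
    rcases hA a (Finset.ne_of_mem_erase ha) with h | h
    · rw [h, zero_smul]; exact W.zero_mem
    · exact W.smul_mem _ h
  have := W.smul_mem (w b)⁻¹ h2
  rwa [smul_smul, inv_mul_cancel₀ hb, one_smul] at this

/-- subspaces invariant under a maximal parabolic -/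
theorem invariant_submodule [Finite F] {j : ℕ} (W : Submodule F (Fin n → F))
    (hinv : ∀ x ∈ P F n j, ∀ w ∈ W, (x : Matrix (Fin n) (Fin n) F) *ᵥ w ∈ W) :
    W = ⊥ ∨ W = Usub F n j ∨ W = ⊤ := by
  classical
  -- transvections push basis vectors into W
  have key : ∀ (w : Fin n → F), w ∈ W → ∀ b : Fin n, w b ≠ 0 → ∀ a : Fin n, a ≠ b →
      ((a : ℕ) < j ∨ j ≤ (b : ℕ)) → (Pi.single a (1 : F) : Fin n → F) ∈ W := by
    intro w hw b hb a hab hcond
    obtain ⟨x, hx⟩ := exists_r (Pi.single a (1 : F) : Fin n → F) (Pi.single b (1 : F)) (by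
      rw [single_dotProduct, one_mul, Pi.single_apply, if_neg (Ne.symm hab), add_zero]
      exact one_ne_zero)
    have hxP : x ∈ P F n j := by
      apply r_mem_P x _ _ hx
      rcases hcond with h | h
      · left
        intro i hi
        rw [Pi.single_apply, if_neg]
        rintro rfl
        omega
      · right
        intro c hc
        rw [Pi.single_apply, if_neg]
        rintro rfl
        omega
    have h1 := hinv x hxP w hw
    rw [r_mulVec x _ _ w hx, single_dotProduct, one_mul] at h1
    have h2 : w b • (Pi.single a (1 : F) : Fin n → F) ∈ W := by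
      have := W.sub_mem h1 hw
      rwa [add_sub_cancel_left] at this
    have := W.smul_mem (w b)⁻¹ h2
    rwa [smul_smul, inv_mul_cancel₀ hb, one_smul] at this
  by_cases hA : ∃ w ∈ W, ∃ b : Fin n, j ≤ (b : ℕ) ∧ w b ≠ 0
  · right; right
    obtain ⟨w, hw, b, hbj, hb⟩ := hA
    have hall : ∀ a : Fin n, (Pi.single a (1 : F) : Fin n → F) ∈ W := by
      intro a
      by_cases hab : a = b
      · subst hab
        exact single_mem_of W w hw a hb (fun a' ha' => Or.inr (key w hw a hb a' ha' (Or.inr hbj)))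
      · exact key w hw b hb a hab (Or.inr hbj)
    rw [eq_top_iff]
    intro v _
    have hsum : v = ∑ a : Fin n, v a • (Pi.single a (1 : F) : Fin n → F) := by
      ext i
      simp [Finset.sum_apply, Pi.single_apply]
    rw [hsum]
    exact W.sum_mem (fun a _ => W.smul_mem _ (hall a))
  · push Not at hA
    have hle : W ≤ Usub F n j := fun w hw i hi => hA w hw i hi
    by_cases hbot : W = ⊥
    · left; exact hbot
    · right; left
      obtain ⟨w, hw, hw0⟩ := (Submodule.ne_bot_iff W).mp hbot
      obtain ⟨b, hb⟩ : ∃ b, w b ≠ 0 := by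
        by_contra hcon
        push Not at hcon
        exact hw0 (funext hcon)
      have hbj : (b : ℕ) < j := by
        by_contra hcon
        push Not at hcon
        exact hb (hA w hw b hcon)
      have hall : ∀ a : Fin n, (a : ℕ) < j → (Pi.single a (1 : F) : Fin n → F) ∈ W := by
        intro a ha
        by_cases hab : a = b
        · subst hab
          apply single_mem_of W w hw a hb
          intro a' ha'
          by_cases haj : (a' : ℕ) < j
          · exact Or.inr (key w hw a hb a' ha' (Or.inl haj))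
          · push Not at haj
            exact Or.inl (hA w hw a' haj)
        · exact key w hw b hb a hab (Or.inl ha)
      apply le_antisymm hle
      intro v hv
      have hsum : v = ∑ a : Fin n, v a • (Pi.single a (1 : F) : Fin n → F) := by
        ext i
        simp [Finset.sum_apply, Pi.single_apply]
      rw [hsum]
      apply W.sum_mem
      intro a _
      by_cases haj : (a : ℕ) < j
      · exact W.smul_mem _ (hall a haj)
      · push Not at haj
        rw [hv a haj, zero_smul]
        exact W.zero_mem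

end Cfsg.Agent.Lib.Helper5.GLParabolic
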