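import Mathlib
import Cfsg.Prelude.Def_ClassicalGeometry
import Cfsg.Prelude.Def_LieClassical
import Cfsg.Agent.Lib.Helper5.Herm
import Cfsg.Agent.Lib.Helper5.GLParabolic

set_option autoImplicit false
open Cfsg

namespace Cfsg.Agent.Lib.Helper5.HermBlock

open Matrix Cfsg.Agent.Lib.Helper5.Herm Cfsg.Agent.Lib.Helper5.GLParabolic

section char
variable {F : Type*} [Field F] [Fintype F] {q : ℕ} (hF : Fintype.card F = q ^ 2) {n : ℕ}
include hF

theorem mulVec_pow (A : Matrix (Fin n) (Fin n) F) (v : Fin n → F) (i : Fin n) :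
    ((A *ᵥ v) i) ^ q = ((A.map (· ^ q)) *ᵥ (fun j => v j ^ q)) i := by
  rw [Matrix.mulVec, dotProduct, pow_q_sum hF, Matrix.mulVec, dotProduct]
  exact Finset.sum_congr rfl (fun j _ => by rw [mul_pow, Matrix.map_apply])

theorem hermForm_mulVec (A : Matrix (Fin n) (Fin n) F) (u v : Fin n → F) :
    hermForm n F q (A *ᵥ u) (A *ᵥ v) = u ⬝ᵥ ((Aᵀ * A.map (· ^ q)) *ᵥ (fun j => v j ^ q)) := by
  have h1 : hermForm n F q (A *ᵥ u) (A *ᵥ v) = (A *ᵥ u) ⬝ᵥ ((A.map (· ^ q)) *ᵥ (fun j => v j ^ q)) := by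
    unfold hermForm
    rw [dotProduct]
    exact Finset.sum_congr rfl (fun i _ => by rw [mulVec_pow hF])
  rw [h1, dotProduct_comm, Matrix.dotProduct_mulVec, ← Matrix.mulVec_transpose, dotProduct_comm,
    Matrix.mulVec_mulVec]

theorem mem_GU_iff (g : Matrix.GeneralLinearGroup (Fin n) F) :
    g ∈ Cfsg.GU n F q ↔
      (g : Matrix (Fin n) (Fin n) F)ᵀ * (g : Matrix (Fin n) (Fin n) F).map (· ^ q) = 1 := by
  constructor
  · intro hg
    ext i j
    have := hg (Pi.single i 1) (Pi.single j 1)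
    change hermForm n F q ((g : Matrix (Fin n) (Fin n) F) *ᵥ _) ((g : Matrix (Fin n) (Fin n) F) *ᵥ _) = _ at this
    rw [hermForm_mulVec hF] at this
    have hsingle : (fun k => (Pi.single j (1 : F) : Fin n → F) k ^ q) = Pi.single j 1 := by
      ext k
      by_cases hk : k = j
      · subst hk; simp
      · simp [Pi.single_apply, hk, q_ne_zero hF]
    rw [hsingle, Matrix.mulVec_single_one, single_dotProduct, one_mul] at this
    rw [Matrix.col_apply] at this
    rw [this, hermForm_single_left, Matrix.one_apply, Pi.single_apply]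
    by_cases hij : i = j
    · subst hij; simp
    · simp [hij, Ne.symm hij, q_ne_zero hF]
  · intro h u v
    show hermForm n F q ((g : Matrix (Fin n) (Fin n) F) *ᵥ u) ((g : Matrix (Fin n) (Fin n) F) *ᵥ v) = _
    rw [hermForm_mulVec hF, h, Matrix.one_mulVec]
    rfl

end char

section block
variable {F : Type*} [Field F] (k l : ℕ)

/-- block diagonal matrix in the `k + l` indexing -/
def blockDiag (M₁ : Matrix (Fin k) (Fin k) F) (M₂ : Matrix (Fin l) (Fin l) F) :
    Matrix (Fin (k + l)) (Fin (k + l)) F :=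
  (fromBlocks M₁ 0 0 M₂).submatrix (finSumFinEquiv (m := k) (n := l)).symm
    (finSumFinEquiv (m := k) (n := l)).symm

theorem blockDiag_mul (M₁ N₁ : Matrix (Fin k) (Fin k) F) (M₂ N₂ : Matrix (Fin l) (Fin l) F) :
    blockDiag k l (M₁ * N₁) (M₂ * N₂) = blockDiag k l M₁ M₂ * blockDiag k l N₁ N₂ := by
  unfold blockDiag
  rw [Matrix.submatrix_mul_equiv, fromBlocks_multiply]
  simp

theorem blockDiag_one : blockDiag k l (1 : Matrix (Fin k) (Fin k) F) 1 = 1 := by
  unfold blockDiag
  rw [fromBlocks_one, Matrix.submatrix_one_equiv]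

theorem blockDiag_submatrix (M₁ : Matrix (Fin k) (Fin k) F) (M₂ : Matrix (Fin l) (Fin l) F) :
    (blockDiag k l M₁ M₂).submatrix (finSumFinEquiv (m := k) (n := l))
      (finSumFinEquiv (m := k) (n := l)) = fromBlocks M₁ 0 0 M₂ := by
  unfold blockDiag
  rw [Matrix.submatrix_submatrix]
  simp

theorem blockDiag_injective (M₁ N₁ : Matrix (Fin k) (Fin k) F) (M₂ N₂ : Matrix (Fin l) (Fin l) F)
    (h : blockDiag k l M₁ M₂ = blockDiag k l N₁ N₂) : M₁ = N₁ ∧ M₂ = N₂ := by
  have := congrArg (fun A => A.submatrix (finSumFinEquiv (m := k) (n := l))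
    (finSumFinEquiv (m := k) (n := l))) h
  simp only [blockDiag_submatrix] at this
  rw [fromBlocks_inj] at this
  exact ⟨this.1, this.2.2.2⟩

/-- block diagonal element of `GL` -/
def blockGL : Matrix.GeneralLinearGroup (Fin k) F × Matrix.GeneralLinearGroup (Fin l) F →*
    Matrix.GeneralLinearGroup (Fin (k + l)) F where
  toFun p := ⟨blockDiag k l p.1.val p.2.val, blockDiag k l p.1⁻¹.val p.2⁻¹.val,
    by rw [← blockDiag_mul, ← Units.val_mul, ← Units.val_mul, mul_inv_cancel, mul_inv_cancel,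
      Units.val_one, Units.val_one, blockDiag_one],
    by rw [← blockDiag_mul, ← Units.val_mul, ← Units.val_mul, inv_mul_cancel, inv_mul_cancel,
      Units.val_one, Units.val_one, blockDiag_one]⟩
  map_one' := Units.ext (blockDiag_one k l)
  map_mul' p r := Units.ext (blockDiag_mul k l _ _ _ _)

theorem blockGL_val (p : Matrix.GeneralLinearGroup (Fin k) F × Matrix.GeneralLinearGroup (Fin l) F) :
    ((blockGL k l p : Matrix.GeneralLinearGroup (Fin (k + l)) F) : Matrix (Fin (k + l)) (Fin (k + l)) F) =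
      blockDiag k l p.1.val p.2.val := rfl

end block

section blockGU
variable {F : Type*} [Field F] [Fintype F] {q : ℕ} (hF : Fintype.card F = q ^ 2) (k l : ℕ)
include hF

theorem mem_GU_iff_submatrix (g : Matrix.GeneralLinearGroup (Fin (k + l)) F) :
    g ∈ Cfsg.GU (k + l) F q ↔
      ((g : Matrix (Fin (k + l)) (Fin (k + l)) F).submatrix (finSumFinEquiv (m := k) (n := l))
        (finSumFinEquiv (m := k) (n := l)))ᵀ *
      ((g : Matrix (Fin (k + l)) (Fin (k + l)) F).submatrix (finSumFinEquiv (m := k) (n := l))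
        (finSumFinEquiv (m := k) (n := l))).map (· ^ q) = 1 := by
  rw [mem_GU_iff hF, Matrix.transpose_submatrix, ← Matrix.submatrix_map, Matrix.submatrix_mul_equiv]
  constructor
  · intro h; rw [h, Matrix.submatrix_one_equiv]
  · intro h
    have := congrArg (fun A => A.submatrix (finSumFinEquiv (m := k) (n := l)).symm
      (finSumFinEquiv (m := k) (n := l)).symm) h
    simpa [Matrix.submatrix_submatrix] using this

theorem zero_map : (0 : Matrix (Fin k) (Fin l) F).map (· ^ q) = 0 := by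
  ext i j
  simp [q_ne_zero hF]

theorem blockGL_mem_GU (p : Matrix.GeneralLinearGroup (Fin k) F × Matrix.GeneralLinearGroup (Fin l) F)
    (h₁ : p.1 ∈ Cfsg.GU k F q) (h₂ : p.2 ∈ Cfsg.GU l F q) :
    blockGL k l p ∈ Cfsg.GU (k + l) F q := by
  rw [mem_GU_iff_submatrix hF, blockGL_val, blockDiag_submatrix, fromBlocks_transpose, fromBlocks_map,
    fromBlocks_multiply, zero_map hF, zero_map hF]
  rw [mem_GU_iff hF] at h₁ h₂
  simp [h₁, h₂, fromBlocks_one]

omit hF in
theorem blockGL_mem_P (p : Matrix.GeneralLinearGroup (Fin k) F × Matrix.GeneralLinearGroup (Fin l) F) :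
    blockGL k l p ∈ P F (k + l) k := by
  rw [mem_P_iff]
  intro a b ha hb
  rw [blockGL_val]
  unfold blockDiag
  rw [Matrix.submatrix_apply]
  have ha' : a = Fin.natAdd k ⟨(a : ℕ) - k, by omega⟩ := by
    apply Fin.ext; simp; omega
  have hb' : b = Fin.castAdd l ⟨(b : ℕ), hb⟩ := by
    apply Fin.ext; simp
  rw [ha', hb', finSumFinEquiv_symm_apply_natAdd, finSumFinEquiv_symm_apply_castAdd]
  rfl

/-- the block diagonal embedding of `GU_k × GU_l` onto the stabiliser of the standard subspace -/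
noncomputable def psi : ↥(Cfsg.GU k F q) × ↥(Cfsg.GU l F q) →*
    ↥((P F (k + l) k).subgroupOf (Cfsg.GU (k + l) F q)) where
  toFun p := ⟨⟨blockGL k l (p.1.1, p.2.1), blockGL_mem_GU hF k l _ p.1.2 p.2.2⟩,
    Subgroup.mem_subgroupOf.mpr (blockGL_mem_P k l _)⟩
  map_one' := by
    apply Subtype.ext
    apply Subtype.ext
    exact map_one (blockGL k l)
  map_mul' p r := by
    apply Subtype.ext
    apply Subtype.ext
    exact map_mul (blockGL k l) (p.1.1, p.2.1) (r.1.1, r.2.1)

theorem psi_injective : Function.Injective (psi hF k l) := by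
  intro p r h
  have h1 : blockDiag k l p.1.1.val p.2.1.val = blockDiag k l r.1.1.val r.2.1.val :=
    congrArg (fun x : ↥((P F (k + l) k).subgroupOf (Cfsg.GU (k + l) F q)) =>
      ((x.1.1 : Matrix.GeneralLinearGroup (Fin (k + l)) F) : Matrix (Fin (k + l)) (Fin (k + l)) F)) h
  obtain ⟨ha, hb⟩ := blockDiag_injective k l _ _ _ _ h1
  exact Prod.ext (Subtype.ext (Units.ext ha)) (Subtype.ext (Units.ext hb))

theorem pow_map_eq_zero {a b : ℕ} (Q : Matrix (Fin a) (Fin b) F) (h : Q.map (· ^ q) = 0) : Q = 0 := by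
  ext i j
  have := congrFun (congrFun h i) j
  simp only [Matrix.map_apply, Matrix.zero_apply] at this
  exact pow_eq_zero_iff (q_ne_zero hF) |>.mp this

theorem psi_surjective : Function.Surjective (psi hF k l) := by
  intro g
  obtain ⟨A, hA⟩ : ∃ A : Matrix (Fin (k + l)) (Fin (k + l)) F, A = g.1.1.val := ⟨_, rfl⟩
  obtain ⟨Pm, Q, R, S, hA'⟩ : ∃ Pm Q R S, A.submatrix (finSumFinEquiv (m := k) (n := l))
      (finSumFinEquiv (m := k) (n := l)) = fromBlocks Pm Q R S :=
    ⟨_, _, _, _, (fromBlocks_toBlocks _).symm⟩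
  have hgP : g.1.1 ∈ P F (k + l) k := Subgroup.mem_subgroupOf.mp g.2
  have hR : R = 0 := by
    ext i j
    rw [mem_P_iff] at hgP
    have h1 := hgP (Fin.natAdd k i) (Fin.castAdd l j) (by simp) (by simp)
    have h4 := congrFun (congrFun hA' (Sum.inr i)) (Sum.inl j)
    simp only [Matrix.submatrix_apply, fromBlocks_apply₂₁, finSumFinEquiv_apply_left,
      finSumFinEquiv_apply_right] at h4
    rw [← h4, hA]
    exact h1
  subst hR
  have hGU := (mem_GU_iff_submatrix hF k l g.1.1).mp g.1.2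
  rw [← hA, hA', fromBlocks_transpose, fromBlocks_map, fromBlocks_multiply, ← fromBlocks_one,
    fromBlocks_inj] at hGU
  obtain ⟨e1, e2, -, e4⟩ := hGU
  simp only [Matrix.transpose_zero, Matrix.zero_mul, add_zero] at e1 e2 e4
  have hQ : Q = 0 := by
    apply pow_map_eq_zero hF
    have h2 : (Pm.map (· ^ q)) * Pmᵀ = 1 := mul_eq_one_comm.mp e1
    calc Q.map (· ^ q) = ((Pm.map (· ^ q)) * Pmᵀ) * Q.map (· ^ q) := by rw [h2, Matrix.one_mul]
      _ = (Pm.map (· ^ q)) * (Pmᵀ * Q.map (· ^ q)) := by rw [Matrix.mul_assoc]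
      _ = 0 := by rw [e2, Matrix.mul_zero]
  subst hQ
  simp only [Matrix.transpose_zero, Matrix.zero_mul, zero_add] at e4
  have hPdet : Pm.det ≠ 0 := by
    intro h0
    have := congrArg Matrix.det e1
    rw [Matrix.det_mul, Matrix.det_transpose, h0, zero_mul, Matrix.det_one] at this
    exact zero_ne_one this
  have hSdet : S.det ≠ 0 := by
    intro h0
    have := congrArg Matrix.det e4
    rw [Matrix.det_mul, Matrix.det_transpose, h0, zero_mul, Matrix.det_one] at this
    exact zero_ne_one this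
  have hPGU : Matrix.GeneralLinearGroup.mkOfDetNeZero Pm hPdet ∈ Cfsg.GU k F q := by
    rw [mem_GU_iff hF]; exact e1
  have hSGU : Matrix.GeneralLinearGroup.mkOfDetNeZero S hSdet ∈ Cfsg.GU l F q := by
    rw [mem_GU_iff hF]; exact e4
  refine ⟨(⟨_, hPGU⟩, ⟨_, hSGU⟩), ?_⟩
  apply Subtype.ext
  apply Subtype.ext
  apply Units.ext
  show blockDiag k l Pm S = g.1.1.val
  unfold blockDiag
  rw [← hA, ← hA', Matrix.submatrix_submatrix]
  simp

theorem stab_equiv :
    Nonempty (↥((P F (k + l) k).subgroupOf (Cfsg.GU (k + l) F q)) ≃*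
      ↥(Cfsg.GU k F q) × ↥(Cfsg.GU l F q)) :=
  ⟨(MulEquiv.ofBijective (psi hF k l) ⟨psi_injective hF k l, psi_surjective hF k l⟩).symm⟩

end blockGU

end Cfsg.Agent.Lib.Helper5.HermBlock
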