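import Mathlib
import Cfsg.Prelude.Def_ClassicalGeometry
import Cfsg.Prelude.Def_LieClassical
import Cfsg.Agent.Lib.Helper5.Herm

set_option autoImplicit false
open Cfsg

namespace Cfsg.Agent.Lib.Helper5.HermBridge

open Matrix Cfsg.Agent.Lib.Helper5.Herm

variable {F : Type*} [Field F] [Fintype F] {q : ℕ} (hF : Fintype.card F = q ^ 2) (n : ℕ)

/-- the involutory automorphism `x ↦ x ^ q` -/
def sigma : F →+* F where
  toFun x := x ^ q
  map_one' := one_pow _
  map_mul' := fun a b => mul_pow a b q
  map_zero' := zero_pow (q_ne_zero hF)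
  map_add' := pow_q_add hF

@[simp] theorem sigma_apply (a : F) : sigma hF a = a ^ q := rfl

theorem sigma_sigma (a : F) : sigma hF (sigma hF a) = a := pow_q_pow_q hF a

theorem sigma_ne_id : sigma hF ≠ RingHom.id F := by
  classical
  intro h
  have hq2 := two_le_q hF
  obtain ⟨g, hg⟩ := IsCyclic.exists_generator (α := Fˣ)
  have hord : orderOf g = q ^ 2 - 1 := by
    rw [orderOf_eq_card_of_forall_mem_zpowers hg, Nat.card_eq_fintype_card, Fintype.card_units, hF]
  have h1 : ((g : F)) ^ q = (g : F) := by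
    have := congrArg (fun f : F →+* F => f (g : F)) h
    simpa using this
  have h2 : g ^ q = g := Units.ext (by rw [Units.val_pow_eq_pow_val, h1])
  have h3 : g ^ (q - 1) = 1 := by
    have : g ^ (q - 1) * g = 1 * g := by
      rw [← pow_succ, Nat.sub_add_cancel (by omega), h2, one_mul]
    exact mul_right_cancel this
  have h4 := orderOf_dvd_of_pow_eq_one h3
  rw [hord] at h4
  have h5 := Nat.le_of_dvd (by omega) h4
  have : q < q ^ 2 := by nlinarith
  omega

/-- the hermitian form as a sesquilinear map, semilinear in the first variable: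
`B x y = hermForm y x` -/
def hermSesq : (Fin n → F) →ₛₗ[sigma hF] (Fin n → F) →ₗ[F] F :=
  LinearMap.mk₂'ₛₗ (sigma hF) (RingHom.id F) (fun x y => hermForm n F q y x)
    (fun x x' y => hermForm_add_right hF n y x x')
    (fun c x y => by rw [hermForm_smul_right, sigma_apply, smul_eq_mul])
    (fun x y y' => hermForm_add_left n q y y' x)
    (fun c x y => by rw [hermForm_smul_left, RingHom.id_apply, smul_eq_mul])

@[simp] theorem hermSesq_apply (x y : Fin n → F) : hermSesq hF n x y = hermForm n F q y x := rfl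

theorem hermSesq_isSymm : (hermSesq hF n).IsSymm :=
  ⟨fun x y => by rw [hermSesq_apply, hermSesq_apply, sigma_apply, hermForm_conj hF]⟩

theorem hermSesq_nondegenerate : (hermSesq hF n).Nondegenerate := by
  constructor
  · intro x hx
    ext i
    have := hx (Pi.single i 1)
    rw [hermSesq_apply, hermForm_single_left] at this
    exact pow_eq_zero_iff (q_ne_zero hF) |>.mp this
  · intro y hy
    ext i
    have := hy (Pi.single i 1)
    rw [hermSesq_apply, hermForm_single_right n q (q_ne_zero hF)] at this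
    exact this

/-- an isometry of `hermForm` as an element of `GU` -/
theorem exists_GU_of_isometry (g : (Fin n → F) ≃ₗ[F] (Fin n → F))
    (hg : ∀ u v, hermForm n F q (g u) (g v) = hermForm n F q u v) :
    ∃ A : ↥(Cfsg.GU n F q), ∀ v,
      ((A : Matrix.GeneralLinearGroup (Fin n) F) : Matrix (Fin n) (Fin n) F) *ᵥ v = g v := by
  have hmul : ∀ v, LinearMap.toMatrix' (g : (Fin n → F) →ₗ[F] (Fin n → F)) *ᵥ v = g v :=
    fun v => LinearMap.toMatrix'_mulVec _ v
  have h1 : LinearMap.toMatrix' (g : (Fin n → F) →ₗ[F] (Fin n → F)) *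
      LinearMap.toMatrix' (g.symm : (Fin n → F) →ₗ[F] (Fin n → F)) = 1 := by
    rw [← LinearMap.toMatrix'_comp, ← LinearMap.toMatrix'_id]
    congr 1
    ext v
    simp
  have h2 : LinearMap.toMatrix' (g.symm : (Fin n → F) →ₗ[F] (Fin n → F)) *
      LinearMap.toMatrix' (g : (Fin n → F) →ₗ[F] (Fin n → F)) = 1 := by
    rw [← LinearMap.toMatrix'_comp, ← LinearMap.toMatrix'_id]
    congr 1
    ext v
    simp
  refine ⟨⟨⟨_, _, h1, h2⟩, ?_⟩, hmul⟩
  intro u v
  show hermForm n F q (LinearMap.toMatrix' (g : (Fin n → F) →ₗ[F] (Fin n → F)) *ᵥ u)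
    (LinearMap.toMatrix' (g : (Fin n → F) →ₗ[F] (Fin n → F)) *ᵥ v) = _
  rw [hmul, hmul, hg]

end Cfsg.Agent.Lib.Helper5.HermBridge
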