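import Mathlib
import Cfsg.Prelude.Def_ClassicalGeometry
import Cfsg.Agent.Lib.Helper5.Herm

set_option autoImplicit false
open Cfsg

namespace Cfsg.Agent.Lib.Helper5.HermCount

open Cfsg.Agent.Lib.Helper5.Herm

section norm
variable {F : Type*} [Field F] [Fintype F] {q : ℕ} (hF : Fintype.card F = q ^ 2)
include hF

theorem card_units : Nat.card Fˣ = (q + 1) * (q - 1) := by
  rw [Nat.card_units, Nat.card_eq_fintype_card, hF]
  have h2 := two_le_q hF
  obtain ⟨r, rfl⟩ : ∃ r, q = r + 1 := ⟨q - 1, by omega⟩
  simp only [Nat.add_sub_cancel]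
  have : (r + 1) ^ 2 = (r + 1 + 1) * r + 1 := by ring
  rw [this, Nat.add_sub_cancel]

/-- the norm map on units -/
def normHom (F : Type*) [Field F] (q : ℕ) : Fˣ →* Fˣ := powMonoidHom (q + 1)

omit hF in
theorem card_pow_eq_one_le (n : ℕ) (hn : 0 < n) : Nat.card {a : Fˣ // a ^ n = 1} ≤ n := by
  classical
  have h := IsCyclic.card_pow_eq_one_le (α := Fˣ) (n := n) hn
  rw [Nat.card_eq_fintype_card, Fintype.card_subtype]
  exact h

omit hF in
theorem card_ker_le : Nat.card (normHom F q).ker ≤ q + 1 := by
  refine le_trans (le_of_eq ?_) (card_pow_eq_one_le (F := F) (q + 1) (by omega))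
  apply Nat.card_congr
  exact Equiv.subtypeEquivRight fun a => by
    rw [MonoidHom.mem_ker]; rfl

theorem range_le : ∀ c ∈ (normHom F q).range, c ^ (q - 1) = 1 := by
  rintro c ⟨x, rfl⟩
  show (x ^ (q + 1)) ^ (q - 1) = 1
  rw [← pow_mul, ← card_units hF]
  exact pow_card_eq_one'

theorem card_range_le : Nat.card (normHom F q).range ≤ q - 1 := by
  have h2 := two_le_q hF
  refine le_trans ?_ (card_pow_eq_one_le (F := F) (q - 1) (by omega))
  apply Nat.card_le_card_of_injective (fun c => ⟨c.1, range_le hF c.1 c.2⟩)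
  intro a b hab
  simp only [Subtype.mk.injEq] at hab
  exact Subtype.ext hab

theorem card_ker_mul_card_range :
    Nat.card (normHom F q).ker * Nat.card (normHom F q).range = (q + 1) * (q - 1) := by
  rw [← Subgroup.index_ker, Subgroup.card_mul_index, card_units hF]

theorem card_ker : Nat.card (normHom F q).ker = q + 1 := by
  have h1 := card_ker_le (F := F) (q := q)
  have h2 := card_range_le hF
  have h3 := card_ker_mul_card_range hF
  have hq := two_le_q hF
  by_contra hne
  have hlt : Nat.card (normHom F q).ker < q + 1 := lt_of_le_of_ne h1 hne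
  have : Nat.card (normHom F q).ker * Nat.card (normHom F q).range < (q + 1) * (q - 1) := by
    calc Nat.card (normHom F q).ker * Nat.card (normHom F q).range
        ≤ Nat.card (normHom F q).ker * (q - 1) := Nat.mul_le_mul_left _ h2
      _ < (q + 1) * (q - 1) := Nat.mul_lt_mul_of_pos_right hlt (by omega)
  omega

theorem card_range : Nat.card (normHom F q).range = q - 1 := by
  have h3 := card_ker_mul_card_range hF
  rw [card_ker hF] at h3
  exact Nat.eq_of_mul_eq_mul_left (by omega) h3

theorem mem_range_iff (c : Fˣ) : c ∈ (normHom F q).range ↔ c ^ (q - 1) = 1 := by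
  constructor
  · exact range_le hF c
  · intro hc
    have h2 := two_le_q hF
    have h := card_pow_eq_one_le (F := F) (q - 1) (by omega)
    -- the inclusion `range → {c | c^(q-1) = 1}` is a bijection by counting
    have hinj : Function.Injective
        (fun c : (normHom F q).range => (⟨c.1, range_le hF c.1 c.2⟩ : {a : Fˣ // a ^ (q - 1) = 1})) := by
      intro a b hab
      simp only [Subtype.mk.injEq] at hab
      exact Subtype.ext hab
    have hbij := (Nat.bijective_iff_injective_and_card _).mpr
      ⟨hinj, le_antisymm (Nat.card_le_card_of_injective _ hinj) (by rw [card_range hF]; exact h)⟩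
    obtain ⟨x, hx⟩ := hbij.2 ⟨c, hc⟩
    have : x.1 = c := congrArg Subtype.val hx
    rw [← this]
    exact x.2

/-- (N1) -/
theorem card_norm_one : Nat.card {x : F // x ^ (q + 1) = 1} = q + 1 := by
  refine (Nat.card_congr ?_).trans (card_ker hF)
  exact
    { toFun := fun x => ⟨Units.mk0 x.1 (by
        intro h0
        have := x.2
        rw [h0, zero_pow (Nat.succ_ne_zero q)] at this
        exact zero_ne_one this), by
        rw [MonoidHom.mem_ker]
        apply Units.ext
        show (x.1) ^ (q + 1) = 1
        exact x.2⟩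
      invFun := fun x => ⟨(x.1 : F), by
        have := x.2
        rw [MonoidHom.mem_ker] at this
        have h2 : ((x.1 ^ (q + 1) : Fˣ) : F) = 1 := by
          have h3 : x.1 ^ (q + 1) = 1 := this
          rw [h3]; rfl
        rw [Units.val_pow_eq_pow_val] at h2
        exact h2⟩
      left_inv := fun x => rfl
      right_inv := fun x => by
        apply Subtype.ext
        apply Units.ext
        rfl }

/-- (N2) the norm is onto the nonzero fixed elements -/
theorem exists_norm_eq (c : F) (hc0 : c ≠ 0) (hc : c ^ q = c) : ∃ l : F, l ^ (q + 1) = c := by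
  have h2 := two_le_q hF
  have h1 : (Units.mk0 c hc0) ^ (q - 1) = 1 := by
    apply Units.ext
    rw [Units.val_pow_eq_pow_val, Units.val_mk0, Units.val_one]
    have : c ^ (q - 1) * c = c := by
      rw [← pow_succ, Nat.sub_add_cancel (by omega), hc]
    exact mul_right_cancel₀ hc0 (this.trans (one_mul c).symm)
  obtain ⟨x, hx⟩ := (mem_range_iff hF _).mpr h1
  refine ⟨(x : F), ?_⟩
  have := congrArg Units.val hx
  rw [Units.val_mk0] at this
  rw [← this]
  show (x : F) ^ (q + 1) = ((x ^ (q + 1) : Fˣ) : F)
  rw [Units.val_pow_eq_pow_val]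

/-- (N3) the number of nonzero fixed elements -/
theorem card_fixed : Nat.card {c : F // c ≠ 0 ∧ c ^ q = c} = q - 1 := by
  have h2 := two_le_q hF
  refine (Nat.card_congr ?_).trans (card_range hF)
  exact
    { toFun := fun c => ⟨Units.mk0 c.1 c.2.1, by
        rw [mem_range_iff hF]
        apply Units.ext
        rw [Units.val_pow_eq_pow_val, Units.val_mk0, Units.val_one]
        have : c.1 ^ (q - 1) * c.1 = c.1 := by
          rw [← pow_succ, Nat.sub_add_cancel (by omega), c.2.2]
        exact mul_right_cancel₀ c.2.1 (this.trans (one_mul c.1).symm)⟩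
      invFun := fun c => ⟨(c.1 : F), c.1.ne_zero, by
        have := (mem_range_iff hF c.1).mp c.2
        have h3 : ((c.1 ^ (q - 1) : Fˣ) : F) = 1 := by rw [this]; rfl
        rw [Units.val_pow_eq_pow_val] at h3
        calc (c.1 : F) ^ q = (c.1 : F) ^ (q - 1) * (c.1 : F) := by
              rw [← pow_succ, Nat.sub_add_cancel (by omega)]
          _ = (c.1 : F) := by rw [h3, one_mul]⟩
      left_inv := fun c => rfl
      right_inv := fun c => by
        apply Subtype.ext
        apply Units.ext
        rfl }

end norm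

section count
variable {F : Type*} [Field F] [Fintype F] {q : ℕ} (hF : Fintype.card F = q ^ 2)

/-- number of vectors of given norm -/
noncomputable def A (F : Type*) [Field F] (q n : ℕ) (c : F) : ℕ :=
  Nat.card {v : Fin n → F // hermForm n F q v v = c}

omit [Fintype F] in
/-- (F1) scaling -/
theorem A_scale (n : ℕ) (l c : F) (hl : l ≠ 0) : A F q n (l ^ (q + 1) * c) = A F q n c := by
  unfold A
  apply Nat.card_congr
  have key : ∀ (a : F) (v : Fin n → F), hermForm n F q (a • v) (a • v) = a ^ (q + 1) * hermForm n F q v v := by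
    intro a v
    rw [hermForm_smul_left, hermForm_smul_right, ← mul_assoc, pow_succ']
  exact
    { toFun := fun v => ⟨l⁻¹ • v.1, by
        rw [key, v.2, ← mul_assoc, ← mul_pow, inv_mul_cancel₀ hl, one_pow, one_mul]⟩
      invFun := fun v => ⟨l • v.1, by rw [key, v.2]⟩
      left_inv := fun v => by
        apply Subtype.ext
        show l • l⁻¹ • v.1 = v.1
        rw [smul_smul, mul_inv_cancel₀ hl, one_smul]
      right_inv := fun v => by
        apply Subtype.ext
        show l⁻¹ • l • v.1 = v.1
        rw [smul_smul, inv_mul_cancel₀ hl, one_smul] }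

include hF in
/-- (F2) -/
theorem A_fixed (n : ℕ) (c : F) (hc0 : c ≠ 0) (hc : c ^ q = c) : A F q n c = A F q n 1 := by
  obtain ⟨l, hl⟩ := exists_norm_eq hF c hc0 hc
  have hl0 : l ≠ 0 := by
    rintro rfl
    rw [zero_pow (Nat.succ_ne_zero q)] at hl
    exact hc0 hl.symm
  rw [← A_scale n l 1 hl0, hl, mul_one]

include hF in
/-- (F3) -/
theorem A_not_fixed (n : ℕ) (c : F) (hc : c ^ q ≠ c) : A F q n c = 0 := by
  unfold A
  have : IsEmpty {v : Fin n → F // hermForm n F q v v = c} := by
    constructor
    rintro ⟨v, hv⟩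
    apply hc
    rw [← hv, hermForm_conj hF]
  exact Nat.card_of_isEmpty

include hF in
/-- (F4) -/
theorem A_total (n : ℕ) : A F q n 0 + (q - 1) * A F q n 1 = q ^ (2 * n) := by
  classical
  have h1 : Nat.card (Fin n → F) = Nat.card (Σ c : F, {v : Fin n → F // hermForm n F q v v = c}) :=
    Nat.card_congr (Equiv.sigmaFiberEquiv (fun v : Fin n → F => hermForm n F q v v)).symm
  rw [Nat.card_sigma, Nat.card_eq_fintype_card, Fintype.card_fun, Fintype.card_fin, hF, ← pow_mul] at h1
  rw [h1]
  have h2 : ∀ c : F, Nat.card {v : Fin n → F // hermForm n F q v v = c} =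
      if c = 0 then A F q n 0 else if c ^ q = c then A F q n 1 else 0 := by
    intro c
    split_ifs with h0 hc
    · rw [h0]; rfl
    · exact A_fixed hF n c h0 hc
    · exact A_not_fixed hF n c hc
  simp only [h2]
  rw [Finset.sum_ite, Finset.sum_ite, Finset.sum_const, Finset.sum_const, Finset.sum_const_zero,
    add_zero, smul_eq_mul, smul_eq_mul, Finset.filter_filter]
  have e1 : (Finset.univ.filter fun x : F => x = 0) = {0} := by
    ext x; simp
  have e2 : (Finset.univ.filter fun x : F => ¬ x = 0 ∧ x ^ q = x).card = q - 1 := by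
    have := card_fixed hF
    rw [Nat.card_eq_fintype_card, Fintype.card_subtype] at this
    convert this using 2
  rw [e1, e2, Finset.card_singleton, one_mul]

/-- fibre of the first coordinate -/
def fiberEquiv (n : ℕ) (c x : F) :
    {v : {v : Fin (n + 1) → F // hermForm (n + 1) F q v v = c} // v.1 0 = x} ≃
      {w : Fin n → F // hermForm n F q w w = c - x ^ (q + 1)} where
  toFun v := ⟨Fin.tail v.1.1, by
    have h := v.1.2
    have hx := v.2
    unfold hermForm at h ⊢
    rw [Fin.sum_univ_succ, hx] at h
    show ∑ i : Fin n, v.1.1 i.succ * v.1.1 i.succ ^ q = c - x ^ (q + 1)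
    rw [pow_succ']
    linear_combination h⟩
  invFun w := ⟨⟨(Fin.cons x w.1 : Fin (n + 1) → F), by
    have h := w.2
    unfold hermForm at h ⊢
    rw [Fin.sum_univ_succ]
    simp only [Fin.cons_zero, Fin.cons_succ]
    rw [h, pow_succ']
    ring⟩, by simp⟩
  left_inv v := by
    apply Subtype.ext
    apply Subtype.ext
    show (Fin.cons x (Fin.tail v.1.1) : Fin (n + 1) → F) = v.1.1
    have := Fin.cons_self_tail v.1.1
    rw [v.2] at this
    exact this
  right_inv w := by
    apply Subtype.ext
    show Fin.tail (Fin.cons x w.1 : Fin (n + 1) → F) = w.1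
    rw [Fin.tail_cons]

/-- (F5) -/
theorem A_succ (n : ℕ) (c : F) : A F q (n + 1) c = ∑ x : F, A F q n (c - x ^ (q + 1)) := by
  unfold A
  rw [Nat.card_congr (Equiv.sigmaFiberEquiv
    (fun v : {v : Fin (n + 1) → F // hermForm (n + 1) F q v v = c} => v.1 0)).symm, Nat.card_sigma]
  exact Finset.sum_congr rfl fun x _ => Nat.card_congr (fiberEquiv n c x)

include hF in
theorem A_succ_one (n : ℕ) :
    A F q (n + 1) 1 = (q + 1) * A F q n 0 + (q ^ 2 - (q + 1)) * A F q n 1 := by
  classical
  rw [A_succ]
  have h2 : ∀ x : F, A F q n (1 - x ^ (q + 1)) =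
      if x ^ (q + 1) = 1 then A F q n 0 else A F q n 1 := by
    intro x
    split_ifs with h
    · rw [h, sub_self]
    · apply A_fixed hF
      · intro h0
        exact h (sub_eq_zero.mp h0).symm
      · rw [pow_q_sub hF, one_pow, ← pow_mul, mul_comm, pow_mul, pow_succ, pow_q_pow_q hF,
          mul_comm, ← pow_succ]
  simp only [h2]
  rw [Finset.sum_ite, Finset.sum_const, Finset.sum_const, smul_eq_mul, smul_eq_mul]
  have h3 : (Finset.univ.filter fun x : F => x ^ (q + 1) = 1).card = q + 1 := by
    have := card_norm_one hF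
    rw [Nat.card_eq_fintype_card, Fintype.card_subtype] at this
    convert this using 2
  rw [Finset.filter_not, Finset.card_sdiff_of_subset (Finset.filter_subset _ _), h3,
    Finset.card_univ, hF]

omit [Fintype F] in
theorem A_zero_one : A F q 0 1 = 0 := by
  unfold A
  have : IsEmpty {v : Fin 0 → F // hermForm 0 F q v v = 1} := by
    constructor
    rintro ⟨v, hv⟩
    unfold hermForm at hv
    simp at hv
  exact Nat.card_of_isEmpty

end count

section closed
variable {F : Type*} [Field F] [Fintype F] {q : ℕ} (hF : Fintype.card F = q ^ 2)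
include hF

theorem A_one_int (n : ℕ) :
    (q : ℤ) * (A F q n 1 : ℤ) = (q : ℤ) ^ (2 * n) - (-(q : ℤ)) ^ n := by
  induction n with
  | zero => rw [A_zero_one]; simp
  | succ n ih =>
    have h1 := A_total hF n
    have h2 := A_succ_one hF n
    have hq := two_le_q hF
    have h1' : (A F q n 0 : ℤ) + ((q : ℤ) - 1) * (A F q n 1 : ℤ) = (q : ℤ) ^ (2 * n) := by
      have := congrArg (Nat.cast : ℕ → ℤ) h1
      push_cast [Nat.cast_sub (by omega : 1 ≤ q)] at this
      exact this
    have h2' : (A F q (n + 1) 1 : ℤ) =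
        ((q : ℤ) + 1) * A F q n 0 + ((q : ℤ) ^ 2 - (q + 1)) * A F q n 1 := by
      have hle : q + 1 ≤ q ^ 2 := by nlinarith
      have := congrArg (Nat.cast : ℕ → ℤ) h2
      push_cast [Nat.cast_sub hle] at this
      exact this
    rw [h2']
    have e : 2 * (n + 1) = 2 * n + 2 := by ring
    rw [e, pow_add, pow_succ (-(q : ℤ)) n]
    have hz : (A F q n 0 : ℤ) = (q : ℤ) ^ (2 * n) - ((q : ℤ) - 1) * A F q n 1 := by linarith
    rw [hz]
    linear_combination (-(q : ℤ)) * ih

theorem A_zero_int (n : ℕ) :
    (q : ℤ) * (A F q n 0 : ℤ) = (q : ℤ) ^ (2 * n) + ((q : ℤ) - 1) * (-(q : ℤ)) ^ n := by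
  have h1 := A_total hF n
  have hq := two_le_q hF
  have h1' : (A F q n 0 : ℤ) + ((q : ℤ) - 1) * (A F q n 1 : ℤ) = (q : ℤ) ^ (2 * n) := by
    have := congrArg (Nat.cast : ℕ → ℤ) h1
    push_cast [Nat.cast_sub (by omega : 1 ≤ q)] at this
    exact this
  have h2 := A_one_int hF n
  linear_combination (q : ℤ) * h1' - ((q : ℤ) - 1) * h2

theorem A_one (n : ℕ) :
    A F q n 1 = if Even n then q ^ (n - 1) * (q ^ n - 1) else q ^ (n - 1) * (q ^ n + 1) := by
  have hq := two_le_q hF
  rcases n with _ | k
  · rw [A_zero_one]; simp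
  · have h := A_one_int hF (k + 1)
    have hq0 : (q : ℤ) ≠ 0 := by exact_mod_cast (by omega : q ≠ 0)
    have h1 : 1 ≤ q ^ (k + 1) := Nat.one_le_pow _ _ (by omega)
    rw [Nat.add_sub_cancel]
    split_ifs with he
    · rw [Even.neg_pow he] at h
      apply Nat.cast_injective (R := ℤ)
      apply mul_left_cancel₀ hq0
      rw [h]
      push_cast [Nat.cast_sub h1]
      ring
    · rw [Odd.neg_pow (Nat.not_even_iff_odd.mp he)] at h
      apply Nat.cast_injective (R := ℤ)
      apply mul_left_cancel₀ hq0
      rw [h]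
      push_cast
      ring

theorem A_zero (n : ℕ) :
    A F q n 0 = (if Even n then (q ^ n - 1) * (q ^ (n - 1) + 1)
      else (q ^ n + 1) * (q ^ (n - 1) - 1)) + 1 := by
  have hq := two_le_q hF
  rcases n with _ | k
  · have := A_total hF 0
    rw [A_zero_one] at this
    simp at this
    rw [this]; simp
  · have h := A_zero_int hF (k + 1)
    have hq0 : (q : ℤ) ≠ 0 := by exact_mod_cast (by omega : q ≠ 0)
    have h1 : 1 ≤ q ^ (k + 1) := Nat.one_le_pow _ _ (by omega)
    have h2 : 1 ≤ q ^ k := Nat.one_le_pow _ _ (by omega)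
    rw [Nat.add_sub_cancel]
    split_ifs with he
    · rw [Even.neg_pow he] at h
      apply Nat.cast_injective (R := ℤ)
      apply mul_left_cancel₀ hq0
      rw [h]
      push_cast [Nat.cast_sub h1]
      ring
    · rw [Odd.neg_pow (Nat.not_even_iff_odd.mp he)] at h
      apply Nat.cast_injective (R := ℤ)
      apply mul_left_cancel₀ hq0
      rw [h]
      push_cast [Nat.cast_sub h2]
      ring

end closed

end Cfsg.Agent.Lib.Helper5.HermCount
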