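import Mathlib

set_option autoImplicit false

namespace Cfsg.Agent.Lib.Helper5.HermWitt

open Module

variable {F : Type*} [Field F] {V : Type*} [AddCommGroup V] [Module F V] {σ : F →+* F}

/-- surjectivity of the trace `μ ↦ μ + σ μ` onto the fixed field, with `μ ≠ 0`. -/
theorem exists_trace (hσ : σ ≠ RingHom.id F) (hσ2 : ∀ a : F, σ (σ a) = a) (d : F) (hd : σ d = d) :
    ∃ μ : F, μ ≠ 0 ∧ μ + σ μ = d := by
  obtain ⟨θ, hθ⟩ : ∃ θ : F, σ θ ≠ θ := by
    by_contra hcon
    push Not at hcon
    exact hσ (RingHom.ext hcon)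
  by_cases hd0 : d = 0
  · refine ⟨θ - σ θ, sub_ne_zero.mpr (Ne.symm hθ), ?_⟩
    rw [map_sub, hσ2, hd0]; ring
  · obtain ⟨θ₀, hθ₀⟩ : ∃ θ₀ : F, θ₀ + σ θ₀ ≠ 0 := by
      by_cases h2 : (1 : F) + σ 1 = 0
      · refine ⟨θ, ?_⟩
        rw [map_one] at h2
        intro h
        apply hθ
        have h3 : σ θ = -θ := by linear_combination h
        have h4 : (2 : F) = 0 := by linear_combination h2
        rw [h3]
        linear_combination (-θ) * h4
      · exact ⟨1, h2⟩
    have hθ₀0 : θ₀ ≠ 0 := by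
      rintro rfl
      simp at hθ₀
    set e : F := θ₀ + σ θ₀ with he
    have hefix : σ e = e := by rw [he, map_add, hσ2]; ring
    refine ⟨d * θ₀ / e, ?_, ?_⟩
    · exact div_ne_zero (mul_ne_zero hd0 hθ₀0) hθ₀
    · rw [map_div₀, map_mul, hd, hefix]
      field_simp
      rw [he]

variable (B : V →ₛₗ[σ] V →ₗ[F] F)

/-- The map `x ↦ x + c B(p,x) p`. -/
def qtv (p : V) (c : F) : V →ₗ[F] V := LinearMap.id + c • (B p).smulRight p

theorem qtv_apply (p : V) (c : F) (x : V) : qtv B p c x = x + (c * B p x) • p := by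
  simp [qtv, mul_smul]

theorem qtv_isom (hS : B.IsSymm) (p : V) (c : F) (hc : c + σ c + c * σ c * B p p = 0) (x y : V) :
    B (qtv B p c x) (qtv B p c y) = B x y := by
  rw [qtv_apply, qtv_apply]
  simp only [map_add, LinearMap.map_smulₛₗ, LinearMap.add_apply, LinearMap.smul_apply, smul_eq_mul,
    map_mul, map_smul]
  rw [hS.eq p x]
  linear_combination (B x p * B p y) * hc

theorem equiv_of_isom [FiniteDimensional F V] (hB : B.Nondegenerate) (g : V →ₗ[F] V)
    (hg : ∀ x y, B (g x) (g y) = B x y) : ∃ e : V ≃ₗ[F] V, ∀ x, e x = g x := by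
  have hinj : Function.Injective g := by
    rw [← LinearMap.ker_eq_bot, LinearMap.ker_eq_bot']
    intro x hx
    apply hB.1 x
    intro y
    rw [← hg, hx]
    simp
  exact ⟨LinearEquiv.ofInjectiveEndo g hinj, fun x => rfl⟩

theorem exists_perp_not_perp [Finite F] [FiniteDimensional F V] (hB : B.Nondegenerate)
    (H : Submodule F V) (c : V) (hc : c ∉ H) :
    ∃ z, (∀ h ∈ H, B z h = 0) ∧ B z c ≠ 0 := by
  obtain ⟨f, hfc, hfH⟩ := Submodule.exists_le_ker_of_notMem hc
  have hVfin : Finite V := Module.finite_of_finite F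
  have hDfin : Finite (Module.Dual F V) := Module.finite_of_finite F
  have hinj : Function.Injective (fun z : V => B z) := by
    intro z z' h
    have h' : B (z - z') = 0 := by rw [map_sub]; exact sub_eq_zero.mpr h
    have := hB.1 (z - z') (fun y => by rw [h']; rfl)
    exact sub_eq_zero.mp this
  have hcard : Nat.card (Module.Dual F V) ≤ Nat.card V := by
    rw [Module.natCard_eq_pow_finrank (K := F) (V := V),
      Module.natCard_eq_pow_finrank (K := F) (V := Module.Dual F V), Subspace.dual_finrank_eq]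
  obtain ⟨z, hz⟩ := (hinj.bijective_of_nat_card_le hcard).2 f
  refine ⟨z, ?_, ?_⟩
  · intro h hh
    have : B z = f := hz
    rw [this]
    exact hfH hh
  · have : B z = f := hz
    rw [this]
    exact hfc

/-- One quasi-reflection moving `x` to `y` and fixing `H`. -/
theorem single_step [FiniteDimensional F V] (hB : B.Nondegenerate) (hS : B.IsSymm)
    (H : Submodule F V) (x y : V) (hxy : B (y - x) x ≠ 0) (hn : B x x = B y y)
    (hH : ∀ h ∈ H, B x h = B y h) :
    ∃ g : V ≃ₗ[F] V, (∀ u v, B (g u) (g v) = B u v) ∧ (∀ h ∈ H, g h = h) ∧ g x = y := by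
  set p : V := y - x with hp
  have hyp : y = x + p := by rw [hp]; abel
  set β : F := B p x with hβ
  have hrel : σ β + β + B p p = 0 := by
    have h1 : B y y = B x x + B x p + B p x + B p p := by
      rw [hyp]
      simp only [map_add, LinearMap.add_apply]
      ring
    rw [hβ, hS.eq p x]
    linear_combination -h1 - hn
  have hσβ : σ β ≠ 0 := by
    intro h
    exact hxy ((map_eq_zero σ).mp h)
  have hc : β⁻¹ + σ β⁻¹ + β⁻¹ * σ β⁻¹ * B p p = 0 := by
    rw [map_inv₀]
    field_simp
    linear_combination hrel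
  have hiso := qtv_isom B hS p β⁻¹ hc
  obtain ⟨g, hg⟩ := equiv_of_isom B hB (qtv B p β⁻¹) hiso
  refine ⟨g, fun u v => by rw [hg, hg]; exact hiso u v, ?_, ?_⟩
  · intro h hh
    rw [hg, qtv_apply]
    have : B p h = 0 := by
      rw [hp, map_sub, LinearMap.sub_apply, hH h hh, sub_self]
    rw [this]; simp
  · rw [hg, qtv_apply, ← hβ, inv_mul_cancel₀ hxy, one_smul, hyp]

/-- An isometry fixing `H` pointwise and moving `a` to `b`. -/
theorem exists_fix_move [Finite F] [FiniteDimensional F V] (hσ : σ ≠ RingHom.id F)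
    (hσ2 : ∀ a : F, σ (σ a) = a) (hB : B.Nondegenerate) (hS : B.IsSymm)
    (H : Submodule F V) (a b : V) (hn : B a a = B b b) (hab : ∀ h ∈ H, B a h = B b h)
    (ha : a ∉ H) (hb : b ∉ H) :
    ∃ g : V ≃ₗ[F] V, (∀ u v, B (g u) (g v) = B u v) ∧ (∀ h ∈ H, g h = h) ∧ g a = b := by
  by_cases h0 : B (b - a) a = 0
  · obtain ⟨z₁, hz₁H, hz₁a⟩ := exists_perp_not_perp B hB H a ha
    obtain ⟨z₂, hz₂H, hz₂b⟩ := exists_perp_not_perp B hB H b hb
    obtain ⟨z₀, hzH, hza, hzb⟩ : ∃ z, (∀ h ∈ H, B z h = 0) ∧ B z a ≠ 0 ∧ B z b ≠ 0 := by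
      by_cases h1 : B z₁ b = 0
      · by_cases h2 : B z₂ a = 0
        · refine ⟨z₁ + z₂, ?_, ?_, ?_⟩
          · intro h hh; rw [map_add, LinearMap.add_apply, hz₁H h hh, hz₂H h hh, add_zero]
          · rw [map_add, LinearMap.add_apply, h2, add_zero]; exact hz₁a
          · rw [map_add, LinearMap.add_apply, h1, zero_add]; exact hz₂b
        · exact ⟨z₂, hz₂H, h2, hz₂b⟩
      · exact ⟨z₁, hz₁H, hz₁a, h1⟩
    -- scale z₀
    set c₀ : F := B z₀ a with hc₀
    set d₀ : F := B z₀ z₀ with hd₀
    have hd₀fix : σ (-d₀) = -d₀ := by rw [map_neg, hd₀, hS.eq]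
    obtain ⟨μ, hμ0, hμ⟩ := exists_trace hσ hσ2 (-d₀) hd₀fix
    set t : F := c₀ / μ with ht
    have ht0 : t ≠ 0 := div_ne_zero hza hμ0
    have hσt0 : σ t ≠ 0 := fun h => ht0 ((map_eq_zero σ).mp h)
    set z : V := t • z₀ with hz
    have hzH' : ∀ h ∈ H, B z h = 0 := by
      intro h hh
      rw [hz, LinearMap.map_smulₛₗ, LinearMap.smul_apply, hzH h hh, smul_zero]
    have hza' : B z a = σ t * c₀ := by
      rw [hz, LinearMap.map_smulₛₗ, LinearMap.smul_apply, smul_eq_mul]
    have hzb' : B z b ≠ 0 := by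
      rw [hz, LinearMap.map_smulₛₗ, LinearMap.smul_apply, smul_eq_mul]
      exact mul_ne_zero hσt0 hzb
    have hzz : B z z = σ t * t * d₀ := by
      rw [hz, LinearMap.map_smulₛₗ₂, map_smul, smul_eq_mul, smul_eq_mul]
      ring
    have haz : B a z = t * σ c₀ := by
      rw [← hS.eq z a, hza', map_mul, hσ2]
    -- the key relation B z z + B z a + B a z = 0
    have hkey : B z z + B z a + B a z = 0 := by
      have hμt : μ = c₀ / t := by rw [ht]; field_simp
      have hσμ : σ μ = σ c₀ / σ t := by rw [hμt, map_div₀]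
      rw [hzz, hza', haz]
      have h3 : μ + σ μ + d₀ = 0 := by linear_combination hμ
      rw [hσμ, hμt] at h3
      field_simp at h3
      linear_combination (1 : F) * h3
    have h0' : B (b - a) a = 0 := h0
    have hpa : B b a = B a a := by
      rw [map_sub, LinearMap.sub_apply, sub_eq_zero] at h0'
      exact h0'
    obtain ⟨g₁, hg₁, hg₁H, hg₁a⟩ := single_step B hB hS H a (a + z)
      (by rw [add_sub_cancel_left, hza']; exact mul_ne_zero hσt0 hza)
      (by simp only [map_add, LinearMap.add_apply]; linear_combination -hkey)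
      (by intro h hh; rw [map_add, LinearMap.add_apply, hzH' h hh, add_zero])
    obtain ⟨g₂, hg₂, hg₂H, hg₂a⟩ := single_step B hB hS H (a + z) b
      (by
        have hbz : B b z ≠ 0 := by
          intro h
          apply hzb'
          rw [← hS.eq b z, h, map_zero]
        have hab' : B a b = B a a := by
          rw [← hS.eq b a, hpa, hS.eq]
        have : B (b - (a + z)) (a + z) = B b z := by
          simp only [map_sub, map_add, LinearMap.sub_apply, LinearMap.add_apply]
          linear_combination hpa - hkey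
        rw [this]; exact hbz)
      (by rw [← hn]; simp only [map_add, LinearMap.add_apply]; linear_combination hkey)
      (by intro h hh; rw [map_add, LinearMap.add_apply, hzH' h hh, add_zero]; exact hab h hh)
    refine ⟨g₁.trans g₂, ?_, ?_, ?_⟩
    · intro u v
      rw [LinearEquiv.trans_apply, LinearEquiv.trans_apply, hg₂, hg₁]
    · intro h hh
      rw [LinearEquiv.trans_apply, hg₁H h hh, hg₂H h hh]
    · rw [LinearEquiv.trans_apply, hg₁a, hg₂a]
  · exact single_step B hB hS H a b h0 hn hab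

/-- Witt's lemma for hermitian forms, for linearly independent families. -/
theorem witt_family [Finite F] [FiniteDimensional F V] (hσ : σ ≠ RingHom.id F)
    (hσ2 : ∀ a : F, σ (σ a) = a) (hB : B.Nondegenerate) (hS : B.IsSymm) (n : ℕ) :
    ∀ (x y : Fin n → V), LinearIndependent F x → LinearIndependent F y →
      (∀ i j, B (x i) (x j) = B (y i) (y j)) →
      ∃ g : V ≃ₗ[F] V, (∀ u v, B (g u) (g v) = B u v) ∧ ∀ i, g (x i) = y i := by
  induction n with
  | zero =>
    intro x y _ _ _
    exact ⟨LinearEquiv.refl F V, fun u v => rfl, fun i => i.elim0⟩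
  | succ n ih =>
    intro x y hx hy hxy
    obtain ⟨g₁, hg₁, hg₁x⟩ := ih (x ∘ Fin.castSucc) (y ∘ Fin.castSucc)
      (hx.comp _ (Fin.castSucc_injective n)) (hy.comp _ (Fin.castSucc_injective n))
      (fun i j => hxy _ _)
    set H : Submodule F V := Submodule.span F (Set.range (x ∘ Fin.castSucc)) with hH
    set a : V := x (Fin.last n) with ha
    set b : V := g₁.symm (y (Fin.last n)) with hb
    have hlast : Fin.last n ∉ Set.range (Fin.castSucc : Fin n → Fin (n + 1)) := by
      rintro ⟨i, hi⟩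
      exact Fin.castSucc_ne_last i hi
    have haH : a ∉ H := by
      have := hx.notMem_span_image hlast
      rwa [← Set.range_comp] at this
    have hbH : b ∉ H := by
      intro hmem
      have h1 : g₁ b ∈ H.map (g₁ : V →ₗ[F] V) := Submodule.mem_map_of_mem hmem
      rw [hb, LinearEquiv.apply_symm_apply, hH, Submodule.map_span, ← Set.range_comp] at h1
      have h2 : ((g₁ : V →ₗ[F] V) ∘ x ∘ Fin.castSucc) = y ∘ Fin.castSucc := by
        funext i
        exact hg₁x i
      rw [h2, Set.range_comp] at h1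
      exact hy.notMem_span_image hlast h1
    have hn : B a a = B b b := by
      rw [← hg₁ b b, hb, LinearEquiv.apply_symm_apply]
      exact hxy _ _
    have hab : ∀ h ∈ H, B a h = B b h := by
      have : H ≤ LinearMap.ker (B a - B b) := by
        rw [hH, Submodule.span_le]
        rintro _ ⟨i, rfl⟩
        rw [SetLike.mem_coe, LinearMap.mem_ker, LinearMap.sub_apply, sub_eq_zero]
        show B (x (Fin.last n)) (x (Fin.castSucc i)) = B b (x (Fin.castSucc i))
        rw [← hg₁ b, hb, LinearEquiv.apply_symm_apply]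
        have := hg₁x i
        simp only [Function.comp_apply] at this
        rw [this]
        exact hxy _ _
      intro h hh
      have := this hh
      rwa [LinearMap.mem_ker, LinearMap.sub_apply, sub_eq_zero] at this
    obtain ⟨g₂, hg₂, hg₂H, hg₂a⟩ := exists_fix_move B hσ hσ2 hB hS H a b hn hab haH hbH
    refine ⟨g₂.trans g₁, ?_, ?_⟩
    · intro u v
      rw [LinearEquiv.trans_apply, LinearEquiv.trans_apply, hg₁, hg₂]
    · intro i
      refine Fin.lastCases ?_ (fun j => ?_) i
      · rw [LinearEquiv.trans_apply, hg₂a, hb, LinearEquiv.apply_symm_apply]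
      · have h1 : g₂ (x (Fin.castSucc j)) = x (Fin.castSucc j) :=
          hg₂H _ (Submodule.subset_span ⟨j, rfl⟩)
        rw [LinearEquiv.trans_apply, h1]
        exact hg₁x j

/-- Witt's lemma for nondegenerate hermitian forms over finite fields. -/
theorem witt [Finite F] [FiniteDimensional F V] (hσ : σ ≠ RingHom.id F)
    (hσ2 : ∀ a : F, σ (σ a) = a) (hB : B.Nondegenerate) (hS : B.IsSymm)
    (X Y : Submodule F V) (φ : X ≃ₗ[F] Y)
    (hφ : ∀ x x' : X, B (φ x : V) (φ x' : V) = B (x : V) (x' : V)) :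
    ∃ g : V ≃ₗ[F] V, (∀ u v : V, B (g u) (g v) = B u v) ∧ ∀ x : X, g (x : V) = (φ x : V) := by
  let bX := Module.finBasis F X
  have hx : LinearIndependent F (fun i => (bX i : V)) :=
    bX.linearIndependent.map' X.subtype (Submodule.ker_subtype _)
  have hy : LinearIndependent F (fun i => (φ (bX i) : V)) := by
    have h1 : LinearIndependent F (fun i => φ (bX i)) :=
      bX.linearIndependent.map' (φ : X →ₗ[F] Y) (LinearEquiv.ker φ)
    exact h1.map' Y.subtype (Submodule.ker_subtype _)
  obtain ⟨g, hg, hgx⟩ := witt_family B hσ hσ2 hB hS _ _ _ hx hy (fun i j => (hφ _ _).symm)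
  refine ⟨g, hg, ?_⟩
  have : (g : V →ₗ[F] V) ∘ₗ X.subtype = Y.subtype ∘ₗ (φ : X →ₗ[F] Y) := by
    apply bX.ext
    intro i
    exact hgx i
  intro x
  exact congrArg (fun f => f x) this

end Cfsg.Agent.Lib.Helper5.HermWitt
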