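import Mathlib
import Cfsg.Prelude.Def_ClassicalGeometry
import Cfsg.Prelude.Def_LieClassical
import Cfsg.Agent.Lib.Helper5.Herm
import Cfsg.Agent.Lib.Helper5.HermWitt
import Cfsg.Agent.Lib.Helper5.HermBridge
import Cfsg.Agent.Lib.Helper5.HermBlock
import Cfsg.Agent.Lib.Helper5.HermCount
import Cfsg.Agent.Lib.Helper5.SympFrames

set_option autoImplicit false
open Cfsg

namespace Cfsg.Agent.Lib.Helper5.HermCard

open Matrix Cfsg.Agent.Lib.Helper5.Herm Cfsg.Agent.Lib.Helper5.HermBridge
  Cfsg.Agent.Lib.Helper5.HermBlock Cfsg.Agent.Lib.Helper5.HermCount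
  Cfsg.Agent.Lib.Helper5.GLParabolic

section action
variable {F : Type*} [Field F] [Fintype F] {q : ℕ} (hF : Fintype.card F = q ^ 2)

/-- the action of the unitary group on vectors -/
@[reducible] noncomputable def vecSMul (F : Type*) [Field F] (q n : ℕ) :
    SMul ↥(Cfsg.GU n F q) (Fin n → F) where
  smul g v := ((g : Matrix.GeneralLinearGroup (Fin n) F) : Matrix (Fin n) (Fin n) F) *ᵥ v

attribute [local instance 2000] vecSMul

/-- the action of the unitary group on vectors -/
@[reducible] noncomputable def vecAction (F : Type*) [Field F] (q n : ℕ) :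
    MulAction ↥(Cfsg.GU n F q) (Fin n → F) where
  one_smul v := by
    show (1 : Matrix (Fin n) (Fin n) F) *ᵥ v = v
    rw [one_mulVec]
  mul_smul g h v := by
    show (((g : Matrix.GeneralLinearGroup (Fin n) F) : Matrix (Fin n) (Fin n) F) *
      ((h : Matrix.GeneralLinearGroup (Fin n) F) : Matrix (Fin n) (Fin n) F)) *ᵥ v = _
    rw [← mulVec_mulVec]
    rfl

attribute [local instance 2000] vecAction

omit [Fintype F] in
theorem smul_def' {n : ℕ} (g : ↥(Cfsg.GU n F q)) (v : Fin n → F) :
    g • v = ((g : Matrix.GeneralLinearGroup (Fin n) F) : Matrix (Fin n) (Fin n) F) *ᵥ v := rfl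

omit [Fintype F] in
theorem hermForm_smul {n : ℕ} (g : ↥(Cfsg.GU n F q)) (u v : Fin n → F) :
    hermForm n F q (g • u) (g • v) = hermForm n F q u v := g.2 u v

/-- the first standard basis vector -/
abbrev e0 (F : Type*) [Field F] (l : ℕ) : Fin (1 + l) → F :=
  Pi.single (finSumFinEquiv (m := 1) (n := l) (Sum.inl 0)) 1

omit [Fintype F] in
theorem hermForm_e0 (l : ℕ) : hermForm (1 + l) F q (e0 F l) (e0 F l) = 1 := by
  unfold e0
  rw [hermForm_single_left, Pi.single_apply, if_pos rfl, one_pow]

include hF in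
theorem orbit_eq (l : ℕ) :
    MulAction.orbit ↥(Cfsg.GU (1 + l) F q) (e0 F l) = {v | hermForm (1 + l) F q v v = 1} := by
  ext v
  constructor
  · rintro ⟨g, rfl⟩
    show hermForm (1 + l) F q (g • e0 F l) (g • e0 F l) = 1
    rw [hermForm_smul, hermForm_e0]
  · intro hv
    have hv' : hermForm (1 + l) F q v v = 1 := hv
    have hv0 : v ≠ 0 := by
      rintro rfl
      rw [hermForm_zero_left] at hv'
      exact zero_ne_one hv'
    have he0 : e0 F l ≠ 0 := by
      intro h
      have := hermForm_e0 (F := F) (q := q) l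
      rw [h, hermForm_zero_left] at this
      exact zero_ne_one this
    obtain ⟨g, hg, hgx⟩ := HermWitt.witt_family (B := hermSesq hF (1 + l)) (sigma_ne_id hF)
      (sigma_sigma hF) (hermSesq_nondegenerate hF (1 + l)) (hermSesq_isSymm hF (1 + l)) 1
      (fun _ => e0 F l) (fun _ => v) (linearIndependent_unique_iff.mpr he0)
      (linearIndependent_unique_iff.mpr hv0) (fun i j => by
        rw [hermSesq_apply, hermSesq_apply, hermForm_e0, hv'])
    obtain ⟨A, hA⟩ := exists_GU_of_isometry (1 + l) g (fun u w => by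
      have := hg w u
      rw [hermSesq_apply, hermSesq_apply] at this
      exact this)
    refine ⟨A, ?_⟩
    show A • e0 F l = v
    rw [smul_def', hA, hgx 0]

/-- the embedding of `GU_l` onto the stabiliser of the first basis vector -/
noncomputable def toStab (l : ℕ) (S : ↥(Cfsg.GU l F q)) :
    ↥(MulAction.stabilizer ↥(Cfsg.GU (1 + l) F q) (e0 F l)) :=
  ⟨⟨blockGL 1 l (1, S.1), blockGL_mem_GU hF 1 l _ (Subgroup.one_mem _) S.2⟩, by
    rw [MulAction.mem_stabilizer_iff, smul_def']
    show HermBlock.blockDiag 1 l (1 : Matrix (Fin 1) (Fin 1) F) S.1.val *ᵥ e0 F l = e0 F l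
    unfold e0
    rw [mulVec_single_one]
    ext i
    obtain ⟨i', rfl⟩ := (finSumFinEquiv (m := 1) (n := l)).surjective i
    show HermBlock.blockDiag 1 l (1 : Matrix (Fin 1) (Fin 1) F) S.1.val (finSumFinEquiv i')
      (finSumFinEquiv (Sum.inl 0)) = _
    unfold HermBlock.blockDiag
    rw [submatrix_apply, Equiv.symm_apply_apply, Equiv.symm_apply_apply, Pi.single_apply]
    rcases i' with i' | i'
    · rw [fromBlocks_apply₁₁, Matrix.one_apply]
      simp
    · rw [fromBlocks_apply₂₁, if_neg]
      · rfl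
      · intro h
        have := congrArg (finSumFinEquiv (m := 1) (n := l)).symm h
        simp at this⟩

theorem toStab_injective (l : ℕ) : Function.Injective (toStab hF l) := by
  intro S S' h
  have h1 : HermBlock.blockDiag 1 l (1 : Matrix (Fin 1) (Fin 1) F) S.1.val =
      HermBlock.blockDiag 1 l (1 : Matrix (Fin 1) (Fin 1) F) S'.1.val :=
    congrArg (fun x : ↥(MulAction.stabilizer ↥(Cfsg.GU (1 + l) F q) (e0 F l)) =>
      ((x.1.1 : Matrix.GeneralLinearGroup (Fin (1 + l)) F) : Matrix (Fin (1 + l)) (Fin (1 + l)) F)) h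
  exact Subtype.ext (Units.ext (blockDiag_injective 1 l _ _ _ _ h1).2)

theorem toStab_surjective (l : ℕ) : Function.Surjective (toStab hF l) := by
  intro g
  have hg := g.2
  rw [MulAction.mem_stabilizer_iff, smul_def'] at hg
  have hcol : ∀ a : Fin (1 + l), (g.1.1 : Matrix (Fin (1 + l)) (Fin (1 + l)) F) a
      (finSumFinEquiv (m := 1) (n := l) (Sum.inl 0)) = e0 F l a := by
    intro a
    have := congrFun hg a
    unfold e0 at this
    rw [mulVec_single_one] at this
    exact this
  have hzero : (finSumFinEquiv (m := 1) (n := l) (Sum.inl 0) : Fin (1 + l)) = ⟨0, by omega⟩ := by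
    apply Fin.ext; simp
  have hgP : g.1.1 ∈ P F (1 + l) 1 := by
    rw [mem_P_iff]
    intro a b ha hb
    have hb' : b = finSumFinEquiv (m := 1) (n := l) (Sum.inl 0) := by
      rw [hzero]; apply Fin.ext
      show (b : ℕ) = 0
      omega
    rw [hb', hcol]
    unfold e0
    rw [Pi.single_apply, if_neg]
    intro h
    rw [h, hzero] at ha
    have : ((⟨0, by omega⟩ : Fin (1 + l)) : ℕ) = 0 := rfl
    omega
  obtain ⟨⟨P₁, S⟩, hPS⟩ := psi_surjective hF 1 l ⟨g.1, Subgroup.mem_subgroupOf.mpr hgP⟩
  have hval : HermBlock.blockDiag 1 l P₁.1.val S.1.val =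
      (g.1.1 : Matrix (Fin (1 + l)) (Fin (1 + l)) F) :=
    congrArg (fun x : ↥((P F (1 + l) 1).subgroupOf (Cfsg.GU (1 + l) F q)) =>
      ((x.1.1 : Matrix.GeneralLinearGroup (Fin (1 + l)) F) : Matrix (Fin (1 + l)) (Fin (1 + l)) F)) hPS
  have hP1 : P₁.1.val = 1 := by
    ext i j
    have hi : i = 0 := Subsingleton.elim _ _
    have hj : j = 0 := Subsingleton.elim _ _
    subst hi hj
    have h1 := hcol (finSumFinEquiv (m := 1) (n := l) (Sum.inl 0))
    rw [← hval] at h1
    unfold HermBlock.blockDiag e0 at h1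
    rw [submatrix_apply, Equiv.symm_apply_apply, fromBlocks_apply₁₁, Pi.single_apply, if_pos rfl] at h1
    rw [h1, Matrix.one_apply, if_pos rfl]
  refine ⟨S, ?_⟩
  apply Subtype.ext
  apply Subtype.ext
  apply Units.ext
  show HermBlock.blockDiag 1 l (1 : Matrix (Fin 1) (Fin 1) F) S.1.val = _
  rw [← hval, hP1]

include hF in
theorem card_succ (l : ℕ) :
    Nat.card ↥(Cfsg.GU (1 + l) F q) = A F q (1 + l) 1 * Nat.card ↥(Cfsg.GU l F q) := by
  rw [SympFrames.card_group_eq (G := ↥(Cfsg.GU (1 + l) F q)) (e0 F l), orbit_eq hF,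
    ← Nat.card_congr (Equiv.ofBijective (toStab hF l) ⟨toStab_injective hF l, toStab_surjective hF l⟩)]
  rfl

end action

section closed
variable {F : Type*} [Field F] [Fintype F] {q : ℕ} (hF : Fintype.card F = q ^ 2)

theorem tri_succ' (n : ℕ) : (n + 1) * (n + 1 - 1) / 2 = n * (n - 1) / 2 + n := by
  rcases n with _ | k
  · simp
  · have : (k + 1 + 1) * (k + 1 + 1 - 1) = (k + 1) * (k + 1 - 1) + 2 * (k + 1) := by
      simp only [Nat.add_sub_cancel]; ring
    rw [this, Nat.add_mul_div_left _ _ (by norm_num : 0 < 2)]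

include hF in
theorem card_GU (n : ℕ) :
    Nat.card ↥(Cfsg.GU n F q) = q ^ (n * (n - 1) / 2) *
      ∏ i ∈ Finset.range n, (if Even i then q ^ (i + 1) + 1 else q ^ (i + 1) - 1) := by
  induction n with
  | zero =>
    rw [Finset.range_zero, Finset.prod_empty]
    have : Subsingleton ↥(Cfsg.GU 0 F q) :=
      ⟨fun a b => Subtype.ext (Units.ext (Matrix.ext fun i => i.elim0))⟩
    simp
  | succ n ih =>
    have h := card_succ hF n
    rw [A_one hF, ih] at h
    rw [show 1 + n = n + 1 from by omega] at h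
    rw [h, Finset.prod_range_succ, tri_succ', Nat.add_sub_cancel, pow_add]
    by_cases he : Even n
    · rw [if_pos he, if_neg (by rw [Nat.even_add_one]; exact not_not.mpr he)]
      ring
    · rw [if_neg he, if_pos (by rw [Nat.even_add_one]; exact he)]
      ring

end closed

section det
variable {F : Type*} [Field F] [Fintype F] {q : ℕ} (hF : Fintype.card F = q ^ 2)

/-- the determinant on `GU` -/
noncomputable def detGU (F : Type*) [Field F] (q n : ℕ) : ↥(Cfsg.GU n F q) →* Fˣ :=
  Matrix.GeneralLinearGroup.det.comp (Cfsg.GU n F q).subtype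

omit [Fintype F] in
theorem detGU_val {n : ℕ} (g : ↥(Cfsg.GU n F q)) :
    ((detGU F q n g : Fˣ) : F) =
      ((g : Matrix.GeneralLinearGroup (Fin n) F) : Matrix (Fin n) (Fin n) F).det := rfl

include hF in
theorem detGU_mem_ker {n : ℕ} (g : ↥(Cfsg.GU n F q)) : detGU F q n g ∈ (normHom F q).ker := by
  rw [MonoidHom.mem_ker]
  apply Units.ext
  show ((detGU F q n g : Fˣ) : F) ^ (q + 1) = 1
  rw [detGU_val]
  have h := (mem_GU_iff hF g.1).mp g.2
  have h2 := congrArg Matrix.det h
  rw [Matrix.det_mul, Matrix.det_transpose, Matrix.det_one] at h2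
  have h3 : (((g : Matrix.GeneralLinearGroup (Fin n) F) : Matrix (Fin n) (Fin n) F).map (· ^ q)).det =
      (((g : Matrix.GeneralLinearGroup (Fin n) F) : Matrix (Fin n) (Fin n) F).det) ^ q := by
    have := RingHom.map_det (sigma hF) ((g : Matrix.GeneralLinearGroup (Fin n) F) : Matrix (Fin n) (Fin n) F)
    rw [sigma_apply] at this
    rw [this]
    rfl
  rw [h3] at h2
  rw [pow_succ', h2]

include hF in
/-- a diagonal element of `GU` with prescribed determinant -/
theorem exists_detGU_eq {n : ℕ} (hn : 1 ≤ n) (x : Fˣ) (hx : x ∈ (normHom F q).ker) :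
    ∃ g : ↥(Cfsg.GU n F q), detGU F q n g = x := by
  classical
  have hx' : (x : F) ^ (q + 1) = 1 := by
    rw [MonoidHom.mem_ker] at hx
    have h3 : x ^ (q + 1) = 1 := hx
    have h2 : ((x ^ (q + 1) : Fˣ) : F) = 1 := by rw [h3]; rfl
    rw [Units.val_pow_eq_pow_val] at h2
    exact h2
  let i₀ : Fin n := ⟨0, by omega⟩
  let d : Fin n → F := Function.update (fun _ => (1 : F)) i₀ (x : F)
  have hd : ∀ i, d i * d i ^ q = 1 := by
    intro i
    by_cases hi : i = i₀
    · rw [hi]
      simp only [d, Function.update_self]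
      rw [← pow_succ']; exact hx'
    · simp only [d, Function.update_of_ne hi]
      rw [one_pow, one_mul]
  have hdet : (Matrix.diagonal d).det = (x : F) := by
    rw [Matrix.det_diagonal]
    simp only [d]
    rw [Finset.prod_update_of_mem (Finset.mem_univ _)]
    simp
  have hdet0 : (Matrix.diagonal d).det ≠ 0 := by
    rw [hdet]; exact x.ne_zero
  let g : Matrix.GeneralLinearGroup (Fin n) F := Matrix.GeneralLinearGroup.mkOfDetNeZero _ hdet0
  have hg : g ∈ Cfsg.GU n F q := by
    rw [mem_GU_iff hF]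
    show (Matrix.diagonal d)ᵀ * (Matrix.diagonal d).map (· ^ q) = 1
    rw [Matrix.diagonal_transpose, Matrix.diagonal_map (by
      show (0 : F) ^ q = 0
      exact zero_pow (q_ne_zero hF)), Matrix.diagonal_mul_diagonal]
    rw [← Matrix.diagonal_one]
    congr 1
    funext i
    exact hd i
  refine ⟨⟨g, hg⟩, ?_⟩
  apply Units.ext
  rw [detGU_val]
  exact hdet

include hF in
theorem range_detGU {n : ℕ} (hn : 1 ≤ n) : (detGU F q n).range = (normHom F q).ker := by
  ext x
  constructor
  · rintro ⟨g, rfl⟩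
    exact detGU_mem_ker hF g
  · intro hx
    exact exists_detGU_eq hF hn x hx

/-- the kernel of the determinant on `GU` is `SU` -/
noncomputable def kerEquivSU (n : ℕ) : ↥(detGU F q n).ker ≃ ↥(Cfsg.SU n F q) where
  toFun g := ⟨⟨((g.1 : Matrix.GeneralLinearGroup (Fin n) F) : Matrix (Fin n) (Fin n) F), by
      have := g.2
      rw [MonoidHom.mem_ker] at this
      have h2 := congrArg Units.val this
      rw [detGU_val] at h2
      exact h2⟩, fun u v => g.1.2 u v⟩
  invFun A := ⟨⟨Matrix.SpecialLinearGroup.toGL A.1, fun u v => A.2 u v⟩, by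
      rw [MonoidHom.mem_ker]
      apply Units.ext
      rw [detGU_val]
      exact A.1.2⟩
  left_inv g := by
    apply Subtype.ext
    apply Subtype.ext
    apply Units.ext
    rfl
  right_inv A := by
    apply Subtype.ext
    apply Subtype.ext
    rfl

include hF in
theorem card_SU (n : ℕ) (hn : 1 ≤ n) :
    (q + 1) * Nat.card ↥(Cfsg.SU n F q) = Nat.card ↥(Cfsg.GU n F q) := by
  rw [← Subgroup.card_mul_index (detGU F q n).ker, Subgroup.index_ker, range_detGU hF hn,
    card_ker hF, Nat.card_congr (kerEquivSU n), mul_comm]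

end det

end Cfsg.Agent.Lib.Helper5.HermCard
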