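import Mathlib

set_option autoImplicit false

namespace Cfsg.Agent.Lib.Helper5.SubspaceFrames

section
variable {F V : Type*} [Field F] [Fintype F] [AddCommGroup V] [Module F V] [Finite V]

/-- the subspace spanned by a frame -/
noncomputable def spanMap (k : ℕ) (Pw : Submodule F V → Prop) :
    {s : Fin k → V // LinearIndependent F s ∧ Pw (Submodule.span F (Set.range s))} →
      {W : Submodule F V // Module.finrank F W = k ∧ Pw W} :=
  fun s => ⟨Submodule.span F (Set.range s.1), by
    rw [finrank_span_eq_card s.2.1, Fintype.card_fin], s.2.2⟩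

/-- the fibre of `spanMap` over `W` is the set of bases of `W` -/
noncomputable def fiberEquiv (k : ℕ) (Pw : Submodule F V → Prop)
    (W : {W : Submodule F V // Module.finrank F W = k ∧ Pw W}) :
    {x : {s : Fin k → V // LinearIndependent F s ∧ Pw (Submodule.span F (Set.range s))} //
      spanMap k Pw x = W} ≃ {s : Fin k → W.1 // LinearIndependent F s} where
  toFun x := ⟨fun i => ⟨x.1.1 i, by
      have h : Submodule.span F (Set.range x.1.1) = W.1 := congrArg Subtype.val x.2
      rw [← h]
      exact Submodule.subset_span ⟨i, rfl⟩⟩, by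
      apply LinearIndependent.of_comp W.1.subtype
      exact x.1.2.1⟩
  invFun s :=
    have hLI : LinearIndependent F (fun i => (s.1 i : V)) :=
      s.2.map' W.1.subtype (Submodule.ker_subtype W.1)
    have hspan : Submodule.span F (Set.range (fun i => (s.1 i : V))) = W.1 := by
      apply Submodule.eq_of_le_of_finrank_eq
      · rw [Submodule.span_le]
        rintro _ ⟨i, rfl⟩
        exact (s.1 i).2
      · rw [finrank_span_eq_card hLI, Fintype.card_fin, W.2.1]
    ⟨⟨fun i => (s.1 i : V), hLI, by rw [hspan]; exact W.2.2⟩, Subtype.ext hspan⟩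
  left_inv x := rfl
  right_inv s := rfl

/-- double counting frames and subspaces -/
theorem card_frames_eq (k : ℕ) (Pw : Submodule F V → Prop) :
    Nat.card {s : Fin k → V // LinearIndependent F s ∧ Pw (Submodule.span F (Set.range s))} =
      Nat.card {W : Submodule F V // Module.finrank F W = k ∧ Pw W} *
        ∏ i : Fin k, (Fintype.card F ^ k - Fintype.card F ^ (i : ℕ)) := by
  classical
  have : Fintype {W : Submodule F V // Module.finrank F W = k ∧ Pw W} := Fintype.ofFinite _
  rw [Nat.card_congr (Equiv.sigmaFiberEquiv (spanMap k Pw)).symm, Nat.card_sigma]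
  have h : ∀ W : {W : Submodule F V // Module.finrank F W = k ∧ Pw W},
      Nat.card {x : {s : Fin k → V // LinearIndependent F s ∧ Pw (Submodule.span F (Set.range s))} //
        spanMap k Pw x = W} = ∏ i : Fin k, (Fintype.card F ^ k - Fintype.card F ^ (i : ℕ)) := by
    intro W
    rw [Nat.card_congr (fiberEquiv k Pw W)]
    have h2 := card_linearIndependent (K := F) (V := W.1) (k := k) (by rw [W.2.1])
    rw [W.2.1] at h2
    exact h2
  simp only [h]
  rw [Finset.sum_const, Finset.card_univ, smul_eq_mul, Nat.card_eq_fintype_card]

end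

end Cfsg.Agent.Lib.Helper5.SubspaceFrames
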