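import Mathlib
import Cfsg.Prelude.Def_ClassicalGeometry
import Cfsg.Prelude.Def_LieClassical
import Cfsg.Agent.Lib.Helper5.Herm
import Cfsg.Agent.Lib.Helper5.HermWitt
import Cfsg.Agent.Lib.Helper5.HermBridge
import Cfsg.Agent.Lib.Helper5.HermCount
import Cfsg.Agent.Lib.Helper5.SubspaceFrames

set_option autoImplicit false
open Cfsg

namespace Cfsg.Agent.Lib.Helper5.HermFrames

open Matrix Cfsg.Agent.Lib.Helper5.Herm Cfsg.Agent.Lib.Helper5.HermBridge
  Cfsg.Agent.Lib.Helper5.HermCount

section std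
variable {F : Type*} [Field F] [Fintype F] {q : ℕ} (hF : Fintype.card F = q ^ 2)

/-- the standard isotropic vector `(1, ζ, 0, ..., 0)` -/
def v0 (r : ℕ) (z : F) : Fin (r + 2) → F := Fin.cons 1 (Fin.cons z 0)

/-- isotropic vectors orthogonal to a given vector -/
abbrev Perp (F : Type*) [Field F] (q n : ℕ) (v : Fin n → F) : Type _ :=
  {w : Fin n → F // hermForm n F q w v = 0 ∧ hermForm n F q w w = 0}

omit [Fintype F] in
theorem hermForm_succ (n : ℕ) (u v : Fin (n + 1) → F) :
    hermForm (n + 1) F q u v = u 0 * v 0 ^ q + hermForm n F q (Fin.tail u) (Fin.tail v) := by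
  unfold hermForm
  rw [Fin.sum_univ_succ]
  rfl

include hF in
/-- parametrisation of the isotropic vectors orthogonal to the standard isotropic vector -/
noncomputable def perpEquiv (r : ℕ) (z : F) (hz : z ^ (q + 1) = -1) :
    Perp F q (r + 2) (v0 r z) ≃ F × {y : Fin r → F // hermForm r F q y y = 0} where
  toFun w := (w.1 1, ⟨Fin.tail (Fin.tail w.1), by
    have h1 := w.2.1
    have h2 := w.2.2
    rw [hermForm_succ, hermForm_succ] at h1 h2
    unfold v0 at h1
    simp only [Fin.cons_zero, Fin.tail_cons, one_pow, mul_one] at h1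
    have h3 : hermForm r F q (Fin.tail (Fin.tail w.1)) (0 : Fin r → F) = 0 := hermForm_zero_right hF r _
    rw [h3, add_zero] at h1
    have h4 : Fin.tail w.1 0 = w.1 1 := rfl
    rw [h4] at h1 h2
    have h5 : w.1 0 = -(w.1 1 * z ^ q) := eq_neg_of_add_eq_zero_left h1
    rw [h5] at h2
    have h6 : (-(w.1 1 * z ^ q)) * (-(w.1 1 * z ^ q)) ^ q + w.1 1 * w.1 1 ^ q = 0 := by
      rw [pow_q_neg hF, mul_pow, pow_q_pow_q hF]
      have : z ^ q * z = -1 := by rw [← pow_succ]; exact hz
      linear_combination (w.1 1 * w.1 1 ^ q) * this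
    rw [← add_assoc, h6, zero_add] at h2
    exact h2⟩)
  invFun p := ⟨Fin.cons (-(p.1 * z ^ q)) (Fin.cons p.1 p.2.1), by
    constructor
    · rw [hermForm_succ, hermForm_succ]
      unfold v0
      simp only [Fin.cons_zero, Fin.tail_cons, one_pow, mul_one]
      have h3 : hermForm r F q p.2.1 (0 : Fin r → F) = 0 := hermForm_zero_right hF r _
      rw [h3]
      ring
    · rw [hermForm_succ, hermForm_succ]
      simp only [Fin.cons_zero, Fin.tail_cons]
      rw [p.2.2, pow_q_neg hF, mul_pow, pow_q_pow_q hF]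
      have : z ^ q * z = -1 := by rw [← pow_succ]; exact hz
      linear_combination (p.1 * p.1 ^ q) * this⟩
  left_inv w := by
    apply Subtype.ext
    have h1 := w.2.1
    rw [hermForm_succ, hermForm_succ] at h1
    unfold v0 at h1
    simp only [Fin.cons_zero, Fin.tail_cons, one_pow, mul_one] at h1
    have h3 : hermForm r F q (Fin.tail (Fin.tail w.1)) (0 : Fin r → F) = 0 := hermForm_zero_right hF r _
    rw [h3, add_zero] at h1
    have h4 : Fin.tail w.1 0 = w.1 1 := rfl
    rw [h4] at h1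
    have h5 : w.1 0 = -(w.1 1 * z ^ q) := eq_neg_of_add_eq_zero_left h1
    show (Fin.cons (-(w.1 1 * z ^ q)) (Fin.cons (w.1 1) (Fin.tail (Fin.tail w.1))) : Fin (r + 2) → F) = w.1
    rw [← h5]
    have h7 : (Fin.cons (w.1 1) (Fin.tail (Fin.tail w.1)) : Fin (r + 1) → F) = Fin.tail w.1 := by
      rw [← h4, Fin.cons_self_tail]
    rw [h7, Fin.cons_self_tail]
  right_inv p := by
    apply Prod.ext
    · rfl
    · apply Subtype.ext
      show Fin.tail (Fin.tail (Fin.cons (-(p.1 * z ^ q)) (Fin.cons p.1 p.2.1) : Fin (r + 2) → F)) = p.2.1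
      rw [Fin.tail_cons, Fin.tail_cons]

include hF in
theorem card_perp_v0 (r : ℕ) (z : F) (hz : z ^ (q + 1) = -1) :
    Nat.card (Perp F q (r + 2) (v0 r z)) = q ^ 2 * A F q r 0 := by
  rw [Nat.card_congr (perpEquiv hF r z hz), Nat.card_prod, Nat.card_eq_fintype_card, hF]
  rfl

end std

section transitive
variable {F : Type*} [Field F] [Fintype F] {q : ℕ} (hF : Fintype.card F = q ^ 2) (n : ℕ)

include hF in
/-- `GU` is transitive on nonzero isotropic vectors -/
theorem exists_GU_map (v v' : Fin n → F) (hv : v ≠ 0) (hv' : v' ≠ 0)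
    (h : hermForm n F q v v = 0) (h' : hermForm n F q v' v' = 0) :
    ∃ A : ↥(Cfsg.GU n F q),
      ((A : Matrix.GeneralLinearGroup (Fin n) F) : Matrix (Fin n) (Fin n) F) *ᵥ v = v' := by
  obtain ⟨g, hg, hgx⟩ := HermWitt.witt_family (B := hermSesq hF n) (sigma_ne_id hF)
    (sigma_sigma hF) (hermSesq_nondegenerate hF n) (hermSesq_isSymm hF n) 1
    (fun _ => v) (fun _ => v') (linearIndependent_unique_iff.mpr hv)
    (linearIndependent_unique_iff.mpr hv') (fun i j => by
      rw [hermSesq_apply, hermSesq_apply, h, h'])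
  obtain ⟨A, hA⟩ := exists_GU_of_isometry n g (fun u w => by
    have := hg w u
    rw [hermSesq_apply, hermSesq_apply] at this
    exact this)
  exact ⟨A, by rw [hA, hgx 0]⟩

omit [Fintype F] in
theorem GU_inv_mulVec (A : ↥(Cfsg.GU n F q)) (w : Fin n → F) :
    ((A⁻¹ : ↥(Cfsg.GU n F q)).1 : Matrix (Fin n) (Fin n) F) *ᵥ
      (((A : Matrix.GeneralLinearGroup (Fin n) F) : Matrix (Fin n) (Fin n) F) *ᵥ w) = w := by
  rw [mulVec_mulVec]
  have : (A⁻¹ * A : ↥(Cfsg.GU n F q)) = 1 := inv_mul_cancel A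
  have h2 := congrArg (fun x : ↥(Cfsg.GU n F q) =>
    ((x.1 : Matrix.GeneralLinearGroup (Fin n) F) : Matrix (Fin n) (Fin n) F)) this
  have h3 : ((A⁻¹ : ↥(Cfsg.GU n F q)).1 : Matrix (Fin n) (Fin n) F) *
      ((A : Matrix.GeneralLinearGroup (Fin n) F) : Matrix (Fin n) (Fin n) F) = 1 := h2
  rw [h3, one_mulVec]

omit [Fintype F] in
theorem GU_mulVec_inv (A : ↥(Cfsg.GU n F q)) (w : Fin n → F) :
    ((A : Matrix.GeneralLinearGroup (Fin n) F) : Matrix (Fin n) (Fin n) F) *ᵥ
      (((A⁻¹ : ↥(Cfsg.GU n F q)).1 : Matrix (Fin n) (Fin n) F) *ᵥ w) = w := by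
  have := GU_inv_mulVec n A⁻¹ w
  rw [inv_inv] at this
  exact this

omit [Fintype F] in
/-- the perp-count is invariant under `GU` -/
theorem card_perp_smul (A : ↥(Cfsg.GU n F q)) (v : Fin n → F) :
    Nat.card (Perp F q n
      (((A : Matrix.GeneralLinearGroup (Fin n) F) : Matrix (Fin n) (Fin n) F) *ᵥ v)) =
      Nat.card (Perp F q n v) := by
  apply Nat.card_congr
  exact
    { toFun := fun w => ⟨((A⁻¹ : ↥(Cfsg.GU n F q)).1 : Matrix (Fin n) (Fin n) F) *ᵥ w.1, by
        constructor
        · have := (A⁻¹).2 w.1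
            (((A : Matrix.GeneralLinearGroup (Fin n) F) : Matrix (Fin n) (Fin n) F) *ᵥ v)
          change hermForm n F q _ (((A⁻¹ : ↥(Cfsg.GU n F q)).1 : Matrix (Fin n) (Fin n) F) *ᵥ _) = _ at this
          rw [GU_inv_mulVec] at this
          exact this.trans w.2.1
        · have := (A⁻¹).2 w.1 w.1
          change hermForm n F q (((A⁻¹ : ↥(Cfsg.GU n F q)).1 : Matrix (Fin n) (Fin n) F) *ᵥ _)
            (((A⁻¹ : ↥(Cfsg.GU n F q)).1 : Matrix (Fin n) (Fin n) F) *ᵥ _) = _ at this
          exact this.trans w.2.2⟩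
      invFun := fun w =>
        ⟨((A : Matrix.GeneralLinearGroup (Fin n) F) : Matrix (Fin n) (Fin n) F) *ᵥ w.1, by
        constructor
        · have := A.2 w.1 v
          change hermForm n F q (((A : Matrix.GeneralLinearGroup (Fin n) F) :
            Matrix (Fin n) (Fin n) F) *ᵥ _) (((A : Matrix.GeneralLinearGroup (Fin n) F) :
            Matrix (Fin n) (Fin n) F) *ᵥ _) = _ at this
          exact this.trans w.2.1
        · have := A.2 w.1 w.1
          change hermForm n F q (((A : Matrix.GeneralLinearGroup (Fin n) F) :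
            Matrix (Fin n) (Fin n) F) *ᵥ _) (((A : Matrix.GeneralLinearGroup (Fin n) F) :
            Matrix (Fin n) (Fin n) F) *ᵥ _) = _ at this
          exact this.trans w.2.2⟩
      left_inv := fun w => Subtype.ext (GU_mulVec_inv n A w.1)
      right_inv := fun w => Subtype.ext (GU_inv_mulVec n A w.1) }

end transitive

section frames
variable {F : Type*} [Field F] [Fintype F] {q : ℕ} (hF : Fintype.card F = q ^ 2)

include hF in
theorem v0_isotropic (r : ℕ) (z : F) (hz : z ^ (q + 1) = -1) :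
    hermForm (r + 2) F q (v0 r z) (v0 r z) = 0 := by
  rw [hermForm_succ, hermForm_succ]
  unfold v0
  simp only [Fin.cons_zero, Fin.tail_cons, one_pow, mul_one]
  have h3 : hermForm r F q (0 : Fin r → F) (0 : Fin r → F) = 0 := hermForm_zero_right hF r _
  rw [h3, add_zero, ← pow_succ', hz]
  ring

omit [Fintype F] in
theorem v0_ne_zero (r : ℕ) (z : F) : v0 r z ≠ 0 := by
  intro h
  have := congrFun h 0
  unfold v0 at this
  simp at this

include hF in
/-- the perp-count of any nonzero isotropic vector -/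
theorem card_perp (r : ℕ) (v : Fin (r + 2) → F) (hv : v ≠ 0) (h : hermForm (r + 2) F q v v = 0) :
    Nat.card (Perp F q (r + 2) v) = q ^ 2 * A F q r 0 := by
  obtain ⟨z, hz⟩ := exists_norm_eq hF (-1 : F) (neg_ne_zero.mpr one_ne_zero) (pow_q_neg_one hF)
  obtain ⟨A, hA⟩ := exists_GU_map hF (r + 2) (v0 r z) v (v0_ne_zero r z) hv
    (v0_isotropic hF r z hz) h
  rw [← hA, card_perp_smul, card_perp_v0 hF r z hz]

end frames

section frames2
variable {F : Type*} [Field F] [Fintype F] {q : ℕ} (hF : Fintype.card F = q ^ 2) (n : ℕ)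

/-- totally isotropic subspaces -/
def Pw (F : Type*) [Field F] (q n : ℕ) (W : Submodule F (Fin n → F)) : Prop :=
  ∀ u ∈ W, ∀ v ∈ W, hermForm n F q u v = 0

include hF in
/-- the span of pairwise orthogonal isotropic vectors is totally isotropic -/
theorem span_isotropic {k : ℕ} (s : Fin k → (Fin n → F))
    (h : ∀ i j, hermForm n F q (s i) (s j) = 0) : Pw F q n (Submodule.span F (Set.range s)) := by
  intro u hu v hv
  have h1 : ∀ i, hermForm n F q (s i) v = 0 := by
    intro i
    induction hv using Submodule.span_induction with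
    | mem x hx =>
      obtain ⟨j, rfl⟩ := hx
      exact h i j
    | zero => exact hermForm_zero_right hF n _
    | add x y _ _ hx hy => rw [hermForm_add_right hF, hx, hy, add_zero]
    | smul a x _ hx => rw [hermForm_smul_right, hx, mul_zero]
  induction hu using Submodule.span_induction with
  | mem x hx =>
    obtain ⟨i, rfl⟩ := hx
    exact h1 i
  | zero => exact hermForm_zero_left n q _
  | add x y _ _ hx hy => rw [hermForm_add_left, hx, hy, add_zero]
  | smul a x _ hx => rw [hermForm_smul_left, hx, mul_zero]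

abbrev Frames2 (F : Type*) [Field F] (q n : ℕ) : Type _ :=
  {s : Fin 2 → (Fin n → F) // LinearIndependent F s ∧ Pw F q n (Submodule.span F (Set.range s))}

abbrev Iso (F : Type*) [Field F] (q n : ℕ) : Type _ :=
  {v : Fin n → F // v ≠ 0 ∧ hermForm n F q v v = 0}

theorem card_Iso : Nat.card (Iso F q n) + 1 = A F q n 0 := by
  unfold A
  have h0 : Nat.card (Iso F q n) = ({v : Fin n → F | v ≠ 0 ∧ hermForm n F q v v = 0}).ncard := rfl
  have h1 : Nat.card {v : Fin n → F // hermForm n F q v v = 0} =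
      ({v : Fin n → F | hermForm n F q v v = 0}).ncard := rfl
  have hset : {v : Fin n → F | hermForm n F q v v = 0} =
      insert 0 {v : Fin n → F | v ≠ 0 ∧ hermForm n F q v v = 0} := by
    ext v
    simp only [Set.mem_ofPred_eq, Set.mem_insert_iff]
    constructor
    · intro h
      by_cases hv : v = 0
      · left; exact hv
      · right; exact ⟨hv, h⟩
    · rintro (h | h)
      · rw [h]; exact hermForm_zero_left n q _
      · exact h.2
  rw [h0, h1, hset, Set.ncard_insert_of_notMem]
  intro h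
  exact h.1 rfl

/-- first vector of a frame -/
def firstVec : Frames2 F q n → Iso F q n := fun s =>
  ⟨s.1 0, s.2.1.ne_zero 0, s.2.2 _ (Submodule.subset_span ⟨0, rfl⟩) _ (Submodule.subset_span ⟨0, rfl⟩)⟩

omit [Fintype F] in
theorem li_pair (v w : Fin n → F) (hv : v ≠ 0) (hw : w ∉ Submodule.span F {v}) :
    LinearIndependent F ![v, w] := by
  rw [LinearIndependent.pair_iff' hv]
  intro a ha
  exact hw (Submodule.mem_span_singleton.mpr ⟨a, ha⟩)

include hF in
/-- the fibre of `firstVec` -/
noncomputable def fiberEquiv2 (v : Iso F q n) :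
    {x : Frames2 F q n // firstVec n x = v} ≃
      {w : Perp F q n v.1 // w.1 ∉ Submodule.span F {v.1}} where
  toFun x := ⟨⟨x.1.1 1, by
      have hx : x.1.1 0 = v.1 := congrArg Subtype.val x.2
      rw [← hx]
      exact ⟨x.1.2.2 _ (Submodule.subset_span ⟨1, rfl⟩) _ (Submodule.subset_span ⟨0, rfl⟩),
        x.1.2.2 _ (Submodule.subset_span ⟨1, rfl⟩) _ (Submodule.subset_span ⟨1, rfl⟩)⟩⟩, by
      have hx : x.1.1 0 = v.1 := congrArg Subtype.val x.2
      show x.1.1 1 ∉ Submodule.span F {v.1}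
      rw [← hx]
      intro hmem
      obtain ⟨a, ha⟩ := Submodule.mem_span_singleton.mp hmem
      have hli := x.1.2.1
      have h2 : x.1.1 = ![x.1.1 0, x.1.1 1] := by
        funext i; fin_cases i <;> rfl
      rw [h2, LinearIndependent.pair_iff' (x.1.2.1.ne_zero 0)] at hli
      exact hli a ha⟩
  invFun w := ⟨⟨![v.1, w.1.1], li_pair n v.1 w.1.1 v.2.1 w.2, by
      apply span_isotropic hF
      intro i j
      fin_cases i <;> fin_cases j
      · exact v.2.2
      · show hermForm n F q v.1 w.1.1 = 0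
        rw [← hermForm_conj hF, w.1.2.1, zero_pow (q_ne_zero hF)]
      · exact w.1.2.1
      · exact w.1.2.2⟩, Subtype.ext rfl⟩
  left_inv x := by
    apply Subtype.ext
    apply Subtype.ext
    have hx : x.1.1 0 = v.1 := congrArg Subtype.val x.2
    show ![v.1, x.1.1 1] = x.1.1
    funext i
    fin_cases i
    · exact hx.symm
    · rfl
  right_inv w := rfl

end frames2

section total
variable {F : Type*} [Field F] [Fintype F] {q : ℕ} (hF : Fintype.card F = q ^ 2)

include hF in
theorem card_fiber2 (r : ℕ) (v : Iso F q (r + 2)) :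
    Nat.card {w : Perp F q (r + 2) v.1 // w.1 ∉ Submodule.span F {v.1}} =
      q ^ 2 * A F q r 0 - q ^ 2 := by
  have hsub : ((Submodule.span F {v.1} : Submodule F (Fin (r + 2) → F)) : Set (Fin (r + 2) → F)) ⊆
      {w : Fin (r + 2) → F | hermForm (r + 2) F q w v.1 = 0 ∧ hermForm (r + 2) F q w w = 0} := by
    intro w hw
    obtain ⟨a, rfl⟩ := Submodule.mem_span_singleton.mp hw
    constructor
    · show hermForm (r + 2) F q (a • v.1) v.1 = 0
      rw [hermForm_smul_left, v.2.2, mul_zero]
    · show hermForm (r + 2) F q (a • v.1) (a • v.1) = 0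
      rw [hermForm_smul_left, hermForm_smul_right, v.2.2, mul_zero, mul_zero]
  have h1 : Nat.card {w : Perp F q (r + 2) v.1 // w.1 ∉ Submodule.span F {v.1}} =
      ({w : Fin (r + 2) → F | hermForm (r + 2) F q w v.1 = 0 ∧ hermForm (r + 2) F q w w = 0} \
        ((Submodule.span F {v.1} : Submodule F (Fin (r + 2) → F)) : Set (Fin (r + 2) → F))).ncard := by
    rw [← Nat.card_coe_set_eq]
    apply Nat.card_congr
    exact
      { toFun := fun w => ⟨w.1.1, w.1.2, w.2⟩
        invFun := fun w => ⟨⟨w.1, w.2.1⟩, w.2.2⟩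
        left_inv := fun w => rfl
        right_inv := fun w => rfl }
  rw [h1, Set.ncard_sdiff hsub]
  have h2 : ({w : Fin (r + 2) → F | hermForm (r + 2) F q w v.1 = 0 ∧
      hermForm (r + 2) F q w w = 0}).ncard = Nat.card (Perp F q (r + 2) v.1) := rfl
  have h3 : ((Submodule.span F {v.1} : Submodule F (Fin (r + 2) → F)) :
      Set (Fin (r + 2) → F)).ncard = Nat.card (Submodule.span F {v.1}) := rfl
  rw [h2, h3, card_perp hF r v.1 v.2.1 v.2.2,
    Module.natCard_eq_pow_finrank (K := F) (V := Submodule.span F {v.1}),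
    finrank_span_singleton v.2.1, pow_one, Nat.card_eq_fintype_card, hF]

include hF in
/-- the number of isotropic 2-frames -/
theorem card_Frames2 (r : ℕ) :
    Nat.card (Frames2 F q (r + 2)) =
      (A F q (r + 2) 0 - 1) * (q ^ 2 * A F q r 0 - q ^ 2) := by
  classical
  have : Fintype (Iso F q (r + 2)) := Fintype.ofFinite _
  rw [Nat.card_congr (Equiv.sigmaFiberEquiv (firstVec (F := F) (q := q) (r + 2))).symm, Nat.card_sigma]
  have h : ∀ v : Iso F q (r + 2),
      Nat.card {x : Frames2 F q (r + 2) // firstVec (r + 2) x = v} = q ^ 2 * A F q r 0 - q ^ 2 :=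
    fun v => by rw [Nat.card_congr (fiberEquiv2 hF (r + 2) v), card_fiber2 hF r v]
  simp only [h]
  rw [Finset.sum_const, Finset.card_univ, smul_eq_mul, ← Nat.card_eq_fintype_card,
    ← card_Iso (F := F) (q := q) (r + 2), Nat.add_sub_cancel]

include hF in
/-- the number of totally isotropic 2-subspaces, times `|GL_2(q²)|` -/
theorem card_ti2_mul (r : ℕ) :
    Nat.card {W : Submodule F (Fin (r + 2) → F) // Module.finrank F W = 2 ∧
      ∀ u ∈ W, ∀ v ∈ W, hermForm (r + 2) F q u v = 0} *
      (((q ^ 2) ^ 2 - 1) * ((q ^ 2) ^ 2 - q ^ 2)) =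
      (A F q (r + 2) 0 - 1) * (q ^ 2 * A F q r 0 - q ^ 2) := by
  have h1 := SubspaceFrames.card_frames_eq (F := F) (V := Fin (r + 2) → F) 2 (Pw F q (r + 2))
  rw [Fin.prod_univ_two, hF] at h1
  simp only [Fin.val_zero, Fin.val_one, pow_zero, pow_one] at h1
  rw [← card_Frames2 hF r]
  exact h1.symm

end total

end Cfsg.Agent.Lib.Helper5.HermFrames
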