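import Mathlib
import Cfsg.Prelude
import Cfsg.Agent.Lib.Helper5.Herm
import Cfsg.Agent.Lib.Helper5.HermBlock
import Cfsg.Agent.Lib.Helper5.HermBridge
import Cfsg.Agent.Lib.Helper5.HermWitt
import Cfsg.Agent.Lib.Helper5.HermCount
import Cfsg.Agent.Lib.Helper5.HermCard
import Cfsg.Agent.Lib.Helper5.HermFrames

set_option autoImplicit false
set_option linter.unusedSectionVars false
set_option linter.unusedVariables false
set_option linter.unusedSimpArgs false
open Cfsg

/-! Unitary (quasi-)transvections `x ↦ x + c h(x,v) v` as elements of `GU_n(q)`, and the subgroup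
generated by the transvections. -/

namespace Cfsg.Agent.Lib.Helper5.HermTv

open Matrix Cfsg.Agent.Lib.Helper5.Herm Cfsg.Agent.Lib.Helper5.HermBlock
  Cfsg.Agent.Lib.Helper5.HermBridge Cfsg.Agent.Lib.Helper5.HermCount
  Cfsg.Agent.Lib.Helper5.HermCard Cfsg.Agent.Lib.Helper5.HermFrames

variable {F : Type*} [Field F] [Fintype F] {q : ℕ} (hF : Fintype.card F = q ^ 2) (n : ℕ)

/-- the action of `GU` on vectors -/
abbrev gact (g : ↥(Cfsg.GU n F q)) (x : Fin n → F) : Fin n → F :=
  ((g : Matrix.GeneralLinearGroup (Fin n) F) : Matrix (Fin n) (Fin n) F) *ᵥ x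

omit [Fintype F] in
theorem herm_gact (g : ↥(Cfsg.GU n F q)) (x y : Fin n → F) :
    hermForm n F q (gact n g x) (gact n g y) = hermForm n F q x y := g.2 x y

omit [Fintype F] in
theorem gact_mul (g h : ↥(Cfsg.GU n F q)) (x : Fin n → F) :
    gact n (g * h) x = gact n g (gact n h x) := by
  unfold gact
  rw [mulVec_mulVec]
  rfl

omit [Fintype F] in
theorem gact_one (x : Fin n → F) : gact n (1 : ↥(Cfsg.GU n F q)) x = x := one_mulVec x

omit [Fintype F] in
theorem gact_inv_gact (g : ↥(Cfsg.GU n F q)) (x : Fin n → F) : gact n g⁻¹ (gact n g x) = x := by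
  rw [← gact_mul, inv_mul_cancel, gact_one]

omit [Fintype F] in
theorem gact_gact_inv (g : ↥(Cfsg.GU n F q)) (x : Fin n → F) : gact n g (gact n g⁻¹ x) = x := by
  rw [← gact_mul, mul_inv_cancel, gact_one]

omit [Fintype F] in
theorem gact_add (g : ↥(Cfsg.GU n F q)) (x y : Fin n → F) :
    gact n g (x + y) = gact n g x + gact n g y := mulVec_add _ x y

omit [Fintype F] in
theorem gact_smul (g : ↥(Cfsg.GU n F q)) (a : F) (x : Fin n → F) :
    gact n g (a • x) = a • gact n g x := mulVec_smul _ a x

omit [Fintype F] in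
theorem herm_gact_inv_left (g : ↥(Cfsg.GU n F q)) (x y : Fin n → F) :
    hermForm n F q (gact n g⁻¹ x) y = hermForm n F q x (gact n g y) := by
  rw [← herm_gact n g, gact_gact_inv]

omit [Fintype F] in
theorem ext_gact {g h : ↥(Cfsg.GU n F q)} (H : ∀ x, gact n g x = gact n h x) : g = h := by
  apply Subtype.ext
  apply Units.ext
  rw [ext_iff_mulVec]
  exact H

/-- the condition for `x ↦ x + c h(x,v) v` to be an isometry -/
def QCond (q : ℕ) (v : Fin n → F) (c : F) : Prop := c + c ^ q + c * c ^ q * hermForm n F q v v = 0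

omit [Fintype F] in
theorem tv_mul (v : Fin n → F) (c d : F) :
    unitaryTransvection n q v c * unitaryTransvection n q v d =
      unitaryTransvection n q v (c + d + c * d * hermForm n F q v v) := by
  rw [ext_iff_mulVec]
  intro x
  rw [← mulVec_mulVec, unitaryTransvection_mulVec, unitaryTransvection_mulVec,
    unitaryTransvection_mulVec, hermForm_add_left, hermForm_smul_left]
  module

omit [Fintype F] in
theorem tv_zero (v : Fin n → F) : unitaryTransvection n q v 0 = 1 := by
  unfold unitaryTransvection
  simp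

include hF in
theorem qcond_conj {v : Fin n → F} {c : F} (hc : QCond n q v c) : QCond n q v (c ^ q) := by
  unfold QCond at hc ⊢
  rw [pow_q_pow_q hF]
  linear_combination hc

/-- a quasi-transvection as an element of `GU` -/
noncomputable def qtv (v : Fin n → F) (c : F) (hc : QCond n q v c) : ↥(Cfsg.GU n F q) :=
  ⟨⟨unitaryTransvection n q v c, unitaryTransvection n q v (c ^ q),
      by rw [tv_mul, show c + c ^ q + c * c ^ q * hermForm n F q v v = 0 from hc, tv_zero],
      by rw [tv_mul, show c ^ q + c + c ^ q * c * hermForm n F q v v = 0 by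
        unfold QCond at hc; linear_combination hc, tv_zero]⟩,
    by
      intro x y
      show hermForm n F q (unitaryTransvection n q v c *ᵥ x) (unitaryTransvection n q v c *ᵥ y) = _
      rw [hermForm_unitaryTransvection hF]
      unfold QCond at hc
      linear_combination (hermForm n F q x v * hermForm n F q v y) * hc⟩

theorem qtv_coe (v : Fin n → F) (c : F) (hc : QCond n q v c) :
    (((qtv hF n v c hc : ↥(Cfsg.GU n F q)) : Matrix.GeneralLinearGroup (Fin n) F) :
      Matrix (Fin n) (Fin n) F) = unitaryTransvection n q v c := rfl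

theorem gact_qtv (v : Fin n → F) (c : F) (hc : QCond n q v c) (x : Fin n → F) :
    gact n (qtv hF n v c hc) x = x + (c * hermForm n F q x v) • v :=
  unitaryTransvection_mulVec n q v c x

/-- conjugating a quasi-transvection -/
theorem conj_qtv (g : ↥(Cfsg.GU n F q)) (v : Fin n → F) (c : F) (hc : QCond n q v c) :
    g * qtv hF n v c hc * g⁻¹ =
      qtv hF n (gact n g v) c (by unfold QCond at hc ⊢; rw [herm_gact]; exact hc) := by
  apply ext_gact
  intro x
  rw [gact_mul, gact_mul, gact_qtv, gact_qtv, gact_add, gact_gact_inv, gact_smul,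
    herm_gact_inv_left]

theorem qtv_congr {v v' : Fin n → F} {c c' : F} (hv : v = v') (hcc : c = c')
    (hc : QCond n q v c) (hc' : QCond n q v' c') :
    qtv hF n v c hc = qtv hF n v' c' hc' := by
  subst hv; subst hcc; rfl

/-- rescaling the centre -/
theorem qtv_smul (a : F) (v : Fin n → F) (c : F) (hc : QCond n q (a • v) c)
    (hc' : QCond n q v (a ^ (q + 1) * c)) :
    qtv hF n (a • v) c hc = qtv hF n v (a ^ (q + 1) * c) hc' := by
  apply ext_gact
  intro x
  rw [gact_qtv, gact_qtv, hermForm_smul_right, smul_smul]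
  congr 2
  ring

theorem qtv_mul (v : Fin n → F) (c d : F) (hc : QCond n q v c) (hd : QCond n q v d)
    (hcd : QCond n q v (c + d + c * d * hermForm n F q v v)) :
    qtv hF n v c hc * qtv hF n v d hd = qtv hF n v _ hcd := by
  apply Subtype.ext
  apply Units.ext
  exact tv_mul n v c d

/-- for an isotropic centre the condition is `c ^ q = - c` -/
theorem qcond_iso {v : Fin n → F} (hv : hermForm n F q v v = 0) (c : F) :
    QCond n q v c ↔ c ^ q = -c := by
  unfold QCond
  rw [hv, mul_zero, add_zero]
  constructor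
  · intro h; linear_combination h
  · intro h; linear_combination h

/-- the subgroup of `GU` generated by the unitary transvections -/
def Tv : Subgroup ↥(Cfsg.GU n F q) :=
  Subgroup.closure {g | ∃ (v : Fin n → F) (c : F), hermForm n F q v v = 0 ∧
    ((g : Matrix.GeneralLinearGroup (Fin n) F) : Matrix (Fin n) (Fin n) F) =
      unitaryTransvection n q v c}

theorem qtv_mem_Tv (v : Fin n → F) (c : F) (hv : hermForm n F q v v = 0)
    (hc : QCond n q v c) : qtv hF n v c hc ∈ Tv (F := F) (q := q) n :=
  Subgroup.subset_closure ⟨v, c, hv, rfl⟩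

include hF in
theorem Tv_normal : (Tv (F := F) (q := q) n).Normal := by
  unfold Tv
  constructor
  intro x hx g
  induction hx using Subgroup.closure_induction with
  | mem y hy =>
    obtain ⟨v, c, hv, hy⟩ := hy
    apply Subgroup.subset_closure
    refine ⟨gact n g v, c, by rw [herm_gact]; exact hv, ?_⟩
    rw [ext_iff_mulVec]
    intro x
    show gact n (g * y * g⁻¹) x = _
    rw [gact_mul, gact_mul, unitaryTransvection_mulVec]
    unfold gact
    rw [hy, unitaryTransvection_mulVec]
    show gact n g (_ + _) = _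
    rw [gact_add, gact_gact_inv, gact_smul, herm_gact_inv_left]
  | one => simp
  | mul y z _ _ hy hz =>
    have : g * (y * z) * g⁻¹ = (g * y * g⁻¹) * (g * z * g⁻¹) := by group
    rw [this]
    exact Subgroup.mul_mem _ hy hz
  | inv y _ hy =>
    have : g * y⁻¹ * g⁻¹ = (g * y * g⁻¹)⁻¹ := by group
    rw [this]
    exact Subgroup.inv_mem _ hy

section plane
variable {n}
variable {e f : Fin n → F} (he : hermForm n F q e e = 0) (hf : hermForm n F q f f = 0)
  (hef : hermForm n F q e f = 1)

include hF hef in
theorem herm_fe : hermForm n F q f e = 1 := by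
  rw [← hermForm_conj hF, hef, one_pow]

include hF he hf hef in
theorem herm_comb_e (a b : F) : hermForm n F q (a • e + b • f) e = b := by
  rw [hermForm_add_left, hermForm_smul_left, hermForm_smul_left, he, herm_fe hF hef]
  ring

include hF he hf hef in
theorem herm_comb_f (a b : F) : hermForm n F q (a • e + b • f) f = a := by
  rw [hermForm_add_left, hermForm_smul_left, hermForm_smul_left, hf, hef]
  ring

include hF he hf hef in
/-- changing the `e`-coordinate by a transvection with centre `e` -/
theorem move_e (a a' b : F) (hb : b ≠ 0)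
    (h1 : a * b ^ q + a ^ q * b = a' * b ^ q + a' ^ q * b) :
    ∃ t ∈ Tv (F := F) (q := q) n, gact n t (a • e + b • f) = a' • e + b • f := by
  have hc : QCond n q e ((a' - a) / b) := by
    rw [qcond_iso n he, div_pow, pow_q_sub hF]
    have hbq : b ^ q ≠ 0 := pow_ne_zero _ hb
    field_simp
    linear_combination -h1
  refine ⟨qtv hF n e _ hc, qtv_mem_Tv hF n e _ he hc, ?_⟩
  rw [gact_qtv, herm_comb_e hF he hf hef, div_mul_cancel₀ _ hb]
  module

include hF he hf hef in
/-- changing the `f`-coordinate by a transvection with centre `f` -/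
theorem move_f (a b b' : F) (ha : a ≠ 0)
    (h1 : a * b ^ q + a ^ q * b = a * b' ^ q + a ^ q * b') :
    ∃ t ∈ Tv (F := F) (q := q) n, gact n t (a • e + b • f) = a • e + b' • f := by
  have hc : QCond n q f ((b' - b) / a) := by
    rw [qcond_iso n hf, div_pow, pow_q_sub hF]
    have haq : a ^ q ≠ 0 := pow_ne_zero _ ha
    field_simp
    linear_combination -h1
  refine ⟨qtv hF n f _ hc, qtv_mem_Tv hF n f _ hf hc, ?_⟩
  rw [gact_qtv, herm_comb_f hF he hf hef, div_mul_cancel₀ _ ha]
  module

include hF he hf hef in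
/-- the generic case of `plane_move` -/
theorem plane_move_gen (a b a' b' : F) (h1 : a * b ^ q + a ^ q * b = 1)
    (h2 : a' * b' ^ q + a' ^ q * b' = 1) (hD : b * b' ^ q - b' * b ^ q ≠ 0) :
    ∃ t ∈ Tv (F := F) (q := q) n, gact n t (a • e + b • f) = a' • e + b' • f := by
  have hb : b ≠ 0 := by
    rintro rfl
    simp [zero_pow (q_ne_zero hF)] at h1
  have hb' : b' ≠ 0 := by
    rintro rfl
    simp [zero_pow (q_ne_zero hF)] at h2
  set D : F := b * b' ^ q - b' * b ^ q with hDdef
  have hDq : D ^ q = -D := by
    rw [hDdef, pow_q_sub hF, mul_pow, mul_pow, pow_q_pow_q hF, pow_q_pow_q hF]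
    ring
  set a'' : F := (b - b') / D with ha''
  have ha''q : a'' ^ q = (b' ^ q - b ^ q) / D := by
    rw [ha'', div_pow, pow_q_sub hF, hDq]
    field_simp
    ring
  have ht1 : a'' * b ^ q + a'' ^ q * b = 1 := by
    rw [ha''q, ha'']
    field_simp
    rw [hDdef]
    ring
  have ht2 : a'' * b' ^ q + a'' ^ q * b' = 1 := by
    rw [ha''q, ha'']
    field_simp
    rw [hDdef]
    ring
  have ha''0 : a'' ≠ 0 := by
    intro h0
    rw [h0] at ht1
    simp [zero_pow (q_ne_zero hF)] at ht1
  obtain ⟨t1, ht1m, ht1a⟩ := move_e hF he hf hef a a'' b hb (by rw [h1, ht1])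
  obtain ⟨t2, ht2m, ht2a⟩ := move_f hF he hf hef a'' b b' ha''0 (by rw [ht1, ht2])
  obtain ⟨t3, ht3m, ht3a⟩ := move_e hF he hf hef a'' a' b' hb' (by rw [ht2, h2])
  refine ⟨t3 * (t2 * t1), Subgroup.mul_mem _ ht3m (Subgroup.mul_mem _ ht2m ht1m), ?_⟩
  rw [gact_mul, gact_mul, ht1a, ht2a, ht3a]

include hF in
/-- a nonzero element of trace zero -/
theorem exists_trace_zero : ∃ c : F, c ≠ 0 ∧ c ^ q = -c := by
  obtain ⟨μ, hμ0, hμ⟩ := HermWitt.exists_trace (sigma_ne_id hF) (sigma_sigma hF) 0 (map_zero _)
  refine ⟨μ, hμ0, ?_⟩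
  rw [sigma_apply] at hμ
  linear_combination hμ

include hF he hf hef in
/-- the group generated by the transvections with centres `e`, `f` is transitive on the vectors
of norm one in the plane spanned by the hyperbolic pair `e, f` -/
theorem plane_move (a b a' b' : F) (h1 : a * b ^ q + a ^ q * b = 1)
    (h2 : a' * b' ^ q + a' ^ q * b' = 1) :
    ∃ t ∈ Tv (F := F) (q := q) n, gact n t (a • e + b • f) = a' • e + b' • f := by
  by_cases hD : b * b' ^ q - b' * b ^ q = 0
  · have ha : a ≠ 0 := by
      rintro rfl
      simp [zero_pow (q_ne_zero hF)] at h1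
    have hb : b ≠ 0 := by
      rintro rfl
      simp [zero_pow (q_ne_zero hF)] at h1
    have hb' : b' ≠ 0 := by
      rintro rfl
      simp [zero_pow (q_ne_zero hF)] at h2
    obtain ⟨c, hc0, hc⟩ := exists_trace_zero hF
    set b'' : F := b + c * a with hb''
    have hb''q : b'' ^ q = b ^ q - c * a ^ q := by
      rw [hb'', pow_q_add hF, mul_pow, hc]
      ring
    have h3 : a * b'' ^ q + a ^ q * b'' = 1 := by
      rw [hb''q, hb'']
      linear_combination h1
    obtain ⟨t1, ht1m, ht1a⟩ := move_f hF he hf hef a b b'' ha (by rw [h1, h3])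
    have hD'' : b'' * b' ^ q - b' * b'' ^ q ≠ 0 := by
      rw [hb''q, hb'']
      have h4 : (b + c * a) * b' ^ q - b' * (b ^ q - c * a ^ q) = c * (a * b' ^ q + a ^ q * b') := by
        linear_combination hD
      rw [h4]
      apply mul_ne_zero hc0
      intro h5
      have h6 : b ^ (q + 1) * (a * b' ^ q + a ^ q * b') = b * b' ^ q := by
        rw [pow_succ]
        linear_combination (b * b' ^ q) * h1 - (a ^ q * b) * hD
      rw [h5, mul_zero] at h6
      exact mul_ne_zero hb (pow_ne_zero _ hb') h6.symm
    obtain ⟨t2, ht2m, ht2a⟩ := plane_move_gen hF he hf hef a b'' a' b' h3 h2 hD''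
    refine ⟨t2 * t1, Subgroup.mul_mem _ ht2m ht1m, ?_⟩
    rw [gact_mul, ht1a, ht2a]
  · exact plane_move_gen hF he hf hef a b a' b' h1 h2 hD

end plane

section geometry

include hF in
/-- trace is onto the fixed field -/
theorem exists_trace_eq (d : F) (hd : d ^ q = d) : ∃ μ : F, μ + μ ^ q = d := by
  obtain ⟨μ, -, hμ⟩ := HermWitt.exists_trace (sigma_ne_id hF) (sigma_sigma hF) d hd
  exact ⟨μ, hμ⟩

include hF in
theorem herm_self_fixed (x : Fin n → F) : (hermForm n F q x x) ^ q = hermForm n F q x x :=
  hermForm_conj hF n x x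

include hF in
/-- a nonzero isotropic vector has a hyperbolic partner -/
theorem exists_partner (e : Fin n → F) (he0 : e ≠ 0) (he : hermForm n F q e e = 0) :
    ∃ f : Fin n → F, hermForm n F q f f = 0 ∧ hermForm n F q e f = 1 := by
  obtain ⟨y, hy⟩ : ∃ y, hermForm n F q e y ≠ 0 := by
    by_contra hcon
    push Not at hcon
    apply he0
    apply (hermSesq_nondegenerate hF n).2 e
    intro y
    rw [hermSesq_apply]
    exact hcon y
  set κ : F := ((hermForm n F q e y)⁻¹) ^ q with hκ
  set y' : Fin n → F := κ • y with hy'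
  have hey' : hermForm n F q e y' = 1 := by
    rw [hy', hermForm_smul_right, hκ, pow_q_pow_q hF, inv_mul_cancel₀ hy]
  have hy'e : hermForm n F q y' e = 1 := by
    rw [← hermForm_conj hF, hey', one_pow]
  clear_value y'
  obtain ⟨β, hβ⟩ := exists_trace_eq hF (-(hermForm n F q y' y')) (by
    rw [pow_q_neg hF, herm_self_fixed hF])
  refine ⟨y' + β • e, ?_, ?_⟩
  · rw [hermForm_add_left, hermForm_add_right hF, hermForm_add_right hF, hermForm_smul_left,
      hermForm_smul_left, hermForm_smul_right, hermForm_smul_right, he, hey', hy'e]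
    linear_combination hβ
  · rw [hermForm_add_right hF, hermForm_smul_right, he, hey']
    ring

omit [Fintype F] in
theorem herm_single_single (i j : Fin n) (hq : q ≠ 0) :
    hermForm n F q (Pi.single i 1) (Pi.single j 1) = if i = j then 1 else 0 := by
  rw [hermForm_single_right n q hq, Pi.single_apply]
  by_cases h : i = j
  · simp [h]
  · simp [h, Ne.symm h]

include hF in
/-- a hyperbolic pair -/
theorem exists_hyp_pair (hn : 2 ≤ n) : ∃ e f : Fin n → F, hermForm n F q e e = 0 ∧
    hermForm n F q f f = 0 ∧ hermForm n F q e f = 1 := by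
  obtain ⟨z, hz⟩ := exists_norm_eq hF (-1 : F) (by simp) (pow_q_neg_one hF)
  set i0 : Fin n := ⟨0, by omega⟩
  set i1 : Fin n := ⟨1, by omega⟩
  have h01 : i0 ≠ i1 := by
    intro h
    have := congrArg Fin.val h
    simp [i0, i1] at this
  set e : Fin n → F := Pi.single i0 1 + z • Pi.single i1 1 with hedef
  have hq := q_ne_zero hF
  have he : hermForm n F q e e = 0 := by
    rw [hedef, hermForm_add_left, hermForm_add_right hF, hermForm_add_right hF, hermForm_smul_left,
      hermForm_smul_right, hermForm_smul_right, hermForm_smul_left, herm_single_single n _ _ hq,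
      herm_single_single n _ _ hq, herm_single_single n _ _ hq, herm_single_single n _ _ hq,
      if_pos rfl, if_pos rfl, if_neg h01, if_neg (Ne.symm h01)]
    rw [pow_succ] at hz
    linear_combination hz
  have he0 : e ≠ 0 := by
    intro h
    have := congrFun h i0
    simp [hedef, h01] at this
  obtain ⟨f, hf, hef⟩ := exists_partner hF n e he0 he
  exact ⟨e, f, he, hf, hef⟩

include hF in
/-- Witt's theorem for pairs of vectors, in `GU` -/
theorem witt_pair (u v u' v' : Fin n → F) (hli : LinearIndependent F ![u, v])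
    (hli' : LinearIndependent F ![u', v'])
    (h1 : hermForm n F q u u = hermForm n F q u' u') (h2 : hermForm n F q v v = hermForm n F q v' v')
    (h3 : hermForm n F q v u = hermForm n F q v' u') :
    ∃ g : ↥(Cfsg.GU n F q), gact n g u = u' ∧ gact n g v = v' := by
  have h4 : hermForm n F q u v = hermForm n F q u' v' := by
    rw [← hermForm_conj hF, h3, hermForm_conj hF]
  obtain ⟨g, hg, hgx⟩ := HermWitt.witt_family (B := hermSesq hF n) (sigma_ne_id hF)
    (sigma_sigma hF) (hermSesq_nondegenerate hF n) (hermSesq_isSymm hF n) 2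
    ![u, v] ![u', v'] hli hli' (by
      intro i j
      fin_cases i <;> fin_cases j <;> simp [hermSesq_apply, h1, h2, h3, h4])
  obtain ⟨A, hA⟩ := exists_GU_of_isometry n g (fun x w => by
    have := hg w x
    rw [hermSesq_apply, hermSesq_apply] at this
    exact this)
  refine ⟨A, ?_, ?_⟩
  · show _ *ᵥ u = u'
    rw [hA]; exact hgx 0
  · show _ *ᵥ v = v'
    rw [hA]; exact hgx 1

include hF in
/-- two unit vectors spanning a nondegenerate plane are independent -/
theorem li_of_gram (u v : Fin n → F) (hu : hermForm n F q u u = 1) (hv : hermForm n F q v v = 1)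
    (hα : (hermForm n F q v u) ^ (q + 1) ≠ 1) : LinearIndependent F ![u, v] := by
  rw [LinearIndependent.pair_iff]
  intro s t hst
  have e1 := congrArg (fun x => hermForm n F q x u) hst
  have e2 := congrArg (fun x => hermForm n F q x v) hst
  simp only [hermForm_add_left, hermForm_smul_left, hu, hv, hermForm_zero_left] at e1 e2
  have huv : hermForm n F q u v = (hermForm n F q v u) ^ q := (hermForm_conj hF n v u).symm
  rw [huv] at e2
  have ht : t * (1 - (hermForm n F q v u) ^ (q + 1)) = 0 := by
    rw [pow_succ]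
    linear_combination e2 - (hermForm n F q v u) ^ q * e1
  have ht0 : t = 0 := by
    rcases mul_eq_zero.mp ht with h | h
    · exact h
    · exact absurd (sub_eq_zero.mp h).symm hα
  rw [ht0] at e1
  exact ⟨by linear_combination e1, ht0⟩

include hF in
/-- the group generated by transvections moves a unit vector to any unit vector spanning a
nondegenerate plane with it -/
theorem Tv_move_gen (hn : 2 ≤ n) (u v : Fin n → F) (hu : hermForm n F q u u = 1)
    (hv : hermForm n F q v v = 1) (hα : (hermForm n F q v u) ^ (q + 1) ≠ 1) :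
    ∃ t ∈ Tv (F := F) (q := q) n, gact n t u = v := by
  obtain ⟨e, f, he, hf, hef⟩ := exists_hyp_pair hF n hn
  have hfe := herm_fe hF hef
  set α : F := hermForm n F q v u with hαdef
  obtain ⟨μ, hμ⟩ := exists_trace_eq hF (1 : F) (one_pow q)
  have hNα : (α ^ (q + 1) - 1) ^ q = α ^ (q + 1) - 1 := by
    rw [pow_q_sub hF, one_pow, ← pow_mul, mul_comm, pow_mul, pow_succ (α ^ q), pow_q_pow_q hF,
      pow_succ]
    ring
  obtain ⟨β, hβ⟩ := exists_norm_eq hF (α ^ (q + 1) - 1) (sub_ne_zero.mpr hα) hNα
  set b' : F := α + β with hb'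
  set a' : F := α - b' * μ ^ q with ha'
  have hb'q : b' ^ q = α ^ q + β ^ q := by rw [hb', pow_q_add hF]
  have ha'q : a' ^ q = α ^ q - b' ^ q * μ := by
    rw [ha', pow_q_sub hF, mul_pow, pow_q_pow_q hF]
  have h1 : μ * (1 : F) ^ q + μ ^ q * 1 = 1 := by rw [one_pow]; linear_combination hμ
  have h2 : a' * b' ^ q + a' ^ q * b' = 1 := by
    rw [ha'q, ha', hb'q, hb']
    rw [pow_succ, pow_succ] at hβ
    linear_combination (-(α + β) * (α ^ q + β ^ q)) * hμ - hβ
  obtain ⟨t, htm, hta⟩ := plane_move hF he hf hef μ 1 a' b' h1 h2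
  set u₀ : Fin n → F := μ • e + (1 : F) • f with hu₀
  set v₀ : Fin n → F := a' • e + b' • f with hv₀
  have hu₀u₀ : hermForm n F q u₀ u₀ = 1 := by
    rw [hu₀, hermForm_add_right hF, hermForm_smul_right, hermForm_smul_right,
      herm_comb_e hF he hf hef, herm_comb_f hF he hf hef]
    linear_combination h1
  have hv₀v₀ : hermForm n F q v₀ v₀ = 1 := by
    rw [hv₀, hermForm_add_right hF, hermForm_smul_right, hermForm_smul_right,
      herm_comb_e hF he hf hef, herm_comb_f hF he hf hef]
    linear_combination h2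
  have hv₀u₀ : hermForm n F q v₀ u₀ = α := by
    rw [hu₀, hermForm_add_right hF, hermForm_smul_right, hermForm_smul_right,
      herm_comb_e hF he hf hef, herm_comb_f hF he hf hef, ha']
    ring
  obtain ⟨g, hgu, hgv⟩ := witt_pair hF n u₀ v₀ u v
    (li_of_gram hF n u₀ v₀ hu₀u₀ hv₀v₀ (by rw [hv₀u₀]; exact hα))
    (li_of_gram hF n u v hu hv hα) (by rw [hu₀u₀, hu]) (by rw [hv₀v₀, hv]) hv₀u₀
  refine ⟨g * t * g⁻¹, (Tv_normal hF n).conj_mem t htm g, ?_⟩
  rw [gact_mul, gact_mul, ← hgu, gact_inv_gact, hta, hgv]

end geometry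

section move

include hF in
/-- a fixed element different from `0` and `1` when `q ≥ 3` -/
theorem exists_fixed_ne (hq3 : 3 ≤ q) : ∃ ν : F, ν ^ q = ν ∧ ν ≠ 0 ∧ ν ≠ 1 := by
  by_contra hcon
  push Not at hcon
  have hsub : Subsingleton {c : F // c ≠ 0 ∧ c ^ q = c} := by
    constructor
    rintro ⟨a, ha0, ha⟩ ⟨b, hb0, hb⟩
    apply Subtype.ext
    show a = b
    rw [hcon a ha ha0, hcon b hb hb0]
  have h1 := card_fixed hF
  have h2 : Nat.card {c : F // c ≠ 0 ∧ c ^ q = c} ≤ 1 := by
    have := Finite.card_le_one_iff_subsingleton.mpr hsub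
    exact this
  omega

include hF in
/-- auxiliary data for connecting two unit vectors spanning a degenerate plane -/
theorem exists_data (hn : 3 ≤ n) (h32 : ¬ (n = 3 ∧ q = 2)) :
    ∃ (x y : F) (j : Fin n), j ≠ (⟨0, by omega⟩ : Fin n) ∧ x ≠ 0 ∧
      x ^ (q + 1) + y ^ (q + 1) = 0 ∧
      ((x • (Pi.single (⟨1, by omega⟩ : Fin n) (1 : F) : Fin n → F) +
        y • (Pi.single (⟨2, by omega⟩ : Fin n) (1 : F) : Fin n → F)) j) ^ (q + 1) ≠ 1 := by
  have hq2 := two_le_q hF
  by_cases h4 : 4 ≤ n
  · obtain ⟨z, hz⟩ := exists_norm_eq hF (-1 : F) (by simp) (pow_q_neg_one hF)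
    refine ⟨1, z, ⟨3, by omega⟩, ?_, one_ne_zero, ?_, ?_⟩
    · intro h
      have := congrArg Fin.val h
      simp at this
    · rw [hz]; simp
    · have h31 : (⟨3, by omega⟩ : Fin n) ≠ ⟨1, by omega⟩ := by
        intro h
        have := congrArg Fin.val h
        simp at this
      have h32' : (⟨3, by omega⟩ : Fin n) ≠ ⟨2, by omega⟩ := by
        intro h
        have := congrArg Fin.val h
        simp at this
      simp [Pi.single_apply, h31, h32']
  · have hn3 : n = 3 := by omega
    have hq3 : 3 ≤ q := by
      by_contra h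
      exact h32 ⟨hn3, by omega⟩
    obtain ⟨ν, hν, hν0, hν1⟩ := exists_fixed_ne hF hq3
    obtain ⟨x, hx⟩ := exists_norm_eq hF ν hν0 hν
    obtain ⟨y, hy⟩ := exists_norm_eq hF (-ν) (neg_ne_zero.mpr hν0) (by rw [pow_q_neg hF, hν])
    have hx0 : x ≠ 0 := by
      rintro rfl
      rw [zero_pow (by omega)] at hx
      exact hν0 hx.symm
    refine ⟨x, y, ⟨1, by omega⟩, ?_, hx0, ?_, ?_⟩
    · intro h
      have := congrArg Fin.val h
      simp at this
    · rw [hx, hy]; ring
    · have h12 : (⟨1, by omega⟩ : Fin n) ≠ ⟨2, by omega⟩ := by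
        intro h
        have := congrArg Fin.val h
        simp at this
      simp only [Pi.add_apply, Pi.smul_apply, Pi.single_apply, if_true, if_neg h12, smul_eq_mul,
        mul_one, mul_zero, add_zero]
      rw [hx]
      exact hν1

include hF in
/-- the group generated by the transvections is transitive on the points spanned by vectors of
norm one -/
theorem Tv_move (hn : 3 ≤ n) (h32 : ¬ (n = 3 ∧ q = 2)) (u v : Fin n → F)
    (hu : hermForm n F q u u = 1) (hv : hermForm n F q v v = 1) :
    ∃ t ∈ Tv (F := F) (q := q) n, ∃ l : F, l ≠ 0 ∧ gact n t u = l • v := by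
  have hq := q_ne_zero hF
  by_cases hα : (hermForm n F q v u) ^ (q + 1) = 1
  · set α : F := hermForm n F q v u with hαdef
    have hα0 : α ≠ 0 := by
      rintro h
      rw [h, zero_pow (by omega)] at hα
      exact zero_ne_one hα
    by_cases hv' : v - α • u = 0
    · refine ⟨1, Subgroup.one_mem _, α⁻¹, inv_ne_zero hα0, ?_⟩
      rw [gact_one, sub_eq_zero.mp hv', smul_smul, inv_mul_cancel₀ hα0, one_smul]
    · obtain ⟨x, y, j, hj0, hx0, hxy, hj⟩ := exists_data hF n hn h32
      set i0 : Fin n := ⟨0, by omega⟩ with hi0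
      set i1 : Fin n := ⟨1, by omega⟩ with hi1
      set i2 : Fin n := ⟨2, by omega⟩ with hi2
      have h01 : i0 ≠ i1 := by intro h; have := congrArg Fin.val h; simp [i0, i1] at this
      have h02 : i0 ≠ i2 := by intro h; have := congrArg Fin.val h; simp [i0, i2] at this
      have h12 : i1 ≠ i2 := by intro h; have := congrArg Fin.val h; simp [i1, i2] at this
      set p : Fin n → F := x • (Pi.single i1 (1 : F) : Fin n → F) + y • (Pi.single i2 (1 : F) : Fin n → F)
        with hp
      have hpp : hermForm n F q p p = 0 := by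
        simp only [hp, hermForm_add_left, hermForm_add_right hF, hermForm_smul_left,
          hermForm_smul_right, herm_single_single n _ _ hq, if_neg h12, if_neg (Ne.symm h12),
          ↓reduceIte]
        rw [pow_succ, pow_succ] at hxy
        linear_combination hxy
      have hp_i0 : p i0 = 0 := by
        simp [hp, Pi.single_apply, h01, h02]
      have hp_i1 : p i1 = x := by
        simp [hp, Pi.single_apply, h12]
      have hp0 : hermForm n F q p (Pi.single i0 1) = 0 := by
        rw [hermForm_single_right n q hq, hp_i0]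
      have h0p : hermForm n F q (Pi.single i0 1) p = 0 := by
        rw [← hermForm_conj hF, hp0, zero_pow hq]
      clear_value p
      set v₀ : Fin n → F := α • (Pi.single i0 (1 : F) : Fin n → F) + p with hv₀
      have h00 : hermForm n F q (Pi.single i0 (1 : F) : Fin n → F) (Pi.single i0 1) = 1 := by
        rw [herm_single_single n _ _ hq, if_pos rfl]
      have hv₀v₀ : hermForm n F q v₀ v₀ = 1 := by
        simp only [hv₀, hermForm_add_left, hermForm_add_right hF, hermForm_smul_left,
          hermForm_smul_right, h00, hpp, hp0, h0p]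
        rw [pow_succ] at hα
        linear_combination hα
      have hv₀e : hermForm n F q v₀ (Pi.single i0 1) = α := by
        rw [hv₀, hermForm_add_left, hermForm_smul_left, h00, hp0]
        ring
      have hv₀_i0 : v₀ i0 = α := by
        simp [hv₀, hp_i0]
      have hv₀_i1 : v₀ i1 = x := by
        simp [hv₀, hp_i1, Pi.single_apply, Ne.symm h01]
      have hv₀_j : v₀ j = p j := by
        simp [hv₀, Pi.single_apply, hj0]
      clear_value v₀
      have hli₀ : LinearIndependent F ![(Pi.single i0 (1 : F) : Fin n → F), v₀] := by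
        rw [LinearIndependent.pair_iff]
        intro s t hst
        have e1 := congrFun hst i1
        simp only [Pi.add_apply, Pi.smul_apply, Pi.single_apply, smul_eq_mul,
          Pi.zero_apply, hv₀_i1, if_neg (Ne.symm h01), mul_zero, zero_add] at e1
        have ht : t = 0 := (mul_eq_zero.mp e1).resolve_right hx0
        have e0 := congrFun hst i0
        simp only [Pi.add_apply, Pi.smul_apply, Pi.single_apply, smul_eq_mul,
          Pi.zero_apply, hv₀_i0, ht, zero_mul, add_zero, ↓reduceIte, mul_one] at e0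
        exact ⟨e0, ht⟩
      have hli : LinearIndependent F ![u, v] := by
        rw [LinearIndependent.pair_iff]
        intro s t hst
        have e1 := congrArg (fun z => hermForm n F q z u) hst
        simp only [hermForm_add_left, hermForm_smul_left, hu, hermForm_zero_left] at e1
        have hs : s = -(t * α) := by linear_combination e1
        have ht : t = 0 := by
          by_contra ht
          apply hv'
          have : t • (v - α • u) = 0 := by
            rw [hs] at hst
            rw [← hst]
            module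
          exact (smul_eq_zero.mp this).resolve_left ht
        rw [ht] at hs
        exact ⟨by rw [hs]; ring, ht⟩
      obtain ⟨g, hgu, hgv⟩ := witt_pair hF n (Pi.single i0 1) v₀ u v hli₀ hli
        (by rw [h00, hu]) (by rw [hv₀v₀, hv]) hv₀e
      have hjj : hermForm n F q (Pi.single j (1 : F) : Fin n → F) (Pi.single j 1) = 1 := by
        rw [herm_single_single n _ _ hq, if_pos rfl]
      obtain ⟨t1, ht1m, ht1⟩ := Tv_move_gen hF n (by omega) (Pi.single i0 1) (Pi.single j 1)
        h00 hjj (by
          rw [herm_single_single n _ _ hq, if_neg hj0, zero_pow (by omega)]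
          exact zero_ne_one)
      obtain ⟨t2, ht2m, ht2⟩ := Tv_move_gen hF n (by omega) (Pi.single j 1) v₀ hjj hv₀v₀ (by
        rw [hermForm_single_right n q hq, hv₀_j]
        exact hj)
      refine ⟨g * (t2 * t1) * g⁻¹,
        (Tv_normal hF n).conj_mem _ (Subgroup.mul_mem _ ht2m ht1m) g, 1, one_ne_zero, ?_⟩
      rw [gact_mul, gact_mul, ← hgu, gact_inv_gact, gact_mul, ht1, ht2, hgv, one_smul]
  · obtain ⟨t, htm, ht⟩ := Tv_move_gen hF n (by omega) u v hu hv hα
    exact ⟨t, htm, 1, one_ne_zero, by rw [ht, one_smul]⟩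

end move

end Cfsg.Agent.Lib.Helper5.HermTv
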