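import Mathlib
import Cfsg.Prelude
import Cfsg.Agent.Lib.Helper5.HermTv

set_option autoImplicit false
set_option linter.unusedSectionVars false
set_option linter.unusedVariables false
set_option linter.unusedSimpArgs false
open Cfsg

/-! `GU_n(q)` is generated by quasi-transvections (unitary Cartan–Dieudonné, via the proof of
Witt's lemma), and `SU_n(q)` is generated by the unitary transvections. -/

namespace Cfsg.Agent.Lib.Helper5.HermGen

open Module

section tracked
variable {F : Type*} [Field F] {V : Type*} [AddCommGroup V] [Module F V] {σ : F →+* F}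
variable (B : V →ₛₗ[σ] V →ₗ[F] F)

open Cfsg.Agent.Lib.Helper5.HermWitt

/-- a set of linear automorphisms closed under composition and containing the
quasi-transvections -/
structure Good (S : Set (V ≃ₗ[F] V)) : Prop where
  refl_mem : LinearEquiv.refl F V ∈ S
  trans_mem : ∀ g h, g ∈ S → h ∈ S → g.trans h ∈ S
  qtv_mem : ∀ (g : V ≃ₗ[F] V) (p : V) (c : F), c + σ c + c * σ c * B p p = 0 →
    (∀ x, g x = qtv B p c x) → g ∈ S

variable {B}

/-- One quasi-reflection moving `x` to `y` and fixing `H`. -/
theorem single_step' {S : Set (V ≃ₗ[F] V)} (hGood : Good B S) [FiniteDimensional F V]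
    (hB : B.Nondegenerate) (hS : B.IsSymm)
    (H : Submodule F V) (x y : V) (hxy : B (y - x) x ≠ 0) (hn : B x x = B y y)
    (hH : ∀ h ∈ H, B x h = B y h) :
    ∃ g : V ≃ₗ[F] V, g ∈ S ∧ (∀ u v, B (g u) (g v) = B u v) ∧ (∀ h ∈ H, g h = h) ∧ g x = y := by
  set p : V := y - x with hp
  have hyp : y = x + p := by rw [hp]; abel
  set β : F := B p x with hβ
  have hrel : σ β + β + B p p = 0 := by
    have h1 : B y y = B x x + B x p + B p x + B p p := by
      rw [hyp]
      simp only [map_add, LinearMap.add_apply]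
      ring
    rw [hβ, hS.eq p x]
    linear_combination -h1 - hn
  have hσβ : σ β ≠ 0 := by
    intro h
    exact hxy ((map_eq_zero σ).mp h)
  have hc : β⁻¹ + σ β⁻¹ + β⁻¹ * σ β⁻¹ * B p p = 0 := by
    rw [map_inv₀]
    field_simp
    linear_combination hrel
  have hiso := qtv_isom B hS p β⁻¹ hc
  obtain ⟨g, hg⟩ := equiv_of_isom B hB (qtv B p β⁻¹) hiso
  refine ⟨g, hGood.qtv_mem g p β⁻¹ hc hg, fun u v => by rw [hg, hg]; exact hiso u v, ?_, ?_⟩
  · intro h hh
    rw [hg, qtv_apply]
    have : B p h = 0 := by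
      rw [hp, map_sub, LinearMap.sub_apply, hH h hh, sub_self]
    rw [this]; simp
  · rw [hg, qtv_apply, ← hβ, inv_mul_cancel₀ hxy, one_smul, hyp]

/-- An isometry in `S` fixing `H` pointwise and moving `a` to `b`. -/
theorem exists_fix_move' {S : Set (V ≃ₗ[F] V)} (hGood : Good B S) [Finite F]
    [FiniteDimensional F V] (hσ : σ ≠ RingHom.id F)
    (hσ2 : ∀ a : F, σ (σ a) = a) (hB : B.Nondegenerate) (hS : B.IsSymm)
    (H : Submodule F V) (a b : V) (hn : B a a = B b b) (hab : ∀ h ∈ H, B a h = B b h)
    (ha : a ∉ H) (hb : b ∉ H) :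
    ∃ g : V ≃ₗ[F] V, g ∈ S ∧ (∀ u v, B (g u) (g v) = B u v) ∧ (∀ h ∈ H, g h = h) ∧ g a = b := by
  by_cases h0 : B (b - a) a = 0
  · obtain ⟨z₁, hz₁H, hz₁a⟩ := exists_perp_not_perp B hB H a ha
    obtain ⟨z₂, hz₂H, hz₂b⟩ := exists_perp_not_perp B hB H b hb
    obtain ⟨z₀, hzH, hza, hzb⟩ : ∃ z, (∀ h ∈ H, B z h = 0) ∧ B z a ≠ 0 ∧ B z b ≠ 0 := by
      by_cases h1 : B z₁ b = 0
      · by_cases h2 : B z₂ a = 0
        · refine ⟨z₁ + z₂, ?_, ?_, ?_⟩
          · intro h hh; rw [map_add, LinearMap.add_apply, hz₁H h hh, hz₂H h hh, add_zero]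
          · rw [map_add, LinearMap.add_apply, h2, add_zero]; exact hz₁a
          · rw [map_add, LinearMap.add_apply, h1, zero_add]; exact hz₂b
        · exact ⟨z₂, hz₂H, h2, hz₂b⟩
      · exact ⟨z₁, hz₁H, hz₁a, h1⟩
    set c₀ : F := B z₀ a with hc₀
    set d₀ : F := B z₀ z₀ with hd₀
    have hd₀fix : σ (-d₀) = -d₀ := by rw [map_neg, hd₀, hS.eq]
    obtain ⟨μ, hμ0, hμ⟩ := exists_trace hσ hσ2 (-d₀) hd₀fix
    set t : F := c₀ / μ with ht
    have ht0 : t ≠ 0 := div_ne_zero hza hμ0
    have hσt0 : σ t ≠ 0 := fun h => ht0 ((map_eq_zero σ).mp h)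
    set z : V := t • z₀ with hz
    have hzH' : ∀ h ∈ H, B z h = 0 := by
      intro h hh
      rw [hz, LinearMap.map_smulₛₗ, LinearMap.smul_apply, hzH h hh, smul_zero]
    have hza' : B z a = σ t * c₀ := by
      rw [hz, LinearMap.map_smulₛₗ, LinearMap.smul_apply, smul_eq_mul]
    have hzb' : B z b ≠ 0 := by
      rw [hz, LinearMap.map_smulₛₗ, LinearMap.smul_apply, smul_eq_mul]
      exact mul_ne_zero hσt0 hzb
    have hzz : B z z = σ t * t * d₀ := by
      rw [hz, LinearMap.map_smulₛₗ₂, map_smul, smul_eq_mul, smul_eq_mul]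
      ring
    have haz : B a z = t * σ c₀ := by
      rw [← hS.eq z a, hza', map_mul, hσ2]
    have hkey : B z z + B z a + B a z = 0 := by
      have hμt : μ = c₀ / t := by rw [ht]; field_simp
      have hσμ : σ μ = σ c₀ / σ t := by rw [hμt, map_div₀]
      rw [hzz, hza', haz]
      have h3 : μ + σ μ + d₀ = 0 := by linear_combination hμ
      rw [hσμ, hμt] at h3
      field_simp at h3
      linear_combination (1 : F) * h3
    have h0' : B (b - a) a = 0 := h0
    have hpa : B b a = B a a := by
      rw [map_sub, LinearMap.sub_apply, sub_eq_zero] at h0'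
      exact h0'
    obtain ⟨g₁, hg₁S, hg₁, hg₁H, hg₁a⟩ := single_step' hGood hB hS H a (a + z)
      (by rw [add_sub_cancel_left, hza']; exact mul_ne_zero hσt0 hza)
      (by simp only [map_add, LinearMap.add_apply]; linear_combination -hkey)
      (by intro h hh; rw [map_add, LinearMap.add_apply, hzH' h hh, add_zero])
    obtain ⟨g₂, hg₂S, hg₂, hg₂H, hg₂a⟩ := single_step' hGood hB hS H (a + z) b
      (by
        have hbz : B b z ≠ 0 := by
          intro h
          apply hzb'
          rw [← hS.eq b z, h, map_zero]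
        have hab' : B a b = B a a := by
          rw [← hS.eq b a, hpa, hS.eq]
        have : B (b - (a + z)) (a + z) = B b z := by
          simp only [map_sub, map_add, LinearMap.sub_apply, LinearMap.add_apply]
          linear_combination hpa - hkey
        rw [this]; exact hbz)
      (by rw [← hn]; simp only [map_add, LinearMap.add_apply]; linear_combination hkey)
      (by intro h hh; rw [map_add, LinearMap.add_apply, hzH' h hh, add_zero]; exact hab h hh)
    refine ⟨g₁.trans g₂, hGood.trans_mem g₁ g₂ hg₁S hg₂S, ?_, ?_, ?_⟩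
    · intro u v
      rw [LinearEquiv.trans_apply, LinearEquiv.trans_apply, hg₂, hg₁]
    · intro h hh
      rw [LinearEquiv.trans_apply, hg₁H h hh, hg₂H h hh]
    · rw [LinearEquiv.trans_apply, hg₁a, hg₂a]
  · exact single_step' hGood hB hS H a b h0 hn hab

/-- Witt's lemma with the isometry a product of quasi-transvections. -/
theorem witt_family' {S : Set (V ≃ₗ[F] V)} (hGood : Good B S) [Finite F] [FiniteDimensional F V]
    (hσ : σ ≠ RingHom.id F)
    (hσ2 : ∀ a : F, σ (σ a) = a) (hB : B.Nondegenerate) (hS : B.IsSymm) (n : ℕ) :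
    ∀ (x y : Fin n → V), LinearIndependent F x → LinearIndependent F y →
      (∀ i j, B (x i) (x j) = B (y i) (y j)) →
      ∃ g : V ≃ₗ[F] V, g ∈ S ∧ (∀ u v, B (g u) (g v) = B u v) ∧ ∀ i, g (x i) = y i := by
  induction n with
  | zero =>
    intro x y _ _ _
    exact ⟨LinearEquiv.refl F V, hGood.refl_mem, fun u v => rfl, fun i => i.elim0⟩
  | succ n ih =>
    intro x y hx hy hxy
    obtain ⟨g₁, hg₁S, hg₁, hg₁x⟩ := ih (x ∘ Fin.castSucc) (y ∘ Fin.castSucc)
      (hx.comp _ (Fin.castSucc_injective n)) (hy.comp _ (Fin.castSucc_injective n))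
      (fun i j => hxy _ _)
    set H : Submodule F V := Submodule.span F (Set.range (x ∘ Fin.castSucc)) with hH
    set a : V := x (Fin.last n) with ha
    set b : V := g₁.symm (y (Fin.last n)) with hb
    have hlast : Fin.last n ∉ Set.range (Fin.castSucc : Fin n → Fin (n + 1)) := by
      rintro ⟨i, hi⟩
      exact Fin.castSucc_ne_last i hi
    have haH : a ∉ H := by
      have := hx.notMem_span_image hlast
      rwa [← Set.range_comp] at this
    have hbH : b ∉ H := by
      intro hmem
      have h1 : g₁ b ∈ H.map (g₁ : V →ₗ[F] V) := Submodule.mem_map_of_mem hmem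
      rw [hb, LinearEquiv.apply_symm_apply, hH, Submodule.map_span, ← Set.range_comp] at h1
      have h2 : ((g₁ : V →ₗ[F] V) ∘ x ∘ Fin.castSucc) = y ∘ Fin.castSucc := by
        funext i
        exact hg₁x i
      rw [h2, Set.range_comp] at h1
      exact hy.notMem_span_image hlast h1
    have hn : B a a = B b b := by
      rw [← hg₁ b b, hb, LinearEquiv.apply_symm_apply]
      exact hxy _ _
    have hab : ∀ h ∈ H, B a h = B b h := by
      have : H ≤ LinearMap.ker (B a - B b) := by
        rw [hH, Submodule.span_le]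
        rintro _ ⟨i, rfl⟩
        rw [SetLike.mem_coe, LinearMap.mem_ker, LinearMap.sub_apply, sub_eq_zero]
        show B (x (Fin.last n)) (x (Fin.castSucc i)) = B b (x (Fin.castSucc i))
        rw [← hg₁ b, hb, LinearEquiv.apply_symm_apply]
        have := hg₁x i
        simp only [Function.comp_apply] at this
        rw [this]
        exact hxy _ _
      intro h hh
      have := this hh
      rwa [LinearMap.mem_ker, LinearMap.sub_apply, sub_eq_zero] at this
    obtain ⟨g₂, hg₂S, hg₂, hg₂H, hg₂a⟩ := exists_fix_move' hGood hσ hσ2 hB hS H a b hn hab haH hbH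
    refine ⟨g₂.trans g₁, hGood.trans_mem g₂ g₁ hg₂S hg₁S, ?_, ?_⟩
    · intro u v
      rw [LinearEquiv.trans_apply, LinearEquiv.trans_apply, hg₁, hg₂]
    · intro i
      refine Fin.lastCases ?_ (fun j => ?_) i
      · rw [LinearEquiv.trans_apply, hg₂a, hb, LinearEquiv.apply_symm_apply]
      · have h1 : g₂ (x (Fin.castSucc j)) = x (Fin.castSucc j) :=
          hg₂H _ (Submodule.subset_span ⟨j, rfl⟩)
        rw [LinearEquiv.trans_apply, h1]
        exact hg₁x j

end tracked

section matrix
open Matrix Cfsg.Agent.Lib.Helper5.Herm Cfsg.Agent.Lib.Helper5.HermBlock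
  Cfsg.Agent.Lib.Helper5.HermBridge Cfsg.Agent.Lib.Helper5.HermCount
  Cfsg.Agent.Lib.Helper5.HermCard Cfsg.Agent.Lib.Helper5.HermFrames Cfsg.Agent.Lib.Helper5.HermTv

variable {F : Type*} [Field F] [Fintype F] {q : ℕ} (hF : Fintype.card F = q ^ 2) (n : ℕ)

/-- the set of quasi-transvections in `GU` -/
def qtvSet : Set ↥(Cfsg.GU n F q) := {g | ∃ (v : Fin n → F) (c : F) (hc : QCond n q v c), g = qtv hF n v c hc}

/-- linear automorphisms induced by products of quasi-transvections -/
def goodSet : Set ((Fin n → F) ≃ₗ[F] (Fin n → F)) :=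
  {φ | ∃ A ∈ Subgroup.closure (qtvSet hF n), ∀ x, φ x = gact n A x}

theorem goodSet_good : Good (hermSesq hF n) (goodSet hF n) where
  refl_mem := ⟨1, Subgroup.one_mem _, fun x => (gact_one n x).symm⟩
  trans_mem := by
    rintro g h ⟨A, hA, hgA⟩ ⟨C, hC, hhC⟩
    refine ⟨C * A, Subgroup.mul_mem _ hC hA, fun x => ?_⟩
    rw [LinearEquiv.trans_apply, hgA, hhC, gact_mul]
  qtv_mem := by
    intro g p c hc hg
    have hc' : QCond n q p c := by
      unfold QCond
      rw [hermSesq_apply, sigma_apply] at hc
      exact hc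
    refine ⟨qtv hF n p c hc', Subgroup.subset_closure ⟨p, c, hc', rfl⟩, fun x => ?_⟩
    rw [hg, HermWitt.qtv_apply, gact_qtv, hermSesq_apply]

/-- unitary Cartan–Dieudonné: `GU` is generated by the quasi-transvections -/
theorem closure_qtvSet : Subgroup.closure (qtvSet hF n) = ⊤ := by
  rw [eq_top_iff]
  intro g _
  have hli : LinearIndependent F (fun i : Fin n => (Pi.single i (1 : F) : Fin n → F)) := by
    have := (Pi.basisFun F (Fin n)).linearIndependent
    convert this using 1
    funext i
    rw [Pi.basisFun_apply]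
  have hli' : LinearIndependent F (fun i : Fin n => gact n g (Pi.single i (1 : F))) := by
    have : (fun i : Fin n => gact n g (Pi.single i (1 : F))) =
        (Matrix.toLin' ((g : Matrix.GeneralLinearGroup (Fin n) F) : Matrix (Fin n) (Fin n) F)) ∘
          (fun i : Fin n => (Pi.single i (1 : F) : Fin n → F)) := by
      funext i
      simp [gact, Matrix.toLin'_apply]
    rw [this]
    apply hli.map'
    rw [LinearMap.ker_eq_bot]
    intro x y hxy
    simp only [Matrix.toLin'_apply] at hxy
    have := congrArg (gact n g⁻¹) hxy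
    rwa [gact_inv_gact, gact_inv_gact] at this
  obtain ⟨φ, ⟨A, hA, hφA⟩, -, hφx⟩ := witt_family' (goodSet_good hF n) (sigma_ne_id hF)
    (sigma_sigma hF) (hermSesq_nondegenerate hF n) (hermSesq_isSymm hF n) n _ _ hli hli'
    (fun i j => by rw [hermSesq_apply, hermSesq_apply, herm_gact])
  have hAg : A = g := by
    apply ext_gact
    intro x
    have h1 : ∀ i, gact n A (Pi.single i 1) = gact n g (Pi.single i 1) := fun i => by
      rw [← hφA]; exact hφx i
    have hx : x = ∑ i, x i • (Pi.single i (1 : F) : Fin n → F) := by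
      ext k
      simp [Finset.sum_apply, Pi.single_apply]
    rw [hx]
    unfold gact
    rw [mulVec_sum, mulVec_sum]
    apply Finset.sum_congr rfl
    intro i _
    rw [mulVec_smul, mulVec_smul]
    congr 1
    exact h1 i
  rw [← hAg]
  exact hA

end matrix

section generation
open Matrix Cfsg.Agent.Lib.Helper5.Herm Cfsg.Agent.Lib.Helper5.HermBlock
  Cfsg.Agent.Lib.Helper5.HermBridge Cfsg.Agent.Lib.Helper5.HermCount
  Cfsg.Agent.Lib.Helper5.HermCard Cfsg.Agent.Lib.Helper5.HermFrames Cfsg.Agent.Lib.Helper5.HermTv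

variable {F : Type*} [Field F] [Fintype F] {q : ℕ} (hF : Fintype.card F = q ^ 2) (n : ℕ)

omit [Fintype F] in
/-- the determinant of a quasi-transvection -/
theorem det_tv (v : Fin n → F) (c : F) :
    (unitaryTransvection n q v c).det = 1 + c * hermForm n F q v v := by
  unfold unitaryTransvection
  rw [← smul_vecMulVec, vecMulVec_eq Unit, det_one_add_replicateCol_mul_replicateRow]
  congr 1
  unfold hermForm
  rw [dotProduct]
  rw [Finset.mul_sum]
  apply Finset.sum_congr rfl
  intro i _
  simp only [Pi.smul_apply, smul_eq_mul]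
  ring

theorem normKer_coe (z : ↥(normHom F q).ker) : ((z : Fˣ) : F) ^ (q + 1) = 1 := by
  have h := z.2
  rw [MonoidHom.mem_ker] at h
  have h2 : ((z : Fˣ) ^ (q + 1) : Fˣ) = 1 := h
  have h3 := congrArg (fun u : Fˣ => (u : F)) h2
  simpa using h3

variable {n}

include hF in
theorem qcond_dil (i0 : Fin n) (z : ↥(normHom F q).ker) :
    QCond n q (Pi.single i0 (1 : F) : Fin n → F) (((z : Fˣ) : F) - 1) := by
  unfold QCond
  rw [herm_single_single n _ _ (q_ne_zero hF), if_pos rfl, pow_q_sub hF, one_pow]
  have := normKer_coe (q := q) z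
  rw [pow_succ] at this
  linear_combination this

/-- the dilations `diag(z, 1, …, 1)` with `z` of norm one -/
noncomputable def dil (i0 : Fin n) : ↥(normHom F q).ker →* ↥(Cfsg.GU n F q) :=
  MonoidHom.mk' (fun z => qtv hF n (Pi.single i0 1) (((z : Fˣ) : F) - 1) (qcond_dil hF i0 z)) (by
    intro z w
    rw [qtv_mul hF n _ _ _ _ _ (by
      have := qcond_dil hF i0 (z * w)
      rw [herm_single_single n _ _ (q_ne_zero hF), if_pos rfl]
      convert this using 1
      push_cast
      ring)]
    apply qtv_congr hF n rfl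
    rw [herm_single_single n _ _ (q_ne_zero hF), if_pos rfl]
    push_cast
    ring)

theorem dil_apply (i0 : Fin n) (z : ↥(normHom F q).ker) :
    dil hF i0 z = qtv hF n (Pi.single i0 1) (((z : Fˣ) : F) - 1) (qcond_dil hF i0 z) := rfl

/-- the determinant, with values in the norm-one group -/
noncomputable def detN : ↥(Cfsg.GU n F q) →* ↥(normHom F q).ker :=
  (detGU F q n).codRestrict _ (detGU_mem_ker hF)

theorem detN_coe (g : ↥(Cfsg.GU n F q)) :
    (((detN hF g : ↥(normHom F q).ker) : Fˣ) : F) =
      ((g : Matrix.GeneralLinearGroup (Fin n) F) : Matrix (Fin n) (Fin n) F).det := rfl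

theorem detN_qtv (v : Fin n → F) (c : F) (hc : QCond n q v c) :
    (((detN hF (qtv hF n v c hc) : ↥(normHom F q).ker) : Fˣ) : F) =
      1 + c * hermForm n F q v v := by
  rw [detN_coe, qtv_coe, det_tv]

include hF in
/-- `SU_n(q)` is contained in the group generated by the unitary transvections -/
theorem mem_Tv_of_det (hn : 3 ≤ n) (h32 : ¬ (n = 3 ∧ q = 2)) (g : ↥(Cfsg.GU n F q))
    (hg : ((g : Matrix.GeneralLinearGroup (Fin n) F) : Matrix (Fin n) (Fin n) F).det = 1) :
    g ∈ Tv (F := F) (q := q) n := by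
  have hnorm := Tv_normal hF n
  set i0 : Fin n := ⟨0, by omega⟩ with hi0
  have hq := q_ne_zero hF
  set π := QuotientGroup.mk' (Tv (F := F) (q := q) n) with hπ
  set K : Subgroup ↥(Cfsg.GU n F q) :=
    MonoidHom.eqLocus π (π.comp ((dil hF i0).comp (detN hF))) with hK
  have hKtop : K = ⊤ := by
    rw [eq_top_iff, ← closure_qtvSet hF n, Subgroup.closure_le]
    rintro x ⟨v, c, hc, rfl⟩
    show π (qtv hF n v c hc) = π (dil hF i0 (detN hF (qtv hF n v c hc)))
    by_cases hv : hermForm n F q v v = 0
    · have h1 : qtv hF n v c hc ∈ Tv (F := F) (q := q) n := qtv_mem_Tv hF n v c hv hc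
      have h2 : detN hF (qtv hF n v c hc) = 1 := by
        apply Subtype.ext
        apply Units.ext
        rw [detN_qtv, hv, mul_zero, add_zero]
        rfl
      rw [h2, map_one, map_one]
      exact (QuotientGroup.eq_one_iff _).mpr h1
    · -- anisotropic centre
      set a : F := hermForm n F q v v with ha
      have hafix : a ^ q = a := herm_self_fixed hF n v
      obtain ⟨μ, hμ⟩ := exists_norm_eq hF a hv hafix
      have hμ0 : μ ≠ 0 := by
        rintro rfl
        rw [zero_pow (by omega)] at hμ
        exact hv hμ.symm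
      have hv1 : hermForm n F q (μ⁻¹ • v) (μ⁻¹ • v) = 1 := by
        rw [hermForm_smul_left, hermForm_smul_right, ← ha, ← hμ, inv_pow, pow_succ]
        field_simp
      have h00 : hermForm n F q (Pi.single i0 (1 : F) : Fin n → F) (Pi.single i0 1) = 1 := by
        rw [herm_single_single n _ _ hq, if_pos rfl]
      obtain ⟨t, htm, l, hl0, htl⟩ := Tv_move hF n hn h32 (μ⁻¹ • v) (Pi.single i0 1) hv1 h00
      have htv : gact n t v = (μ * l) • (Pi.single i0 (1 : F) : Fin n → F) := by
        have : v = μ • (μ⁻¹ • v) := by rw [smul_smul, mul_inv_cancel₀ hμ0, one_smul]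
        rw [this, gact_smul, htl, smul_smul]
      have hNl : (μ * l) ^ (q + 1) = a := by
        have h1 := herm_gact n t v v
        rw [htv, hermForm_smul_left, hermForm_smul_right, h00, mul_one] at h1
        rw [pow_succ, mul_comm]
        rw [← ha] at h1
        exact h1
      have hconj := conj_qtv hF n t v c hc
      have h3 : t * qtv hF n v c hc * t⁻¹ = dil hF i0 (detN hF (qtv hF n v c hc)) := by
        rw [hconj, dil_apply]
        rw [qtv_congr hF n htv rfl _ (by rw [← htv]; unfold QCond at hc ⊢; rw [herm_gact]; exact hc)]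
        rw [qtv_smul hF n (μ * l) (Pi.single i0 1) c _ (by
          have := qcond_dil hF i0 (detN hF (qtv hF n v c hc))
          rw [detN_qtv, ← ha] at this
          rw [hNl]
          convert this using 1
          ring)]
        apply qtv_congr hF n rfl
        rw [detN_qtv, hNl, ← ha]
        ring
      have h4 : π (t * qtv hF n v c hc * t⁻¹) = π (qtv hF n v c hc) := by
        have ht1 : π t = 1 := (QuotientGroup.eq_one_iff _).mpr htm
        rw [map_mul, map_mul, map_inv, ht1, inv_one, one_mul, mul_one]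
      rw [← h4, h3]
  have hgK : g ∈ K := by rw [hKtop]; exact Subgroup.mem_top g
  have h5 : π g = π (dil hF i0 (detN hF g)) := hgK
  have h6 : detN hF g = 1 := by
    apply Subtype.ext
    apply Units.ext
    rw [detN_coe, hg]
    rfl
  rw [h6, map_one, map_one] at h5
  exact (QuotientGroup.eq_one_iff _).mp h5

end generation

end Cfsg.Agent.Lib.Helper5.HermGen
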