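import Mathlib
import Cfsg.Prelude
import Cfsg.Agent.Lib.Helper5.HermGen

set_option autoImplicit false
set_option linter.unusedSectionVars false
set_option linter.unusedVariables false
set_option linter.unusedSimpArgs false
open Cfsg

/-! The bridge between `SU_n(q)` (inside `SL_n`) and the subgroup of `GU_n(q)` generated by the
unitary transvections; `SU_n(q)` is generated by the unitary transvections. -/

namespace Cfsg.Agent.Lib.Helper5.HermSU

open Matrix Cfsg.Agent.Lib.Helper5.Herm Cfsg.Agent.Lib.Helper5.HermBlock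
  Cfsg.Agent.Lib.Helper5.HermBridge Cfsg.Agent.Lib.Helper5.HermCount
  Cfsg.Agent.Lib.Helper5.HermCard Cfsg.Agent.Lib.Helper5.HermFrames Cfsg.Agent.Lib.Helper5.HermTv
  Cfsg.Agent.Lib.Helper5.HermGen

variable {F : Type*} [Field F] [Fintype F] {q : ℕ} (hF : Fintype.card F = q ^ 2) (n : ℕ)

/-- the inclusion of `SU` into `GU` -/
noncomputable def toGU : ↥(Cfsg.SU n F q) →* ↥(Cfsg.GU n F q) where
  toFun A := ⟨Matrix.SpecialLinearGroup.toGL A.1, fun u v => A.2 u v⟩
  map_one' := by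
    apply Subtype.ext
    exact map_one _
  map_mul' A B := by
    apply Subtype.ext
    exact map_mul _ A.1 B.1

omit [Fintype F] in
theorem toGU_coe (A : ↥(Cfsg.SU n F q)) :
    (((toGU n A : ↥(Cfsg.GU n F q)) : Matrix.GeneralLinearGroup (Fin n) F) :
      Matrix (Fin n) (Fin n) F) = ((A : Matrix.SpecialLinearGroup (Fin n) F) :
      Matrix (Fin n) (Fin n) F) := rfl

omit [Fintype F] in
theorem toGU_injective : Function.Injective (toGU (F := F) (q := q) n) := by
  intro A B h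
  apply Subtype.ext
  apply Subtype.ext
  have := congrArg (fun g : ↥(Cfsg.GU n F q) =>
    ((g : Matrix.GeneralLinearGroup (Fin n) F) : Matrix (Fin n) (Fin n) F)) h
  exact this

omit [Fintype F] in
theorem exists_toGU_eq (g : ↥(Cfsg.GU n F q))
    (hg : ((g : Matrix.GeneralLinearGroup (Fin n) F) : Matrix (Fin n) (Fin n) F).det = 1) :
    ∃ A : ↥(Cfsg.SU n F q), toGU n A = g := by
  refine ⟨⟨⟨((g : Matrix.GeneralLinearGroup (Fin n) F) : Matrix (Fin n) (Fin n) F), hg⟩,
    fun u v => g.2 u v⟩, ?_⟩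
  apply Subtype.ext
  apply Units.ext
  rfl

omit [Fintype F] in
theorem det_toGU (A : ↥(Cfsg.SU n F q)) :
    (((toGU n A : ↥(Cfsg.GU n F q)) : Matrix.GeneralLinearGroup (Fin n) F) :
      Matrix (Fin n) (Fin n) F).det = 1 := A.1.2

omit [Fintype F] in
/-- the elements of the group generated by the transvections have determinant one -/
theorem det_of_mem_Tv (g : ↥(Cfsg.GU n F q)) (hg : g ∈ Tv (F := F) (q := q) n) :
    ((g : Matrix.GeneralLinearGroup (Fin n) F) : Matrix (Fin n) (Fin n) F).det = 1 := by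
  unfold Tv at hg
  induction hg using Subgroup.closure_induction with
  | mem y hy =>
    obtain ⟨v, c, hv, hy⟩ := hy
    rw [hy, det_tv, hv, mul_zero, add_zero]
  | one => simp
  | mul y z _ _ hy hz =>
    rw [Subgroup.coe_mul, Units.val_mul, det_mul, hy, hz, mul_one]
  | inv y _ hy =>
    have h1 : ((y : Matrix.GeneralLinearGroup (Fin n) F) : Matrix (Fin n) (Fin n) F) *
        (((y⁻¹ : ↥(Cfsg.GU n F q)) : Matrix.GeneralLinearGroup (Fin n) F) :
          Matrix (Fin n) (Fin n) F) = 1 := by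
      rw [Subgroup.coe_inv]
      exact Units.mul_inv _
    have h2 := congrArg Matrix.det h1
    rw [det_mul, hy, one_mul, det_one] at h2
    exact h2

include hF in
theorem mem_Tv_iff (hn : 3 ≤ n) (h32 : ¬ (n = 3 ∧ q = 2)) (g : ↥(Cfsg.GU n F q)) :
    g ∈ Tv (F := F) (q := q) n ↔
      ((g : Matrix.GeneralLinearGroup (Fin n) F) : Matrix (Fin n) (Fin n) F).det = 1 :=
  ⟨det_of_mem_Tv n g, mem_Tv_of_det hF hn h32 g⟩

include hF in
theorem toGU_mem_Tv (hn : 3 ≤ n) (h32 : ¬ (n = 3 ∧ q = 2)) (A : ↥(Cfsg.SU n F q)) :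
    toGU n A ∈ Tv (F := F) (q := q) n :=
  mem_Tv_of_det hF hn h32 _ (det_toGU n A)

omit [Fintype F] in
theorem exists_toGU_of_mem_Tv (g : ↥(Cfsg.GU n F q)) (hg : g ∈ Tv (F := F) (q := q) n) :
    ∃ A : ↥(Cfsg.SU n F q), toGU n A = g :=
  exists_toGU_eq n g (det_of_mem_Tv n g hg)

/-- the set of unitary transvections in `SU` -/
def tvSet (F : Type*) [Field F] (q n : ℕ) : Set ↥(Cfsg.SU n F q) :=
  {A : ↥(Cfsg.SU n F q) | ∃ (v : Fin n → F) (c : F), Cfsg.hermForm n F q v v = 0 ∧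
    ((A : Matrix.SpecialLinearGroup (Fin n) F) : Matrix (Fin n) (Fin n) F) =
      Cfsg.unitaryTransvection n q v c}

omit [Fintype F] in
theorem map_closure_tvSet :
    (Subgroup.closure (tvSet F q n)).map (toGU n) = Tv (F := F) (q := q) n := by
  rw [MonoidHom.map_closure]
  unfold Tv
  congr 1
  ext g
  constructor
  · rintro ⟨A, ⟨v, c, hv, hA⟩, rfl⟩
    exact ⟨v, c, hv, hA⟩
  · rintro ⟨v, c, hv, hg⟩
    obtain ⟨A, hA⟩ := exists_toGU_eq n g (by rw [hg, det_tv, hv, mul_zero, add_zero])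
    refine ⟨A, ⟨v, c, hv, ?_⟩, hA⟩
    rw [← toGU_coe, hA, hg]

include hF in
/-- `SU_n(q)` is generated by the unitary transvections -/
theorem closure_tvSet (hn : 3 ≤ n) (h32 : ¬ (n = 3 ∧ q = 2)) :
    Subgroup.closure (tvSet F q n) = ⊤ := by
  apply Subgroup.map_injective (toGU_injective n)
  rw [map_closure_tvSet]
  ext g
  constructor
  · intro hg
    obtain ⟨A, hA⟩ := exists_toGU_of_mem_Tv n g hg
    exact ⟨A, Subgroup.mem_top A, hA⟩
  · rintro ⟨A, -, rfl⟩
    exact toGU_mem_Tv hF n hn h32 A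

end Cfsg.Agent.Lib.Helper5.HermSU
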