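import Mathlib
import Cfsg.Prelude
import Cfsg.Agent.Lib.Helper5.HermSU

set_option autoImplicit false
set_option linter.unusedSectionVars false
set_option linter.unusedVariables false
set_option linter.unusedSimpArgs false
open Cfsg

/-! The unipotent radical of the stabiliser of an isotropic point in the unitary group: the
elements `v ↦ v + h(v,x) w + (b h(v,x) - h(v,w)) x` with `w ⊥ x`, `b + b^q + h(w,w) = 0`. They have
determinant one, and their commutators are the transvections with centre `x`. -/

namespace Cfsg.Agent.Lib.Helper5.HermEich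

open Matrix Cfsg.Agent.Lib.Helper5.Herm Cfsg.Agent.Lib.Helper5.HermBlock
  Cfsg.Agent.Lib.Helper5.HermBridge Cfsg.Agent.Lib.Helper5.HermCount
  Cfsg.Agent.Lib.Helper5.HermCard Cfsg.Agent.Lib.Helper5.HermFrames Cfsg.Agent.Lib.Helper5.HermTv
  Cfsg.Agent.Lib.Helper5.HermGen Cfsg.Agent.Lib.Helper5.HermSU

section rk1
variable {F : Type*} [Field F] (n q : ℕ)

/-- the matrix of `v ↦ v + h(v,a) • b` -/
def rk1 (a b : Fin n → F) : Matrix (Fin n) (Fin n) F := 1 + vecMulVec b (fun j => a j ^ q)

theorem rk1_mulVec (a b v : Fin n → F) :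
    rk1 n q a b *ᵥ v = v + hermForm n F q v a • b := by
  unfold rk1 hermForm
  rw [add_mulVec, one_mulVec, vecMulVec_mulVec]
  ext i
  simp only [dotProduct, Pi.add_apply, Pi.smul_apply, smul_eq_mul, MulOpposite.smul_eq_mul_unop,
    MulOpposite.unop_op]
  congr 1
  rw [mul_comm]
  congr 1
  exact Finset.sum_congr rfl fun j _ => mul_comm _ _

theorem det_rk1 (a b : Fin n → F) : (rk1 n q a b).det = 1 + hermForm n F q b a := by
  unfold rk1
  rw [vecMulVec_eq Unit, det_one_add_replicateCol_mul_replicateRow]
  congr 1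
  unfold hermForm
  rw [dotProduct]
  exact Finset.sum_congr rfl fun j _ => mul_comm _ _

end rk1

section eich
variable {F : Type*} [Field F] [Fintype F] {q : ℕ} (hF : Fintype.card F = q ^ 2) (n : ℕ)

/-- the matrix of `v ↦ v + h(v,x) w + (b h(v,x) - h(v,w)) x` -/
def eichMat (q : ℕ) (x w : Fin n → F) (b : F) : Matrix (Fin n) (Fin n) F :=
  rk1 n q x (w + b • x) * rk1 n q w (-x)

omit [Fintype F] in
theorem eichMat_mulVec (x w : Fin n → F) (b : F) (hx : hermForm n F q x x = 0) (v : Fin n → F) :
    eichMat n q x w b *ᵥ v =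
      v + hermForm n F q v x • w + (b * hermForm n F q v x - hermForm n F q v w) • x := by
  unfold eichMat
  rw [← mulVec_mulVec, rk1_mulVec, rk1_mulVec, hermForm_add_left, hermForm_smul_left,
    show (-x : Fin n → F) = (-1 : F) • x by rw [neg_one_smul], hermForm_smul_left, hx]
  module

omit [Fintype F] in
theorem hermForm_neg_left (u v : Fin n → F) : hermForm n F q (-u) v = - hermForm n F q u v := by
  rw [show (-u : Fin n → F) = (-1 : F) • u by rw [neg_one_smul], hermForm_smul_left]
  ring

include hF in
theorem hermForm_neg_right (u v : Fin n → F) : hermForm n F q u (-v) = - hermForm n F q u v := by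
  rw [show (-v : Fin n → F) = (-1 : F) • v by rw [neg_one_smul], hermForm_smul_right,
    pow_q_neg_one hF]
  ring

include hF in
theorem herm_symm_zero {u v : Fin n → F} (h : hermForm n F q u v = 0) :
    hermForm n F q v u = 0 := by
  rw [← hermForm_conj hF, h, zero_pow (q_ne_zero hF)]

omit [Fintype F] in
theorem det_eichMat (x w : Fin n → F) (b : F) (hx : hermForm n F q x x = 0)
    (hwx : hermForm n F q w x = 0) (hxw : hermForm n F q x w = 0) :
    (eichMat n q x w b).det = 1 := by
  unfold eichMat
  rw [det_mul, det_rk1, det_rk1, hermForm_add_left, hermForm_smul_left, hx, hwx, hermForm_neg_left,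
    hxw]
  ring

/-- the hypotheses on the parameters -/
structure EHyp (q : ℕ) (x w : Fin n → F) (b : F) : Prop where
  hx : hermForm n F q x x = 0
  hwx : hermForm n F q w x = 0
  hb : b + b ^ q + hermForm n F q w w = 0

include hF in
theorem EHyp.hxw {x w : Fin n → F} {b : F} (H : EHyp n q x w b) : hermForm n F q x w = 0 :=
  herm_symm_zero hF n H.hwx

include hF in
theorem EHyp.inv {x w : Fin n → F} {b : F} (H : EHyp n q x w b) : EHyp n q x (-w) (b ^ q) where
  hx := H.hx
  hwx := by rw [hermForm_neg_left, H.hwx, neg_zero]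
  hb := by
    rw [pow_q_pow_q hF, hermForm_neg_left, hermForm_neg_right hF, neg_neg]
    linear_combination H.hb

include hF in
theorem eichMat_mul_inv {x w : Fin n → F} {b : F} (H : EHyp n q x w b) :
    eichMat n q x w b * eichMat n q x (-w) (b ^ q) = 1 := by
  rw [ext_iff_mulVec]
  intro v
  rw [← mulVec_mulVec, one_mulVec, eichMat_mulVec n _ _ _ H.hx, eichMat_mulVec n _ _ _ H.hx]
  simp only [hermForm_add_left, hermForm_smul_left, hermForm_neg_left, hermForm_neg_right hF, H.hx,
    H.hwx, H.hxw hF]
  have hb : hermForm n F q w w = -(b + b ^ q) := by linear_combination H.hb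
  rw [hb]
  module

/-- the unipotent element with parameters `x`, `w`, `b` -/
noncomputable def eich (x w : Fin n → F) (b : F) (H : EHyp n q x w b) : ↥(Cfsg.GU n F q) :=
  ⟨⟨eichMat n q x w b, eichMat n q x (-w) (b ^ q), eichMat_mul_inv hF n H, by
      have := eichMat_mul_inv hF n (H.inv hF n)
      rw [neg_neg, pow_q_pow_q hF] at this
      exact this⟩,
    by
      intro u v
      show hermForm n F q (eichMat n q x w b *ᵥ u) (eichMat n q x w b *ᵥ v) = _
      rw [eichMat_mulVec n _ _ _ H.hx, eichMat_mulVec n _ _ _ H.hx]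
      simp only [hermForm_add_left, hermForm_add_right hF, hermForm_smul_left, hermForm_smul_right,
        H.hx, H.hwx, H.hxw hF, pow_q_sub hF, mul_pow, hermForm_conj hF]
      have hb := H.hb
      linear_combination (hermForm n F q u x * hermForm n F q x v) * hb⟩

theorem gact_eich (x w : Fin n → F) (b : F) (H : EHyp n q x w b) (v : Fin n → F) :
    gact n (eich hF n x w b H) v =
      v + hermForm n F q v x • w + (b * hermForm n F q v x - hermForm n F q v w) • x :=
  eichMat_mulVec n x w b H.hx v

theorem det_eich (x w : Fin n → F) (b : F) (H : EHyp n q x w b) :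
    (((eich hF n x w b H : ↥(Cfsg.GU n F q)) : Matrix.GeneralLinearGroup (Fin n) F) :
      Matrix (Fin n) (Fin n) F).det = 1 :=
  det_eichMat n x w b H.hx H.hwx (H.hxw hF)

theorem gact_eich_self (x w : Fin n → F) (b : F) (H : EHyp n q x w b) :
    gact n (eich hF n x w b H) x = x := by
  rw [gact_eich, H.hx, H.hxw hF]
  simp

/-- the commutation relation -/
theorem eich_mul_eich (x w w' : Fin n → F) (b b' : F) (H : EHyp n q x w b)
    (H' : EHyp n q x w' b')
    (hc : QCond n q x (hermForm n F q w w' - hermForm n F q w' w)) :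
    eich hF n x w b H * eich hF n x w' b' H' =
      qtv hF n x _ hc * (eich hF n x w' b' H' * eich hF n x w b H) := by
  apply ext_gact
  intro v
  rw [gact_mul, gact_mul, gact_mul, gact_qtv, gact_eich, gact_eich, gact_eich, gact_eich]
  simp only [hermForm_add_left, hermForm_smul_left, H.hx, H.hwx, H.hxw hF, H'.hwx, H'.hxw hF]
  module

open scoped commutatorElement in
/-- a transvection as a commutator -/
theorem commutator_eich (x w w' : Fin n → F) (b b' : F) (H : EHyp n q x w b)
    (H' : EHyp n q x w' b')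
    (hc : QCond n q x (hermForm n F q w w' - hermForm n F q w' w)) :
    ⁅eich hF n x w b H, eich hF n x w' b' H'⁆ = qtv hF n x _ hc := by
  rw [commutatorElement_def, eich_mul_eich hF n x w w' b b' H H' hc]
  group

end eich

section comm
variable {F : Type*} [Field F] [Fintype F] {q : ℕ} (hF : Fintype.card F = q ^ 2) (n : ℕ)

include hF in
/-- every trace-zero element is of the form `l ^ q - l` -/
theorem exists_sub_conj (c : F) (hc : c ^ q = -c) : ∃ l : F, l ^ q - l = c := by
  obtain ⟨ε, hε0, hε⟩ := exists_trace_zero hF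
  have hd : (c / ε) ^ q = c / ε := by
    rw [div_pow, hc, hε, neg_div_neg_eq]
  obtain ⟨μ, hμ⟩ := exists_trace_eq hF (c / ε) hd
  refine ⟨-(ε * μ), ?_⟩
  rw [pow_q_neg hF, mul_pow, hε]
  have : ε * (μ + μ ^ q) = c := by rw [hμ]; field_simp
  linear_combination this

include hF in
/-- a nonzero isotropic vector has an orthogonal vector of norm one -/
theorem exists_unit_perp (hn : 3 ≤ n) (x : Fin n → F) (hx0 : x ≠ 0)
    (hx : hermForm n F q x x = 0) :
    ∃ w : Fin n → F, hermForm n F q w w = 1 ∧ hermForm n F q w x = 0 := by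
  have hq := q_ne_zero hF
  obtain ⟨z, hz⟩ := exists_norm_eq hF (-1 : F) (by simp) (pow_q_neg_one hF)
  set i0 : Fin n := ⟨0, by omega⟩ with hi0
  set i1 : Fin n := ⟨1, by omega⟩ with hi1
  set i2 : Fin n := ⟨2, by omega⟩ with hi2
  have h01 : i0 ≠ i1 := by intro h; have := congrArg Fin.val h; simp [i0, i1] at this
  have h02 : i0 ≠ i2 := by intro h; have := congrArg Fin.val h; simp [i0, i2] at this
  have h12 : i1 ≠ i2 := by intro h; have := congrArg Fin.val h; simp [i1, i2] at this
  set x₀ : Fin n → F := Pi.single i1 1 + z • Pi.single i2 1 with hx₀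
  have hx₀x₀ : hermForm n F q x₀ x₀ = 0 := by
    simp only [hx₀, hermForm_add_left, hermForm_add_right hF, hermForm_smul_left,
      hermForm_smul_right, herm_single_single n _ _ hq, if_neg h12, if_neg (Ne.symm h12),
      ↓reduceIte]
    rw [pow_succ] at hz
    linear_combination hz
  have hx₀0 : x₀ ≠ 0 := by
    intro h
    have := congrFun h i1
    simp [hx₀, h12] at this
  have hw₀x₀ : hermForm n F q (Pi.single i0 (1 : F) : Fin n → F) x₀ = 0 := by
    simp only [hx₀, hermForm_add_right hF, hermForm_smul_right, herm_single_single n _ _ hq,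
      if_neg h01, if_neg h02]
    ring
  obtain ⟨g, hg⟩ := exists_GU_map hF n x₀ x hx₀0 hx0 hx₀x₀ hx
  refine ⟨gact n g (Pi.single i0 1), ?_, ?_⟩
  · rw [herm_gact, herm_single_single n _ _ hq, if_pos rfl]
  · have : x = gact n g x₀ := hg.symm
    rw [this, herm_gact, hw₀x₀]

open scoped commutatorElement in
include hF in
/-- every unitary transvection is a commutator of two elements of determinant one -/
theorem qtv_eq_commutator (hn : 3 ≤ n) (x : Fin n → F) (hx0 : x ≠ 0)
    (hx : hermForm n F q x x = 0) (c : F) (hc : QCond n q x c) :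
    ∃ B C : ↥(Cfsg.GU n F q),
      ((B : Matrix.GeneralLinearGroup (Fin n) F) : Matrix (Fin n) (Fin n) F).det = 1 ∧
      ((C : Matrix.GeneralLinearGroup (Fin n) F) : Matrix (Fin n) (Fin n) F).det = 1 ∧
      ⁅B, C⁆ = qtv hF n x c hc := by
  obtain ⟨w, hww, hwx⟩ := exists_unit_perp hF n hn x hx0 hx
  have hc' : c ^ q = -c := (qcond_iso n hx c).mp hc
  obtain ⟨l, hl⟩ := exists_sub_conj hF c hc'
  obtain ⟨b, hb⟩ := exists_trace_eq hF (-1 : F) (pow_q_neg_one hF)
  have hlw : hermForm n F q (l • w) (l • w) = l ^ (q + 1) := by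
    rw [hermForm_smul_left, hermForm_smul_right, hww, pow_succ]
    ring
  obtain ⟨b', hb'⟩ := exists_trace_eq hF (-(l ^ (q + 1))) (by
    rw [pow_q_neg hF, ← hlw, herm_self_fixed hF])
  have H : EHyp n q x w b := ⟨hx, hwx, by rw [hww]; linear_combination hb⟩
  have H' : EHyp n q x (l • w) b' := ⟨hx, by rw [hermForm_smul_left, hwx, mul_zero], by
    rw [hlw]; linear_combination hb'⟩
  have hcc : hermForm n F q w (l • w) - hermForm n F q (l • w) w = c := by
    rw [hermForm_smul_left, hermForm_smul_right, hww]
    linear_combination hl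
  refine ⟨eich hF n x w b H, eich hF n x (l • w) b' H', det_eich hF n _ _ _ H,
    det_eich hF n _ _ _ H', ?_⟩
  rw [commutator_eich hF n x w (l • w) b b' H H' (by rw [hcc]; exact hc)]
  exact qtv_congr hF n rfl hcc _ _

include hF in
/-- an element of `GU` which is a transvection with nonzero isotropic centre has a parameter of
trace zero -/
theorem qcond_of_mem (g : ↥(Cfsg.GU n F q)) (v : Fin n → F) (c : F) (hv0 : v ≠ 0)
    (hv : hermForm n F q v v = 0)
    (hg : ((g : Matrix.GeneralLinearGroup (Fin n) F) : Matrix (Fin n) (Fin n) F) =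
      unitaryTransvection n q v c) : QCond n q v c := by
  obtain ⟨f, hf, hvf⟩ := exists_partner hF n v hv0 hv
  have hfv : hermForm n F q f v = 1 := herm_fe hF hvf
  have h1 := herm_gact n g f f
  unfold gact at h1
  rw [hg, hermForm_unitaryTransvection hF, hfv, hvf, hv] at h1
  rw [qcond_iso n hv]
  linear_combination h1

omit [Fintype F] in
theorem tv_zero_centre (c : F) : unitaryTransvection n q (0 : Fin n → F) c = 1 := by
  rw [ext_iff_mulVec]
  intro x
  rw [unitaryTransvection_mulVec, smul_zero, add_zero, one_mulVec]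

open scoped commutatorElement in
include hF in
/-- every unitary transvection in `SU_n(q)`, `n ≥ 3`, is a commutator -/
theorem mem_commutatorSet_SU (hn : 3 ≤ n) (A : ↥(Cfsg.SU n F q)) (v : Fin n → F) (c : F)
    (hv : hermForm n F q v v = 0)
    (hA : ((A : Matrix.SpecialLinearGroup (Fin n) F) : Matrix (Fin n) (Fin n) F) =
      unitaryTransvection n q v c) : A ∈ commutatorSet ↥(Cfsg.SU n F q) := by
  by_cases hv0 : v = 0
  · have hA1 : A = 1 := by
      apply Subtype.ext
      apply Subtype.ext
      rw [hA, hv0, tv_zero_centre]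
      rfl
    rw [hA1]
    exact ⟨1, 1, by simp⟩
  · have hc : QCond n q v c := qcond_of_mem hF n (toGU n A) v c hv0 hv (by rw [toGU_coe, hA])
    obtain ⟨B, C, hB, hC, hBC⟩ := qtv_eq_commutator hF n hn v hv0 hv c hc
    obtain ⟨B', rfl⟩ := exists_toGU_eq n B hB
    obtain ⟨C', rfl⟩ := exists_toGU_eq n C hC
    refine ⟨B', C', ?_⟩
    apply toGU_injective n
    rw [map_commutatorElement, hBC]
    apply Subtype.ext
    apply Units.ext
    rw [qtv_coe, toGU_coe, hA]

end comm

end Cfsg.Agent.Lib.Helper5.HermEich
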