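import Mathlib
import Cfsg.Prelude
import Cfsg.Agent.Lib.Helper5.HermEich
import Cfsg.Agent.Lib.Helper5.SympPrimitive

set_option autoImplicit false
set_option linter.unusedSectionVars false
set_option linter.unusedVariables false
set_option linter.unusedSimpArgs false
open Cfsg

/-! Simplicity of `PSU_n(q)` via Iwasawa's criterion applied to the action of `SU_n(q)` on the
isotropic points. -/

namespace Cfsg.Agent.Lib.Helper5.HermSimple

open Matrix Cfsg.Agent.Lib.Helper5.Herm Cfsg.Agent.Lib.Helper5.HermBlock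
  Cfsg.Agent.Lib.Helper5.HermBridge Cfsg.Agent.Lib.Helper5.HermCount
  Cfsg.Agent.Lib.Helper5.HermCard Cfsg.Agent.Lib.Helper5.HermFrames Cfsg.Agent.Lib.Helper5.HermTv
  Cfsg.Agent.Lib.Helper5.HermGen Cfsg.Agent.Lib.Helper5.HermSU Cfsg.Agent.Lib.Helper5.HermEich

section geom
variable {F : Type*} [Field F] [Fintype F] {q : ℕ} (hF : Fintype.card F = q ^ 2) (n : ℕ)

include hF in
/-- making a vector isotropic by adding a multiple of an isotropic vector -/
theorem exists_iso_add (x v : Fin n → F) (hx : hermForm n F q x x = 0)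
    (hxv : hermForm n F q x v = 1) :
    ∃ μ : F, hermForm n F q (v + μ • x) (v + μ • x) = 0 ∧ hermForm n F q x (v + μ • x) = 1 := by
  have hvx : hermForm n F q v x = 1 := herm_fe hF hxv
  obtain ⟨μ, hμ⟩ := exists_trace_eq hF (-(hermForm n F q v v)) (by
    rw [pow_q_neg hF, herm_self_fixed hF])
  refine ⟨μ, ?_, ?_⟩
  · simp only [hermForm_add_left, hermForm_add_right hF, hermForm_smul_left, hermForm_smul_right,
      hx, hxv, hvx]
    linear_combination hμ
  · simp only [hermForm_add_right hF, hermForm_smul_right, hx, hxv]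
    ring

include hF in
/-- rescaling to a hyperbolic pair -/
theorem exists_scale (x v : Fin n → F) (hxv : hermForm n F q x v ≠ 0) :
    ∃ κ : F, κ ≠ 0 ∧ hermForm n F q x (κ • v) = 1 := by
  refine ⟨((hermForm n F q x v)⁻¹) ^ q, pow_ne_zero _ (inv_ne_zero hxv), ?_⟩
  rw [hermForm_smul_right, pow_q_pow_q hF, inv_mul_cancel₀ hxv]

include hF in
/-- making a vector isotropic by adding a multiple of an isotropic vector not orthogonal to it -/
theorem exists_iso_comb (x v : Fin n → F) (hx : hermForm n F q x x = 0)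
    (hxv : hermForm n F q x v ≠ 0) :
    ∃ κ μ : F, κ ≠ 0 ∧ hermForm n F q (κ • v + μ • x) (κ • v + μ • x) = 0 ∧
      hermForm n F q x (κ • v + μ • x) = 1 := by
  obtain ⟨κ, hκ0, hκ⟩ := exists_scale hF n x v hxv
  obtain ⟨μ, h1, h2⟩ := exists_iso_add hF n x (κ • v) hx hκ
  exact ⟨κ, μ, hκ0, h1, h2⟩

include hF in
/-- the group generated by the transvections moves an isotropic point to any non-orthogonal
isotropic point -/
theorem move_nonorth (x y : Fin n → F) (hx : hermForm n F q x x = 0)
    (hy : hermForm n F q y y = 0) (hxy : hermForm n F q x y ≠ 0) :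
    ∃ t ∈ Tv (F := F) (q := q) n, ∃ a : F, a ≠ 0 ∧ gact n t x = a • y := by
  obtain ⟨β, hβ0, hβ⟩ := exists_scale hF n x y hxy
  obtain ⟨c, hc0, hc⟩ := exists_trace_zero hF
  set f : Fin n → F := β • y with hf
  have hff : hermForm n F q f f = 0 := by
    rw [hf, hermForm_smul_left, hermForm_smul_right, hy]; ring
  have hfx : hermForm n F q f x = 1 := herm_fe hF hβ
  clear_value f
  set p : Fin n → F := x + c • f with hp
  have hpp : hermForm n F q p p = 0 := by
    simp only [hp, hermForm_add_left, hermForm_add_right hF, hermForm_smul_left,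
      hermForm_smul_right, hx, hff, hβ, hfx]
    linear_combination hc
  have hxp : hermForm n F q x p = -c := by
    simp only [hp, hermForm_add_right hF, hermForm_smul_right, hx, hβ]
    linear_combination hc
  have hcc : QCond n q p c⁻¹ := (qcond_iso n hpp _).mpr (by rw [inv_pow, hc, inv_neg])
  refine ⟨qtv hF n p c⁻¹ hcc, qtv_mem_Tv hF n p _ hpp hcc, -c * β,
    mul_ne_zero (neg_ne_zero.mpr hc0) hβ0, ?_⟩
  rw [gact_qtv, hxp, hp, hf]
  have : c⁻¹ * -c = -1 := by field_simp
  rw [this]
  module

include hF in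
/-- an isotropic vector not orthogonal to either of two orthogonal isotropic vectors -/
theorem exists_cross (x z : Fin n → F) (hx0 : x ≠ 0) (hz0 : z ≠ 0)
    (hx : hermForm n F q x x = 0) (hz : hermForm n F q z z = 0)
    (hxz : hermForm n F q x z = 0) :
    ∃ w : Fin n → F, hermForm n F q w w = 0 ∧ hermForm n F q x w ≠ 0 ∧
      hermForm n F q z w ≠ 0 := by
  have hzx : hermForm n F q z x = 0 := herm_symm_zero hF n hxz
  obtain ⟨f₁, -, hf₁⟩ := exists_partner hF n x hx0 hx
  obtain ⟨f₂, -, hf₂⟩ := exists_partner hF n z hz0 hz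
  obtain ⟨v, hv1, hv2⟩ : ∃ v : Fin n → F, hermForm n F q x v ≠ 0 ∧ hermForm n F q z v ≠ 0 := by
    by_cases h1 : hermForm n F q z f₁ = 0
    · by_cases h2 : hermForm n F q x f₂ = 0
      · refine ⟨f₁ + f₂, ?_, ?_⟩
        · rw [hermForm_add_right hF, hf₁, h2, add_zero]; exact one_ne_zero
        · rw [hermForm_add_right hF, hf₂, h1, zero_add]; exact one_ne_zero
      · exact ⟨f₂, h2, by rw [hf₂]; exact one_ne_zero⟩
    · exact ⟨f₁, by rw [hf₁]; exact one_ne_zero, h1⟩
  obtain ⟨κ, μ, hκ0, hw, hxw⟩ := exists_iso_comb hF n x v hx hv1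
  refine ⟨κ • v + μ • x, hw, by rw [hxw]; exact one_ne_zero, ?_⟩
  rw [hermForm_add_right hF, hermForm_smul_right, hermForm_smul_right, hzx, mul_zero, add_zero]
  exact mul_ne_zero (pow_ne_zero _ hκ0) hv2

include hF in
/-- the group generated by the transvections is transitive on the isotropic points -/
theorem move (x y : Fin n → F) (hx0 : x ≠ 0) (hy0 : y ≠ 0) (hx : hermForm n F q x x = 0)
    (hy : hermForm n F q y y = 0) :
    ∃ t ∈ Tv (F := F) (q := q) n, ∃ a : F, a ≠ 0 ∧ gact n t x = a • y := by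
  by_cases hxy : hermForm n F q x y = 0
  · obtain ⟨w, hw, hxw, hyw⟩ := exists_cross hF n x y hx0 hy0 hx hy hxy
    obtain ⟨t1, ht1, a1, ha1, h1⟩ := move_nonorth hF n x w hx hw hxw
    have hwy : hermForm n F q w y ≠ 0 := by
      intro h
      exact hyw (herm_symm_zero hF n h)
    obtain ⟨t2, ht2, a2, ha2, h2⟩ := move_nonorth hF n w y hw hy hwy
    refine ⟨t2 * t1, Subgroup.mul_mem _ ht2 ht1, a1 * a2, mul_ne_zero ha1 ha2, ?_⟩
    rw [gact_mul, h1, gact_smul, h2, smul_smul]
  · exact move_nonorth hF n x y hx hy hxy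

include hF in
/-- the stabiliser of an isotropic vector `x` is transitive on the partners of `x` -/
theorem stab_move_aux (x y z : Fin n → F) (hx : hermForm n F q x x = 0)
    (hy : hermForm n F q y y = 0) (hz : hermForm n F q z z = 0)
    (hxy : hermForm n F q x y = 1) (hxz : hermForm n F q x z = 1) :
    ∃ g : ↥(Cfsg.GU n F q),
      ((g : Matrix.GeneralLinearGroup (Fin n) F) : Matrix (Fin n) (Fin n) F).det = 1 ∧
      gact n g x = x ∧ gact n g y = z := by
  have hyx : hermForm n F q y x = 1 := herm_fe hF hxy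
  have hzx : hermForm n F q z x = 1 := herm_fe hF hxz
  set α : F := hermForm n F q z y with hα
  have hyz : hermForm n F q y z = α ^ q := by rw [hα, hermForm_conj hF]
  set w : Fin n → F := z + (-1 : F) • y + (-α) • x with hw
  have hwx : hermForm n F q w x = 0 := by
    simp only [hw, hermForm_add_left, hermForm_smul_left, hx, hzx, hyx]
    ring
  have hww : hermForm n F q w w = -(α + α ^ q) := by
    simp only [hw, hermForm_add_left, hermForm_add_right hF, hermForm_smul_left,
      hermForm_smul_right, hx, hy, hz, hxy, hxz, hyx, hzx, hyz, ← hα, pow_q_neg hF,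
      pow_q_neg_one hF]
    ring
  have hyw : hermForm n F q y w = 0 := by
    simp only [hw, hermForm_add_right hF, hermForm_smul_right, hy, hyx, hyz, pow_q_neg hF,
      pow_q_neg_one hF]
    ring
  have H : EHyp n q x w α := ⟨hx, hwx, by rw [hww]; ring⟩
  refine ⟨eich hF n x w α H, det_eich hF n x w α H, gact_eich_self hF n x w α H, ?_⟩
  rw [gact_eich, hyx, hyw, hw]
  module

include hF in
/-- the stabiliser of an isotropic vector `x` is transitive on the isotropic points not
orthogonal to `x` -/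
theorem stab_move (x y z : Fin n → F) (hx : hermForm n F q x x = 0)
    (hy : hermForm n F q y y = 0) (hz : hermForm n F q z z = 0)
    (hxy : hermForm n F q x y ≠ 0) (hxz : hermForm n F q x z ≠ 0) :
    ∃ g : ↥(Cfsg.GU n F q),
      ((g : Matrix.GeneralLinearGroup (Fin n) F) : Matrix (Fin n) (Fin n) F).det = 1 ∧
      gact n g x = x ∧ ∃ a : F, a ≠ 0 ∧ gact n g y = a • z := by
  obtain ⟨β, hβ0, hβ⟩ := exists_scale hF n x y hxy
  obtain ⟨γ, hγ0, hγ⟩ := exists_scale hF n x z hxz
  obtain ⟨g, hg, hgx, hgy⟩ := stab_move_aux hF n x (β • y) (γ • z) hx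
    (by rw [hermForm_smul_left, hermForm_smul_right, hy]; ring)
    (by rw [hermForm_smul_left, hermForm_smul_right, hz]; ring) hβ hγ
  refine ⟨g, hg, hgx, β⁻¹ * γ, mul_ne_zero (inv_ne_zero hβ0) hγ0, ?_⟩
  rw [gact_smul] at hgy
  have : gact n g y = β⁻¹ • (β • gact n g y) := by
    rw [smul_smul, inv_mul_cancel₀ hβ0, one_smul]
  rw [this, hgy, smul_smul]

include hF in
/-- a vector orthogonal to `y` but not to `x` -/
theorem exists_perp_not_perp (x y : Fin n → F) (hy0 : y ≠ 0)
    (hxy : x ∉ Submodule.span F {y}) :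
    ∃ v : Fin n → F, hermForm n F q y v = 0 ∧ hermForm n F q x v ≠ 0 := by
  have hq := q_ne_zero hF
  by_contra hcon
  push Not at hcon
  obtain ⟨j, hj⟩ : ∃ j, y j ≠ 0 := by
    by_contra h
    push Not at h
    exact hy0 (funext h)
  apply hxy
  rw [Submodule.mem_span_singleton]
  refine ⟨x j / y j, ?_⟩
  funext i
  have h1 := hcon ((y j) ^ q • (Pi.single i (1 : F) : Fin n → F) +
    (-(y i) ^ q) • (Pi.single j (1 : F) : Fin n → F)) (by
    simp only [hermForm_add_right hF, hermForm_smul_right, hermForm_single_right n q hq,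
      pow_q_neg hF, pow_q_pow_q hF]
    ring)
  simp only [hermForm_add_right hF, hermForm_smul_right, hermForm_single_right n q hq,
    pow_q_neg hF, pow_q_pow_q hF] at h1
  simp only [Pi.smul_apply, smul_eq_mul]
  field_simp
  linear_combination -h1

include hF in
/-- an element fixing `y` and moving `x` to a non-orthogonal vector -/
theorem exists_fix_tilt (x y : Fin n → F) (hx : hermForm n F q x x = 0) (hy0 : y ≠ 0)
    (hyx : hermForm n F q y x = 0) (hxy : x ∉ Submodule.span F {y}) :
    ∃ t ∈ Tv (F := F) (q := q) n, gact n t y = y ∧ hermForm n F q x (gact n t x) ≠ 0 := by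
  obtain ⟨v, hyv, hxv⟩ := exists_perp_not_perp hF n x y hy0 hxy
  obtain ⟨κ, μ, hκ0, hw, hxw⟩ := exists_iso_comb hF n x v hx hxv
  set w : Fin n → F := κ • v + μ • x with hwdef
  have hyw : hermForm n F q y w = 0 := by
    simp only [hwdef, hermForm_add_right hF, hermForm_smul_right, hyv, hyx]
    ring
  clear_value w
  obtain ⟨c, hc0, hc⟩ := exists_trace_zero hF
  have hcc : QCond n q w c := (qcond_iso n hw _).mpr hc
  refine ⟨qtv hF n w c hcc, qtv_mem_Tv hF n w c hw hcc, ?_, ?_⟩
  · rw [gact_qtv, hyw, mul_zero, zero_smul, add_zero]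
  · rw [gact_qtv, hxw, mul_one, hermForm_add_right hF, hermForm_smul_right, hx, hxw, zero_add,
      mul_one]
    exact pow_ne_zero _ hc0

end geom

section scalar
variable {F : Type*} [Field F] [Fintype F] {q : ℕ} (hF : Fintype.card F = q ^ 2) (n : ℕ)

include hF in
/-- eigenvalues on non-orthogonal isotropic vectors agree -/
theorem eigen_eq_of_nonorth (g : ↥(Cfsg.GU n F q))
    (hg : ∀ u : Fin n → F, u ≠ 0 → hermForm n F q u u = 0 → ∃ a : F, gact n g u = a • u)
    (u v : Fin n → F) (hu : hermForm n F q u u = 0) (hv : hermForm n F q v v = 0)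
    (huv : hermForm n F q u v ≠ 0) (a b : F) (ha : gact n g u = a • u)
    (hb : gact n g v = b • v) : a = b := by
  obtain ⟨c, hc0, hc⟩ := exists_trace_zero hF
  set θ : F := hermForm n F q u v with hθ
  have hvu : hermForm n F q v u = θ ^ q := by rw [hθ, hermForm_conj hF]
  have hθq : θ ^ q ≠ 0 := pow_ne_zero _ huv
  set c' : F := c / θ ^ q with hc'
  have hc'q : c' ^ q = -c / θ := by rw [hc', div_pow, pow_q_pow_q hF, hc]
  have hc'0 : c' ≠ 0 := div_ne_zero hc0 hθq
  set p : Fin n → F := u + c' • v with hp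
  have hpp : hermForm n F q p p = 0 := by
    simp only [hp, hermForm_add_left, hermForm_add_right hF, hermForm_smul_left,
      hermForm_smul_right, hu, hv, hvu, ← hθ, hc'q]
    rw [hc']
    field_simp
    ring
  have hpu : hermForm n F q p u = c := by
    simp only [hp, hermForm_add_left, hermForm_smul_left, hu, hvu]
    rw [hc']
    field_simp
    ring
  have hp0 : p ≠ 0 := by
    intro h
    rw [h, hermForm_zero_left] at hpu
    exact hc0 hpu.symm
  obtain ⟨d, hd⟩ := hg p hp0 hpp
  rw [hp, gact_add, gact_smul, ha, hb] at hd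
  have e1 := congrArg (fun z => hermForm n F q z v) hd
  have e2 := congrArg (fun z => hermForm n F q z u) hd
  simp only [hermForm_add_left, hermForm_smul_left, hu, hv, hvu, ← hθ] at e1 e2
  have had : a = d := by
    have : (a - d) * θ = 0 := by linear_combination e1
    rcases mul_eq_zero.mp this with h | h
    · exact sub_eq_zero.mp h
    · exact absurd h huv
  have hbd : b = d := by
    have : (b - d) * (c' * θ ^ q) = 0 := by linear_combination e2
    rcases mul_eq_zero.mp this with h | h
    · exact sub_eq_zero.mp h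
    · exact absurd h (mul_ne_zero hc'0 hθq)
  rw [had, hbd]

include hF in
/-- all eigenvalues on isotropic vectors agree -/
theorem eigen_eq (g : ↥(Cfsg.GU n F q))
    (hg : ∀ u : Fin n → F, u ≠ 0 → hermForm n F q u u = 0 → ∃ a : F, gact n g u = a • u)
    (u v : Fin n → F) (hu0 : u ≠ 0) (hv0 : v ≠ 0) (hu : hermForm n F q u u = 0)
    (hv : hermForm n F q v v = 0) (a b : F) (ha : gact n g u = a • u)
    (hb : gact n g v = b • v) : a = b := by
  by_cases huv : hermForm n F q u v = 0
  · obtain ⟨w, hw, huw, hvw⟩ := exists_cross hF n u v hu0 hv0 hu hv huv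
    have hw0 : w ≠ 0 := by
      rintro rfl
      exact huw (hermForm_zero_right hF n u)
    obtain ⟨d, hd⟩ := hg w hw0 hw
    rw [eigen_eq_of_nonorth hF n g hg u w hu hw huw a d ha hd,
      eigen_eq_of_nonorth hF n g hg v w hv hw hvw b d hb hd]
  · exact eigen_eq_of_nonorth hF n g hg u v hu hv huv a b ha hb

include hF in
/-- every vector is a sum of three isotropic vectors two of which are multiples of `e`, `f` -/
theorem iso_decomp (e f : Fin n → F) (he : hermForm n F q e e = 0) (hf : hermForm n F q f f = 0)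
    (hef : hermForm n F q e f = 1) (x : Fin n → F) :
    ∃ (s : Fin n → F) (a b : F), hermForm n F q s s = 0 ∧ x = s + a • e + b • f := by
  have hfe : hermForm n F q f e = 1 := herm_fe hF hef
  set w : Fin n → F := x + (-(hermForm n F q x f)) • e + (-(hermForm n F q x e)) • f with hw
  have hwe : hermForm n F q w e = 0 := by
    simp only [hw, hermForm_add_left, hermForm_smul_left, he, hfe]
    ring
  have hwf : hermForm n F q w f = 0 := by
    simp only [hw, hermForm_add_left, hermForm_smul_left, hf, hef]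
    ring
  have hew : hermForm n F q e w = 0 := herm_symm_zero hF n hwe
  have hfw : hermForm n F q f w = 0 := herm_symm_zero hF n hwf
  obtain ⟨μ, hμ⟩ := exists_trace_eq hF (-(hermForm n F q w w)) (by
    rw [pow_q_neg hF, herm_self_fixed hF])
  refine ⟨w + μ • e + f, hermForm n F q x f - μ, hermForm n F q x e - 1, ?_, ?_⟩
  · simp only [hermForm_add_left, hermForm_add_right hF, hermForm_smul_left, hermForm_smul_right,
      he, hf, hef, hfe, hwe, hwf, hew, hfw]
    linear_combination hμ
  · rw [hw]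
    module

include hF in
/-- an element of `GU` fixing every isotropic point acts as a scalar -/
theorem scalar_of_fix (hn : 2 ≤ n) (g : ↥(Cfsg.GU n F q))
    (hg : ∀ u : Fin n → F, u ≠ 0 → hermForm n F q u u = 0 → ∃ a : F, gact n g u = a • u) :
    ∃ a : F, ∀ x : Fin n → F, gact n g x = a • x := by
  obtain ⟨e, f, he, hf, hef⟩ := exists_hyp_pair hF n hn
  have he0 : e ≠ 0 := by
    rintro rfl
    rw [hermForm_zero_left] at hef
    exact zero_ne_one hef
  obtain ⟨a, ha⟩ := hg e he0 he
  have hall : ∀ u : Fin n → F, hermForm n F q u u = 0 → gact n g u = a • u := by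
    intro u hu
    by_cases hu0 : u = 0
    · rw [hu0, smul_zero]
      exact mulVec_zero _
    · obtain ⟨b, hb⟩ := hg u hu0 hu
      rw [hb, eigen_eq hF n g hg e u he0 hu0 he hu a b ha hb]
  refine ⟨a, fun x => ?_⟩
  obtain ⟨s, c, d, hs, rfl⟩ := iso_decomp hF n e f he hf hef x
  rw [gact_add, gact_add, gact_smul, gact_smul, hall s hs, hall e he, hall f hf]
  module

end scalar

section action
variable {F : Type*} [Field F] [Fintype F] {q : ℕ} (hF : Fintype.card F = q ^ 2) (n : ℕ)

/-- the action of `SU` on vectors -/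
@[reducible] def suSMul : SMul ↥(Cfsg.SU n F q) (Fin n → F) where
  smul A v := ((A : Matrix.SpecialLinearGroup (Fin n) F) : Matrix (Fin n) (Fin n) F) *ᵥ v

attribute [local instance 2000] suSMul

/-- the action of `SU` on vectors -/
@[reducible] def suAction : DistribMulAction ↥(Cfsg.SU n F q) (Fin n → F) where
  toSMul := suSMul n
  one_smul v := by
    show gact n (toGU n (1 : ↥(Cfsg.SU n F q))) v = v
    rw [map_one, gact_one]
  mul_smul A B v := by
    show gact n (toGU n (A * B)) v = gact n (toGU n A) (gact n (toGU n B) v)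
    rw [map_mul, gact_mul]
  smul_zero A := mulVec_zero _
  smul_add A v w := mulVec_add _ v w

attribute [local instance 2000] suAction

omit [Fintype F] in
theorem su_smul_def (A : ↥(Cfsg.SU n F q)) (v : Fin n → F) : A • v = gact n (toGU n A) v := rfl

omit [Fintype F] in
theorem suSMulComm : SMulCommClass ↥(Cfsg.SU n F q) F (Fin n → F) :=
  ⟨fun A a v => mulVec_smul _ a v⟩

attribute [local instance 2000] suSMulComm

open scoped LinearAlgebra.Projectivization Pointwise

omit [Fintype F] in
theorem smul_mk' (A : ↥(Cfsg.SU n F q)) (v : Fin n → F) (hv : v ≠ 0) :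
    A • Projectivization.mk F v hv =
      Projectivization.mk F (A • v) ((smul_ne_zero_iff_ne A).mpr hv) := rfl

omit [Fintype F] in
theorem herm_smul (A : ↥(Cfsg.SU n F q)) (u v : Fin n → F) :
    hermForm n F q (A • u) (A • v) = hermForm n F q u v := herm_gact n (toGU n A) u v

/-- isotropic points -/
def IsIso (q : ℕ) (p : ℙ F (Fin n → F)) : Prop := hermForm n F q p.rep p.rep = 0

omit [Fintype F] in
theorem isIso_mk (v : Fin n → F) (hv : v ≠ 0) :
    IsIso n q (Projectivization.mk F v hv) ↔ hermForm n F q v v = 0 := by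
  obtain ⟨a, ha⟩ := Projectivization.exists_smul_eq_mk_rep F v hv
  unfold IsIso
  rw [← ha, Units.smul_def, hermForm_smul_left, hermForm_smul_right]
  constructor
  · intro h
    rcases mul_eq_zero.mp h with h1 | h1
    · exact absurd h1 a.ne_zero
    · rcases mul_eq_zero.mp h1 with h2 | h2
      · exact absurd h2 (pow_ne_zero _ a.ne_zero)
      · exact h2
  · intro h
    rw [h, mul_zero, mul_zero]

/-- the set of isotropic points, with the action of `SU` -/
def isoPts (F : Type*) [Field F] (q n : ℕ) : SubMulAction ↥(Cfsg.SU n F q) (ℙ F (Fin n → F)) where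
  carrier := {p | IsIso n q p}
  smul_mem' A p hp := by
    induction p using Projectivization.ind with
    | h v hv =>
      have hp' : IsIso n q (Projectivization.mk F v hv) := hp
      show IsIso n q (A • Projectivization.mk F v hv)
      rw [smul_mk', isIso_mk, herm_smul]
      exact (isIso_mk n v hv).mp hp'

/-- the action of `SU` on isotropic points -/
@[reducible] def isoSMul : SMul ↥(Cfsg.SU n F q) ↥(isoPts F q n) where
  smul A p := ⟨A • p.1, (isoPts F q n).smul_mem A p.2⟩

attribute [local instance 2000] isoSMul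

/-- the action of `SU` on isotropic points -/
@[reducible] def isoAction : MulAction ↥(Cfsg.SU n F q) ↥(isoPts F q n) where
  toSMul := isoSMul n
  one_smul p := Subtype.ext (one_smul _ p.1)
  mul_smul A B p := Subtype.ext (mul_smul A B p.1)

attribute [local instance 2000] isoAction

/-- the isotropic point of an isotropic vector -/
def pt (v : Fin n → F) (hv : v ≠ 0) (hvv : hermForm n F q v v = 0) : ↥(isoPts F q n) :=
  ⟨Projectivization.mk F v hv, (isIso_mk n v hv).mpr hvv⟩

omit [Fintype F] in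
theorem pt_ind {P : ↥(isoPts F q n) → Prop} (h : ∀ v hv hvv, P (pt n v hv hvv))
    (p : ↥(isoPts F q n)) : P p := by
  obtain ⟨p, hp⟩ := p
  induction p using Projectivization.ind with
  | h v hv => exact h v hv ((isIso_mk n v hv).mp hp)

omit [Fintype F] in
theorem smul_pt (A : ↥(Cfsg.SU n F q)) (v : Fin n → F) (hv : v ≠ 0)
    (hvv : hermForm n F q v v = 0) :
    A • pt n v hv hvv = pt n (A • v) ((smul_ne_zero_iff_ne A).mpr hv)
      (by rw [herm_smul]; exact hvv) := Subtype.ext (smul_mk' n A v hv)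

omit [Fintype F] in
theorem pt_eq_pt_iff (v w : Fin n → F) (hv : v ≠ 0) (hw : w ≠ 0) (hvv : hermForm n F q v v = 0)
    (hww : hermForm n F q w w = 0) :
    pt n v hv hvv = pt n w hw hww ↔ ∃ a : F, a • w = v := by
  unfold pt
  rw [← Projectivization.mk_eq_mk_iff' F v w hv hw]
  constructor
  · intro h
    exact congrArg Subtype.val h
  · intro h
    exact Subtype.ext h

omit [Fintype F] in
/-- if `A` maps `y` to a multiple of `y'` then it maps the point of `y` to that of `y'` -/
theorem smul_pt_eq (A : ↥(Cfsg.SU n F q)) (y y' : Fin n → F) (hy : y ≠ 0) (hy' : y' ≠ 0)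
    (hyy : hermForm n F q y y = 0) (hyy' : hermForm n F q y' y' = 0) (a : F)
    (h : A • y = a • y') : A • pt n y hy hyy = pt n y' hy' hyy' := by
  rw [smul_pt, pt_eq_pt_iff]
  exact ⟨a, h.symm⟩

omit [Fintype F] in
theorem exists_SU_of_det (g : ↥(Cfsg.GU n F q))
    (hg : ((g : Matrix.GeneralLinearGroup (Fin n) F) : Matrix (Fin n) (Fin n) F).det = 1) :
    ∃ A : ↥(Cfsg.SU n F q), toGU n A = g ∧ ∀ v : Fin n → F, A • v = gact n g v := by
  obtain ⟨A, hA⟩ := exists_toGU_eq n g hg
  exact ⟨A, hA, fun v => by rw [su_smul_def, hA]⟩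

omit [Fintype F] in
theorem exists_SU_of_Tv (g : ↥(Cfsg.GU n F q)) (hg : g ∈ Tv (F := F) (q := q) n) :
    ∃ A : ↥(Cfsg.SU n F q), toGU n A = g ∧ ∀ v : Fin n → F, A • v = gact n g v :=
  exists_SU_of_det n g (det_of_mem_Tv n g hg)

include hF in
theorem ne_zero_of_herm_ne {x y : Fin n → F} (h : hermForm n F q x y ≠ 0) : y ≠ 0 := by
  rintro rfl
  exact h (hermForm_zero_right hF n x)

include hF in
theorem mem_of_nonorth {B : Set ↥(isoPts F q n)}
    (hB : MulAction.IsBlock ↥(Cfsg.SU n F q) B) (x y z : Fin n → F)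
    (hx : x ≠ 0) (hy : y ≠ 0) (hz : z ≠ 0) (hxx : hermForm n F q x x = 0)
    (hyy : hermForm n F q y y = 0) (hzz : hermForm n F q z z = 0)
    (hxB : pt n x hx hxx ∈ B) (hyB : pt n y hy hyy ∈ B) (hxy : hermForm n F q x y ≠ 0)
    (hxz : hermForm n F q x z ≠ 0) : pt n z hz hzz ∈ B := by
  obtain ⟨g, hg, hgx, a, ha, hgy⟩ := stab_move hF n x y z hxx hyy hzz hxy hxz
  obtain ⟨A, -, hA⟩ := exists_SU_of_det n g hg
  have h1 : A • pt n x hx hxx = pt n x hx hxx :=
    smul_pt_eq n A x x hx hx hxx hxx 1 (by rw [hA, hgx, one_smul])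
  have h2 : A • B = B := hB.smul_eq_of_mem hxB (by rw [h1]; exact hxB)
  have h3 : A • pt n y hy hyy ∈ A • B := Set.smul_mem_smul_set hyB
  rw [h2, smul_pt_eq n A y z hy hz hyy hzz a (by rw [hA, hgy])] at h3
  exact h3

include hF in
theorem block_univ_of_nonorth {B : Set ↥(isoPts F q n)}
    (hB : MulAction.IsBlock ↥(Cfsg.SU n F q) B) (x y : Fin n → F)
    (hx : x ≠ 0) (hy : y ≠ 0) (hxx : hermForm n F q x x = 0) (hyy : hermForm n F q y y = 0)
    (hxB : pt n x hx hxx ∈ B) (hyB : pt n y hy hyy ∈ B) (hxy : hermForm n F q x y ≠ 0) :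
    B = Set.univ := by
  rw [Set.eq_univ_iff_forall]
  intro p
  induction p using pt_ind with
  | h z hz hzz =>
    by_cases hxz : hermForm n F q x z = 0
    · obtain ⟨w, hww, hxw, hzw⟩ := exists_cross hF n x z hx hz hxx hzz hxz
      have hw0 : w ≠ 0 := ne_zero_of_herm_ne hF n hxw
      have hwB : pt n w hw0 hww ∈ B :=
        mem_of_nonorth hF n hB x y w hx hy hw0 hxx hyy hww hxB hyB hxy hxw
      have hwx : hermForm n F q w x ≠ 0 := fun h => hxw (herm_symm_zero hF n h)
      have hwz : hermForm n F q w z ≠ 0 := fun h => hzw (herm_symm_zero hF n h)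
      exact mem_of_nonorth hF n hB w x z hw0 hx hz hww hxx hzz hwB hxB hwx hwz
    · exact mem_of_nonorth hF n hB x y z hx hy hz hxx hyy hzz hxB hyB hxy hxz

include hF in
theorem block_univ {B : Set ↥(isoPts F q n)}
    (hB : MulAction.IsBlock ↥(Cfsg.SU n F q) B) (x y : Fin n → F)
    (hx : x ≠ 0) (hy : y ≠ 0) (hxx : hermForm n F q x x = 0) (hyy : hermForm n F q y y = 0)
    (hxB : pt n x hx hxx ∈ B) (hyB : pt n y hy hyy ∈ B)
    (hne : pt n x hx hxx ≠ pt n y hy hyy) : B = Set.univ := by
  by_cases hxy : hermForm n F q x y = 0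
  · have hspan : x ∉ Submodule.span F {y} := by
      intro hmem
      obtain ⟨a, ha⟩ := Submodule.mem_span_singleton.mp hmem
      exact hne ((pt_eq_pt_iff n x y hx hy hxx hyy).mpr ⟨a, ha⟩)
    obtain ⟨t, ht, hty, htx⟩ := exists_fix_tilt hF n x y hxx hy (herm_symm_zero hF n hxy) hspan
    obtain ⟨A, -, hA⟩ := exists_SU_of_Tv n t ht
    have h1 : A • pt n y hy hyy = pt n y hy hyy :=
      smul_pt_eq n A y y hy hy hyy hyy 1 (by rw [hA, hty, one_smul])
    have h2 : A • B = B := hB.smul_eq_of_mem hyB (by rw [h1]; exact hyB)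
    have h3 : A • pt n x hx hxx ∈ A • B := Set.smul_mem_smul_set hxB
    have hgx0 : gact n t x ≠ 0 := ne_zero_of_herm_ne hF n htx
    have hgxx : hermForm n F q (gact n t x) (gact n t x) = 0 := by rw [herm_gact]; exact hxx
    rw [h2, smul_pt_eq n A x (gact n t x) hx hgx0 hxx hgxx 1 (by rw [hA, one_smul])] at h3
    exact block_univ_of_nonorth hF n hB x (gact n t x) hx hgx0 hxx hgxx hxB h3 htx
  · exact block_univ_of_nonorth hF n hB x y hx hy hxx hyy hxB hyB hxy

include hF in
/-- `SU` acts primitively on the isotropic points -/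
theorem isPreprimitive : MulAction.IsPreprimitive ↥(Cfsg.SU n F q) ↥(isoPts F q n) where
  exists_smul_eq := by
    intro p p'
    induction p using pt_ind with
    | h x hx hxx =>
      induction p' using pt_ind with
      | h y hy hyy =>
        obtain ⟨t, ht, a, ha, hta⟩ := move hF n x y hx hy hxx hyy
        obtain ⟨A, -, hA⟩ := exists_SU_of_Tv n t ht
        exact ⟨A, smul_pt_eq n A x y hx hy hxx hyy a (by rw [hA, hta])⟩
  isTrivialBlock_of_isBlock := by
    intro B hB
    by_cases hs : B.Subsingleton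
    · exact Or.inl hs
    · right
      rw [Set.not_subsingleton_iff] at hs
      obtain ⟨p, hp, p', hp', hne⟩ := hs
      induction p using pt_ind with
      | h x hx hxx =>
        induction p' using pt_ind with
        | h y hy hyy => exact block_univ hF n hB x y hx hy hxx hyy hp hp' hne

end action

section root
variable {F : Type*} [Field F] [Fintype F] {q : ℕ} (hF : Fintype.card F = q ^ 2) (n : ℕ)
open scoped Pointwise LinearAlgebra.Projectivization

attribute [local instance 2000] suSMul suAction suSMulComm isoSMul isoAction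

include hF in
theorem qcond_zero (x : Fin n → F) : QCond n q x 0 := by
  unfold QCond
  rw [zero_pow (q_ne_zero hF)]
  ring

theorem qtv_zero (x : Fin n → F) (h0 : QCond n q x 0) : qtv hF n x 0 h0 = 1 := by
  apply ext_gact
  intro v
  rw [gact_one, gact_qtv, zero_mul, zero_smul, add_zero]

include hF in
theorem qcond_add {x : Fin n → F} (hx : hermForm n F q x x = 0) {c d : F} (hc : QCond n q x c)
    (hd : QCond n q x d) : QCond n q x (c + d + c * d * hermForm n F q x x) := by
  rw [hx, mul_zero, add_zero, qcond_iso n hx, pow_q_add hF, (qcond_iso n hx c).mp hc,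
    (qcond_iso n hx d).mp hd]
  ring

include hF in
theorem qcond_neg {x : Fin n → F} (hx : hermForm n F q x x = 0) {c : F} (hc : QCond n q x c) :
    QCond n q x (-c) := by
  rw [qcond_iso n hx, pow_q_neg hF, (qcond_iso n hx c).mp hc]

theorem qtv_inv {x : Fin n → F} (hx : hermForm n F q x x = 0) {c : F} (hc : QCond n q x c) :
    (qtv hF n x c hc)⁻¹ = qtv hF n x (-c) (qcond_neg hF n hx hc) := by
  apply inv_eq_of_mul_eq_one_right
  rw [qtv_mul hF n x c (-c) hc (qcond_neg hF n hx hc) (qcond_add hF n hx hc (qcond_neg hF n hx hc))]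
  rw [← qtv_zero hF n x (qcond_zero hF n x)]
  apply qtv_congr hF n rfl
  rw [hx]
  ring

/-- the root subgroup of an isotropic vector -/
def rootSub (x : Fin n → F) (hx : hermForm n F q x x = 0) : Subgroup ↥(Cfsg.SU n F q) where
  carrier := {A | ∃ (c : F) (hc : QCond n q x c), toGU n A = qtv hF n x c hc}
  one_mem' := ⟨0, qcond_zero hF n x, by rw [map_one, qtv_zero]⟩
  mul_mem' := by
    rintro A B ⟨c, hc, hA⟩ ⟨d, hd, hB⟩
    exact ⟨_, qcond_add hF n hx hc hd, by
      rw [map_mul, hA, hB, qtv_mul hF n x c d hc hd (qcond_add hF n hx hc hd)]⟩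
  inv_mem' := by
    rintro A ⟨c, hc, hA⟩
    exact ⟨-c, qcond_neg hF n hx hc, by rw [map_inv, hA, qtv_inv hF n hx hc]⟩

theorem mem_rootSub (x : Fin n → F) (hx : hermForm n F q x x = 0) (A : ↥(Cfsg.SU n F q)) :
    A ∈ rootSub hF n x hx ↔ ∃ (c : F) (hc : QCond n q x c), toGU n A = qtv hF n x c hc :=
  Iff.rfl

theorem rootSub_comm (x : Fin n → F) (hx : hermForm n F q x x = 0) :
    IsMulCommutative ↥(rootSub hF n x hx) := by
  rw [isMulCommutative_iff]
  rintro ⟨A, c, hc, hA⟩ ⟨B, d, hd, hB⟩
  apply Subtype.ext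
  apply toGU_injective n
  show toGU n (A * B) = toGU n (B * A)
  rw [map_mul, map_mul, hA, hB, qtv_mul hF n x c d hc hd (qcond_add hF n hx hc hd),
    qtv_mul hF n x d c hd hc (qcond_add hF n hx hd hc)]
  apply qtv_congr hF n rfl
  ring

theorem rootSub_congr {x x' : Fin n → F} (h : x = x') (hx : hermForm n F q x x = 0)
    (hx' : hermForm n F q x' x' = 0) : rootSub hF n x hx = rootSub hF n x' hx' := by
  subst h; rfl

include hF in
theorem norm_fixed (a : F) : (a ^ (q + 1)) ^ q = a ^ (q + 1) := by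
  rw [pow_succ, mul_pow, pow_q_pow_q hF]
  ring

theorem rootSub_smul (a : F) (ha : a ≠ 0) (x : Fin n → F) (hx : hermForm n F q x x = 0)
    (hax : hermForm n F q (a • x) (a • x) = 0) :
    rootSub hF n (a • x) hax = rootSub hF n x hx := by
  have hN : a ^ (q + 1) ≠ 0 := pow_ne_zero _ ha
  ext A
  rw [mem_rootSub, mem_rootSub]
  constructor
  · rintro ⟨c, hc, hA⟩
    have hc' : QCond n q x (a ^ (q + 1) * c) := by
      rw [qcond_iso n hx, mul_pow, norm_fixed hF, (qcond_iso n hax c).mp hc]
      ring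
    exact ⟨_, hc', by rw [hA, qtv_smul hF n a x c hc hc']⟩
  · rintro ⟨c, hc, hA⟩
    have hc' : QCond n q (a • x) (c / a ^ (q + 1)) := by
      rw [qcond_iso n hax, div_pow, norm_fixed hF, (qcond_iso n hx c).mp hc]
      ring
    refine ⟨_, hc', ?_⟩
    rw [hA, qtv_smul hF n a x _ hc' (by
      rw [mul_div_cancel₀ _ hN]; exact hc)]
    apply qtv_congr hF n rfl
    rw [mul_div_cancel₀ _ hN]

theorem rootSub_conj_le (A : ↥(Cfsg.SU n F q)) (x : Fin n → F) (hx : hermForm n F q x x = 0)
    (hAx : hermForm n F q (A • x) (A • x) = 0) :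
    MulAut.conj A • rootSub hF n x hx ≤ rootSub hF n (A • x) hAx := by
  intro h hh
  rw [Subgroup.mem_smul_pointwise_iff_exists] at hh
  obtain ⟨s, ⟨c, hc, hs⟩, rfl⟩ := hh
  have hc' : QCond n q (A • x) c := by
    rw [qcond_iso n hAx]
    exact (qcond_iso n hx c).mp hc
  refine ⟨c, hc', ?_⟩
  rw [MulAut.smul_def, MulAut.conj_apply, map_mul, map_mul, map_inv, hs, conj_qtv]
  rfl

theorem rootSub_conj (A : ↥(Cfsg.SU n F q)) (x : Fin n → F) (hx : hermForm n F q x x = 0)
    (hAx : hermForm n F q (A • x) (A • x) = 0) :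
    rootSub hF n (A • x) hAx = MulAut.conj A • rootSub hF n x hx := by
  apply le_antisymm _ (rootSub_conj_le hF n A x hx hAx)
  rw [Subgroup.subset_pointwise_smul_iff, ← map_inv]
  have hback : A⁻¹ • (A • x) = x := inv_smul_smul A x
  have := rootSub_conj_le hF n A⁻¹ (A • x) hAx (by rw [hback]; exact hx)
  rw [rootSub_congr hF n hback _ hx] at this
  exact this

theorem rootSub_rep (v : Fin n → F) (hv : v ≠ 0) (hvv : hermForm n F q v v = 0)
    (h : hermForm n F q (Projectivization.mk F v hv).rep (Projectivization.mk F v hv).rep = 0) :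
    rootSub hF n (Projectivization.mk F v hv).rep h = rootSub hF n v hvv := by
  obtain ⟨a, ha⟩ := Projectivization.exists_smul_eq_mk_rep F v hv
  have ha' : (Projectivization.mk F v hv).rep = (a : F) • v := by rw [← ha, Units.smul_def]
  rw [rootSub_congr hF n ha' h (by rw [← ha']; exact h),
    rootSub_smul hF n (a : F) a.ne_zero v hvv]

/-- every element of `SU` is a product of elements of root subgroups -/
theorem iSup_rootSub (hn : 3 ≤ n) (h32 : ¬ (n = 3 ∧ q = 2)) :
    (⨆ p : ↥(isoPts F q n), rootSub hF n p.1.rep p.2) = ⊤ := by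
  rw [eq_top_iff, ← closure_tvSet hF n hn h32, Subgroup.closure_le]
  rintro A ⟨v, c, hv, hA⟩
  by_cases hv0 : v = 0
  · have hA1 : A = 1 := by
      apply Subtype.ext
      apply Subtype.ext
      rw [hA, hv0, tv_zero_centre]
      rfl
    rw [hA1]
    exact one_mem _
  · have hc : QCond n q v c := qcond_of_mem hF n (toGU n A) v c hv0 hv (by rw [toGU_coe, hA])
    have h1 : A ∈ rootSub hF n (pt n v hv0 hv).1.rep (pt n v hv0 hv).2 := by
      rw [show rootSub hF n (pt n v hv0 hv).1.rep (pt n v hv0 hv).2 = rootSub hF n v hv from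
        rootSub_rep hF n v hv0 hv _]
      refine ⟨c, hc, ?_⟩
      apply Subtype.ext
      apply Units.ext
      rw [qtv_coe, toGU_coe, hA]
    exact Subgroup.mem_iSup_of_mem (pt n v hv0 hv) h1

/-- The Iwasawa structure of `SU` acting on isotropic points. -/
noncomputable def iwasawa (hn : 3 ≤ n) (h32 : ¬ (n = 3 ∧ q = 2)) :
    MulAction.IwasawaStructure ↥(Cfsg.SU n F q) ↥(isoPts F q n) where
  T p := rootSub hF n p.1.rep p.2
  is_comm p := rootSub_comm hF n _ _
  is_conj A p := by
    induction p using pt_ind with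
    | h v hv hvv =>
      rw [smul_pt]
      rw [show rootSub hF n (pt n v hv hvv).1.rep (pt n v hv hvv).2 = rootSub hF n v hvv from
        rootSub_rep hF n v hv hvv _]
      rw [show rootSub hF n (pt n (A • v) _ _).1.rep (pt n (A • v) _ _).2 =
        rootSub hF n (A • v) (by rw [herm_smul]; exact hvv) from rootSub_rep hF n _ _ _ _]
      exact rootSub_conj hF n A v hvv _
  is_generator := iSup_rootSub hF n hn h32

include hF in
theorem perfect (hn : 3 ≤ n) (h32 : ¬ (n = 3 ∧ q = 2)) : commutator ↥(Cfsg.SU n F q) = ⊤ := by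
  rw [eq_top_iff, ← closure_tvSet hF n hn h32, commutator_eq_closure]
  apply Subgroup.closure_mono
  rintro A ⟨v, c, hv, hA⟩
  exact mem_commutatorSet_SU hF n hn A v c hv hA

include hF in
/-- an element of `SU` fixing every isotropic point is central -/
theorem mem_center_of_fix (hn : 2 ≤ n) (A : ↥(Cfsg.SU n F q))
    (hA : ∀ p : ↥(isoPts F q n), A • p = p) : A ∈ Subgroup.center ↥(Cfsg.SU n F q) := by
  have hg : ∀ u : Fin n → F, u ≠ 0 → hermForm n F q u u = 0 →
      ∃ a : F, gact n (toGU n A) u = a • u := by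
    intro u hu0 hu
    have h1 := hA (pt n u hu0 hu)
    rw [smul_pt, pt_eq_pt_iff] at h1
    obtain ⟨a, ha⟩ := h1
    exact ⟨a, ha.symm⟩
  obtain ⟨a, ha⟩ := scalar_of_fix hF n hn (toGU n A) hg
  have hmat : ((A : Matrix.SpecialLinearGroup (Fin n) F) : Matrix (Fin n) (Fin n) F) = a • 1 := by
    rw [ext_iff_mulVec]
    intro x
    rw [smul_mulVec, one_mulVec]
    exact ha x
  rw [Subgroup.mem_center_iff]
  intro B
  apply Subtype.ext
  apply Subtype.ext
  show ((B : Matrix.SpecialLinearGroup (Fin n) F) : Matrix (Fin n) (Fin n) F) *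
      ((A : Matrix.SpecialLinearGroup (Fin n) F) : Matrix (Fin n) (Fin n) F) =
    ((A : Matrix.SpecialLinearGroup (Fin n) F) : Matrix (Fin n) (Fin n) F) *
      ((B : Matrix.SpecialLinearGroup (Fin n) F) : Matrix (Fin n) (Fin n) F)
  rw [hmat]
  simp

include hF in
/-- every normal subgroup of `SU` is central or everything -/
theorem normal_le_center_or_eq_top (hn : 3 ≤ n) (h32 : ¬ (n = 3 ∧ q = 2))
    (N : Subgroup ↥(Cfsg.SU n F q)) [N.Normal] :
    N ≤ Subgroup.center ↥(Cfsg.SU n F q) ∨ N = ⊤ := by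
  by_cases hfix : MulAction.fixedPoints N ↥(isoPts F q n) = Set.univ
  · left
    intro A hAN
    apply mem_center_of_fix hF n (by omega)
    intro p
    have : p ∈ MulAction.fixedPoints N ↥(isoPts F q n) := by
      rw [hfix]; exact Set.mem_univ p
    exact this ⟨A, hAN⟩
  · right
    have := isPreprimitive hF n
    have := (iwasawa hF n hn h32).commutator_le N hfix
    rw [perfect hF n hn h32] at this
    exact top_le_iff.mp this

include hF in
theorem nontrivial_SU (hn : 2 ≤ n) : Nontrivial ↥(Cfsg.SU n F q) := by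
  obtain ⟨e, f, he, hf, hef⟩ := exists_hyp_pair hF n hn
  obtain ⟨c, hc0, hc⟩ := exists_trace_zero hF
  have hcc : QCond n q e c := (qcond_iso n he c).mpr hc
  obtain ⟨A, hA, -⟩ := exists_SU_of_Tv n (qtv hF n e c hcc) (qtv_mem_Tv hF n e c he hcc)
  refine ⟨⟨A, 1, ?_⟩⟩
  intro h
  rw [h, map_one] at hA
  have h1 := congrArg (fun g => gact n g f) hA
  simp only [gact_one, gact_qtv, herm_fe hF hef, mul_one] at h1
  have h2 : c • e = 0 := by
    have : f + c • e - f = 0 := by rw [← h1]; exact sub_self f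
    rwa [add_sub_cancel_left] at this
  have he0 : e ≠ 0 := by
    rintro rfl
    rw [hermForm_zero_left] at hef
    exact zero_ne_one hef
  rcases smul_eq_zero.mp h2 with h3 | h3
  · exact hc0 h3
  · exact he0 h3

include hF in
/-- `PSU_n(q)` is simple -/
theorem isSimpleGroup_PSU (hn : 3 ≤ n) (h32 : ¬ (n = 3 ∧ q = 2)) :
    IsSimpleGroup (Cfsg.PSU n F q) := by
  have := nontrivial_SU hF n (by omega)
  exact Cfsg.Agent.Lib.Helper5.SympPrimitive.isSimpleGroup_quotient_center (perfect hF n hn h32)
    (fun N hN => normal_le_center_or_eq_top hF n hn h32 N)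

end root

end Cfsg.Agent.Lib.Helper5.HermSimple
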