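import Mathlib
import Cfsg.Prelude.Def_GeometricClasses

set_option autoImplicit false

namespace Cfsg.Agent.Lib.Helper5.TvGL

open Matrix

variable {F : Type*} [Field F] {n : ℕ}

theorem exists_dual (S : Submodule F (Fin n → F)) (u : Fin n → F) (hu : u ∉ S) :
    ∃ φ : Fin n → F, (∀ x ∈ S, φ ⬝ᵥ x = 0) ∧ φ ⬝ᵥ u = 1 := by
  obtain ⟨f, hf1, hf2⟩ := Submodule.exists_dual_map_eq_bot_of_notMem hu inferInstance
  have key : ∀ x : Fin n → F, f x = (fun i => f (Pi.single i 1)) ⬝ᵥ x := by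
    intro x
    rw [LinearMap.pi_apply_eq_sum_univ f x]
    simp only [dotProduct, smul_eq_mul]
    refine Finset.sum_congr rfl fun i _ => ?_
    rw [mul_comm]
    congr 2
    ext j
    simp [Pi.single_apply, eq_comm]
  refine ⟨fun i => (f u)⁻¹ * f (Pi.single i 1), ?_, ?_⟩
  · intro x hx
    have h0 : f x = 0 := by
      have : f x ∈ Submodule.map f S := ⟨x, hx, rfl⟩
      rw [hf2] at this
      simpa using this
    rw [key] at h0
    have : (fun i => (f u)⁻¹ * f (Pi.single i 1)) = (f u)⁻¹ • (fun i => f (Pi.single i 1)) := by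
      ext i; simp
    rw [this, smul_dotProduct, h0, smul_zero]
  · have : (fun i => (f u)⁻¹ * f (Pi.single i 1)) = (f u)⁻¹ • (fun i => f (Pi.single i 1)) := by
      ext i; simp
    rw [this, smul_dotProduct, ← key, smul_eq_mul, inv_mul_cancel₀ hf1]

/-- the transvection matrix `1 + v φᵀ`. -/
noncomputable def tvMat (φ v : Fin n → F) : Matrix (Fin n) (Fin n) F :=
  1 + vecMulVec v φ

theorem tvMat_mulVec (φ v x : Fin n → F) : tvMat φ v *ᵥ x = x + (φ ⬝ᵥ x) • v := by
  unfold tvMat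
  rw [add_mulVec, one_mulVec]
  congr 1
  ext i
  simp only [mulVec, vecMulVec, dotProduct, of_apply, Pi.smul_apply, smul_eq_mul, Finset.sum_mul]
  refine Finset.sum_congr rfl fun j _ => ?_
  ring

theorem det_tvMat (φ v : Fin n → F) (h : φ ⬝ᵥ v = 0) : (tvMat φ v).det = 1 := by
  unfold tvMat
  rw [vecMulVec_eq Unit, det_one_add_mul_comm]
  simp [h]

/-- A special linear map fixing `S` pointwise and moving `u ∉ S` to `u + v` with `v ∈ S`. -/
theorem exists_tv (S : Submodule F (Fin n → F)) (u v : Fin n → F) (hu : u ∉ S) (hv : v ∈ S) :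
    ∃ g : Matrix.GeneralLinearGroup (Fin n) F, g ∈ Cfsg.Geo.specialLinear (Fin n) F ∧
      (∀ x ∈ S, (g : Matrix (Fin n) (Fin n) F) *ᵥ x = x) ∧
      (g : Matrix (Fin n) (Fin n) F) *ᵥ u = u + v := by
  obtain ⟨φ, hφ1, hφ2⟩ := exists_dual S u hu
  have hdet : (tvMat φ v).det = 1 := det_tvMat φ v (hφ1 v hv)
  have hunit : IsUnit (tvMat φ v).det := by rw [hdet]; exact isUnit_one
  refine ⟨Matrix.GeneralLinearGroup.mk'' (tvMat φ v) hunit, ?_, ?_, ?_⟩
  · unfold Cfsg.Geo.specialLinear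
    rw [MonoidHom.mem_ker]
    ext
    simpa using hdet
  · intro x hx
    show tvMat φ v *ᵥ x = x
    rw [tvMat_mulVec, hφ1 x hx, zero_smul, add_zero]
  · show tvMat φ v *ᵥ u = u + v
    rw [tvMat_mulVec, hφ2, one_smul]

theorem mem_stab_of_fix (W : Submodule F (Fin n → F)) (g : Matrix.GeneralLinearGroup (Fin n) F)
    (h : ∀ x ∈ W, (g : Matrix (Fin n) (Fin n) F) *ᵥ x = x) :
    g ∈ Cfsg.Geo.subspaceStabilizer W := by
  intro x
  show x ∈ W ↔ (g : Matrix (Fin n) (Fin n) F) *ᵥ x ∈ W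
  constructor
  · intro hx
    rw [h x hx]; exact hx
  · intro hx
    have h1 := h _ hx
    have h2 : (g : Matrix (Fin n) (Fin n) F) *ᵥ x = x := by
      have := congrArg (fun y => ((g⁻¹ : Matrix.GeneralLinearGroup (Fin n) F) : Matrix (Fin n) (Fin n) F) *ᵥ y) h1
      simp only [Matrix.mulVec_mulVec] at this
      rw [← Units.val_mul, ← Units.val_mul] at this
      simpa using this
    rw [← h2]; exact hx

theorem not_mem_stab (U : Submodule F (Fin n → F)) (g : Matrix.GeneralLinearGroup (Fin n) F)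
    (u v : Fin n → F) (hu : u ∈ U) (hv : v ∉ U)
    (h : (g : Matrix (Fin n) (Fin n) F) *ᵥ u = u + v) :
    g ∉ Cfsg.Geo.subspaceStabilizer U := by
  intro hg
  have h1 : (g : Matrix (Fin n) (Fin n) F) *ᵥ u ∈ U := (hg u).1 hu
  rw [h] at h1
  exact hv ((Submodule.add_mem_iff_right U hu).1 h1)

/-- A proper nonzero subspace is not stabilised by the whole special linear group. -/
theorem exists_sl_not_stab (W : Submodule F (Fin n → F)) (h0 : W ≠ ⊥) (h1 : W ≠ ⊤) :
    ∃ g : Matrix.GeneralLinearGroup (Fin n) F, g ∈ Cfsg.Geo.specialLinear (Fin n) F ∧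
      g ∉ Cfsg.Geo.subspaceStabilizer W := by
  obtain ⟨w, hw, hw0⟩ := (Submodule.ne_bot_iff W).1 h0
  obtain ⟨v, hv⟩ : ∃ v, v ∉ W := by
    by_contra hcon
    push Not at hcon
    exact h1 (eq_top_iff.2 fun x _ => hcon x)
  have hwS : w ∉ Submodule.span F {v} := by
    intro hmem
    obtain ⟨c, hc⟩ := Submodule.mem_span_singleton.1 hmem
    have hc0 : c ≠ 0 := by
      rintro rfl
      rw [zero_smul] at hc
      exact hw0 hc.symm
    apply hv
    have : v = c⁻¹ • w := by rw [← hc, smul_smul, inv_mul_cancel₀ hc0, one_smul]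
    rw [this]
    exact W.smul_mem _ hw
  obtain ⟨g, hg1, -, hg3⟩ := exists_tv (Submodule.span F {v}) w v hwS (Submodule.mem_span_singleton_self v)
  exact ⟨g, hg1, not_mem_stab W g w v hw hv hg3⟩

end Cfsg.Agent.Lib.Helper5.TvGL
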