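import Mathlib
import Cfsg.Agent.Lib.Helper5.HermWitt

set_option autoImplicit false

namespace Cfsg.Agent.Lib.Helper5.HermBasis

open Module Cfsg.Agent.Lib.Helper5.HermWitt

section norm
variable {F : Type*} [Field F] [Finite F] {σ : F →+* F}

/-- Surjectivity of the norm `t ↦ t σ(t)` onto the nonzero fixed elements. -/
theorem exists_norm (hσ : σ ≠ RingHom.id F) (hσ2 : ∀ a : F, σ (σ a) = a) (d : F) (hd0 : d ≠ 0)
    (hd : σ d = d) : ∃ t : F, t * σ t = d := by
  classical
  let σu : Fˣ →* Fˣ := Units.map (σ : F →* F)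
  have hσu : ∀ u : Fˣ, ((σu u : Fˣ) : F) = σ (u : F) := fun u => rfl
  have hσu2 : ∀ u : Fˣ, σu (σu u) = u := by
    intro u; apply Units.ext; rw [hσu, hσu, hσ2]
  let N : Fˣ →* Fˣ := MonoidHom.id Fˣ * σu
  let D : Fˣ →* Fˣ := σu * (MonoidHom.id Fˣ)⁻¹
  have hN : ∀ u, N u = u * σu u := fun u => rfl
  have hD : ∀ u, D u = σu u * u⁻¹ := fun u => rfl
  set G₀ : Subgroup Fˣ := D.ker with hG₀
  have hG₀mem : ∀ u : Fˣ, u ∈ G₀ ↔ σu u = u := by
    intro u
    rw [hG₀, MonoidHom.mem_ker, hD, mul_inv_eq_one]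
  -- Hilbert 90
  have h90 : D.range = N.ker := by
    ext t
    constructor
    · rintro ⟨u, rfl⟩
      rw [MonoidHom.mem_ker, hN, hD, map_mul, map_inv, hσu2]
      group
    · intro ht
      rw [MonoidHom.mem_ker, hN] at ht
      have ht' : σ (t : F) = ((t⁻¹ : Fˣ) : F) := by
        have : σu t = t⁻¹ := eq_inv_of_mul_eq_one_right ht
        rw [← hσu, this]
      -- find x with x + σ x / t ≠ 0
      obtain ⟨x, hx⟩ : ∃ x : F, x + σ x * ((t⁻¹ : Fˣ) : F) ≠ 0 := by
        by_contra hcon
        push Not at hcon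
        have h1 := hcon 1
        rw [map_one, one_mul] at h1
        have htinv : ((t⁻¹ : Fˣ) : F) = -1 := by linear_combination h1
        apply hσ
        apply RingHom.ext
        intro a
        have := hcon a
        rw [htinv] at this
        rw [RingHom.id_apply]
        linear_combination -this
      set u₀ : F := x + σ x * ((t⁻¹ : Fˣ) : F) with hu₀
      have hσtinv : σ ((t⁻¹ : Fˣ) : F) = (t : F) := by rw [← ht', hσ2]
      have htt : (t : F) * ((t⁻¹ : Fˣ) : F) = 1 := Units.mul_inv t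
      have hσu₀ : σ u₀ = (t : F) * u₀ := by
        rw [hu₀, map_add, map_mul, hσ2, hσtinv]
        linear_combination (-σ x) * htt
      refine ⟨Units.mk0 u₀ hx, ?_⟩
      rw [hD, mul_inv_eq_iff_eq_mul]
      apply Units.ext
      rw [hσu, Units.val_mk0, Units.val_mul, Units.val_mk0]
      exact hσu₀
  -- cardinalities
  have hc1 : Nat.card N.ker * Nat.card N.range = Nat.card Fˣ := by
    rw [← Subgroup.index_ker]; exact Subgroup.card_mul_index _
  have hc2 : Nat.card G₀ * Nat.card D.range = Nat.card Fˣ := by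
    rw [← Subgroup.index_ker]; exact Subgroup.card_mul_index _
  rw [h90] at hc2
  have hcard : Nat.card N.range = Nat.card G₀ := by
    have hpos : 0 < Nat.card N.ker := Nat.card_pos
    have : Nat.card N.ker * Nat.card N.range = Nat.card N.ker * Nat.card G₀ := by
      rw [hc1, ← hc2, mul_comm]
    exact Nat.eq_of_mul_eq_mul_left hpos this
  have hle : N.range ≤ G₀ := by
    rintro _ ⟨u, rfl⟩
    rw [hG₀mem, hN, map_mul, hσu2, mul_comm]
  have heq : N.range = G₀ := Subgroup.eq_of_le_of_card_ge hle (le_of_eq hcard.symm)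
  have hdmem : Units.mk0 d hd0 ∈ G₀ := by
    rw [hG₀mem]
    apply Units.ext
    rw [hσu, Units.val_mk0, hd]
  rw [← heq] at hdmem
  obtain ⟨t, ht⟩ := hdmem
  refine ⟨(t : F), ?_⟩
  have := congrArg Units.val ht
  rw [hN, Units.val_mul, hσu, Units.val_mk0] at this
  exact this

end norm

section
variable {F : Type*} [Field F] {V : Type*} [AddCommGroup V] [Module F V] {σ : F →+* F}

/-- A nondegenerate hermitian form on a nonzero space has a non-isotropic vector. -/
theorem exists_anisotropic [Nontrivial V] (hσ : σ ≠ RingHom.id F) (hσ2 : ∀ a : F, σ (σ a) = a)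
    (B : V →ₛₗ[σ] V →ₗ[F] F) (hS : B.IsSymm) (hB : B.Nondegenerate) : ∃ v, B v v ≠ 0 := by
  by_contra hcon
  push Not at hcon
  obtain ⟨x, hx⟩ := exists_ne (0 : V)
  obtain ⟨y, hy⟩ : ∃ y, B x y ≠ 0 := by
    by_contra h
    push Not at h
    exact hx (hB.1 x h)
  have hpol : ∀ y', B x y' + σ (B x y') = 0 := by
    intro y'
    have h1 := hcon (x + y')
    simp only [map_add, LinearMap.add_apply, hcon x, hcon y', zero_add, add_zero] at h1
    rw [hS.eq x y']
    linear_combination h1
  obtain ⟨μ, _, hμ⟩ := exists_trace hσ hσ2 1 (map_one σ)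
  have h2 := hpol ((μ / B x y) • y)
  rw [map_smul, smul_eq_mul, div_mul_cancel₀ _ hy, hμ] at h2
  exact one_ne_zero h2

theorem linearIndependent_of_orthonormal (B : V →ₛₗ[σ] V →ₗ[F] F) {n : ℕ} (b : Fin n → V)
    (hb : ∀ i j, B (b i) (b j) = if i = j then 1 else 0) : LinearIndependent F b := by
  classical
  rw [Fintype.linearIndependent_iff]
  intro c hc j
  have := congrArg (fun x => B (b j) x) hc
  simp only [map_sum, map_smul, hb, smul_eq_mul, mul_ite, mul_one, mul_zero,
    Finset.sum_ite_eq, Finset.mem_univ, if_true, map_zero] at this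
  exact this

end

universe u

theorem exists_orthonormal {F : Type*} [Field F] [Finite F] {σ : F →+* F}
    (hσ : σ ≠ RingHom.id F) (hσ2 : ∀ a : F, σ (σ a) = a) (n : ℕ) :
    ∀ {V : Type u} [AddCommGroup V] [Module F V] [FiniteDimensional F V]
      (B : V →ₛₗ[σ] V →ₗ[F] F), B.IsSymm → B.Nondegenerate → finrank F V = n →
      ∃ b : Fin n → V, ∀ i j, B (b i) (b j) = if i = j then 1 else 0 := by
  induction n with
  | zero =>
    intro V _ _ _ B _ _ _
    exact ⟨Fin.elim0, fun i => i.elim0⟩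
  | succ n ih =>
    intro V _ _ _ B hS hB hn
    have hnt : Nontrivial V := Module.nontrivial_of_finrank_pos (R := F) (by rw [hn]; omega)
    obtain ⟨v₀, hv₀⟩ := exists_anisotropic hσ hσ2 B hS hB
    have hfix : σ (B v₀ v₀)⁻¹ = (B v₀ v₀)⁻¹ := by rw [map_inv₀, hS.eq]
    obtain ⟨t, ht⟩ := exists_norm hσ hσ2 (B v₀ v₀)⁻¹ (inv_ne_zero hv₀) hfix
    obtain ⟨v, hv⟩ : ∃ v : V, v = t • v₀ := ⟨_, rfl⟩
    have hvv : B v v = 1 := by
      rw [hv, LinearMap.map_smulₛₗ₂, map_smul, smul_eq_mul, smul_eq_mul, ← mul_assoc, mul_comm (σ t) t,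
        ht, inv_mul_cancel₀ hv₀]
    obtain ⟨W, hW⟩ : ∃ W : Submodule F V, W = LinearMap.ker (B v) := ⟨_, rfl⟩
    have hmemW : ∀ x, x ∈ W ↔ B v x = 0 := by
      intro x; rw [hW, LinearMap.mem_ker]
    have hmemW' : ∀ x, x ∈ W → B x v = 0 := by
      intro x hx
      rw [← hS.eq v x, (hmemW x).mp hx, map_zero]
    have hdimW : finrank F W = n := by
      have hsurj : LinearMap.range (B v) = ⊤ := by
        rw [eq_top_iff]
        intro a _
        exact ⟨a • v, by rw [map_smul, hvv, smul_eq_mul, mul_one]⟩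
      have := LinearMap.finrank_range_add_finrank_ker (B v)
      rw [hsurj, finrank_top, Module.finrank_self, hn, ← hW] at this
      omega
    set B' : W →ₛₗ[σ] W →ₗ[F] F := B.domRestrict₁₂ W W with hB'
    have hB'a : ∀ x y : W, B' x y = B (x : V) (y : V) := fun x y => rfl
    have hS' : B'.IsSymm := hS.domRestrict W
    have hsepL : B'.SeparatingLeft := by
      intro x hx
      apply Subtype.ext
      apply hB.1 (x : V)
      intro y
      have hw : y - B v y • v ∈ W := by
        rw [hmemW, map_sub, map_smul, hvv, smul_eq_mul, mul_one, sub_self]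
      have h1 : B (x : V) (y - B v y • v) = 0 := hx ⟨_, hw⟩
      rw [map_sub, map_smul, hmemW' _ x.2, smul_zero, sub_zero] at h1
      exact h1
    have hsepR : B'.SeparatingRight := by
      intro y hy
      apply hsepL y
      intro x
      rw [← hS'.eq x y, hy x, map_zero]
    obtain ⟨b', hb'⟩ := ih B' hS' ⟨hsepL, hsepR⟩ hdimW
    refine ⟨Fin.cons v (fun i => (b' i : V)), ?_⟩
    intro i j
    refine Fin.cases ?_ (fun i => ?_) i <;> refine Fin.cases ?_ (fun j => ?_) j
    · simp [hvv]
    · simp only [Fin.cons_zero, Fin.cons_succ]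
      rw [(hmemW _).mp (b' j).2]
      simp [(Fin.succ_ne_zero j).symm]
    · simp only [Fin.cons_zero, Fin.cons_succ]
      rw [hmemW' _ (b' i).2]
      simp [Fin.succ_ne_zero i]
    · simp only [Fin.cons_succ, Fin.succ_inj]
      exact hb' i j

/-- Orthonormal basis of a nondegenerate hermitian space over a finite field. -/
theorem exists_orthonormal_basis {F : Type*} [Field F] [Finite F] {σ : F →+* F}
    {V : Type u} [AddCommGroup V] [Module F V] [FiniteDimensional F V]
    (hσ : σ ≠ RingHom.id F) (hσ2 : ∀ a : F, σ (σ a) = a)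
    (B : V →ₛₗ[σ] V →ₗ[F] F) (hS : B.IsSymm) (hB : B.Nondegenerate) :
    ∃ b : Module.Basis (Fin (finrank F V)) F V, ∀ i j, B (b i) (b j) = if i = j then 1 else 0 := by
  obtain ⟨b, hb⟩ := exists_orthonormal hσ hσ2 (finrank F V) B hS hB rfl
  have hli := linearIndependent_of_orthonormal B b hb
  refine ⟨basisOfLinearIndependentOfCardEqFinrank' b hli (by simp), ?_⟩
  intro i j
  rw [coe_basisOfLinearIndependentOfCardEqFinrank']
  exact hb i j

end Cfsg.Agent.Lib.Helper5.HermBasis
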