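import Mathlib
import Cfsg.Prelude.Def_GeometricClasses
import Cfsg.Agent.Lib.Helper5.TvGL
import Cfsg.Agent.Lib.Helper4.SLnGen

set_option autoImplicit false

/-! The stabiliser of a proper non-zero subspace is maximal in the special linear group. -/

namespace Cfsg.Agent.Lib.Helper5.SLSubspaceMax

open Matrix Cfsg.Agent.Lib.Helper5.TvGL

variable {F : Type*} [Field F] {n : ℕ}

/-- `M` contains every transvection with centre `v` -/
def IsCentre (M : Subgroup (GL (Fin n) F)) (v : Fin n → F) : Prop :=
  ∀ φ : Fin n → F, φ ⬝ᵥ v = 0 → ∀ g : GL (Fin n) F,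
    (g : Matrix (Fin n) (Fin n) F) = tvMat φ v → g ∈ M

theorem mem_specialLinear_iff (g : GL (Fin n) F) :
    g ∈ Cfsg.Geo.specialLinear (Fin n) F ↔ (g : Matrix (Fin n) (Fin n) F).det = 1 := by
  unfold Cfsg.Geo.specialLinear
  rw [MonoidHom.mem_ker]
  constructor
  · intro h
    have := congrArg Units.val h
    simpa using this
  · intro h
    ext
    simpa using h

theorem isCentre_zero (M : Subgroup (GL (Fin n) F)) : IsCentre M 0 := by
  intro φ _ g hg
  have : g = 1 := by
    apply Units.ext
    rw [hg]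
    unfold tvMat
    simp [vecMulVec]
    rfl
  rw [this]
  exact one_mem M

theorem isCentre_smul (M : Subgroup (GL (Fin n) F)) (v : Fin n → F) (c : F)
    (hv : IsCentre M v) : IsCentre M (c • v) := by
  intro φ hφ g hg
  apply hv (c • φ)
  · rw [smul_dotProduct]
    rw [dotProduct_smul] at hφ
    exact hφ
  · rw [hg]
    unfold tvMat
    congr 1
    ext i j
    simp [vecMulVec_apply]
    ring

theorem isCentre_mulVec (M : Subgroup (GL (Fin n) F)) (v : Fin n → F) (m : GL (Fin n) F)
    (hm : m ∈ M) (hv : IsCentre M v) : IsCentre M ((m : Matrix (Fin n) (Fin n) F) *ᵥ v) := by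
  intro φ hφ g hg
  have h1 : m⁻¹ * g * m ∈ M := by
    apply hv (φ ᵥ* (m : Matrix (Fin n) (Fin n) F))
    · rw [← dotProduct_mulVec]
      exact hφ
    · rw [Units.val_mul, Units.val_mul, hg]
      unfold tvMat
      rw [mul_add, add_mul, mul_one, ← Units.val_mul, inv_mul_cancel, Units.val_one,
        mul_vecMulVec, vecMulVec_mul, mulVec_mulVec, ← Units.val_mul, inv_mul_cancel,
        Units.val_one, one_mulVec]
  have h2 : g = m * (m⁻¹ * g * m) * m⁻¹ := by group
  rw [h2]
  exact M.mul_mem (M.mul_mem hm h1) (M.inv_mem hm)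

theorem isCentre_add (M : Subgroup (GL (Fin n) F)) (v₁ v₂ : Fin n → F)
    (h1 : IsCentre M v₁) (h2 : IsCentre M v₂) : IsCentre M (v₁ + v₂) := by
  by_cases hmem : v₂ ∈ Submodule.span F {v₁}
  · obtain ⟨c, hc⟩ := Submodule.mem_span_singleton.1 hmem
    have : v₁ + v₂ = (1 + c) • v₁ := by rw [← hc, add_smul, one_smul]
    rw [this]
    exact isCentre_smul M v₁ _ h1
  · obtain ⟨φ, hφ1, hφ2⟩ := exists_dual (Submodule.span F {v₁}) v₂ hmem
    have hφv : φ ⬝ᵥ v₁ = 0 := hφ1 v₁ (Submodule.mem_span_singleton_self v₁)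
    have hunit : IsUnit (tvMat φ v₁).det := by rw [det_tvMat φ v₁ hφv]; exact isUnit_one
    have hg : Matrix.GeneralLinearGroup.mk'' (tvMat φ v₁) hunit ∈ M := h1 φ hφv _ rfl
    have := isCentre_mulVec M v₂ _ hg h2
    have e : ((Matrix.GeneralLinearGroup.mk'' (tvMat φ v₁) hunit : GL (Fin n) F) :
        Matrix (Fin n) (Fin n) F) *ᵥ v₂ = v₁ + v₂ := by
      show tvMat φ v₁ *ᵥ v₂ = v₁ + v₂
      rw [tvMat_mulVec, hφ2, one_smul, add_comm]
    rw [e] at this
    exact this

/-- if every vector is a centre then `M` contains the special linear group -/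
theorem specialLinear_le (hn : 2 ≤ n) (M : Subgroup (GL (Fin n) F))
    (h : ∀ v, IsCentre M v) : Cfsg.Geo.specialLinear (Fin n) F ≤ M := by
  have : Nontrivial (Fin n) := Fin.nontrivial_iff_two_le.mpr hn
  intro g hg
  rw [mem_specialLinear_iff] at hg
  have key : ∀ A : Matrix.SpecialLinearGroup (Fin n) F, ∀ g : GL (Fin n) F,
      (g : Matrix (Fin n) (Fin n) F) = A.1 → g ∈ M := by
    intro A
    refine Cfsg.Agent.Lib.Helper4.transvection_induction_gen
      (fun A => ∀ g : GL (Fin n) F, (g : Matrix (Fin n) (Fin n) F) = A.1 → g ∈ M) ?_ ?_ A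
    · intro i j hij c g hg
      apply h (Pi.single i 1) (Pi.single j c)
      · simp [hij.symm]
      · rw [hg]
        show Matrix.transvection i j c = _
        unfold Matrix.transvection tvMat
        congr 1
        ext a b
        rw [vecMulVec_apply, Matrix.single_apply, Pi.single_apply, Pi.single_apply]
        by_cases ha : a = i <;> by_cases hb : b = j
        · simp [ha, hb]
        · have hb' : ¬ j = b := fun h => hb h.symm
          simp [ha, hb, hb']
        · have ha' : ¬ i = a := fun h => ha h.symm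
          simp [ha, hb, ha']
        · have ha' : ¬ i = a := fun h => ha h.symm
          simp [ha, hb, ha']
    · intro A B hA hB g hg
      have e : g = Matrix.SpecialLinearGroup.toGL A * Matrix.SpecialLinearGroup.toGL B := by
        apply Units.ext
        rw [hg, Units.val_mul]
        rfl
      rw [e]
      exact M.mul_mem (hA _ rfl) (hB _ rfl)
  exact key ⟨g.1, hg⟩ g rfl

/-- vectors of `W` are centres for any group containing the stabiliser of `W` in `SL` -/
theorem isCentre_of_mem (W : Submodule F (Fin n → F)) (M : Subgroup (GL (Fin n) F))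
    (hPM : Cfsg.Geo.subspaceStabilizer W ⊓ Cfsg.Geo.specialLinear (Fin n) F ≤ M)
    (v : Fin n → F) (hv : v ∈ W) : IsCentre M v := by
  intro φ hφ g hg
  apply hPM
  rw [Subgroup.mem_inf]
  refine ⟨?_, ?_⟩
  · intro x
    show x ∈ W ↔ (g : Matrix (Fin n) (Fin n) F) *ᵥ x ∈ W
    rw [hg, tvMat_mulVec]
    constructor
    · intro hx
      exact W.add_mem hx (W.smul_mem _ hv)
    · intro hx
      have : x = (x + (φ ⬝ᵥ x) • v) - (φ ⬝ᵥ x) • v := by abel
      rw [this]
      exact W.sub_mem hx (W.smul_mem _ hv)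
  · rw [mem_specialLinear_iff, hg]
    exact det_tvMat φ v hφ

theorem isMaximalIn (hn : 2 ≤ n) (W : Submodule F (Fin n → F)) (hW0 : W ≠ ⊥) (hW1 : W ≠ ⊤) :
    Cfsg.Geo.IsMaximalIn (Cfsg.Geo.specialLinear (Fin n) F)
      (Cfsg.Geo.subspaceStabilizer W ⊓ Cfsg.Geo.specialLinear (Fin n) F) := by
  refine ⟨lt_of_le_of_ne inf_le_right ?_, ?_⟩
  · intro h
    obtain ⟨g, hg1, hg2⟩ := exists_sl_not_stab W hW0 hW1
    rw [← h] at hg1
    exact hg2 hg1.1
  · intro M hPM hMS
    by_cases hMP : M ≤ Cfsg.Geo.subspaceStabilizer W ⊓ Cfsg.Geo.specialLinear (Fin n) F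
    · left
      exact le_antisymm hMP hPM
    right
    apply le_antisymm hMS
    apply specialLinear_le hn
    -- an element of `M` moving `W`
    obtain ⟨m, hmM, hmP⟩ := SetLike.not_le_iff_exists.mp hMP
    have hmS : m ∉ Cfsg.Geo.subspaceStabilizer W := fun h => hmP ⟨h, hMS hmM⟩
    obtain ⟨m', hm'M, w, hw, hmw⟩ : ∃ m' ∈ M, ∃ w ∈ W,
        (m' : Matrix (Fin n) (Fin n) F) *ᵥ w ∉ W := by
      by_contra hcon
      push Not at hcon
      apply hmS
      intro x
      show x ∈ W ↔ (m : Matrix (Fin n) (Fin n) F) *ᵥ x ∈ W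
      constructor
      · intro hx
        exact hcon m hmM x hx
      · intro hx
        have := hcon m⁻¹ (M.inv_mem hmM) _ hx
        rw [mulVec_mulVec, ← Units.val_mul, inv_mul_cancel, Units.val_one, one_mulVec] at this
        exact this
    set c₀ := (m' : Matrix (Fin n) (Fin n) F) *ᵥ w with hc₀
    have hc₀C : IsCentre M c₀ :=
      isCentre_mulVec M w m' hm'M (isCentre_of_mem W M hPM w hw)
    intro y
    by_cases hy : y ∈ W ⊔ Submodule.span F {c₀}
    · obtain ⟨w', hw', z, hz, rfl⟩ := Submodule.mem_sup.1 hy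
      obtain ⟨a, rfl⟩ := Submodule.mem_span_singleton.1 hz
      exact isCentre_add M _ _ (isCentre_of_mem W M hPM w' hw') (isCentre_smul M c₀ a hc₀C)
    · have hc₀S : c₀ ∉ W ⊔ Submodule.span F {y - c₀} := by
        intro hmem
        obtain ⟨w', hw', z, hz, hsum⟩ := Submodule.mem_sup.1 hmem
        obtain ⟨a, rfl⟩ := Submodule.mem_span_singleton.1 hz
        by_cases ha : a = 0
        · rw [ha, zero_smul, add_zero] at hsum
          rw [← hsum] at hmw
          exact hmw hw'
        · apply hy
          have : y = (-a⁻¹) • w' + (a⁻¹ * (1 + a)) • c₀ := by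
            have h1 : a • y = (1 + a) • c₀ - w' := by
              have h0 : a • y = (w' + a • (y - c₀)) - w' + a • c₀ := by
                rw [smul_sub]; abel
              rw [h0, hsum, add_smul, one_smul]
              abel
            calc y = a⁻¹ • (a • y) := by rw [smul_smul, inv_mul_cancel₀ ha, one_smul]
              _ = (-a⁻¹) • w' + (a⁻¹ * (1 + a)) • c₀ := by
                rw [h1, smul_sub, smul_smul, neg_smul]
                abel
          rw [this]
          exact Submodule.add_mem _ (Submodule.mem_sup_left (W.smul_mem _ hw'))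
            (Submodule.mem_sup_right (Submodule.smul_mem _ _ (Submodule.mem_span_singleton_self c₀)))
      obtain ⟨g, hg1, hg2, hg3⟩ := exists_tv (W ⊔ Submodule.span F {y - c₀}) c₀ (y - c₀) hc₀S
        (Submodule.mem_sup_right (Submodule.mem_span_singleton_self _))
      have hgM : g ∈ M := hPM ⟨mem_stab_of_fix W g fun x hx => hg2 x (Submodule.mem_sup_left hx), hg1⟩
      have := isCentre_mulVec M c₀ g hgM hc₀C
      rw [hg3] at this
      have e : c₀ + (y - c₀) = y := by abel
      rw [e] at this
      exact this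

end Cfsg.Agent.Lib.Helper5.SLSubspaceMax
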