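import Mathlib
import Cfsg.Prelude
import Cfsg.Agent.Lib.Helper5.HermEich
import Cfsg.Agent.Lib.Helper5.SLSubspaceMax
import Cfsg.Agent.Lib.Helper5.SpSingularMax

set_option autoImplicit false
set_option linter.unusedSectionVars false
set_option linter.unusedVariables false
open Cfsg

/-! Centres of unitary transvections contained in a subgroup of the special unitary group. -/

namespace Cfsg.Agent.Lib.Helper5.SUCentres

open Matrix Cfsg.Agent.Lib.Helper5.Herm Cfsg.Agent.Lib.Helper5.HermBridge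
  Cfsg.Agent.Lib.Helper5.HermTv Cfsg.Agent.Lib.Helper5.HermGen Cfsg.Agent.Lib.Helper5.HermEich

variable {F : Type*} [Field F] [Fintype F] {q : ℕ} (hF : Fintype.card F = q ^ 2) (n : ℕ)

/-- `v` is isotropic and `M` contains all unitary transvections with centre `v` -/
def IsCentre (M : Subgroup (Matrix.GeneralLinearGroup (Fin n) F)) (v : Fin n → F) : Prop :=
  hermForm n F q v v = 0 ∧ ∀ (c : F) (hc : QCond n q v c),
    ((qtv hF n v c hc : ↥(Cfsg.GU n F q)) : Matrix.GeneralLinearGroup (Fin n) F) ∈ M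

variable {n}

theorem mem_SU_iff (g : Matrix.GeneralLinearGroup (Fin n) F) :
    g ∈ Cfsg.GU n F q ⊓ Cfsg.Geo.specialLinear (Fin n) F ↔
      g ∈ Cfsg.GU n F q ∧ (g : Matrix (Fin n) (Fin n) F).det = 1 := by
  rw [Subgroup.mem_inf, Cfsg.Agent.Lib.Helper5.SLSubspaceMax.mem_specialLinear_iff]

include hF in
theorem pow_q_norm (a : F) : (a ^ (q + 1)) ^ q = a ^ (q + 1) := by
  rw [← pow_mul, add_mul, one_mul, pow_add, ← sq, ← hF, FiniteField.pow_card, mul_comm, pow_succ]

theorem isCentre_smul {M : Subgroup (Matrix.GeneralLinearGroup (Fin n) F)} {v : Fin n → F}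
    (a : F) (hv : IsCentre hF n M v) : IsCentre hF n M (a • v) := by
  have hiso : hermForm n F q (a • v) (a • v) = 0 := by
    rw [hermForm_smul_left, hermForm_smul_right, hv.1, mul_zero, mul_zero]
  refine ⟨hiso, fun c hc => ?_⟩
  have hc1 : c ^ q = -c := (qcond_iso n hiso c).mp hc
  have hc' : QCond n q v (a ^ (q + 1) * c) := by
    rw [qcond_iso n hv.1, mul_pow, pow_q_norm hF, hc1, mul_neg]
  rw [qtv_smul hF n a v c hc hc']
  exact hv.2 _ hc'

theorem isCentre_gact {M : Subgroup (Matrix.GeneralLinearGroup (Fin n) F)}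
    (hMS : M ≤ Cfsg.GU n F q ⊓ Cfsg.Geo.specialLinear (Fin n) F) {v : Fin n → F}
    (g : Matrix.GeneralLinearGroup (Fin n) F) (hg : g ∈ M) (hv : IsCentre hF n M v) :
    IsCentre hF n M ((g : Matrix (Fin n) (Fin n) F) *ᵥ v) := by
  have hgU : g ∈ Cfsg.GU n F q := (hMS hg).1
  have hiso : hermForm n F q ((g : Matrix (Fin n) (Fin n) F) *ᵥ v)
      ((g : Matrix (Fin n) (Fin n) F) *ᵥ v) = 0 := (hgU v v).trans hv.1
  refine ⟨hiso, fun c hc => ?_⟩
  have hc' : QCond n q v c := by
    unfold QCond at hc ⊢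
    rw [hiso] at hc
    rw [hv.1]
    exact hc
  have h1 := conj_qtv hF n ⟨g, hgU⟩ v c hc'
  have h2 : ((qtv hF n ((g : Matrix (Fin n) (Fin n) F) *ᵥ v) c hc : ↥(Cfsg.GU n F q)) :
      Matrix.GeneralLinearGroup (Fin n) F) =
      g * ((qtv hF n v c hc' : ↥(Cfsg.GU n F q)) : Matrix.GeneralLinearGroup (Fin n) F) * g⁻¹ := by
    have h3 := congrArg (fun t : ↥(Cfsg.GU n F q) => (t : Matrix.GeneralLinearGroup (Fin n) F)) h1
    exact h3.symm
  rw [h2]
  exact M.mul_mem (M.mul_mem hg (hv.2 c hc')) (M.inv_mem hg)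

/-- closure under the transvections with centre `u` -/
theorem isCentre_hyp {M : Subgroup (Matrix.GeneralLinearGroup (Fin n) F)}
    (hMS : M ≤ Cfsg.GU n F q ⊓ Cfsg.Geo.specialLinear (Fin n) F) {u v : Fin n → F}
    (hu : IsCentre hF n M u) (hv : IsCentre hF n M v) (c : F) (hc : c ^ q = -c) :
    IsCentre hF n M (v + (c * hermForm n F q v u) • u) := by
  have hc' : QCond n q u c := (qcond_iso n hu.1 c).mpr hc
  have h := isCentre_gact hF hMS _ (hu.2 c hc') hv
  have e : (((qtv hF n u c hc' : ↥(Cfsg.GU n F q)) : Matrix.GeneralLinearGroup (Fin n) F) :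
      Matrix (Fin n) (Fin n) F) *ᵥ v = v + (c * hermForm n F q v u) • u := gact_qtv hF n u c hc' v
  rw [e] at h
  exact h

/-- if all isotropic vectors are centres then `M` contains the special unitary group -/
theorem SU_le (hn : 3 ≤ n) (h32 : ¬ (n = 3 ∧ q = 2))
    {M : Subgroup (Matrix.GeneralLinearGroup (Fin n) F)}
    (h : ∀ v, hermForm n F q v v = 0 → IsCentre hF n M v) :
    Cfsg.GU n F q ⊓ Cfsg.Geo.specialLinear (Fin n) F ≤ M := by
  intro g hg
  rw [mem_SU_iff] at hg
  have hmem := mem_Tv_of_det hF hn h32 ⟨g, hg.1⟩ hg.2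
  have key : ∀ t : ↥(Cfsg.GU n F q), t ∈ Tv (F := F) (q := q) n →
      (t : Matrix.GeneralLinearGroup (Fin n) F) ∈ M := by
    intro t ht
    unfold Tv at ht
    induction ht using Subgroup.closure_induction with
    | mem t ht' =>
      obtain ⟨v, c, hv, htv⟩ := ht'
      by_cases hv0 : v = 0
      · have : (t : Matrix.GeneralLinearGroup (Fin n) F) = 1 := by
          apply Units.ext
          rw [htv, hv0, tv_zero_centre]
          rfl
        rw [this]
        exact one_mem M
      · have hc := qcond_of_mem hF n t v c hv0 hv htv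
        have : (t : Matrix.GeneralLinearGroup (Fin n) F) =
            ((qtv hF n v c hc : ↥(Cfsg.GU n F q)) : Matrix.GeneralLinearGroup (Fin n) F) :=
          Units.ext htv
        rw [this]
        exact (h v hv).2 c hc
    | one => exact one_mem M
    | mul a b _ _ ha hb => exact M.mul_mem ha hb
    | inv a _ ha => exact M.inv_mem ha
  exact key _ hmem

end Cfsg.Agent.Lib.Helper5.SUCentres
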