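import Mathlib
import Cfsg.Prelude
import Cfsg.Agent.Lib.Helper5.SUCentres

set_option autoImplicit false
set_option linter.unusedSectionVars false
set_option linter.unusedVariables false
open Cfsg

/-! The stabiliser of a totally singular subspace is maximal in the special unitary group. -/

namespace Cfsg.Agent.Lib.Helper5.SUSingularMax

open Matrix Cfsg.Agent.Lib.Helper5.Herm Cfsg.Agent.Lib.Helper5.HermBridge
  Cfsg.Agent.Lib.Helper5.HermTv Cfsg.Agent.Lib.Helper5.HermGen Cfsg.Agent.Lib.Helper5.HermEich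
  Cfsg.Agent.Lib.Helper5.SUCentres Cfsg.Agent.Lib.Helper5.SpSingularMax

variable {F : Type*} [Field F] [Fintype F] {q : ℕ} (hF : Fintype.card F = q ^ 2) {n : ℕ}

/-- orthogonality to a subspace -/
def Perp (q : ℕ) (W : Submodule F (Fin n → F)) (v : Fin n → F) : Prop :=
  ∀ w ∈ W, hermForm n F q w v = 0

include hF in
theorem Perp.symm {W : Submodule F (Fin n → F)} {v : Fin n → F} (h : Perp q W v)
    (w : Fin n → F) (hw : w ∈ W) : hermForm n F q v w = 0 := herm_symm_zero hF n (h w hw)

include hF in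
theorem Perp.add {W : Submodule F (Fin n → F)} {u v : Fin n → F} (hu : Perp q W u)
    (hv : Perp q W v) : Perp q W (u + v) := by
  intro w hw
  rw [hermForm_add_right hF, hu w hw, hv w hw, add_zero]

theorem Perp.smul {W : Submodule F (Fin n → F)} {v : Fin n → F} (a : F) (hv : Perp q W v) :
    Perp q W (a • v) := by
  intro w hw
  rw [hermForm_smul_right, hv w hw, mul_zero]

/-- isotropic vectors of the perp are centres -/
theorem isCentre_of_perp (W : Submodule F (Fin n → F))
    (M : Subgroup (Matrix.GeneralLinearGroup (Fin n) F))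
    (hPM : Cfsg.Geo.subspaceStabilizer W ⊓
      (Cfsg.GU n F q ⊓ Cfsg.Geo.specialLinear (Fin n) F) ≤ M)
    (v : Fin n → F) (hv : hermForm n F q v v = 0) (hp : Perp q W v) : IsCentre hF n M v := by
  refine ⟨hv, fun c hc => ?_⟩
  apply hPM
  rw [Subgroup.mem_inf, mem_SU_iff]
  refine ⟨mem_stab_of_map_le W _ ?_, (qtv hF n v c hc).2, ?_⟩
  · intro x hx
    have : (((qtv hF n v c hc : ↥(Cfsg.GU n F q)) : Matrix.GeneralLinearGroup (Fin n) F) :
        Matrix (Fin n) (Fin n) F) *ᵥ x = x + (c * hermForm n F q x v) • v := gact_qtv hF n v c hc x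
    rw [this, hp x hx, mul_zero, zero_smul, add_zero]
    exact hx
  · show (unitaryTransvection n q v c).det = 1
    rw [det_tv, hv, mul_zero, add_zero]

/-- the Eichler transformations with isotropic vector in `W` lie in the stabiliser -/
theorem eich_mem (W : Submodule F (Fin n → F))
    (hW : Cfsg.Geo.IsTotallySingularFor (hermForm n F q) W)
    (u z : Fin n → F) (b : F) (hu : u ∈ W) (H : EHyp n q u z b) :
    ((eich hF n u z b H : ↥(Cfsg.GU n F q)) : Matrix.GeneralLinearGroup (Fin n) F) ∈
      Cfsg.Geo.subspaceStabilizer W ⊓ (Cfsg.GU n F q ⊓ Cfsg.Geo.specialLinear (Fin n) F) := by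
  rw [Subgroup.mem_inf, mem_SU_iff]
  refine ⟨mem_stab_of_map_le W _ ?_, (eich hF n u z b H).2, det_eich hF n u z b H⟩
  intro x hx
  have : (((eich hF n u z b H : ↥(Cfsg.GU n F q)) : Matrix.GeneralLinearGroup (Fin n) F) :
      Matrix (Fin n) (Fin n) F) *ᵥ x = x + hermForm n F q x u • z +
        (b * hermForm n F q x u - hermForm n F q x z) • u := gact_eich hF n u z b H x
  rw [this, hW x hx u hu, zero_smul, add_zero, mul_zero, zero_sub]
  exact W.add_mem hx (W.smul_mem _ hu)


/-- vectors of `W` are perpendicular to `W` -/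
theorem perp_of_mem (W : Submodule F (Fin n → F))
    (hW : Cfsg.Geo.IsTotallySingularFor (hermForm n F q) W) (u : Fin n → F) (hu : u ∈ W) :
    Perp q W u := fun w hw => hW w hw u hu

include hF in
/-- the key closure property of centres -/
theorem claim1 (W : Submodule F (Fin n → F))
    (hW : Cfsg.Geo.IsTotallySingularFor (hermForm n F q) W)
    (M : Subgroup (Matrix.GeneralLinearGroup (Fin n) F))
    (hPM : Cfsg.Geo.subspaceStabilizer W ⊓
      (Cfsg.GU n F q ⊓ Cfsg.Geo.specialLinear (Fin n) F) ≤ M)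
    (hMS : M ≤ Cfsg.GU n F q ⊓ Cfsg.Geo.specialLinear (Fin n) F)
    (s y : Fin n → F) (hs : IsCentre hF n M s) (hy : Perp q W y)
    (hsy : hermForm n F q (s + y) (s + y) = 0) : IsCentre hF n M (s + y) := by
  by_cases hsP : Perp q W s
  · exact isCentre_of_perp hF W M hPM _ hsy (hsP.add hF hy)
  · unfold Perp at hsP
    push Not at hsP
    obtain ⟨w, hw, hws⟩ := hsP
    have hsw : hermForm n F q s w ≠ 0 := by
      intro h
      exact hws (herm_symm_zero hF n h)
    set w₁ : Fin n → F := (((hermForm n F q s w)⁻¹) ^ q) • w with hw₁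
    have hw₁W : w₁ ∈ W := W.smul_mem _ hw
    have hsw₁ : hermForm n F q s w₁ = 1 := by
      rw [hw₁, hermForm_smul_right, pow_q_pow_q hF, inv_mul_cancel₀ hsw]
    have hw₁s : hermForm n F q w₁ s = 1 := by
      rw [← hermForm_conj hF, hsw₁, one_pow]
    clear_value w₁
    have hw₁iso : hermForm n F q w₁ w₁ = 0 := hW w₁ hw₁W w₁ hw₁W
    have hyw₁ : hermForm n F q y w₁ = 0 := hy.symm hF w₁ hw₁W
    have hw₁y : hermForm n F q w₁ y = 0 := hy w₁ hw₁W
    obtain ⟨b, hb⟩ := exists_trace_eq hF (-(hermForm n F q y y)) (by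
      rw [pow_q_neg hF, herm_self_fixed hF])
    have H : EHyp n q w₁ y b := ⟨hw₁iso, hyw₁, by rw [hb]; ring⟩
    have hE := hPM (eich_mem hF W hW w₁ y b hw₁W H)
    have h1 := isCentre_gact hF hMS _ hE hs
    have e1 : (((eich hF n w₁ y b H : ↥(Cfsg.GU n F q)) : Matrix.GeneralLinearGroup (Fin n) F) :
        Matrix (Fin n) (Fin n) F) *ᵥ s = s + hermForm n F q s w₁ • y +
          (b * hermForm n F q s w₁ - hermForm n F q s y) • w₁ := gact_eich hF n w₁ y b H s
    rw [e1, hsw₁, one_smul, mul_one] at h1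
    have hw₁C : IsCentre hF n M w₁ :=
      isCentre_of_perp hF W M hPM w₁ hw₁iso (perp_of_mem W hW w₁ hw₁W)
    -- the trace-zero scalar
    have hexp : hermForm n F q s y + hermForm n F q y s + hermForm n F q y y = 0 := by
      have := hsy
      rw [hermForm_add_left, hermForm_add_right hF, hermForm_add_right hF, hs.1] at this
      linear_combination this
    have ha : (hermForm n F q s y - b) ^ q = -(hermForm n F q s y - b) := by
      rw [pow_q_sub hF, hermForm_conj hF]
      linear_combination hexp - hb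
    have h2 := isCentre_hyp hF hMS hw₁C h1 (hermForm n F q s y - b) ha
    have e2 : hermForm n F q (s + y + (b - hermForm n F q s y) • w₁) w₁ = 1 := by
      rw [hermForm_add_left, hermForm_add_left, hermForm_smul_left, hsw₁, hyw₁, hw₁iso]
      ring
    rw [e2, mul_one] at h2
    have e3 : s + y + (b - hermForm n F q s y) • w₁ + (hermForm n F q s y - b) • w₁ = s + y := by
      rw [add_assoc, ← add_smul]
      have : b - hermForm n F q s y + (hermForm n F q s y - b) = 0 := by ring
      rw [this, zero_smul, add_zero]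
    rw [e3] at h2
    exact h2

include hF in
theorem isMaximalIn (hn : 3 ≤ n) (h32 : ¬ (n = 3 ∧ q = 2)) (W : Submodule F (Fin n → F))
    (hW0 : W ≠ ⊥) (hW : Cfsg.Geo.IsTotallySingularFor (hermForm n F q) W) :
    Cfsg.Geo.IsMaximalIn (Cfsg.GU n F q ⊓ Cfsg.Geo.specialLinear (Fin n) F)
      (Cfsg.Geo.subspaceStabilizer W ⊓
        (Cfsg.GU n F q ⊓ Cfsg.Geo.specialLinear (Fin n) F)) := by
  obtain ⟨w₀, hw₀, hw₀0⟩ := (Submodule.ne_bot_iff W).1 hW0
  refine ⟨lt_of_le_of_ne inf_le_right ?_, ?_⟩
  · -- a transvection moving `W`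
    intro h
    have hw₀iso : hermForm n F q w₀ w₀ = 0 := hW w₀ hw₀ w₀ hw₀
    obtain ⟨f, hf, hw₀f⟩ := exists_partner hF n w₀ hw₀0 hw₀iso
    obtain ⟨c, hc0, hc⟩ := exists_trace_zero hF
    have hc' : QCond n q f c := (qcond_iso n hf c).mpr hc
    have hmem : ((qtv hF n f c hc' : ↥(Cfsg.GU n F q)) : Matrix.GeneralLinearGroup (Fin n) F) ∈
        Cfsg.Geo.subspaceStabilizer W ⊓
          (Cfsg.GU n F q ⊓ Cfsg.Geo.specialLinear (Fin n) F) := by
      rw [h, mem_SU_iff]
      refine ⟨(qtv hF n f c hc').2, ?_⟩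
      show (unitaryTransvection n q f c).det = 1
      rw [det_tv, hf, mul_zero, add_zero]
    have h1 := ((mem_stab_iff W _).mp hmem.1 w₀).mp hw₀
    have e : (((qtv hF n f c hc' : ↥(Cfsg.GU n F q)) : Matrix.GeneralLinearGroup (Fin n) F) :
        Matrix (Fin n) (Fin n) F) *ᵥ w₀ = w₀ + (c * hermForm n F q w₀ f) • f :=
      gact_qtv hF n f c hc' w₀
    rw [e, hw₀f, mul_one] at h1
    have hcf : c • f ∈ W := (Submodule.add_mem_iff_right W hw₀).mp h1
    have hfW : f ∈ W := by
      have := W.smul_mem c⁻¹ hcf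
      rwa [smul_smul, inv_mul_cancel₀ hc0, one_smul] at this
    have := hW w₀ hw₀ f hfW
    rw [hw₀f] at this
    exact one_ne_zero this
  · intro M hPM hMS
    by_cases hMP : M ≤ Cfsg.Geo.subspaceStabilizer W ⊓
        (Cfsg.GU n F q ⊓ Cfsg.Geo.specialLinear (Fin n) F)
    · left
      exact le_antisymm hMP hPM
    right
    apply le_antisymm hMS
    apply SU_le hF hn h32
    have hWC : ∀ u ∈ W, IsCentre hF n M u := fun u hu =>
      isCentre_of_perp hF W M hPM u (hW u hu u hu) (perp_of_mem W hW u hu)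
    -- an element of `M` moving `W`
    obtain ⟨g₀, hg₀M, hg₀P⟩ := SetLike.not_le_iff_exists.mp hMP
    have hg₀S : g₀ ∉ Cfsg.Geo.subspaceStabilizer W := fun h => hg₀P ⟨h, hMS hg₀M⟩
    obtain ⟨g, hgM, w, hw, hgw⟩ : ∃ g ∈ M, ∃ w ∈ W,
        (g : Matrix (Fin n) (Fin n) F) *ᵥ w ∉ W := by
      by_contra hcon
      push Not at hcon
      exact hg₀S (mem_stab_of_map_le W g₀ (hcon g₀ hg₀M))
    have hgU : g ∈ Cfsg.GU n F q := (hMS hgM).1
    -- a centre outside the perp
    obtain ⟨s₀, hs₀C, hs₀P⟩ : ∃ s₀, IsCentre hF n M s₀ ∧ ¬ Perp q W s₀ := by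
      have hgwC : IsCentre hF n M ((g : Matrix (Fin n) (Fin n) F) *ᵥ w) :=
        isCentre_gact hF hMS g hgM (hWC w hw)
      by_cases hp : Perp q W ((g : Matrix (Fin n) (Fin n) F) *ᵥ w)
      · obtain ⟨z, hz, hzw⟩ := HermWitt.exists_perp_not_perp (hermSesq hF n)
          (hermSesq_nondegenerate hF n) W _ hgw
        simp only [hermSesq_apply] at hz hzw
        obtain ⟨μ, hμ⟩ := exists_trace_eq hF (-(hermForm n F q z z)) (by
          rw [pow_q_neg hF, herm_self_fixed hF])
        set gw := (g : Matrix (Fin n) (Fin n) F) *ᵥ w with hgw_def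
        set t : F := μ / hermForm n F q gw z with ht
        have htμ : t * hermForm n F q gw z = μ := div_mul_cancel₀ _ hzw
        set y' : Fin n → F := z + t • gw with hy'
        have hy'P : Perp q W y' := Perp.add hF hz (hp.smul t)
        have hy'iso : hermForm n F q y' y' = 0 := by
          rw [hy', hermForm_add_left, hermForm_add_right hF, hermForm_add_right hF,
            hermForm_smul_left, hermForm_smul_left, hermForm_smul_right, hermForm_smul_right,
            hgwC.1, ← hermForm_conj hF n gw z, ← mul_pow, htμ]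
          linear_combination hμ
        have hy'C : IsCentre hF n M y' := isCentre_of_perp hF W M hPM y' hy'iso hy'P
        have hgy' : hermForm n F q gw y' ≠ 0 := by
          rw [hy', hermForm_add_right hF, hermForm_smul_right, hgwC.1, mul_zero, add_zero]
          exact hzw
        refine ⟨((g⁻¹ : Matrix.GeneralLinearGroup (Fin n) F) : Matrix (Fin n) (Fin n) F) *ᵥ y',
          isCentre_gact hF hMS _ (M.inv_mem hgM) hy'C, ?_⟩
        intro hP
        have h1 := hP w hw
        have h2 : hermForm n F q ((g : Matrix (Fin n) (Fin n) F) *ᵥ w)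
            ((g : Matrix (Fin n) (Fin n) F) *ᵥ (((g⁻¹ : Matrix.GeneralLinearGroup (Fin n) F) :
              Matrix (Fin n) (Fin n) F) *ᵥ y')) =
            hermForm n F q w (((g⁻¹ : Matrix.GeneralLinearGroup (Fin n) F) :
              Matrix (Fin n) (Fin n) F) *ᵥ y') := hgU w _
        rw [mulVec_mulVec, ← Units.val_mul, mul_inv_cancel, Units.val_one, one_mulVec] at h2
        rw [← h2] at h1
        exact hgy' h1
      · exact ⟨_, hgwC, hp⟩
    -- a vector of `W` pairing to one with `s₀`
    obtain ⟨u₁, hu₁, hfu₁⟩ : ∃ u₁ ∈ W, hermForm n F q u₁ s₀ = 1 := by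
      unfold Perp at hs₀P
      push Not at hs₀P
      obtain ⟨w', hw', hw's⟩ := hs₀P
      refine ⟨(hermForm n F q w' s₀)⁻¹ • w', W.smul_mem _ hw', ?_⟩
      rw [hermForm_smul_left, inv_mul_cancel₀ hw's]
    intro x hx
    by_cases hcase : ∀ z ∈ W, hermForm n F q z s₀ = 0 → hermForm n F q z x = 0
    · -- `x` is a multiple of `s₀` modulo the perp
      have hxp : Perp q W (x - ((hermForm n F q u₁ x) ^ q) • s₀) := by
        intro w' hw'
        have hz : w' - hermForm n F q w' s₀ • u₁ ∈ W := W.sub_mem hw' (W.smul_mem _ hu₁)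
        have h1 := hcase _ hz (by
          rw [sub_eq_add_neg, hermForm_add_left, hermForm_neg_left, hermForm_smul_left, hfu₁,
            mul_one, add_neg_cancel])
        rw [sub_eq_add_neg, hermForm_add_left, hermForm_neg_left, hermForm_smul_left] at h1
        rw [sub_eq_add_neg, hermForm_add_right hF, hermForm_neg_right hF, hermForm_smul_right,
          pow_q_pow_q hF]
        linear_combination h1
      have h2 := claim1 hF W hW M hPM hMS _ _ (isCentre_smul hF ((hermForm n F q u₁ x) ^ q) hs₀C)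
        hxp (by
          have e : (hermForm n F q u₁ x) ^ q • s₀ + (x - (hermForm n F q u₁ x) ^ q • s₀) = x := by
            abel
          rw [e]; exact hx)
      have e : (hermForm n F q u₁ x) ^ q • s₀ + (x - (hermForm n F q u₁ x) ^ q • s₀) = x := by
        abel
      rw [e] at h2
      exact h2
    · push Not at hcase
      obtain ⟨z, hz, hfz, hgz⟩ := hcase
      set u := u₁ + ((1 - hermForm n F q u₁ x) / hermForm n F q z x) • z with hu
      have huW : u ∈ W := W.add_mem hu₁ (W.smul_mem _ hz)
      have hfu : hermForm n F q u s₀ = 1 := by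
        rw [hu, hermForm_add_left, hermForm_smul_left, hfz, mul_zero, add_zero, hfu₁]
      have hgu : hermForm n F q u x = 1 := by
        rw [hu, hermForm_add_left, hermForm_smul_left, div_mul_cancel₀ _ hgz]
        ring
      clear_value u
      have hs₀u : hermForm n F q s₀ u = 1 := by
        rw [← hermForm_conj hF, hfu, one_pow]
      set v := x - s₀ with hv
      have huv : hermForm n F q u v = 0 := by
        rw [hv, sub_eq_add_neg, hermForm_add_right hF, hermForm_neg_right hF, hfu, hgu,
          add_neg_cancel]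
      have hvu : hermForm n F q v u = 0 := herm_symm_zero hF n huv
      obtain ⟨b, hb⟩ := exists_trace_eq hF (-(hermForm n F q v v)) (by
        rw [pow_q_neg hF, herm_self_fixed hF])
      have H : EHyp n q u v b := ⟨hW u huW u huW, hvu, by rw [hb]; ring⟩
      have hE := hPM (eich_mem hF W hW u v b huW H)
      have h1 := isCentre_gact hF hMS _ hE hs₀C
      have e1 : (((eich hF n u v b H : ↥(Cfsg.GU n F q)) : Matrix.GeneralLinearGroup (Fin n) F) :
          Matrix (Fin n) (Fin n) F) *ᵥ s₀ = s₀ + hermForm n F q s₀ u • v +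
            (b * hermForm n F q s₀ u - hermForm n F q s₀ v) • u := gact_eich hF n u v b H s₀
      rw [e1, hs₀u, one_smul, mul_one] at h1
      have e : s₀ + v + (b - hermForm n F q s₀ v) • u + (-(b - hermForm n F q s₀ v)) • u = x := by
        rw [hv, neg_smul]; abel
      have h2 := claim1 hF W hW M hPM hMS _ _ h1
        ((perp_of_mem W hW u huW).smul (-(b - hermForm n F q s₀ v))) (by rw [e]; exact hx)
      rw [e] at h2
      exact h2

end Cfsg.Agent.Lib.Helper5.SUSingularMax
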