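import Mathlib
import Cfsg.Prelude
import Cfsg.Agent.Lib.Helper5.SUSingularMax

set_option autoImplicit false
set_option linter.unusedSectionVars false
set_option linter.unusedVariables false
open Cfsg

/-! Orthogonal decompositions of the standard hermitian space. -/

namespace Cfsg.Agent.Lib.Helper5.HermPair

open Matrix Cfsg.Agent.Lib.Helper5.Herm Cfsg.Agent.Lib.Helper5.HermBridge
  Cfsg.Agent.Lib.Helper5.HermTv Cfsg.Agent.Lib.Helper5.HermGen Cfsg.Agent.Lib.Helper5.HermEich
  Cfsg.Agent.Lib.Helper5.SUCentres Cfsg.Agent.Lib.Helper5.SpSingularMax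
  Cfsg.Agent.Lib.Helper5.SUSingularMax

variable {F : Type*} [Field F] [Fintype F] {q : ℕ} (hF : Fintype.card F = q ^ 2) {n : ℕ}

/-- an orthogonal decomposition of the whole space -/
structure OrthoPair (q : ℕ) (A B : Submodule F (Fin n → F)) : Prop where
  orth : ∀ a ∈ A, ∀ b ∈ B, hermForm n F q a b = 0
  decomp : ∀ x : Fin n → F, ∃ a ∈ A, ∃ b ∈ B, a + b = x

include hF in
theorem OrthoPair.symm {A B : Submodule F (Fin n → F)} (h : OrthoPair q A B) :
    OrthoPair q B A where
  orth := fun b hb a ha => herm_symm_zero hF n (h.orth a ha b hb)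
  decomp := fun x => by
    obtain ⟨a, ha, b, hb, hx⟩ := h.decomp x
    exact ⟨b, hb, a, ha, by rw [add_comm]; exact hx⟩

include hF in
theorem OrthoPair.nondeg {A B : Submodule F (Fin n → F)} (h : OrthoPair q A B)
    (a : Fin n → F) (ha : a ∈ A) (ha0 : a ≠ 0) : ∃ a' ∈ A, hermForm n F q a a' ≠ 0 := by
  obtain ⟨z, hz⟩ : ∃ z, hermForm n F q a z ≠ 0 := by
    by_contra hcon
    push Not at hcon
    apply ha0
    have h1 : ∀ y, hermForm n F q y a = 0 := fun y => herm_symm_zero hF n (hcon y)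
    apply (hermSesq_nondegenerate hF n).1 a
    intro y
    rw [hermSesq_apply]
    exact h1 y
  obtain ⟨a', ha', b', hb', rfl⟩ := h.decomp z
  refine ⟨a', ha', ?_⟩
  rw [hermForm_add_right hF, h.orth a ha b' hb', add_zero] at hz
  exact hz

include hF in
theorem OrthoPair.disjoint {A B : Submodule F (Fin n → F)} (h : OrthoPair q A B)
    (x : Fin n → F) (hA : x ∈ A) (hB : x ∈ B) : x = 0 := by
  by_contra hx0
  obtain ⟨a', ha', hne⟩ := h.nondeg hF x hA hx0
  exact hne (herm_symm_zero hF n (h.orth a' ha' x hB))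

include hF in
theorem OrthoPair.mem_left_of_perp {A B : Submodule F (Fin n → F)} (h : OrthoPair q A B)
    (x : Fin n → F) (hx : ∀ b ∈ B, hermForm n F q x b = 0) : x ∈ A := by
  obtain ⟨a, ha, b, hb, rfl⟩ := h.decomp x
  have hb0 : b = 0 := by
    by_contra hb0
    obtain ⟨b', hb', hne⟩ := (h.symm hF).nondeg hF b hb hb0
    have := hx b' hb'
    rw [hermForm_add_left, h.orth a ha b' hb', zero_add] at this
    exact hne this
  rw [hb0, add_zero]
  exact ha

theorem OrthoPair.finrank_le {A B : Submodule F (Fin n → F)} (h : OrthoPair q A B) :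
    n ≤ Module.finrank F A + Module.finrank F B := by
  have htop : A ⊔ B = ⊤ := by
    rw [eq_top_iff]
    intro x _
    obtain ⟨a, ha, b, hb, rfl⟩ := h.decomp x
    exact Submodule.add_mem_sup ha hb
  have h1 := Submodule.finrank_add_le_finrank_add_finrank A B
  rw [htop, finrank_top, Module.finrank_fintype_fun_eq_card, Fintype.card_fin] at h1
  exact h1

include hF in
/-- a hyperbolic partner inside the summand -/
theorem OrthoPair.exists_partner {A B : Submodule F (Fin n → F)} (h : OrthoPair q A B)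
    (e : Fin n → F) (heA : e ∈ A) (he0 : e ≠ 0) (he : hermForm n F q e e = 0) :
    ∃ f ∈ A, hermForm n F q f f = 0 ∧ hermForm n F q e f = 1 := by
  obtain ⟨y, hyA, hy⟩ := h.nondeg hF e heA he0
  set κ : F := ((hermForm n F q e y)⁻¹) ^ q with hκ
  set y' : Fin n → F := κ • y with hy'
  have hy'A : y' ∈ A := A.smul_mem _ hyA
  have hey' : hermForm n F q e y' = 1 := by
    rw [hy', hermForm_smul_right, hκ, pow_q_pow_q hF, inv_mul_cancel₀ hy]
  have hy'e : hermForm n F q y' e = 1 := by
    rw [← hermForm_conj hF, hey', one_pow]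
  clear_value y'
  obtain ⟨β, hβ⟩ := exists_trace_eq hF (-(hermForm n F q y' y')) (by
    rw [pow_q_neg hF, herm_self_fixed hF])
  refine ⟨y' + β • e, A.add_mem hy'A (A.smul_mem _ heA), ?_, ?_⟩
  · rw [hermForm_add_left, hermForm_add_right hF, hermForm_add_right hF, hermForm_smul_left,
      hermForm_smul_left, hermForm_smul_right, hermForm_smul_right, he, hey', hy'e]
    linear_combination hβ
  · rw [hermForm_add_right hF, hermForm_smul_right, he, hey']
    ring

include hF in
/-- every vector of a summand containing a hyperbolic pair is a sum of three isotropic vectors -/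
theorem OrthoPair.span3 {A B : Submodule F (Fin n → F)} (h : OrthoPair q A B)
    (e f : Fin n → F) (heA : e ∈ A) (hfA : f ∈ A) (he : hermForm n F q e e = 0)
    (hf : hermForm n F q f f = 0) (hef : hermForm n F q e f = 1)
    (x : Fin n → F) (hx : x ∈ A) :
    ∃ u₁ ∈ A, ∃ u₂ ∈ A, ∃ u₃ ∈ A, hermForm n F q u₁ u₁ = 0 ∧ hermForm n F q u₂ u₂ = 0 ∧
      hermForm n F q u₃ u₃ = 0 ∧ x = u₁ + u₂ + u₃ := by
  have hfe : hermForm n F q f e = 1 := by rw [← hermForm_conj hF, hef, one_pow]
  set α := hermForm n F q x f with hα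
  set β := hermForm n F q x e with hβ
  set x' : Fin n → F := x - α • e - β • f with hx'
  have hx'A : x' ∈ A := A.sub_mem (A.sub_mem hx (A.smul_mem _ heA)) (A.smul_mem _ hfA)
  have hx'e : hermForm n F q x' e = 0 := by
    rw [hx', sub_eq_add_neg, sub_eq_add_neg, hermForm_add_left, hermForm_add_left,
      hermForm_neg_left, hermForm_neg_left, hermForm_smul_left, hermForm_smul_left, he, hfe]
    ring
  have hx'f : hermForm n F q x' f = 0 := by
    rw [hx', sub_eq_add_neg, sub_eq_add_neg, hermForm_add_left, hermForm_add_left,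
      hermForm_neg_left, hermForm_neg_left, hermForm_smul_left, hermForm_smul_left, hf, hef]
    ring
  have hex' : hermForm n F q e x' = 0 := herm_symm_zero hF n hx'e
  have hfx' : hermForm n F q f x' = 0 := herm_symm_zero hF n hx'f
  have hxx : x = x' + α • e + β • f := by rw [hx']; abel
  clear_value x'
  obtain ⟨μ, hμ⟩ := exists_trace_eq hF (-(hermForm n F q x' x')) (by
    rw [pow_q_neg hF, herm_self_fixed hF])
  refine ⟨e + x' + μ • f, A.add_mem (A.add_mem heA hx'A) (A.smul_mem _ hfA),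
    (α - 1) • e, A.smul_mem _ heA, (β - μ) • f, A.smul_mem _ hfA, ?_, ?_, ?_, ?_⟩
  · simp only [hermForm_add_left, hermForm_add_right hF, hermForm_smul_left, hermForm_smul_right,
      he, hf, hef, hfe, hx'e, hx'f, hex', hfx']
    linear_combination hμ
  · rw [hermForm_smul_left, hermForm_smul_right, he, mul_zero, mul_zero]
  · rw [hermForm_smul_left, hermForm_smul_right, hf, mul_zero, mul_zero]
  · rw [hxx, sub_smul, sub_smul, one_smul]
    abel

include hF in
/-- in a summand containing a non-zero isotropic vector, every non-zero vector is non-orthogonal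
to some isotropic vector -/
theorem OrthoPair.exists_iso_nonorth {A B : Submodule F (Fin n → F)} (h : OrthoPair q A B)
    (e : Fin n → F) (heA : e ∈ A) (he0 : e ≠ 0) (he : hermForm n F q e e = 0)
    (x : Fin n → F) (hx : x ∈ A) (hx0 : x ≠ 0) :
    ∃ u ∈ A, hermForm n F q u u = 0 ∧ hermForm n F q x u ≠ 0 := by
  obtain ⟨f, hfA, hf, hef⟩ := h.exists_partner hF e heA he0 he
  obtain ⟨a', ha', hne⟩ := h.nondeg hF x hx hx0
  obtain ⟨u₁, h₁, u₂, h₂, u₃, h₃, i₁, i₂, i₃, rfl⟩ := h.span3 hF e f heA hfA he hf hef a' ha'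
  by_contra hcon
  push Not at hcon
  apply hne
  rw [hermForm_add_right hF, hermForm_add_right hF, hcon u₁ h₁ i₁, hcon u₂ h₂ i₂, hcon u₃ h₃ i₃]
  ring


include hF in
theorem exists_not_fixed : ∃ t : F, t ^ q ≠ t := by
  by_contra hcon
  push Not at hcon
  apply sigma_ne_id hF
  ext a
  rw [sigma_apply, hcon a]
  rfl

include hF in
/-- a subspace all of whose vectors are isotropic is totally isotropic -/
theorem polar0 (U : Submodule F (Fin n → F)) (hU : ∀ u ∈ U, hermForm n F q u u = 0)
    (u u' : Fin n → F) (hu : u ∈ U) (hu' : u' ∈ U) : hermForm n F q u u' = 0 := by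
  obtain ⟨t, ht⟩ := exists_not_fixed hF
  have key : ∀ s : F, s ^ q * hermForm n F q u u' + s * hermForm n F q u' u = 0 := by
    intro s
    have h1 := hU (u + s • u') (U.add_mem hu (U.smul_mem _ hu'))
    rw [hermForm_add_left, hermForm_add_right hF, hermForm_add_right hF, hermForm_smul_left,
      hermForm_smul_left, hermForm_smul_right, hermForm_smul_right, hU u hu, hU u' hu'] at h1
    linear_combination h1
  have h1 := key 1
  have h2 := key t
  rw [one_pow, one_mul, one_mul] at h1
  have h3 : (t ^ q - t) * hermForm n F q u u' = 0 := by linear_combination h2 - t * h1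
  rcases mul_eq_zero.mp h3 with h4 | h4
  · exact absurd (sub_eq_zero.mp h4) ht
  · exact h4

/-- a non-zero vector of a subspace killed by few functionals -/
theorem exists_ne_zero_ker (A : Submodule F (Fin n → F)) (k : ℕ)
    (ℓ : (Fin n → F) →ₗ[F] (Fin k → F)) (hk : k < Module.finrank F A) :
    ∃ v ∈ A, v ≠ 0 ∧ ℓ v = 0 := by
  set φ : A →ₗ[F] (Fin k → F) := ℓ.domRestrict A with hφ
  have h1 := LinearMap.finrank_range_add_finrank_ker φ
  have h2 : Module.finrank F (LinearMap.range φ) ≤ k := by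
    have := Submodule.finrank_le (LinearMap.range φ)
    rwa [Module.finrank_fintype_fun_eq_card, Fintype.card_fin] at this
  have h3 : 0 < Module.finrank F (LinearMap.ker φ) := by omega
  obtain ⟨v, hv⟩ : ∃ v : LinearMap.ker φ, v ≠ 0 := by
    have : Nontrivial (LinearMap.ker φ) := Module.nontrivial_of_finrank_pos (R := F) h3
    exact exists_ne 0
  refine ⟨((v : A) : Fin n → F), (v : A).2, ?_, ?_⟩
  · intro h0
    apply hv
    apply Subtype.ext
    apply Subtype.ext
    exact h0
  · have := v.2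
    rw [LinearMap.mem_ker] at this
    exact this

include hF in
/-- a non-zero vector of a subspace orthogonal to few given vectors -/
theorem exists_ne_zero_perp (A : Submodule F (Fin n → F)) (k : ℕ) (b : Fin k → (Fin n → F))
    (hk : k < Module.finrank F A) :
    ∃ v ∈ A, v ≠ 0 ∧ ∀ i, hermForm n F q v (b i) = 0 := by
  obtain ⟨v, hvA, hv0, hv⟩ := exists_ne_zero_ker A k
    (LinearMap.pi (fun i => hermSesq hF n (b i))) hk
  refine ⟨v, hvA, hv0, fun i => ?_⟩
  have := congrFun hv i
  simpa using this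

include hF in
/-- an anisotropic vector of the summand orthogonal to a given vector -/
theorem OrthoPair.exists_aniso_perp {A B : Submodule F (Fin n → F)} (h : OrthoPair q A B)
    (h3 : 3 ≤ Module.finrank F A) (b : Fin n → F) (hb : b ∈ A) :
    ∃ d ∈ A, hermForm n F q d b = 0 ∧ hermForm n F q d d ≠ 0 := by
  by_contra hcon
  push Not at hcon
  set U : Submodule F (Fin n → F) := A ⊓ LinearMap.ker (hermSesq hF n b) with hU
  have hUmem : ∀ x, x ∈ U ↔ x ∈ A ∧ hermForm n F q x b = 0 := by
    intro x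
    rw [hU, Submodule.mem_inf, LinearMap.mem_ker, hermSesq_apply]
  have hUiso : ∀ u ∈ U, hermForm n F q u u = 0 := fun u hu =>
    hcon u ((hUmem u).mp hu).1 ((hUmem u).mp hu).2
  have hUti := polar0 hF U hUiso
  obtain ⟨u, huA, hu0, hub⟩ := exists_ne_zero_perp hF A 1 ![b] (by omega)
  have hub' : hermForm n F q u b = 0 := hub 0
  have huU : u ∈ U := (hUmem u).mpr ⟨huA, hub'⟩
  obtain ⟨y, hyA, huy⟩ := h.nondeg hF u huA hu0
  have hyb : hermForm n F q y b ≠ 0 := by
    intro h0
    exact huy (hUti u y huU ((hUmem y).mpr ⟨hyA, h0⟩))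
  obtain ⟨v, hvA, hv0, hvb⟩ := exists_ne_zero_perp hF A 2 ![b, y] (by omega)
  have hvb' : hermForm n F q v b = 0 := hvb 0
  have hvy : hermForm n F q v y = 0 := hvb 1
  have hvU : v ∈ U := (hUmem v).mpr ⟨hvA, hvb'⟩
  obtain ⟨a', ha', hne⟩ := h.nondeg hF v hvA hv0
  apply hne
  set x' : Fin n → F := a' - (hermForm n F q a' b / hermForm n F q y b) • y with hx'
  have hx'U : x' ∈ U := by
    rw [hUmem]
    refine ⟨A.sub_mem ha' (A.smul_mem _ hyA), ?_⟩
    rw [hx', sub_eq_add_neg, hermForm_add_left, hermForm_neg_left, hermForm_smul_left,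
      div_mul_cancel₀ _ hyb, add_neg_cancel]
  have h1 := hUti v x' hvU hx'U
  have e : a' = x' + (hermForm n F q a' b / hermForm n F q y b) • y := by rw [hx']; abel
  rw [e, hermForm_add_right hF, hermForm_smul_right, h1, hvy, mul_zero, add_zero]

include hF in
/-- a non-zero isotropic vector in a summand of dimension at least three -/
theorem OrthoPair.exists_iso {A B : Submodule F (Fin n → F)} (h : OrthoPair q A B)
    (h3 : 3 ≤ Module.finrank F A) :
    ∃ e ∈ A, e ≠ 0 ∧ hermForm n F q e e = 0 := by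
  obtain ⟨d₁, hd₁A, -, hd₁⟩ := h.exists_aniso_perp hF h3 0 A.zero_mem
  obtain ⟨d₂, hd₂A, hd₂₁, hd₂⟩ := h.exists_aniso_perp hF h3 d₁ hd₁A
  have hd₁₂ : hermForm n F q d₁ d₂ = 0 := herm_symm_zero hF n hd₂₁
  obtain ⟨t, ht⟩ := Cfsg.Agent.Lib.Helper5.HermCount.exists_norm_eq hF
    (-(hermForm n F q d₁ d₁) / hermForm n F q d₂ d₂)
    (div_ne_zero (neg_ne_zero.mpr hd₁) hd₂) (by
      rw [div_pow, pow_q_neg hF, herm_self_fixed hF, herm_self_fixed hF])
  refine ⟨d₁ + t • d₂, A.add_mem hd₁A (A.smul_mem _ hd₂A), ?_, ?_⟩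
  · intro h0
    have h1 : hermForm n F q (d₁ + t • d₂) d₁ = hermForm n F q d₁ d₁ := by
      rw [hermForm_add_left, hermForm_smul_left, hd₂₁, mul_zero, add_zero]
    rw [h0] at h1
    apply hd₁
    rw [← h1]
    unfold hermForm
    simp
  · rw [hermForm_add_left, hermForm_add_right hF, hermForm_add_right hF, hermForm_smul_left,
      hermForm_smul_left, hermForm_smul_right, hermForm_smul_right, hd₁₂, hd₂₁]
    have h1 : t * t ^ q * hermForm n F q d₂ d₂ = -(hermForm n F q d₁ d₁) := by
      rw [mul_comm t, ← pow_succ, ht, div_mul_cancel₀ _ hd₂]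
    linear_combination h1

/-- the orthogonal complement of a subspace -/
def perpS (W : Submodule F (Fin n → F)) : Submodule F (Fin n → F) where
  carrier := {v | Perp q W v}
  add_mem' := fun {a b} ha hb => Perp.add hF ha hb
  zero_mem' := by
    intro w hw
    have := hermSesq_apply hF n (0 : Fin n → F) w
    rw [← this, map_zero]
    rfl
  smul_mem' := fun c {a} ha => Perp.smul c ha

theorem mem_perpS (W : Submodule F (Fin n → F)) (v : Fin n → F) :
    v ∈ perpS hF W ↔ Perp q W v := Iff.rfl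

/-- a subspace on which the form is non-degenerate splits off -/
theorem orthoPair_of_nondeg (W : Submodule F (Fin n → F))
    (hW : Cfsg.Geo.IsNondegenerateOn (hermForm n F q) W) : OrthoPair q W (perpS hF W) := by
  refine ⟨fun a ha b hb => hb a ha, fun x => ?_⟩
  let Φ : W → Module.Dual F W := fun a => (hermSesq hF n (a : Fin n → F)).domRestrict W
  have hΦ : ∀ (a : W) (w : W), Φ a w = hermForm n F q (w : Fin n → F) (a : Fin n → F) :=
    fun a w => rfl
  have hinj : Function.Injective Φ := by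
    intro a a' haa
    by_contra hne
    have hne' : ((a - a' : W) : Fin n → F) ≠ 0 := by
      intro h0
      apply hne
      have : a - a' = 0 := Subtype.ext h0
      exact sub_eq_zero.mp this
    obtain ⟨x, hxW, hx⟩ := (hW _ (a - a' : W).2 hne').1
    apply hx
    have h1 := congrFun (congrArg DFunLike.coe haa) ⟨x, hxW⟩
    rw [hΦ, hΦ] at h1
    rw [Submodule.coe_sub, sub_eq_add_neg, hermForm_add_right hF, hermForm_neg_right hF, h1,
      add_neg_cancel]
  have hWfin : Finite W := Module.finite_of_finite F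
  have hDfin : Finite (Module.Dual F W) := Module.finite_of_finite F
  have hcard : Nat.card (Module.Dual F W) ≤ Nat.card W := by
    rw [Module.natCard_eq_pow_finrank (K := F) (V := W),
      Module.natCard_eq_pow_finrank (K := F) (V := Module.Dual F W), Subspace.dual_finrank_eq]
  obtain ⟨a, ha⟩ := (hinj.bijective_of_nat_card_le hcard).2
    ((hermSesq hF n x).domRestrict W)
  refine ⟨a, a.2, x - a, ?_, by abel⟩
  intro w hw
  have h1 := congrFun (congrArg DFunLike.coe ha) ⟨w, hw⟩
  rw [hΦ] at h1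
  have h2 : ((hermSesq hF n x).domRestrict W) ⟨w, hw⟩ = hermForm n F q w x := rfl
  rw [h2] at h1
  rw [sub_eq_add_neg, hermForm_add_right hF, hermForm_neg_right hF, h1, add_neg_cancel]


include hF in
/-- a unitary map fixing `H` pointwise and moving `x₁` to `x₂` -/
theorem move_fix (H : Submodule F (Fin n → F)) (x₁ x₂ : Fin n → F)
    (hn : hermForm n F q x₁ x₁ = hermForm n F q x₂ x₂)
    (hH : ∀ w ∈ H, hermForm n F q w x₁ = hermForm n F q w x₂) (h₁ : x₁ ∉ H) (h₂ : x₂ ∉ H) :
    ∃ g : ↥(Cfsg.GU n F q), (∀ w ∈ H, gact n g w = w) ∧ gact n g x₁ = x₂ := by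
  obtain ⟨g, hg, hgH, hgx⟩ := HermWitt.exists_fix_move (hermSesq hF n) (sigma_ne_id hF)
    (sigma_sigma hF) (hermSesq_nondegenerate hF n) (hermSesq_isSymm hF n) H x₁ x₂ hn
    (fun w hw => hH w hw) h₁ h₂
  obtain ⟨A, hA⟩ := exists_GU_of_isometry n g (fun u v => hg v u)
  refine ⟨A, fun w hw => ?_, ?_⟩
  · show ((A : Matrix.GeneralLinearGroup (Fin n) F) : Matrix (Fin n) (Fin n) F) *ᵥ w = w
    rw [hA, hgH w hw]
  · show ((A : Matrix.GeneralLinearGroup (Fin n) F) : Matrix (Fin n) (Fin n) F) *ᵥ x₁ = x₂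
    rw [hA, hgx]

/-- correcting the determinant by a quasi-reflection -/
theorem det_fix (g : ↥(Cfsg.GU n F q)) (d : Fin n → F) (hd : hermForm n F q d d ≠ 0) :
    ∃ (c : F) (hc : QCond n q d c),
      (((qtv hF n d c hc * g : ↥(Cfsg.GU n F q)) : Matrix.GeneralLinearGroup (Fin n) F) :
        Matrix (Fin n) (Fin n) F).det = 1 := by
  set ζ : F := ((g : Matrix.GeneralLinearGroup (Fin n) F) : Matrix (Fin n) (Fin n) F).det with hζ
  have hζ1 : ζ ^ (q + 1) = 1 := by
    have := normKer_coe (q := q) (detN hF g)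
    rwa [detN_coe] at this
  have hζ0 : ζ ≠ 0 := by
    intro h0
    rw [h0, zero_pow (Nat.succ_ne_zero q)] at hζ1
    exact zero_ne_one hζ1
  set z : F := ζ⁻¹ with hz
  have hz1 : z * z ^ q = 1 := by
    rw [hz, inv_pow, ← mul_inv, ← pow_succ', hζ1, inv_one]
  set l : F := hermForm n F q d d with hl
  have hlq : l ^ q = l := herm_self_fixed hF n d
  have hc : QCond n q d ((z - 1) / l) := by
    unfold QCond
    rw [← hl, div_pow, hlq, pow_q_sub hF, one_pow]
    field_simp
    linear_combination hz1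
  refine ⟨(z - 1) / l, hc, ?_⟩
  have e : (((qtv hF n d ((z - 1) / l) hc * g : ↥(Cfsg.GU n F q)) :
      Matrix.GeneralLinearGroup (Fin n) F) : Matrix (Fin n) (Fin n) F) =
      unitaryTransvection n q d ((z - 1) / l) *
        ((g : Matrix.GeneralLinearGroup (Fin n) F) : Matrix (Fin n) (Fin n) F) := rfl
  rw [e, det_mul, det_tv, ← hl, ← hζ, div_mul_cancel₀ _ hd, hz]
  field_simp
  ring

/-- the subgroup of the special unitary group stabilising `W` -/
abbrev stabSU (q : ℕ) (W : Submodule F (Fin n → F)) :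
    Subgroup (Matrix.GeneralLinearGroup (Fin n) F) :=
  Cfsg.Geo.subspaceStabilizer W ⊓ (Cfsg.GU n F q ⊓ Cfsg.Geo.specialLinear (Fin n) F)

include hF in
/-- moving inside the second summand, fixing the first summand pointwise -/
theorem OrthoPair.move_right {A B : Submodule F (Fin n → F)} (h : OrthoPair q A B)
    (h3 : 3 ≤ Module.finrank F B) (b₁ b₂ : Fin n → F) (hb₁ : b₁ ∈ B) (hb₂ : b₂ ∈ B)
    (hb₁0 : b₁ ≠ 0) (hb₂0 : b₂ ≠ 0) (hn : hermForm n F q b₁ b₁ = hermForm n F q b₂ b₂) :
    ∃ g : ↥(Cfsg.GU n F q), (g : Matrix.GeneralLinearGroup (Fin n) F) ∈ stabSU q A ∧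
      (∀ w ∈ A, gact n g w = w) ∧ gact n g b₁ = b₂ := by
  have hb₁A : b₁ ∉ A := fun hm => hb₁0 (h.disjoint hF b₁ hm hb₁)
  have hb₂A : b₂ ∉ A := fun hm => hb₂0 (h.disjoint hF b₂ hm hb₂)
  obtain ⟨g, hgA, hgb⟩ := move_fix hF A b₁ b₂ hn
    (fun w hw => by rw [h.orth w hw b₁ hb₁, h.orth w hw b₂ hb₂]) hb₁A hb₂A
  obtain ⟨d, hdB, hdb, hd⟩ := (h.symm hF).exists_aniso_perp hF h3 b₂ hb₂
  obtain ⟨c, hc, hdet⟩ := det_fix hF g d hd
  have hAd : ∀ w ∈ A, hermForm n F q w d = 0 := fun w hw => h.orth w hw d hdB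
  have hfix : ∀ w ∈ A, gact n (qtv hF n d c hc * g) w = w := by
    intro w hw
    rw [gact_mul, hgA w hw, gact_qtv, hAd w hw, mul_zero, zero_smul, add_zero]
  refine ⟨qtv hF n d c hc * g, ?_, hfix, ?_⟩
  · rw [Subgroup.mem_inf, mem_SU_iff]
    refine ⟨mem_stab_of_map_le A _ (fun w hw => ?_), (qtv hF n d c hc * g).2, hdet⟩
    have := hfix w hw
    unfold gact at this
    rw [this]
    exact hw
  · rw [gact_mul, hgb, gact_qtv, herm_symm_zero hF n hdb, mul_zero, zero_smul, add_zero]

include hF in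
/-- moving inside the first summand, preserving the second summand -/
theorem OrthoPair.move_left {A B : Submodule F (Fin n → F)} (h : OrthoPair q A B)
    (h3 : 3 ≤ Module.finrank F B) (a₁ a₂ : Fin n → F) (ha₁ : a₁ ∈ A) (ha₂ : a₂ ∈ A)
    (ha₁0 : a₁ ≠ 0) (ha₂0 : a₂ ≠ 0) (hn : hermForm n F q a₁ a₁ = hermForm n F q a₂ a₂) :
    ∃ g : ↥(Cfsg.GU n F q), (g : Matrix.GeneralLinearGroup (Fin n) F) ∈ stabSU q A ∧
      (∀ y ∈ B, gact n g y ∈ B) ∧ gact n g a₁ = a₂ := by
  have ha₁B : a₁ ∉ B := fun hm => ha₁0 (h.disjoint hF a₁ ha₁ hm)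
  have ha₂B : a₂ ∉ B := fun hm => ha₂0 (h.disjoint hF a₂ ha₂ hm)
  obtain ⟨g, hgB, hga⟩ := move_fix hF B a₁ a₂ hn
    (fun w hw => by
      rw [herm_symm_zero hF n (h.orth a₁ ha₁ w hw), herm_symm_zero hF n (h.orth a₂ ha₂ w hw)])
    ha₁B ha₂B
  obtain ⟨d, hdB, -, hd⟩ := (h.symm hF).exists_aniso_perp hF h3 0 B.zero_mem
  obtain ⟨c, hc, hdet⟩ := det_fix hF g d hd
  have hAd : ∀ w ∈ A, hermForm n F q w d = 0 := fun w hw => h.orth w hw d hdB
  have hgA : ∀ w ∈ A, gact n g w ∈ A := by
    intro w hw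
    apply h.mem_left_of_perp hF
    intro y hy
    have h1 := herm_gact n g w y
    rw [hgB y hy] at h1
    rw [h1]
    exact h.orth w hw y hy
  have hact : ∀ w ∈ A, gact n (qtv hF n d c hc * g) w = gact n g w := by
    intro w hw
    rw [gact_mul, gact_qtv, hAd _ (hgA w hw), mul_zero, zero_smul, add_zero]
  refine ⟨qtv hF n d c hc * g, ?_, ?_, ?_⟩
  · rw [Subgroup.mem_inf, mem_SU_iff]
    refine ⟨mem_stab_of_map_le A _ (fun w hw => ?_), (qtv hF n d c hc * g).2, hdet⟩
    have := hact w hw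
    unfold gact at this
    rw [this]
    exact hgA w hw
  · intro y hy
    rw [gact_mul, hgB y hy, gact_qtv]
    exact B.add_mem hy (B.smul_mem _ hdB)
  · rw [hact a₁ ha₁, hga]

include hF in
/-- vectors of every fixed norm in a summand of dimension at least three -/
theorem OrthoPair.exists_norm_vec {A B : Submodule F (Fin n → F)} (h : OrthoPair q A B)
    (h3 : 3 ≤ Module.finrank F A) (b : Fin n → F) (hb : b ∈ A) (l : F) (hl : l ^ q = l) :
    ∃ d ∈ A, d ≠ 0 ∧ hermForm n F q d b = 0 ∧ hermForm n F q d d = l := by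
  by_cases hl0 : l = 0
  · -- an isotropic vector orthogonal to `b`
    obtain ⟨d₁, hd₁A, hd₁b, hd₁⟩ := h.exists_aniso_perp hF h3 b hb
    obtain ⟨v, hvA, hv0, hv⟩ := exists_ne_zero_perp hF A 2 ![b, d₁] (by omega)
    have hvb : hermForm n F q v b = 0 := hv 0
    have hvd : hermForm n F q v d₁ = 0 := hv 1
    have hdv : hermForm n F q d₁ v = 0 := herm_symm_zero hF n hvd
    by_cases hvv : hermForm n F q v v = 0
    · exact ⟨v, hvA, hv0, hvb, by rw [hvv, hl0]⟩
    · obtain ⟨t, ht⟩ := Cfsg.Agent.Lib.Helper5.HermCount.exists_norm_eq hF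
        (-(hermForm n F q d₁ d₁) / hermForm n F q v v)
        (div_ne_zero (neg_ne_zero.mpr hd₁) hvv) (by
          rw [div_pow, pow_q_neg hF, herm_self_fixed hF, herm_self_fixed hF])
      refine ⟨d₁ + t • v, A.add_mem hd₁A (A.smul_mem _ hvA), ?_, ?_, ?_⟩
      · intro h0
        have h1 : hermForm n F q (d₁ + t • v) d₁ = hermForm n F q d₁ d₁ := by
          rw [hermForm_add_left, hermForm_smul_left, hvd, mul_zero, add_zero]
        rw [h0] at h1
        apply hd₁
        rw [← h1]
        unfold hermForm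
        simp
      · rw [hermForm_add_left, hermForm_smul_left, hd₁b, hvb, mul_zero, add_zero]
      · rw [hermForm_add_left, hermForm_add_right hF, hermForm_add_right hF, hermForm_smul_left,
          hermForm_smul_left, hermForm_smul_right, hermForm_smul_right, hdv, hvd, hl0]
        have h1 : t * t ^ q * hermForm n F q v v = -(hermForm n F q d₁ d₁) := by
          rw [mul_comm t, ← pow_succ, ht, div_mul_cancel₀ _ hvv]
        linear_combination h1
  · obtain ⟨d, hdA, hdb, hd⟩ := h.exists_aniso_perp hF h3 b hb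
    obtain ⟨t, ht⟩ := Cfsg.Agent.Lib.Helper5.HermCount.exists_norm_eq hF
      (l / hermForm n F q d d) (div_ne_zero hl0 hd) (by
        rw [div_pow, hl, herm_self_fixed hF])
    have hnorm : hermForm n F q (t • d) (t • d) = l := by
      rw [hermForm_smul_left, hermForm_smul_right, ← mul_assoc, mul_comm t, ← pow_succ, ht,
        div_mul_cancel₀ _ hd]
    refine ⟨t • d, A.smul_mem _ hdA, ?_, ?_, hnorm⟩
    · intro h0
      rw [h0] at hnorm
      apply hl0
      rw [← hnorm]
      unfold hermForm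
      simp
    · rw [hermForm_smul_left, hdb, mul_zero]

end Cfsg.Agent.Lib.Helper5.HermPair
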