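import Mathlib
import Cfsg.Prelude
import Cfsg.Agent.Lib.Helper5.HermPair
import Cfsg.Agent.Lib.Helper5.HermBasis
import Cfsg.Agent.Lib.Helper5.HermCount

set_option autoImplicit false
set_option linter.unusedSectionVars false
set_option linter.unusedVariables false
open Cfsg

/-! Orthogonal complements in the standard hermitian space: dimensions, double perp, and the
number of isotropic vectors orthogonal to a totally isotropic subspace. -/

namespace Cfsg.Agent.Lib.Helper5.HermPerp

open Matrix Cfsg.Agent.Lib.Helper5.Herm Cfsg.Agent.Lib.Helper5.HermBridge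
  Cfsg.Agent.Lib.Helper5.HermEich
  Cfsg.Agent.Lib.Helper5.SUSingularMax Cfsg.Agent.Lib.Helper5.HermPair
  Cfsg.Agent.Lib.Helper5.HermCount

variable {F : Type*} [Field F] [Fintype F] {q : ℕ} (hF : Fintype.card F = q ^ 2) {n : ℕ}

include hF in
theorem sesq_injective : Function.Injective (fun v : Fin n → F => hermSesq hF n v) := by
  intro v v' h
  have h1 : hermSesq hF n (v - v') = 0 := by
    rw [map_sub]; exact sub_eq_zero.mpr h
  have := (hermSesq_nondegenerate hF n).1 (v - v') (fun y => by rw [h1]; rfl)
  exact sub_eq_zero.mp this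

include hF in
theorem sesq_surjective (f : Module.Dual F (Fin n → F)) :
    ∃ v : Fin n → F, hermSesq hF n v = f := by
  have hcard : Nat.card (Module.Dual F (Fin n → F)) ≤ Nat.card (Fin n → F) := by
    rw [Module.natCard_eq_pow_finrank (K := F) (V := (Fin n → F)),
      Module.natCard_eq_pow_finrank (K := F) (V := Module.Dual F (Fin n → F)),
      Subspace.dual_finrank_eq]
  have : Finite (Module.Dual F (Fin n → F)) := Module.finite_of_finite F
  exact ((sesq_injective hF).bijective_of_nat_card_le hcard).2 f

/-- restriction of `u ↦ h(u, v)` to a subspace, as an additive map in `v` -/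
noncomputable def restr (U : Submodule F (Fin n → F)) : (Fin n → F) →+ Module.Dual F U where
  toFun v := (hermSesq hF n v).domRestrict U
  map_zero' := by
    apply LinearMap.ext
    intro u
    simp
  map_add' v v' := by
    apply LinearMap.ext
    intro u
    simp

theorem restr_apply (U : Submodule F (Fin n → F)) (v : Fin n → F) (u : U) :
    restr hF U v u = hermForm n F q (u : Fin n → F) v := rfl

theorem restr_surjective (U : Submodule F (Fin n → F)) : Function.Surjective (restr hF U) := by
  intro f
  obtain ⟨g, hg⟩ := LinearMap.exists_extend f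
  obtain ⟨v, hv⟩ := sesq_surjective hF g
  refine ⟨v, ?_⟩
  apply LinearMap.ext
  intro u
  rw [restr_apply, ← hermSesq_apply hF, hv, ← hg]
  rfl

theorem ker_restr (U : Submodule F (Fin n → F)) :
    (restr hF U).ker = (perpS hF U).toAddSubgroup := by
  ext v
  rw [AddMonoidHom.mem_ker, Submodule.mem_toAddSubgroup, mem_perpS]
  constructor
  · intro h u hu
    have := congrArg (fun f : Module.Dual F U => f ⟨u, hu⟩) h
    exact this
  · intro h
    apply LinearMap.ext
    intro u
    exact h u.1 u.2

/-- `|U^⊥| * |U| = |V|` -/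
theorem card_perpS_mul (U : Submodule F (Fin n → F)) :
    Nat.card (perpS hF U) * Nat.card U = Nat.card (Fin n → F) := by
  have h1 := AddSubgroup.card_mul_index (restr hF U).ker
  rw [AddSubgroup.index_ker, AddMonoidHom.range_eq_top.mpr (restr_surjective hF U),
    AddSubgroup.card_top, ker_restr] at h1
  have h2 : Nat.card (Module.Dual F U) = Nat.card U := by
    rw [Module.natCard_eq_pow_finrank (K := F) (V := U),
      Module.natCard_eq_pow_finrank (K := F) (V := Module.Dual F U), Subspace.dual_finrank_eq]
  rw [h2] at h1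
  exact h1

theorem finrank_perpS (U : Submodule F (Fin n → F)) :
    Module.finrank F (perpS hF U) + Module.finrank F U = n := by
  have h := card_perpS_mul hF U
  rw [Module.natCard_eq_pow_finrank (K := F) (V := U),
    Module.natCard_eq_pow_finrank (K := F) (V := perpS hF U),
    Module.natCard_eq_pow_finrank (K := F) (V := (Fin n → F)), ← pow_add,
    Module.finrank_fintype_fun_eq_card, Fintype.card_fin] at h
  have h2 : 2 ≤ Nat.card F := by
    rw [Nat.card_eq_fintype_card]; exact Fintype.one_lt_card
  exact Nat.pow_right_injective h2 h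

theorem le_perpS_perpS (U : Submodule F (Fin n → F)) : U ≤ perpS hF (perpS hF U) := by
  intro u hu
  rw [mem_perpS]
  intro x hx
  exact Perp.symm hF hx u hu

theorem perpS_perpS (U : Submodule F (Fin n → F)) : perpS hF (perpS hF U) = U := by
  symm
  apply Submodule.eq_of_le_of_finrank_eq (le_perpS_perpS hF U)
  have h1 := finrank_perpS hF U
  have h2 := finrank_perpS hF (perpS hF U)
  omega

include hF in
theorem hermForm_sum_left {ι : Type*} (s : Finset ι) (f : ι → (Fin n → F)) (v : Fin n → F) :
    hermForm n F q (∑ i ∈ s, f i) v = ∑ i ∈ s, hermForm n F q (f i) v := by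
  exact map_sum (hermSesq hF n v) f s

include hF in
theorem hermForm_sum_right {ι : Type*} (s : Finset ι) (f : ι → (Fin n → F)) (u : Fin n → F) :
    hermForm n F q u (∑ i ∈ s, f i) = ∑ i ∈ s, hermForm n F q u (f i) := by
  have h1 := map_sum (hermSesq hF n) f s
  have h2 := congrArg (fun g : (Fin n → F) →ₗ[F] F => g u) h1
  simp only [LinearMap.sum_apply] at h2
  exact h2

include hF in
/-- expansion of the form in an orthonormal family -/
theorem hermForm_sum_orthonormal {d : ℕ} (b : Fin d → (Fin n → F))
    (hb : ∀ i j, hermForm n F q (b i) (b j) = if i = j then 1 else 0) (x y : Fin d → F) :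
    hermForm n F q (∑ i, x i • b i) (∑ j, y j • b j) = hermForm d F q x y := by
  rw [hermForm_sum_left hF]
  unfold hermForm
  apply Finset.sum_congr rfl
  intro i _
  show hermForm n F q (x i • b i) (∑ j, y j • b j) = _
  rw [hermForm_sum_right hF]
  have : ∀ j, hermForm n F q (x i • b i) (y j • b j) =
      if i = j then x i * y j ^ q else 0 := by
    intro j
    rw [hermForm_smul_left, hermForm_smul_right, hb]
    split_ifs <;> simp
  simp only [this]
  rw [Finset.sum_ite_eq, if_pos (Finset.mem_univ _)]

include hF in
/-- the number of isotropic vectors of a subspace on which the form is non-degenerate -/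
theorem card_iso_of_nondeg (M : Submodule F (Fin n → F))
    (hM : ∀ m ∈ M, (∀ m' ∈ M, hermForm n F q m' m = 0) → m = 0) :
    Nat.card {m : M // hermForm n F q (m : Fin n → F) (m : Fin n → F) = 0} =
      A F q (Module.finrank F M) 0 := by
  set B' : M →ₛₗ[HermBridge.sigma hF] M →ₗ[F] F := (hermSesq hF n).domRestrict₁₂ M M with hB'
  have hB'a : ∀ x y : M, B' x y = hermForm n F q (y : Fin n → F) (x : Fin n → F) := fun x y => rfl
  have hS' : B'.IsSymm := (hermSesq_isSymm hF n).domRestrict M
  have hsepL : B'.SeparatingLeft := by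
    intro x hx
    apply Subtype.ext
    apply hM x.1 x.2
    intro m' hm'
    exact hx ⟨m', hm'⟩
  have hsepR : B'.SeparatingRight := by
    intro y hy
    apply hsepL y
    intro x
    rw [← hS'.eq x y, hy x, map_zero]
  obtain ⟨b, hb⟩ := HermBasis.exists_orthonormal_basis (sigma_ne_id hF) (sigma_sigma hF) B' hS'
    ⟨hsepL, hsepR⟩
  have hb' : ∀ i j, hermForm n F q ((b i : M) : Fin n → F) ((b j : M) : Fin n → F) =
      if i = j then 1 else 0 := by
    intro i j
    have := hb j i
    rw [hB'a] at this
    rw [this]
    simp only [eq_comm]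
  unfold A
  apply Nat.card_congr
  apply Equiv.subtypeEquiv b.equivFun.toEquiv
  intro m
  have hm : ((m : M) : Fin n → F) = ∑ i, b.equivFun m i • ((b i : M) : Fin n → F) := by
    conv_lhs => rw [← b.sum_equivFun m]
    rw [Submodule.coe_sum]
    rfl
  have key := hermForm_sum_orthonormal hF (fun i => ((b i : M) : Fin n → F)) hb'
    (b.equivFun m) (b.equivFun m)
  rw [← hm] at key
  rw [key]
  rfl

include hF in
/-- adding a vector of a totally isotropic `U` to a vector of `U^⊥` does not change the norm -/
theorem hermForm_add_perp (U : Submodule F (Fin n → F))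
    (hU : ∀ u ∈ U, ∀ v ∈ U, hermForm n F q u v = 0) (u c : Fin n → F) (hu : u ∈ U)
    (hc : c ∈ perpS hF U) :
    hermForm n F q (u + c) (u + c) = hermForm n F q c c := by
  rw [hermForm_add_left, hermForm_add_right hF, hermForm_add_right hF, hU u hu u hu, hc u hu,
    Perp.symm hF hc u hu]
  ring

include hF in
/-- the number of isotropic vectors orthogonal to a totally isotropic subspace -/
theorem card_iso_perp (U : Submodule F (Fin n → F))
    (hU : ∀ u ∈ U, ∀ v ∈ U, hermForm n F q u v = 0) :
    Nat.card {v : Fin n → F // v ∈ perpS hF U ∧ hermForm n F q v v = 0} =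
      Nat.card U * A F q (n - 2 * Module.finrank F U) 0 := by
  set X := perpS hF U with hX
  have hUX : U ≤ X := fun u hu => by
    rw [hX, mem_perpS]; exact fun w hw => hU w hw u hu
  obtain ⟨C, hC⟩ := Submodule.exists_isCompl U
  set M : Submodule F (Fin n → F) := C ⊓ X with hMdef
  have hsup : U ⊔ M = X := by
    rw [hMdef, ← sup_inf_assoc_of_le C hUX, hC.sup_eq_top, top_inf_eq]
  have hinf : U ⊓ M = ⊥ := by
    rw [eq_bot_iff, ← hC.inf_eq_bot]
    exact inf_le_inf_left U inf_le_left
  have hfin : Module.finrank F M = n - 2 * Module.finrank F U := by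
    have h1 := Submodule.finrank_sup_add_finrank_inf_eq U M
    rw [hsup, hinf, finrank_bot, add_zero] at h1
    have h2 : Module.finrank F X + Module.finrank F U = n := finrank_perpS hF U
    omega
  have hMnd : ∀ m ∈ M, (∀ m' ∈ M, hermForm n F q m' m = 0) → m = 0 := by
    intro m hm h
    have hmX : m ∈ X := hm.2
    have hmU : m ∈ U := by
      rw [← perpS_perpS hF U, mem_perpS]
      intro x hx
      rw [← hX, ← hsup] at hx
      obtain ⟨u, hu, m', hm', rfl⟩ := Submodule.mem_sup.mp hx
      rw [hermForm_add_left, h m' hm', add_zero]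
      exact hmX u hu
    have : m ∈ U ⊓ C := ⟨hmU, hm.1⟩
    rw [hC.inf_eq_bot] at this
    exact (Submodule.mem_bot F).mp this
  rw [← hfin, ← card_iso_of_nondeg hF M hMnd, ← Nat.card_prod]
  apply Nat.card_congr
  let e := Submodule.prodEquivOfIsCompl U C hC
  have he : ∀ p : U × C, e p = (p.1 : Fin n → F) + (p.2 : Fin n → F) := fun p =>
    Submodule.coe_prodEquivOfIsCompl' U C hC p
  have hdec : ∀ v : Fin n → F, v = ((e.symm v).1 : Fin n → F) + ((e.symm v).2 : Fin n → F) := by
    intro v
    rw [← he, LinearEquiv.apply_symm_apply]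
  have hcX : ∀ v : Fin n → F, v ∈ X → (((e.symm v).2 : C) : Fin n → F) ∈ X := by
    intro v hv
    have h1 := hdec v
    have h2 : (((e.symm v).2 : C) : Fin n → F) = v - ((e.symm v).1 : Fin n → F) := by
      rw [eq_sub_iff_add_eq, add_comm]; exact h1.symm
    rw [h2]
    exact X.sub_mem hv (hUX (e.symm v).1.2)
  exact
    { toFun := fun v => ((e.symm v.1).1, ⟨⟨((e.symm v.1).2 : C), (e.symm v.1).2.2, hcX v.1 v.2.1⟩, by
        have h1 := hermForm_add_perp hF U hU _ _ (e.symm v.1).1.2 (hcX v.1 v.2.1)
        rw [← hdec v.1] at h1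
        show hermForm n F q (((e.symm v.1).2 : C) : Fin n → F) (((e.symm v.1).2 : C) : Fin n → F) = 0
        rw [← h1]
        exact v.2.2⟩)
      invFun := fun r => ⟨(r.1 : Fin n → F) + ((r.2.1 : M) : Fin n → F),
        X.add_mem (hUX r.1.2) r.2.1.2.2, by
          rw [hermForm_add_perp hF U hU _ _ r.1.2 r.2.1.2.2]
          exact r.2.2⟩
      left_inv := fun v => by
        apply Subtype.ext
        exact (hdec v.1).symm
      right_inv := fun r => by
        have h1 : (r.1 : Fin n → F) + ((r.2.1 : M) : Fin n → F) =
            e (r.1, ⟨((r.2.1 : M) : Fin n → F), r.2.1.2.1⟩) := by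
          rw [he]
        have h2 : e.symm ((r.1 : Fin n → F) + ((r.2.1 : M) : Fin n → F)) =
            (r.1, ⟨((r.2.1 : M) : Fin n → F), r.2.1.2.1⟩) := by
          rw [h1, LinearEquiv.symm_apply_apply]
        apply Prod.ext
        · show (e.symm ((r.1 : Fin n → F) + ((r.2.1 : M) : Fin n → F))).1 = r.1
          rw [h2]
        · apply Subtype.ext
          apply Subtype.ext
          show (((e.symm ((r.1 : Fin n → F) + ((r.2.1 : M) : Fin n → F))).2 : C) : Fin n → F) = _
          rw [h2] }

end Cfsg.Agent.Lib.Helper5.HermPerp
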