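import Mathlib
import Cfsg.Prelude
import Cfsg.Agent.Lib.Helper3.MNUDefs
import Cfsg.Agent.Lib.Helper5.UnitConj.CT
import Cfsg.Agent.Lib.Helper9.AschU16

set_option autoImplicit false
set_option linter.unusedSectionVars false
set_option linter.unusedVariables false

/-!
Farm MNU (statements S2334, S2335), unit M0: transport of a model of the unitary space (Gram matrix
`Gm` on an arbitrary index type) into `Cfsg.SU n K q` (identity Gram matrix).
-/

namespace Cfsg.Agent.Lib.Helper5.MNU

open Matrix Cfsg.Agent.Lib.Helper6.GUC Cfsg.Agent.Lib.Helper5 Cfsg.Agent.Lib.Helper3.MNU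
  Cfsg.Agent.Lib.Helper5.UnitConj

/-- a monoid identity: transport of the unitarity condition along `t` -/
theorem mono_key {M : Type*} [Monoid M] (t ti s si g z : M) (h1 : t * ti = 1) (h2 : ti * t = 1)
    (h3 : s * si = 1) (h4 : si * s = 1) (hg : s * t = g) :
    si * z * ti = 1 ↔ z = g := by
  constructor
  · intro h
    have e1 : z = s * (si * z * ti) * t := by
      have : s * (si * z * ti) * t = (s * si) * z * (ti * t) := by simp only [mul_assoc]
      rw [this, h3, h2, one_mul, mul_one]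
    rw [e1, h, mul_one, hg]
  · intro h
    rw [h, ← hg]
    have : si * (s * t) * ti = (si * s) * (t * ti) := by simp only [mul_assoc]
    rw [this, h4, h1, mul_one]

section unitM0
variable {K : Type*} [Field K] [Fintype K] [DecidableEq K] {q : ℕ} (hK : Fintype.card K = q ^ 2)

/-- the orthonormaliser in the form `T† T = G` -/
theorem exists_T0 {n : ℕ} (G : Matrix (Fin n) (Fin n) K) (hG : ct (HermBridge.sigma hK) G = G)
    (hdet : G.det ≠ 0) :
    ∃ T Ti : Matrix (Fin n) (Fin n) K, T * Ti = 1 ∧ Ti * T = 1 ∧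
      ct (HermBridge.sigma hK) T * T = G := by
  obtain ⟨Q, hQ⟩ := Cfsg.Agent.Lib.Helper9.AschU.exists_orthonormalizer hK n G (fun i j => by
      have := congrFun (congrFun hG i) j
      exact this) hdet
  obtain ⟨Pm, hPm⟩ : ∃ Pm : Matrix (Fin n) (Fin n) K,
      Pm = (Q : Matrix (Fin n) (Fin n) K).map (HermBridge.sigma hK) := ⟨_, rfl⟩
  have hctP : ct (HermBridge.sigma hK) Pm = (Q : Matrix (Fin n) (Fin n) K)ᵀ := by
    ext i j
    rw [ct_apply, hPm, Matrix.map_apply, HermBridge.sigma_sigma, Matrix.transpose_apply]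
  have h1 : ct (HermBridge.sigma hK) Pm * G * Pm = 1 := by
    rw [hctP, hPm]
    exact hQ
  have h2 : Pm * (ct (HermBridge.sigma hK) Pm * G) = 1 := mul_eq_one_comm.1 h1
  refine ⟨ct (HermBridge.sigma hK) Pm * G, Pm, h1, h2, ?_⟩
  rw [ct_mul, ct_ct (HermBridge.sigma hK) (HermBridge.sigma_sigma hK), hG, Matrix.mul_assoc, h2,
    Matrix.mul_one]

/-- conjugation by `T` turns isometries of `G = T† T` into unitary matrices -/
theorem conj_unitary_iff0 {n : ℕ} {T Ti G : Matrix (Fin n) (Fin n) K} (h1 : T * Ti = 1)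
    (h2 : Ti * T = 1) (hTG : ct (HermBridge.sigma hK) T * T = G) (y : Matrix (Fin n) (Fin n) K) :
    cT hK (T * y * Ti) * (T * y * Ti) = 1 ↔ ct (HermBridge.sigma hK) y * G * y = G := by
  have h3 : ct (HermBridge.sigma hK) T * ct (HermBridge.sigma hK) Ti = 1 := by
    rw [← ct_mul, h2, ct_one]
  have h4 : ct (HermBridge.sigma hK) Ti * ct (HermBridge.sigma hK) T = 1 := by
    rw [← ct_mul, h1, ct_one]
  have e : cT hK (T * y * Ti) * (T * y * Ti)
      = ct (HermBridge.sigma hK) Ti * (ct (HermBridge.sigma hK) y * G * y) * Ti := by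
    show ct (HermBridge.sigma hK) (T * y * Ti) * (T * y * Ti) = _
    rw [ct_mul, ct_mul, ← hTG]
    simp only [Matrix.mul_assoc]
  rw [e]
  exact mono_key T Ti (ct (HermBridge.sigma hK) T) (ct (HermBridge.sigma hK) Ti) G _ h1 h2 h3 h4 hTG

/-- (M0) `Ψ y = T * reindex e e y * T⁻¹` with `T† T = reindex e e Gm`; junk value `1` when `y`
is not an isometry. -/
theorem exists_transport {ι : Type} [Fintype ι] [DecidableEq ι] (n : ℕ) (e : ι ≃ Fin n)
    (Gm : Matrix ι ι K) (hG : ct (HermBridge.sigma hK) Gm = Gm) (hdet : Gm.det ≠ 0) :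
    ∃ Ψ : Matrix ι ι K → ↥(Cfsg.SU n K q),
      (∀ y y', IsIso (HermBridge.sigma hK) Gm y → IsIso (HermBridge.sigma hK) Gm y' → Ψ (y * y') = Ψ y * Ψ y') ∧
      (∀ y y', IsIso (HermBridge.sigma hK) Gm y → IsIso (HermBridge.sigma hK) Gm y' → Ψ y = Ψ y' → y = y') := by
  classical
  have rmul : ∀ x y : Matrix ι ι K,
      Matrix.reindex e e (x * y) = Matrix.reindex e e x * Matrix.reindex e e y :=
    fun x y => map_mul (Matrix.reindexAlgEquiv K K e) x y
  have hG' : ct (HermBridge.sigma hK) (Matrix.reindex e e Gm) = Matrix.reindex e e Gm := by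
    show Matrix.reindex e e (ct (HermBridge.sigma hK) Gm) = _
    rw [hG]
  have hdet' : (Matrix.reindex e e Gm).det ≠ 0 := by
    rw [Matrix.det_reindex_self]; exact hdet
  obtain ⟨T, Ti, h1, h2, hTG⟩ := exists_T0 hK (Matrix.reindex e e Gm) hG' hdet'
  have hTdet : T.det * Ti.det = 1 := by rw [← Matrix.det_mul, h1, Matrix.det_one]
  have hMdet : ∀ y : Matrix ι ι K, y.det = 1 → (T * Matrix.reindex e e y * Ti).det = 1 := by
    intro y hy
    rw [Matrix.det_mul, Matrix.det_mul, Matrix.det_reindex_self, hy, mul_one, hTdet]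
  have hMu : ∀ y : Matrix ι ι K, ct (HermBridge.sigma hK) y * Gm * y = Gm →
      cT hK (T * Matrix.reindex e e y * Ti) * (T * Matrix.reindex e e y * Ti) = 1 := by
    intro y hy
    rw [conj_unitary_iff0 hK h1 h2 hTG]
    show Matrix.reindex e e (ct (HermBridge.sigma hK) y) * Matrix.reindex e e Gm *
      Matrix.reindex e e y = _
    rw [← rmul, ← rmul, hy]
  have hmem : ∀ (y : Matrix ι ι K) (hy : IsIso (HermBridge.sigma hK) Gm y),
      (⟨T * Matrix.reindex e e y * Ti, hMdet y hy.2⟩ : Matrix.SpecialLinearGroup (Fin n) K) ∈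
        Cfsg.SU n K q := by
    intro y hy
    have h1' : ∀ A : Matrix.SpecialLinearGroup (Fin n) K,
        A ∈ Cfsg.SU n K q ↔ Matrix.SpecialLinearGroup.toGL A ∈ Cfsg.GU n K q := fun A => Iff.rfl
    exact (h1' _).2 ((mem_GU_iff_cT hK _).2 (hMu y hy.1))
  refine ⟨fun y => if hy : IsIso (HermBridge.sigma hK) Gm y then
    ⟨⟨T * Matrix.reindex e e y * Ti, hMdet y hy.2⟩, hmem y hy⟩ else 1, ?_, ?_⟩
  · intro y y' hy hy'
    have hyy : IsIso (HermBridge.sigma hK) Gm (y * y') := by
      refine ⟨?_, by rw [Matrix.det_mul, hy.2, hy'.2, one_mul]⟩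
      rw [ct_mul]
      have : ct (HermBridge.sigma hK) y' * ct (HermBridge.sigma hK) y * Gm * (y * y') =
          ct (HermBridge.sigma hK) y' * (ct (HermBridge.sigma hK) y * Gm * y) * y' := by
        simp only [Matrix.mul_assoc]
      rw [this, hy.1, hy'.1]
    simp only [dif_pos hy, dif_pos hy', dif_pos hyy]
    apply Subtype.ext
    apply Subtype.ext
    show T * Matrix.reindex e e (y * y') * Ti =
      (T * Matrix.reindex e e y * Ti) * (T * Matrix.reindex e e y' * Ti)
    rw [rmul]
    have : T * Matrix.reindex e e y * Ti * (T * Matrix.reindex e e y' * Ti) =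
        T * Matrix.reindex e e y * (Ti * T) * Matrix.reindex e e y' * Ti := by
      simp only [Matrix.mul_assoc]
    rw [this, h2, Matrix.mul_one]
    simp only [Matrix.mul_assoc]
  · intro y y' hy hy' h
    simp only [dif_pos hy, dif_pos hy'] at h
    have h3 : T * Matrix.reindex e e y * Ti = T * Matrix.reindex e e y' * Ti :=
      congrArg (fun A : ↥(Cfsg.SU n K q) => (A.1.1 : Matrix (Fin n) (Fin n) K)) h
    have e1 : ∀ z : Matrix (Fin n) (Fin n) K, Ti * (T * z * Ti) * T = z := by
      intro z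
      have : Ti * (T * z * Ti) * T = (Ti * T) * z * (Ti * T) := by simp only [Matrix.mul_assoc]
      rw [this, h2, Matrix.one_mul, Matrix.mul_one]
    have h4 : Matrix.reindex e e y = Matrix.reindex e e y' := by
      have : Ti * (T * Matrix.reindex e e y * Ti) * T =
          Ti * (T * Matrix.reindex e e y' * Ti) * T := by rw [h3]
      rwa [e1, e1] at this
    exact (Matrix.reindex e e).injective h4

end unitM0

end Cfsg.Agent.Lib.Helper5.MNU
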