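import Mathlib
import Cfsg.Prelude
import Cfsg.Agent.Lib.Helper3.MNUDefs
import Cfsg.Agent.Lib.Helper5.HermTv
import Cfsg.Agent.Lib.Helper5.MNUM0

set_option autoImplicit false
set_option linter.unusedSectionVars false
set_option linter.unusedVariables false
set_option linter.unusedSimpArgs false

/-!
Farm MNU (statements S2334, S2335), unit ME: the even model inside `SU_{m+m}`: index type
`Fin m ⊕ Fin m`, Gram matrix `[[0, ε], [-ε, 0]]`, `u X = [[1, X], [0, 1]]`,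
`lev g = diag (g, g^{-†})`.
-/

namespace Cfsg.Agent.Lib.Helper5.MNU

open Matrix Cfsg.Agent.Lib.Helper6.GUC Cfsg.Agent.Lib.Helper5 Cfsg.Agent.Lib.Helper3.MNU

section general
variable {K : Type*} [Field K] (σ : K →+* K)

theorem ct_fromBlocks {l m n o : Type*} (A : Matrix n l K) (B : Matrix n m K) (C : Matrix o l K)
    (D : Matrix o m K) :
    ct σ (fromBlocks A B C D) = fromBlocks (ct σ A) (ct σ C) (ct σ B) (ct σ D) := by
  unfold ct
  rw [Matrix.fromBlocks_map, Matrix.fromBlocks_transpose]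

theorem det_ct {n : Type*} [Fintype n] [DecidableEq n] (M : Matrix n n K) :
    (ct σ M).det = σ M.det := by
  unfold ct
  rw [Matrix.det_transpose]
  exact (σ.map_det M).symm

variable {m : ℕ}

/-- the Gram matrix `[[0, ε], [-ε, 0]]` -/
def gmE (ε : K) (m : ℕ) : Matrix (Fin m ⊕ Fin m) (Fin m ⊕ Fin m) K :=
  fromBlocks 0 (ε • (1 : Matrix (Fin m) (Fin m) K)) ((-ε) • (1 : Matrix (Fin m) (Fin m) K)) 0

/-- `[[1, X], [0, 1]]` -/
def uME (X : Matrix (Fin m) (Fin m) K) : Matrix (Fin m ⊕ Fin m) (Fin m ⊕ Fin m) K :=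
  fromBlocks 1 X 0 1

/-- `diag (g, gi†)` -/
def levE (g gi : Matrix (Fin m) (Fin m) K) : Matrix (Fin m ⊕ Fin m) (Fin m ⊕ Fin m) K :=
  fromBlocks g 0 0 (ct σ gi)

theorem gmE_herm {ε : K} (hε : σ ε = -ε) : ct σ (gmE ε m) = gmE ε m := by
  unfold gmE
  rw [ct_fromBlocks, ct_zero, ct_smul, ct_smul, ct_one, map_neg, hε, neg_neg]

theorem gmE_det {ε : K} (hε0 : ε ≠ 0) : (gmE ε m).det ≠ 0 := by
  have h : gmE ε m * fromBlocks 0 ((-ε⁻¹) • (1 : Matrix (Fin m) (Fin m) K))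
      (ε⁻¹ • (1 : Matrix (Fin m) (Fin m) K)) 0 = 1 := by
    unfold gmE
    rw [fromBlocks_multiply, ← fromBlocks_one]
    congr 1
    · simp [smul_smul, hε0]
    · simp
    · simp
    · simp [smul_smul, hε0]
  exact Matrix.det_ne_zero_of_right_inverse h

theorem uME_add (X Y : Matrix (Fin m) (Fin m) K) : uME (X + Y) = uME X * uME Y := by
  unfold uME
  rw [fromBlocks_multiply]
  congr 1
  · simp
  · simp [add_comm]
  · simp
  · simp

theorem uME_inj {X Y : Matrix (Fin m) (Fin m) K} (h : uME X = uME Y) : X = Y :=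
  (Matrix.fromBlocks_inj.1 h).2.1

theorem uME_iso (ε : K) {X : Matrix (Fin m) (Fin m) K} (hX : ct σ X = X) :
    IsIso σ (gmE ε m) (uME X) := by
  refine ⟨?_, ?_⟩
  · unfold gmE uME
    rw [ct_fromBlocks, ct_one, ct_zero, hX, fromBlocks_multiply, fromBlocks_multiply]
    congr 1
    · simp
    · simp
    · simp
    · simp
  · unfold uME
    rw [Matrix.det_fromBlocks_zero₂₁, Matrix.det_one, mul_one]

theorem levE_iso (hσ : ∀ a, σ (σ a) = a) (ε : K) {g gi : Matrix (Fin m) (Fin m) K}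
    (h1 : gi * g = 1) (hg : g.det = 1) (hgi : gi.det = 1) :
    IsIso σ (gmE ε m) (levE σ g gi) := by
  have h2 : ct σ g * ct σ gi = 1 := by rw [← ct_mul, h1, ct_one]
  refine ⟨?_, ?_⟩
  · unfold gmE levE
    rw [ct_fromBlocks, ct_zero, ct_ct σ hσ, fromBlocks_multiply, fromBlocks_multiply]
    congr 1
    · simp
    · simp [h2]
    · simp [h1]
    · simp
  · unfold levE
    rw [Matrix.det_fromBlocks_zero₂₁, det_ct, hg, hgi, map_one, mul_one]

theorem levE_mul_uME {g gi : Matrix (Fin m) (Fin m) K} (h1 : gi * g = 1)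
    (X : Matrix (Fin m) (Fin m) K) :
    levE σ g gi * uME X = uME (g * X * ct σ g) * levE σ g gi := by
  have h2 : ct σ g * ct σ gi = 1 := by rw [← ct_mul, h1, ct_one]
  unfold levE uME
  rw [fromBlocks_multiply, fromBlocks_multiply]
  congr 1
  · simp
  · simp [Matrix.mul_assoc, h2]
  · simp
  · simp

theorem herm_cong (hσ : ∀ a, σ (σ a) = a) {X : Matrix (Fin m) (Fin m) K} (hX : ct σ X = X)
    (g : Matrix (Fin m) (Fin m) K) : ct σ (g * X * ct σ g) = g * X * ct σ g := by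
  rw [ct_mul, ct_mul, ct_ct σ hσ, hX, Matrix.mul_assoc]

end general

section unitM
variable {K : Type*} [Field K] [Fintype K] [DecidableEq K] {q : ℕ} (hK : Fintype.card K = q ^ 2)

/-- (ME) the even model inside `SU_{m+m}`: index type `Fin m ⊕ Fin m`, `e = finSumFinEquiv`,
`Gm = fromBlocks 0 (ε • 1) (-ε • 1) 0`, `u X = Ψ (fromBlocks 1 X 0 1)`,
`a = Ψ (fromBlocks g 0 0 (ct σ g⁻¹))`. -/
theorem exists_even_data (m : ℕ) (hm : 1 ≤ m) :
    ∃ u : Matrix (Fin m) (Fin m) K → ↥(Cfsg.SU (m + m) K q),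
      (∀ X Y, IsHerm (HermBridge.sigma hK) X → IsHerm (HermBridge.sigma hK) Y → u (X + Y) = u X * u Y) ∧
      (∀ g : Matrix.SpecialLinearGroup (Fin m) K, ∃ a : ↥(Cfsg.SU (m + m) K q),
        ∀ X, IsHerm (HermBridge.sigma hK) X → a * u X * a⁻¹ =
          u ((g : Matrix (Fin m) (Fin m) K) * X * ct (HermBridge.sigma hK) (g : Matrix (Fin m) (Fin m) K))) ∧
      (∀ X Y, IsHerm (HermBridge.sigma hK) X → IsHerm (HermBridge.sigma hK) Y → u X = u Y → X = Y) := by
  obtain ⟨ε, hε0, hεq⟩ := HermTv.exists_trace_zero hK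
  have hε : HermBridge.sigma hK ε = -ε := by rw [HermBridge.sigma_apply]; exact hεq
  have hσ : ∀ a, HermBridge.sigma hK (HermBridge.sigma hK a) = a := HermBridge.sigma_sigma hK
  obtain ⟨Ψ, hmul, hinj⟩ := exists_transport hK (m + m) finSumFinEquiv (gmE ε m)
    (gmE_herm (HermBridge.sigma hK) hε) (gmE_det hε0)
  refine ⟨fun X => Ψ (uME X), ?_, ?_, ?_⟩
  · intro X Y hX hY
    show Ψ (uME (X + Y)) = Ψ (uME X) * Ψ (uME Y)
    rw [uME_add, hmul _ _ (uME_iso (HermBridge.sigma hK) ε hX) (uME_iso (HermBridge.sigma hK) ε hY)]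
  · intro g
    have h1 : (g⁻¹ : Matrix.SpecialLinearGroup (Fin m) K).1 * g.1 = 1 := by
      rw [← Matrix.SpecialLinearGroup.coe_mul, inv_mul_cancel, Matrix.SpecialLinearGroup.coe_one]
    have hlev : IsIso (HermBridge.sigma hK) (gmE ε m)
        (levE (HermBridge.sigma hK) g.1 (g⁻¹ : Matrix.SpecialLinearGroup (Fin m) K).1) :=
      levE_iso (HermBridge.sigma hK) hσ ε h1 g.2 (g⁻¹).2
    refine ⟨Ψ (levE (HermBridge.sigma hK) g.1 (g⁻¹ : Matrix.SpecialLinearGroup (Fin m) K).1),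
      fun X hX => ?_⟩
    show _ * Ψ (uME X) * _⁻¹ = Ψ (uME _)
    rw [mul_inv_eq_iff_eq_mul, ← hmul _ _ hlev (uME_iso (HermBridge.sigma hK) ε hX),
      ← hmul _ _ (uME_iso (HermBridge.sigma hK) ε (herm_cong (HermBridge.sigma hK) hσ hX g.1)) hlev,
      levE_mul_uME (HermBridge.sigma hK) h1]
  · intro X Y hX hY h
    exact uME_inj (hinj _ _ (uME_iso (HermBridge.sigma hK) ε hX) (uME_iso (HermBridge.sigma hK) ε hY) h)

end unitM

end Cfsg.Agent.Lib.Helper5.MNU
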