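import Mathlib

set_option autoImplicit false

/-!
Farm E6M (statement S2340, minimal degree of `E₆(q)`): the abstract interface.

`G ⊇ Q = Z · ∏_I X_I` (the unipotent radical `q^{1+20}` of the long-root parabolic, `Z = X_ρ`,
`I` running over the 3-subsets of `{0,…,5}`), Levi part generated by the root elements `xij`
(type `A₅`).  `Q/Z = Λ³F⁶` with `xI I a ↦ a e_I`, and `SL₆(F)` acts through the matrix `Mm g` of
`3 × 3` minors.
-/

namespace Cfsg.Agent.Lib.Helper5.E6M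

open Matrix

/-- the 3-subsets of `{0,…,5}` -/
abbrev T3 : Type := {s : Finset (Fin 6) // s.card = 3}

/-- the off-diagonal positions (the index type of S2401 for `n = 6`) -/
abbrev IJ : Type := {ij : Fin 6 × Fin 6 // ij.1 ≠ ij.2}

namespace T3

/-- the 3-subset `{a, b, c}` -/
def mk' (a b c : Fin 6) (h : ({a, b, c} : Finset (Fin 6)).card = 3 := by decide) : T3 :=
  ⟨{a, b, c}, h⟩

/-- the complementary 3-subset -/
def compl (I : T3) : T3 :=
  ⟨I.1ᶜ, by rw [Finset.card_compl, I.2]; rfl⟩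

/-- the increasing enumeration of `I` -/
def emb (I : T3) : Fin 3 ↪o Fin 6 := I.1.orderEmbOfFin I.2

/-- the sign of the shuffle `(I, Iᶜ)`: `e_I ∧ e_{Iᶜ} = omega I • e_{012345}` -/
def omega (I : T3) : ℤ := (-1) ^ ((I.1 ×ˢ I.1ᶜ).filter fun p => p.2 < p.1).card

end T3

open T3

/-- `{0,1,2}` -/
def I012 : T3 := mk' 0 1 2
/-- `{0,4,5}` -/
def I045 : T3 := mk' 0 4 5
/-- `{3,4,5}` -/
def I345 : T3 := mk' 3 4 5
/-- the position `(0,3)` -/
def p03 : IJ := ⟨(0, 3), by decide⟩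

section minors

variable {F : Type*} [Field F]

/-- the `3 × 3` minor of `g` on the rows `J` and the columns `I` -/
def minor (g : Matrix (Fin 6) (Fin 6) F) (J I : T3) : F := (g.submatrix J.emb I.emb).det

/-- the matrix of `Λ³ g` on the basis `e_I`: `Mm g *ᵥ e_I = ∑_J minor g J I • e_J` -/
def Mm (g : Matrix (Fin 6) (Fin 6) F) : Matrix T3 T3 F := Matrix.of fun J I => minor g J I

/-- the Plücker vector of a `6 × 3` matrix (`= c₀ ∧ c₁ ∧ c₂` for its columns) -/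
def pl (C : Matrix (Fin 6) (Fin 3) F) : T3 → F := fun J => (C.submatrix J.emb id).det

/-- the `6 × 3` matrix with the identity in the rows `I` (in increasing order) and the rows of `A`
(in increasing order) in the other rows -/
def cellMat (I : T3) (A : Matrix (Fin 3) (Fin 3) F) : Matrix (Fin 6) (Fin 3) F :=
  Matrix.of fun i k =>
    if h : i ∈ I.1 then (if I.emb k = i then 1 else 0)
    else A ((I.compl.emb.toEquivRange.symm ⟨i, by
      have : i ∈ I.compl.1 := by simpa [T3.compl] using h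
      simpa [T3.emb] using this⟩)) k

/-- the big cell of decomposable vectors around the coordinate `I` -/
def Cell (I : T3) : Set (T3 → F) := {l | ∃ (c : F) (A : Matrix (Fin 3) (Fin 3) F), c ≠ 0 ∧
  l = c • pl (cellMat I A)}

/-- `SL₆(F)` -/
abbrev SL6 (F : Type*) [Field F] : Type _ := Matrix.SpecialLinearGroup (Fin 6) F

/-- the elementary matrix `1 + t E_ij` in `SL₆(F)` -/
def tv (p : IJ) (t : F) : SL6 F :=
  ⟨Matrix.transvection p.1.1 p.1.2 t, Matrix.det_transvection_of_ne _ _ p.2 t⟩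

/-- the characters of `Q/Z` moved by `X_{03}`: some coordinate `I ∋ 0`, `I ∌ 3` is non-zero -/
def moved (l : T3 → F) : Prop := ∃ I : T3, (0 : Fin 6) ∈ I.1 ∧ (3 : Fin 6) ∉ I.1 ∧ l I ≠ 0

instance [DecidableEq F] (l : T3 → F) : Decidable (moved l) := by
  unfold moved; infer_instance

end minors

/-- the elements -/
structure Data (F : Type*) (G : Type*) [Field F] [Group G] where
  z : F → G
  xI : T3 → F → G
  xij : IJ → F → G
  n1 : G
  h : Fˣ → G

/-- the ten 3-subsets containing `0` -/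
def L1 : List T3 := [mk' 0 1 2, mk' 0 1 3, mk' 0 1 4, mk' 0 1 5, mk' 0 2 3, mk' 0 2 4, mk' 0 2 5,
  mk' 0 3 4, mk' 0 3 5, mk' 0 4 5]

/-- the ten 3-subsets not containing `0` -/
def L0 : List T3 := [mk' 1 2 3, mk' 1 2 4, mk' 1 2 5, mk' 1 3 4, mk' 1 3 5, mk' 1 4 5, mk' 2 3 4,
  mk' 2 3 5, mk' 2 4 5, mk' 3 4 5]

/-- all twenty, those containing `0` first -/
def T3list : List T3 := L1 ++ L0

variable {F : Type*} [Field F] {G : Type*} [Group G]

/-- the general element of `Q` -/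
def Phi (D : Data F G) (r : F) (s : T3 → F) : G :=
  D.z r * (T3list.map fun I => D.xI I (s I)).prod

/-- the cocycle of `Q` -/
def bil (s s' : T3 → F) : F :=
  ∑ J : T3, if (0 : Fin 6) ∈ J.1 then ((J.compl.omega : ℤ) : F) * s J.compl * s' J else 0

/-- the exponents of the torus element `h c` on the `X_I`: `|I ∩ {3,4,5}| - 1` -/
def hexp (I : T3) : ℤ := ((I.1.filter fun i => (3 : Fin 6) ≤ i).card : ℤ) - 1

/-- the relations (hypotheses of all abstract units; proved for `chevE6.group F` in the concrete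
part) -/
structure Rel (D : Data F G) : Prop where
  /-- the multiplication of `Q` -/
  qlaw : ∀ (r : F) (s : T3 → F) (r' : F) (s' : T3 → F),
    Phi D r s * Phi D r' s' = Phi D (r + r' + bil s s') (s + s')
  z_eq : ∀ r, D.z r = Phi D r 0
  xI_eq : ∀ I a, D.xI I a = Phi D 0 (Pi.single I a)
  /-- Steinberg relations of `SL₆` (the three families of S2401) -/
  st_add : ∀ (p : IJ) (t u : F), D.xij p t * D.xij p u = D.xij p (t + u)
  st_comm : ∀ (a b : IJ) (t u : F), a.1.1 ≠ b.1.2 → a.1.2 ≠ b.1.1 →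
    D.xij a t * D.xij b u * (D.xij a t)⁻¹ * (D.xij b u)⁻¹ = 1
  st_r3 : ∀ (a b : IJ) (h : a.1.1 ≠ b.1.2) (t u : F), a.1.2 = b.1.1 →
    D.xij a t * D.xij b u * (D.xij a t)⁻¹ * (D.xij b u)⁻¹ = D.xij ⟨(a.1.1, b.1.2), h⟩ (t * u)
  /-- the Levi part centralises `Z` and acts on `Q/Z = Λ³F⁶` by the minors of `1 + t E_ij` -/
  xij_z : ∀ (p : IJ) (t r : F), D.xij p t * D.z r * (D.xij p t)⁻¹ = D.z r
  xij_xI : ∀ (p : IJ) (t : F) (I : T3) (a : F), D.xij p t * D.xI I a * (D.xij p t)⁻¹ =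
    Phi D 0 (Mm (Matrix.transvection p.1.1 p.1.2 t) *ᵥ Pi.single I a)
  /-- the Weyl element `n1` (reflection in `γ_345`): `Z → X_012`, `X_{03} → X_045` -/
  n1_z : ∃ e : F, e ≠ 0 ∧ ∀ r, D.n1 * D.z r * D.n1⁻¹ = D.xI I012 (e * r)
  n1_x : ∃ e : F, e ≠ 0 ∧ ∀ t, D.n1 * D.xij p03 t * D.n1⁻¹ = D.xI I045 (e * t)
  /-- the torus element -/
  h_z : ∀ (c : Fˣ) (r : F), D.h c * D.z r * (D.h c)⁻¹ = D.z (c * r)
  h_xI : ∀ (c : Fˣ) (I : T3) (a : F),
    D.h c * D.xI I a * (D.h c)⁻¹ = D.xI I (((c ^ hexp I : Fˣ) : F) * a)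

/-- the pairwise relations inside `Q` from which `qlaw`, `z_eq`, `xI_eq` follow (unit REL) -/
structure Rel0 (D : Data F G) : Prop where
  z_add : ∀ r r', D.z r * D.z r' = D.z (r + r')
  xI_add : ∀ I a b, D.xI I a * D.xI I b = D.xI I (a + b)
  z_xI : ∀ r I a, D.z r * D.xI I a = D.xI I a * D.z r
  xI_comm : ∀ (I J : T3) (a b : F), J ≠ I.compl → D.xI I a * D.xI J b = D.xI J b * D.xI I a
  xI_compl : ∀ (I : T3) (a b : F), D.xI I a * D.xI I.compl b =
    D.z (((I.omega : ℤ) : F) * a * b) * D.xI I.compl b * D.xI I a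

section mult

variable [Fintype F]

/-- `dim C_V(Z)` -/
noncomputable def fZ (D : Data F G) (χ : G → ℂ) : ℂ :=
  (Fintype.card F : ℂ)⁻¹ * ∑ r : F, χ (D.z r)

/-- `dim C_V(X_012)` -/
noncomputable def f1 (D : Data F G) (χ : G → ℂ) : ℂ :=
  (Fintype.card F : ℂ)⁻¹ * ∑ a : F, χ (D.xI I012 a)

/-- `dim C_V(X_012 X_045)` -/
noncomputable def f2 (D : Data F G) (χ : G → ℂ) : ℂ :=
  ((Fintype.card F : ℂ) * Fintype.card F)⁻¹ * ∑ a : F, ∑ b : F, χ (D.xI I012 a * D.xI I045 b)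

/-- `dim C_V(Z X_{03})` -/
noncomputable def f90 (D : Data F G) (χ : G → ℂ) : ℂ :=
  ((Fintype.card F : ℂ) * Fintype.card F)⁻¹ * ∑ r : F, ∑ t : F, χ (D.z r * D.xij p03 t)

/-- `dim C_V(Z ∏_{I ∈ S} X_I)` -/
noncomputable def ZS (D : Data F G) (χ : G → ℂ) (S : Finset T3) : ℂ :=
  ((Fintype.card F : ℂ) * (Fintype.card F : ℂ) ^ 20)⁻¹ *
    ∑ r : F, ∑ s : T3 → F, χ (Phi D r fun I => if I ∈ S then s I else 0)

/-- the multiplicity of the linear character `l` of `Q` (trivial on `Z`) -/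
noncomputable def cM (D : Data F G) (ψ : AddChar F ℂ) (χ : G → ℂ) (l : T3 → F) : ℂ :=
  ((Fintype.card F : ℂ) * (Fintype.card F : ℂ) ^ 20)⁻¹ *
    ∑ r : F, ∑ s : T3 → F, ψ (-(l ⬝ᵥ s)) * χ (Phi D r s)

/-- the 3-subsets containing `0` (a Lagrangian of `Q/Z`) -/
abbrev S1 : Type := {I : T3 // (0 : Fin 6) ∈ I.1}

/-- extension by zero -/
def ext1 (v : S1 → F) : T3 → F := fun I => if h : (0 : Fin 6) ∈ I.1 then v ⟨I, h⟩ else 0

/-- the multiplicity of the character `(l, n)` of the abelian group `Z ∏_{0 ∈ I} X_I` -/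
noncomputable def aM (D : Data F G) (ψ : AddChar F ℂ) (χ : G → ℂ) (l : F) (n : S1 → F) : ℂ :=
  ((Fintype.card F : ℂ) * (Fintype.card F : ℂ) ^ 10)⁻¹ *
    ∑ r : F, ∑ v : S1 → F, ψ (-(l * r)) * ψ (-(n ⬝ᵥ v)) * χ (Phi D r (ext1 v))

/-- the projection onto the `l`-isotypic part of `C_V(Z)` under `Q` -/
noncomputable def eL {V : Type*} [AddCommGroup V] [Module ℂ V] (D : Data F G)
    (ψ : AddChar F ℂ) (ρ : Representation ℂ G V) (l : T3 → F) : V →ₗ[ℂ] V :=
  ((Fintype.card F : ℂ) * (Fintype.card F : ℂ) ^ 20)⁻¹ •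
    ∑ r : F, ∑ s : T3 → F, ψ (-(l ⬝ᵥ s)) • ρ (Phi D r s)

end mult

end Cfsg.Agent.Lib.Helper5.E6M
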