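import Mathlib
import Cfsg.Agent.Lib.Helper5.E6MDefs

set_option autoImplicit false

/-!
Farm E6M (S2340): the relations in the explicit form proved by the concrete unit CONC
(`Rel1`), from which `Rel` follows by the units REL and MTV (unit RELFULL).
-/

namespace Cfsg.Agent.Lib.Helper5.E6M

/-- `I` with `j` replaced by `i` (for `j ∈ I`, `i ∉ I`; `I` otherwise) -/
def repl (I : T3) (i j : Fin 6) : T3 :=
  if h : j ∈ I.1 ∧ i ∉ I.1 then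
    ⟨insert i (I.1.erase j), by
      rw [Finset.card_insert_of_notMem (fun hh => h.2 (Finset.mem_of_mem_erase hh)),
        Finset.card_erase_of_mem h.1, I.2]⟩
  else I

/-- the sign of `e_I ↦ e_{repl I i j}`: `(-1)^{#{k ∈ I : k strictly between i and j}}` -/
def rsgn (I : T3) (i j : Fin 6) : ℤ :=
  (-1) ^ (I.1.filter fun k => min i j < k ∧ k < max i j).card

variable {F : Type*} [Field F] {G : Type*} [Group G]

/-- the relations proved concretely -/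
structure Rel1 (D : Data F G) : Prop where
  rel0 : Rel0 D
  st_add : ∀ (p : IJ) (t u : F), D.xij p t * D.xij p u = D.xij p (t + u)
  st_comm : ∀ (a b : IJ) (t u : F), a.1.1 ≠ b.1.2 → a.1.2 ≠ b.1.1 →
    D.xij a t * D.xij b u * (D.xij a t)⁻¹ * (D.xij b u)⁻¹ = 1
  st_r3 : ∀ (a b : IJ) (h : a.1.1 ≠ b.1.2) (t u : F), a.1.2 = b.1.1 →
    D.xij a t * D.xij b u * (D.xij a t)⁻¹ * (D.xij b u)⁻¹ = D.xij ⟨(a.1.1, b.1.2), h⟩ (t * u)
  xij_z : ∀ (p : IJ) (t r : F), D.xij p t * D.z r * (D.xij p t)⁻¹ = D.z r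
  /-- `x_ij(t)` maps `e_I` to `e_I + t rsgn e_{repl I i j}` when `j ∈ I`, `i ∉ I`, and fixes it
  otherwise -/
  xij_xI_move : ∀ (p : IJ) (t : F) (I : T3) (a : F), p.1.2 ∈ I.1 → p.1.1 ∉ I.1 →
    D.xij p t * D.xI I a * (D.xij p t)⁻¹ =
      D.xI I a * D.xI (repl I p.1.1 p.1.2) (((rsgn I p.1.1 p.1.2 : ℤ) : F) * t * a)
  xij_xI_fix : ∀ (p : IJ) (t : F) (I : T3) (a : F), ¬ (p.1.2 ∈ I.1 ∧ p.1.1 ∉ I.1) →
    D.xij p t * D.xI I a * (D.xij p t)⁻¹ = D.xI I a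
  n1_z : ∀ r, D.n1 * D.z r * D.n1⁻¹ = D.xI I012 r
  n1_x : ∀ t, D.n1 * D.xij p03 t * D.n1⁻¹ = D.xI I045 (-t)
  h_z : ∀ (c : Fˣ) (r : F), D.h c * D.z r * (D.h c)⁻¹ = D.z (c * r)
  h_xI : ∀ (c : Fˣ) (I : T3) (a : F),
    D.h c * D.xI I a * (D.h c)⁻¹ = D.xI I (((c ^ hexp I : Fˣ) : F) * a)

end Cfsg.Agent.Lib.Helper5.E6M
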