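import Mathlib

set_option autoImplicit false

/-! The `q`-power Frobenius of an extension of a finite field with `q` elements. -/

namespace Cfsg.Agent.Lib.Helper5.DicksonFrob

open Polynomial

variable {F E : Type*} [Field F] [Fintype F] [Field E] (j : F →+* E)

theorem mem_range_of_pow_card (z : E) (hz : z ^ Fintype.card F = z) : z ∈ Set.range j := by
  classical
  set q := Fintype.card F with hq
  have hq1 : 1 < q := Fintype.one_lt_card
  set P : E[X] := X ^ q - X with hP
  have hdeg : P.natDegree = q := FiniteField.X_pow_card_sub_X_natDegree_eq E hq1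
  have hP0 : P ≠ 0 := FiniteField.X_pow_card_sub_X_ne_zero E hq1
  have hroot : ∀ a : F, j a ∈ P.roots.toFinset := by
    intro a
    rw [Multiset.mem_toFinset, mem_roots hP0, IsRoot.def, hP]
    simp only [eval_sub, eval_pow, eval_X]
    rw [← map_pow, FiniteField.pow_card, sub_self]
  set S : Finset E := Finset.univ.image j with hS
  have hSsub : S ⊆ P.roots.toFinset := by
    intro x hx
    rw [hS, Finset.mem_image] at hx
    obtain ⟨a, -, rfl⟩ := hx
    exact hroot a
  have hScard : S.card = q := by
    rw [hS, Finset.card_image_of_injective _ j.injective, Finset.card_univ]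
  have hle : P.roots.toFinset.card ≤ S.card := by
    rw [hScard]
    calc P.roots.toFinset.card ≤ Multiset.card P.roots := Multiset.toFinset_card_le _
      _ ≤ P.natDegree := Polynomial.card_roots' P
      _ = q := hdeg
  have heq := Finset.eq_of_subset_of_card_le hSsub hle
  have hzroot : z ∈ P.roots.toFinset := by
    rw [Multiset.mem_toFinset, mem_roots hP0, IsRoot.def, hP]
    simp only [eval_sub, eval_pow, eval_X]
    rw [hz, sub_self]
  rw [← heq, hS, Finset.mem_image] at hzroot
  obtain ⟨a, -, ha⟩ := hzroot
  exact ⟨a, ha⟩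

/-- the `q`-power Frobenius -/
theorem exists_frob (p : ℕ) [Fact p.Prime] [CharP F p] [CharP E p] :
    ∃ φ : E →+* E, (∀ z, φ z = z ^ Fintype.card F) ∧ φ.comp j = j ∧
      ∀ z, φ z = z → z ∈ Set.range j := by
  obtain ⟨n, -, hn⟩ := FiniteField.card F p
  have h1 : ∀ z, iterateFrobenius E p n z = z ^ Fintype.card F := by
    intro z
    rw [iterateFrobenius_def, hn]
  refine ⟨iterateFrobenius E p n, h1, ?_, ?_⟩
  · ext a
    rw [RingHom.comp_apply, h1, ← map_pow, FiniteField.pow_card]
  · intro z hz
    rw [h1] at hz
    exact mem_range_of_pow_card j z hz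

end Cfsg.Agent.Lib.Helper5.DicksonFrob
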