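import Mathlib

set_option autoImplicit false

/-! Arithmetic of the class equation of a finite Möbius group. -/

namespace Cfsg.Agent.Lib.Helper5.MobArith

/-- the contribution of an orbit: tame -/
theorem term_tame {n e g : ℕ} (h : n * e = g) :
    n * ((e - 1) + (1 - 1)) = g - n := by
  rw [Nat.sub_self, add_zero, Nat.mul_sub, mul_one, h]

/-- the contribution of an orbit: wild -/
theorem term_wild {n e q g : ℕ} (h : n * e = g) (he : 1 ≤ e) (hq : 2 ≤ q) :
    n * ((e - 1) + (q - 1)) = g + n * (q - 2) := by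
  have : (e - 1) + (q - 1) = e + (q - 2) := by omega
  rw [this, mul_add, h]

/-- each singular orbit contributes at least `g / 2` -/
theorem two_mul_term_ge {n e q g : ℕ} (h : n * e = g) (he : 2 ≤ e) :
    g ≤ 2 * (n * ((e - 1) + (q - 1))) := by
  have h1 : n * (e - 1) ≤ n * ((e - 1) + (q - 1)) := Nat.mul_le_mul_left _ (Nat.le_add_right _ _)
  have h2 : g ≤ 2 * (n * (e - 1)) := by
    obtain ⟨k, rfl⟩ : ∃ k, e = k + 2 := ⟨e - 2, by omega⟩
    rw [← h]
    simp only [show k + 2 - 1 = k + 1 from rfl]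
    nlinarith
  omega

/-- one orbit only: the group fixes the point -/
theorem one_orbit {n e q c g : ℕ} (hn : 1 ≤ n) (h : n * e = g) (hec : e = q * c) (he : 2 ≤ e)
    (hq : 1 ≤ q) (hc : 2 ≤ q → c + 1 ≤ q)
    (heq : n * ((e - 1) + (q - 1)) = 2 * (g - 1)) : n = 1 := by
  have hg : 2 ≤ g := by rw [← h]; nlinarith
  rcases Nat.lt_or_ge q 2 with hq1 | hq2
  · have : q = 1 := by omega
    subst this
    rw [term_tame h] at heq
    have : n ≤ g := by rw [← h]; nlinarith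
    omega
  · rw [term_wild h (by omega) hq2] at heq
    have hcq := hc hq2
    -- n * (q - 2) = g - 2
    obtain ⟨r, rfl⟩ : ∃ r, q = r + 2 := ⟨q - 2, by omega⟩
    simp only [Nat.add_sub_cancel] at heq
    have h1 : n * r + 2 = g := by omega
    -- g = n * (r+2) * c
    have h2 : g = n * ((r + 2) * c) := by rw [← h, hec]
    have hc1 : 1 ≤ c := by
      rcases Nat.eq_zero_or_pos c with h0 | h0
      · rw [h0, mul_zero] at hec; omega
      · exact h0
    by_contra hn1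
    have hn2 : 2 ≤ n := by omega
    have h3 : n * ((r + 2) * c) ≥ n * (r + 2) := Nat.mul_le_mul_left _ (by nlinarith)
    have h4 : n * (r + 2) = n * r + 2 * n := by ring
    omega

theorem le_of_mul_eq {n e g : ℕ} (h : n * e = g) (he : 1 ≤ e) : n ≤ g := by
  rw [← h]; exact Nat.le_mul_of_pos_right n he

/-- two tame orbits: the group fixes both points -/
theorem two_tame {g n₁ e₁ n₂ e₂ : ℕ} (h₁ : n₁ * e₁ = g) (he₁ : 2 ≤ e₁) (hn₁ : 1 ≤ n₁)
    (h₂ : n₂ * e₂ = g) (he₂ : 2 ≤ e₂) (hn₂ : 1 ≤ n₂)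
    (heq : (g - n₁) + (g - n₂) = 2 * (g - 1)) : n₁ = 1 ∧ n₂ = 1 := by
  have := le_of_mul_eq h₁ (by omega)
  have := le_of_mul_eq h₂ (by omega)
  omega

theorem coprime_mul_add_one (t r : ℕ) : Nat.Coprime (t * r + 1) t := by
  rw [Nat.Coprime, Nat.gcd_comm, mul_comm, add_comm]
  simp

/-- a wild and a tame orbit -/
theorem wild_tame {g n₀ e₀ q₀ c₀ n₁ e₁ : ℕ} (hn₀ : 1 ≤ n₀) (h₀ : n₀ * e₀ = g)
    (hec : e₀ = q₀ * c₀) (hq₀ : 2 ≤ q₀) (hc₀ : c₀ + 1 ≤ q₀) (hdvd : q₀ ∣ n₀ - 1)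
    (hn₁ : 1 ≤ n₁) (h₁ : n₁ * e₁ = g) (he₁ : 2 ≤ e₁)
    (heq : (g + n₀ * (q₀ - 2)) + (g - n₁) = 2 * (g - 1)) :
    n₀ = 1 ∨ (q₀ = 2 ∧ n₁ = 2) ∨
      (3 ≤ q₀ ∧ n₀ = q₀ + 1 ∧ (c₀ + 1 = q₀ ∨ 2 * c₀ + 1 = q₀)) ∨
      (q₀ = 3 ∧ n₀ = 10 ∧ c₀ = 2) := by
  have hn₁g := le_of_mul_eq h₁ (by omega)
  have hg2 : 2 ≤ g := by rw [← h₁]; nlinarith
  have hc1 : 1 ≤ c₀ := by
    rcases Nat.eq_zero_or_pos c₀ with h0 | h0
    · rw [h0, mul_zero] at hec
      rw [hec, mul_zero] at h₀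
      omega
    · exact h0
  have hn₁eq : n₁ = n₀ * (q₀ - 2) + 2 := by omega
  by_cases hn1 : n₀ = 1
  · left; exact hn1
  right
  obtain ⟨t, ht⟩ := hdvd
  have ht1 : 1 ≤ t := by
    rcases Nat.eq_zero_or_pos t with h0 | h0
    · rw [h0, mul_zero] at ht; omega
    · exact h0
  have hn₀eq : n₀ = q₀ * t + 1 := by omega
  rcases Nat.lt_or_ge q₀ 3 with hq | hq
  · left
    have : q₀ = 2 := by omega
    subst this
    exact ⟨rfl, by omega⟩
  right
  obtain ⟨r, rfl⟩ : ∃ r, q₀ = r + 2 := ⟨q₀ - 2, by omega⟩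
  have hr1 : 1 ≤ r := by omega
  simp only [Nat.add_sub_cancel] at hn₁eq
  set D := t * r + 1 with hD
  have hn₁D : n₁ = (r + 2) * D := by rw [hn₁eq, hn₀eq, hD]; ring
  have hn₀D : n₀ = D + 2 * t := by rw [hn₀eq, hD]; ring
  -- D * e₁ = n₀ * c₀
  have hDe : D * e₁ = n₀ * c₀ := by
    have h3 : (r + 2) * (D * e₁) = (r + 2) * (n₀ * c₀) := by
      calc (r + 2) * (D * e₁) = ((r + 2) * D) * e₁ := by ring
        _ = g := by rw [← hn₁D, h₁]
        _ = n₀ * ((r + 2) * c₀) := by rw [← hec, h₀]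
        _ = (r + 2) * (n₀ * c₀) := by ring
    exact Nat.eq_of_mul_eq_mul_left (by omega) h3
  have hdvd1 : D ∣ 2 * t * c₀ := by
    have h4 : D ∣ D * c₀ + 2 * t * c₀ := by
      have : D * c₀ + 2 * t * c₀ = n₀ * c₀ := by rw [hn₀D]; ring
      rw [this, ← hDe]
      exact dvd_mul_right D e₁
    exact (Nat.dvd_add_right (dvd_mul_right D c₀)).mp h4
  have hdvd2 : D ∣ 2 * c₀ := by
    have h5 : D ∣ t * (2 * c₀) := by
      have : t * (2 * c₀) = 2 * t * c₀ := by ring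
      rw [this]; exact hdvd1
    exact (coprime_mul_add_one t r).dvd_of_dvd_mul_left h5
  have hDle : D ≤ 2 * c₀ := Nat.le_of_dvd (by omega) hdvd2
  have hbound : t * r + 1 ≤ 2 * r + 2 := by rw [← hD]; omega
  rcases Nat.lt_or_ge t 2 with ht2 | ht2
  · -- t = 1
    have : t = 1 := by omega
    subst this
    left
    refine ⟨by omega, by rw [hn₀eq]; ring, ?_⟩
    obtain ⟨k, hk⟩ := hdvd2
    have hD' : D = r + 1 := by rw [hD]; ring
    rw [hD'] at hk
    have hk1 : 1 ≤ k := by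
      rcases Nat.eq_zero_or_pos k with h0 | h0
      · rw [h0, mul_zero] at hk; omega
      · exact h0
    have hk2 : k ≤ 2 := by
      by_contra hcon
      push Not at hcon
      have : (r + 1) * 3 ≤ (r + 1) * k := Nat.mul_le_mul_left _ hcon
      omega
    rcases Nat.lt_or_ge k 2 with hk' | hk'
    · have : k = 1 := by omega
      subst this
      right; omega
    · have : k = 2 := by omega
      subst this
      left; omega
  · right
    rcases Nat.lt_or_ge t 3 with ht3 | ht3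
    · -- t = 2 impossible
      exfalso
      have : t = 2 := by omega
      subst this
      have hcop : Nat.Coprime D 2 := by
        apply Odd.coprime_two_right
        rw [hD]
        exact ⟨r, by ring⟩
      have : D ∣ c₀ := hcop.dvd_of_dvd_mul_left hdvd2
      have := Nat.le_of_dvd (by omega) this
      omega
    · -- t ≥ 3 forces r = 1, t = 3
      have hr : r = 1 := by
        by_contra hne
        have hr2 : 2 ≤ r := by omega
        have : 3 * r ≤ t * r := Nat.mul_le_mul_right _ ht3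
        omega
      subst hr
      have ht : t = 3 := by omega
      subst ht
      refine ⟨rfl, by rw [hn₀eq], ?_⟩
      have hD4 : D = 4 := by rw [hD]
      rw [hD4] at hdvd2
      omega

/-- three tame orbits, sorted by the order of the stabiliser -/
theorem three_tame {g n₁ e₁ n₂ e₂ n₃ e₃ : ℕ} (h₁ : n₁ * e₁ = g) (he₁ : 2 ≤ e₁) (hn₁ : 1 ≤ n₁)
    (h₂ : n₂ * e₂ = g) (hn₂ : 1 ≤ n₂) (h₃ : n₃ * e₃ = g) (hn₃ : 1 ≤ n₃)
    (h12 : e₁ ≤ e₂) (h23 : e₂ ≤ e₃)
    (heq : (g - n₁) + (g - n₂) + (g - n₃) = 2 * (g - 1)) :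
    n₃ = 2 ∨ (e₁ = 2 ∧ e₂ = 3 ∧ ((e₃ = 3 ∧ g = 12) ∨ (e₃ = 4 ∧ g = 24) ∨ (e₃ = 5 ∧ g = 60))) := by
  have hg1 := le_of_mul_eq h₁ (by omega)
  have hg2 := le_of_mul_eq h₂ (by omega)
  have hg3 := le_of_mul_eq h₃ (by omega)
  have hg : 2 ≤ g := by rw [← h₁]; nlinarith
  have hsum : n₁ + n₂ + n₃ = g + 2 := by omega
  -- e₁ = 2
  have he1 : e₁ = 2 := by
    by_contra hne
    have h3 : 3 ≤ e₁ := by omega
    have a1 : n₁ * 3 ≤ g := by rw [← h₁]; exact Nat.mul_le_mul_left _ h3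
    have a2 : n₂ * 3 ≤ g := by rw [← h₂]; exact Nat.mul_le_mul_left _ (by omega)
    have a3 : n₃ * 3 ≤ g := by rw [← h₃]; exact Nat.mul_le_mul_left _ (by omega)
    omega
  subst he1
  have he2 : e₂ = 2 ∨ e₂ = 3 := by
    by_contra hne
    push Not at hne
    have h4 : 4 ≤ e₂ := by omega
    have a2 : n₂ * 4 ≤ g := by rw [← h₂]; exact Nat.mul_le_mul_left _ h4
    have a3 : n₃ * 4 ≤ g := by rw [← h₃]; exact Nat.mul_le_mul_left _ (by omega)
    omega
  rcases he2 with rfl | rfl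
  · left; omega
  · right
    refine ⟨rfl, rfl, ?_⟩
    have he3 : e₃ ≤ 5 := by
      by_contra hne
      push Not at hne
      have a3 : n₃ * 6 ≤ g := by rw [← h₃]; exact Nat.mul_le_mul_left _ hne
      omega
    interval_cases e₃
    · left; exact ⟨rfl, by omega⟩
    · right; left; exact ⟨rfl, by omega⟩
    · right; right; exact ⟨rfl, by omega⟩

end Cfsg.Agent.Lib.Helper5.MobArith
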