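import Mathlib

set_option autoImplicit false

/-! Abstract "Möbius-like" actions: the axioms satisfied by `PGL₂(E)` acting on the projective
line over an algebraically closed field `E` of characteristic `p`. -/

namespace Cfsg.Agent.Lib.Helper5.Mob

/-- `g` fixes `x` and no other point -/
def OnlyFix {G X : Type*} [Group G] [MulAction G X] (g : G) (x : X) : Prop :=
  g • x = x ∧ ∀ y : X, g • y = y → y = x

/-- axioms of a Möbius-like action, with "multiplier" group `A` -/
structure IsMob (G X A : Type*) [Group G] [MulAction G X] [CommGroup A] (p : ℕ) : Prop where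
  /-- only the identity fixes three points -/
  sharp : ∀ (g : G) (a b c : X), a ≠ b → a ≠ c → b ≠ c → g • a = a → g • b = b → g • c = c → g = 1
  /-- every element has a fixed point -/
  exists_fix : ∀ g : G, ∃ x : X, g • x = x
  /-- there are at least three points -/
  three : ∃ a b c : X, a ≠ b ∧ a ≠ c ∧ b ≠ c
  /-- the multiplier character on a point stabiliser -/
  exists_chi : ∀ x : X, ∃ χ : MulAction.stabilizer G x →* A,
    (∀ g : MulAction.stabilizer G x, χ g = 1 ↔ (g = 1 ∨ OnlyFix (g : G) x)) ∧
    (∀ g : MulAction.stabilizer G x, χ g = 1 → g ^ p = 1)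
  /-- finite subgroups of the multiplier group are cyclic -/
  cyc : ∀ (S : Subgroup A), Finite S → IsCyclic S
  /-- the multiplier group has no `p`-torsion -/
  tors : ∀ a : A, a ^ p = 1 → a = 1

end Cfsg.Agent.Lib.Helper5.Mob
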