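import Mathlib
import Cfsg.Agent.Lib.Helper5.MobDef

set_option autoImplicit false

/-! Basic consequences of the Möbius axioms. -/

namespace Cfsg.Agent.Lib.Helper5.Mob

variable {G X A : Type*} [Group G] [MulAction G X] [CommGroup A] {p : ℕ}

/-- the Möbius axioms pass to subgroups -/
theorem IsMob.subgroup (M : IsMob G X A p) (H : Subgroup G) : IsMob H X A p where
  sharp := by
    intro g a b c hab hac hbc ha hb hc
    apply Subtype.ext
    exact M.sharp g.1 a b c hab hac hbc ha hb hc
  exists_fix := fun g => M.exists_fix g.1
  three := M.three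
  exists_chi := by
    intro x
    obtain ⟨χ, h1, h2⟩ := M.exists_chi x
    let ι : MulAction.stabilizer H x →* MulAction.stabilizer G x :=
      { toFun := fun g => ⟨g.1.1, g.2⟩
        map_one' := rfl
        map_mul' := fun _ _ => rfl }
    have hι : Function.Injective ι := by
      intro a b hab
      apply Subtype.ext
      apply Subtype.ext
      exact congrArg (fun z : MulAction.stabilizer G x => (z : G)) hab
    refine ⟨χ.comp ι, ?_, ?_⟩
    · intro g
      show χ (ι g) = 1 ↔ _
      rw [h1]
      constructor
      · rintro (h | h)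
        · left
          apply hι
          rw [h]; rfl
        · right; exact h
      · rintro (h | h)
        · left
          rw [h]; rfl
        · right; exact h
    · intro g hg
      have := h2 (ι g) hg
      apply hι
      rw [map_pow, this]; rfl
  cyc := M.cyc
  tors := M.tors

variable (M : IsMob G X A p)

include M in
/-- a non-identity element with two distinct fixed points has no other fixed point -/
theorem IsMob.fix_mem_pair {g : G} (hg : g ≠ 1) {a b c : X} (hab : a ≠ b) (ha : g • a = a)
    (hb : g • b = b) (hc : g • c = c) : c = a ∨ c = b := by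
  by_contra h
  push Not at h
  exact hg (M.sharp g a b c hab (Ne.symm h.1) (Ne.symm h.2) ha hb hc)

/-- the multiplier character at a point -/
noncomputable def IsMob.chi (x : X) : MulAction.stabilizer G x →* A :=
  Classical.choose (M.exists_chi x)

theorem IsMob.chi_eq_one_iff (x : X) (g : MulAction.stabilizer G x) :
    M.chi x g = 1 ↔ (g = 1 ∨ OnlyFix (g : G) x) :=
  (Classical.choose_spec (M.exists_chi x)).1 g

theorem IsMob.pow_eq_one_of_chi (x : X) (g : MulAction.stabilizer G x) (h : M.chi x g = 1) :
    g ^ p = 1 :=
  (Classical.choose_spec (M.exists_chi x)).2 g h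

/-- the "unipotent radical" of the stabiliser of `x`: the identity and the elements fixing only
`x` -/
noncomputable def IsMob.Q (x : X) : Subgroup G := (M.chi x).ker.map (MulAction.stabilizer G x).subtype

theorem IsMob.mem_Q (x : X) (g : G) : g ∈ M.Q x ↔ (g = 1 ∨ OnlyFix g x) := by
  unfold IsMob.Q
  rw [Subgroup.mem_map]
  constructor
  · rintro ⟨h, hh, rfl⟩
    rw [MonoidHom.mem_ker, M.chi_eq_one_iff] at hh
    rcases hh with h1 | h1
    · left; rw [h1]; rfl
    · right; exact h1
  · rintro (h | h)
    · exact ⟨1, one_mem _, by rw [h]; rfl⟩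
    · refine ⟨⟨g, h.1⟩, ?_, rfl⟩
      rw [MonoidHom.mem_ker, M.chi_eq_one_iff]
      right; exact h

theorem IsMob.Q_le (x : X) : M.Q x ≤ MulAction.stabilizer G x := by
  intro g hg
  rw [M.mem_Q] at hg
  rcases hg with h | h
  · rw [h]; exact one_mem _
  · exact h.1

theorem IsMob.Q_subgroupOf (x : X) :
    (M.Q x).subgroupOf (MulAction.stabilizer G x) = (M.chi x).ker := by
  ext g
  rw [Subgroup.mem_subgroupOf, M.mem_Q, MonoidHom.mem_ker, M.chi_eq_one_iff]
  constructor
  · rintro (h | h)
    · left; exact Subtype.ext h
    · right; exact h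
  · rintro (h | h)
    · left; rw [h]; rfl
    · right; exact h

/-- `|G_x| = |Q_x| * |χ_x(G_x)|` -/
theorem IsMob.card_stabilizer [Finite G] (x : X) :
    Nat.card (MulAction.stabilizer G x) = Nat.card (M.Q x) * Nat.card (M.chi x).range := by
  have h1 := Subgroup.card_mul_index (M.chi x).ker
  rw [Subgroup.index_ker, ← M.Q_subgroupOf] at h1
  rw [← h1]
  congr 1
  exact Nat.card_congr (Subgroup.subgroupOfEquivOfLe (M.Q_le x)).toEquiv

end Cfsg.Agent.Lib.Helper5.Mob
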