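import Mathlib
import Cfsg.Agent.Lib.Helper5.MobBasic

set_option autoImplicit false

/-! Counting fixed points of a finite group with a Möbius-like action: the class equation. -/

namespace Cfsg.Agent.Lib.Helper5.Mob

open Classical

variable {G X A : Type*} [Group G] [MulAction G X] [CommGroup A] {p : ℕ} (M : IsMob G X A p)

include M in
theorem IsMob.ne_one_of_onlyFix {g : G} {x : X} (h : OnlyFix g x) : g ≠ 1 := by
  rintro rfl
  obtain ⟨a, b, c, hab, hac, hbc⟩ := M.three
  have ha := h.2 a (one_smul _ _)
  have hb := h.2 b (one_smul _ _)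
  exact hab (ha.trans hb.symm)

include M in
theorem IsMob.finite_fixedBy {g : G} (hg : g ≠ 1) : (MulAction.fixedBy X g).Finite := by
  obtain ⟨a, ha⟩ := M.exists_fix g
  by_cases h : ∃ b, b ≠ a ∧ g • b = b
  · obtain ⟨b, hba, hb⟩ := h
    apply Set.Finite.subset (Set.toFinite {a, b})
    intro c hc
    rcases M.fix_mem_pair hg (Ne.symm hba) ha hb hc with h | h
    · left; exact h
    · right; exact h
  · push Not at h
    apply Set.Finite.subset (Set.toFinite {a})
    intro c hc
    by_contra hca
    exact hca (by
      by_contra hne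
      exact h c hne hc)

/-- parabolic elements: exactly one fixed point -/
def IsPar (g : G) : Prop := ∃ x : X, OnlyFix g x

theorem ncard_fixedBy_of_isPar {g : G} (h : IsPar (X := X) g) :
    (MulAction.fixedBy X g).ncard = 1 := by
  obtain ⟨x, hx⟩ := h
  have : MulAction.fixedBy X g = {x} := by
    ext y
    simp only [MulAction.mem_fixedBy, Set.mem_singleton_iff]
    constructor
    · exact hx.2 y
    · rintro rfl; exact hx.1
  rw [this, Set.ncard_singleton]

include M in
theorem IsMob.ncard_fixedBy_of_not_isPar {g : G} (hg : g ≠ 1) (h : ¬ IsPar (X := X) g) :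
    (MulAction.fixedBy X g).ncard = 2 := by
  obtain ⟨a, ha⟩ := M.exists_fix g
  have : ∃ b, b ≠ a ∧ g • b = b := by
    by_contra hcon
    push Not at hcon
    apply h
    refine ⟨a, ha, fun y hy => ?_⟩
    by_contra hne
    exact hcon y hne hy
  obtain ⟨b, hba, hb⟩ := this
  have : MulAction.fixedBy X g = {a, b} := by
    ext c
    simp only [MulAction.mem_fixedBy, Set.mem_insert_iff, Set.mem_singleton_iff]
    constructor
    · intro hc
      exact M.fix_mem_pair hg (Ne.symm hba) ha hb hc
    · rintro (rfl | rfl)
      · exact ha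
      · exact hb
  rw [this, Set.ncard_pair (Ne.symm hba)]

/-- the singular points: those with a non-trivial stabiliser -/
def sing (G X : Type*) [Group G] [MulAction G X] : Set X := {x | ∃ g : G, g ≠ 1 ∧ g • x = x}

theorem mem_sing {x : X} : x ∈ sing G X ↔ ∃ g : G, g ≠ 1 ∧ g • x = x := Iff.rfl

theorem smul_mem_sing (c : G) {x : X} (hx : x ∈ sing G X) : c • x ∈ sing G X := by
  obtain ⟨g, hg, hgx⟩ := hx
  refine ⟨c * g * c⁻¹, ?_, ?_⟩
  · intro h
    apply hg
    have : g = c⁻¹ * (c * g * c⁻¹) * c := by group
    rw [this, h]; group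
  · rw [mul_smul, mul_smul, inv_smul_smul, hgx]

include M in
theorem IsMob.finite_sing [Finite G] : (sing G X).Finite := by
  have : sing G X = ⋃ g ∈ {g : G | g ≠ 1}, MulAction.fixedBy X g := by
    ext x
    simp only [mem_sing, Set.mem_iUnion, Set.mem_ofPred_eq, MulAction.mem_fixedBy, exists_prop]
  rw [this]
  exact Set.Finite.biUnion (Set.toFinite _) (fun g hg => M.finite_fixedBy hg)

section count
variable [Fintype G]

theorem card_filter_stabilizer (x : X) :
    ((Finset.univ : Finset G).filter (fun g => g • x = x)).card =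
      Nat.card (MulAction.stabilizer G x) := by
  rw [Nat.card_eq_fintype_card, Fintype.card_subtype]
  rfl

theorem card_filter_mem (H : Subgroup G) :
    ((Finset.univ : Finset G).filter (fun g => g ∈ H)).card = Nat.card H := by
  rw [Nat.card_eq_fintype_card, Fintype.card_subtype]

include M in
theorem IsMob.card_filter_onlyFix (x : X) :
    ((Finset.univ : Finset G).filter (fun g => OnlyFix g x)).card = Nat.card (M.Q x) - 1 := by
  have h : (Finset.univ : Finset G).filter (fun g => OnlyFix g x) =
      ((Finset.univ : Finset G).filter (fun g => g ∈ M.Q x)).erase 1 := by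
    ext g
    simp only [Finset.mem_filter, Finset.mem_univ, true_and, Finset.mem_erase, M.mem_Q]
    constructor
    · intro h
      exact ⟨M.ne_one_of_onlyFix h, Or.inr h⟩
    · rintro ⟨h1, h2 | h2⟩
      · exact absurd h2 h1
      · exact h2
  rw [h, Finset.card_erase_of_mem, card_filter_mem]
  simp only [Finset.mem_filter, Finset.mem_univ, true_and]
  exact one_mem _

include M in
/-- the class equation, as a sum over the singular points -/
theorem IsMob.class_eq_points (S : Finset X) (hS : ∀ x, x ∈ S ↔ x ∈ sing G X) :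
    ∑ x ∈ S, ((Nat.card (MulAction.stabilizer G x) - 1) + (Nat.card (M.Q x) - 1)) =
      2 * (Fintype.card G - 1) := by
  set s : Finset G := (Finset.univ : Finset G).erase 1 with hs
  have hscard : s.card = Fintype.card G - 1 := by
    rw [hs, Finset.card_erase_of_mem (Finset.mem_univ _), Finset.card_univ]
  -- first double count
  have h1 := Finset.sum_card_bipartiteAbove_eq_sum_card_bipartiteBelow (s := s) (t := S)
    (fun (g : G) (x : X) => g • x = x)
  have hL : ∀ g ∈ s, (S.bipartiteAbove (fun (g : G) (x : X) => g • x = x) g).card =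
      if IsPar (X := X) g then 1 else 2 := by
    intro g hg
    have hg1 : g ≠ 1 := (Finset.mem_erase.mp hg).1
    have hset : ((S.bipartiteAbove (fun (g : G) (x : X) => g • x = x) g : Finset X) : Set X) =
        MulAction.fixedBy X g := by
      ext x
      simp only [Finset.bipartiteAbove, Finset.coe_filter, Set.mem_ofPred_eq, MulAction.mem_fixedBy,
        hS, mem_sing]
      constructor
      · exact fun h => h.2
      · exact fun h => ⟨⟨g, hg1, h⟩, h⟩
    rw [← Set.ncard_coe_finset, hset]
    split_ifs with hp
    · exact ncard_fixedBy_of_isPar hp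
    · exact M.ncard_fixedBy_of_not_isPar hg1 hp
  have hR : ∀ x ∈ S, (s.bipartiteBelow (fun (g : G) (x : X) => g • x = x) x).card =
      Nat.card (MulAction.stabilizer G x) - 1 := by
    intro x _
    have : s.bipartiteBelow (fun (g : G) (x : X) => g • x = x) x =
        ((Finset.univ : Finset G).filter (fun g => g • x = x)).erase 1 := by
      ext g
      simp only [Finset.bipartiteBelow, hs, Finset.mem_filter, Finset.mem_erase, Finset.mem_univ,
        true_and, and_true]
    rw [this, Finset.card_erase_of_mem, card_filter_stabilizer]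
    simp
  rw [Finset.sum_congr rfl hL, Finset.sum_congr rfl hR] at h1
  -- second double count
  have h2 := Finset.sum_card_bipartiteAbove_eq_sum_card_bipartiteBelow (s := s) (t := S)
    (fun (g : G) (x : X) => OnlyFix g x)
  have hL2 : ∀ g ∈ s, (S.bipartiteAbove (fun (g : G) (x : X) => OnlyFix g x) g).card =
      if IsPar (X := X) g then 1 else 0 := by
    intro g hg
    have hg1 : g ≠ 1 := (Finset.mem_erase.mp hg).1
    split_ifs with hp
    · obtain ⟨x, hx⟩ := hp
      rw [Finset.card_eq_one]
      refine ⟨x, ?_⟩
      ext y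
      simp only [Finset.bipartiteAbove, Finset.mem_filter, Finset.mem_singleton, hS, mem_sing]
      constructor
      · rintro ⟨-, hy⟩
        exact (hx.2 y hy.1)
      · rintro rfl
        exact ⟨⟨g, hg1, hx.1⟩, hx⟩
    · rw [Finset.card_eq_zero]
      ext y
      simp only [Finset.bipartiteAbove, Finset.mem_filter, Finset.notMem_empty, iff_false, not_and]
      intro _ hy
      exact hp ⟨y, hy⟩
  have hR2 : ∀ x ∈ S, (s.bipartiteBelow (fun (g : G) (x : X) => OnlyFix g x) x).card =
      Nat.card (M.Q x) - 1 := by
    intro x _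
    have : s.bipartiteBelow (fun (g : G) (x : X) => OnlyFix g x) x =
        (Finset.univ : Finset G).filter (fun g => OnlyFix g x) := by
      ext g
      simp only [Finset.bipartiteBelow, hs, Finset.mem_filter, Finset.mem_erase, Finset.mem_univ,
        true_and, and_true]
      constructor
      · exact fun h => h.2
      · exact fun h => ⟨M.ne_one_of_onlyFix h, h⟩
    rw [this, M.card_filter_onlyFix]
  rw [Finset.sum_congr rfl hL2, Finset.sum_congr rfl hR2] at h2
  rw [Finset.sum_add_distrib, ← h1, ← h2, ← Finset.sum_add_distrib, ← hscard]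
  have : ∀ g ∈ s, ((if IsPar (X := X) g then 1 else 2) + (if IsPar (X := X) g then 1 else 0)) = 2 := by
    intro g _
    split_ifs <;> rfl
  rw [Finset.sum_congr rfl this, Finset.sum_const, smul_eq_mul, mul_comm]

end count

section orbits

omit [CommGroup A] in
/-- grouping a sum over an invariant finite set by orbits -/
theorem exists_orbit_reps (f : X → ℕ) (hf : ∀ (c : G) (x : X), f (c • x) = f x) :
    ∀ (n : ℕ) (T : Finset X), T.card = n → (∀ (c : G) (x : X), x ∈ T → c • x ∈ T) →
    ∃ R : Finset X, R ⊆ T ∧ (∀ t ∈ T, ∃ x ∈ R, t ∈ MulAction.orbit G x) ∧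
      (∀ x ∈ R, ∀ y ∈ R, y ∈ MulAction.orbit G x → x = y) ∧
      ∑ t ∈ T, f t = ∑ x ∈ R, Nat.card (MulAction.orbit G x) * f x := by
  intro n
  induction n using Nat.strong_induction_on with
  | _ n ih =>
    intro T hTn hT
    by_cases hemp : T = ∅
    · refine ⟨∅, by simp, ?_, by simp, ?_⟩
      · rw [hemp]; simp
      · rw [hemp]; simp
    · obtain ⟨t₀, ht₀⟩ := Finset.nonempty_iff_ne_empty.mpr hemp
      set O : Finset X := T.filter (fun t => t ∈ MulAction.orbit G t₀) with hO
      set T' : Finset X := T.filter (fun t => t ∉ MulAction.orbit G t₀) with hT'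
      have hT'inv : ∀ (c : G) (x : X), x ∈ T' → c • x ∈ T' := by
        intro c x hx
        rw [hT', Finset.mem_filter] at hx ⊢
        refine ⟨hT c x hx.1, fun h => hx.2 ?_⟩
        have := MulAction.mem_orbit_of_mem_orbit c⁻¹ h
        rwa [inv_smul_smul] at this
      have hsplit : O.card + T'.card = T.card := by
        rw [hO, hT']
        exact Finset.card_filter_add_card_filter_not (s := T) (fun t => t ∈ MulAction.orbit G t₀)
      have ht₀O : t₀ ∈ O := by
        rw [hO, Finset.mem_filter]
        exact ⟨ht₀, MulAction.mem_orbit_self t₀⟩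
      have hOpos : 0 < O.card := Finset.card_pos.mpr ⟨t₀, ht₀O⟩
      obtain ⟨R', hR'T, hcov, hind, hsum⟩ := ih T'.card (by omega) T' rfl hT'inv
      have hOset : (O : Set X) = MulAction.orbit G t₀ := by
        ext y
        simp only [hO, Finset.coe_filter, Set.mem_ofPred_eq]
        constructor
        · exact fun h => h.2
        · intro h
          obtain ⟨c, rfl⟩ := h
          exact ⟨hT c t₀ ht₀, ⟨c, rfl⟩⟩
      have hOcard : Nat.card (MulAction.orbit G t₀) = O.card := by
        rw [← hOset, Nat.card_coe_set_eq, Set.ncard_coe_finset]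
      have hsumO : ∑ t ∈ O, f t = O.card * f t₀ := by
        rw [Finset.sum_congr rfl (g := fun _ => f t₀), Finset.sum_const, smul_eq_mul]
        intro t ht
        rw [hO, Finset.mem_filter] at ht
        obtain ⟨c, rfl⟩ := ht.2
        exact hf c t₀
      have ht₀R' : t₀ ∉ R' := by
        intro h
        have := hR'T h
        rw [hT', Finset.mem_filter] at this
        exact this.2 (MulAction.mem_orbit_self t₀)
      refine ⟨insert t₀ R', ?_, ?_, ?_, ?_⟩
      · intro x hx
        rw [Finset.mem_insert] at hx
        rcases hx with rfl | hx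
        · exact ht₀
        · exact (Finset.mem_filter.mp (hR'T hx)).1
      · intro t ht
        by_cases h : t ∈ MulAction.orbit G t₀
        · exact ⟨t₀, Finset.mem_insert_self _ _, h⟩
        · obtain ⟨x, hx, hxt⟩ := hcov t (by rw [hT', Finset.mem_filter]; exact ⟨ht, h⟩)
          exact ⟨x, Finset.mem_insert_of_mem hx, hxt⟩
      · intro x hx y hy hyx
        rw [Finset.mem_insert] at hx hy
        rcases hx with rfl | hx <;> rcases hy with rfl | hy
        · rfl
        · exfalso
          have := hR'T hy
          rw [hT', Finset.mem_filter] at this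
          exact this.2 hyx
        · exfalso
          have := hR'T hx
          rw [hT', Finset.mem_filter] at this
          apply this.2
          rw [MulAction.orbit_eq_iff.mpr hyx]
          exact MulAction.mem_orbit_self _
        · exact hind x hx y hy hyx
      · rw [Finset.sum_insert ht₀R', ← hsum, hOcard, ← hsumO, hO, hT']
        exact (Finset.sum_filter_add_sum_filter_not T (fun t => t ∈ MulAction.orbit G t₀) f).symm

end orbits

section points

omit [CommGroup A] in
theorem card_orbit_mul_card_stabilizer [Finite G] (x : X) :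
    Nat.card (MulAction.orbit G x) * Nat.card (MulAction.stabilizer G x) = Nat.card G := by
  have h1 := Subgroup.card_eq_card_quotient_mul_card_subgroup (MulAction.stabilizer G x)
  rw [← Nat.card_congr (MulAction.orbitEquivQuotientStabilizer G x)] at h1
  exact h1.symm

omit [CommGroup A] in
theorem onlyFix_conj (c g : G) (x : X) : OnlyFix (c * g * c⁻¹) (c • x) ↔ OnlyFix g x := by
  unfold OnlyFix
  constructor
  · rintro ⟨h1, h2⟩
    refine ⟨?_, fun y hy => ?_⟩
    · rw [mul_smul, mul_smul, inv_smul_smul] at h1
      exact MulAction.injective c h1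
    · have := h2 (c • y) (by rw [mul_smul, mul_smul, inv_smul_smul, hy])
      exact MulAction.injective c this
  · rintro ⟨h1, h2⟩
    refine ⟨by rw [mul_smul, mul_smul, inv_smul_smul, h1], fun y hy => ?_⟩
    have := h2 (c⁻¹ • y) (by
      have := congrArg (fun z => c⁻¹ • z) hy
      simp only [mul_smul, inv_smul_smul] at this
      exact this)
    rw [← this, smul_inv_smul]

theorem IsMob.Q_smul (c : G) (x : X) :
    M.Q (c • x) = (M.Q x).map (MulAut.conj c).toMonoidHom := by
  ext g
  rw [Subgroup.mem_map, M.mem_Q]
  constructor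
  · intro h
    refine ⟨c⁻¹ * g * c, ?_, by simp [MulAut.conj_apply, mul_assoc]⟩
    rw [M.mem_Q]
    rcases h with h | h
    · left; rw [h]; group
    · right
      rw [← onlyFix_conj c]
      have : c * (c⁻¹ * g * c) * c⁻¹ = g := by group
      rw [this]; exact h
  · rintro ⟨h, hh, rfl⟩
    rw [M.mem_Q] at hh
    rcases hh with h1 | h1
    · left; rw [h1]; simp
    · right
      simp only [MulEquiv.coe_toMonoidHom, MulAut.conj_apply]
      exact (onlyFix_conj c h x).mpr h1

theorem IsMob.card_Q_smul (c : G) (x : X) : Nat.card (M.Q (c • x)) = Nat.card (M.Q x) := by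
  rw [M.Q_smul]
  exact Subgroup.card_map_of_injective (MulAut.conj c).injective

omit [CommGroup A] in
theorem card_stabilizer_smul (c : G) (x : X) :
    Nat.card (MulAction.stabilizer G (c • x)) = Nat.card (MulAction.stabilizer G x) := by
  rw [MulAction.stabilizer_smul_eq_stabilizer_map_conj]
  exact Subgroup.card_map_of_injective (MulAut.conj c).injective

omit [CommGroup A] in
theorem mem_sing_iff_card [Finite G] (x : X) :
    x ∈ sing G X ↔ 2 ≤ Nat.card (MulAction.stabilizer G x) := by
  rw [mem_sing]
  constructor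
  · rintro ⟨g, hg, hgx⟩
    have : Nontrivial (MulAction.stabilizer G x) :=
      ⟨⟨⟨g, hgx⟩, 1, fun h => hg (congrArg Subtype.val h)⟩⟩
    exact Finite.one_lt_card
  · intro h
    have : Nontrivial (MulAction.stabilizer G x) := Finite.one_lt_card_iff_nontrivial.mp h
    obtain ⟨g, hg⟩ := exists_ne (1 : MulAction.stabilizer G x)
    exact ⟨g.1, fun h1 => hg (Subtype.ext h1), g.2⟩

include M in
/-- an element of the stabiliser commuting with a non-trivial element of `Q x` lies in `Q x` -/
theorem IsMob.mem_Q_of_commute {x : X} {g u : G} (hg : g • x = x) (hu : u ∈ M.Q x) (hu1 : u ≠ 1)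
    (hc : g * u = u * g) : g ∈ M.Q x := by
  rw [M.mem_Q] at hu ⊢
  have huF : OnlyFix u x := hu.resolve_left hu1
  by_contra hcon
  push Not at hcon
  obtain ⟨hg1, hnf⟩ := hcon
  have : ∃ y, y ≠ x ∧ g • y = y := by
    by_contra h
    push Not at h
    apply hnf
    refine ⟨hg, fun y hy => ?_⟩
    by_contra hne
    exact h y hne hy
  obtain ⟨y, hyx, hy⟩ := this
  have h1 : g • (u • y) = u • y := by rw [← mul_smul, hc, mul_smul, hy]
  rcases M.fix_mem_pair hg1 (Ne.symm hyx) hg hy h1 with h2 | h2
  · apply hyx
    have : u • y = u • x := by rw [h2, huF.1]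
    exact MulAction.injective u this
  · exact hyx (huF.2 y h2)

include M in
/-- the cyclic quotient of a wild stabiliser has order at most `|Q x| - 1` -/
theorem IsMob.card_range_chi_le [Finite G] (x : X) (hq : 2 ≤ Nat.card (M.Q x)) :
    Nat.card (M.chi x).range + 1 ≤ Nat.card (M.Q x) := by
  haveI : Fintype G := Fintype.ofFinite G
  have : Nontrivial (M.Q x) := Finite.one_lt_card_iff_nontrivial.mp hq
  obtain ⟨⟨u, hu⟩, hu1'⟩ := exists_ne (1 : M.Q x)
  have hu1 : u ≠ 1 := fun h => hu1' (Subtype.ext h)
  have huF : OnlyFix u x := ((M.mem_Q x u).mp hu).resolve_left hu1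
  set s : Finset G := (Finset.univ : Finset G).filter (fun g => g • x = x) with hs
  set f : G → G := fun g => g * u * g⁻¹ with hf
  have himg : s.image f ⊆ (Finset.univ : Finset G).filter (fun g => OnlyFix g x) := by
    intro a ha
    rw [Finset.mem_image] at ha
    obtain ⟨g, hg, rfl⟩ := ha
    rw [hs, Finset.mem_filter] at hg
    rw [Finset.mem_filter]
    refine ⟨Finset.mem_univ _, ?_⟩
    have := (onlyFix_conj g u x).mpr huF
    rwa [hg.2] at this
  have hfib : ∀ a ∈ s.image f, (s.filter (fun g => f g = a)).card ≤ Nat.card (M.Q x) := by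
    intro a ha
    rw [Finset.mem_image] at ha
    obtain ⟨g₀, hg₀, rfl⟩ := ha
    rw [hs, Finset.mem_filter] at hg₀
    rw [← card_filter_mem (M.Q x)]
    apply Finset.card_le_card_of_injOn (fun g => g₀⁻¹ * g)
    · intro g hg
      simp only [Finset.coe_filter, Set.mem_ofPred_eq, hs, Finset.mem_filter, Finset.mem_univ, true_and] at hg
      simp only [Finset.coe_filter, Set.mem_ofPred_eq, Finset.mem_univ, true_and]
      apply M.mem_Q_of_commute (x := x) (u := u) _ hu hu1
      · have h1 : g * u * g⁻¹ = g₀ * u * g₀⁻¹ := hg.2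
        have h2 : g * u = g₀ * u * g₀⁻¹ * g := by rw [← h1]; group
        calc g₀⁻¹ * g * u = g₀⁻¹ * (g * u) := by group
          _ = g₀⁻¹ * (g₀ * u * g₀⁻¹ * g) := by rw [h2]
          _ = u * (g₀⁻¹ * g) := by group
      · rw [mul_smul, hg.1]
        have := congrArg (fun z => g₀⁻¹ • z) hg₀.2
        simp only [inv_smul_smul] at this
        exact this.symm
    · intro g _ g' _ h
      exact mul_left_cancel h
  have h1 := Finset.card_le_mul_card_image (f := f) s (Nat.card (M.Q x)) hfib
  have h2 := Finset.card_le_card himg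
  rw [M.card_filter_onlyFix] at h2
  rw [hs, card_filter_stabilizer, M.card_stabilizer] at h1
  have hqpos : 0 < Nat.card (M.Q x) := by omega
  have h3 : Nat.card (M.Q x) * Nat.card (M.chi x).range ≤
      Nat.card (M.Q x) * (Nat.card (M.Q x) - 1) :=
    le_trans h1 (Nat.mul_le_mul_left _ h2)
  have := Nat.le_of_mul_le_mul_left h3 hqpos
  omega

include M in
/-- `|Q x|` divides the length of the orbit of `x` minus one -/
theorem IsMob.card_Q_dvd [Finite G] (x : X) :
    Nat.card (M.Q x) ∣ Nat.card (MulAction.orbit G x) - 1 := by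
  have hfin : (MulAction.orbit G x).Finite := Set.finite_range _
  set T : Finset X := hfin.toFinset.erase x with hT
  have hTmem : ∀ y, y ∈ T ↔ y ∈ MulAction.orbit G x ∧ y ≠ x := by
    intro y
    rw [hT, Finset.mem_erase, Set.Finite.mem_toFinset]
    tauto
  have hTcard : T.card = Nat.card (MulAction.orbit G x) - 1 := by
    rw [hT, Finset.card_erase_of_mem, Nat.card_coe_set_eq, Set.ncard_eq_toFinset_card _ hfin]
    rw [Set.Finite.mem_toFinset]
    exact MulAction.mem_orbit_self x
  have hinv : ∀ (c : M.Q x) (y : X), y ∈ T → c • y ∈ T := by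
    intro c y hy
    rw [hTmem] at hy ⊢
    refine ⟨MulAction.mem_orbit_of_mem_orbit (c : G) hy.1, fun h => hy.2 ?_⟩
    have hcx : (c : G) • x = x := M.Q_le x c.2
    have : (c : G) • y = (c : G) • x := by rw [hcx]; exact h
    exact MulAction.injective (c : G) this
  obtain ⟨R, hRT, -, -, hsum⟩ := exists_orbit_reps (G := M.Q x) (fun _ : X => 1)
    (fun _ _ => rfl) T.card T rfl hinv
  have horb : ∀ y ∈ R, Nat.card (MulAction.orbit (M.Q x) y) = Nat.card (M.Q x) := by
    intro y hy
    have hy' := (hTmem y).mp (hRT hy)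
    have h1 := card_orbit_mul_card_stabilizer (G := M.Q x) y
    have h2 : MulAction.stabilizer (M.Q x) y = ⊥ := by
      rw [eq_bot_iff]
      intro c hc
      rw [Subgroup.mem_bot]
      have hc' : (c : G) • y = y := hc
      rcases (M.mem_Q x c).mp c.2 with h | h
      · exact Subtype.ext h
      · exact absurd (h.2 y hc') hy'.2
    rw [h2, Subgroup.card_bot, mul_one] at h1
    exact h1
  simp only [Finset.sum_const, smul_eq_mul, mul_one] at hsum
  rw [Finset.sum_congr rfl horb, Finset.sum_const, smul_eq_mul, hTcard] at hsum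
  exact ⟨R.card, by rw [hsum, mul_comm]⟩

include M in
/-- the class equation, as a sum over orbit representatives -/
theorem IsMob.class_eq_orbits [Finite G] :
    ∃ R : Finset X, (∀ x ∈ R, x ∈ sing G X) ∧
      (∀ t ∈ sing G X, ∃ x ∈ R, t ∈ MulAction.orbit G x) ∧
      (∀ x ∈ R, ∀ y ∈ R, y ∈ MulAction.orbit G x → x = y) ∧
      ∑ x ∈ R, Nat.card (MulAction.orbit G x) *
        ((Nat.card (MulAction.stabilizer G x) - 1) + (Nat.card (M.Q x) - 1)) =
        2 * (Nat.card G - 1) := by
  haveI : Fintype G := Fintype.ofFinite G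
  set S : Finset X := M.finite_sing.toFinset with hS
  have hSmem : ∀ x, x ∈ S ↔ x ∈ sing G X := fun x => Set.Finite.mem_toFinset _
  obtain ⟨R, hRS, hcov, hind, hsum⟩ := exists_orbit_reps (G := G)
    (fun x : X => (Nat.card (MulAction.stabilizer G x) - 1) + (Nat.card (M.Q x) - 1))
    (fun c x => by
      show (Nat.card (MulAction.stabilizer G (c • x)) - 1) + (Nat.card (M.Q (c • x)) - 1) = _
      rw [card_stabilizer_smul, M.card_Q_smul]) S.card S rfl
    (fun c x hx => by
      rw [hSmem] at hx ⊢
      exact smul_mem_sing c hx)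
  refine ⟨R, fun x hx => (hSmem x).mp (hRS hx), fun t ht => hcov t ((hSmem t).mpr ht), hind, ?_⟩
  rw [← hsum, M.class_eq_points S hSmem, Nat.card_eq_fintype_card]

end points

end Cfsg.Agent.Lib.Helper5.Mob
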