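import Mathlib
import Cfsg.Agent.Lib.Helper5.MobCount
import Cfsg.Agent.Lib.Helper5.MobArith

set_option autoImplicit false

/-! The numerical classification of finite groups with a Möbius-like action. -/

namespace Cfsg.Agent.Lib.Helper5.Mob

open Classical

variable {G X A : Type*} [Group G] [MulAction G X] [CommGroup A] {p : ℕ} (M : IsMob G X A p)

/-- orbit length -/
noncomputable abbrev nn (G : Type*) {X : Type*} [Group G] [MulAction G X] (x : X) : ℕ :=
  Nat.card (MulAction.orbit G x)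

/-- stabiliser order -/
noncomputable abbrev ee (G : Type*) {X : Type*} [Group G] [MulAction G X] (x : X) : ℕ :=
  Nat.card (MulAction.stabilizer G x)

/-- order of the unipotent part of the stabiliser -/
noncomputable abbrev IsMob.qq (x : X) : ℕ := Nat.card (M.Q x)

/-- order of the cyclic quotient of the stabiliser -/
noncomputable abbrev IsMob.cc (x : X) : ℕ := Nat.card (M.chi x).range

include M in
theorem IsMob.point_facts [Finite G] (x : X) (hx : x ∈ sing G X) :
    1 ≤ nn G x ∧ nn G x * ee G x = Nat.card G ∧ ee G x = M.qq x * M.cc x ∧ 2 ≤ ee G x ∧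
      1 ≤ M.qq x ∧ (2 ≤ M.qq x → M.cc x + 1 ≤ M.qq x) ∧ M.qq x ∣ nn G x - 1 := by
  refine ⟨?_, card_orbit_mul_card_stabilizer x, M.card_stabilizer x,
    (mem_sing_iff_card x).mp hx, Nat.card_pos, M.card_range_chi_le x, M.card_Q_dvd x⟩
  have : Nonempty (MulAction.orbit G x) := ⟨⟨x, MulAction.mem_orbit_self x⟩⟩
  have : Finite (MulAction.orbit G x) := Set.finite_range _
  exact Nat.card_pos

omit [CommGroup A] in
theorem fixes_of_card_orbit [Finite G] (x : X) (h : nn G x = 1) : ∀ g : G, g • x = x := by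
  intro g
  have : Finite (MulAction.orbit G x) := Set.finite_range _
  have hu := (Nat.card_eq_one_iff_unique.mp h).1
  have := hu.elim ⟨g • x, MulAction.mem_orbit x g⟩ ⟨x, MulAction.mem_orbit_self x⟩
  exact congrArg Subtype.val this

omit [CommGroup A] in
theorem sort3 (f : X → ℕ) (R : Finset X) (hR : R.card = 3) :
    ∃ a b c : X, R = {a, b, c} ∧ a ≠ b ∧ a ≠ c ∧ b ≠ c ∧ f a ≤ f b ∧ f b ≤ f c := by
  obtain ⟨x, y, z, hxy, hxz, hyz, rfl⟩ := Finset.card_eq_three.mp hR
  rcases le_total (f x) (f y) with h1 | h1 <;> rcases le_total (f y) (f z) with h2 | h2 <;>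
    rcases le_total (f x) (f z) with h3 | h3
  · exact ⟨x, y, z, rfl, hxy, hxz, hyz, h1, h2⟩
  · exact ⟨x, y, z, rfl, hxy, hxz, hyz, h1, h2⟩
  · exact ⟨x, z, y, by ext; simp; tauto, hxz, hxy, hyz.symm, h3, h2⟩
  · exact ⟨z, x, y, by ext; simp; tauto, hxz.symm, hyz.symm, hxy, h3, h1⟩
  · exact ⟨y, x, z, by ext; simp; tauto, hxy.symm, hyz, hxz, h1, h3⟩
  · exact ⟨y, z, x, by ext; simp; tauto, hyz, hxy.symm, hxz.symm, h2, h3⟩
  · exact ⟨z, y, x, by ext; simp; tauto, hyz.symm, hxz.symm, hxy.symm, h2, h1⟩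
  · exact ⟨z, y, x, by ext; simp; tauto, hyz.symm, hxz.symm, hxy.symm, h2, h1⟩

/-- the three tame polyhedral configurations `(2, 3, k)` -/
def IsMob.Tame3 (k g : ℕ) : Prop :=
  ∃ a b c : X, Nat.card G = g ∧ ee G a = 2 ∧ ee G b = 3 ∧ ee G c = k ∧
    M.qq a = 1 ∧ M.qq b = 1 ∧ M.qq c = 1 ∧
    (∀ t ∈ sing G X, t ∈ MulAction.orbit G a ∨ t ∈ MulAction.orbit G b ∨
      t ∈ MulAction.orbit G c) ∧ c ∉ MulAction.orbit G b

/-- the wild configuration leading to `PSL₂` or `PGL₂` of a subfield -/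
def IsMob.WildPSL : Prop :=
  ∃ x₀ x₁ : X, 3 ≤ M.qq x₀ ∧ nn G x₀ = M.qq x₀ + 1 ∧
    (M.cc x₀ + 1 = M.qq x₀ ∨ 2 * M.cc x₀ + 1 = M.qq x₀) ∧ M.qq x₁ = 1 ∧
    (∀ t ∈ sing G X, t ∈ MulAction.orbit G x₀ ∨ t ∈ MulAction.orbit G x₁)

/-- the wild configuration leading to the alternating group of degree five in characteristic 3 -/
def IsMob.WildA5 : Prop :=
  ∃ x₀ x₁ : X, Nat.card G = 60 ∧ M.qq x₀ = 3 ∧ nn G x₀ = 10 ∧ M.cc x₀ = 2 ∧ M.qq x₁ = 1 ∧
    ee G x₁ = 5 ∧
    (∀ t ∈ sing G X, t ∈ MulAction.orbit G x₀ ∨ t ∈ MulAction.orbit G x₁)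

include M in
theorem IsMob.term_ge [Finite G] (x : X) (hx : x ∈ sing G X) :
    Nat.card G ≤ 2 * (nn G x * ((ee G x - 1) + (M.qq x - 1))) := by
  obtain ⟨-, h2, -, h4, -, -, -⟩ := M.point_facts x hx
  exact MobArith.two_mul_term_ge h2 h4

include M in
theorem IsMob.term_wild_ge [Finite G] (x : X) (hx : x ∈ sing G X) (hq : 2 ≤ M.qq x) :
    Nat.card G ≤ nn G x * ((ee G x - 1) + (M.qq x - 1)) := by
  obtain ⟨-, h2, -, h4, -, -, -⟩ := M.point_facts x hx
  rw [MobArith.term_wild h2 (by omega) hq]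
  exact Nat.le_add_right _ _

include M in
/-- a wild orbit and a tame orbit -/
theorem IsMob.cases_wild_tame [Finite G] (x y : X) (hx : x ∈ sing G X) (hy : y ∈ sing G X)
    (hcov : ∀ t ∈ sing G X, t ∈ MulAction.orbit G x ∨ t ∈ MulAction.orbit G y)
    (hqx : 2 ≤ M.qq x) (hqy : M.qq y = 1)
    (hsum : nn G x * ((ee G x - 1) + (M.qq x - 1)) + nn G y * ((ee G y - 1) + (M.qq y - 1)) =
      2 * (Nat.card G - 1)) :
    (∃ x : X, ∀ g : G, g • x = x) ∨ (∃ x : X, nn G x = 2 ∧ M.qq x = 1) ∨ M.WildPSL ∨ M.WildA5 := by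
  obtain ⟨a1, a2, a3, a4, a5, a6, a7⟩ := M.point_facts x hx
  obtain ⟨b1, b2, b3, b4, b5, b6, b7⟩ := M.point_facts y hy
  rw [MobArith.term_wild a2 (by omega) hqx, hqy, MobArith.term_tame b2] at hsum
  rcases MobArith.wild_tame a1 a2 a3 hqx (a6 hqx) a7 b1 b2 b4 hsum with h | h | h | h
  · left; exact ⟨x, fixes_of_card_orbit x h⟩
  · right; left; exact ⟨y, h.2, hqy⟩
  · right; right; left
    exact ⟨x, y, h.1, h.2.1, h.2.2, hqy, hcov⟩
  · right; right; right
    obtain ⟨h1, h2, h3⟩ := h
    have hg : Nat.card G = 60 := by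
      rw [← a2, a3, h1, h2, h3]
    have hn : nn G y = 12 := by
      rw [h1, h2, hg] at hsum
      have := MobArith.le_of_mul_eq b2 (by omega)
      omega
    have he : ee G y = 5 := by
      rw [hn, hg] at b2
      omega
    exact ⟨x, y, hg, h1, h2, h3, hqy, he, hcov⟩

include M in
/-- the numerical classification -/
theorem IsMob.cases [Finite G] (hG : 2 ≤ Nat.card G) :
    (∃ x : X, ∀ g : G, g • x = x) ∨ (∃ x : X, nn G x = 2 ∧ M.qq x = 1) ∨
      M.Tame3 3 12 ∨ M.Tame3 4 24 ∨ M.Tame3 5 60 ∨ M.WildPSL ∨ M.WildA5 := by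
  obtain ⟨R, hRs, hcov, hind, hsum⟩ := M.class_eq_orbits
  set a : X → ℕ := fun x => nn G x * ((ee G x - 1) + (M.qq x - 1)) with ha
  have hsum' : ∑ x ∈ R, a x = 2 * (Nat.card G - 1) := hsum
  -- at most three orbits
  have hcard : R.card ≤ 3 := by
    have h1 : R.card • Nat.card G ≤ ∑ x ∈ R, 2 * a x :=
      Finset.card_nsmul_le_sum R _ _ (fun x hx => M.term_ge x (hRs x hx))
    rw [← Finset.mul_sum, hsum', smul_eq_mul] at h1
    by_contra hcon
    push Not at hcon
    have : 4 * Nat.card G ≤ R.card * Nat.card G := Nat.mul_le_mul_right _ hcon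
    omega
  have hcard0 : R.card ≠ 0 := by
    intro h0
    rw [Finset.card_eq_zero] at h0
    rw [h0, Finset.sum_empty] at hsum'
    omega
  have hcovR : ∀ {L : X → Prop}, (∀ x ∈ R, L x) → ∀ t ∈ sing G X, ∃ x, L x ∧ t ∈ MulAction.orbit G x := by
    intro L hL t ht
    obtain ⟨x, hx, hxt⟩ := hcov t ht
    exact ⟨x, hL x hx, hxt⟩
  have h123 : R.card = 1 ∨ R.card = 2 ∨ R.card = 3 := by omega
  rcases h123 with h1 | h2 | h3
  · -- one orbit
    obtain ⟨x, rfl⟩ := Finset.card_eq_one.mp h1
    rw [Finset.sum_singleton] at hsum'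
    have hx := hRs x (Finset.mem_singleton_self x)
    obtain ⟨a1, a2, a3, a4, a5, a6, a7⟩ := M.point_facts x hx
    left
    exact ⟨x, fixes_of_card_orbit x (MobArith.one_orbit a1 a2 a3 a4 a5 a6 hsum')⟩
  · -- two orbits
    obtain ⟨x, y, hxy, rfl⟩ := Finset.card_eq_two.mp h2
    rw [Finset.sum_pair hxy] at hsum'
    have hx := hRs x (by simp)
    have hy := hRs y (by simp)
    have hcov2 : ∀ t ∈ sing G X, t ∈ MulAction.orbit G x ∨ t ∈ MulAction.orbit G y := by
      intro t ht
      obtain ⟨z, hz, hzt⟩ := hcov t ht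
      rw [Finset.mem_insert, Finset.mem_singleton] at hz
      rcases hz with rfl | rfl
      · left; exact hzt
      · right; exact hzt
    obtain ⟨a1, a2, a3, a4, a5, a6, a7⟩ := M.point_facts x hx
    obtain ⟨b1, b2, b3, b4, b5, b6, b7⟩ := M.point_facts y hy
    rcases Nat.lt_or_ge (M.qq x) 2 with hqx | hqx <;> rcases Nat.lt_or_ge (M.qq y) 2 with hqy | hqy
    · have hqx1 : M.qq x = 1 := by omega
      have hqy1 : M.qq y = 1 := by omega
      simp only [ha] at hsum'
      rw [hqx1, hqy1, MobArith.term_tame a2, MobArith.term_tame b2] at hsum'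
      left
      exact ⟨x, fixes_of_card_orbit x (MobArith.two_tame a2 a4 a1 b2 b4 b1 hsum').1⟩
    · have hqx1 : M.qq x = 1 := by omega
      have := M.cases_wild_tame y x hy hx (fun t ht => (hcov2 t ht).symm) hqy hqx1
        (by rw [add_comm]; exact hsum')
      rcases this with h | h | h | h
      · left; exact h
      · right; left; exact h
      · right; right; right; right; right; left; exact h
      · right; right; right; right; right; right; exact h
    · have hqy1 : M.qq y = 1 := by omega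
      have := M.cases_wild_tame x y hx hy hcov2 hqx hqy1 hsum'
      rcases this with h | h | h | h
      · left; exact h
      · right; left; exact h
      · right; right; right; right; right; left; exact h
      · right; right; right; right; right; right; exact h
    · exfalso
      have hx' := M.term_wild_ge x hx hqx
      have hy' := M.term_wild_ge y hy hqy
      simp only [ha] at hsum'
      omega
  · -- three orbits
    obtain ⟨x, y, z, hR, hxy, hxz, hyz, hexy, heyz⟩ := sort3 (fun t => ee G t) R h3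
    subst hR
    have hx := hRs x (by simp)
    have hy := hRs y (by simp)
    have hz := hRs z (by simp)
    rw [Finset.sum_insert (by simp [hxy, hxz]), Finset.sum_pair hyz] at hsum'
    have hcov3 : ∀ t ∈ sing G X, t ∈ MulAction.orbit G x ∨ t ∈ MulAction.orbit G y ∨
        t ∈ MulAction.orbit G z := by
      intro t ht
      obtain ⟨w, hw, hwt⟩ := hcov t ht
      simp only [Finset.mem_insert, Finset.mem_singleton] at hw
      rcases hw with rfl | rfl | rfl
      · left; exact hwt
      · right; left; exact hwt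
      · right; right; exact hwt
    have hzy : z ∉ MulAction.orbit G y := by
      intro h
      exact hyz (hind y (by simp) z (by simp) h)
    obtain ⟨a1, a2, a3, a4, a5, a6, a7⟩ := M.point_facts x hx
    obtain ⟨b1, b2, b3, b4, b5, b6, b7⟩ := M.point_facts y hy
    obtain ⟨c1, c2, c3, c4, c5, c6, c7⟩ := M.point_facts z hz
    have tx := M.term_ge x hx
    have ty := M.term_ge y hy
    have tz := M.term_ge z hz
    have hqx1 : M.qq x = 1 := by
      by_contra hne
      have := M.term_wild_ge x hx (by omega)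
      simp only [ha] at hsum'
      omega
    have hqy1 : M.qq y = 1 := by
      by_contra hne
      have := M.term_wild_ge y hy (by omega)
      simp only [ha] at hsum'
      omega
    have hqz1 : M.qq z = 1 := by
      by_contra hne
      have := M.term_wild_ge z hz (by omega)
      simp only [ha] at hsum'
      omega
    simp only [ha] at hsum'
    rw [hqx1, hqy1, hqz1, MobArith.term_tame a2, MobArith.term_tame b2, MobArith.term_tame c2,
      ← add_assoc] at hsum'
    rcases MobArith.three_tame a2 a4 a1 b2 b1 c2 c1 hexy heyz hsum' with h | ⟨h1, h2, h | h | h⟩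
    · right; left; exact ⟨z, h, hqz1⟩
    · right; right; left
      exact ⟨x, y, z, h.2, h1, h2, h.1, hqx1, hqy1, hqz1, hcov3, hzy⟩
    · right; right; right; left
      exact ⟨x, y, z, h.2, h1, h2, h.1, hqx1, hqy1, hqz1, hcov3, hzy⟩
    · right; right; right; right; left
      exact ⟨x, y, z, h.2, h1, h2, h.1, hqx1, hqy1, hqz1, hcov3, hzy⟩

end Cfsg.Agent.Lib.Helper5.Mob
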