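import Mathlib
import Cfsg.Agent.Lib.Helper4.ProjLine
import Cfsg.Agent.Lib.Helper5.MobDef

set_option autoImplicit false

/-! `PGL₂(E)` acting on the projective line satisfies the Möbius axioms when `E` is algebraically
closed of characteristic `p`. -/

namespace Cfsg.Agent.Lib.Helper5.MobPGL

open Matrix Cfsg.Agent.Lib.Helper4 Cfsg.Agent.Lib.Helper5.Mob
open scoped LinearAlgebra.Projectivization MatrixGroups

variable {E : Type*} [Field E]

theorem vec_fin_ne (z : E) : (![z, 1] : Fin 2 → E) ≠ 0 := fun h => by simpa using congrFun h 1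

/-- the point at infinity -/
noncomputable def inf : ℙ E (Fin 2 → E) := Projectivization.mk E ![1, 0] e1_ne

/-- the finite points -/
noncomputable def fin (z : E) : ℙ E (Fin 2 → E) := Projectivization.mk E ![z, 1] (vec_fin_ne z)

theorem fin_ne_inf (z : E) : fin z ≠ (inf : ℙ E (Fin 2 → E)) := by
  unfold fin inf
  rw [Ne, mk_eq_mk_iff_cross]
  simp [cross]

theorem fin_injective : Function.Injective (fin : E → ℙ E (Fin 2 → E)) := by
  intro z w h
  unfold fin at h
  rw [mk_eq_mk_iff_cross] at h
  simp only [cross, Matrix.cons_val_zero, Matrix.cons_val_one, mul_one, one_mul] at h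
  linear_combination h

theorem eq_inf_or_fin (x : ℙ E (Fin 2 → E)) : x = inf ∨ ∃ z, x = fin z := by
  induction x using Projectivization.ind with | _ v hv =>
  by_cases h : v 1 = 0
  · left
    unfold inf
    rw [mk_eq_mk_iff_cross]
    simp [cross, h]
  · right
    refine ⟨v 0 / v 1, ?_⟩
    unfold fin
    rw [mk_eq_mk_iff_cross]
    simp only [cross, Matrix.cons_val_zero, Matrix.cons_val_one, mul_one]
    field_simp
    ring

/-- two elements agreeing on `∞, 0, 1` are equal -/
theorem ext_three (g h : PGL(Fin 2, E)) (hi : g • (inf : ℙ E (Fin 2 → E)) = h • inf)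
    (h0 : g • fin (0 : E) = h • fin 0) (h1 : g • fin (1 : E) = h • fin 1) : g = h := by
  have key := pgl_sharp (h⁻¹ * g) (inf : ℙ E (Fin 2 → E)) (fin 0) (fin 1)
    (fin_ne_inf 0).symm (fin_ne_inf 1).symm
    (fun h => zero_ne_one (fin_injective h))
    (by rw [mul_smul, hi, inv_smul_smul]) (by rw [mul_smul, h0, inv_smul_smul])
    (by rw [mul_smul, h1, inv_smul_smul])
  have : g = h * (h⁻¹ * g) := by group
  rw [this, key, mul_one]

/-- the matrix of `z ↦ l z + b` -/
noncomputable def affGL (l : Eˣ) (b : E) : GL (Fin 2) E :=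
  Matrix.GeneralLinearGroup.mkOfDetNeZero !![(l : E), b; 0, 1] (by simp [Matrix.det_fin_two_of])

/-- the affine map `z ↦ l z + b` -/
noncomputable def aff (l : Eˣ) (b : E) : PGL(Fin 2, E) := Matrix.ProjGenLinGroup.mk (affGL l b)

theorem aff_smul_inf (l : Eˣ) (b : E) : aff l b • (inf : ℙ E (Fin 2 → E)) = inf := by
  unfold aff inf
  rw [Projectivization.PGL.mk_smul_mk, mk_eq_mk_iff_cross]
  have : affGL l b • (![1, 0] : Fin 2 → E) = ![(l : E), 0] := by
    show !![(l : E), b; 0, 1] *ᵥ ![1, 0] = _
    funext i; fin_cases i <;> simp [Matrix.mulVec, dotProduct, Fin.sum_univ_two]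
  rw [this]
  simp [cross]

theorem aff_smul_fin (l : Eˣ) (b z : E) : aff l b • fin z = fin ((l : E) * z + b) := by
  unfold aff fin
  rw [Projectivization.PGL.mk_smul_mk, mk_eq_mk_iff_cross]
  have : affGL l b • (![z, 1] : Fin 2 → E) = ![(l : E) * z + b, 1] := by
    show !![(l : E), b; 0, 1] *ᵥ ![z, 1] = _
    funext i; fin_cases i <;> simp [Matrix.mulVec, dotProduct, Fin.sum_univ_two]
  rw [this]
  simp [cross]

theorem aff_mul (l m : Eˣ) (b c : E) : aff l b * aff m c = aff (l * m) ((l : E) * c + b) := by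
  apply ext_three
  · rw [mul_smul, aff_smul_inf, aff_smul_inf, aff_smul_inf]
  · rw [mul_smul, aff_smul_fin, aff_smul_fin, aff_smul_fin]
    congr 1
    push_cast
    ring
  · rw [mul_smul, aff_smul_fin, aff_smul_fin, aff_smul_fin]
    congr 1
    push_cast
    ring

theorem aff_one : aff (1 : Eˣ) (0 : E) = 1 := by
  apply ext_three
  · rw [aff_smul_inf, one_smul]
  · rw [aff_smul_fin, one_smul]; congr 1; simp
  · rw [aff_smul_fin, one_smul]; congr 1; simp

theorem aff_inj {l m : Eˣ} {b c : E} (h : aff l b = aff m c) : l = m ∧ b = c := by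
  have h0 := congrArg (fun g : PGL(Fin 2, E) => g • fin (0 : E)) h
  have h1 := congrArg (fun g : PGL(Fin 2, E) => g • fin (1 : E)) h
  simp only [aff_smul_fin, mul_zero, zero_add, mul_one] at h0 h1
  have hb : b = c := fin_injective h0
  have hl : (l : E) + b = (m : E) + c := fin_injective h1
  refine ⟨Units.ext ?_, hb⟩
  rw [hb] at hl
  exact add_right_cancel hl

/-- elements fixing `∞` are affine -/
theorem exists_aff_of_fix (g : PGL(Fin 2, E)) (hg : g • (inf : ℙ E (Fin 2 → E)) = inf) :
    ∃ (l : Eˣ) (b : E), g = aff l b := by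
  have hne : ∀ z : E, g • fin z ≠ inf := by
    intro z h
    rw [← hg] at h
    exact fin_ne_inf z (MulAction.injective g h)
  obtain ⟨b, hb⟩ : ∃ b, g • fin (0 : E) = fin b := by
    rcases eq_inf_or_fin (g • fin (0 : E)) with h | h
    · exact absurd h (hne 0)
    · exact h
  obtain ⟨c, hc⟩ : ∃ c, g • fin (1 : E) = fin c := by
    rcases eq_inf_or_fin (g • fin (1 : E)) with h | h
    · exact absurd h (hne 1)
    · exact h
  have hcb : c - b ≠ 0 := by
    intro h
    have : c = b := sub_eq_zero.mp h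
    rw [this, ← hb] at hc
    exact one_ne_zero (fin_injective (MulAction.injective g hc))
  refine ⟨Units.mk0 (c - b) hcb, b, ?_⟩
  apply ext_three
  · rw [hg, aff_smul_inf]
  · rw [hb, aff_smul_fin]; congr 1; simp
  · rw [hc, aff_smul_fin]; congr 1; simp

/-- the multiplier of an element fixing `∞` -/
noncomputable def lamOf (g : MulAction.stabilizer PGL(Fin 2, E) (inf : ℙ E (Fin 2 → E))) : Eˣ :=
  Classical.choose (exists_aff_of_fix g.1 g.2)

/-- the translation part of an element fixing `∞` -/
noncomputable def trOf (g : MulAction.stabilizer PGL(Fin 2, E) (inf : ℙ E (Fin 2 → E))) : E :=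
  Classical.choose (Classical.choose_spec (exists_aff_of_fix g.1 g.2))

theorem eq_aff (g : MulAction.stabilizer PGL(Fin 2, E) (inf : ℙ E (Fin 2 → E))) :
    (g : PGL(Fin 2, E)) = aff (lamOf g) (trOf g) :=
  Classical.choose_spec (Classical.choose_spec (exists_aff_of_fix g.1 g.2))

/-- the multiplier character on the stabiliser of `∞` -/
noncomputable def chiInf : MulAction.stabilizer PGL(Fin 2, E) (inf : ℙ E (Fin 2 → E)) →* Eˣ where
  toFun := lamOf
  map_one' := by
    have h := eq_aff (1 : MulAction.stabilizer PGL(Fin 2, E) (inf : ℙ E (Fin 2 → E)))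
    rw [Subgroup.coe_one, ← aff_one] at h
    exact (aff_inj h).1.symm
  map_mul' g h := by
    have h1 := eq_aff (g * h)
    rw [Subgroup.coe_mul, eq_aff g, eq_aff h, aff_mul] at h1
    exact (aff_inj h1).1.symm

theorem chiInf_apply (g : MulAction.stabilizer PGL(Fin 2, E) (inf : ℙ E (Fin 2 → E))) :
    chiInf g = lamOf g := rfl

theorem aff_one_pow (b : E) (n : ℕ) : aff (1 : Eˣ) b ^ n = aff 1 ((n : E) * b) := by
  induction n with
  | zero => simp [aff_one]
  | succ n ih =>
    rw [pow_succ, ih, aff_mul]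
    congr 1
    · simp
    · push_cast; ring

theorem chiInf_eq_one_iff (g : MulAction.stabilizer PGL(Fin 2, E) (inf : ℙ E (Fin 2 → E))) :
    chiInf g = 1 ↔ (g = 1 ∨ OnlyFix (g : PGL(Fin 2, E)) (inf : ℙ E (Fin 2 → E))) := by
  rw [chiInf_apply]
  constructor
  · intro hl
    by_cases hb : trOf g = 0
    · left
      apply Subtype.ext
      rw [eq_aff g, hl, hb, aff_one]
      rfl
    · right
      refine ⟨g.2, fun y hy => ?_⟩
      rcases eq_inf_or_fin y with h | ⟨z, rfl⟩
      · exact h
      · exfalso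
        rw [eq_aff g, hl, aff_smul_fin] at hy
        have := fin_injective hy
        apply hb
        simpa using this
  · rintro (h | h)
    · rw [h]
      have h1 := eq_aff (1 : MulAction.stabilizer PGL(Fin 2, E) (inf : ℙ E (Fin 2 → E)))
      rw [Subgroup.coe_one, ← aff_one] at h1
      exact (aff_inj h1).1.symm
    · by_contra hl
      have hl' : (1 : E) - (lamOf g : E) ≠ 0 := by
        intro h0
        apply hl
        apply Units.ext
        rw [Units.val_one]
        exact (sub_eq_zero.mp h0).symm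
      have hfix : (g : PGL(Fin 2, E)) • fin (trOf g / (1 - (lamOf g : E))) =
          fin (trOf g / (1 - (lamOf g : E))) := by
        rw [eq_aff g, aff_smul_fin]
        congr 1
        field_simp
        ring
      exact fin_ne_inf _ (h.2 _ hfix)

theorem pow_char_of_chiInf (p : ℕ) [CharP E p]
    (g : MulAction.stabilizer PGL(Fin 2, E) (inf : ℙ E (Fin 2 → E))) (h : chiInf g = 1) :
    g ^ p = 1 := by
  apply Subtype.ext
  rw [Subgroup.coe_pow, eq_aff g, ← chiInf_apply, h, aff_one_pow, CharP.cast_eq_zero, zero_mul, aff_one]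
  rfl

/-- the inversion `z ↦ 1 / z` -/
noncomputable def wGL : GL (Fin 2) E :=
  Matrix.GeneralLinearGroup.mkOfDetNeZero !![0, 1; 1, 0] (by simp [Matrix.det_fin_two_of])

noncomputable def wInv : PGL(Fin 2, E) := Matrix.ProjGenLinGroup.mk wGL

theorem wInv_smul_inf : (wInv : PGL(Fin 2, E)) • (inf : ℙ E (Fin 2 → E)) = fin (0 : E) := by
  unfold wInv inf fin
  rw [Projectivization.PGL.mk_smul_mk, mk_eq_mk_iff_cross]
  have : (wGL : GL (Fin 2) E) • (![1, 0] : Fin 2 → E) = ![0, 1] := by
    show !![(0 : E), 1; 1, 0] *ᵥ ![1, 0] = _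
    funext i; fin_cases i <;> simp [Matrix.mulVec, dotProduct, Fin.sum_univ_two]
  rw [this]
  simp [cross]

theorem exists_smul_inf_eq (x : ℙ E (Fin 2 → E)) : ∃ γ : PGL(Fin 2, E), γ • (inf : ℙ E (Fin 2 → E)) = x := by
  rcases eq_inf_or_fin x with rfl | ⟨z, rfl⟩
  · exact ⟨1, one_smul _ _⟩
  · refine ⟨aff 1 z * wInv, ?_⟩
    rw [mul_smul, wInv_smul_inf, aff_smul_fin]
    congr 1
    simp

theorem exists_fix [IsAlgClosed E] (g : PGL(Fin 2, E)) : ∃ x : ℙ E (Fin 2 → E), g • x = x := by
  induction g using Matrix.ProjGenLinGroup.induction_on with | mk A =>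
  obtain ⟨c, hc⟩ := Module.End.exists_eigenvalue (Matrix.toLin' (A : Matrix (Fin 2) (Fin 2) E))
  obtain ⟨v, hv⟩ := hc.exists_hasEigenvector
  have hv0 : v ≠ 0 := hv.2
  have hAv : (A : Matrix (Fin 2) (Fin 2) E) *ᵥ v = c • v := by
    have := hv.apply_eq_smul
    rwa [Matrix.toLin'_apply] at this
  refine ⟨Projectivization.mk E v hv0, ?_⟩
  rw [Projectivization.PGL.mk_smul_mk, Projectivization.mk_eq_mk_iff']
  exact ⟨c, hAv.symm⟩

theorem onlyFix_conj (γ g : PGL(Fin 2, E)) (x : ℙ E (Fin 2 → E)) :
    OnlyFix (γ⁻¹ * g * γ) x ↔ OnlyFix g (γ • x) := by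
  unfold OnlyFix
  constructor
  · rintro ⟨h1, h2⟩
    refine ⟨?_, fun y hy => ?_⟩
    · have := congrArg (fun z => γ • z) h1
      simp only [mul_smul, smul_inv_smul] at this
      exact this
    · have := h2 (γ⁻¹ • y) (by rw [mul_smul, mul_smul, smul_inv_smul, hy])
      rw [← this, smul_inv_smul]
  · rintro ⟨h1, h2⟩
    refine ⟨by rw [mul_smul, mul_smul, h1, inv_smul_smul], fun y hy => ?_⟩
    have := h2 (γ • y) (by
      have := congrArg (fun z => γ • z) hy
      simp only [mul_smul, smul_inv_smul] at this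
      exact this)
    exact MulAction.injective γ this

/-- `PGL₂(E)` on the projective line is a Möbius-like action -/
theorem isMob [IsAlgClosed E] (p : ℕ) [hp : Fact p.Prime] [CharP E p] :
    IsMob PGL(Fin 2, E) (ℙ E (Fin 2 → E)) Eˣ p where
  sharp := pgl_sharp
  exists_fix := exists_fix
  three := ⟨inf, fin 0, fin 1, (fin_ne_inf 0).symm, (fin_ne_inf 1).symm,
    fun h => zero_ne_one (fin_injective h)⟩
  exists_chi := by
    intro x
    obtain ⟨γ, hγ⟩ := exists_smul_inf_eq x
    let e := MulAction.stabilizerEquivStabilizer (G := PGL(Fin 2, E)) (g := γ)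
      (a := (inf : ℙ E (Fin 2 → E))) (b := x) hγ.symm
    have he : ∀ g : MulAction.stabilizer PGL(Fin 2, E) x,
        ((e.symm g : MulAction.stabilizer PGL(Fin 2, E) (inf : ℙ E (Fin 2 → E))) : PGL(Fin 2, E)) =
          γ⁻¹ * (g : PGL(Fin 2, E)) * γ := by
      intro g
      rw [MulAction.stabilizerEquivStabilizer_symm_apply]
      simp
    refine ⟨chiInf.comp e.symm.toMonoidHom, ?_, ?_⟩
    · intro g
      show chiInf (e.symm g) = 1 ↔ _
      rw [chiInf_eq_one_iff, he, onlyFix_conj, hγ]
      constructor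
      · rintro (h | h)
        · left
          have := congrArg e h
          simpa using this
        · right; exact h
      · rintro (h | h)
        · left
          rw [h]; simp
        · right; exact h
    · intro g hg
      have h1 : chiInf (e.symm g) = 1 := hg
      have h2 := pow_char_of_chiInf p (e.symm g) h1
      have h3 := congrArg e h2
      simpa using h3
  cyc := fun S _ => isCyclic_subgroup_units S
  tors := by
    intro a ha
    have h1 : ((a : E) - 1) ^ p = 0 := by
      rw [sub_pow_char, one_pow, ← Units.val_pow_eq_pow_val, ha, Units.val_one, sub_self]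
    have h2 : (a : E) - 1 = 0 := pow_eq_zero_iff hp.out.ne_zero |>.mp h1
    exact Units.ext (sub_eq_zero.mp h2)

end Cfsg.Agent.Lib.Helper5.MobPGL
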