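import Mathlib
import Cfsg.Agent.Lib.Helper5.MobPGL
import Cfsg.Agent.Lib.Helper5.MobNum

set_option autoImplicit false

/-! The wild configuration in coordinates, part 1: the translation group and the multiplier
group of a finite subgroup of `PGL₂(E)`. -/

namespace Cfsg.Agent.Lib.Helper5.MobWild

open Matrix Cfsg.Agent.Lib.Helper4 Cfsg.Agent.Lib.Helper5.Mob Cfsg.Agent.Lib.Helper5.MobPGL
open scoped LinearAlgebra.Projectivization MatrixGroups

variable {E : Type*} [Field E]

theorem aff_inv (l : Eˣ) (b : E) : (aff l b)⁻¹ = aff l⁻¹ (-((l⁻¹ : Eˣ) : E) * b) := by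
  rw [inv_eq_iff_mul_eq_one, aff_mul, ← aff_one]
  congr 1
  · simp
  · have : (l : E) * ((l⁻¹ : Eˣ) : E) = 1 := by rw [← Units.val_mul, mul_inv_cancel, Units.val_one]
    linear_combination (-b) * this

theorem aff_one_add (a b : E) : aff (1 : Eˣ) (a + b) = aff 1 a * aff 1 b := by
  rw [aff_mul]
  congr 1
  · simp
  · simp [add_comm]

theorem aff_one_neg (a : E) : aff (1 : Eˣ) (-a) = (aff 1 a)⁻¹ := by
  rw [aff_inv]
  congr 1 <;> simp

/-- the multiplier of an affine element -/
theorem chiInf_aff (l : Eˣ) (b : E) :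
    chiInf (⟨aff l b, aff_smul_inf l b⟩ :
      MulAction.stabilizer PGL(Fin 2, E) (inf : ℙ E (Fin 2 → E))) = l := by
  have h := eq_aff (⟨aff l b, aff_smul_inf l b⟩ :
      MulAction.stabilizer PGL(Fin 2, E) (inf : ℙ E (Fin 2 → E)))
  exact (aff_inj h).1.symm

theorem aff_unipotent_iff (l : Eˣ) (b : E) :
    (aff l b = 1 ∨ OnlyFix (aff l b) (inf : ℙ E (Fin 2 → E))) ↔ l = 1 := by
  have key := chiInf_eq_one_iff (⟨aff l b, aff_smul_inf l b⟩ :
      MulAction.stabilizer PGL(Fin 2, E) (inf : ℙ E (Fin 2 → E)))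
  rw [chiInf_aff] at key
  rw [key]
  constructor
  · rintro (h | h)
    · left; exact Subtype.ext h
    · right; exact h
  · rintro (h | h)
    · left; exact congrArg Subtype.val h
    · right; exact h

variable (G : Subgroup PGL(Fin 2, E))

/-- the translations in `G` -/
def trA : AddSubgroup E where
  carrier := {a | aff 1 a ∈ G}
  zero_mem' := by
    show aff 1 0 ∈ G
    rw [aff_one]; exact G.one_mem
  add_mem' := by
    intro a b ha hb
    show aff 1 (a + b) ∈ G
    rw [aff_one_add]
    exact G.mul_mem ha hb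
  neg_mem' := by
    intro a ha
    show aff 1 (-a) ∈ G
    rw [aff_one_neg]
    exact G.inv_mem ha

theorem mem_trA (a : E) : a ∈ trA G ↔ aff 1 a ∈ G := Iff.rfl

/-- the multipliers in `G` -/
def mulC : Subgroup Eˣ where
  carrier := {l | aff l 0 ∈ G}
  one_mem' := by
    show aff 1 0 ∈ G
    rw [aff_one]; exact G.one_mem
  mul_mem' := by
    intro l m hl hm
    show aff (l * m) 0 ∈ G
    have := G.mul_mem hl hm
    rw [aff_mul] at this
    simpa using this
  inv_mem' := by
    intro l hl
    show aff l⁻¹ 0 ∈ G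
    have := G.inv_mem hl
    rw [aff_inv] at this
    simpa using this

theorem mem_mulC (l : Eˣ) : l ∈ mulC G ↔ aff l 0 ∈ G := Iff.rfl

theorem aff_mem_of_mem {l : Eˣ} {a : E} (hl : l ∈ mulC G) (ha : a ∈ trA G) : aff l a ∈ G := by
  have := G.mul_mem ha hl
  rw [aff_mul] at this
  simpa using this

instance finite_trA [Finite G] : Finite (trA G) := by
  let f : trA G → G := fun a => ⟨aff 1 a.1, a.2⟩
  apply Finite.of_injective f
  intro a b hab
  apply Subtype.ext
  exact (aff_inj (congrArg Subtype.val hab)).2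

instance finite_mulC [Finite G] : Finite (mulC G) := by
  let f : mulC G → G := fun l => ⟨aff l.1 0, l.2⟩
  apply Finite.of_injective f
  intro a b hab
  apply Subtype.ext
  exact (aff_inj (congrArg Subtype.val hab)).1

variable [IsAlgClosed E] (p : ℕ) [Fact p.Prime] [CharP E p]

/-- the Möbius structure on a subgroup -/
theorem subMob : IsMob G (ℙ E (Fin 2 → E)) Eˣ p := (isMob (E := E) p).subgroup G

/-- the unipotent part of the stabiliser of `∞` is the translation group -/
theorem card_trA :
    Nat.card (trA G) = (subMob G p).qq (inf : ℙ E (Fin 2 → E)) := by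
  set M := subMob G p
  have hmem : ∀ a : trA G, (⟨aff 1 a.1, a.2⟩ : G) ∈ M.Q (inf : ℙ E (Fin 2 → E)) := by
    intro a
    rw [M.mem_Q]
    rcases (aff_unipotent_iff (1 : Eˣ) a.1).mpr rfl with h | h
    · left; exact Subtype.ext h
    · right; exact h
  let f : trA G → M.Q (inf : ℙ E (Fin 2 → E)) := fun a => ⟨⟨aff 1 a.1, a.2⟩, hmem a⟩
  apply Nat.card_congr (Equiv.ofBijective f ⟨?_, ?_⟩)
  · intro a b hab
    apply Subtype.ext
    have : aff (1 : Eˣ) a.1 = aff 1 b.1 := congrArg (fun z => ((z : M.Q _) : G).1) hab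
    exact (aff_inj this).2
  · rintro ⟨⟨g, hgG⟩, hgQ⟩
    rw [M.mem_Q] at hgQ
    have hfix : g • (inf : ℙ E (Fin 2 → E)) = inf := by
      rcases hgQ with h | h
      · have : g = 1 := congrArg Subtype.val h
        rw [this, one_smul]
      · exact h.1
    obtain ⟨l, b, rfl⟩ := exists_aff_of_fix g hfix
    have hl : l = 1 := by
      rw [← aff_unipotent_iff l b]
      rcases hgQ with h | h
      · left; exact congrArg Subtype.val h
      · right; exact h
    subst hl
    exact ⟨⟨b, hgG⟩, rfl⟩

end Cfsg.Agent.Lib.Helper5.MobWild
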