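import Mathlib
import Cfsg.Agent.Lib.Helper5.MobWild1

set_option autoImplicit false

/-! The wild configuration in coordinates, part 2: the translation group is a subfield. -/

namespace Cfsg.Agent.Lib.Helper5.MobWild

open Matrix Cfsg.Agent.Lib.Helper4 Cfsg.Agent.Lib.Helper5.Mob Cfsg.Agent.Lib.Helper5.MobPGL
open scoped LinearAlgebra.Projectivization MatrixGroups

variable {E : Type*} [Field E] [IsAlgClosed E] (G : Subgroup PGL(Fin 2, E)) (p : ℕ) [Fact p.Prime]
  [CharP E p]

/-- the hypotheses of the wild configuration, in coordinates -/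
structure WildHyp : Prop where
  hq : 3 ≤ (subMob G p).qq (inf : ℙ E (Fin 2 → E))
  hn : nn G (inf : ℙ E (Fin 2 → E)) = (subMob G p).qq (inf : ℙ E (Fin 2 → E)) + 1
  hc : (subMob G p).cc (inf : ℙ E (Fin 2 → E)) + 1 = (subMob G p).qq (inf : ℙ E (Fin 2 → E)) ∨
    2 * (subMob G p).cc (inf : ℙ E (Fin 2 → E)) + 1 = (subMob G p).qq (inf : ℙ E (Fin 2 → E))
  h0 : fin (0 : E) ∈ MulAction.orbit G (inf : ℙ E (Fin 2 → E))
  h1 : fin (1 : E) ∈ MulAction.orbit G (inf : ℙ E (Fin 2 → E))

variable {G p}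

omit [IsAlgClosed E] in
theorem smul_def' (g : G) (x : ℙ E (Fin 2 → E)) : g • x = (g : PGL(Fin 2, E)) • x := rfl

theorem WildHyp.orbit_eq [Finite G] (h : WildHyp G p) :
    MulAction.orbit G (inf : ℙ E (Fin 2 → E)) = insert inf (fin '' (trA G : Set E)) := by
  have hfin : (MulAction.orbit G (inf : ℙ E (Fin 2 → E))).Finite := Set.finite_range _
  have hAfin : (trA G : Set E).Finite := by
    have : Finite (trA G) := inferInstance
    exact Set.toFinite (trA G : Set E)
  symm
  apply Set.eq_of_subset_of_ncard_le _ _ hfin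
  · intro y hy
    rcases hy with rfl | ⟨a, ha, rfl⟩
    · exact MulAction.mem_orbit_self _
    · obtain ⟨g₀, hg₀⟩ := h.h0
      refine ⟨⟨aff 1 a, ha⟩ * g₀, ?_⟩
      show (⟨aff 1 a, ha⟩ * g₀ : G) • (inf : ℙ E (Fin 2 → E)) = fin a
      rw [mul_smul]
      have : g₀ • (inf : ℙ E (Fin 2 → E)) = fin 0 := hg₀
      rw [this, smul_def', aff_smul_fin]
      congr 1
      simp
  · have h1 : (MulAction.orbit G (inf : ℙ E (Fin 2 → E))).ncard =
        (subMob G p).qq (inf : ℙ E (Fin 2 → E)) + 1 := by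
      rw [← h.hn]
      exact (Nat.card_coe_set_eq _).symm
    rw [h1, Set.ncard_insert_of_notMem _ (hAfin.image _), Set.ncard_image_of_injective _ MobPGL.fin_injective,
      ← card_trA G p]
    · exact le_of_eq (by rw [← Nat.card_coe_set_eq]; rfl)
    · rintro ⟨a, -, ha⟩
      exact fin_ne_inf a ha

theorem WildHyp.mem_orbit_cases [Finite G] (h : WildHyp G p) {y : ℙ E (Fin 2 → E)}
    (hy : y ∈ MulAction.orbit G (inf : ℙ E (Fin 2 → E))) : y = inf ∨ ∃ a ∈ trA G, y = fin a := by
  rw [h.orbit_eq] at hy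
  rcases hy with rfl | ⟨a, ha, rfl⟩
  · left; rfl
  · right; exact ⟨a, ha, rfl⟩

theorem WildHyp.fin_mem_orbit [Finite G] (h : WildHyp G p) {a : E} (ha : a ∈ trA G) :
    fin a ∈ MulAction.orbit G (inf : ℙ E (Fin 2 → E)) := by
  rw [h.orbit_eq]
  right
  exact ⟨a, ha, rfl⟩

theorem WildHyp.mem_trA_of_fin_mem [Finite G] (h : WildHyp G p) {a : E}
    (ha : fin a ∈ MulAction.orbit G (inf : ℙ E (Fin 2 → E))) : a ∈ trA G := by
  rcases h.mem_orbit_cases ha with h1 | ⟨b, hb, h1⟩
  · exact absurd h1 (fin_ne_inf a)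
  · rw [fin_injective h1]; exact hb

omit [IsAlgClosed E] in
theorem smul_mem_orbit {g : PGL(Fin 2, E)} (hg : g ∈ G) {y x : ℙ E (Fin 2 → E)}
    (hy : y ∈ MulAction.orbit G x) : g • y ∈ MulAction.orbit G x := by
  obtain ⟨k, rfl⟩ := hy
  exact ⟨⟨g, hg⟩ * k, by
    show (⟨g, hg⟩ * k : G) • x = g • (k • x)
    rw [mul_smul]; rfl⟩

theorem WildHyp.one_mem [Finite G] (h : WildHyp G p) : (1 : E) ∈ trA G :=
  h.mem_trA_of_fin_mem h.h1

theorem WildHyp.of_aff_mem [Finite G] (h : WildHyp G p) {l : Eˣ} {b : E} (hg : aff l b ∈ G) :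
    b ∈ trA G ∧ l ∈ mulC G := by
  have hb : b ∈ trA G := by
    apply h.mem_trA_of_fin_mem
    have := smul_mem_orbit hg h.h0
    rw [aff_smul_fin] at this
    simpa using this
  refine ⟨hb, ?_⟩
  have h2 : aff 1 (-b) ∈ G := (trA G).neg_mem hb
  have := G.mul_mem h2 hg
  rw [aff_mul] at this
  show aff l 0 ∈ G
  simpa using this

theorem WildHyp.mul_mem_of_mulC [Finite G] (h : WildHyp G p) {l : Eˣ} (hl : l ∈ mulC G) {a : E}
    (ha : a ∈ trA G) : (l : E) * a ∈ trA G := by
  apply h.mem_trA_of_fin_mem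
  have := smul_mem_orbit hl (h.fin_mem_orbit ha)
  rw [aff_smul_fin] at this
  simpa using this

/-- the stabiliser of `∞` is the semidirect product of translations and multipliers -/
theorem WildHyp.card_stabilizer [Finite G] (h : WildHyp G p) :
    ee G (inf : ℙ E (Fin 2 → E)) = Nat.card (trA G) * Nat.card (mulC G) := by
  rw [← Nat.card_prod]
  symm
  let f : trA G × mulC G → MulAction.stabilizer G (inf : ℙ E (Fin 2 → E)) := fun x =>
    ⟨⟨aff x.2.1 x.1.1, aff_mem_of_mem G x.2.2 x.1.2⟩, by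
      rw [MulAction.mem_stabilizer_iff]
      exact aff_smul_inf _ _⟩
  apply Nat.card_congr (Equiv.ofBijective f ⟨?_, ?_⟩)
  · rintro ⟨a, l⟩ ⟨b, m⟩ hab
    have : aff l.1 a.1 = aff m.1 b.1 :=
      congrArg (fun z => ((z : MulAction.stabilizer G _) : G).1) hab
    obtain ⟨h1, h2⟩ := aff_inj this
    exact Prod.ext (Subtype.ext h2) (Subtype.ext h1)
  · rintro ⟨⟨g, hgG⟩, hg⟩
    rw [MulAction.mem_stabilizer_iff] at hg
    obtain ⟨l, b, rfl⟩ := exists_aff_of_fix g hg
    obtain ⟨hb, hl⟩ := h.of_aff_mem hgG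
    exact ⟨⟨⟨b, hb⟩, ⟨l, hl⟩⟩, rfl⟩

theorem WildHyp.card_mulC [Finite G] (h : WildHyp G p) :
    Nat.card (mulC G) = (subMob G p).cc (inf : ℙ E (Fin 2 → E)) := by
  have h1 := h.card_stabilizer
  have h2 := (subMob G p).card_stabilizer (inf : ℙ E (Fin 2 → E))
  have h3 : ee G (inf : ℙ E (Fin 2 → E)) =
      Nat.card (MulAction.stabilizer G (inf : ℙ E (Fin 2 → E))) := rfl
  rw [h3, h2, card_trA G p] at h1
  have hpos : 0 < Nat.card ((subMob G p).Q (inf : ℙ E (Fin 2 → E))) := Nat.card_pos
  exact (Nat.eq_of_mul_eq_mul_left hpos h1).symm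

/-- the multiplier ring of the translation group -/
def mulR (G : Subgroup PGL(Fin 2, E)) : AddSubgroup E where
  carrier := {r | ∀ a ∈ trA G, r * a ∈ trA G}
  zero_mem' := by
    intro a _
    rw [zero_mul]; exact (trA G).zero_mem
  add_mem' := by
    intro r s hr hs a ha
    rw [add_mul]
    exact (trA G).add_mem (hr a ha) (hs a ha)
  neg_mem' := by
    intro r hr a ha
    rw [neg_mul]
    exact (trA G).neg_mem (hr a ha)

theorem WildHyp.mulR_le [Finite G] (h : WildHyp G p) : mulR G ≤ trA G := by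
  intro r hr
  have := hr 1 h.one_mem
  rwa [mul_one] at this

theorem WildHyp.mulR_eq [Finite G] (h : WildHyp G p) : mulR G = trA G := by
  have hle := h.mulR_le
  have : Finite (mulR G) := Finite.of_injective (fun r => (⟨r.1, hle r.2⟩ : trA G))
    (fun a b hab => Subtype.ext (congrArg (fun z : trA G => (z : E)) hab))
  -- lower bound
  have hlow : Nat.card (mulC G) + 1 ≤ Nat.card (mulR G) := by
    let f : Option (mulC G) → mulR G := fun o =>
      match o with
      | none => ⟨0, (mulR G).zero_mem⟩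
      | some l => ⟨(l.1 : E), fun a ha => h.mul_mem_of_mulC l.2 ha⟩
    have hf : Function.Injective f := by
      intro a b hab
      match a, b with
      | none, none => rfl
      | none, some l =>
        exfalso
        have : (0 : E) = (l.1 : E) := congrArg Subtype.val hab
        exact l.1.ne_zero this.symm
      | some l, none =>
        exfalso
        have : (l.1 : E) = 0 := congrArg Subtype.val hab
        exact l.1.ne_zero this
      | some l, some m =>
        have : (l.1 : E) = (m.1 : E) := congrArg Subtype.val hab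
        rw [Subtype.ext (Units.ext this)]
    have := Nat.card_le_card_of_injective f hf
    rwa [Finite.card_option] at this
  have hdvd : Nat.card (mulR G) ∣ Nat.card (trA G) := AddSubgroup.card_dvd_of_le hle
  have hA : 2 * (Nat.card (mulC G) + 1) > Nat.card (trA G) := by
    rw [h.card_mulC, card_trA G p]
    rcases h.hc with h1 | h1 <;> omega
  have hApos : 0 < Nat.card (trA G) := Nat.card_pos
  obtain ⟨k, hk⟩ := hdvd
  have hk1 : k = 1 := by
    rcases Nat.lt_or_ge k 2 with h2 | h2
    · interval_cases k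
      · omega
      · rfl
    · exfalso
      have : 2 * Nat.card (mulR G) ≤ Nat.card (mulR G) * k := by
        rw [mul_comm]; exact Nat.mul_le_mul_left _ h2
      omega
  rw [hk1, mul_one] at hk
  exact AddSubgroup.eq_of_le_of_card_ge hle (le_of_eq hk)

theorem WildHyp.mul_mem [Finite G] (h : WildHyp G p) {a b : E} (ha : a ∈ trA G) (hb : b ∈ trA G) :
    a * b ∈ trA G := by
  have : a ∈ mulR G := by rw [h.mulR_eq]; exact ha
  exact this b hb

theorem WildHyp.inv_mem [Finite G] (h : WildHyp G p) {a : E} (ha : a ∈ trA G) : a⁻¹ ∈ trA G := by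
  by_cases ha0 : a = 0
  · rw [ha0, _root_.inv_zero]; exact (trA G).zero_mem
  let f : trA G → trA G := fun x => ⟨a * x.1, h.mul_mem ha x.2⟩
  have hf : Function.Injective f := by
    intro x y hxy
    apply Subtype.ext
    have : a * x.1 = a * y.1 := congrArg Subtype.val hxy
    exact mul_left_cancel₀ ha0 this
  obtain ⟨x, hx⟩ := (Finite.injective_iff_surjective.mp hf) ⟨1, h.one_mem⟩
  have : a * x.1 = 1 := congrArg Subtype.val hx
  rw [← eq_inv_of_mul_eq_one_right this]
  exact x.2

/-- the translation group is a subfield -/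
def WildHyp.field [Finite G] (h : WildHyp G p) : Subfield E where
  carrier := trA G
  mul_mem' := fun ha hb => h.mul_mem ha hb
  one_mem' := h.one_mem
  add_mem' := fun ha hb => (trA G).add_mem ha hb
  zero_mem' := (trA G).zero_mem
  neg_mem' := fun ha => (trA G).neg_mem ha
  inv_mem' := fun _ ha => h.inv_mem ha

theorem WildHyp.mem_field [Finite G] (h : WildHyp G p) (a : E) : a ∈ h.field ↔ aff 1 a ∈ G :=
  Iff.rfl

end Cfsg.Agent.Lib.Helper5.MobWild
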