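import Mathlib
import Cfsg.Agent.Lib.Helper5.MobWild2
import Cfsg.Agent.Lib.Helper1.SL2Q8c

set_option autoImplicit false

/-! The wild configuration in coordinates, part 3: the group contains the image of `SL₂` of the
translation field. -/

namespace Cfsg.Agent.Lib.Helper5.MobWild

open Matrix Cfsg.Agent.Lib.Helper4 Cfsg.Agent.Lib.Helper5.Mob Cfsg.Agent.Lib.Helper5.MobPGL
open Cfsg.Agent.Lib.Helper1.SL2Three
open scoped LinearAlgebra.Projectivization MatrixGroups

section basic

variable {E : Type*} [Field E]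

/-- the matrix of `z ↦ m / z` -/
noncomputable def swapGL (m : Eˣ) : GL (Fin 2) E :=
  Matrix.GeneralLinearGroup.mkOfDetNeZero !![0, (m : E); 1, 0] (by simp [Matrix.det_fin_two_of])

/-- the map `z ↦ m / z` -/
noncomputable def swapM (m : Eˣ) : PGL(Fin 2, E) := Matrix.ProjGenLinGroup.mk (swapGL m)

/-- the matrix of `z ↦ z / (b z + 1)` -/
noncomputable def lowGL (b : E) : GL (Fin 2) E :=
  Matrix.GeneralLinearGroup.mkOfDetNeZero !![1, 0; b, 1] (by simp [Matrix.det_fin_two_of])

/-- the map `z ↦ z / (b z + 1)` -/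
noncomputable def low (b : E) : PGL(Fin 2, E) := Matrix.ProjGenLinGroup.mk (lowGL b)

theorem swapM_smul_inf (m : Eˣ) : swapM m • (inf : ℙ E (Fin 2 → E)) = fin 0 := by
  unfold swapM inf fin
  rw [Projectivization.PGL.mk_smul_mk, mk_eq_mk_iff_cross]
  have : swapGL m • (![1, 0] : Fin 2 → E) = ![0, 1] := by
    show !![0, (m : E); 1, 0] *ᵥ ![1, 0] = _
    funext i; fin_cases i <;> simp [Matrix.mulVec, dotProduct, Fin.sum_univ_two]
  rw [this]
  simp [cross]

theorem swapM_smul_zero (m : Eˣ) : swapM m • (fin 0 : ℙ E (Fin 2 → E)) = inf := by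
  unfold swapM inf fin
  rw [Projectivization.PGL.mk_smul_mk, mk_eq_mk_iff_cross]
  have : swapGL m • (![0, 1] : Fin 2 → E) = ![(m : E), 0] := by
    show !![0, (m : E); 1, 0] *ᵥ ![0, 1] = _
    funext i; fin_cases i <;> simp [Matrix.mulVec, dotProduct, Fin.sum_univ_two]
  rw [this]
  simp [cross]

theorem swapM_smul_one (m : Eˣ) : swapM m • (fin 1 : ℙ E (Fin 2 → E)) = fin (m : E) := by
  unfold swapM fin
  rw [Projectivization.PGL.mk_smul_mk, mk_eq_mk_iff_cross]
  have : swapGL m • (![1, 1] : Fin 2 → E) = ![(m : E), 1] := by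
    show !![0, (m : E); 1, 0] *ᵥ ![1, 1] = _
    funext i; fin_cases i <;> simp [Matrix.mulVec, dotProduct, Fin.sum_univ_two]
  rw [this]
  simp [cross]

theorem swap_mul_aff (m : Eˣ) (a : E) : swapM m * aff 1 a = low (a / m) * swapM m := by
  unfold swapM aff low
  rw [← map_mul, ← map_mul]
  congr 1
  apply Units.ext
  ext i j
  fin_cases i <;> fin_cases j <;> simp [affGL, swapGL, lowGL, Matrix.mul_apply, Fin.sum_univ_two]

theorem swap_conj (m : Eˣ) (a : E) : swapM m * aff 1 a * (swapM m)⁻¹ = low (a / m) := by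
  rw [mul_inv_eq_iff_eq_mul, swap_mul_aff]

end basic

variable {E : Type*} [Field E] [IsAlgClosed E] {G : Subgroup PGL(Fin 2, E)} {p : ℕ} [Fact p.Prime]
  [CharP E p]

theorem WildHyp.exists_swap [Finite G] (h : WildHyp G p) :
    ∃ m : Eˣ, (m : E) ∈ trA G ∧ swapM m ∈ G := by
  obtain ⟨g₀, hg₀⟩ := h.h0
  have hg₀' : (g₀ : PGL(Fin 2, E)) • (inf : ℙ E (Fin 2 → E)) = fin 0 := hg₀
  have h1 : (g₀ : PGL(Fin 2, E))⁻¹ • (inf : ℙ E (Fin 2 → E)) ∈
      MulAction.orbit G (inf : ℙ E (Fin 2 → E)) :=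
    smul_mem_orbit (G.inv_mem g₀.2) (MulAction.mem_orbit_self _)
  rcases h.mem_orbit_cases h1 with h2 | ⟨e, he, h2⟩
  · exfalso
    rw [inv_smul_eq_iff] at h2
    rw [← h2] at hg₀'
    exact fin_ne_inf 0 hg₀'.symm
  set s : PGL(Fin 2, E) := (g₀ : PGL(Fin 2, E)) * aff 1 e with hs
  have hsG : s ∈ G := G.mul_mem g₀.2 he
  have hs_inf : s • (inf : ℙ E (Fin 2 → E)) = fin 0 := by
    rw [hs, mul_smul, aff_smul_inf, hg₀']
  have hs_zero : s • (fin 0 : ℙ E (Fin 2 → E)) = inf := by
    rw [hs, mul_smul, aff_smul_fin]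
    have : ((1 : Eˣ) : E) * 0 + e = e := by simp
    rw [this, ← h2, smul_inv_smul]
  have h3 := smul_mem_orbit hsG h.h1
  rcases h.mem_orbit_cases h3 with h4 | ⟨m', hm', h4⟩
  · exfalso
    rw [← hs_zero] at h4
    have := MobPGL.fin_injective (MulAction.injective s h4)
    exact one_ne_zero this
  have hm0 : m' ≠ 0 := by
    rintro rfl
    rw [← hs_inf] at h4
    exact fin_ne_inf 1 (MulAction.injective s h4)
  refine ⟨Units.mk0 m' hm0, hm', ?_⟩
  have : s = swapM (Units.mk0 m' hm0) := by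
    apply ext_three
    · rw [hs_inf, swapM_smul_inf]
    · rw [hs_zero, swapM_smul_zero]
    · rw [h4, swapM_smul_one]; rfl
  rw [← this]
  exact hsG

theorem WildHyp.low_mem [Finite G] (h : WildHyp G p) {b : E} (hb : b ∈ trA G) : low b ∈ G := by
  obtain ⟨m, hm, hs⟩ := h.exists_swap
  have h1 : aff 1 (b * m) ∈ G := h.mul_mem hb hm
  have h2 := G.mul_mem (G.mul_mem hs h1) (G.inv_mem hs)
  rw [swap_conj] at h2
  have : b * (m : E) / (m : E) = b := by
    field_simp
  rwa [this] at h2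

section field

variable {K : Type*} [Field K] (ι : K →+* E)

omit [IsAlgClosed E] in
theorem map_xmat (a : K) :
    Matrix.ProjGenLinGroup.map ι (Matrix.SpecialLinearGroup.toPGL (xmat K a)) = aff 1 (ι a) := by
  unfold aff
  rw [MonoidHom.comp_apply, Matrix.ProjGenLinGroup.map_mk]
  congr 1
  apply Units.ext
  ext i j
  fin_cases i <;> fin_cases j <;> simp [affGL]

omit [IsAlgClosed E] in
theorem map_ymat (b : K) :
    Matrix.ProjGenLinGroup.map ι (Matrix.SpecialLinearGroup.toPGL (ymat K b)) = low (ι b) := by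
  unfold low
  rw [MonoidHom.comp_apply, Matrix.ProjGenLinGroup.map_mk]
  congr 1
  apply Units.ext
  ext i j
  fin_cases i <;> fin_cases j <;> simp [lowGL]

/-- the image of `SL₂` of the translation field lies in `G` -/
theorem WildHyp.map_SL_mem [Finite G] (h : WildHyp G p) (hι : ∀ a : K, ι a ∈ trA G)
    (s : Matrix.SpecialLinearGroup (Fin 2) K) :
    Matrix.ProjGenLinGroup.map ι (Matrix.SpecialLinearGroup.toPGL s) ∈ G := by
  have key : G.comap ((Matrix.ProjGenLinGroup.map ι).comp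
      (Matrix.SpecialLinearGroup.toPGL (n := Fin 2) (R := K))) = ⊤ := by
    apply eq_top_of_xmat_ymat_mem
    · intro a
      rw [Subgroup.mem_comap, MonoidHom.comp_apply, map_xmat]
      exact hι a
    · intro b
      rw [Subgroup.mem_comap, MonoidHom.comp_apply, map_ymat]
      exact h.low_mem (hι b)
  have : s ∈ G.comap ((Matrix.ProjGenLinGroup.map ι).comp
      (Matrix.SpecialLinearGroup.toPGL (n := Fin 2) (R := K))) := by
    rw [key]; trivial
  exact this

end field

end Cfsg.Agent.Lib.Helper5.MobWild
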