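import Mathlib
import Cfsg.Prelude.Def_ClassicalGeometry
import Cfsg.Agent.Lib.Helper5.SpinorNorm
import Cfsg.Agent.Lib.Helper5.SpinorHyp2
import Cfsg.Agent.Lib.Helper4.SLnGen
import Cfsg.Agent.Lib.Helper4.SLCard
import Cfsg.Agent.Lib.Helper4.SLCenter
import Cfsg.Agent.S0286

set_option autoImplicit false
open Cfsg

namespace Cfsg.Agent.Lib.Helper5.SL2Orth

open Matrix QuadraticMap Cfsg.Agent.Lib.Helper5.CartanDieudonne Cfsg.Agent.Lib.Helper5.Refl
  Cfsg.Agent.Lib.Helper5.SpinorNorm Cfsg.Agent.Lib.Helper5.SpinorHyp2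
  Cfsg.Agent.Lib.Helper5.OrthCard

variable {F : Type*} [Field F]

/-- the index type of the three-dimensional form -/
abbrev I3 : Type := Unit ⊕ (Fin 1 ⊕ Fin 1)

/-- coordinates `(x, y, z)` -/
def e3 : I3 ≃ Fin 3 where
  toFun := fun i => match i with
    | .inl _ => 0
    | .inr (.inl _) => 1
    | .inr (.inr _) => 2
  invFun := fun i => match i with
    | 0 => .inl ()
    | 1 => .inr (.inl 0)
    | 2 => .inr (.inr 0)
  left_inv := by
    rintro (⟨⟩ | i | i)
    · rfl
    · have : i = 0 := Subsingleton.elim _ _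
      subst this; rfl
    · have : i = 0 := Subsingleton.elim _ _
      subst this; rfl
  right_inv := by
    intro i
    fin_cases i <;> rfl

/-- the matrix of `X ↦ M X adj(M)` on trace zero matrices `[[x, y], [z, -x]]` -/
def P3 (M : Matrix (Fin 2) (Fin 2) F) : Matrix (Fin 3) (Fin 3) F :=
  !![M 0 0 * M 1 1 + M 0 1 * M 1 0, -(M 0 0 * M 1 0), M 0 1 * M 1 1;
     -(2 * M 0 0 * M 0 1), M 0 0 ^ 2, -(M 0 1 ^ 2);
     2 * M 1 0 * M 1 1, -(M 1 0 ^ 2), M 1 1 ^ 2]

theorem P3_mul (M N : Matrix (Fin 2) (Fin 2) F) : P3 (M * N) = P3 M * P3 N := by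
  ext i j
  fin_cases i <;> fin_cases j <;>
    simp [P3, Matrix.mul_apply, Fin.sum_univ_two, Fin.sum_univ_three] <;> ring

theorem P3_one : P3 (1 : Matrix (Fin 2) (Fin 2) F) = 1 := by
  ext i j
  fin_cases i <;> fin_cases j <;> simp [P3]

theorem P3_quad (M : Matrix (Fin 2) (Fin 2) F) (w : Fin 3 → F) :
    (P3 M *ᵥ w) 0 ^ 2 + (P3 M *ᵥ w) 1 * (P3 M *ᵥ w) 2 = M.det ^ 2 * (w 0 ^ 2 + w 1 * w 2) := by
  simp [P3, Matrix.mulVec, dotProduct, Fin.sum_univ_three, Matrix.det_fin_two]
  ring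

/-- the normalised conjugation action as a matrix over `I3` -/
noncomputable def Rmat (M : Matrix (Fin 2) (Fin 2) F) : Matrix I3 I3 F :=
  ((M.det)⁻¹ • P3 M).submatrix e3 e3

theorem Rmat_mul (M N : Matrix (Fin 2) (Fin 2) F) : Rmat (M * N) = Rmat M * Rmat N := by
  unfold Rmat
  rw [Matrix.submatrix_mul_equiv, det_mul, P3_mul, mul_inv, Matrix.smul_mul, Matrix.mul_smul,
    smul_smul]

theorem Rmat_one : Rmat (1 : Matrix (Fin 2) (Fin 2) F) = 1 := by
  unfold Rmat
  rw [det_one, inv_one, one_smul, P3_one, submatrix_one_equiv]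

/-- `Rmat` as a monoid homomorphism -/
noncomputable def RmatHom : Matrix (Fin 2) (Fin 2) F →* Matrix I3 I3 F where
  toFun := Rmat
  map_one' := Rmat_one
  map_mul' := Rmat_mul

theorem odd_eq (v : I3 → F) :
    oddForm 1 F v = (v ∘ e3.symm) 0 ^ 2 + (v ∘ e3.symm) 1 * (v ∘ e3.symm) 2 := by
  rw [oddForm_apply]
  simp [Cfsg.quadFormOdd, e3]

theorem Rmat_mulVec (M : Matrix (Fin 2) (Fin 2) F) (v : I3 → F) :
    (Rmat M *ᵥ v) ∘ e3.symm = (M.det)⁻¹ • (P3 M *ᵥ (v ∘ e3.symm)) := by
  unfold Rmat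
  rw [Matrix.submatrix_mulVec_equiv, Matrix.smul_mulVec]
  ext i
  simp

theorem quad_Rmat (M : Matrix (Fin 2) (Fin 2) F) (hM : M.det ≠ 0) (v : I3 → F) :
    oddForm 1 F (Rmat M *ᵥ v) = oddForm 1 F v := by
  rw [odd_eq, odd_eq, Rmat_mulVec]
  simp only [Pi.smul_apply, smul_eq_mul]
  have := P3_quad M (v ∘ e3.symm)
  have h1 : ((M.det)⁻¹ * (P3 M *ᵥ (v ∘ e3.symm)) 0) ^ 2 +
      (M.det)⁻¹ * (P3 M *ᵥ (v ∘ e3.symm)) 1 * ((M.det)⁻¹ * (P3 M *ᵥ (v ∘ e3.symm)) 2) =
      ((M.det)⁻¹) ^ 2 * ((P3 M *ᵥ (v ∘ e3.symm)) 0 ^ 2 +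
        (P3 M *ᵥ (v ∘ e3.symm)) 1 * (P3 M *ᵥ (v ∘ e3.symm)) 2) := by ring
  rw [h1, this]
  field_simp

/-- the homomorphism `GL_2(F) → O_3(F)` -/
noncomputable def rho : Matrix.GeneralLinearGroup (Fin 2) F →*
    ↥(isometryGroup F ⇑(oddForm 1 F)) :=
  (Units.map (RmatHom (F := F))).codRestrict (isometryGroup F ⇑(oddForm 1 F)) (by
    intro g
    rw [mem_isometryGroup_iff]
    intro v
    exact quad_Rmat _ ((Matrix.isUnit_iff_isUnit_det _).mp g.isUnit).ne_zero v)

theorem rho_coe (g : Matrix.GeneralLinearGroup (Fin 2) F) :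
    (((rho g : ↥(isometryGroup F ⇑(oddForm 1 F))) : Matrix.GeneralLinearGroup I3 F) :
      Matrix I3 I3 F) = Rmat (g : Matrix (Fin 2) (Fin 2) F) := rfl

theorem P3_of_Rmat_eq_one (M : Matrix (Fin 2) (Fin 2) F) (hM : M.det ≠ 0) (h : Rmat M = 1) :
    P3 M = M.det • (1 : Matrix (Fin 3) (Fin 3) F) := by
  unfold Rmat at h
  have h1 := congrArg (fun A => A.submatrix e3.symm e3.symm) h
  simp only [Matrix.submatrix_submatrix, Equiv.self_comp_symm, Matrix.submatrix_id_id,
    submatrix_one_equiv] at h1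
  rw [← h1, smul_smul, mul_inv_cancel₀ hM, one_smul]

theorem scalar_of_Rmat_eq_one (M : Matrix (Fin 2) (Fin 2) F) (hM : M.det ≠ 0) (h : Rmat M = 1) :
    M = M 0 0 • (1 : Matrix (Fin 2) (Fin 2) F) := by
  have hP := P3_of_Rmat_eq_one M hM h
  have h12 := congrFun (congrFun hP 1) 2
  have h21 := congrFun (congrFun hP 2) 1
  have h11 := congrFun (congrFun hP 1) 1
  have h00 := congrFun (congrFun hP 0) 0
  simp [P3] at h12 h21 h11 h00
  rw [h12, h21] at h00
  have ha : M 0 0 ≠ 0 := by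
    intro h0
    rw [h0] at h11
    exact hM (by rw [← h11]; simp)
  have hd : M 1 1 = M 0 0 := by
    have : M 0 0 * (M 1 1 - M 0 0) = 0 := by
      rw [← h11] at h00
      linear_combination h00
    rcases mul_eq_zero.mp this with h' | h'
    · exact absurd h' ha
    · linear_combination h'
  ext i j
  fin_cases i <;> fin_cases j <;> simp [h12, h21, hd]

theorem Rmat_smul_one (a : F) (ha : a ≠ 0) :
    Rmat (a • (1 : Matrix (Fin 2) (Fin 2) F)) = 1 := by
  unfold Rmat
  have : P3 (a • (1 : Matrix (Fin 2) (Fin 2) F)) = (a ^ 2) • (1 : Matrix (Fin 3) (Fin 3) F) := by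
    ext i j
    fin_cases i <;> fin_cases j <;> simp [P3, _root_.sq]
  rw [this, det_smul, det_one, Fintype.card_fin, mul_one, smul_smul, inv_mul_cancel₀ (pow_ne_zero 2 ha),
    one_smul, submatrix_one_equiv]

theorem rho_eq_one_iff (g : Matrix.GeneralLinearGroup (Fin 2) F) :
    rho g = 1 ↔ ∃ a : F, (g : Matrix (Fin 2) (Fin 2) F) = a • (1 : Matrix (Fin 2) (Fin 2) F) := by
  have hdet : (g : Matrix (Fin 2) (Fin 2) F).det ≠ 0 :=
    ((Matrix.isUnit_iff_isUnit_det _).mp g.isUnit).ne_zero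
  constructor
  · intro h
    have h1 : Rmat (g : Matrix (Fin 2) (Fin 2) F) = 1 := by
      rw [← rho_coe, h]; rfl
    exact ⟨_, scalar_of_Rmat_eq_one _ hdet h1⟩
  · rintro ⟨a, ha⟩
    have ha0 : a ≠ 0 := by
      rintro rfl
      rw [zero_smul] at ha
      rw [ha] at hdet
      simp at hdet
    apply Subtype.ext
    apply Units.ext
    rw [rho_coe, ha, Rmat_smul_one a ha0]
    rfl

/-- the homomorphism `SL_2(F) → O_3(F)` -/
noncomputable def rhoSL : Matrix.SpecialLinearGroup (Fin 2) F →*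
    ↥(isometryGroup F ⇑(oddForm 1 F)) :=
  rho.comp Matrix.SpecialLinearGroup.toGL

theorem ker_rhoSL : (rhoSL (F := F)).ker = Subgroup.center (Matrix.SpecialLinearGroup (Fin 2) F) := by
  ext g
  rw [MonoidHom.mem_ker, Matrix.SpecialLinearGroup.mem_center_iff]
  unfold rhoSL
  rw [MonoidHom.comp_apply, rho_eq_one_iff]
  constructor
  · rintro ⟨a, ha⟩
    have ha' : (g : Matrix (Fin 2) (Fin 2) F) = a • 1 := ha
    refine ⟨a, ?_, ?_⟩
    · have hdet := g.det_coe
      rw [ha', det_smul, det_one, Fintype.card_fin, mul_one] at hdet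
      rw [Fintype.card_fin]; exact hdet
    · rw [ha', Matrix.scalar_apply, Matrix.smul_one_eq_diagonal]
  · rintro ⟨r, -, hr⟩
    refine ⟨r, ?_⟩
    show (g : Matrix (Fin 2) (Fin 2) F) = r • 1
    rw [← hr, Matrix.scalar_apply, Matrix.smul_one_eq_diagonal]

/-- an element of `SL_2` commuting with the two elementary unipotent matrices up to sign is
central -/
theorem mem_center_of_comm_mod (h2 : (2 : F) ≠ 0) (g : Matrix.SpecialLinearGroup (Fin 2) F)
    (h : ∀ k : Matrix.SpecialLinearGroup (Fin 2) F,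
      g * k * g⁻¹ * k⁻¹ ∈ Subgroup.center (Matrix.SpecialLinearGroup (Fin 2) F)) :
    g ∈ Subgroup.center (Matrix.SpecialLinearGroup (Fin 2) F) := by
  have key : ∀ k : Matrix.SpecialLinearGroup (Fin 2) F, ∃ r : F, r ^ 2 = 1 ∧
      (g : Matrix (Fin 2) (Fin 2) F) * (k : Matrix (Fin 2) (Fin 2) F) =
        r • ((k : Matrix (Fin 2) (Fin 2) F) * (g : Matrix (Fin 2) (Fin 2) F)) := by
    intro k
    obtain ⟨r, hr, hz⟩ := Matrix.SpecialLinearGroup.mem_center_iff.mp (h k)
    refine ⟨r, by simpa using hr, ?_⟩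
    have h1 : g * k = (g * k * g⁻¹ * k⁻¹) * (k * g) := by group
    have h3 := congrArg (fun x : Matrix.SpecialLinearGroup (Fin 2) F =>
      (x : Matrix (Fin 2) (Fin 2) F)) h1
    simp only [Matrix.SpecialLinearGroup.coe_mul] at h3
    rw [Matrix.SpecialLinearGroup.coe_mul] at hz
    simp only [Matrix.SpecialLinearGroup.coe_mul] at hz
    rw [← hz, Matrix.scalar_apply, ← Matrix.smul_one_eq_diagonal, Matrix.smul_mul,
      Matrix.one_mul] at h3
    exact h3
  obtain ⟨r1, hr1, h1⟩ := key ⟨!![1, 1; 0, 1], by simp [Matrix.det_fin_two]⟩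
  obtain ⟨r2, hr2, h3⟩ := key ⟨!![1, 0; 1, 1], by simp [Matrix.det_fin_two]⟩
  have hdet := g.det_coe
  obtain ⟨a, b, c, d, hg⟩ : ∃ a b c d : F, (g : Matrix (Fin 2) (Fin 2) F) = !![a, b; c, d] :=
    ⟨_, _, _, _, Matrix.eta_fin_two _⟩
  rw [hg] at h1 h3 hdet
  rw [Matrix.det_fin_two_of] at hdet
  simp only [Matrix.mul_fin_two, Matrix.smul_of, Matrix.smul_cons, Matrix.smul_empty] at h1 h3
  have e1 := congrFun (congrFun h1 0) 0
  have e2 := congrFun (congrFun h1 1) 0
  have e3' := congrFun (congrFun h1 0) 1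
  have f1 := congrFun (congrFun h3 0) 1
  have f2 := congrFun (congrFun h3 1) 1
  have f3 := congrFun (congrFun h3 0) 0
  simp at e1 e2 e3' f1 f2 f3
  have hr1' : r1 = 1 ∨ r1 = -1 := by
    have : (r1 - 1) * (r1 + 1) = 0 := by linear_combination hr1
    rcases mul_eq_zero.mp this with h' | h'
    · left; linear_combination h'
    · right; linear_combination h'
  have hr2' : r2 = 1 ∨ r2 = -1 := by
    have : (r2 - 1) * (r2 + 1) = 0 := by linear_combination hr2
    rcases mul_eq_zero.mp this with h' | h'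
    · left; linear_combination h'
    · right; linear_combination h'
  have half : ∀ x : F, 2 * x = 0 → x = 0 := by
    intro x hx
    rcases mul_eq_zero.mp hx with h' | h'
    · exact absurd h' h2
    · exact h'
  have hc : c = 0 ∧ a = d := by
    rcases hr1' with rfl | rfl
    · refine ⟨?_, ?_⟩
      · linear_combination -e1
      · linear_combination e3'
    · exfalso
      have hc0 : c = 0 := half c (by linear_combination e2)
      have ha0 : a = 0 := half a (by linear_combination e1 - hc0)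
      rw [hc0, ha0] at hdet
      simp at hdet
  have hb : b = 0 := by
    rcases hr2' with rfl | rfl
    · linear_combination f3
    · exfalso
      have hb0 : b = 0 := half b (by linear_combination f1)
      have hd0 : d = 0 := half d (by linear_combination f2 - hb0)
      rw [hb0, hd0] at hdet
      simp at hdet
  rw [Matrix.SpecialLinearGroup.mem_center_iff]
  refine ⟨a, ?_, ?_⟩
  · rw [Fintype.card_fin]
    rw [hb, hc.1, ← hc.2] at hdet
    linear_combination hdet
  · rw [Matrix.scalar_apply, hg, hb, hc.1, ← hc.2]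
    ext i j
    fin_cases i <;> fin_cases j <;> simp

section finite
variable [Fintype F]

theorem rhoSL_mem_commutator (h2 : (2 : F) ≠ 0) (g : Matrix.SpecialLinearGroup (Fin 2) F) :
    rhoSL g ∈ commutator ↥(isometryGroup F ⇑(oddForm 1 F)) := by
  have hQ := oddForm_nondegenerate h2 1
  have hn : 2 ≤ Fintype.card I3 := by
    simp only [Fintype.card_sum, Fintype.card_fin, Fintype.card_unit]; omega
  rw [← ker_theta (oddForm 1 F) h2 hQ hn, MonoidHom.mem_ker]
  refine Cfsg.Agent.Lib.Helper4.transvection_induction_gen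
    (fun g => theta (oddForm 1 F) h2 hQ (rhoSL g) = 1) ?_ ?_ g
  · intro i j hij c
    have : Matrix.SpecialLinearGroup.transvection hij c =
        Matrix.SpecialLinearGroup.transvection hij (c / 2) *
          Matrix.SpecialLinearGroup.transvection hij (c / 2) := by
      apply Subtype.ext
      show Matrix.transvection i j c = Matrix.transvection i j (c / 2) * Matrix.transvection i j (c / 2)
      rw [Matrix.transvection_mul_transvection_same i j hij]
      congr 1
      field_simp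
      ring
    rw [this, map_mul, map_mul]
    obtain ⟨x1, x2⟩ := theta (oddForm 1 F) h2 hQ
      (rhoSL (Matrix.SpecialLinearGroup.transvection hij (c / 2)))
    rcases Int.units_eq_one_or x1 with rfl | rfl <;> rcases Int.units_eq_one_or x2 with rfl | rfl <;>
      rfl
  · intro A B hA hB
    rw [map_mul, map_mul, hA, hB, one_mul]

theorem odd_card (h2 : (2 : F) ≠ 0) : Odd (Fintype.card F) := by
  rw [Nat.odd_iff]
  apply FiniteField.odd_card_of_char_ne_two
  intro hch
  have : CharP F 2 := by rw [← hch]; exact ringChar.charP F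
  exact h2 (CharTwo.two_eq_zero)

theorem card_O3 (h2 : (2 : F) ≠ 0) :
    Nat.card ↥(isometryGroup F ⇑(oddForm 1 F)) =
      2 * (Fintype.card F * (Fintype.card F ^ 2 - 1)) := by
  have := Cfsg.Agent.S0286.result (F := F) rfl (odd_card h2) 1
  rw [coe_oddForm, this]
  simp
  ring

theorem two_mul_card_commutator (h2 : (2 : F) ≠ 0) :
    2 * Nat.card ↥(commutator ↥(isometryGroup F ⇑(oddForm 1 F))) =
      Fintype.card F * (Fintype.card F ^ 2 - 1) := by
  have hQ := oddForm_nondegenerate h2 1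
  have hn : 2 ≤ Fintype.card I3 := by
    simp only [Fintype.card_sum, Fintype.card_fin, Fintype.card_unit]; omega
  have h1 := Subgroup.card_mul_index (commutator ↥(isometryGroup F ⇑(oddForm 1 F)))
  rw [index_commutator (oddForm 1 F) h2 hQ hn, card_O3 h2] at h1
  omega

theorem two_mul_card_range (h2 : (2 : F) ≠ 0) :
    2 * Nat.card ↥(rhoSL (F := F)).range = Fintype.card F * (Fintype.card F ^ 2 - 1) := by
  have h1 := Subgroup.card_mul_index (rhoSL (F := F)).ker
  rw [Subgroup.index_ker, ker_rhoSL, Cfsg.Agent.Lib.Helper4.card_center_SL 2 (by norm_num),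
    Cfsg.Agent.Lib.Helper4.card_SL2] at h1
  have hg : Nat.gcd 2 (Fintype.card F - 1) = 2 := by
    obtain ⟨k, hk⟩ := odd_card h2
    rw [hk]
    have : 2 * k + 1 - 1 = 2 * k := by omega
    rw [this]
    exact Nat.gcd_eq_left (dvd_mul_right 2 k)
  rw [hg] at h1
  exact h1

theorem range_rhoSL (h2 : (2 : F) ≠ 0) :
    (rhoSL (F := F)).range = commutator ↥(isometryGroup F ⇑(oddForm 1 F)) := by
  have : Finite ↥(isometryGroup F ⇑(oddForm 1 F)) := inferInstance
  apply Subgroup.eq_of_le_of_card_ge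
  · rintro _ ⟨g, rfl⟩
    exact rhoSL_mem_commutator h2 g
  · have h1 := two_mul_card_commutator (F := F) h2
    have h3 := two_mul_card_range (F := F) h2
    omega

theorem center_commutator_eq_bot (h2 : (2 : F) ≠ 0) :
    Subgroup.center ↥(commutator ↥(isometryGroup F ⇑(oddForm 1 F))) = ⊥ := by
  rw [eq_bot_iff]
  intro z hz
  rw [Subgroup.mem_bot]
  have hzr : (z : ↥(isometryGroup F ⇑(oddForm 1 F))) ∈ (rhoSL (F := F)).range := by
    rw [range_rhoSL h2]; exact z.2
  obtain ⟨g, hg⟩ := hzr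
  have hgc : g ∈ Subgroup.center (Matrix.SpecialLinearGroup (Fin 2) F) := by
    apply mem_center_of_comm_mod h2
    intro k
    rw [← ker_rhoSL, MonoidHom.mem_ker, map_mul, map_mul, map_mul, map_inv, map_inv, hg]
    have hk : rhoSL k ∈ commutator ↥(isometryGroup F ⇑(oddForm 1 F)) := rhoSL_mem_commutator h2 k
    have hcomm := Subgroup.mem_center_iff.mp hz ⟨rhoSL k, hk⟩
    have hcomm' : rhoSL k * (z : ↥(isometryGroup F ⇑(oddForm 1 F))) =
        (z : ↥(isometryGroup F ⇑(oddForm 1 F))) * rhoSL k := congrArg Subtype.val hcomm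
    rw [← hcomm', mul_inv_cancel_right, mul_inv_cancel]
  have : rhoSL g = 1 := by
    rw [← MonoidHom.mem_ker, ker_rhoSL]; exact hgc
  apply Subtype.ext
  rw [← hg, this]
  rfl

/-- `PΩ_3(q) ≅ PSL_2(q)` for odd `q` -/
theorem nonempty_mulEquiv (h2 : (2 : F) ≠ 0) :
    Nonempty (Cfsg.POmega F ⇑(oddForm 1 F) ≃* Matrix.ProjectiveSpecialLinearGroup (Fin 2) F) := by
  have e1 := QuotientGroup.quotientKerEquivRange (rhoSL (F := F))
  have e2 : Matrix.SpecialLinearGroup (Fin 2) F ⧸
        Subgroup.center (Matrix.SpecialLinearGroup (Fin 2) F) ≃*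
      Matrix.SpecialLinearGroup (Fin 2) F ⧸ (rhoSL (F := F)).ker :=
    QuotientGroup.quotientMulEquivOfEq ker_rhoSL.symm
  have e3 : ↥(rhoSL (F := F)).range ≃* ↥(commutator ↥(isometryGroup F ⇑(oddForm 1 F))) :=
    MulEquiv.subgroupCongr (range_rhoSL h2)
  have e4 : ↥(commutator ↥(isometryGroup F ⇑(oddForm 1 F))) ⧸
        Subgroup.center ↥(commutator ↥(isometryGroup F ⇑(oddForm 1 F))) ≃*
      ↥(commutator ↥(isometryGroup F ⇑(oddForm 1 F))) :=
    (QuotientGroup.quotientMulEquivOfEq (center_commutator_eq_bot h2)).trans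
      QuotientGroup.quotientBot
  exact ⟨e4.trans (e3.symm.trans (e1.symm.trans e2.symm))⟩

end finite

end Cfsg.Agent.Lib.Helper5.SL2Orth
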