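import Mathlib
import Cfsg.Prelude.Def_ClassicalGeometry
import Cfsg.Agent.Lib.Helper5.SL2Orth
import Cfsg.Agent.S0787
import Cfsg.Agent.Lib.Helper4.ProjLine
import Cfsg.Agent.Lib.Helper4.PSL2Perm

set_option autoImplicit false
open Cfsg

namespace Cfsg.Agent.Lib.Helper5.SO3PGL

open Matrix QuadraticMap Cfsg.Agent.Lib.Helper5.CartanDieudonne Cfsg.Agent.Lib.Helper5.Refl
  Cfsg.Agent.Lib.Helper5.SpinorNorm Cfsg.Agent.Lib.Helper5.SpinorHyp2
  Cfsg.Agent.Lib.Helper5.OrthCard Cfsg.Agent.Lib.Helper5.SL2Orth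
open scoped LinearAlgebra.Projectivization MatrixGroups

variable {F : Type*} [Field F]

theorem det_P3 (M : Matrix (Fin 2) (Fin 2) F) : (P3 M).det = M.det ^ 3 := by
  rw [Matrix.det_fin_three, Matrix.det_fin_two]
  simp [P3]
  ring

theorem det_Rmat (M : Matrix (Fin 2) (Fin 2) F) (hM : M.det ≠ 0) : (Rmat M).det = 1 := by
  unfold Rmat
  rw [Matrix.det_submatrix_equiv_self, Matrix.det_smul, det_P3, Fintype.card_fin]
  field_simp

section finite
variable [Fintype F]

theorem rho_mem_SO (g : Matrix.GeneralLinearGroup (Fin 2) F) :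
    rho g ∈ specialIsometryGroup F ⇑(oddForm 1 F) := by
  rw [Cfsg.Agent.S0787.mem_SO_iff, rho_coe]
  exact det_Rmat _ ((Matrix.isUnit_iff_isUnit_det _).mp g.isUnit).ne_zero

omit [Fintype F] in
theorem ker_rho : (rho (F := F)).ker = Subgroup.center (Matrix.GeneralLinearGroup (Fin 2) F) := by
  ext g
  rw [MonoidHom.mem_ker, rho_eq_one_iff,
    Matrix.GeneralLinearGroup.mem_center_iff_val_mem_range_scalar]
  constructor
  · rintro ⟨a, ha⟩
    refine ⟨a, ?_⟩
    rw [Matrix.scalar_apply, ← Matrix.smul_one_eq_diagonal]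
    exact ha.symm
  · rintro ⟨a, ha⟩
    refine ⟨a, ?_⟩
    rw [Matrix.scalar_apply, ← Matrix.smul_one_eq_diagonal] at ha
    exact ha.symm

/-- the homomorphism `GL_2(F) → SO_3(F)` -/
noncomputable def rhoSO : Matrix.GeneralLinearGroup (Fin 2) F →*
    ↥(specialIsometryGroup F ⇑(oddForm 1 F)) :=
  rho.codRestrict _ rho_mem_SO

theorem ker_rhoSO :
    (rhoSO (F := F)).ker = Subgroup.center (Matrix.GeneralLinearGroup (Fin 2) F) := by
  rw [← ker_rho]
  ext g
  rw [MonoidHom.mem_ker, MonoidHom.mem_ker]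
  unfold rhoSO
  constructor
  · intro h
    have := congrArg Subtype.val h
    exact this
  · intro h
    apply Subtype.ext
    exact h

theorem card_center_GL2 :
    Nat.card ↥(Subgroup.center (Matrix.GeneralLinearGroup (Fin 2) F)) = Fintype.card F - 1 := by
  rw [Matrix.GeneralLinearGroup.center_eq_range_scalar]
  have hinj : Function.Injective (Matrix.GeneralLinearGroup.scalar (Fin 2) : Fˣ →* GL (Fin 2) F) := by
    intro a b hab
    have h1 := congrArg (fun g : GL (Fin 2) F => (g : Matrix (Fin 2) (Fin 2) F) 0 0) hab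
    simp at h1
    exact Units.ext h1
  rw [Nat.card_congr (MonoidHom.ofInjective hinj).symm.toEquiv, Nat.card_units,
    Nat.card_eq_fintype_card]

theorem card_SO3 (h2 : (2 : F) ≠ 0) :
    Nat.card ↥(specialIsometryGroup F ⇑(oddForm 1 F)) =
      Fintype.card F * (Fintype.card F ^ 2 - 1) := by
  have hQ := oddForm_nondegenerate h2 1
  have h1 := Subgroup.card_mul_index (specialIsometryGroup F ⇑(oddForm 1 F))
  rw [Cfsg.Agent.S0787.index_SO_odd (oddForm 1 F) h2 hQ (by
    intro h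
    simp only [Fintype.card_sum, Fintype.card_fin, Fintype.card_unit] at h
    omega), card_O3 h2] at h1
  omega

theorem rhoSO_surjective (h2 : (2 : F) ≠ 0) : Function.Surjective (rhoSO (F := F)) := by
  rw [← MonoidHom.range_eq_top]
  have : Finite ↥(specialIsometryGroup F ⇑(oddForm 1 F)) := inferInstance
  apply Subgroup.eq_top_of_card_eq
  have h1 := Subgroup.card_mul_index (rhoSO (F := F)).ker
  rw [Subgroup.index_ker, ker_rhoSO, card_center_GL2, Cfsg.Agent.Lib.Helper4.card_GL2] at h1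
  rw [card_SO3 h2]
  have hq : 1 < Fintype.card F := Fintype.one_lt_card
  have h3 : Fintype.card F ^ 2 - Fintype.card F = Fintype.card F * (Fintype.card F - 1) := by
    rw [Nat.mul_sub, mul_one, pow_two]
  rw [h3] at h1
  have h4 : 0 < Fintype.card F - 1 := by omega
  apply Nat.eq_of_mul_eq_mul_left h4
  rw [h1]
  ring

/-- `SO_3(q) ≅ PGL_2(q)` for odd `q` -/
theorem nonempty_mulEquiv (h2 : (2 : F) ≠ 0) :
    Nonempty (↥(specialIsometryGroup F ⇑(oddForm 1 F)) ≃* Matrix.ProjGenLinGroup (Fin 2) F) := by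
  have e1 := QuotientGroup.quotientKerEquivOfSurjective (rhoSO (F := F)) (rhoSO_surjective h2)
  have e2 : Matrix.GeneralLinearGroup (Fin 2) F ⧸ (rhoSO (F := F)).ker ≃*
      Matrix.GeneralLinearGroup (Fin 2) F ⧸
        Subgroup.center (Matrix.GeneralLinearGroup (Fin 2) F) :=
    QuotientGroup.quotientMulEquivOfEq ker_rhoSO
  exact ⟨e1.symm.trans e2⟩

omit [Fintype F] in
theorem pgl_toPerm_injective :
    Function.Injective (MulAction.toPermHom (Matrix.ProjGenLinGroup (Fin 2) F)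
      (ℙ F (Fin 2 → F))) := by
  rw [injective_iff_map_eq_one]
  intro g hg
  have hfix : ∀ x : ℙ F (Fin 2 → F), g • x = x := by
    intro x
    have := congrArg (fun σ : Equiv.Perm (ℙ F (Fin 2 → F)) => σ x) hg
    simpa using this
  have h01 : Projectivization.mk F (![1, 0] : Fin 2 → F) Cfsg.Agent.Lib.Helper4.e1_ne ≠
      Projectivization.mk F (![0, 1] : Fin 2 → F) Cfsg.Agent.Lib.Helper4.e2_ne := by
    rw [Ne, Cfsg.Agent.Lib.Helper4.mk_eq_mk_iff_cross]
    simp [Cfsg.Agent.Lib.Helper4.cross]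
  have h02 : Projectivization.mk F (![1, 0] : Fin 2 → F) Cfsg.Agent.Lib.Helper4.e1_ne ≠
      Projectivization.mk F (![1, 1] : Fin 2 → F) Cfsg.Agent.Lib.Helper4.e12_ne := by
    rw [Ne, Cfsg.Agent.Lib.Helper4.mk_eq_mk_iff_cross]
    simp [Cfsg.Agent.Lib.Helper4.cross]
  have h12 : Projectivization.mk F (![0, 1] : Fin 2 → F) Cfsg.Agent.Lib.Helper4.e2_ne ≠
      Projectivization.mk F (![1, 1] : Fin 2 → F) Cfsg.Agent.Lib.Helper4.e12_ne := by
    rw [Ne, Cfsg.Agent.Lib.Helper4.mk_eq_mk_iff_cross]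
    simp [Cfsg.Agent.Lib.Helper4.cross]
  exact Cfsg.Agent.Lib.Helper4.pgl_sharp g _ _ _ h01 h02 h12 (hfix _) (hfix _) (hfix _)

theorem card_PGL2 :
    Nat.card (Matrix.ProjGenLinGroup (Fin 2) F) = Fintype.card F * (Fintype.card F ^ 2 - 1) := by
  have h1 := Subgroup.card_eq_card_quotient_mul_card_subgroup
    (Subgroup.center (Matrix.GeneralLinearGroup (Fin 2) F))
  rw [card_center_GL2, Cfsg.Agent.Lib.Helper4.card_GL2] at h1
  have hq : 1 < Fintype.card F := Fintype.one_lt_card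
  have h3 : Fintype.card F ^ 2 - Fintype.card F = Fintype.card F * (Fintype.card F - 1) := by
    rw [Nat.mul_sub, mul_one, pow_two]
  rw [h3] at h1
  have h4 : 0 < Fintype.card F - 1 := by omega
  apply Nat.eq_of_mul_eq_mul_right h4
  show Nat.card (Matrix.GeneralLinearGroup (Fin 2) F ⧸
    Subgroup.center (Matrix.GeneralLinearGroup (Fin 2) F)) * _ = _
  rw [← h1]
  ring

/-- `PGL_2(3) ≅ S_4` -/
theorem nonempty_PGL2_perm (hF : Fintype.card F = 3) :
    Nonempty (Matrix.ProjGenLinGroup (Fin 2) F ≃* Equiv.Perm (Fin 4)) := by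
  classical
  have hc : Nat.card (ℙ F (Fin 2 → F)) = 4 := by
    rw [Cfsg.Agent.Lib.Helper4.card_proj_line, hF]
  have : Finite (ℙ F (Fin 2 → F)) := Nat.finite_of_card_ne_zero (by rw [hc]; omega)
  have : Fintype (ℙ F (Fin 2 → F)) := Fintype.ofFinite _
  have hcp : Nat.card (Equiv.Perm (ℙ F (Fin 2 → F))) = 24 := by
    rw [Nat.card_eq_fintype_card, Fintype.card_perm, ← Nat.card_eq_fintype_card, hc]
    rfl
  have hcg : Nat.card (Matrix.ProjGenLinGroup (Fin 2) F) = 24 := by
    rw [card_PGL2, hF]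
    norm_num
  have : Finite (Matrix.ProjGenLinGroup (Fin 2) F) := Nat.finite_of_card_ne_zero (by rw [hcg]; omega)
  have hbij := Function.Injective.bijective_of_nat_card_le (pgl_toPerm_injective (F := F))
    (by rw [hcp, hcg])
  exact ⟨(MulEquiv.ofBijective _ hbij).trans (Finite.equivFinOfCardEq hc).permCongrHom⟩

/-- `SO_3(3) ≅ S_4` -/
theorem nonempty_SO3_perm (hF : Fintype.card F = 3) :
    Nonempty (↥(specialIsometryGroup F ⇑(oddForm 1 F)) ≃* Equiv.Perm (Fin 4)) := by
  have h2 : (2 : F) ≠ 0 := by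
    intro h2
    have : CharP F 2 := CharTwo.of_one_ne_zero_of_two_eq_zero one_ne_zero h2
    have h := FiniteField.even_card_of_char_two (ringChar.eq F 2)
    omega
  obtain ⟨e1⟩ := nonempty_mulEquiv (F := F) h2
  obtain ⟨e2⟩ := nonempty_PGL2_perm hF
  exact ⟨e1.trans e2⟩

end finite

end Cfsg.Agent.Lib.Helper5.SO3PGL
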