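import Mathlib
import Cfsg.Agent.Lib.Helper4.SLCard
import Cfsg.Agent.Lib.Helper4.SLCenter
import Cfsg.Agent.Lib.Helper5.SO3PGL

set_option autoImplicit false

/-! Subfield subgroups of `PSL_2(F)`. -/

namespace Cfsg.Agent.Lib.Helper5.SubfieldPSL

open Matrix
open scoped MatrixGroups

section embed

/-- a finite field with `|K| ^ m` elements contains a copy of `K` -/
theorem exists_ringHom {K F : Type*} [Field K] [Fintype K] [Field F] [Fintype F] (m : ℕ)
    (hm : 1 ≤ m) (h : Fintype.card K ^ m = Fintype.card F) : Nonempty (K →+* F) := by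
  obtain ⟨p, hp⟩ := CharP.exists K
  have hpp : Fact p.Prime := ⟨CharP.char_is_prime K p⟩
  obtain ⟨n, -, hn⟩ := FiniteField.card K p
  have hFc : Fintype.card F = p ^ ((n : ℕ) * m) := by
    rw [← h, hn, pow_mul]
  have : CharP F p := charP_of_card_eq_prime_pow hFc
  let : Algebra (ZMod p) K := ZMod.algebra _ _
  let : Algebra (ZMod p) F := ZMod.algebra _ _
  have h1 : Module.finrank (ZMod p) K = n := by
    have := FiniteField.pow_finrank_eq_card p K
    rw [hn] at this
    exact Nat.pow_right_injective hpp.out.two_le this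
  have h2 : Module.finrank (ZMod p) F = n * m := by
    have := FiniteField.pow_finrank_eq_card p F
    rw [hFc] at this
    exact Nat.pow_right_injective hpp.out.two_le this
  obtain ⟨f⟩ := FiniteField.nonempty_algHom_of_finrank_dvd (F := ZMod p) (K := K) (L := F)
    (by rw [h1, h2]; exact dvd_mul_right _ _)
  exact ⟨f.toRingHom⟩

end embed

section groups

/-- pulling back a subgroup along an injective homomorphism -/
theorem exists_subgroup_of_range_le {X G P : Type*} [Group X] [Group G] [Group P]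
    (ι : G →* P) (hι : Function.Injective ι) (φ : X →* P) (hφ : Function.Injective φ)
    (h : φ.range ≤ ι.range) : ∃ H : Subgroup G, Nonempty (H ≃* X) := by
  refine ⟨φ.range.comap ι, ⟨?_⟩⟩
  have e1 : (φ.range.comap ι) ≃* (φ.range.comap ι).map ι := Subgroup.equivMapOfInjective _ ι hι
  have e2 : (φ.range.comap ι).map ι = φ.range := Subgroup.map_comap_eq_self h
  exact (e1.trans (MulEquiv.subgroupCongr e2)).trans (MonoidHom.ofInjective hφ).symm

end groups

section maps
variable {K F : Type*} [Field K] [Field F] (j : K →+* F)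

theorem pglMap_injective : Function.Injective (ProjGenLinGroup.map (n := Fin 2) j) := by
  rw [injective_iff_map_eq_one]
  intro x hx
  induction x using Matrix.ProjGenLinGroup.induction_on with | mk g =>
  rw [ProjGenLinGroup.map_mk, ProjGenLinGroup.mk_eq_one,
    GeneralLinearGroup.mem_center_iff_val_mem_range_scalar] at hx
  obtain ⟨r, hr⟩ := hx
  rw [ProjGenLinGroup.mk_eq_one, GeneralLinearGroup.mem_center_iff_val_mem_range_scalar]
  have hinj : Function.Injective j := j.injective
  have e : ∀ a b : Fin 2, j (g.1 a b) = (Matrix.scalar (Fin 2) r) a b := by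
    intro a b
    rw [hr]
    rfl
  refine ⟨g.1 0 0, ?_⟩
  ext a b
  apply hinj
  rw [e a b]
  have e00 := e 0 0
  rw [Matrix.scalar_apply, Matrix.diagonal_apply_eq] at e00
  rw [Matrix.scalar_apply, Matrix.scalar_apply]
  by_cases hab : a = b
  · subst hab
    rw [Matrix.diagonal_apply_eq, Matrix.diagonal_apply_eq, e00]
  · rw [Matrix.diagonal_apply_ne _ hab, Matrix.diagonal_apply_ne _ hab, map_zero]

/-- `PSL_2(K)` embeds in `PSL_2(F)` -/
theorem exists_PSL (j : K →+* F) : ∃ H : Subgroup (Matrix.ProjectiveSpecialLinearGroup (Fin 2) F),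
    Nonempty (H ≃* Matrix.ProjectiveSpecialLinearGroup (Fin 2) K) := by
  apply exists_subgroup_of_range_le (ProjectiveSpecialLinearGroup.toPGL (n := Fin 2) (R := F))
    ProjectiveSpecialLinearGroup.toPGL_injective
    ((ProjGenLinGroup.map (n := Fin 2) j).comp (ProjectiveSpecialLinearGroup.toPGL (n := Fin 2) (R := K)))
    ((pglMap_injective j).comp ProjectiveSpecialLinearGroup.toPGL_injective)
  rintro _ ⟨x, rfl⟩
  induction x using QuotientGroup.induction_on with | H g =>
  refine ⟨QuotientGroup.mk (SpecialLinearGroup.map j g), ?_⟩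
  show ProjGenLinGroup.mk (SpecialLinearGroup.toGL (SpecialLinearGroup.map j g)) =
    ProjGenLinGroup.mk (GeneralLinearGroup.map j (SpecialLinearGroup.toGL g))
  congr 1
  apply Units.ext
  rfl

/-- if all images of units of `K` are squares in `F`, then `PGL_2(K)` embeds in `PSL_2(F)` -/
theorem exists_PGL (j : K →+* F) (hsq : ∀ a : K, a ≠ 0 → IsSquare (j a)) :
    ∃ H : Subgroup (Matrix.ProjectiveSpecialLinearGroup (Fin 2) F),
    Nonempty (H ≃* Matrix.ProjGenLinGroup (Fin 2) K) := by
  apply exists_subgroup_of_range_le (ProjectiveSpecialLinearGroup.toPGL (n := Fin 2) (R := F))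
    ProjectiveSpecialLinearGroup.toPGL_injective
    (ProjGenLinGroup.map (n := Fin 2) j) (pglMap_injective j)
  rintro _ ⟨x, rfl⟩
  induction x using Matrix.ProjGenLinGroup.induction_on with | mk g =>
  have hdet : (g.1).det ≠ 0 := by
    have := g.isUnit
    exact ((Matrix.isUnit_iff_isUnit_det _).mp ((Matrix.isUnit_iff_isUnit_det _).mpr
      (by simpa using (Matrix.isUnit_iff_isUnit_det g.1).mp ⟨g, rfl⟩))).ne_zero
  obtain ⟨s, hs⟩ := hsq _ hdet
  have hs0 : s ≠ 0 := by
    rintro rfl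
    rw [mul_zero] at hs
    exact (map_ne_zero j).mpr hdet hs
  have hdetS : (s⁻¹ • (g.1).map j).det = 1 := by
    rw [Matrix.det_smul, Fintype.card_fin, ← RingHom.mapMatrix_apply, ← RingHom.map_det, hs]
    field_simp
  refine ⟨QuotientGroup.mk (⟨s⁻¹ • (g.1).map j, hdetS⟩ : SL(2, F)), ?_⟩
  rw [ProjGenLinGroup.map_mk]
  show ProjGenLinGroup.mk (SpecialLinearGroup.toGL (⟨s⁻¹ • (g.1).map j, hdetS⟩ : SL(2, F))) = _
  rw [ProjGenLinGroup.mk_eq_mk_iff]
  refine ⟨Units.mk0 s hs0, ?_⟩
  apply Units.ext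
  simp only [Units.val_mul, GeneralLinearGroup.coe_scalar, Units.val_mk0]
  rw [Matrix.scalar_apply, ← Matrix.smul_one_eq_diagonal, Matrix.mul_smul, Matrix.mul_one]
  have h1 : ((SpecialLinearGroup.toGL (⟨s⁻¹ • (g.1).map j, hdetS⟩ : SL(2, F)) : GL (Fin 2) F) :
      Matrix (Fin 2) (Fin 2) F) = s⁻¹ • (g.1).map j := rfl
  rw [h1, smul_smul, mul_inv_cancel₀ hs0, one_smul]
  rfl

end maps

section arith

theorem geom_nat (x m : ℕ) (hx : 1 ≤ x) :
    x ^ m - 1 = (x - 1) * ∑ i ∈ Finset.range m, x ^ i := by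
  have h1 : 1 ≤ x ^ m := Nat.one_le_pow _ _ hx
  zify [h1, hx]
  rw [mul_comm, geom_sum_mul]

theorem odd_geom (x m : ℕ) (hx : Odd x) : Odd (∑ i ∈ Finset.range m, x ^ i) ↔ Odd m := by
  rw [Finset.odd_sum_iff_odd_card_odd]
  have : (Finset.range m).filter (fun i => Odd (x ^ i)) = Finset.range m := by
    apply Finset.filter_true_of_mem
    intro i _
    exact hx.pow
  rw [this, Finset.card_range]

/-- for `m` even, units of the subfield are squares in the big field -/
theorem isSquare_of_even {K F : Type*} [Field K] [Fintype K] [Field F] [Fintype F]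
    (j : K →+* F) (m : ℕ) (hm : Even m) (hodd : Odd (Fintype.card F))
    (h : Fintype.card K ^ m = Fintype.card F) (a : K) (ha : a ≠ 0) : IsSquare (j a) := by
  have hchar : ringChar F ≠ 2 := by
    intro h2
    have := FiniteField.even_card_of_char_two h2
    rw [Nat.odd_iff] at hodd
    omega
  rw [FiniteField.isSquare_iff hchar ((map_ne_zero j).mpr ha), ← map_pow]
  set k := Fintype.card K with hk
  have hkodd : Odd k := by
    by_contra hne
    rw [Nat.not_odd_iff_even] at hne
    have hm0 : m ≠ 0 := by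
      rintro rfl
      rw [pow_zero] at h
      have := Fintype.one_lt_card (α := F)
      omega
    have : Even (k ^ m) := (Nat.even_pow.mpr ⟨hne, hm0⟩)
    rw [h] at this
    exact (Nat.not_even_iff_odd.mpr hodd) this
  obtain ⟨m', hm'⟩ := hm
  have hk1 : 1 ≤ k := Fintype.card_pos
  have hk2 : 1 ≤ k ^ 2 := Nat.one_le_pow _ _ hk1
  have hq : Fintype.card F - 1 = (k ^ 2 - 1) * ∑ i ∈ Finset.range m', (k ^ 2) ^ i := by
    rw [← geom_nat _ _ hk2, ← h, hm', ← two_mul, pow_mul]
  obtain ⟨e, he⟩ := hkodd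
  have hk21 : k ^ 2 - 1 = (k - 1) * (2 * (e + 1)) := by
    have : k ^ 2 = (k - 1) * (2 * (e + 1)) + 1 := by
      rw [he]
      have : 2 * e + 1 - 1 = 2 * e := by omega
      rw [this]
      ring
    omega
  have hhalf : Fintype.card F / 2 = (k - 1) * ((e + 1) * ∑ i ∈ Finset.range m', (k ^ 2) ^ i) := by
    have hpos : 1 ≤ Fintype.card F := Fintype.card_pos
    have : Fintype.card F = 2 * ((k - 1) * ((e + 1) * ∑ i ∈ Finset.range m', (k ^ 2) ^ i)) + 1 := by
      have h3 : Fintype.card F - 1 =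
          2 * ((k - 1) * ((e + 1) * ∑ i ∈ Finset.range m', (k ^ 2) ^ i)) := by
        rw [hq, hk21]
        ring
      omega
    omega
  rw [hhalf, pow_mul, FiniteField.pow_card_sub_one_eq_one a ha, one_pow, map_one]

/-- the divisibility forced by Lagrange fails for `m` odd -/
theorem not_dvd_of_odd (k m N : ℕ) (hk : Odd k) (hk3 : 3 ≤ k) (hm : Odd m)
    (hN : 2 * N = k ^ m * ((k ^ m) ^ 2 - 1)) : ¬ k * (k ^ 2 - 1) ∣ N := by
  rintro ⟨c, hc⟩
  have hk1 : 1 ≤ k ^ 2 := Nat.one_le_pow _ _ (by omega)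
  have h1 : (k ^ m) ^ 2 - 1 = (k ^ 2 - 1) * ∑ i ∈ Finset.range m, (k ^ 2) ^ i := by
    rw [← geom_nat _ _ hk1, ← pow_mul, ← pow_mul, mul_comm]
  have hS : Odd (∑ i ∈ Finset.range m, (k ^ 2) ^ i) := (odd_geom _ _ hk.pow).mpr hm
  rw [h1, hc] at hN
  have hpos : 0 < k ^ 2 - 1 := by
    have : 2 ^ 2 ≤ k ^ 2 := Nat.pow_le_pow_left (by omega) 2
    omega
  have h2 : 2 * (k * c) = k ^ m * ∑ i ∈ Finset.range m, (k ^ 2) ^ i := by
    apply Nat.eq_of_mul_eq_mul_left hpos
    generalize (k ^ 2 - 1) = A at hN ⊢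
    generalize ∑ i ∈ Finset.range m, (k ^ 2) ^ i = B at hN ⊢
    calc A * (2 * (k * c)) = 2 * (k * A * c) := by ring
      _ = k ^ m * (A * B) := hN
      _ = A * (k ^ m * B) := by ring
  have h3 : Odd (k ^ m * ∑ i ∈ Finset.range m, (k ^ 2) ^ i) := hk.pow.mul hS
  rw [← h2] at h3
  exact (Nat.not_odd_iff_even.mpr (even_two_mul _)) h3

end arith

end Cfsg.Agent.Lib.Helper5.SubfieldPSL
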