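import Mathlib
import Cfsg.Agent.Lib.Helper5.MobWild3
import Cfsg.Agent.Lib.Helper5.SubfieldPSL
import Cfsg.Agent.Lib.Helper5.SO3PGL
import Cfsg.Agent.Lib.Helper4.SLCenter

set_option autoImplicit false

/-! The wild configuration in coordinates, part 4: the structure theorem. -/

namespace Cfsg.Agent.Lib.Helper5.MobWild

open Matrix Cfsg.Agent.Lib.Helper4 Cfsg.Agent.Lib.Helper5.Mob Cfsg.Agent.Lib.Helper5.MobPGL
open scoped LinearAlgebra.Projectivization MatrixGroups

variable {E : Type*} [Field E] [IsAlgClosed E] {G : Subgroup PGL(Fin 2, E)} {p : ℕ} [Fact p.Prime]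
  [CharP E p]

theorem sq_sub_one (q : ℕ) (hq : 1 ≤ q) : q ^ 2 - 1 = (q - 1) * (q + 1) := by
  obtain ⟨k, rfl⟩ : ∃ k, q = k + 1 := ⟨q - 1, by omega⟩
  apply Nat.sub_eq_of_eq_add
  simp only [Nat.add_sub_cancel]
  ring

/-- an abstract copy of the translation field -/
theorem WildHyp.exists_field [Finite G] (h : WildHyp G p) :
    ∃ (K : Type) (_ : Field K) (_ : Fintype K) (ι : K →+* E),
      Fintype.card K = Nat.card (trA G) ∧ ∀ a : E, a ∈ Set.range ι ↔ a ∈ trA G := by
  set K₀ := h.field with hK₀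
  have hfin : Finite K₀ := Finite.of_injective (fun x : K₀ => (⟨x.1, x.2⟩ : trA G))
    (fun a b hab => Subtype.ext (congrArg (fun z : trA G => (z : E)) hab))
  have : Fintype K₀ := Fintype.ofFinite K₀
  obtain ⟨n, -, hn⟩ := FiniteField.card K₀ p
  have : Fintype (GaloisField p n) := Fintype.ofFinite _
  have hcard : Fintype.card (GaloisField p n) = Fintype.card K₀ := by
    rw [hn, ← Nat.card_eq_fintype_card, GaloisField.card p n n.ne_zero]
  obtain ⟨e⟩ : Nonempty (GaloisField p n ≃+* K₀) :=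
    ⟨FiniteField.ringEquivOfCardEq hcard⟩
  refine ⟨GaloisField p n, inferInstance, inferInstance, K₀.subtype.comp e.toRingHom, ?_, ?_⟩
  · rw [hcard, ← Nat.card_eq_fintype_card]
    exact Nat.card_congr (Equiv.refl _)
  · intro a
    constructor
    · rintro ⟨k, rfl⟩
      exact (e k).2
    · intro ha
      exact ⟨e.symm ⟨a, ha⟩, by simp⟩

section main

variable {K : Type*} [Field K] [Fintype K] (ι : K →+* E)

/-- the embedding of `PSL₂(K)` -/
noncomputable def pslHom : Matrix.ProjectiveSpecialLinearGroup (Fin 2) K →* PGL(Fin 2, E) :=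
  (Matrix.ProjGenLinGroup.map ι).comp Matrix.ProjectiveSpecialLinearGroup.toPGL

omit [IsAlgClosed E] [Fintype K] in
theorem pslHom_injective : Function.Injective (pslHom ι) :=
  (SubfieldPSL.pglMap_injective ι).comp Matrix.ProjectiveSpecialLinearGroup.toPGL_injective

omit [Fintype K] in
theorem WildHyp.pslHom_range_le [Finite G] (h : WildHyp G p) (hι : ∀ a : K, ι a ∈ trA G) :
    (pslHom ι).range ≤ G := by
  rintro _ ⟨x, rfl⟩
  induction x using QuotientGroup.induction_on with | H s =>
  exact h.map_SL_mem ι hι s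

theorem WildHyp.card_G [Finite G] (h : WildHyp G p) :
    Nat.card G = (Nat.card (trA G) + 1) * (Nat.card (trA G) * Nat.card (mulC G)) := by
  have h1 := card_orbit_mul_card_stabilizer (G := G) (inf : ℙ E (Fin 2 → E))
  have h2 := h.card_stabilizer
  have h3 : Nat.card (MulAction.orbit G (inf : ℙ E (Fin 2 → E))) = Nat.card (trA G) + 1 := by
    rw [card_trA G p]; exact h.hn
  have h4 : Nat.card (MulAction.stabilizer G (inf : ℙ E (Fin 2 → E))) =
      Nat.card (trA G) * Nat.card (mulC G) := h2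
  rw [h3, h4] at h1
  exact h1.symm

theorem card_psl (q : ℕ) (hq : Fintype.card K = q) (hodd : q % 2 = 1) :
    2 * Nat.card (Matrix.ProjectiveSpecialLinearGroup (Fin 2) K) = q * ((q - 1) * (q + 1)) := by
  have h1 := card_PSL_mul (F := K) 2 (by norm_num)
  rw [card_SL2, hq] at h1
  have hq1 : 1 ≤ q := by omega
  rw [sq_sub_one q hq1] at h1
  have hg : Nat.gcd 2 (q - 1) = 2 := by
    apply Nat.gcd_eq_left
    omega
  rw [hg] at h1
  exact h1

theorem card_pgl (q : ℕ) (hq : Fintype.card K = q) :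
    Nat.card (Matrix.ProjGenLinGroup (Fin 2) K) = q * ((q - 1) * (q + 1)) := by
  have h1 := SO3PGL.card_PGL2 (F := K)
  rw [hq] at h1
  have hq1 : 1 ≤ q := by rw [← hq]; exact Fintype.card_pos
  rw [sq_sub_one q hq1] at h1
  exact h1

end main

end Cfsg.Agent.Lib.Helper5.MobWild
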