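import Mathlib
import Cfsg.Agent.Lib.Helper5.MobWild4
import Cfsg.Agent.Lib.Helper5.DicksonFrob

set_option autoImplicit false

/-! Orders of the `p'`-elements of `PSL₂(q)`. -/

namespace Cfsg.Agent.Lib.Helper5.DicksonCyc

open Matrix Cfsg.Agent.Lib.Helper4 Cfsg.Agent.Lib.Helper5.Mob Cfsg.Agent.Lib.Helper5.MobPGL
  Cfsg.Agent.Lib.Helper5.MobWild
open scoped LinearAlgebra.Projectivization MatrixGroups

variable {F E : Type*} [Field F] [Field E] (j : F →+* E)

theorem pslHom_mk (B : Matrix.SpecialLinearGroup (Fin 2) F) :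
    pslHom j (QuotientGroup.mk B : Matrix.ProjectiveSpecialLinearGroup (Fin 2) F) =
      Matrix.ProjGenLinGroup.mk (Matrix.GeneralLinearGroup.map j (Matrix.SpecialLinearGroup.toGL B)) :=
  rfl

/-- the trace relation: a conjugate `aff l b` of the image of `B ∈ SL₂(F)` has `l = u²` with
`u² - tr(B) u + 1 = 0` -/
theorem exists_eigen (B : Matrix.SpecialLinearGroup (Fin 2) F) (C : GL (Fin 2) E) (l : Eˣ) (b : E)
    (h : (Matrix.ProjGenLinGroup.mk C)⁻¹ *
      pslHom j (QuotientGroup.mk B : Matrix.ProjectiveSpecialLinearGroup (Fin 2) F) *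
        Matrix.ProjGenLinGroup.mk C = aff l b) :
    ∃ u : Eˣ, (u : E) ^ 2 = l ∧ (u : E) ^ 2 - j (B.1 0 0 + B.1 1 1) * u + 1 = 0 := by
  rw [pslHom_mk, ← map_inv, ← map_mul, ← map_mul] at h
  unfold aff at h
  obtain ⟨u, hu⟩ := Matrix.ProjGenLinGroup.mk_eq_mk_iff.mp h
  set A₀ := Matrix.GeneralLinearGroup.map j (Matrix.SpecialLinearGroup.toGL B) with hA₀
  have hval := congrArg Units.val hu
  rw [Units.val_mul, Matrix.GeneralLinearGroup.coe_scalar, Units.val_mul, Units.val_mul] at hval
  set T : Matrix (Fin 2) (Fin 2) E := (C⁻¹ : GL (Fin 2) E).val * A₀.val * C.val with hT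
  have htr : T.trace = j (B.1 0 0 + B.1 1 1) := by
    rw [hT, Matrix.trace_units_conj' C, Matrix.trace_fin_two, hA₀, map_add]
    rfl
  have hdet : T.det = 1 := by
    rw [hT, Matrix.det_units_conj' C, hA₀]
    have : (Matrix.GeneralLinearGroup.map j (Matrix.SpecialLinearGroup.toGL B)).val =
        (B.1).map j := rfl
    rw [this, ← RingHom.mapMatrix_apply, ← RingHom.map_det, B.2, map_one]
  have hscal : T * Matrix.scalar (Fin 2) (u : E) = (u : E) • T := by
    ext i j'
    simp [Matrix.scalar, Matrix.mul_diagonal, mul_comm]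
  rw [hscal] at hval
  have haff : (affGL l b).val = !![(l : E), b; 0, 1] := rfl
  rw [haff] at hval
  have h1 : (u : E) * T.trace = l + 1 := by
    have := congrArg Matrix.trace hval
    rw [Matrix.trace_smul, Matrix.trace_fin_two_of, smul_eq_mul] at this
    exact this
  have h2 : (u : E) ^ 2 * T.det = l := by
    have := congrArg Matrix.det hval
    rw [Matrix.det_smul, Fintype.card_fin, Matrix.det_fin_two_of] at this
    simpa using this
  rw [hdet, mul_one] at h2
  rw [htr] at h1
  refine ⟨u, h2, ?_⟩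
  rw [h2, mul_comm, h1]
  ring

/-- the Frobenius permutes the two roots of `X² - tX + 1` -/
theorem frob_root (φ : E →+* E) (hφ : φ.comp j = j) (t : F) (u : E)
    (hu : u ^ 2 - j t * u + 1 = 0) : u * φ u = 1 ∨ φ u = u := by
  have h1 : φ u ^ 2 - j t * φ u + 1 = 0 := by
    have := congrArg φ hu
    rw [map_add, map_sub, map_mul, map_pow, map_one, map_zero] at this
    have h2 : φ (j t) = j t := by
      rw [← RingHom.comp_apply, hφ]
    rw [h2] at this
    exact this
  have h3 : (u * φ u - 1) * (φ u - u) = 0 := by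
    linear_combination u * h1 - φ u * hu
  rcases mul_eq_zero.mp h3 with h | h
  · left; exact sub_eq_zero.mp h
  · right; exact sub_eq_zero.mp h

theorem exists_aff_pow (l : Eˣ) (b : E) (n : ℕ) : ∃ c : E, aff l b ^ n = aff (l ^ n) c := by
  induction n with
  | zero => exact ⟨0, by rw [pow_zero, pow_zero, aff_one]⟩
  | succ n ih =>
    obtain ⟨c, hc⟩ := ih
    exact ⟨(l ^ n : Eˣ) * b + c, by rw [pow_succ, hc, aff_mul, pow_succ]⟩

/-- the order of a `p'`-element fixing `∞` divides the order of its multiplier -/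
theorem orderOf_aff_dvd (p : ℕ) [Fact p.Prime] [CharP E p] (l : Eˣ) (b : E)
    (hp : ¬ p ∣ orderOf (aff l b)) : orderOf (aff l b) ∣ orderOf l := by
  obtain ⟨c, hc⟩ := exists_aff_pow l b (orderOf l)
  rw [pow_orderOf_eq_one] at hc
  have h1 : aff l b ^ (orderOf l * p) = 1 := by
    rw [pow_mul, hc, aff_one_pow, CharP.cast_eq_zero, zero_mul, aff_one]
  have h2 := orderOf_dvd_of_pow_eq_one h1
  have hcop : Nat.Coprime (orderOf (aff l b)) p :=
    (Nat.Coprime.symm ((Nat.Prime.coprime_iff_not_dvd (Fact.out : p.Prime)).mpr hp))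
  exact hcop.dvd_of_dvd_mul_right h2

variable [Fintype F] [IsAlgClosed E]

include j in
/-- the orders of the `p'`-elements of `PSL₂(q)` -/
theorem orderOf_dvd (p : ℕ) [Fact p.Prime] [CharP F p] [CharP E p]
    (h : Matrix.ProjectiveSpecialLinearGroup (Fin 2) F) (hk : ¬ p ∣ orderOf h) :
    orderOf h ∣ (Fintype.card F + 1) / Nat.gcd 2 (Fintype.card F - 1) ∨
      orderOf h ∣ (Fintype.card F - 1) / Nat.gcd 2 (Fintype.card F - 1) := by
  induction h using QuotientGroup.induction_on with | H B =>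
  set q := Fintype.card F with hq
  set g := pslHom j (QuotientGroup.mk B : Matrix.ProjectiveSpecialLinearGroup (Fin 2) F) with hg
  obtain ⟨x, hx⟩ := MobPGL.exists_fix g
  obtain ⟨γ, hγ⟩ := exists_smul_inf_eq x
  have hfix : (γ⁻¹ * g * γ) • (inf : ℙ E (Fin 2 → E)) = inf := by
    rw [mul_smul, mul_smul, hγ, hx, ← hγ, inv_smul_smul]
  obtain ⟨l, b, hlb⟩ := exists_aff_of_fix _ hfix
  induction γ using Matrix.ProjGenLinGroup.induction_on with | mk C =>
  obtain ⟨u, hul, hu⟩ := exists_eigen j B C l b hlb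
  have hord : orderOf (aff l b) =
      orderOf (QuotientGroup.mk B : Matrix.ProjectiveSpecialLinearGroup (Fin 2) F) := by
    rw [← hlb, ← orderOf_injective (pslHom j) (pslHom_injective j)]
    have : (Matrix.ProjGenLinGroup.mk C)⁻¹ * g * Matrix.ProjGenLinGroup.mk C =
        MulAut.conj (Matrix.ProjGenLinGroup.mk C)⁻¹ g := by
      simp [MulAut.conj_apply]
    rw [this, MulEquiv.orderOf_eq]
  rw [← hord] at hk ⊢
  have hdvd := orderOf_aff_dvd p l b hk
  obtain ⟨φ, hφ1, hφ2, -⟩ := DicksonFrob.exists_frob j p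
  have hq1 : 1 ≤ q := Fintype.card_pos
  have hlu : (l : E) = (u : E) ^ 2 := hul.symm
  have key : ∀ m : ℕ, (u : E) ^ (2 * m) = 1 → orderOf l ∣ m := by
    intro m hm
    apply orderOf_dvd_of_pow_eq_one
    apply Units.ext
    rw [Units.val_pow_eq_pow_val, hlu, ← pow_mul, hm, Units.val_one]
  rcases frob_root j φ hφ2 _ _ hu with h1 | h1
  · left
    rw [hφ1] at h1
    have hu1 : (u : E) ^ (q + 1) = 1 := by rw [pow_succ, mul_comm]; exact h1
    refine dvd_trans hdvd (key _ ?_)
    rcases Nat.even_or_odd q with he | ho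
    · have hg1 : Nat.gcd 2 (q - 1) = 1 := by
        have : Odd (q - 1) := by
          rcases he with ⟨r, hr⟩
          exact ⟨r - 1, by omega⟩
        exact (Nat.coprime_two_left.mpr this)
      rw [hg1, Nat.div_one, mul_comm, pow_mul, hu1, one_pow]
    · have hg1 : Nat.gcd 2 (q - 1) = 2 := by
        apply Nat.gcd_eq_left
        rcases ho with ⟨r, hr⟩
        exact ⟨r, by omega⟩
      rw [hg1]
      have : 2 * ((q + 1) / 2) = q + 1 := by
        rcases ho with ⟨r, hr⟩
        omega
      rw [this, hu1]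
  · right
    rw [hφ1] at h1
    have hu1 : (u : E) ^ (q - 1) = 1 := by
      have h2 : (u : E) ^ (q - 1) * u = u := by
        rw [← pow_succ, Nat.sub_add_cancel hq1]; exact h1
      have h3 : (u : E) ≠ 0 := u.ne_zero
      exact mul_right_cancel₀ h3 (by rw [h2, one_mul])
    refine dvd_trans hdvd (key _ ?_)
    rcases Nat.even_or_odd q with he | ho
    · have hg1 : Nat.gcd 2 (q - 1) = 1 := by
        have : Odd (q - 1) := by
          rcases he with ⟨r, hr⟩
          exact ⟨r - 1, by omega⟩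
        exact (Nat.coprime_two_left.mpr this)
      rw [hg1, Nat.div_one, mul_comm, pow_mul, hu1, one_pow]
    · have hg1 : Nat.gcd 2 (q - 1) = 2 := by
        apply Nat.gcd_eq_left
        rcases ho with ⟨r, hr⟩
        exact ⟨r, by omega⟩
      rw [hg1]
      have : 2 * ((q - 1) / 2) = q - 1 := by
        rcases ho with ⟨r, hr⟩
        omega
      rw [this, hu1]

end Cfsg.Agent.Lib.Helper5.DicksonCyc
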