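import Mathlib
import Cfsg.Agent.Lib.Helper5.MobPGL

set_option autoImplicit false

/-! Base change of points of the projective line, and rational points. -/

namespace Cfsg.Agent.Lib.Helper5.MobRat

open Matrix Cfsg.Agent.Lib.Helper4 Cfsg.Agent.Lib.Helper5.Mob Cfsg.Agent.Lib.Helper5.MobPGL
open scoped LinearAlgebra.Projectivization MatrixGroups

variable {K L : Type*} [Field K] [Field L]

/-- coordinatewise application of a ring homomorphism -/
def vecMap (σ : K →+* L) : (Fin 2 → K) →ₛₗ[σ] (Fin 2 → L) where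
  toFun v := fun i => σ (v i)
  map_add' v w := by funext i; simp
  map_smul' c v := by funext i; simp

theorem vecMap_apply (σ : K →+* L) (v : Fin 2 → K) (i : Fin 2) : vecMap σ v i = σ (v i) := rfl

theorem vecMap_injective (σ : K →+* L) : Function.Injective (vecMap σ) := by
  intro v w h
  funext i
  exact σ.injective (congrFun h i)

/-- base change of points -/
noncomputable def ptMap (σ : K →+* L) : ℙ K (Fin 2 → K) → ℙ L (Fin 2 → L) :=
  Projectivization.map (vecMap σ) (vecMap_injective σ)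

theorem ptMap_mk (σ : K →+* L) (v : Fin 2 → K) (hv : v ≠ 0) :
    ptMap σ (Projectivization.mk K v hv) =
      Projectivization.mk L (vecMap σ v) (map_zero (vecMap σ) ▸ (vecMap_injective σ).ne hv) :=
  rfl

theorem ptMap_inf (σ : K →+* L) : ptMap σ (inf : ℙ K (Fin 2 → K)) = inf := by
  unfold inf
  rw [ptMap_mk, mk_eq_mk_iff_cross]
  simp [cross, vecMap_apply]

theorem ptMap_fin (σ : K →+* L) (z : K) : ptMap σ (fin z) = fin (σ z) := by
  unfold fin
  rw [ptMap_mk, mk_eq_mk_iff_cross]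
  simp [cross, vecMap_apply]

theorem ptMap_injective (σ : K →+* L) : Function.Injective (ptMap σ) := by
  intro x y h
  rcases eq_inf_or_fin x with rfl | ⟨z, rfl⟩ <;> rcases eq_inf_or_fin y with rfl | ⟨w, rfl⟩
  · rfl
  · rw [ptMap_inf, ptMap_fin] at h
    exact absurd h.symm (fin_ne_inf _)
  · rw [ptMap_inf, ptMap_fin] at h
    exact absurd h (fin_ne_inf _)
  · rw [ptMap_fin, ptMap_fin] at h
    rw [σ.injective (fin_injective h)]

theorem vecMap_smul (σ : K →+* L) (g : GL (Fin 2) K) (v : Fin 2 → K) :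
    vecMap σ (g • v) = (Matrix.GeneralLinearGroup.map σ g) • vecMap σ v := by
  show vecMap σ ((g : Matrix (Fin 2) (Fin 2) K) *ᵥ v) =
    ((Matrix.GeneralLinearGroup.map σ g : GL (Fin 2) L) : Matrix (Fin 2) (Fin 2) L) *ᵥ vecMap σ v
  funext i
  fin_cases i <;> simp [vecMap_apply, Matrix.mulVec, dotProduct, Fin.sum_univ_two]

theorem ptMap_smul (σ : K →+* L) (g : PGL(Fin 2, K)) (x : ℙ K (Fin 2 → K)) :
    ptMap σ (g • x) = Matrix.ProjGenLinGroup.map σ g • ptMap σ x := by
  induction g using Matrix.ProjGenLinGroup.induction_on with | mk A =>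
  induction x using Projectivization.ind with | _ v hv =>
  rw [Projectivization.PGL.mk_smul_mk, ptMap_mk, ptMap_mk, Matrix.ProjGenLinGroup.map_mk,
    Projectivization.PGL.mk_smul_mk]
  congr 1
  exact vecMap_smul σ A v

theorem ptMap_comp {M : Type*} [Field M] (σ : K →+* L) (τ : L →+* M) (x : ℙ K (Fin 2 → K)) :
    ptMap τ (ptMap σ x) = ptMap (τ.comp σ) x := by
  rcases eq_inf_or_fin x with rfl | ⟨z, rfl⟩
  · rw [ptMap_inf, ptMap_inf, ptMap_inf]
  · rw [ptMap_fin, ptMap_fin, ptMap_fin]; rfl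

section rational

variable {F E : Type*} [Field F] [Field E] (j : F →+* E)

/-- rational points -/
def IsRat (x : ℙ E (Fin 2 → E)) : Prop := x ∈ Set.range (ptMap j)

/-- the rational elements -/
noncomputable def ratGroup : Subgroup PGL(Fin 2, E) := (Matrix.ProjGenLinGroup.map j).range

theorem isRat_inf : IsRat j (inf : ℙ E (Fin 2 → E)) := ⟨inf, ptMap_inf j⟩

theorem isRat_fin (a : F) : IsRat j (fin (j a)) := ⟨fin a, ptMap_fin j a⟩

theorem isRat_fin_iff (z : E) : IsRat j (fin z) ↔ z ∈ Set.range j := by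
  constructor
  · rintro ⟨x, hx⟩
    rcases eq_inf_or_fin x with rfl | ⟨a, rfl⟩
    · rw [ptMap_inf] at hx
      exact absurd hx.symm (fin_ne_inf _)
    · rw [ptMap_fin] at hx
      exact ⟨a, fin_injective hx⟩
  · rintro ⟨a, rfl⟩
    exact isRat_fin j a

theorem isRat_smul {g : PGL(Fin 2, E)} (hg : g ∈ ratGroup j) {x : ℙ E (Fin 2 → E)}
    (hx : IsRat j x) : IsRat j (g • x) := by
  obtain ⟨B, rfl⟩ := hg
  obtain ⟨y, rfl⟩ := hx
  exact ⟨B • y, ptMap_smul j B y⟩

/-- a field endomorphism fixing the image of `j` commutes with the rational elements -/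
theorem ptMap_smul_of_mem_ratGroup (φ : E →+* E) (hφ : φ.comp j = j) {g : PGL(Fin 2, E)}
    (hg : g ∈ ratGroup j) (x : ℙ E (Fin 2 → E)) : ptMap φ (g • x) = g • ptMap φ x := by
  obtain ⟨B, rfl⟩ := hg
  rw [ptMap_smul]
  congr 1
  have := Matrix.ProjGenLinGroup.map_comp (n := Fin 2) j φ
  rw [hφ] at this
  exact (DFunLike.congr_fun this B).symm

/-- Frobenius criterion for rationality -/
theorem isRat_of_ptMap_eq (φ : E →+* E) (hfix : ∀ z : E, φ z = z → z ∈ Set.range j)
    {x : ℙ E (Fin 2 → E)} (hx : ptMap φ x = x) : IsRat j x := by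
  rcases eq_inf_or_fin x with rfl | ⟨z, rfl⟩
  · exact isRat_inf j
  · rw [ptMap_fin] at hx
    exact (isRat_fin_iff j z).mpr (hfix z (fin_injective hx))

/-- the unique fixed point of a rational element is rational -/
theorem isRat_of_onlyFix (φ : E →+* E) (hφ : φ.comp j = j)
    (hfix : ∀ z : E, φ z = z → z ∈ Set.range j) {g : PGL(Fin 2, E)} (hg : g ∈ ratGroup j)
    {x : ℙ E (Fin 2 → E)} (hx : OnlyFix g x) : IsRat j x := by
  apply isRat_of_ptMap_eq j φ hfix
  apply hx.2
  rw [← ptMap_smul_of_mem_ratGroup j φ hφ hg, hx.1]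

/-- the rational elements are three-transitive on the rational points -/
theorem exists_ratGroup_frame {x y z : ℙ E (Fin 2 → E)} (hx : IsRat j x) (hy : IsRat j y)
    (hz : IsRat j z) (hxy : x ≠ y) (hxz : x ≠ z) (hyz : y ≠ z) :
    ∃ γ ∈ ratGroup j, γ • x = inf ∧ γ • y = fin 0 ∧ γ • z = fin 1 := by
  obtain ⟨x', rfl⟩ := hx
  obtain ⟨y', rfl⟩ := hy
  obtain ⟨z', rfl⟩ := hz
  have hinj : Function.Injective ![x', y', z'] := by
    intro a b hab
    fin_cases a <;> fin_cases b <;> simp at hab <;> first | rfl | (exfalso; subst hab; simp at *)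
  obtain ⟨g, hg⟩ := exists_frame (F := F) ![x', y', z'] hinj
  refine ⟨Matrix.ProjGenLinGroup.map j (Matrix.ProjGenLinGroup.mk g)⁻¹, ⟨_, rfl⟩, ?_, ?_, ?_⟩
  · rw [← ptMap_smul]
    have h0 := hg 0
    have : (Matrix.ProjGenLinGroup.mk g : PGL(Fin 2, F))⁻¹ • x' = inf := by
      rw [inv_smul_eq_iff]
      exact h0.symm
    rw [this, ptMap_inf]
  · rw [← ptMap_smul]
    have h1 := hg 1
    have : (Matrix.ProjGenLinGroup.mk g : PGL(Fin 2, F))⁻¹ • y' = fin 0 := by
      rw [inv_smul_eq_iff]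
      exact h1.symm
    rw [this, ptMap_fin, map_zero]
  · rw [← ptMap_smul]
    have h2 := hg 2
    have : (Matrix.ProjGenLinGroup.mk g : PGL(Fin 2, F))⁻¹ • z' = fin 1 := by
      rw [inv_smul_eq_iff]
      exact h2.symm
    rw [this, ptMap_fin, map_one]

end rational

end Cfsg.Agent.Lib.Helper5.MobRat
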