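import Mathlib
import Cfsg.Agent.Lib.Helper5.MobWild4
import Cfsg.Agent.Lib.Helper5.MobRat
import Cfsg.Agent.Lib.Helper5.DicksonCyc

set_option autoImplicit false

/-! The Borel subgroup of `PSL₂(q)` and its unipotent radical, seen inside `PGL₂` of the
algebraic closure. -/

namespace Cfsg.Agent.Lib.Helper5.DicksonBorel

open Matrix Cfsg.Agent.Lib.Helper4 Cfsg.Agent.Lib.Helper5.Mob Cfsg.Agent.Lib.Helper5.MobPGL
  Cfsg.Agent.Lib.Helper5.MobWild Cfsg.Agent.Lib.Helper5.MobRat
open Cfsg.Agent.Lib.Helper1.SL2Three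
open scoped LinearAlgebra.Projectivization MatrixGroups

variable {F E : Type*} [Field F] [Field E] (j : F →+* E)

/-- the unipotent radical of the Borel subgroup -/
noncomputable def borelU : Subgroup (Matrix.ProjectiveSpecialLinearGroup (Fin 2) F) where
  carrier := {h | ∃ a : E, pslHom j h = aff 1 a}
  one_mem' := ⟨0, by rw [map_one, aff_one]⟩
  mul_mem' := by
    rintro x y ⟨a, ha⟩ ⟨b, hb⟩
    exact ⟨a + b, by rw [map_mul, ha, hb, aff_one_add]⟩
  inv_mem' := by
    rintro x ⟨a, ha⟩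
    exact ⟨-a, by rw [map_inv, ha, aff_one_neg]⟩

/-- the Borel subgroup -/
noncomputable def borelB : Subgroup (Matrix.ProjectiveSpecialLinearGroup (Fin 2) F) :=
  (MulAction.stabilizer PGL(Fin 2, E) (inf : ℙ E (Fin 2 → E))).comap (pslHom j)

theorem mem_borelB (h : Matrix.ProjectiveSpecialLinearGroup (Fin 2) F) :
    h ∈ borelB j ↔ pslHom j h • (inf : ℙ E (Fin 2 → E)) = inf := Iff.rfl

theorem mem_borelU (h : Matrix.ProjectiveSpecialLinearGroup (Fin 2) F) :
    h ∈ borelU j ↔ ∃ a : E, pslHom j h = aff 1 a := Iff.rfl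

theorem conj_aff (l : Eˣ) (c a : E) : aff l c * aff 1 a * (aff l c)⁻¹ = aff 1 ((l : E) * a) := by
  rw [mul_inv_eq_iff_eq_mul, aff_mul, aff_mul]
  congr 1
  · simp
  · simp [add_comm]

theorem borelB_le_normalizer :
    borelB j ≤ Subgroup.normalizer ((borelU j : Subgroup _) : Set _) := by
  intro b hb
  rw [mem_borelB] at hb
  obtain ⟨l, c, hlc⟩ := exists_aff_of_fix _ hb
  rw [Subgroup.mem_normalizer_iff]
  intro h
  rw [mem_borelU, mem_borelU]
  constructor
  · rintro ⟨a, ha⟩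
    exact ⟨(l : E) * a, by rw [map_mul, map_mul, map_inv, hlc, ha, conj_aff]⟩
  · rintro ⟨a, ha⟩
    rw [map_mul, map_mul, map_inv, hlc] at ha
    refine ⟨((l⁻¹ : Eˣ) : E) * a, ?_⟩
    have h1 : pslHom j h = (aff l c)⁻¹ * aff 1 a * (aff l c)⁻¹⁻¹ := by
      rw [← ha]; group
    rw [h1, aff_inv, conj_aff]

theorem isPGroup_borelU (p : ℕ) [Fact p.Prime] [CharP E p] : IsPGroup p (borelU j) := by
  intro g
  refine ⟨1, ?_⟩
  obtain ⟨a, ha⟩ := g.2
  apply Subtype.ext
  apply pslHom_injective j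
  rw [pow_one, Subgroup.coe_pow, map_pow, ha, aff_one_pow, CharP.cast_eq_zero, zero_mul, aff_one,
    Subgroup.coe_one, map_one]

theorem pslHom_mem_ratGroup (h : Matrix.ProjectiveSpecialLinearGroup (Fin 2) F) :
    pslHom j h ∈ ratGroup j := ⟨_, rfl⟩

theorem pslHom_xmat (a : F) :
    pslHom j (QuotientGroup.mk (xmat F a) : Matrix.ProjectiveSpecialLinearGroup (Fin 2) F) =
      aff 1 (j a) := map_xmat j a

/-- translations in the image of `PSL₂(F)` are rational -/
theorem mem_range_of_aff_mem_ratGroup {a : E} (h : aff 1 a ∈ ratGroup j) : a ∈ Set.range j := by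
  have h1 : IsRat j (fin (0 : E)) := by
    have := isRat_fin j 0
    rwa [map_zero] at this
  have h2 := isRat_smul j h h1
  rw [aff_smul_fin] at h2
  have : ((1 : Eˣ) : E) * 0 + a = a := by simp
  rw [this] at h2
  exact (isRat_fin_iff j a).mp h2

theorem card_borelU [Fintype F] : Nat.card (borelU j) = Fintype.card F := by
  rw [← Nat.card_eq_fintype_card]
  symm
  let f : F → borelU j := fun a =>
    ⟨(QuotientGroup.mk (xmat F a) : Matrix.ProjectiveSpecialLinearGroup (Fin 2) F),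
      ⟨j a, pslHom_xmat j a⟩⟩
  apply Nat.card_congr (Equiv.ofBijective f ⟨?_, ?_⟩)
  · intro a b hab
    have h1 : pslHom j (f a).1 = pslHom j (f b).1 := by rw [hab]
    have h2 : aff (1 : Eˣ) (j a) = aff 1 (j b) := by
      rw [← pslHom_xmat, ← pslHom_xmat]; exact h1
    exact j.injective (aff_inj h2).2
  · rintro ⟨u, a, ha⟩
    have h1 : aff 1 a ∈ ratGroup j := by rw [← ha]; exact pslHom_mem_ratGroup j u
    obtain ⟨a', rfl⟩ := mem_range_of_aff_mem_ratGroup j h1
    refine ⟨a', Subtype.ext ?_⟩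
    apply pslHom_injective j
    show pslHom j (QuotientGroup.mk (xmat F a') : Matrix.ProjectiveSpecialLinearGroup (Fin 2) F) = _
    rw [pslHom_xmat, ha]

theorem not_dvd_index_borelU [Fintype F] (p : ℕ) [Fact p.Prime] [CharP F p] :
    ¬ p ∣ (borelU j).index := by
  intro hdvd
  set q := Fintype.card F with hq
  obtain ⟨n, -, hn⟩ := FiniteField.card F p
  have hpq : p ∣ q := by
    rw [hq, hn]; exact dvd_pow_self p n.ne_zero
  have h1 := Subgroup.card_mul_index (borelU j)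
  rw [card_borelU] at h1
  have h2 := card_PSL_mul (F := F) 2 (by norm_num)
  rw [card_SL2, ← h1, ← hq] at h2
  have hq0 : 0 < q := Fintype.card_pos
  have h3 : Nat.gcd 2 (q - 1) * (borelU j).index = q ^ 2 - 1 := by
    apply Nat.eq_of_mul_eq_mul_left hq0
    rw [← h2]; ring
  have h4 : p ∣ q ^ 2 - 1 := by rw [← h3]; exact Dvd.dvd.mul_left hdvd _
  have h5 : p ∣ q ^ 2 := Dvd.dvd.pow hpq (by norm_num)
  have h6 : 1 ≤ q ^ 2 := Nat.one_le_pow _ _ hq0
  have h7 : p ∣ q ^ 2 - (q ^ 2 - 1) := Nat.dvd_sub h5 h4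
  have h8 : q ^ 2 - (q ^ 2 - 1) = 1 := by omega
  rw [h8, Nat.dvd_one] at h7
  exact (Fact.out : p.Prime).one_lt.ne' h7

/-- a Sylow `p`-subgroup of `PSL₂(F)` normalised by the Borel subgroup -/
theorem exists_sylow [Fintype F] (p : ℕ) [Fact p.Prime] [CharP F p] [CharP E p] :
    ∃ P : Sylow p (Matrix.ProjectiveSpecialLinearGroup (Fin 2) F),
      borelB j ≤ Subgroup.normalizer ((P : Subgroup (Matrix.ProjectiveSpecialLinearGroup (Fin 2) F)) :
        Set (Matrix.ProjectiveSpecialLinearGroup (Fin 2) F)) := by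
  refine ⟨(isPGroup_borelU j p).toSylow (not_dvd_index_borelU j p), ?_⟩
  rw [IsPGroup.toSylow_coe]
  exact borelB_le_normalizer j

/-- `PSL₂(F)` is transitive on the rational points -/
theorem exists_smul_inf_eq_of_isRat {x : ℙ E (Fin 2 → E)} (hx : IsRat j x) :
    ∃ g : Matrix.ProjectiveSpecialLinearGroup (Fin 2) F,
      pslHom j g • (inf : ℙ E (Fin 2 → E)) = x := by
  obtain ⟨x', rfl⟩ := hx
  rcases eq_inf_or_fin x' with rfl | ⟨a, rfl⟩
  · exact ⟨1, by rw [map_one, one_smul, ptMap_inf]⟩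
  · set s : Matrix.SpecialLinearGroup (Fin 2) F :=
      ⟨!![a, -1; 1, 0], by simp [Matrix.det_fin_two_of]⟩ with hs
    refine ⟨QuotientGroup.mk s, ?_⟩
    rw [ptMap_fin, DicksonCyc.pslHom_mk]
    unfold inf fin
    rw [Projectivization.PGL.mk_smul_mk, mk_eq_mk_iff_cross]
    have : (Matrix.GeneralLinearGroup.map j (Matrix.SpecialLinearGroup.toGL s)) •
        (![1, 0] : Fin 2 → E) = ![j a, 1] := by
      show (!![a, -1; 1, 0] : Matrix (Fin 2) (Fin 2) F).map j *ᵥ ![1, 0] = _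
      funext i; fin_cases i <;> simp [Matrix.mulVec, dotProduct, Fin.sum_univ_two]
    rw [this]
    simp [Cfsg.Agent.Lib.Helper4.cross, mul_comm]

end Cfsg.Agent.Lib.Helper5.DicksonBorel
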