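import Mathlib
import Cfsg.Agent.Lib.Helper5.DicksonBorel

set_option autoImplicit false

/-! More on the Borel subgroup of `PSL₂(q)`: its order, its character, and the normalisers of the
Sylow `p`-subgroups. -/

namespace Cfsg.Agent.Lib.Helper5.DicksonBorel

open Matrix Cfsg.Agent.Lib.Helper4 Cfsg.Agent.Lib.Helper5.Mob Cfsg.Agent.Lib.Helper5.MobPGL
  Cfsg.Agent.Lib.Helper5.MobWild Cfsg.Agent.Lib.Helper5.MobRat
open Cfsg.Agent.Lib.Helper1.SL2Three
open scoped LinearAlgebra.Projectivization MatrixGroups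

variable {F E : Type*} [Field F] [Field E] (j : F →+* E)

/-- the multiplier character of the Borel subgroup -/
noncomputable def borelChi : borelB j →* Eˣ :=
  chiInf.comp
    { toFun := fun b => (⟨pslHom j b.1, b.2⟩ :
        MulAction.stabilizer PGL(Fin 2, E) (inf : ℙ E (Fin 2 → E)))
      map_one' := Subtype.ext (map_one _)
      map_mul' := fun _ _ => Subtype.ext (map_mul _ _ _) }

theorem borelChi_eq_one_iff (b : borelB j) : borelChi j b = 1 ↔ b.1 ∈ borelU j := by
  obtain ⟨l, c, hlc⟩ := exists_aff_of_fix _ b.2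
  have h1 : borelChi j b = l := by
    have h2 := eq_aff (⟨pslHom j b.1, b.2⟩ :
        MulAction.stabilizer PGL(Fin 2, E) (inf : ℙ E (Fin 2 → E)))
    have h3 : aff l c = aff (lamOf (⟨pslHom j b.1, b.2⟩ :
        MulAction.stabilizer PGL(Fin 2, E) (inf : ℙ E (Fin 2 → E)))) (trOf (⟨pslHom j b.1, b.2⟩ :
        MulAction.stabilizer PGL(Fin 2, E) (inf : ℙ E (Fin 2 → E)))) := by
      rw [← hlc]; exact h2
    exact (aff_inj h3).1.symm
  rw [h1, mem_borelU]
  constructor
  · rintro rfl
    exact ⟨c, hlc⟩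
  · rintro ⟨a, ha⟩
    rw [hlc] at ha
    exact (aff_inj ha).1

theorem borelU_le_borelB : borelU j ≤ borelB j := by
  rintro u ⟨a, ha⟩
  rw [mem_borelB, ha, aff_smul_inf]

/-- commutators of the Borel subgroup are unipotent -/
theorem commutator_mem_borelU {a b : Matrix.ProjectiveSpecialLinearGroup (Fin 2) F}
    (ha : a ∈ borelB j) (hb : b ∈ borelB j) : a * b * a⁻¹ * b⁻¹ ∈ borelU j := by
  have hmem : a * b * a⁻¹ * b⁻¹ ∈ borelB j :=
    (borelB j).mul_mem ((borelB j).mul_mem ((borelB j).mul_mem ha hb) ((borelB j).inv_mem ha))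
      ((borelB j).inv_mem hb)
  have := (borelChi_eq_one_iff j ⟨_, hmem⟩).mp (by
    have h1 : (⟨a * b * a⁻¹ * b⁻¹, hmem⟩ : borelB j) =
        (⟨a, ha⟩ : borelB j) * ⟨b, hb⟩ * (⟨a, ha⟩ : borelB j)⁻¹ * (⟨b, hb⟩ : borelB j)⁻¹ := rfl
    rw [h1, map_mul, map_mul, map_mul, map_inv, map_inv]
    exact mul_inv_eq_one.mpr (by rw [mul_inv_eq_iff_eq_mul, mul_comm]))
  exact this

theorem comm_borelU {a b : Matrix.ProjectiveSpecialLinearGroup (Fin 2) F}
    (ha : a ∈ borelU j) (hb : b ∈ borelU j) : a * b = b * a := by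
  obtain ⟨x, hx⟩ := ha
  obtain ⟨y, hy⟩ := hb
  apply pslHom_injective j
  rw [map_mul, map_mul, hx, hy, ← aff_one_add, ← aff_one_add, add_comm]

theorem onlyFix_of_mem_borelU {u : Matrix.ProjectiveSpecialLinearGroup (Fin 2) F}
    (hu : u ∈ borelU j) (hu1 : u ≠ 1) : OnlyFix (pslHom j u) (inf : ℙ E (Fin 2 → E)) := by
  obtain ⟨a, ha⟩ := hu
  rw [ha]
  have h1 := (aff_unipotent_iff (1 : Eˣ) a).mpr rfl
  rcases h1 with h | h
  · exfalso
    apply hu1
    apply pslHom_injective j
    rw [ha, h, map_one]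
  · exact h

theorem exists_ne_one_mem_borelU :
    ∃ u : Matrix.ProjectiveSpecialLinearGroup (Fin 2) F, u ∈ borelU j ∧ u ≠ 1 := by
  refine ⟨QuotientGroup.mk (xmat F 1), ⟨j 1, pslHom_xmat j 1⟩, ?_⟩
  intro h
  have h1 := pslHom_xmat j (1 : F)
  rw [h, map_one, ← aff_one] at h1
  have := (aff_inj h1).2
  rw [map_one] at this
  exact one_ne_zero this.symm

/-- the normaliser of the unipotent radical is the Borel subgroup -/
theorem normalizer_borelU :
    Subgroup.normalizer ((borelU j : Subgroup (Matrix.ProjectiveSpecialLinearGroup (Fin 2) F)) :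
      Set (Matrix.ProjectiveSpecialLinearGroup (Fin 2) F)) = borelB j := by
  apply le_antisymm _ (borelB_le_normalizer j)
  intro n hn
  rw [Subgroup.mem_normalizer_iff] at hn
  obtain ⟨u, hu, hu1⟩ := exists_ne_one_mem_borelU j
  have h1 : n * u * n⁻¹ ∈ borelU j := (hn u).mp hu
  have h2 : n * u * n⁻¹ ≠ 1 := by
    intro h
    apply hu1
    have : u = n⁻¹ * (n * u * n⁻¹) * n := by group
    rw [this, h]; group
  have h3 := onlyFix_of_mem_borelU j h1 h2
  have h4 := onlyFix_of_mem_borelU j hu hu1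
  rw [map_mul, map_mul, map_inv] at h3
  have h5 := (Cfsg.Agent.Lib.Helper5.Mob.onlyFix_conj (pslHom j n) (pslHom j u)
    (inf : ℙ E (Fin 2 → E))).mpr h4
  rw [mem_borelB]
  exact h3.2 _ h5.1

/-- the orbit of `∞` under `PSL₂(F)` consists of the rational points -/
theorem index_borelB [Fintype F] : (borelB j).index = Fintype.card F + 1 := by
  let _ : MulAction (Matrix.ProjectiveSpecialLinearGroup (Fin 2) F) (ℙ E (Fin 2 → E)) :=
    MulAction.compHom _ (pslHom j)
  have hsmul : ∀ (g : Matrix.ProjectiveSpecialLinearGroup (Fin 2) F) (x : ℙ E (Fin 2 → E)),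
      g • x = pslHom j g • x := fun _ _ => rfl
  have hstab : MulAction.stabilizer (Matrix.ProjectiveSpecialLinearGroup (Fin 2) F)
      (inf : ℙ E (Fin 2 → E)) = borelB j := by
    ext g
    rw [MulAction.mem_stabilizer_iff, hsmul, mem_borelB]
  have horb : MulAction.orbit (Matrix.ProjectiveSpecialLinearGroup (Fin 2) F)
      (inf : ℙ E (Fin 2 → E)) = insert inf ((fun a : F => fin (j a)) '' Set.univ) := by
    ext x
    constructor
    · rintro ⟨g, rfl⟩
      have h1 : IsRat j (pslHom j g • (inf : ℙ E (Fin 2 → E))) :=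
        isRat_smul j (pslHom_mem_ratGroup j g) (isRat_inf j)
      obtain ⟨y, hy⟩ := h1
      rcases eq_inf_or_fin y with rfl | ⟨a, rfl⟩
      · left
        show pslHom j g • (inf : ℙ E (Fin 2 → E)) = inf
        rw [← hy, ptMap_inf]
      · right
        refine ⟨a, Set.mem_univ _, ?_⟩
        show fin (j a) = pslHom j g • (inf : ℙ E (Fin 2 → E))
        rw [← hy, ptMap_fin]
    · rintro (rfl | ⟨a, -, rfl⟩)
      · exact MulAction.mem_orbit_self _
      · obtain ⟨g, hg⟩ := exists_smul_inf_eq_of_isRat j (isRat_fin j a)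
        exact ⟨g, hg⟩
  rw [← hstab, MulAction.index_stabilizer, horb, Set.ncard_insert_of_notMem,
    Set.ncard_image_of_injective, Set.ncard_univ, Nat.card_eq_fintype_card]
  · intro a b hab
    exact j.injective (MobPGL.fin_injective hab)
  · rintro ⟨a, -, ha⟩
    exact fin_ne_inf _ ha

theorem card_borelB [Fintype F] :
    Nat.gcd 2 (Fintype.card F - 1) * Nat.card (borelB j) = Fintype.card F * (Fintype.card F - 1) := by
  set q := Fintype.card F with hq
  have h1 := Subgroup.card_mul_index (borelB j)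
  rw [index_borelB, ← hq] at h1
  have h2 := card_PSL_mul (F := F) 2 (by norm_num)
  rw [card_SL2, ← h1, ← hq] at h2
  have hq1 : 1 ≤ q := Fintype.card_pos
  rw [sq_sub_one q hq1] at h2
  have h3 : 0 < q + 1 := by omega
  apply Nat.eq_of_mul_eq_mul_right h3
  rw [← mul_assoc] at h2
  rw [h2]; ring

end Cfsg.Agent.Lib.Helper5.DicksonBorel
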