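import Mathlib
import Cfsg.Agent.Lib.Helper5.DicksonBorel2

set_option autoImplicit false

/-! The normalisers of the Sylow `p`-subgroups of `PSL₂(q)`. -/

namespace Cfsg.Agent.Lib.Helper5.DicksonBorel

open Matrix Cfsg.Agent.Lib.Helper4 Cfsg.Agent.Lib.Helper5.Mob Cfsg.Agent.Lib.Helper5.MobPGL
  Cfsg.Agent.Lib.Helper5.MobWild Cfsg.Agent.Lib.Helper5.MobRat
open scoped LinearAlgebra.Projectivization MatrixGroups Pointwise

variable {F E : Type*} [Field F] [Fintype F] [Field E] (j : F →+* E)
  (p : ℕ) [Fact p.Prime] [CharP F p] [CharP E p]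

/-- every Sylow `p`-subgroup is conjugate to the unipotent radical, and its normaliser to the
Borel subgroup -/
theorem exists_conj_sylow (P : Sylow p (Matrix.ProjectiveSpecialLinearGroup (Fin 2) F)) :
    ∃ g : Matrix.ProjectiveSpecialLinearGroup (Fin 2) F,
      (P : Subgroup (Matrix.ProjectiveSpecialLinearGroup (Fin 2) F)) =
        (borelU j).map (MulAut.conj g).toMonoidHom ∧
      Subgroup.normalizer ((P : Subgroup (Matrix.ProjectiveSpecialLinearGroup (Fin 2) F)) :
        Set (Matrix.ProjectiveSpecialLinearGroup (Fin 2) F)) =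
        (borelB j).map (MulAut.conj g).toMonoidHom := by
  set P₀ : Sylow p (Matrix.ProjectiveSpecialLinearGroup (Fin 2) F) :=
    (isPGroup_borelU j p).toSylow (not_dvd_index_borelU j p) with hP₀
  obtain ⟨g, hg⟩ := MulAction.exists_smul_eq (Matrix.ProjectiveSpecialLinearGroup (Fin 2) F) P₀ P
  have h1 : (P : Subgroup (Matrix.ProjectiveSpecialLinearGroup (Fin 2) F)) =
      (borelU j).map (MulAut.conj g).toMonoidHom := by
    rw [← hg]
    have h2 : ((g • P₀ : Sylow p (Matrix.ProjectiveSpecialLinearGroup (Fin 2) F)) :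
        Subgroup (Matrix.ProjectiveSpecialLinearGroup (Fin 2) F)) = MulAut.conj g • (P₀ :
        Subgroup (Matrix.ProjectiveSpecialLinearGroup (Fin 2) F)) := Sylow.coe_subgroup_smul
    rw [h2, hP₀, IsPGroup.toSylow_coe]
    rfl
  refine ⟨g, h1, ?_⟩
  rw [h1, ← Subgroup.map_equiv_normalizer_eq, normalizer_borelU]

include j in
/-- the order of the normaliser of a Sylow `p`-subgroup -/
theorem card_normalizer_sylow (P : Sylow p (Matrix.ProjectiveSpecialLinearGroup (Fin 2) F)) :
    Nat.gcd 2 (Fintype.card F - 1) *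
      Nat.card (Subgroup.normalizer ((P : Subgroup (Matrix.ProjectiveSpecialLinearGroup (Fin 2) F)) :
        Set (Matrix.ProjectiveSpecialLinearGroup (Fin 2) F))) =
      Fintype.card F * (Fintype.card F - 1) := by
  obtain ⟨g, -, h2⟩ := exists_conj_sylow j p P
  rw [h2, Subgroup.card_map_of_injective (MulAut.conj g).injective]
  exact card_borelB j

include j in
/-- commutators of the normaliser of a Sylow `p`-subgroup lie in it -/
theorem commutator_mem_sylow (P : Sylow p (Matrix.ProjectiveSpecialLinearGroup (Fin 2) F))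
    {a b : Matrix.ProjectiveSpecialLinearGroup (Fin 2) F}
    (ha : a ∈ Subgroup.normalizer ((P : Subgroup (Matrix.ProjectiveSpecialLinearGroup (Fin 2) F)) :
        Set (Matrix.ProjectiveSpecialLinearGroup (Fin 2) F)))
    (hb : b ∈ Subgroup.normalizer ((P : Subgroup (Matrix.ProjectiveSpecialLinearGroup (Fin 2) F)) :
        Set (Matrix.ProjectiveSpecialLinearGroup (Fin 2) F))) :
    a * b * a⁻¹ * b⁻¹ ∈ (P : Subgroup (Matrix.ProjectiveSpecialLinearGroup (Fin 2) F)) := by
  obtain ⟨g, h1, h2⟩ := exists_conj_sylow j p P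
  rw [h2] at ha hb
  obtain ⟨a', ha', rfl⟩ := ha
  obtain ⟨b', hb', rfl⟩ := hb
  rw [h1]
  refine ⟨a' * b' * a'⁻¹ * b'⁻¹, commutator_mem_borelU j ha' hb', ?_⟩
  simp only [map_mul, map_inv]

include j in
/-- the Sylow `p`-subgroups are abelian -/
theorem comm_sylow (P : Sylow p (Matrix.ProjectiveSpecialLinearGroup (Fin 2) F))
    {a b : Matrix.ProjectiveSpecialLinearGroup (Fin 2) F}
    (ha : a ∈ (P : Subgroup (Matrix.ProjectiveSpecialLinearGroup (Fin 2) F)))
    (hb : b ∈ (P : Subgroup (Matrix.ProjectiveSpecialLinearGroup (Fin 2) F))) : a * b = b * a := by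
  obtain ⟨g, h1, -⟩ := exists_conj_sylow j p P
  rw [h1] at ha hb
  obtain ⟨a', ha', rfl⟩ := ha
  obtain ⟨b', hb', rfl⟩ := hb
  rw [← map_mul, ← map_mul, comm_borelU j ha' hb']

end Cfsg.Agent.Lib.Helper5.DicksonBorel
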