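import Mathlib
import Cfsg.Agent.Lib.Helper5.MobNum
import Cfsg.Agent.Lib.Helper1.DihedralRecognition

set_option autoImplicit false

/-! Identification of the cyclic and dihedral configurations. -/

namespace Cfsg.Agent.Lib.Helper5.Mob

open Classical

variable {G X A : Type*} [Group G] [MulAction G X] [CommGroup A] {p : ℕ} (M : IsMob G X A p)

instance IsMob.finite_range_chi [Finite G] (x : X) : Finite (M.chi x).range :=
  Finite.of_surjective (M.chi x).rangeRestrict (M.chi x).rangeRestrict_surjective

theorem IsMob.Q_eq_bot [Finite G] (x : X) (hq : M.qq x = 1) : M.Q x = ⊥ :=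
  Subgroup.card_eq_one.mp hq

theorem IsMob.chi_injective [Finite G] (x : X) (hq : M.qq x = 1) :
    Function.Injective (M.chi x) := by
  rw [← MonoidHom.ker_eq_bot_iff, ← M.Q_subgroupOf, M.Q_eq_bot x hq]
  exact Subgroup.bot_subgroupOf _

/-- tame stabilisers are cyclic -/
theorem IsMob.isCyclic_stabilizer [Finite G] (x : X) (hq : M.qq x = 1) :
    IsCyclic (MulAction.stabilizer G x) := by
  have hinj := M.chi_injective x hq
  have : IsCyclic (M.chi x).range := M.cyc _ inferInstance
  exact isCyclic_of_surjective (MonoidHom.ofInjective hinj).symm.toMonoidHom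
    (MonoidHom.ofInjective hinj).symm.surjective

/-- the cyclic quotient of a stabiliser has order prime to `p` -/
theorem IsMob.not_dvd_cc [Fact p.Prime] [Finite G] (x : X) : ¬ p ∣ M.cc x := by
  intro h
  obtain ⟨a, ha⟩ := exists_prime_orderOf_dvd_card' (G := (M.chi x).range) p h
  have h1 : a ^ p = 1 := orderOf_dvd_iff_pow_eq_one.mp (dvd_of_eq ha)
  have h2 : (a : A) = 1 := M.tors a (by
    have := congrArg Subtype.val h1
    simpa using this)
  have h3 : a = 1 := Subtype.ext h2
  rw [h3, orderOf_one] at ha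
  exact (Fact.out : p.Prime).one_lt.ne ha

include M in
/-- an element moving `x`, when the orbit of `x` has two points, is an involution -/
theorem IsMob.sq_eq_one_of_orbit_two [Finite G] (x : X) (hn : nn G x = 2) (t : G)
    (ht : t • x ≠ x) : t * t = 1 := by
  have hfin : (MulAction.orbit G x).Finite := Set.finite_range _
  set y := t • x with hy
  have horb : MulAction.orbit G x = {x, y} := by
    symm
    apply Set.eq_of_subset_of_ncard_le _ _ hfin
    · intro z hz
      rcases hz with rfl | rfl
      · exact MulAction.mem_orbit_self _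
      · exact MulAction.mem_orbit _ _
    · rw [Set.ncard_pair (Ne.symm ht), ← Nat.card_coe_set_eq]
      exact le_of_eq hn
  have hty : t • y = x := by
    have h1 : t • y ∈ MulAction.orbit G x := by
      rw [hy, ← mul_smul]; exact MulAction.mem_orbit _ _
    rw [horb] at h1
    rcases h1 with h1 | h1
    · exact h1
    · exfalso
      apply ht
      have : t • y = t • x := h1
      exact (MulAction.injective t this).symm ▸ rfl
  obtain ⟨w, hw⟩ := M.exists_fix t
  have hwx : w ≠ x := by rintro rfl; exact ht hw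
  have hwy : w ≠ y := by
    intro h
    rw [h, hty] at hw
    exact ht hw.symm
  apply M.sharp (t * t) x y w (Ne.symm ht) (Ne.symm hwx) (Ne.symm hwy)
  · rw [mul_smul, ← hy, hty]
  · rw [mul_smul, hty]
  · rw [mul_smul, hw, hw]

include M in
/-- the dihedral configuration -/
theorem IsMob.dihedral [Fact p.Prime] [Finite G] (x : X) (hn : nn G x = 2) (hq : M.qq x = 1) :
    ∃ (n : ℕ) (a : G), orderOf a = n ∧ ¬ p ∣ n ∧ Nonempty (G ≃* DihedralGroup n) := by
  have hcyc := M.isCyclic_stabilizer x hq
  obtain ⟨a₀, ha₀⟩ := hcyc.exists_generator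
  have hord : orderOf a₀ = ee G x := orderOf_eq_card_of_forall_mem_zpowers ha₀
  have hcard : Nat.card G = 2 * ee G x := by
    rw [← card_orbit_mul_card_stabilizer x, show Nat.card (MulAction.orbit G x) = 2 from hn]
  have hne : ∃ t : G, t • x ≠ x := by
    by_contra hcon
    push Not at hcon
    have : ∀ g : G, g ∈ MulAction.stabilizer G x := hcon
    have htop : MulAction.stabilizer G x = ⊤ := eq_top_iff.mpr (fun g _ => this g)
    have : ee G x = Nat.card G := by
      show Nat.card (MulAction.stabilizer G x) = _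
      rw [htop, Subgroup.card_top]
    have hpos : 0 < ee G x := Nat.card_pos
    omega
  obtain ⟨t, ht⟩ := hne
  have ht2 := M.sq_eq_one_of_orbit_two x hn t ht
  have hpn : ¬ p ∣ ee G x := by
    have h1 := M.card_stabilizer x
    rw [show Nat.card (M.Q x) = 1 from hq, one_mul] at h1
    show ¬ p ∣ Nat.card (MulAction.stabilizer G x)
    rw [h1]
    exact M.not_dvd_cc x
  haveI : NeZero (ee G x) := ⟨Nat.card_pos.ne'⟩
  refine ⟨ee G x, (a₀ : G), by rw [Subgroup.orderOf_coe, hord], hpn, ?_⟩
  apply Cfsg.Agent.Lib.Helper1.nonempty_mulEquiv_dihedralGroup (ee G x) (a₀ : G) t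
    (by rw [Subgroup.orderOf_coe, hord]) _ ht2 _ hcard
  · intro hmem
    apply ht
    have : Subgroup.zpowers (a₀ : G) ≤ MulAction.stabilizer G x := by
      rw [Subgroup.zpowers_le]; exact a₀.2
    exact this hmem
  · have hta : (t * (a₀ : G)) • x ≠ x := by
      rw [mul_smul, a₀.2]; exact ht
    have h2 := M.sq_eq_one_of_orbit_two x hn (t * a₀) hta
    have htinv : t⁻¹ = t := inv_eq_of_mul_eq_one_right ht2
    rw [htinv]
    calc t * (a₀ : G) * t = (a₀ : G)⁻¹ * ((a₀ : G) * t * ((a₀ : G) * t)) := by group
      _ = (a₀ : G)⁻¹ * ((a₀ : G) * (t * (a₀ : G) * (t * (a₀ : G))) * (a₀ : G)⁻¹) := by group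
      _ = (a₀ : G)⁻¹ := by rw [h2]; group

end Cfsg.Agent.Lib.Helper5.Mob
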