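import Mathlib
import Cfsg.Agent.Lib.Helper5.MobNum

set_option autoImplicit false

/-! Transport of the numerical invariants along an equivariant bijection. -/

namespace Cfsg.Agent.Lib.Helper5.Mob

variable {G₁ G₂ X₁ X₂ A : Type*} [Group G₁] [Group G₂] [MulAction G₁ X₁] [MulAction G₂ X₂]
  [CommGroup A] {p : ℕ} (M₁ : IsMob G₁ X₁ A p) (M₂ : IsMob G₂ X₂ A p)
  (φ : G₁ ≃* G₂) (f : X₁ ≃ X₂) (hf : ∀ (g : G₁) (x : X₁), f (g • x) = φ g • f x)

include hf in
omit [CommGroup A] in
theorem mem_orbit_transport (x y : X₁) :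
    y ∈ MulAction.orbit G₁ x ↔ f y ∈ MulAction.orbit G₂ (f x) := by
  constructor
  · rintro ⟨g, rfl⟩
    exact ⟨φ g, (hf g x).symm⟩
  · rintro ⟨g, hg⟩
    refine ⟨φ.symm g, ?_⟩
    apply f.injective
    show f (φ.symm g • x) = f y
    rw [hf, φ.apply_symm_apply]
    exact hg

include hf in
omit [CommGroup A] in
theorem nn_transport (x : X₁) : nn G₂ (f x) = nn G₁ x := by
  symm
  exact Nat.card_congr (f.subtypeEquiv (fun y => mem_orbit_transport φ f hf x y))

include hf in
omit [CommGroup A] in
theorem fix_transport (g : G₁) (x : X₁) : g • x = x ↔ φ g • f x = f x := by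
  rw [← hf]
  exact f.injective.eq_iff.symm

include hf in
omit [CommGroup A] in
theorem ee_transport (x : X₁) : ee G₂ (f x) = ee G₁ x := by
  symm
  exact Nat.card_congr (φ.toEquiv.subtypeEquiv (fun g => by
    rw [MulAction.mem_stabilizer_iff, MulAction.mem_stabilizer_iff]
    exact fix_transport φ f hf g x))

include hf in
omit [CommGroup A] in
theorem onlyFix_transport (g : G₁) (x : X₁) : OnlyFix g x ↔ OnlyFix (φ g) (f x) := by
  unfold OnlyFix
  constructor
  · rintro ⟨h1, h2⟩
    refine ⟨(fix_transport φ f hf g x).mp h1, fun y hy => ?_⟩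
    obtain ⟨y, rfl⟩ := f.surjective y
    rw [h2 y ((fix_transport φ f hf g y).mpr hy)]
  · rintro ⟨h1, h2⟩
    refine ⟨(fix_transport φ f hf g x).mpr h1, fun y hy => ?_⟩
    exact f.injective (h2 (f y) ((fix_transport φ f hf g y).mp hy))

include hf in
theorem qq_transport (x : X₁) : M₂.qq (f x) = M₁.qq x := by
  symm
  exact Nat.card_congr (φ.toEquiv.subtypeEquiv (fun g => by
    show g ∈ M₁.Q x ↔ φ g ∈ M₂.Q (f x)
    rw [M₁.mem_Q, M₂.mem_Q, onlyFix_transport φ f hf g x]
    constructor
    · rintro (h | h)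
      · left; rw [h, map_one]
      · right; exact h
    · rintro (h | h)
      · left
        rwa [← map_one φ, φ.injective.eq_iff] at h
      · right; exact h))

include hf in
theorem cc_transport [Finite G₁] (x : X₁) : M₂.cc (f x) = M₁.cc x := by
  have : Finite G₂ := Finite.of_equiv G₁ φ.toEquiv
  have h1 := M₁.card_stabilizer x
  have h2 := M₂.card_stabilizer (f x)
  have h3 : Nat.card (MulAction.stabilizer G₂ (f x)) = Nat.card (MulAction.stabilizer G₁ x) :=
    ee_transport φ f hf x
  have h4 : Nat.card (M₂.Q (f x)) = Nat.card (M₁.Q x) := qq_transport M₁ M₂ φ f hf x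
  rw [h3, h4, h1] at h2
  have hpos : 0 < Nat.card (M₁.Q x) := Nat.card_pos
  exact (Nat.eq_of_mul_eq_mul_left hpos h2).symm

section conj

variable {Γ X : Type*} [Group Γ] [MulAction Γ X] (H : Subgroup Γ) (c : Γ)

/-- the conjugate subgroup -/
def conjSub : Subgroup Γ := H.map (MulAut.conj c).toMonoidHom

/-- the isomorphism with the conjugate subgroup -/
noncomputable def conjIso : H ≃* conjSub H c :=
  H.equivMapOfInjective _ (MulAut.conj c).injective

theorem conjIso_coe (h : H) : ((conjIso H c h : conjSub H c) : Γ) = c * h * c⁻¹ := by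
  unfold conjIso
  exact (Subgroup.coe_equivMapOfInjective_apply H _ _ h).trans (by simp [MulAut.conj_apply])

theorem conjIso_smul (h : H) (x : X) :
    MulAction.toPerm c (h • x) = conjIso H c h • MulAction.toPerm c x := by
  show c • ((h : Γ) • x) = ((conjIso H c h : conjSub H c) : Γ) • (c • x)
  rw [conjIso_coe, mul_smul, mul_smul, inv_smul_smul]

theorem mem_conjSub_iff (g : Γ) : g ∈ conjSub H c ↔ c⁻¹ * g * c ∈ H := by
  unfold conjSub
  rw [Subgroup.mem_map]
  constructor
  · rintro ⟨h, hh, rfl⟩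
    simpa [MulAut.conj_apply, mul_assoc] using hh
  · intro h
    exact ⟨_, h, by simp [MulAut.conj_apply, mul_assoc]⟩

end conj

end Cfsg.Agent.Lib.Helper5.Mob
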