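import Mathlib
import Cfsg.Agent.Lib.Helper5.DicksonBorel
import Cfsg.Agent.Lib.Helper5.MobTransport
import Cfsg.Agent.Lib.Helper5.MobDih

set_option autoImplicit false

/-! Dickson's theorem: the fixed-point, cyclic and dihedral cases. -/

namespace Cfsg.Agent.Lib.Helper5.DicksonMain

open Matrix Cfsg.Agent.Lib.Helper4 Cfsg.Agent.Lib.Helper5.Mob Cfsg.Agent.Lib.Helper5.MobPGL
  Cfsg.Agent.Lib.Helper5.MobWild Cfsg.Agent.Lib.Helper5.MobRat Cfsg.Agent.Lib.Helper5.DicksonBorel
open scoped LinearAlgebra.Projectivization MatrixGroups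

variable {F E : Type*} [Field F] [Fintype F] [Field E] [IsAlgClosed E] (j : F →+* E)
  (p : ℕ) [Fact p.Prime] [CharP F p] [CharP E p]
  (H : Subgroup (Matrix.ProjectiveSpecialLinearGroup (Fin 2) F))

/-- the image of `H` in `PGL₂(E)` -/
noncomputable def img : Subgroup PGL(Fin 2, E) := H.map (pslHom j)

/-- `H` is isomorphic to its image -/
noncomputable def imgIso : H ≃* img j H := H.equivMapOfInjective _ (pslHom_injective j)

omit [Fintype F] [IsAlgClosed E] in
theorem imgIso_coe (h : H) : ((imgIso j H h : img j H) : PGL(Fin 2, E)) = pslHom j h :=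
  Subgroup.coe_equivMapOfInjective_apply H _ _ h

instance finite_img : Finite (img j H) := Finite.of_equiv H (imgIso j H).toEquiv

omit [Fintype F] [IsAlgClosed E] in
theorem img_le_ratGroup : img j H ≤ ratGroup j := by
  rintro _ ⟨h, -, rfl⟩
  exact pslHom_mem_ratGroup j h

omit [Fintype F] [IsAlgClosed E] in
theorem orderOf_imgIso (h : H) : orderOf (imgIso j H h) = orderOf (h : Matrix.ProjectiveSpecialLinearGroup (Fin 2) F) := by
  rw [MulEquiv.orderOf_eq, Subgroup.orderOf_coe]

/-- the unique fixed point of a non-trivial unipotent element of the image is rational -/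
theorem isRat_of_qq {x : ℙ E (Fin 2 → E)} (hq : (subMob (img j H) p).qq x ≠ 1) : IsRat j x := by
  set M := subMob (img j H) p
  have hnt : Nontrivial (M.Q x) := by
    rw [← Finite.one_lt_card_iff_nontrivial]
    have : 0 < Nat.card (M.Q x) := Nat.card_pos
    have h2 : Nat.card (M.Q x) ≠ 1 := hq
    omega
  obtain ⟨⟨u, hu⟩, hu1⟩ := exists_ne (1 : M.Q x)
  have hu1' : u ≠ 1 := fun h => hu1 (Subtype.ext h)
  have hof : OnlyFix u x := ((M.mem_Q x u).mp hu).resolve_left hu1'
  have hof' : OnlyFix (u : PGL(Fin 2, E)) x := hof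
  obtain ⟨φ, -, hφ2, hφ3⟩ := DicksonFrob.exists_frob j p
  exact isRat_of_onlyFix j φ hφ2 hφ3 (img_le_ratGroup j H u.2) hof'

/-- the statement of the cyclic/dihedral alternative -/
def CycDih : Prop :=
  ∃ k : ℕ, (k ∣ (Fintype.card F + 1) / Nat.gcd 2 (Fintype.card F - 1) ∨
      k ∣ (Fintype.card F - 1) / Nat.gcd 2 (Fintype.card F - 1)) ∧
    ((IsCyclic H ∧ Nat.card H = k) ∨ Nonempty (H ≃* DihedralGroup k))

/-- the statement of the Borel alternative -/
def InBorel : Prop :=
  ∃ (P : Sylow p (Matrix.ProjectiveSpecialLinearGroup (Fin 2) F))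
    (K : Subgroup (Matrix.ProjectiveSpecialLinearGroup (Fin 2) F)),
    K ≤ Subgroup.normalizer ((P : Subgroup (Matrix.ProjectiveSpecialLinearGroup (Fin 2) F)) :
      Set (Matrix.ProjectiveSpecialLinearGroup (Fin 2) F)) ∧ Nonempty (H ≃* K)

/-- the dihedral case -/
theorem case_dihedral (x : ℙ E (Fin 2 → E)) (hn : nn (img j H) x = 2)
    (hq : (subMob (img j H) p).qq x = 1) : CycDih H := by
  obtain ⟨n, a, ha, hpn, ⟨e⟩⟩ := (subMob (img j H) p).dihedral x hn hq
  obtain ⟨h, rfl⟩ := (imgIso j H).surjective a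
  rw [orderOf_imgIso] at ha
  have hcyc := DicksonCyc.orderOf_dvd j p (h : Matrix.ProjectiveSpecialLinearGroup (Fin 2) F)
    (by rw [ha]; exact hpn)
  rw [ha] at hcyc
  exact ⟨n, hcyc, Or.inr ⟨(imgIso j H).trans e⟩⟩

/-- the case of a common fixed point -/
theorem case_fixed (x : ℙ E (Fin 2 → E)) (hx : ∀ g : img j H, g • x = x) :
    CycDih H ∨ InBorel p H := by
  set M := subMob (img j H) p with hM
  by_cases hq : M.qq x = 1
  · left
    -- cyclic
    have hcyc : IsCyclic (MulAction.stabilizer (img j H) x) := M.isCyclic_stabilizer x hq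
    have htop : MulAction.stabilizer (img j H) x = ⊤ := by
      rw [eq_top_iff]
      intro g _
      exact hx g
    have hcycG : IsCyclic (img j H) := by
      have : IsCyclic (⊤ : Subgroup (img j H)) := htop ▸ hcyc
      exact isCyclic_of_surjective (Subgroup.topEquiv : (⊤ : Subgroup (img j H)) ≃* img j H)
        Subgroup.topEquiv.surjective
    have hcycH : IsCyclic H :=
      isCyclic_of_surjective (imgIso j H).symm (imgIso j H).symm.surjective
    obtain ⟨h₀, hh₀⟩ := IsCyclic.exists_generator (α := H)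
    have hord : orderOf (h₀ : Matrix.ProjectiveSpecialLinearGroup (Fin 2) F) = Nat.card H := by
      rw [Subgroup.orderOf_coe]
      exact orderOf_eq_card_of_forall_mem_zpowers hh₀
    have hcard : Nat.card H = M.cc x := by
      rw [Nat.card_congr (imgIso j H).toEquiv]
      have h1 := M.card_stabilizer x
      have h3 : Nat.card (MulAction.stabilizer (img j H) x) = Nat.card (img j H) := by
        rw [htop, Subgroup.card_top]
      have h2 : Nat.card (M.Q x) = 1 := hq
      rw [h2, one_mul, h3] at h1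
      exact h1
    have hp : ¬ p ∣ Nat.card H := by
      rw [hcard]; exact M.not_dvd_cc x
    have := DicksonCyc.orderOf_dvd j p (h₀ : Matrix.ProjectiveSpecialLinearGroup (Fin 2) F)
      (by rw [hord]; exact hp)
    rw [hord] at this
    exact ⟨Nat.card H, this, Or.inl ⟨hcycH, rfl⟩⟩
  · right
    have hrat : IsRat j x := isRat_of_qq j p H hq
    obtain ⟨g, hg⟩ := exists_smul_inf_eq_of_isRat j hrat
    obtain ⟨P, hP⟩ := exists_sylow (E := E) j p
    refine ⟨P, conjSub H g⁻¹, le_trans ?_ hP, ⟨conjIso H g⁻¹⟩⟩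
    intro k hk
    rw [mem_conjSub_iff, inv_inv] at hk
    rw [mem_borelB]
    have h1 : pslHom j (g * k * g⁻¹) • x = x :=
      hx ⟨pslHom j (g * k * g⁻¹), ⟨_, hk, rfl⟩⟩
    rw [map_mul, map_mul, map_inv, mul_smul, mul_smul] at h1
    rw [← hg] at h1
    have h2 := congrArg (fun y => (pslHom j g)⁻¹ • y) h1
    simp only [inv_smul_smul] at h2
    exact h2

end Cfsg.Agent.Lib.Helper5.DicksonMain
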