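import Mathlib
import Cfsg.Agent.Lib.Helper5.MobDih
import Cfsg.Agent.S0228
import Cfsg.Agent.S1012

set_option autoImplicit false

/-! Identification of the tetrahedral and octahedral configurations. -/

namespace Cfsg.Agent.Lib.Helper5.Mob

open Classical

variable {G X A : Type*} [Group G] [MulAction G X] [CommGroup A] {p : ℕ} (M : IsMob G X A p)

omit [CommGroup A] in
/-- the order of an element fixing a point divides the order of the stabiliser -/
theorem orderOf_dvd_ee [Finite G] {g : G} {t : X} (h : g • t = t) : orderOf g ∣ ee G t := by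
  have h1 : orderOf (⟨g, h⟩ : MulAction.stabilizer G t) ∣ Nat.card (MulAction.stabilizer G t) :=
    orderOf_dvd_natCard _
  rwa [← Subgroup.orderOf_coe] at h1

omit [CommGroup A] in
theorem ee_of_mem_orbit {t a : X} (h : t ∈ MulAction.orbit G a) : ee G t = ee G a := by
  obtain ⟨c, rfl⟩ := h
  exact card_stabilizer_smul c a

include M in
/-- element orders in the polyhedral configurations -/
theorem IsMob.Tame3.orderOf_dvd [Finite G] {k n : ℕ} (h : M.Tame3 k n) (g : G) :
    orderOf g ∣ 2 ∨ orderOf g ∣ 3 ∨ orderOf g ∣ k := by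
  obtain ⟨a, b, c, -, ha, hb, hc, -, -, -, hcov, -⟩ := h
  by_cases hg : g = 1
  · left; rw [hg, orderOf_one]; exact one_dvd _
  obtain ⟨t, ht⟩ := M.exists_fix g
  have hts : t ∈ sing G X := ⟨g, hg, ht⟩
  have hd := orderOf_dvd_ee (G := G) ht
  rcases hcov t hts with h1 | h1 | h1
  · left; rwa [ee_of_mem_orbit h1, ha] at hd
  · right; left; rwa [ee_of_mem_orbit h1, hb] at hd
  · right; right; rwa [ee_of_mem_orbit h1, hc] at hd

include M in
/-- the tetrahedral configuration -/
theorem IsMob.tetrahedral [Finite G] (h : M.Tame3 3 12) :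
    Nonempty (G ≃* alternatingGroup (Fin 4)) := by
  have hord := h.orderOf_dvd M
  obtain ⟨a, b, c, hG, -⟩ := h
  apply Cfsg.Agent.S0228.result hG
  intro z hz hzc
  have : Fact (Nat.Prime 3) := ⟨by norm_num⟩
  obtain ⟨y, hy⟩ := exists_prime_orderOf_dvd_card' (G := G) 3 (by rw [hG]; norm_num)
  have hcomm : Commute z y := (Subgroup.mem_center_iff.mp hzc y).symm
  have h6 : orderOf (z * y) = 2 * 3 := by
    rw [← hz, ← hy]
    exact hcomm.orderOf_mul_eq_mul_orderOf_of_coprime (by rw [hz, hy]; norm_num)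
  rcases hord (z * y) with h1 | h1 | h1 <;> rw [h6] at h1 <;> omega

include M in
/-- the octahedral configuration -/
theorem IsMob.octahedral [Finite G] (h : M.Tame3 4 24) :
    Nonempty (G ≃* Equiv.Perm (Fin 4)) := by
  have hord := h.orderOf_dvd M
  obtain ⟨a, b, c, hG, -⟩ := h
  apply Cfsg.Agent.S1012.result hG
  intro g hg
  rcases hord g with h1 | h1 | h1 <;> rw [hg] at h1 <;> omega

end Cfsg.Agent.Lib.Helper5.Mob
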