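import Mathlib

set_option autoImplicit false

/-! A group of order 60 whose non-identity elements fall into three "atomic" classes of sizes at
least 15, 20, 24 is simple. -/

namespace Cfsg.Agent.Lib.Helper5.Simple60Count

open Classical

variable {G : Type*} [Group G] [Fintype G]

theorem card_inter_zero_or (N : Subgroup G) (I : Finset G)
    (a : ∀ g ∈ I, g ∈ N → ∀ h ∈ I, h ∈ N) :
    (((Finset.univ : Finset G).filter (· ∈ N)) ∩ I).card = 0 ∨
      (((Finset.univ : Finset G).filter (· ∈ N)) ∩ I).card = I.card := by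
  by_cases h : ∃ g ∈ I, g ∈ N
  · obtain ⟨g, hgI, hgN⟩ := h
    right
    congr 1
    ext x
    simp only [Finset.mem_inter, Finset.mem_filter, Finset.mem_univ, true_and]
    exact ⟨fun hx => hx.2, fun hx => ⟨a g hgI hgN x hx, hx⟩⟩
  · left
    push Not at h
    rw [Finset.card_eq_zero, Finset.eq_empty_iff_forall_notMem]
    intro x hx
    simp only [Finset.mem_inter, Finset.mem_filter, Finset.mem_univ, true_and] at hx
    exact h x hx.2 hx.1

theorem simple_of_classes (hG : Fintype.card G = 60) (I₂ I₃ I₅ : Finset G)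
    (hcov : ∀ g : G, g ≠ 1 → g ∈ I₂ ∨ g ∈ I₃ ∨ g ∈ I₅)
    (h23 : Disjoint I₂ I₃) (h25 : Disjoint I₂ I₅) (h35 : Disjoint I₃ I₅)
    (h12 : (1 : G) ∉ I₂) (h13 : (1 : G) ∉ I₃) (h15 : (1 : G) ∉ I₅)
    (c2 : 15 ≤ I₂.card) (c3 : 20 ≤ I₃.card) (c5 : 24 ≤ I₅.card)
    (a2 : ∀ N : Subgroup G, N.Normal → ∀ g ∈ I₂, g ∈ N → ∀ h ∈ I₂, h ∈ N)
    (a3 : ∀ N : Subgroup G, N.Normal → ∀ g ∈ I₃, g ∈ N → ∀ h ∈ I₃, h ∈ N)
    (a5 : ∀ N : Subgroup G, N.Normal → ∀ g ∈ I₅, g ∈ N → ∀ h ∈ I₅, h ∈ N) :
    IsSimpleGroup G := by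
  have hd1 : Disjoint (I₂ ∪ I₃) I₅ := Finset.disjoint_union_left.mpr ⟨h25, h35⟩
  -- exact sizes
  have htot : (I₂ ∪ I₃ ∪ I₅).card ≤ 59 := by
    have hsub : I₂ ∪ I₃ ∪ I₅ ⊆ (Finset.univ : Finset G).erase 1 := by
      intro x hx
      rw [Finset.mem_erase]
      refine ⟨?_, Finset.mem_univ _⟩
      rintro rfl
      simp only [Finset.mem_union] at hx
      tauto
    have := Finset.card_le_card hsub
    rw [Finset.card_erase_of_mem (Finset.mem_univ _), Finset.card_univ, hG] at this
    exact this
  rw [Finset.card_union_of_disjoint hd1, Finset.card_union_of_disjoint h23] at htot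
  have : Nontrivial G := Fintype.one_lt_card_iff_nontrivial.mp (by rw [hG]; norm_num)
  refine ⟨fun N hN => ?_⟩
  set Ns : Finset G := (Finset.univ : Finset G).filter (· ∈ N) with hNs
  have hNcard : Ns.card = Nat.card N := by
    rw [Nat.card_eq_fintype_card, Fintype.card_subtype]
  have hdvd : Ns.card ∣ 60 := by
    rw [hNcard, ← hG, ← Nat.card_eq_fintype_card]
    exact N.card_subgroup_dvd_card
  have hdecomp : Ns = insert 1 ((Ns ∩ I₂) ∪ (Ns ∩ I₃) ∪ (Ns ∩ I₅)) := by
    ext x
    simp only [Finset.mem_insert, Finset.mem_union, Finset.mem_inter]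
    constructor
    · intro hx
      by_cases hx1 : x = 1
      · left; exact hx1
      · right
        rcases hcov x hx1 with h | h | h
        · left; left; exact ⟨hx, h⟩
        · left; right; exact ⟨hx, h⟩
        · right; exact ⟨hx, h⟩
    · rintro (rfl | (h | h) | h)
      · rw [hNs, Finset.mem_filter]; exact ⟨Finset.mem_univ _, N.one_mem⟩
      · exact h.1
      · exact h.1
      · exact h.1
  have hcard : Ns.card = 1 + (Ns ∩ I₂).card + (Ns ∩ I₃).card + (Ns ∩ I₅).card := by
    conv_lhs => rw [hdecomp]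
    rw [Finset.card_insert_of_notMem, Finset.card_union_of_disjoint,
      Finset.card_union_of_disjoint]
    · ring
    · exact Finset.disjoint_of_subset_left Finset.inter_subset_right
        (Finset.disjoint_of_subset_right Finset.inter_subset_right h23)
    · exact Finset.disjoint_of_subset_left
        (Finset.union_subset_union Finset.inter_subset_right Finset.inter_subset_right)
        (Finset.disjoint_of_subset_right Finset.inter_subset_right hd1)
    · simp only [Finset.mem_union, Finset.mem_inter]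
      tauto
  have e2 := card_inter_zero_or N I₂ (a2 N hN)
  have e3 := card_inter_zero_or N I₃ (a3 N hN)
  have e5 := card_inter_zero_or N I₅ (a5 N hN)
  rw [← hNs] at e2 e3 e5
  have v2 : I₂.card = 15 := by omega
  have v3 : I₃.card = 20 := by omega
  have v5 : I₅.card = 24 := by omega
  rw [v2] at e2
  rw [v3] at e3
  rw [v5] at e5
  have hcases : Ns.card = 1 ∨ Ns.card = 60 := by
    rcases e2 with e2 | e2 <;> rcases e3 with e3 | e3 <;> rcases e5 with e5 | e5 <;>
      rw [e2, e3, e5] at hcard <;> rw [hcard] at hdvd ⊢ <;> omega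
  rcases hcases with h | h
  · left
    rw [hNcard] at h
    exact Subgroup.card_eq_one.mp h
  · right
    rw [hNcard] at h
    apply Subgroup.eq_top_of_card_eq
    rw [h, Nat.card_eq_fintype_card, hG]

end Cfsg.Agent.Lib.Helper5.Simple60Count
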