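import Mathlib
import Cfsg.Agent.Lib.Helper5.MobPoly
import Cfsg.Agent.Lib.Helper5.Simple60Count
import Cfsg.Agent.S0494

set_option autoImplicit false

/-! Identification of the icosahedral configurations. -/

namespace Cfsg.Agent.Lib.Helper5.Mob

open Classical

variable {G X A : Type*} [Group G] [MulAction G X] [CommGroup A] {p : ℕ} (M : IsMob G X A p)

/-- the class attached to a relation and an orbit -/
def cls (R : X → G → Prop) (x : X) : Set G := {g | ∃ t ∈ MulAction.orbit G x, R t g}

/-- equivariance of a point-element relation -/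
def Equivar (R : X → G → Prop) : Prop := ∀ (c g : G) (t : X), R (c • t) (c * g * c⁻¹) ↔ R t g

omit [CommGroup A] in
theorem Equivar.base {R : X → G → Prop} (hR : Equivar R) (c g : G) (x : X) (h : R (c • x) g) :
    R x (c⁻¹ * g * c) := by
  rw [← hR c (c⁻¹ * g * c) x]
  have : c * (c⁻¹ * g * c) * c⁻¹ = g := by group
  rw [this]; exact h

omit [CommGroup A] in
theorem cls_atomic {R : X → G → Prop} (hR : Equivar R) (x : X) (N : Subgroup G) (hN : N.Normal)
    (hx : ∀ g h, R x g → R x h → g ∈ N → h ∈ N) :
    ∀ g ∈ cls R x, g ∈ N → ∀ h ∈ cls R x, h ∈ N := by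
  rintro g ⟨_, ⟨c, rfl⟩, hg⟩ hgN h ⟨_, ⟨d, rfl⟩, hh⟩
  have h1 := hR.base c g x hg
  have h2 := hR.base d h x hh
  have h3 : c⁻¹ * g * c ∈ N := by
    have := hN.conj_mem g hgN c⁻¹
    rwa [inv_inv] at this
  have h4 := hx _ _ h1 h2 h3
  have := hN.conj_mem _ h4 d
  have e : d * (d⁻¹ * h * d) * d⁻¹ = h := by group
  rwa [e] at this

omit [CommGroup A] in
theorem card_filter_rel_smul [Fintype G] {R : X → G → Prop} (hR : Equivar R) (c : G) (x : X) :
    ((Finset.univ : Finset G).filter (R (c • x))).card =
      ((Finset.univ : Finset G).filter (R x)).card := by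
  symm
  apply Finset.card_bij (fun g _ => c * g * c⁻¹)
  · intro g hg
    simp only [Finset.mem_filter, Finset.mem_univ, true_and] at hg ⊢
    exact (hR c g x).mpr hg
  · intro g _ h _ hgh
    simpa using hgh
  · intro g hg
    simp only [Finset.mem_filter, Finset.mem_univ, true_and] at hg
    refine ⟨c⁻¹ * g * c, ?_, by group⟩
    simp only [Finset.mem_filter, Finset.mem_univ, true_and]
    exact hR.base c g x hg

omit [CommGroup A] in
/-- double counting of the pairs (point of the orbit, related element) -/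
theorem cls_card [Fintype G] {R : X → G → Prop} (hR : Equivar R) (x : X) (k : ℕ)
    (hk : ∀ (g : G) (S : Finset X), (∀ t ∈ S, R t g) → S.card ≤ k) :
    nn G x * ((Finset.univ : Finset G).filter (R x)).card ≤
      k * ((Finset.univ : Finset G).filter (· ∈ cls R x)).card := by
  have hfin : (MulAction.orbit G x).Finite := Set.finite_range _
  set O : Finset X := hfin.toFinset with hO
  set I : Finset G := (Finset.univ : Finset G).filter (· ∈ cls R x) with hI
  have hOcard : O.card = nn G x := by
    rw [hO, ← Set.ncard_eq_toFinset_card _ hfin]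
    exact (Nat.card_coe_set_eq _).symm
  have hbip := Finset.sum_card_bipartiteAbove_eq_sum_card_bipartiteBelow (s := O) (t := I) R
  have h1 : ∑ t ∈ O, (I.bipartiteAbove R t).card =
      O.card * ((Finset.univ : Finset G).filter (R x)).card := by
    rw [Finset.sum_const_nat]
    intro t ht
    rw [hO, Set.Finite.mem_toFinset] at ht
    obtain ⟨c, rfl⟩ := ht
    rw [← card_filter_rel_smul hR c x]
    congr 1
    ext g
    simp only [Finset.bipartiteAbove, Finset.mem_filter, Finset.mem_univ, true_and, hI]
    constructor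
    · exact fun h => h.2
    · exact fun h => ⟨⟨c • x, MulAction.mem_orbit x c, h⟩, h⟩
  have h2 : ∑ g ∈ I, (O.bipartiteBelow R g).card ≤ I.card * k := by
    rw [← smul_eq_mul]
    apply Finset.sum_le_card_nsmul
    intro g _
    apply hk g
    intro t ht
    simp only [Finset.bipartiteBelow, Finset.mem_filter] at ht
    exact ht.2
  rw [← hOcard, ← h1, hbip, mul_comm]
  exact h2

/-- the three relations -/
def RelFix (t : X) (g : G) : Prop := g ≠ 1 ∧ g • t = t

def RelPar (t : X) (g : G) : Prop := OnlyFix g t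

def RelTor (t : X) (g : G) : Prop := g • t = t ∧ g ∉ M.Q t

omit [CommGroup A] in
theorem equivar_relFix : Equivar (RelFix (G := G) (X := X)) := by
  intro c g t
  unfold RelFix
  constructor
  · rintro ⟨h1, h2⟩
    refine ⟨fun h => h1 (by rw [h]; group), ?_⟩
    rw [mul_smul, mul_smul, inv_smul_smul] at h2
    exact MulAction.injective c h2
  · rintro ⟨h1, h2⟩
    refine ⟨fun h => h1 ?_, by rw [mul_smul, mul_smul, inv_smul_smul, h2]⟩
    have : g = c⁻¹ * (c * g * c⁻¹) * c := by group
    rw [this, h]; group

omit [CommGroup A] in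
theorem equivar_relPar : Equivar (RelPar (G := G) (X := X)) := fun c g t => onlyFix_conj c g t

theorem equivar_relTor : Equivar (RelTor M) := by
  intro c g t
  unfold RelTor
  have hQ : c * g * c⁻¹ ∈ M.Q (c • t) ↔ g ∈ M.Q t := by
    rw [M.Q_smul, Subgroup.mem_map]
    constructor
    · rintro ⟨h, hh, he⟩
      simp only [MulEquiv.coe_toMonoidHom, MulAut.conj_apply] at he
      have : h = g := by
        have := congrArg (fun z => c⁻¹ * z * c) he
        simpa [mul_assoc] using this
      rwa [← this]
    · intro h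
      exact ⟨g, h, by simp [MulAut.conj_apply]⟩
  rw [hQ]
  constructor
  · rintro ⟨h1, h2⟩
    refine ⟨?_, h2⟩
    rw [mul_smul, mul_smul, inv_smul_smul] at h1
    exact MulAction.injective c h1
  · rintro ⟨h1, h2⟩
    exact ⟨by rw [mul_smul, mul_smul, inv_smul_smul, h1], h2⟩

include M in
/-- a non-identity element has at most two fixed points -/
theorem IsMob.card_le_two_of_fix {g : G} (hg : g ≠ 1) (S : Finset X) (hS : ∀ t ∈ S, g • t = t) :
    S.card ≤ 2 := by
  have hsub : (S : Set X) ⊆ MulAction.fixedBy X g := fun t ht => hS t ht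
  have h1 := Set.ncard_le_ncard hsub (M.finite_fixedBy hg)
  rw [Set.ncard_coe_finset] at h1
  by_cases hp : IsPar (X := X) g
  · rw [ncard_fixedBy_of_isPar hp] at h1; omega
  · rw [M.ncard_fixedBy_of_not_isPar hg hp] at h1; exact h1

omit [CommGroup A] in
theorem card_le_one_of_onlyFix {g : G} (S : Finset X) (hS : ∀ t ∈ S, OnlyFix g t) :
    S.card ≤ 1 := by
  rw [Finset.card_le_one]
  intro a ha b hb
  exact (hS b hb).2 a (hS a ha).1

omit [CommGroup A] in
theorem card_filter_relFix [Fintype G] (x : X) :
    ((Finset.univ : Finset G).filter (RelFix x)).card = ee G x - 1 := by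
  have : (Finset.univ : Finset G).filter (RelFix x) =
      ((Finset.univ : Finset G).filter (fun g => g • x = x)).erase 1 := by
    ext g
    simp only [RelFix, Finset.mem_filter, Finset.mem_univ, true_and, Finset.mem_erase]
  rw [this, Finset.card_erase_of_mem, card_filter_stabilizer]
  simp

theorem IsMob.card_filter_relTor [Fintype G] (x : X) :
    ((Finset.univ : Finset G).filter (RelTor M x)).card = ee G x - M.qq x := by
  have : (Finset.univ : Finset G).filter (RelTor M x) =
      ((Finset.univ : Finset G).filter (fun g => g • x = x)) \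
        ((Finset.univ : Finset G).filter (fun g => g ∈ M.Q x)) := by
    ext g
    simp only [RelTor, Finset.mem_filter, Finset.mem_univ, true_and, Finset.mem_sdiff]
  rw [this, Finset.card_sdiff_of_subset, card_filter_stabilizer, card_filter_mem]
  intro g hg
  simp only [Finset.mem_filter, Finset.mem_univ, true_and] at hg ⊢
  exact M.Q_le x hg

omit [CommGroup A] in
/-- point-atomicity for a stabiliser of prime order -/
theorem atomic_relFix [Finite G] (x : X) (r : ℕ) (hr : r.Prime) (he : ee G x = r)
    (N : Subgroup G) (g h : G) (hg : RelFix x g) (hh : RelFix x h) (hgN : g ∈ N) : h ∈ N := by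
  have : Fact r.Prime := ⟨hr⟩
  have h1 : (⟨h, hh.2⟩ : MulAction.stabilizer G x) ∈
      Subgroup.zpowers (⟨g, hg.2⟩ : MulAction.stabilizer G x) :=
    mem_zpowers_of_prime_card he (fun hcon => hg.1 (congrArg Subtype.val hcon))
  obtain ⟨k, hk⟩ := Subgroup.mem_zpowers_iff.mp h1
  have h2 : g ^ k = h := by
    have := congrArg Subtype.val hk
    simpa using this
  rw [← h2]
  exact N.zpow_mem hgN k

/-- point-atomicity for a unipotent part of prime order -/
theorem IsMob.atomic_relPar [Finite G] (x : X) (r : ℕ) (hr : r.Prime) (he : M.qq x = r)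
    (N : Subgroup G) (g h : G) (hg : RelPar x g) (hh : RelPar x h) (hgN : g ∈ N) : h ∈ N := by
  have : Fact r.Prime := ⟨hr⟩
  have hgQ : g ∈ M.Q x := (M.mem_Q x g).mpr (Or.inr hg)
  have hhQ : h ∈ M.Q x := (M.mem_Q x h).mpr (Or.inr hh)
  have h1 : (⟨h, hhQ⟩ : M.Q x) ∈ Subgroup.zpowers (⟨g, hgQ⟩ : M.Q x) :=
    mem_zpowers_of_prime_card he (fun hcon => M.ne_one_of_onlyFix hg (congrArg Subtype.val hcon))
  obtain ⟨k, hk⟩ := Subgroup.mem_zpowers_iff.mp h1
  have h2 : g ^ k = h := by
    have := congrArg Subtype.val hk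
    simpa using this
  rw [← h2]
  exact N.zpow_mem hgN k

/-- point-atomicity for the non-unipotent elements of a stabiliser of order six -/
theorem IsMob.atomic_relTor [Finite G] (x : X) (he : ee G x = 6) (hq : M.qq x = 3)
    (N : Subgroup G) (hN : N.Normal) (g h : G) (hg : RelTor M x g) (hh : RelTor M x h)
    (hgN : g ∈ N) : h ∈ N := by
  have hnt : Nontrivial (M.Q x) := Finite.one_lt_card_iff_nontrivial.mp (by
    show 1 < M.qq x
    omega)
  obtain ⟨⟨u, hu⟩, hu1'⟩ := exists_ne (1 : M.Q x)
  have hu1 : u ≠ 1 := fun hcon => hu1' (Subtype.ext hcon)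
  -- conjugation by `g` preserves `Q x`
  have hconj : ∀ v ∈ M.Q x, g * v * g⁻¹ ∈ M.Q x := by
    intro v hv
    have h1 := M.Q_smul g x
    rw [hg.1] at h1
    rw [h1]
    exact ⟨v, hv, by simp [MulAut.conj_apply]⟩
  set w := u * g * u⁻¹ * g⁻¹ with hw
  have hwN : w ∈ N := N.mul_mem (hN.conj_mem g hgN u) (N.inv_mem hgN)
  have hwQ : w ∈ M.Q x := by
    have : w = u * (g * u⁻¹ * g⁻¹) := by rw [hw]; group
    rw [this]
    exact (M.Q x).mul_mem hu (hconj _ ((M.Q x).inv_mem hu))
  have hw1 : w ≠ 1 := by
    intro hcon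
    apply hg.2
    apply M.mem_Q_of_commute hg.1 hu hu1
    have : u * g * u⁻¹ * g⁻¹ = 1 := hcon
    have h2 : u * g = g * u := by
      have := congrArg (fun z => z * g * u) this
      simpa [mul_assoc] using this
    exact h2.symm
  have hwP : RelPar x w := ((M.mem_Q x w).mp hwQ).resolve_left hw1
  have hQN : M.Q x ≤ N := by
    intro v hv
    rcases (M.mem_Q x v).mp hv with h1 | h1
    · rw [h1]; exact N.one_mem
    · exact M.atomic_relPar x 3 (by norm_num) hq N w v hwP h1 hwN
  -- index two
  set S := MulAction.stabilizer G x with hS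
  set K : Subgroup S := (M.Q x).subgroupOf S with hK
  have hKcard : Nat.card K = 3 := by
    rw [hK, Nat.card_congr (Subgroup.subgroupOfEquivOfLe (M.Q_le x)).toEquiv]
    exact hq
  have hKidx : K.index = 2 := by
    have h1 := Subgroup.card_mul_index K
    rw [hKcard] at h1
    have h2 : Nat.card S = 6 := he
    rw [h2] at h1
    omega
  have key := Subgroup.mul_mem_iff_of_index_two hKidx (a := (⟨h, hh.1⟩ : S))
    (b := (⟨g, hg.1⟩ : S)⁻¹)
  have h1 : ¬ (⟨h, hh.1⟩ : S) ∈ K := by
    rw [hK, Subgroup.mem_subgroupOf]; exact hh.2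
  have h2 : ¬ (⟨g, hg.1⟩ : S)⁻¹ ∈ K := by
    rw [Subgroup.inv_mem_iff, hK, Subgroup.mem_subgroupOf]; exact hg.2
  have h3 : (⟨h, hh.1⟩ : S) * (⟨g, hg.1⟩ : S)⁻¹ ∈ K := key.mpr ⟨fun h => absurd h h1, fun h => absurd h h2⟩
  rw [hK, Subgroup.mem_subgroupOf] at h3
  have h4 : h * g⁻¹ ∈ M.Q x := h3
  have h5 : h = (h * g⁻¹) * g := by group
  rw [h5]
  exact N.mul_mem (hQN h4) hgN

omit [CommGroup A] in
theorem orderOf_dvd_of_mem_cls_relFix [Finite G] {x : X} {g : G} (h : g ∈ cls RelFix x) :
    g ≠ 1 ∧ orderOf g ∣ ee G x := by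
  obtain ⟨t, ht, h1, h2⟩ := h
  exact ⟨h1, by rw [← ee_of_mem_orbit ht]; exact orderOf_dvd_ee h2⟩

omit [CommGroup A] in
theorem eq_one_of_orderOf_dvd {g : G} {m n : ℕ} (h1 : orderOf g ∣ m) (h2 : orderOf g ∣ n)
    (hmn : Nat.Coprime m n) : g = 1 := by
  have := Nat.dvd_gcd h1 h2
  rw [hmn.gcd_eq_one, Nat.dvd_one] at this
  exact orderOf_eq_one_iff.mp this

include M in
theorem IsMob.relFix_card_le (g : G) (S : Finset X) (hS : ∀ t ∈ S, RelFix t g) : S.card ≤ 2 := by
  by_cases hg : g = 1
  · have : S = ∅ := by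
      rw [Finset.eq_empty_iff_forall_notMem]
      intro t ht
      exact (hS t ht).1 hg
    rw [this]; simp
  · exact M.card_le_two_of_fix hg S (fun t ht => (hS t ht).2)

theorem IsMob.relTor_card_le (g : G) (S : Finset X) (hS : ∀ t ∈ S, RelTor M t g) :
    S.card ≤ 2 := by
  by_cases hg : g = 1
  · have : S = ∅ := by
      rw [Finset.eq_empty_iff_forall_notMem]
      intro t ht
      apply (hS t ht).2
      rw [hg]; exact one_mem _
    rw [this]; simp
  · exact M.card_le_two_of_fix hg S (fun t ht => (hS t ht).1)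

include M in
/-- the tame icosahedral configuration -/
theorem IsMob.icosahedral_tame [Finite G] (h : M.Tame3 5 60) :
    Nonempty (G ≃* alternatingGroup (Fin 5)) := by
  obtain ⟨a, b, c, hG, ha, hb, hc, -, -, -, hcov, -⟩ := h
  have : Fintype G := Fintype.ofFinite G
  have hG' : Fintype.card G = 60 := by rw [← Nat.card_eq_fintype_card]; exact hG
  have na : nn G a = 30 := by
    have := card_orbit_mul_card_stabilizer (G := G) a
    rw [hG] at this
    have h2 : Nat.card (MulAction.stabilizer G a) = 2 := ha
    rw [h2] at this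
    show Nat.card (MulAction.orbit G a) = 30
    omega
  have nb : nn G b = 20 := by
    have := card_orbit_mul_card_stabilizer (G := G) b
    rw [hG] at this
    have h2 : Nat.card (MulAction.stabilizer G b) = 3 := hb
    rw [h2] at this
    show Nat.card (MulAction.orbit G b) = 20
    omega
  have nc : nn G c = 12 := by
    have := card_orbit_mul_card_stabilizer (G := G) c
    rw [hG] at this
    have h2 : Nat.card (MulAction.stabilizer G c) = 5 := hc
    rw [h2] at this
    show Nat.card (MulAction.orbit G c) = 12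
    omega
  have ca := cls_card (G := G) equivar_relFix a 2 (M.relFix_card_le)
  have cb := cls_card (G := G) equivar_relFix b 2 (M.relFix_card_le)
  have cc := cls_card (G := G) equivar_relFix c 2 (M.relFix_card_le)
  rw [card_filter_relFix, na, ha] at ca
  rw [card_filter_relFix, nb, hb] at cb
  rw [card_filter_relFix, nc, hc] at cc
  have hsimple : IsSimpleGroup G := by
    apply Simple60Count.simple_of_classes hG'
      ((Finset.univ : Finset G).filter (· ∈ cls RelFix a))
      ((Finset.univ : Finset G).filter (· ∈ cls RelFix b))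
      ((Finset.univ : Finset G).filter (· ∈ cls RelFix c))
    · intro g hg
      obtain ⟨t, ht⟩ := M.exists_fix g
      have hts : t ∈ sing G X := ⟨g, hg, ht⟩
      simp only [Finset.mem_filter, Finset.mem_univ, true_and]
      rcases hcov t hts with h1 | h1 | h1
      · left; exact ⟨t, h1, hg, ht⟩
      · right; left; exact ⟨t, h1, hg, ht⟩
      · right; right; exact ⟨t, h1, hg, ht⟩
    · rw [Finset.disjoint_left]
      intro g h1 h2
      simp only [Finset.mem_filter, Finset.mem_univ, true_and] at h1 h2
      obtain ⟨g1, d1⟩ := orderOf_dvd_of_mem_cls_relFix h1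
      obtain ⟨-, d2⟩ := orderOf_dvd_of_mem_cls_relFix h2
      rw [ha] at d1; rw [hb] at d2
      exact g1 (eq_one_of_orderOf_dvd d1 d2 (by norm_num))
    · rw [Finset.disjoint_left]
      intro g h1 h2
      simp only [Finset.mem_filter, Finset.mem_univ, true_and] at h1 h2
      obtain ⟨g1, d1⟩ := orderOf_dvd_of_mem_cls_relFix h1
      obtain ⟨-, d2⟩ := orderOf_dvd_of_mem_cls_relFix h2
      rw [ha] at d1; rw [hc] at d2
      exact g1 (eq_one_of_orderOf_dvd d1 d2 (by norm_num))
    · rw [Finset.disjoint_left]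
      intro g h1 h2
      simp only [Finset.mem_filter, Finset.mem_univ, true_and] at h1 h2
      obtain ⟨g1, d1⟩ := orderOf_dvd_of_mem_cls_relFix h1
      obtain ⟨-, d2⟩ := orderOf_dvd_of_mem_cls_relFix h2
      rw [hb] at d1; rw [hc] at d2
      exact g1 (eq_one_of_orderOf_dvd d1 d2 (by norm_num))
    · simp only [Finset.mem_filter, Finset.mem_univ, true_and]
      rintro ⟨t, -, h1, -⟩; exact h1 rfl
    · simp only [Finset.mem_filter, Finset.mem_univ, true_and]
      rintro ⟨t, -, h1, -⟩; exact h1 rfl
    · simp only [Finset.mem_filter, Finset.mem_univ, true_and]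
      rintro ⟨t, -, h1, -⟩; exact h1 rfl
    · omega
    · omega
    · omega
    · intro N hN g hg hgN h hh
      simp only [Finset.mem_filter, Finset.mem_univ, true_and] at hg hh
      exact cls_atomic equivar_relFix a N hN
        (fun g h => atomic_relFix a 2 (by norm_num) ha N g h) g hg hgN h hh
    · intro N hN g hg hgN h hh
      simp only [Finset.mem_filter, Finset.mem_univ, true_and] at hg hh
      exact cls_atomic equivar_relFix b N hN
        (fun g h => atomic_relFix b 3 (by norm_num) hb N g h) g hg hgN h hh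
    · intro N hN g hg hgN h hh
      simp only [Finset.mem_filter, Finset.mem_univ, true_and] at hg hh
      exact cls_atomic equivar_relFix c N hN
        (fun g h => atomic_relFix c 5 (by norm_num) hc N g h) g hg hgN h hh
  exact Cfsg.Agent.S0494.result hG

theorem mem_cls_relTor [Finite G] {x : X} {g : G} (h : g ∈ cls (RelTor M) x) :
    g ≠ 1 ∧ orderOf g ∣ ee G x := by
  obtain ⟨t, ht, h1, h2⟩ := h
  refine ⟨?_, by rw [← ee_of_mem_orbit ht]; exact orderOf_dvd_ee h1⟩
  rintro rfl
  exact h2 (one_mem _)

include M in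
theorem IsMob.mem_cls_relPar [Finite G] {x : X} {g : G} (h : g ∈ cls RelPar x) :
    g ≠ 1 ∧ orderOf g ∣ ee G x := by
  obtain ⟨t, ht, h1⟩ := h
  exact ⟨M.ne_one_of_onlyFix h1, by rw [← ee_of_mem_orbit ht]; exact orderOf_dvd_ee h1.1⟩

/-- the wild icosahedral configuration (characteristic three) -/
theorem IsMob.icosahedral_wild [Finite G] (h : M.WildA5) :
    Nonempty (G ≃* alternatingGroup (Fin 5)) := by
  obtain ⟨x₀, x₁, hG, hq0, hn0, hc0, hq1, he1, hcov⟩ := h
  have : Fintype G := Fintype.ofFinite G
  have hG' : Fintype.card G = 60 := by rw [← Nat.card_eq_fintype_card]; exact hG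
  have he0 : ee G x₀ = 6 := by
    have := M.card_stabilizer x₀
    have h1 : Nat.card (M.Q x₀) = 3 := hq0
    have h2 : Nat.card (M.chi x₀).range = 2 := hc0
    rw [h1, h2] at this
    exact this
  have n1 : nn G x₁ = 12 := by
    have := card_orbit_mul_card_stabilizer (G := G) x₁
    rw [hG] at this
    have h2 : Nat.card (MulAction.stabilizer G x₁) = 5 := he1
    rw [h2] at this
    show Nat.card (MulAction.orbit G x₁) = 12
    omega
  have c2 := cls_card (G := G) (equivar_relTor M) x₀ 2 (M.relTor_card_le)
  have c3 := cls_card (G := G) equivar_relPar x₀ 1 (fun g S hS => card_le_one_of_onlyFix S hS)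
  have c5 := cls_card (G := G) equivar_relFix x₁ 2 (M.relFix_card_le)
  rw [M.card_filter_relTor, hn0, he0, hq0] at c2
  have h3 : ((Finset.univ : Finset G).filter (RelPar x₀)).card = 2 := by
    have := M.card_filter_onlyFix x₀
    have h1 : Nat.card (M.Q x₀) = 3 := hq0
    rw [h1] at this
    exact this
  rw [h3, hn0] at c3
  rw [card_filter_relFix, n1, he1] at c5
  have hsimple : IsSimpleGroup G := by
    apply Simple60Count.simple_of_classes hG'
      ((Finset.univ : Finset G).filter (· ∈ cls (RelTor M) x₀))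
      ((Finset.univ : Finset G).filter (· ∈ cls RelPar x₀))
      ((Finset.univ : Finset G).filter (· ∈ cls RelFix x₁))
    · intro g hg
      obtain ⟨t, ht⟩ := M.exists_fix g
      have hts : t ∈ sing G X := ⟨g, hg, ht⟩
      simp only [Finset.mem_filter, Finset.mem_univ, true_and]
      rcases hcov t hts with h1 | h1
      · by_cases hgQ : g ∈ M.Q t
        · right; left
          exact ⟨t, h1, ((M.mem_Q t g).mp hgQ).resolve_left hg⟩
        · left; exact ⟨t, h1, ht, hgQ⟩
      · right; right; exact ⟨t, h1, hg, ht⟩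
    · rw [Finset.disjoint_left]
      intro g h1 h2
      simp only [Finset.mem_filter, Finset.mem_univ, true_and] at h1 h2
      obtain ⟨t, -, ht, htQ⟩ := h1
      obtain ⟨t', -, ht'⟩ := h2
      have : t = t' := ht'.2 t ht
      subst this
      exact htQ ((M.mem_Q t g).mpr (Or.inr ht'))
    · rw [Finset.disjoint_left]
      intro g h1 h2
      simp only [Finset.mem_filter, Finset.mem_univ, true_and] at h1 h2
      obtain ⟨g1, d1⟩ := mem_cls_relTor M h1
      obtain ⟨-, d2⟩ := orderOf_dvd_of_mem_cls_relFix h2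
      rw [he0] at d1; rw [he1] at d2
      exact g1 (eq_one_of_orderOf_dvd d1 d2 (by norm_num))
    · rw [Finset.disjoint_left]
      intro g h1 h2
      simp only [Finset.mem_filter, Finset.mem_univ, true_and] at h1 h2
      obtain ⟨g1, d1⟩ := M.mem_cls_relPar h1
      obtain ⟨-, d2⟩ := orderOf_dvd_of_mem_cls_relFix h2
      rw [he0] at d1; rw [he1] at d2
      exact g1 (eq_one_of_orderOf_dvd d1 d2 (by norm_num))
    · simp only [Finset.mem_filter, Finset.mem_univ, true_and]
      intro h1; exact (mem_cls_relTor M h1).1 rfl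
    · simp only [Finset.mem_filter, Finset.mem_univ, true_and]
      intro h1; exact (M.mem_cls_relPar h1).1 rfl
    · simp only [Finset.mem_filter, Finset.mem_univ, true_and]
      rintro ⟨t, -, h1, -⟩; exact h1 rfl
    · omega
    · omega
    · omega
    · intro N hN g hg hgN h hh
      simp only [Finset.mem_filter, Finset.mem_univ, true_and] at hg hh
      exact cls_atomic (equivar_relTor M) x₀ N hN
        (fun g h => M.atomic_relTor x₀ he0 hq0 N hN g h) g hg hgN h hh
    · intro N hN g hg hgN h hh
      simp only [Finset.mem_filter, Finset.mem_univ, true_and] at hg hh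
      exact cls_atomic equivar_relPar x₀ N hN
        (fun g h => M.atomic_relPar x₀ 3 (by norm_num) hq0 N g h) g hg hgN h hh
    · intro N hN g hg hgN h hh
      simp only [Finset.mem_filter, Finset.mem_univ, true_and] at hg hh
      exact cls_atomic equivar_relFix x₁ N hN
        (fun g h => atomic_relFix x₁ 5 (by norm_num) he1 N g h) g hg hgN h hh
  exact Cfsg.Agent.S0494.result hG

end Cfsg.Agent.Lib.Helper5.Mob
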