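import Mathlib
import Cfsg.Agent.Lib.Helper5.MobWild4

set_option autoImplicit false

/-! The wild configuration in coordinates, part 5: the structure theorem. -/

namespace Cfsg.Agent.Lib.Helper5.MobWild

open Matrix Cfsg.Agent.Lib.Helper4 Cfsg.Agent.Lib.Helper5.Mob Cfsg.Agent.Lib.Helper5.MobPGL
open scoped LinearAlgebra.Projectivization MatrixGroups

variable {E : Type*} [Field E]

section gl

variable {K : Type*} [Field K] (ι : K →+* E)

theorem map_affGL (d : Kˣ) (b : K) :
    Matrix.GeneralLinearGroup.map ι (affGL d b) = affGL (Units.map ι.toMonoidHom d) (ι b) := by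
  apply Units.ext
  ext i j
  fin_cases i <;> fin_cases j <;> simp [affGL]

theorem det_affGL (d : Kˣ) (b : K) : Matrix.GeneralLinearGroup.det (affGL d b) = d := by
  apply Units.ext
  rw [Matrix.GeneralLinearGroup.val_det_apply]
  simp [affGL, Matrix.det_fin_two_of]

/-- every element of `GL₂` is a diagonal element times an element of `SL₂` -/
theorem exists_diag_mul (B : GL (Fin 2) K) :
    ∃ (d : Kˣ) (s : Matrix.SpecialLinearGroup (Fin 2) K),
      B = affGL d 0 * Matrix.SpecialLinearGroup.toGL s := by
  set d := Matrix.GeneralLinearGroup.det B with hd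
  have hdet : (((affGL d 0)⁻¹ * B : GL (Fin 2) K) : Matrix (Fin 2) (Fin 2) K).det = 1 := by
    rw [← Matrix.GeneralLinearGroup.val_det_apply, map_mul, map_inv, det_affGL, ← hd,
      inv_mul_cancel, Units.val_one]
  refine ⟨d, ⟨_, hdet⟩, ?_⟩
  have : Matrix.SpecialLinearGroup.toGL
      (⟨(((affGL d 0)⁻¹ * B : GL (Fin 2) K) : Matrix (Fin 2) (Fin 2) K), hdet⟩ :
        Matrix.SpecialLinearGroup (Fin 2) K) = (affGL d 0)⁻¹ * B := Units.ext rfl
  rw [this]
  group

end gl

variable [IsAlgClosed E] {G : Subgroup PGL(Fin 2, E)} {p : ℕ} [Fact p.Prime] [CharP E p]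

/-- the structure of the wild configuration -/
theorem WildHyp.structure [Finite G] (h : WildHyp G p) :
    ∃ (K : Type) (_ : Field K) (_ : Fintype K) (ι : K →+* E),
      (∀ a : E, a ∈ Set.range ι ↔ aff 1 a ∈ G) ∧
      (G = (pslHom ι).range ∨ G = (Matrix.ProjGenLinGroup.map ι).range) := by
  obtain ⟨K, _, _, ι, hcard, hrange⟩ := h.exists_field
  refine ⟨K, inferInstance, inferInstance, ι, hrange, ?_⟩
  have hι : ∀ a : K, ι a ∈ trA G := fun a => (hrange _).mp ⟨a, rfl⟩
  have hG := h.card_G
  have hq : Nat.card (trA G) = (subMob G p).qq (inf : ℙ E (Fin 2 → E)) := card_trA G p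
  have hc : Nat.card (mulC G) = (subMob G p).cc (inf : ℙ E (Fin 2 → E)) := h.card_mulC
  have hq3 := h.hq
  set q := Fintype.card K with hqdef
  rw [← hq, ← hcard] at hq3
  rw [← hcard] at hG
  rcases h.hc with hcase | hcase
  · -- the full projective general linear group
    right
    rw [← hq, ← hc, ← hcard] at hcase
    have hunits : ∀ d : Kˣ, Units.map ι.toMonoidHom d ∈ mulC G := by
      have hle : mulC G ≤ (Units.map ι.toMonoidHom).range := by
        intro l hl
        have h1 : (l : E) ∈ trA G := by
          have := h.mul_mem_of_mulC hl h.one_mem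
          rwa [mul_one] at this
        obtain ⟨k, hk⟩ := (hrange _).mpr h1
        have hk0 : k ≠ 0 := by
          rintro rfl
          rw [map_zero] at hk
          exact l.ne_zero hk.symm
        exact ⟨Units.mk0 k hk0, Units.ext hk⟩
      have hinj : Function.Injective (Units.map ι.toMonoidHom) :=
        Units.map_injective ι.injective
      have hcardr : Nat.card (Units.map ι.toMonoidHom).range = q - 1 := by
        rw [← Nat.card_congr (MonoidHom.ofInjective hinj).toEquiv, Nat.card_units,
          Nat.card_eq_fintype_card]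
      have : Finite (Units.map ι.toMonoidHom).range :=
        Finite.of_surjective _ (MonoidHom.rangeRestrict_surjective _)
      have heq := Subgroup.eq_of_le_of_card_ge hle (by rw [hcardr]; omega)
      intro d
      rw [heq]
      exact ⟨d, rfl⟩
    have hle : (Matrix.ProjGenLinGroup.map ι).range ≤ G := by
      rintro _ ⟨x, rfl⟩
      induction x using Matrix.ProjGenLinGroup.induction_on with | mk B =>
      obtain ⟨d, s, rfl⟩ := exists_diag_mul B
      rw [map_mul, map_mul]
      apply G.mul_mem
      · rw [Matrix.ProjGenLinGroup.map_mk, map_affGL, map_zero]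
        exact hunits d
      · exact h.map_SL_mem ι hι s
    have hcardr : Nat.card (Matrix.ProjGenLinGroup.map (n := Fin 2) ι).range =
        q * ((q - 1) * (q + 1)) := by
      rw [← Nat.card_congr (MonoidHom.ofInjective (SubfieldPSL.pglMap_injective ι)).toEquiv]
      exact card_pgl q rfl
    symm
    apply Subgroup.eq_of_le_of_card_ge hle
    rw [hcardr, hG]
    have : Nat.card (mulC G) = q - 1 := by omega
    rw [this]
    exact le_of_eq (by ring)
  · -- the projective special linear group
    left
    rw [← hq, ← hc, ← hcard] at hcase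
    have hle := h.pslHom_range_le ι hι
    have hcardr : 2 * Nat.card (pslHom ι).range = q * ((q - 1) * (q + 1)) := by
      rw [← Nat.card_congr (MonoidHom.ofInjective (pslHom_injective ι)).toEquiv]
      exact card_psl q rfl (by omega)
    symm
    apply Subgroup.eq_of_le_of_card_ge hle
    have h2 : 2 * Nat.card G = q * ((q - 1) * (q + 1)) := by
      rw [hG]
      have : q - 1 = 2 * Nat.card (mulC G) := by omega
      rw [this]
      ring
    omega

end Cfsg.Agent.Lib.Helper5.MobWild
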