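import Mathlib
import Cfsg.Agent.Lib.Helper5.DicksonMain1
import Cfsg.Agent.Lib.Helper5.MobWild5
import Cfsg.Agent.Lib.Helper5.MobA5

set_option autoImplicit false

/-! Dickson's theorem: the wild case and the assembly. -/

namespace Cfsg.Agent.Lib.Helper5.DicksonMain

open Matrix Cfsg.Agent.Lib.Helper4 Cfsg.Agent.Lib.Helper5.Mob Cfsg.Agent.Lib.Helper5.MobPGL
  Cfsg.Agent.Lib.Helper5.MobWild Cfsg.Agent.Lib.Helper5.MobRat Cfsg.Agent.Lib.Helper5.DicksonBorel
open scoped LinearAlgebra.Projectivization MatrixGroups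

/-- a finite field whose image lies in the image of another finite field has the right order -/
theorem exists_pow_card_eq {K F E : Type*} [Field K] [Fintype K] [Field F] [Fintype F] [Field E]
    (ι : K →+* E) (j : F →+* E) (h : ∀ k : K, ι k ∈ Set.range j) :
    ∃ m : ℕ, Fintype.card K ^ m = Fintype.card F := by
  have hleft : Function.LeftInverse (Function.invFun j) j := Function.leftInverse_invFun j.injective
  let e : F ≃+* j.range := RingEquiv.ofLeftInverse hleft
  let ι' : K →+* F := e.symm.toRingHom.comp (ι.codRestrict j.range (fun k => by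
    obtain ⟨a, ha⟩ := h k
    exact ⟨a, ha⟩))
  let _ : Algebra K F := ι'.toAlgebra
  exact ⟨Module.finrank K F, Module.card_eq_pow_finrank.symm⟩

variable {F E : Type*} [Field F] [Fintype F] [Field E] [IsAlgClosed E] (j : F →+* E)
  (p : ℕ) [Fact p.Prime] [CharP F p] [CharP E p]
  (H : Subgroup (Matrix.ProjectiveSpecialLinearGroup (Fin 2) F))

/-- the statement of the subfield alternative -/
def SubfieldCase : Prop :=
  ∃ (K : Type) (_ : Field K) (_ : Fintype K) (m : ℕ), Fintype.card K ^ m = Fintype.card F ∧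
    (Nonempty (H ≃* Matrix.ProjectiveSpecialLinearGroup (Fin 2) K) ∨
      Nonempty (H ≃* Matrix.ProjGenLinGroup (Fin 2) K))

/-- the wild case -/
theorem case_wild (hw : (subMob (img j H) p).WildPSL) : SubfieldCase H := by
  set G := img j H with hG
  set M := subMob G p with hM
  obtain ⟨x₀, x₁, hq3, hn, hc, -, -⟩ := hw
  -- the point `x₀` is rational
  have hrat0 : IsRat j x₀ := isRat_of_qq j p H (by
    show M.qq x₀ ≠ 1
    omega)
  -- two more points of the orbit
  have hOfin : (MulAction.orbit G x₀).Finite := Set.finite_range _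
  have hOcard : (MulAction.orbit G x₀).ncard = M.qq x₀ + 1 := by
    rw [← hn]; exact (Nat.card_coe_set_eq _)
  have hx₀O : x₀ ∈ MulAction.orbit G x₀ := MulAction.mem_orbit_self _
  have h1 : 1 < (MulAction.orbit G x₀ \ {x₀}).ncard := by
    rw [Set.ncard_sdiff_singleton_of_mem hx₀O, hOcard]
    omega
  obtain ⟨y, hy, z, hz, hyz⟩ := (Set.one_lt_ncard (hOfin.sdiff)).mp h1
  have hratO : ∀ t ∈ MulAction.orbit G x₀, IsRat j t := by
    rintro _ ⟨g, rfl⟩
    exact isRat_smul j (img_le_ratGroup j H g.2) hrat0
  obtain ⟨γ, hγr, hγ0, hγy, hγz⟩ := exists_ratGroup_frame j hrat0 (hratO y hy.1) (hratO z hz.1)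
    (fun h => hy.2 h.symm) (fun h => hz.2 h.symm) hyz
  -- the conjugate subgroup
  set G' := conjSub G γ with hG'
  have : Finite G' := Finite.of_equiv G (conjIso G γ).toEquiv
  set M' := subMob G' p with hM'
  have hf := conjIso_smul (X := ℙ E (Fin 2 → E)) G γ
  have hfx : MulAction.toPerm γ x₀ = (inf : ℙ E (Fin 2 → E)) := hγ0
  have hw' : WildHyp G' p := by
    refine ⟨?_, ?_, ?_, ?_, ?_⟩
    · have := qq_transport M M' (conjIso G γ) (MulAction.toPerm γ) hf x₀
      rw [hfx] at this
      rw [this]; exact hq3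
    · have h1 := qq_transport M M' (conjIso G γ) (MulAction.toPerm γ) hf x₀
      have h2 := nn_transport (conjIso G γ) (MulAction.toPerm γ) hf x₀
      rw [hfx] at h1 h2
      rw [h1, h2]; exact hn
    · have h1 := qq_transport M M' (conjIso G γ) (MulAction.toPerm γ) hf x₀
      have h2 := cc_transport M M' (conjIso G γ) (MulAction.toPerm γ) hf x₀
      rw [hfx] at h1 h2
      rw [h1, h2]; exact hc
    · have := (mem_orbit_transport (conjIso G γ) (MulAction.toPerm γ) hf x₀ y).mp hy.1
      rw [hfx] at this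
      have h2 : MulAction.toPerm γ y = fin (0 : E) := hγy
      rwa [h2] at this
    · have := (mem_orbit_transport (conjIso G γ) (MulAction.toPerm γ) hf x₀ z).mp hz.1
      rw [hfx] at this
      have h2 : MulAction.toPerm γ z = fin (1 : E) := hγz
      rwa [h2] at this
  obtain ⟨K, _, _, ι, hrange, hstr⟩ := hw'.structure
  -- the field `K` embeds into `F`
  have hG'rat : G' ≤ ratGroup j := by
    intro g hg
    rw [mem_conjSub_iff] at hg
    have h1 := img_le_ratGroup j H hg
    have h2 : g = γ * (γ⁻¹ * g * γ) * γ⁻¹ := by group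
    rw [h2]
    exact (ratGroup j).mul_mem ((ratGroup j).mul_mem hγr h1) ((ratGroup j).inv_mem hγr)
  have hsub : ∀ k : K, ι k ∈ Set.range j := by
    intro k
    have h1 : aff 1 (ι k) ∈ G' := (hrange _).mp ⟨k, rfl⟩
    exact mem_range_of_aff_mem_ratGroup j (hG'rat h1)
  obtain ⟨m, hm⟩ := exists_pow_card_eq ι j hsub
  refine ⟨K, inferInstance, inferInstance, m, hm, ?_⟩
  have e1 : H ≃* G' := (imgIso j H).trans (conjIso G γ)
  rcases hstr with h | h
  · left
    exact ⟨(e1.trans (MulEquiv.subgroupCongr h)).trans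
      (MonoidHom.ofInjective (pslHom_injective ι)).symm⟩
  · right
    exact ⟨(e1.trans (MulEquiv.subgroupCongr h)).trans
      (MonoidHom.ofInjective (SubfieldPSL.pglMap_injective ι)).symm⟩

include j in
/-- Dickson's theorem, given an algebraically closed extension -/
theorem dickson_aux : CycDih H ∨ InBorel p H ∨ Nonempty (H ≃* alternatingGroup (Fin 4)) ∨
    Nonempty (H ≃* Equiv.Perm (Fin 4)) ∨ Nonempty (H ≃* alternatingGroup (Fin 5)) ∨
      SubfieldCase H := by
  by_cases hH : Nat.card H = 1
  · left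
    have : Subsingleton H := (Nat.card_eq_one_iff_unique.mp hH).1
    exact ⟨1, Or.inl (one_dvd _), Or.inl ⟨inferInstance, hH⟩⟩
  have hH2 : 2 ≤ Nat.card (img j H) := by
    rw [← Nat.card_congr (imgIso j H).toEquiv]
    have : 0 < Nat.card H := Nat.card_pos
    omega
  set M := subMob (img j H) p with hM
  rcases M.cases hH2 with ⟨x, hx⟩ | ⟨x, hn, hq⟩ | h | h | h | h | h
  · rcases case_fixed j p H x hx with h | h
    · left; exact h
    · right; left; exact h
  · left; exact case_dihedral j p H x hn hq
  · right; right; left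
    obtain ⟨e⟩ := M.tetrahedral h
    exact ⟨(imgIso j H).trans e⟩
  · right; right; right; left
    obtain ⟨e⟩ := M.octahedral h
    exact ⟨(imgIso j H).trans e⟩
  · right; right; right; right; left
    obtain ⟨e⟩ := M.icosahedral_tame h
    exact ⟨(imgIso j H).trans e⟩
  · right; right; right; right; right
    exact case_wild j p H h
  · right; right; right; right; left
    obtain ⟨e⟩ := M.icosahedral_wild h
    exact ⟨(imgIso j H).trans e⟩

omit [IsAlgClosed E] [CharP E p] in
/-- Dickson's theorem -/
theorem dickson : CycDih H ∨ InBorel p H ∨ Nonempty (H ≃* alternatingGroup (Fin 4)) ∨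
    Nonempty (H ≃* Equiv.Perm (Fin 4)) ∨ Nonempty (H ≃* alternatingGroup (Fin 5)) ∨
      SubfieldCase H := by
  have : CharP (AlgebraicClosure F) p :=
    charP_of_injective_algebraMap (algebraMap F (AlgebraicClosure F)).injective p
  exact dickson_aux (algebraMap F (AlgebraicClosure F)) p H

end Cfsg.Agent.Lib.Helper5.DicksonMain
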