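import Mathlib
import Cfsg.Agent.Lib.Helper5.DicksonMain2
import Cfsg.Agent.Lib.Helper5.DicksonBorel3

set_option autoImplicit false

/-! The orders of the subgroups of `PSL₂(q)`. -/

namespace Cfsg.Agent.Lib.Helper5.DicksonOrders

open Matrix Cfsg.Agent.Lib.Helper4 Cfsg.Agent.Lib.Helper5.MobWild Cfsg.Agent.Lib.Helper5.DicksonBorel
  Cfsg.Agent.Lib.Helper5.DicksonMain
open scoped MatrixGroups

theorem card_A4 : Nat.card (alternatingGroup (Fin 4)) = 12 := by
  have := two_mul_card_alternatingGroup (α := Fin 4)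
  rw [Fintype.card_perm, Fintype.card_fin] at this
  rw [Nat.card_eq_fintype_card]
  have h : Nat.factorial 4 = 24 := by decide
  omega

theorem card_A5 : Nat.card (alternatingGroup (Fin 5)) = 60 := by
  have := two_mul_card_alternatingGroup (α := Fin 5)
  rw [Fintype.card_perm, Fintype.card_fin] at this
  rw [Nat.card_eq_fintype_card]
  have h : Nat.factorial 5 = 120 := by decide
  omega

theorem card_S4 : Nat.card (Equiv.Perm (Fin 4)) = 24 := by
  rw [Nat.card_eq_fintype_card, Fintype.card_perm, Fintype.card_fin]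
  decide

variable {F : Type*} [Field F] [Fintype F]

theorem card_PSL2_mul :
    Nat.gcd 2 (Fintype.card F - 1) * Nat.card (Matrix.ProjectiveSpecialLinearGroup (Fin 2) F) =
      Fintype.card F * ((Fintype.card F - 1) * (Fintype.card F + 1)) := by
  have h1 := card_PSL_mul (F := F) 2 (by norm_num)
  rw [card_SL2, sq_sub_one _ Fintype.card_pos] at h1
  exact h1

/-- the order of a subgroup of the normaliser of a Sylow `p`-subgroup -/
theorem card_of_inBorel (p : ℕ) [Fact p.Prime] [CharP F p]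
    (H : Subgroup (Matrix.ProjectiveSpecialLinearGroup (Fin 2) F)) (h : InBorel p H) :
    Nat.gcd 2 (Fintype.card F - 1) * Nat.card H ∣ Fintype.card F * (Fintype.card F - 1) := by
  obtain ⟨P, K, hK, ⟨e⟩⟩ := h
  have : CharP (AlgebraicClosure F) p :=
    charP_of_injective_algebraMap (algebraMap F (AlgebraicClosure F)).injective p
  rw [← card_normalizer_sylow (algebraMap F (AlgebraicClosure F)) p P, Nat.card_congr e.toEquiv]
  exact Nat.mul_dvd_mul_left _ (Subgroup.card_dvd_of_le hK)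

/-- the possible orders of the subgroups of `PSL₂(q)` -/
theorem dickson_card (p : ℕ) [Fact p.Prime] [CharP F p]
    (H : Subgroup (Matrix.ProjectiveSpecialLinearGroup (Fin 2) F)) :
    (∃ k : ℕ, (k ∣ (Fintype.card F + 1) / Nat.gcd 2 (Fintype.card F - 1) ∨
        k ∣ (Fintype.card F - 1) / Nat.gcd 2 (Fintype.card F - 1)) ∧
        (Nat.card H = k ∨ Nat.card H = 2 * k)) ∨
    Nat.gcd 2 (Fintype.card F - 1) * Nat.card H ∣ Fintype.card F * (Fintype.card F - 1) ∨
    Nat.card H = 12 ∨ Nat.card H = 24 ∨ Nat.card H = 60 ∨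
    (∃ q₀ m : ℕ, 2 ≤ q₀ ∧ q₀ ^ m = Fintype.card F ∧
      (Nat.gcd 2 (q₀ - 1) * Nat.card H = q₀ * ((q₀ - 1) * (q₀ + 1)) ∨
        Nat.card H = q₀ * ((q₀ - 1) * (q₀ + 1)))) := by
  rcases dickson p H with h | h | ⟨⟨e⟩⟩ | ⟨⟨e⟩⟩ | ⟨⟨e⟩⟩ | h
  · left
    obtain ⟨k, hk, hH⟩ := h
    refine ⟨k, hk, ?_⟩
    rcases hH with ⟨-, h1⟩ | ⟨⟨e⟩⟩
    · left; exact h1
    · right; rw [Nat.card_congr e.toEquiv, DihedralGroup.nat_card]
  · right; left; exact card_of_inBorel p H h
  · right; right; left; rw [Nat.card_congr e.toEquiv, card_A4]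
  · right; right; right; left; rw [Nat.card_congr e.toEquiv, card_S4]
  · right; right; right; right; left; rw [Nat.card_congr e.toEquiv, card_A5]
  · right; right; right; right; right
    obtain ⟨K, _, _, m, hm, hH⟩ := h
    refine ⟨Fintype.card K, m, Fintype.one_lt_card, hm, ?_⟩
    rcases hH with ⟨⟨e⟩⟩ | ⟨⟨e⟩⟩
    · left; rw [Nat.card_congr e.toEquiv]; exact card_PSL2_mul
    · right; rw [Nat.card_congr e.toEquiv]; exact card_pgl _ rfl

end Cfsg.Agent.Lib.Helper5.DicksonOrders
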