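import Mathlib
import Cfsg.Agent.Lib.Helper5.MobDih

set_option autoImplicit false

/-! Stabilisers of pairs of points in a finite group with a Möbius-like action. -/

namespace Cfsg.Agent.Lib.Helper5.Mob

open Classical

variable {G X A : Type*} [Group G] [MulAction G X] [CommGroup A] {p : ℕ} (M : IsMob G X A p)

/-- the setwise stabiliser of a pair of points -/
def pairStab (G : Type*) {X : Type*} [Group G] [MulAction G X] (x y : X) : Subgroup G where
  carrier := {g | (g • x = x ∧ g • y = y) ∨ (g • x = y ∧ g • y = x)}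
  one_mem' := Or.inl ⟨one_smul _ _, one_smul _ _⟩
  mul_mem' := by
    rintro a b (⟨ha1, ha2⟩ | ⟨ha1, ha2⟩) (⟨hb1, hb2⟩ | ⟨hb1, hb2⟩)
    · left; exact ⟨by rw [mul_smul, hb1, ha1], by rw [mul_smul, hb2, ha2]⟩
    · right; exact ⟨by rw [mul_smul, hb1, ha2], by rw [mul_smul, hb2, ha1]⟩
    · right; exact ⟨by rw [mul_smul, hb1, ha1], by rw [mul_smul, hb2, ha2]⟩
    · left; exact ⟨by rw [mul_smul, hb1, ha2], by rw [mul_smul, hb2, ha1]⟩
  inv_mem' := by
    rintro a (⟨ha1, ha2⟩ | ⟨ha1, ha2⟩)
    · left; exact ⟨by rw [inv_smul_eq_iff, ha1], by rw [inv_smul_eq_iff, ha2]⟩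
    · right; exact ⟨by rw [inv_smul_eq_iff, ha2], by rw [inv_smul_eq_iff, ha1]⟩

omit [CommGroup A] in
theorem mem_pairStab (x y : X) (g : G) :
    g ∈ pairStab G x y ↔ (g • x = x ∧ g • y = y) ∨ (g • x = y ∧ g • y = x) := Iff.rfl

omit [CommGroup A] in
theorem stabilizer_inf_le_pairStab (x y : X) :
    MulAction.stabilizer G x ⊓ MulAction.stabilizer G y ≤ pairStab G x y := by
  intro g hg
  exact Or.inl ⟨hg.1, hg.2⟩

omit [CommGroup A] in
theorem pairStab_conj (c : G) (x y : X) :
    pairStab G (c • x) (c • y) = (pairStab G x y).map (MulAut.conj c).toMonoidHom := by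
  ext g
  rw [Subgroup.mem_map]
  constructor
  · intro hg
    refine ⟨c⁻¹ * g * c, ?_, by simp [MulAut.conj_apply, mul_assoc]⟩
    rw [mem_pairStab] at hg ⊢
    rcases hg with ⟨h1, h2⟩ | ⟨h1, h2⟩
    · left
      exact ⟨by rw [mul_smul, mul_smul, h1, inv_smul_smul],
        by rw [mul_smul, mul_smul, h2, inv_smul_smul]⟩
    · right
      exact ⟨by rw [mul_smul, mul_smul, h1, inv_smul_smul],
        by rw [mul_smul, mul_smul, h2, inv_smul_smul]⟩
  · rintro ⟨h, hh, rfl⟩
    rw [mem_pairStab] at hh ⊢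
    simp only [MulEquiv.coe_toMonoidHom, MulAut.conj_apply, mul_smul, inv_smul_smul]
    rcases hh with ⟨h1, h2⟩ | ⟨h1, h2⟩
    · left; exact ⟨by rw [h1], by rw [h2]⟩
    · right; exact ⟨by rw [h1], by rw [h2]⟩

include M in
/-- a pair stabiliser containing a swap is dihedral -/
theorem IsMob.pairStab_dihedral [Fact p.Prime] [Finite G] (x y : X) (hxy : x ≠ y) (c : G)
    (hc1 : c • x = y) (hc2 : c • y = x) :
    Nat.card (pairStab G x y) =
      2 * Nat.card ↥(MulAction.stabilizer G x ⊓ MulAction.stabilizer G y) ∧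
    Nonempty (pairStab G x y ≃*
      DihedralGroup (Nat.card ↥(MulAction.stabilizer G x ⊓ MulAction.stabilizer G y))) := by
  set N := pairStab G x y with hN
  have M' : IsMob N X A p := M.subgroup N
  have hcN : c ∈ N := Or.inr ⟨hc1, hc2⟩
  -- the orbit of `x` is `{x, y}`
  have horb : MulAction.orbit N x = {x, y} := by
    ext z
    constructor
    · rintro ⟨g, rfl⟩
      rcases g.2 with ⟨h1, -⟩ | ⟨h1, -⟩
      · left; exact h1
      · right; exact h1
    · rintro (rfl | rfl)
      · exact MulAction.mem_orbit_self _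
      · exact ⟨⟨c, hcN⟩, hc1⟩
  have hn : nn N x = 2 := by
    show Nat.card (MulAction.orbit N x) = 2
    rw [horb, Nat.card_coe_set_eq, Set.ncard_pair hxy]
  have hq : M'.qq x = 1 := by
    show Nat.card (M'.Q x) = 1
    have : M'.Q x = ⊥ := by
      rw [eq_bot_iff]
      intro g hg
      rw [M'.mem_Q] at hg
      rcases hg with h | h
      · rw [h]; exact Subgroup.mem_bot.mpr rfl
      · exfalso
        have hgy : g • y = y := by
          rcases g.2 with ⟨-, h2⟩ | ⟨h1, -⟩
          · exact h2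
          · exact absurd (h.1.symm.trans h1) hxy
        exact hxy (h.2 y hgy).symm
    rw [this, Subgroup.card_bot]
  -- the stabiliser of `x` in `N`
  have hstab : Nat.card (MulAction.stabilizer N x) =
      Nat.card ↥(MulAction.stabilizer G x ⊓ MulAction.stabilizer G y) := by
    apply Nat.card_congr
    refine ⟨fun g => ⟨g.1.1, ?_⟩, fun g => ⟨⟨g.1, stabilizer_inf_le_pairStab x y g.2⟩, g.2.1⟩,
      fun g => rfl, fun g => rfl⟩
    have hgx : (g.1 : G) • x = x := g.2
    refine ⟨hgx, ?_⟩
    rcases g.1.2 with ⟨-, h2⟩ | ⟨h1, -⟩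
    · exact h2
    · exact absurd (hgx.symm.trans h1) hxy
  have hcard : Nat.card N = 2 * Nat.card (MulAction.stabilizer N x) := by
    rw [← card_orbit_mul_card_stabilizer (G := N) x, show Nat.card (MulAction.orbit N x) = 2 from hn]
  obtain ⟨n, a, -, -, ⟨e⟩⟩ := M'.dihedral x hn hq
  have hn2 : Nat.card N = 2 * n := by
    rw [Nat.card_congr e.toEquiv, DihedralGroup.nat_card]
  have hnn : n = Nat.card ↥(MulAction.stabilizer G x ⊓ MulAction.stabilizer G y) := by
    rw [← hstab]; omega
  refine ⟨by rw [hcard, hstab], ?_⟩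
  rw [← hnn]
  exact ⟨e⟩

include M in
/-- if `Q x` is as large as the rest of the orbit, a two-point stabiliser has the order of the
multiplier group -/
theorem IsMob.card_stab_pair [Finite G] (x y : X) (hy : y ∈ MulAction.orbit G x) (hxy : y ≠ x)
    (h : M.qq x + 1 = nn G x) :
    Nat.card ↥(MulAction.stabilizer G x ⊓ MulAction.stabilizer G y) = M.cc x := by
  set S := MulAction.stabilizer G x with hS
  have hfinO : (MulAction.orbit G x).Finite := Set.finite_range _
  -- the orbit of `y` under `S`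
  have hsub : MulAction.orbit S y ⊆ MulAction.orbit G x \ {x} := by
    rintro z ⟨s, rfl⟩
    refine ⟨?_, ?_⟩
    · obtain ⟨g, rfl⟩ := hy
      exact ⟨s.1 * g, mul_smul s.1 g x⟩
    · intro hz
      have hz' : (s : G) • y = x := hz
      have hsx : (s : G) • x = x := s.2
      exact hxy (MulAction.injective (s : G) (hz'.trans hsx.symm))
  have hcard1 : (MulAction.orbit G x \ {x}).ncard = M.qq x := by
    rw [Set.ncard_sdiff_singleton_of_mem (MulAction.mem_orbit_self x), ← Nat.card_coe_set_eq]
    show nn G x - 1 = M.qq x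
    omega
  have hle : Nat.card (MulAction.orbit S y) ≤ M.qq x := by
    rw [Nat.card_coe_set_eq, ← hcard1]
    exact Set.ncard_le_ncard hsub (hfinO.sdiff)
  -- `Q x` acts freely
  have hge : M.qq x ≤ Nat.card (MulAction.orbit S y) := by
    have : Finite (MulAction.orbit S y) := Set.finite_range _
    let f : M.Q x → MulAction.orbit S y := fun u =>
      ⟨(u : G) • y, ⟨⟨u.1, M.Q_le x u.2⟩, rfl⟩⟩
    have hf : Function.Injective f := by
      intro u v huv
      have h1 : (u : G) • y = (v : G) • y := congrArg Subtype.val huv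
      have h2 : ((v : G)⁻¹ * (u : G)) • y = y := by rw [mul_smul, h1, inv_smul_smul]
      have h3 : (v : G)⁻¹ * (u : G) ∈ M.Q x := (M.Q x).mul_mem ((M.Q x).inv_mem v.2) u.2
      rw [M.mem_Q] at h3
      rcases h3 with h3 | h3
      · apply Subtype.ext
        have := eq_of_inv_mul_eq_one h3
        exact this.symm
      · exact absurd (h3.2 y h2) hxy
    exact Nat.card_le_card_of_injective f hf
  have horb : Nat.card (MulAction.orbit S y) = M.qq x := le_antisymm hle hge
  have h1 := card_orbit_mul_card_stabilizer (G := S) y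
  rw [horb] at h1
  have h2 : Nat.card S = M.qq x * M.cc x := M.card_stabilizer x
  have h3 : Nat.card (MulAction.stabilizer S y) =
      Nat.card ↥(MulAction.stabilizer G x ⊓ MulAction.stabilizer G y) := by
    apply Nat.card_congr
    exact ⟨fun g => ⟨g.1.1, g.1.2, g.2⟩, fun g => ⟨⟨g.1, g.2.1⟩, g.2.2⟩, fun g => rfl,
      fun g => rfl⟩
  rw [h3, h2] at h1
  have hqpos : 0 < M.qq x := Nat.card_pos
  exact Nat.eq_of_mul_eq_mul_left hqpos h1

include M in
/-- the second fixed point of the stabiliser of a tame singular point -/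
theorem IsMob.exists_second_fix [Finite G] (x : X) (hq : M.qq x = 1) (he : 2 ≤ ee G x) :
    ∃ y : X, y ≠ x ∧ MulAction.stabilizer G x ≤ MulAction.stabilizer G y ∧
      ∃ g : G, g ≠ 1 ∧ g • x = x ∧ g • y = y ∧ orderOf g = ee G x ∧
        ∀ z : X, g • z = z → z = x ∨ z = y := by
  have hcyc := M.isCyclic_stabilizer x hq
  obtain ⟨g, hg⟩ := hcyc.exists_generator
  have hord : orderOf g = ee G x := orderOf_eq_card_of_forall_mem_zpowers hg
  have hg1 : (g : G) ≠ 1 := by
    intro h
    have : g = 1 := Subtype.ext h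
    rw [this, orderOf_one] at hord
    omega
  have hnp : ¬ IsPar (X := X) (g : G) := by
    rintro ⟨z, hz⟩
    have hzx : x = z := hz.2 x g.2
    subst hzx
    have hmem : (g : G) ∈ M.Q x := (M.mem_Q x _).mpr (Or.inr hz)
    rw [M.Q_eq_bot x hq, Subgroup.mem_bot] at hmem
    exact hg1 hmem
  have h2 := M.ncard_fixedBy_of_not_isPar hg1 hnp
  have hxmem : x ∈ MulAction.fixedBy X (g : G) := g.2
  obtain ⟨y, hy, hyx⟩ : ∃ y ∈ MulAction.fixedBy X (g : G), y ≠ x := by
    by_contra hcon
    push Not at hcon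
    have : MulAction.fixedBy X (g : G) = {x} := by
      ext z
      constructor
      · intro hz; exact hcon z hz
      · rintro rfl; exact hxmem
    rw [this, Set.ncard_singleton] at h2
    omega
  refine ⟨y, hyx, ?_, (g : G), hg1, g.2, hy, by rw [Subgroup.orderOf_coe, hord], ?_⟩
  · intro s hs
    obtain ⟨k, hk⟩ := hg ⟨s, hs⟩
    have : s = (g : G) ^ k := by
      have := congrArg Subtype.val hk
      simpa using this.symm
    rw [this]
    exact (MulAction.stabilizer G y).zpow_mem hy k
  · intro z hz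
    exact M.fix_mem_pair hg1 (Ne.symm hyx) g.2 hy hz

end Cfsg.Agent.Lib.Helper5.Mob
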