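import Mathlib
import Cfsg.Agent.Lib.Helper5.MobPair
import Cfsg.Agent.Lib.Helper5.DicksonOrders

set_option autoImplicit false

/-! The orbits of `PSL₂(q)` on the projective line over the algebraic closure. -/

namespace Cfsg.Agent.Lib.Helper5.PSL2Tori

open Matrix Cfsg.Agent.Lib.Helper4 Cfsg.Agent.Lib.Helper5.Mob Cfsg.Agent.Lib.Helper5.MobPGL
  Cfsg.Agent.Lib.Helper5.MobWild Cfsg.Agent.Lib.Helper5.MobRat Cfsg.Agent.Lib.Helper5.DicksonBorel
  Cfsg.Agent.Lib.Helper5.DicksonMain Cfsg.Agent.Lib.Helper5.DicksonOrders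
open scoped LinearAlgebra.Projectivization MatrixGroups

variable {F E : Type*} [Field F] [Fintype F] [Field E] [IsAlgClosed E] (j : F →+* E)
  (p : ℕ) [Fact p.Prime] [CharP F p] [CharP E p]

/-- the image of `PSL₂(F)` in `PGL₂(E)` -/
noncomputable abbrev Gam : Subgroup PGL(Fin 2, E) :=
  img j (⊤ : Subgroup (Matrix.ProjectiveSpecialLinearGroup (Fin 2) F))

omit [Fintype F] [IsAlgClosed E] in
theorem mem_Gam (g : PGL(Fin 2, E)) :
    g ∈ Gam j ↔ ∃ h : Matrix.ProjectiveSpecialLinearGroup (Fin 2) F, pslHom j h = g := by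
  unfold Gam img
  rw [Subgroup.mem_map]
  constructor
  · rintro ⟨h, -, rfl⟩; exact ⟨h, rfl⟩
  · rintro ⟨h, rfl⟩; exact ⟨h, Subgroup.mem_top _, rfl⟩

/-- `PSL₂(F)` is isomorphic to its image -/
noncomputable def gamIso : Matrix.ProjectiveSpecialLinearGroup (Fin 2) F ≃* Gam j :=
  Subgroup.topEquiv.symm.trans (imgIso j ⊤)

omit [Fintype F] [IsAlgClosed E] in
theorem gamIso_coe (h : Matrix.ProjectiveSpecialLinearGroup (Fin 2) F) :
    ((gamIso j h : Gam j) : PGL(Fin 2, E)) = pslHom j h := by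
  unfold gamIso
  rw [MulEquiv.trans_apply, imgIso_coe]
  rfl

omit [Fintype F] [IsAlgClosed E] in
theorem gamIso_smul (h : Matrix.ProjectiveSpecialLinearGroup (Fin 2) F) (x : ℙ E (Fin 2 → E)) :
    gamIso j h • x = pslHom j h • x := by
  show ((gamIso j h : Gam j) : PGL(Fin 2, E)) • x = _
  rw [gamIso_coe]

omit [Fintype F] [IsAlgClosed E] in
theorem card_Gam : Nat.card (Gam j) =
    Nat.card (Matrix.ProjectiveSpecialLinearGroup (Fin 2) F) :=
  (Nat.card_congr (gamIso j).toEquiv).symm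

omit [Fintype F] [IsAlgClosed E] in
theorem Gam_le_ratGroup : Gam j ≤ ratGroup j := img_le_ratGroup j ⊤

omit [Fintype F] [IsAlgClosed E] in
/-- the order of a stabiliser -/
theorem ee_Gam (x : ℙ E (Fin 2 → E)) : ee (Gam j) x =
    Nat.card ((MulAction.stabilizer PGL(Fin 2, E) x).comap (pslHom j)) := by
  symm
  apply Nat.card_congr
  exact (gamIso j).toEquiv.subtypeEquiv (fun h => by
    rw [Subgroup.mem_comap, MulAction.mem_stabilizer_iff, MulAction.mem_stabilizer_iff]
    show _ ↔ gamIso j h • x = x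
    rw [gamIso_smul])

omit [IsAlgClosed E] in
theorem ee_inf : Nat.gcd 2 (Fintype.card F - 1) * ee (Gam j) (inf : ℙ E (Fin 2 → E)) =
    Fintype.card F * (Fintype.card F - 1) := by
  rw [ee_Gam]
  exact card_borelB j

omit [IsAlgClosed E] in
theorem nn_inf : nn (Gam j) (inf : ℙ E (Fin 2 → E)) = Fintype.card F + 1 := by
  have h1 := card_orbit_mul_card_stabilizer (G := Gam j) (inf : ℙ E (Fin 2 → E))
  have h2 := ee_inf j
  have h3 := card_PSL2_mul (F := F)
  rw [← card_Gam j, ← h1] at h3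
  set q := Fintype.card F with hq
  have hq2 : 2 ≤ q := Fintype.one_lt_card
  have hpos : 0 < q * (q - 1) := Nat.mul_pos (by omega) (by omega)
  have h4 : nn (Gam j) (inf : ℙ E (Fin 2 → E)) * (q * (q - 1)) = (q + 1) * (q * (q - 1)) := by
    rw [← h2]
    show Nat.card (MulAction.orbit (Gam j) (inf : ℙ E (Fin 2 → E))) * _ = _
    have : ee (Gam j) (inf : ℙ E (Fin 2 → E)) =
        Nat.card (MulAction.stabilizer (Gam j) (inf : ℙ E (Fin 2 → E))) := rfl
    rw [this] at h2 ⊢
    calc _ = Nat.gcd 2 (q - 1) * (Nat.card (MulAction.orbit (Gam j) (inf : ℙ E (Fin 2 → E))) *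
          Nat.card (MulAction.stabilizer (Gam j) (inf : ℙ E (Fin 2 → E)))) := by ring
      _ = q * ((q - 1) * (q + 1)) := h3
      _ = _ := by rw [h2]; ring
  exact Nat.eq_of_mul_eq_mul_right hpos h4

omit [CharP F p] in
theorem qq_inf : (subMob (Gam j) p).qq (inf : ℙ E (Fin 2 → E)) = Fintype.card F := by
  set M := subMob (Gam j) p
  have hsing : (inf : ℙ E (Fin 2 → E)) ∈ sing (Gam j) (ℙ E (Fin 2 → E)) := by
    obtain ⟨u, hu, hu1⟩ := exists_ne_one_mem_borelU j
    refine ⟨gamIso j u, fun h => hu1 ?_, ?_⟩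
    · have := (gamIso j).injective (h.trans (map_one _).symm)
      exact this
    · rw [gamIso_smul]
      exact (onlyFix_of_mem_borelU j hu hu1).1
  obtain ⟨-, -, -, -, -, -, h7⟩ := M.point_facts _ hsing
  rw [nn_inf, Nat.add_sub_cancel] at h7
  have hle : M.qq (inf : ℙ E (Fin 2 → E)) ≤ Fintype.card F := Nat.le_of_dvd Fintype.card_pos h7
  apply le_antisymm hle
  rw [← card_borelU j]
  let f : borelU j → M.Q (inf : ℙ E (Fin 2 → E)) := fun u => ⟨gamIso j u.1, by
    rw [M.mem_Q]
    by_cases hu1 : u.1 = 1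
    · left; rw [hu1, map_one]
    · right
      have := onlyFix_of_mem_borelU j u.2 hu1
      constructor
      · rw [gamIso_smul]; exact this.1
      · intro y hy
        rw [gamIso_smul] at hy
        exact this.2 y hy⟩
  have hf : Function.Injective f := by
    intro u v huv
    apply Subtype.ext
    apply (gamIso j).injective
    exact congrArg Subtype.val huv
  exact Nat.card_le_card_of_injective f hf

omit [IsAlgClosed E] in
/-- the orbit of `∞` consists of the rational points -/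
theorem mem_orbit_inf_iff (x : ℙ E (Fin 2 → E)) :
    x ∈ MulAction.orbit (Gam j) (inf : ℙ E (Fin 2 → E)) ↔ IsRat j x := by
  constructor
  · rintro ⟨g, rfl⟩
    exact isRat_smul j (Gam_le_ratGroup j g.2) (isRat_inf j)
  · intro hx
    obtain ⟨g, hg⟩ := exists_smul_inf_eq_of_isRat j hx
    exact ⟨gamIso j g, by rw [← hg]; exact gamIso_smul j g _⟩

end Cfsg.Agent.Lib.Helper5.PSL2Tori
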