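import Mathlib
import Cfsg.Agent.Lib.Helper5.PSL2Orbits

set_option autoImplicit false

/-! The class equation of `PSL₂(q)`: the non-split torus. -/

namespace Cfsg.Agent.Lib.Helper5.PSL2Tori

open Matrix Cfsg.Agent.Lib.Helper4 Cfsg.Agent.Lib.Helper5.Mob Cfsg.Agent.Lib.Helper5.MobPGL
  Cfsg.Agent.Lib.Helper5.MobWild Cfsg.Agent.Lib.Helper5.MobRat Cfsg.Agent.Lib.Helper5.DicksonBorel
  Cfsg.Agent.Lib.Helper5.DicksonMain Cfsg.Agent.Lib.Helper5.DicksonOrders
open scoped LinearAlgebra.Projectivization MatrixGroups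

variable {F E : Type*} [Field F] [Fintype F] [Field E] [IsAlgClosed E] (j : F →+* E)
  (p : ℕ) [Fact p.Prime] [CharP F p] [CharP E p]

/-- arithmetic of the class equation -/
theorem class_arith {q d b g Q t₀ S : ℕ} (hq : 2 ≤ q) (hd : d * b = q * (q - 1)) (hd2 : d ≤ 2)
    (hg : g = (q + 1) * b) (hQ : Q = q * (q - 1))
    (ht₀ : t₀ = (q + 1) * ((b - 1) + (q - 1))) (hsum : t₀ + S = 2 * (g - 1)) :
    Q + 1 ≤ g ∧ S + Q = g := by
  obtain ⟨k, rfl⟩ : ∃ k, q = k + 2 := ⟨q - 2, by omega⟩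
  have hb : 1 ≤ b := by
    rcases Nat.eq_zero_or_pos b with h | h
    · rw [h, mul_zero] at hd
      have : 0 < (k + 2) * (k + 2 - 1) := Nat.mul_pos (by omega) (by omega)
      omega
    · exact h
  obtain ⟨c, rfl⟩ : ∃ c, b = c + 1 := ⟨b - 1, by omega⟩
  have e1 : k + 2 - 1 = k + 1 := by omega
  have e2 : c + 1 - 1 = c := by omega
  rw [e1] at hd hQ ht₀
  rw [e2] at ht₀
  have hQ' : Q = k * k + 3 * k + 2 := by rw [hQ]; ring
  have hdb : d * (c + 1) ≤ 2 * (c + 1) := Nat.mul_le_mul_right _ hd2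
  have hg' : g = (k + 3) * (c + 1) := by rw [hg]
  have h1 : (k + 3) * (c + 1) = k * (c + 1) + 3 * (c + 1) := by ring
  have h2 : (k + 2) * (k + 1) = k * k + 3 * k + 2 := by ring
  have ht : t₀ = (k + 3) * (c + 1) + (k * k + 3 * k) := by rw [ht₀]; ring
  have hkc : k * k + 3 * k + 2 ≤ 2 * (c + 1) := by omega
  have h3 : k * (c + 1) + 3 * (c + 1) ≥ 2 * (c + 1) + (c + 1) := by nlinarith
  constructor
  · omega
  · omega

omit [Fintype F] [IsAlgClosed E] in
theorem inf_mem_sing : (inf : ℙ E (Fin 2 → E)) ∈ sing (Gam j) (ℙ E (Fin 2 → E)) := by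
  obtain ⟨u, hu, hu1⟩ := exists_ne_one_mem_borelU j
  refine ⟨gamIso j u, fun h => hu1 ?_, ?_⟩
  · exact (gamIso j).injective (h.trans (map_one _).symm)
  · rw [gamIso_smul]
    exact (onlyFix_of_mem_borelU j hu hu1).1

/-- the class equation of `PSL₂(q)`: the singular points that are not rational form one orbit,
with tame stabilisers of order `(q + 1) / d` -/
theorem exists_nonsplit :
    ∃ x₁ : ℙ E (Fin 2 → E), ¬ IsRat j x₁ ∧
      Nat.gcd 2 (Fintype.card F - 1) * ee (Gam j) x₁ = Fintype.card F + 1 ∧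
      (subMob (Gam j) p).qq x₁ = 1 ∧
      ∀ t ∈ sing (Gam j) (ℙ E (Fin 2 → E)), ¬ IsRat j t → t ∈ MulAction.orbit (Gam j) x₁ := by
  classical
  set M := subMob (Gam j) p with hM
  set q := Fintype.card F with hq
  have hq2 : 2 ≤ q := Fintype.one_lt_card
  obtain ⟨R, hRs, hcov, hind, hsum⟩ := M.class_eq_orbits
  obtain ⟨r₀, hr₀, hinf⟩ := hcov _ (inf_mem_sing j)
  obtain ⟨g₀, hg₀⟩ := hinf
  have hg₀' : g₀ • r₀ = (inf : ℙ E (Fin 2 → E)) := hg₀
  have horb : MulAction.orbit (Gam j) r₀ = MulAction.orbit (Gam j) (inf : ℙ E (Fin 2 → E)) := by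
    rw [← hg₀', MulAction.orbit_smul]
  have hnn : nn (Gam j) r₀ = q + 1 := by
    rw [← nn_inf j]
    show Nat.card (MulAction.orbit (Gam j) r₀) = Nat.card (MulAction.orbit (Gam j) _)
    rw [horb]
  have hee : ee (Gam j) r₀ = ee (Gam j) (inf : ℙ E (Fin 2 → E)) := by
    rw [← hg₀']; exact (card_stabilizer_smul g₀ r₀).symm
  have hqq : M.qq r₀ = q := by
    have h1 : M.qq (g₀ • r₀) = M.qq r₀ := M.card_Q_smul g₀ r₀
    rw [← h1, hg₀']
    exact qq_inf j p
  have hnr : ∀ x ∈ R, x ≠ r₀ → ¬ IsRat j x := by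
    intro x hx hne hrat
    rw [← mem_orbit_inf_iff, ← horb] at hrat
    exact hne (hind r₀ hr₀ x hx hrat).symm
  have hq1 : ∀ x ∈ R, x ≠ r₀ → M.qq x = 1 := by
    intro x hx hne
    by_contra h
    exact hnr x hx hne (isRat_of_qq j p ⊤ h)
  rw [← Finset.add_sum_erase R _ hr₀] at hsum
  have hb := ee_inf j
  rw [← hq] at hb
  have hd2 : Nat.gcd 2 (q - 1) ≤ 2 := Nat.gcd_le_left _ (by norm_num)
  have hg : Nat.card (Gam j) = (q + 1) * ee (Gam j) (inf : ℙ E (Fin 2 → E)) := by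
    rw [← hnn, ← hee]; exact (card_orbit_mul_card_stabilizer r₀).symm
  have ht₀ : nn (Gam j) r₀ * ((ee (Gam j) r₀ - 1) + (M.qq r₀ - 1)) =
      (q + 1) * ((ee (Gam j) (inf : ℙ E (Fin 2 → E)) - 1) + (q - 1)) := by
    rw [hnn, hee, hqq]
  obtain ⟨h1, h2⟩ := class_arith hq2 hb hd2 hg rfl ht₀ hsum
  set g := Nat.card (Gam j) with hgdef
  set b := ee (Gam j) (inf : ℙ E (Fin 2 → E)) with hbdef
  have hQpos : 2 ≤ q * (q - 1) := by
    have : 2 * 1 ≤ q * (q - 1) := Nat.mul_le_mul hq2 (by omega)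
    omega
  -- the terms of the other orbits
  have hterm : ∀ x ∈ R.erase r₀, nn (Gam j) x * ((ee (Gam j) x - 1) + (M.qq x - 1)) +
      nn (Gam j) x = g ∧ 2 * nn (Gam j) x ≤ g := by
    intro x hx
    have hxR := Finset.mem_of_mem_erase hx
    have hxne := Finset.ne_of_mem_erase hx
    obtain ⟨a1, a2, -, a4, -, -, -⟩ := M.point_facts x (hRs x hxR)
    rw [hq1 x hxR hxne]
    obtain ⟨e', he'⟩ : ∃ e', ee (Gam j) x = e' + 2 := ⟨ee (Gam j) x - 2, by omega⟩
    rw [he'] at a2 ⊢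
    have a2' : nn (Gam j) x * (e' + 2) = g := a2
    have e1 : e' + 2 - 1 + (1 - 1) = e' + 1 := by omega
    rw [e1]
    constructor
    · rw [← a2']; ring
    · rw [← a2']; nlinarith
  set R' := R.erase r₀ with hR'
  set f : ℙ E (Fin 2 → E) → ℕ :=
    fun x => nn (Gam j) x * ((ee (Gam j) x - 1) + (M.qq x - 1)) with hf
  have hS : ∑ x ∈ R', f x + q * (q - 1) = g := h2
  rcases Nat.lt_or_ge R'.card 1 with hc0 | hc1
  · exfalso
    have : R' = ∅ := Finset.card_eq_zero.mp (by omega)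
    rw [this, Finset.sum_empty] at hS
    omega
  rcases Nat.lt_or_ge 1 R'.card with hc2 | hc2
  · exfalso
    obtain ⟨x, hx, y, hy, hxy⟩ := Finset.one_lt_card.mp hc2
    have hsub : ({x, y} : Finset (ℙ E (Fin 2 → E))) ⊆ R' := by
      intro z hz
      rw [Finset.mem_insert, Finset.mem_singleton] at hz
      rcases hz with rfl | rfl
      · exact hx
      · exact hy
    have hle := Finset.sum_le_sum_of_subset (f := f) hsub
    rw [Finset.sum_pair hxy] at hle
    obtain ⟨hx1, hx2⟩ := hterm x hx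
    obtain ⟨hy1, hy2⟩ := hterm y hy
    have hx1' : f x + nn (Gam j) x = g := hx1
    have hy1' : f y + nn (Gam j) y = g := hy1
    omega
  have hc : R'.card = 1 := le_antisymm hc2 hc1
  obtain ⟨x₁, hx₁⟩ := Finset.card_eq_one.mp hc
  have hx₁mem : x₁ ∈ R' := by rw [hx₁]; exact Finset.mem_singleton_self _
  have hx₁R := Finset.mem_of_mem_erase hx₁mem
  have hx₁ne := Finset.ne_of_mem_erase hx₁mem
  rw [hx₁, Finset.sum_singleton] at hS
  obtain ⟨ht1, ht2⟩ := hterm x₁ hx₁mem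
  have ht1' : f x₁ + nn (Gam j) x₁ = g := ht1
  have hnn₁ : nn (Gam j) x₁ = q * (q - 1) := by omega
  refine ⟨x₁, hnr x₁ hx₁R hx₁ne, ?_, hq1 x₁ hx₁R hx₁ne, ?_⟩
  · have h3 := card_orbit_mul_card_stabilizer (G := Gam j) x₁
    have h4 : nn (Gam j) x₁ * ee (Gam j) x₁ = g := h3
    rw [hnn₁, ← hb, hg] at h4
    have hbpos : 0 < b := by
      rcases Nat.eq_zero_or_pos b with h | h
      · rw [h, mul_zero] at hb; omega
      · exact h
    have h5 : b * (Nat.gcd 2 (q - 1) * ee (Gam j) x₁) = b * (q + 1) := by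
      calc b * (Nat.gcd 2 (q - 1) * ee (Gam j) x₁)
          = Nat.gcd 2 (q - 1) * b * ee (Gam j) x₁ := by ring
        _ = (q + 1) * b := h4
        _ = b * (q + 1) := by ring
    exact Nat.eq_of_mul_eq_mul_left hbpos h5
  · intro t ht htr
    obtain ⟨x, hx, htx⟩ := hcov t ht
    have hxne : x ≠ r₀ := by
      rintro rfl
      apply htr
      rw [← mem_orbit_inf_iff, ← horb]
      exact htx
    have : x ∈ R' := Finset.mem_erase.mpr ⟨hxne, hx⟩
    rw [hx₁, Finset.mem_singleton] at this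
    rw [← this]
    exact htx

end Cfsg.Agent.Lib.Helper5.PSL2Tori
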