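import Mathlib
import Cfsg.Agent.Lib.Helper5.PSL2Orbits2
import Cfsg.Agent.Lib.Helper5.DicksonFrob

set_option autoImplicit false

/-! The dihedral subgroups of `PSL₂(q)` of orders `2 (q ± 1) / d`. -/

namespace Cfsg.Agent.Lib.Helper5.PSL2Tori

open Matrix Cfsg.Agent.Lib.Helper4 Cfsg.Agent.Lib.Helper5.Mob Cfsg.Agent.Lib.Helper5.MobPGL
  Cfsg.Agent.Lib.Helper5.MobWild Cfsg.Agent.Lib.Helper5.MobRat Cfsg.Agent.Lib.Helper5.DicksonBorel
  Cfsg.Agent.Lib.Helper5.DicksonMain Cfsg.Agent.Lib.Helper5.DicksonOrders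
open scoped LinearAlgebra.Projectivization MatrixGroups

variable {F E : Type*} [Field F] [Fintype F] [Field E] [IsAlgClosed E] (j : F →+* E)
  (p : ℕ) [Fact p.Prime] [CharP F p] [CharP E p]

omit [Fintype F] [IsAlgClosed E] in
/-- a field endomorphism over `F` fixes the rational points -/
theorem ptMap_of_isRat (φ : E →+* E) (hφ : φ.comp j = j) {x : ℙ E (Fin 2 → E)}
    (hx : IsRat j x) : ptMap φ x = x := by
  obtain ⟨x', rfl⟩ := hx
  rw [ptMap_comp, hφ]

/-- the Weyl element -/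
def weyl (F : Type*) [Field F] : Matrix.SpecialLinearGroup (Fin 2) F :=
  ⟨!![0, -1; 1, 0], by simp [Matrix.det_fin_two]⟩

omit [Fintype F] [IsAlgClosed E] in
/-- the Weyl element acts as `z ↦ -1 / z` -/
theorem pslHom_weyl :
    pslHom j (QuotientGroup.mk (weyl F) : Matrix.ProjectiveSpecialLinearGroup (Fin 2) F) =
      swapM (-1 : Eˣ) := by
  show Matrix.ProjGenLinGroup.map j (Matrix.SpecialLinearGroup.toPGL (weyl F)) = _
  unfold swapM
  rw [MonoidHom.comp_apply, Matrix.ProjGenLinGroup.map_mk]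
  congr 1
  apply Units.ext
  ext i k
  fin_cases i <;> fin_cases k <;>
    simp [swapGL, weyl, Matrix.SpecialLinearGroup.toGL]

/-- the non-split pair of points -/
theorem exists_nonsplit_pair :
    ∃ x y : ℙ E (Fin 2 → E), x ≠ y ∧ ¬ IsRat j x ∧ ¬ IsRat j y ∧
      (∃ c : Gam j, c • x = y ∧ c • y = x) ∧
      MulAction.stabilizer (Gam j) x = MulAction.stabilizer (Gam j) y ∧
      Nat.gcd 2 (Fintype.card F - 1) * ee (Gam j) x = Fintype.card F + 1 ∧
      (subMob (Gam j) p).qq x = 1 ∧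
      ∀ t ∈ sing (Gam j) (ℙ E (Fin 2 → E)), ¬ IsRat j t → t ∈ MulAction.orbit (Gam j) x := by
  set M := subMob (Gam j) p with hM
  obtain ⟨x, hxr, hee, hqq, hcov⟩ := exists_nonsplit j p
  have hq2 : 2 ≤ Fintype.card F := Fintype.one_lt_card
  have hd2 : Nat.gcd 2 (Fintype.card F - 1) ≤ 2 := Nat.gcd_le_left _ (by norm_num)
  have he2 : 2 ≤ ee (Gam j) x := by
    by_contra hlt
    push Not at hlt
    have : Nat.gcd 2 (Fintype.card F - 1) * ee (Gam j) x ≤ 2 * 1 :=
      Nat.mul_le_mul hd2 (by omega)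
    omega
  obtain ⟨y, hyx, hle, g, hg1, hgx, hgy, hord, hfix⟩ := M.exists_second_fix x hqq he2
  obtain ⟨φ, -, hφ2, hφ3⟩ := DicksonFrob.exists_frob j p
  have hgrat : (g : PGL(Fin 2, E)) ∈ ratGroup j := Gam_le_ratGroup j g.2
  have hyr : ¬ IsRat j y := by
    intro hy
    have h1 : (g : PGL(Fin 2, E)) • ptMap φ x = ptMap φ x := by
      rw [← ptMap_smul_of_mem_ratGroup j φ hφ2 hgrat]
      congr 1
    rcases hfix _ h1 with h | h
    · exact hxr (isRat_of_ptMap_eq j φ hφ3 h)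
    · have h2 := ptMap_of_isRat j φ hφ2 hy
      rw [← h2] at h
      exact hyx (ptMap_injective φ h).symm
  have hysing : y ∈ sing (Gam j) (ℙ E (Fin 2 → E)) := ⟨g, hg1, hgy⟩
  obtain ⟨c, hc⟩ := hcov y hysing hyr
  have hc' : c • x = y := hc
  have hstab : MulAction.stabilizer (Gam j) x = MulAction.stabilizer (Gam j) y := by
    apply Subgroup.eq_of_le_of_card_ge hle
    rw [← hc']
    exact le_of_eq (card_stabilizer_smul c x)
  have hcy : c • y = x := by
    have h1 : (c⁻¹ * g * c) • x = x := by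
      rw [mul_smul, mul_smul, hc', hgy, ← hc', inv_smul_smul]
    have h2 : c⁻¹ * g * c ∈ MulAction.stabilizer (Gam j) y := by
      rw [← hstab]; exact h1
    have h3 : (c⁻¹ * g * c) • y = y := h2
    rw [mul_smul, mul_smul, inv_smul_eq_iff] at h3
    rcases hfix _ h3 with h | h
    · exact h
    · exfalso
      exact hyx (MulAction.injective c (h.trans hc'.symm))
  exact ⟨x, y, Ne.symm hyx, hxr, hyr, ⟨c, hc', hcy⟩, hstab, hee, hqq, hcov⟩

omit [CharP F p] in
/-- the order of the multiplier group at `∞` -/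
theorem cc_inf : Nat.gcd 2 (Fintype.card F - 1) * (subMob (Gam j) p).cc (inf : ℙ E (Fin 2 → E)) =
    Fintype.card F - 1 := by
  have h1 := (subMob (Gam j) p).card_stabilizer (inf : ℙ E (Fin 2 → E))
  have h2 := ee_inf j
  have h3 := qq_inf j p
  have h1' : ee (Gam j) (inf : ℙ E (Fin 2 → E)) =
      (subMob (Gam j) p).qq (inf : ℙ E (Fin 2 → E)) * (subMob (Gam j) p).cc (inf : ℙ E (Fin 2 → E)) := h1
  rw [h1', h3] at h2
  have hpos : 0 < Fintype.card F := Fintype.card_pos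
  apply Nat.eq_of_mul_eq_mul_left hpos
  rw [← h2]; ring

include p in
/-- the split pair of points -/
theorem split_pair :
    (∃ c : Gam j, c • (inf : ℙ E (Fin 2 → E)) = fin 0 ∧ c • (fin 0 : ℙ E (Fin 2 → E)) = inf) ∧
    Nat.gcd 2 (Fintype.card F - 1) *
      Nat.card ↥(MulAction.stabilizer (Gam j) (inf : ℙ E (Fin 2 → E)) ⊓
        MulAction.stabilizer (Gam j) (fin 0 : ℙ E (Fin 2 → E))) = Fintype.card F - 1 := by
  constructor
  · refine ⟨gamIso j (QuotientGroup.mk (weyl F)), ?_, ?_⟩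
    · rw [gamIso_smul, pslHom_weyl, swapM_smul_inf]
    · rw [gamIso_smul, pslHom_weyl, swapM_smul_zero]
  · have h0 : (fin 0 : ℙ E (Fin 2 → E)) ∈ MulAction.orbit (Gam j) (inf : ℙ E (Fin 2 → E)) := by
      rw [mem_orbit_inf_iff]
      have := isRat_fin j 0
      rwa [map_zero] at this
    rw [(subMob (Gam j) p).card_stab_pair _ _ h0 (fin_ne_inf 0)
      (by rw [qq_inf j p, nn_inf j])]
    exact cc_inf j p

include p in
/-- the dihedral subgroup of order `2 (q - 1) / d` -/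
theorem exists_dihedral_sub : ∃ N : Subgroup (Gam j),
    Nonempty (N ≃* DihedralGroup ((Fintype.card F - 1) / Nat.gcd 2 (Fintype.card F - 1))) := by
  obtain ⟨⟨c, hc1, hc2⟩, hcard⟩ := split_pair j p
  obtain ⟨-, ⟨e⟩⟩ := (subMob (Gam j) p).pairStab_dihedral (inf : ℙ E (Fin 2 → E)) (fin 0)
    (fin_ne_inf 0).symm c hc1 hc2
  refine ⟨pairStab (Gam j) (inf : ℙ E (Fin 2 → E)) (fin 0), ⟨?_⟩⟩
  have hd : 0 < Nat.gcd 2 (Fintype.card F - 1) := Nat.gcd_pos_of_pos_left _ (by norm_num)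
  rw [Nat.div_eq_of_eq_mul_right hd hcard.symm]
  exact e

include p in
/-- the dihedral subgroup of order `2 (q + 1) / d` -/
theorem exists_dihedral_add : ∃ N : Subgroup (Gam j),
    Nonempty (N ≃* DihedralGroup ((Fintype.card F + 1) / Nat.gcd 2 (Fintype.card F - 1))) := by
  obtain ⟨x, y, hxy, -, -, ⟨c, hc1, hc2⟩, hstab, hee, -, -⟩ := exists_nonsplit_pair j p
  obtain ⟨-, ⟨e⟩⟩ := (subMob (Gam j) p).pairStab_dihedral x y hxy c hc1 hc2
  refine ⟨pairStab (Gam j) x y, ⟨?_⟩⟩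
  have hd : 0 < Nat.gcd 2 (Fintype.card F - 1) := Nat.gcd_pos_of_pos_left _ (by norm_num)
  have h1 : Nat.card ↥(MulAction.stabilizer (Gam j) x ⊓ MulAction.stabilizer (Gam j) y) =
      ee (Gam j) x := by
    rw [← hstab, inf_idem]
  rw [Nat.div_eq_of_eq_mul_right hd hee.symm, ← h1]
  exact e

omit [Fintype F] [IsAlgClosed E] in
/-- subgroups of the image come from subgroups of `PSL₂(F)` -/
theorem exists_pullback (N : Subgroup (Gam j)) :
    ∃ H : Subgroup (Matrix.ProjectiveSpecialLinearGroup (Fin 2) F), Nonempty (H ≃* N) :=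
  ⟨N.map (gamIso j).symm.toMonoidHom,
    ⟨(N.equivMapOfInjective _ (gamIso j).symm.injective).symm⟩⟩

end Cfsg.Agent.Lib.Helper5.PSL2Tori

namespace Cfsg.Agent.Lib.Helper5.PSL2Tori

variable {F : Type*} [Field F] [Fintype F]

/-- `PSL₂(q)` contains a dihedral group of order `2 (q - 1) / d` -/
theorem exists_psl_dihedral_sub :
    ∃ H : Subgroup (Matrix.ProjectiveSpecialLinearGroup (Fin 2) F),
      Nonempty (H ≃* DihedralGroup ((Fintype.card F - 1) / Nat.gcd 2 (Fintype.card F - 1))) := by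
  obtain ⟨p, hp⟩ := CharP.exists F
  have : Fact p.Prime := ⟨CharP.char_is_prime F p⟩
  have : CharP (AlgebraicClosure F) p :=
    charP_of_injective_algebraMap (algebraMap F (AlgebraicClosure F)).injective p
  obtain ⟨N, ⟨e⟩⟩ := exists_dihedral_sub (algebraMap F (AlgebraicClosure F)) p
  obtain ⟨H, ⟨e'⟩⟩ := exists_pullback (algebraMap F (AlgebraicClosure F)) N
  exact ⟨H, ⟨e'.trans e⟩⟩

/-- `PSL₂(q)` contains a dihedral group of order `2 (q + 1) / d` -/
theorem exists_psl_dihedral_add :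
    ∃ H : Subgroup (Matrix.ProjectiveSpecialLinearGroup (Fin 2) F),
      Nonempty (H ≃* DihedralGroup ((Fintype.card F + 1) / Nat.gcd 2 (Fintype.card F - 1))) := by
  obtain ⟨p, hp⟩ := CharP.exists F
  have : Fact p.Prime := ⟨CharP.char_is_prime F p⟩
  have : CharP (AlgebraicClosure F) p :=
    charP_of_injective_algebraMap (algebraMap F (AlgebraicClosure F)).injective p
  obtain ⟨N, ⟨e⟩⟩ := exists_dihedral_add (algebraMap F (AlgebraicClosure F)) p
  obtain ⟨H, ⟨e'⟩⟩ := exists_pullback (algebraMap F (AlgebraicClosure F)) N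
  exact ⟨H, ⟨e'.trans e⟩⟩

end Cfsg.Agent.Lib.Helper5.PSL2Tori
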