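import Mathlib
import Cfsg.Prelude.Def_ChevStructure
import Cfsg.Prelude.Def_LieExceptional
import Cfsg.Agent.S0319
import Cfsg.Agent.Lib.Helper5.ChevBNPair
import Cfsg.Agent.Lib.Helper5.ChevPerfect
import Cfsg.Agent.Lib.Helper5.ChevCore

set_option autoImplicit false

/-!
Simplicity of the Chevalley groups, from the `(B,N)`-pair.
-/

namespace Cfsg.Agent.Lib.Helper5.ChevStruct

open Cfsg Cfsg.Lie Cfsg.Agent.Lib.Helper5.ChevSym

variable {F : Type*} [Field F]

/-- for an edge `(a, b)` of the Dynkin diagram, `[n_a, n_b] ∉ B` -/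
theorem nGL_comm_not_mem (D : ChevalleyDatum) (hD : D ∈ Seven) (a b : ℕ) (ha : a < D.rank)
    (hb : b < D.rank)
    (hne : D.reflectRoot a (D.reflectRoot b (D.simple b)) ≠
      D.reflectRoot b (D.reflectRoot a (D.simple b))) :
    (nGL D hD a * nGL D hD b * (nGL D hD a)⁻¹ * (nGL D hD b)⁻¹ : GL D.Idx F) ∉
      D.borelSubgroup F := by
  intro hB
  have hr : D.simple b < D.nroots := (checkRows_spec D (checkRows_all D hD) b hb).2.1
  set sa : GL D.Idx F := nGL D hD a with hsa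
  set sb : GL D.Idx F := nGL D hD b with hsb
  have hsaN : sa ∈ D.monomialSubgroup F := nGL_mem D hD a ha
  have hsbN : sb ∈ D.monomialSubgroup F := nGL_mem D hD b hb
  set c : GL D.Idx F := sa * sb * sa⁻¹ * sb⁻¹ with hc
  have hN : c ∈ D.monomialSubgroup F :=
    (D.monomialSubgroup F).mul_mem ((D.monomialSubgroup F).mul_mem
      ((D.monomialSubgroup F).mul_mem hsaN hsbN) ((D.monomialSubgroup F).inv_mem hsaN))
      ((D.monomialSubgroup F).inv_mem hsbN)
  have hH : c ∈ D.diagonalSubgroup F := by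
    rw [← borel_inf_monomial D hD]
    exact ⟨hB, hN⟩
  obtain ⟨k, hk, hval⟩ := exists_torusMat_of_mem D hD c hH
  set x : GL D.Idx F := xGL D hD (D.simple b) 1 with hx
  have hrb := (reflectRoot_invol D hD b hb _ hr).1
  have hra := (reflectRoot_invol D hD a ha _ hr).1
  -- left side
  have h1 := nGL_conj (F := F) D hD b hb _ hr 1 x rfl
  have h2 := nGL_conj (F := F) D hD a ha _ hrb _ (sb * x * sb⁻¹) h1
  -- right side
  have h3 := nGL_conj (F := F) D hD a ha _ hr 1 x rfl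
  have h4 := nGL_conj (F := F) D hD b hb _ hra _ (sa * x * sa⁻¹) h3
  have h5 := torus_conj_x D hD c _ k hk hval _ _ h4
  have e : sa * (sb * x * sb⁻¹) * sa⁻¹ = c * (sb * (sa * x * sa⁻¹) * sb⁻¹) * c⁻¹ := by
    rw [hc]
    group
  rw [e, h5] at h2
  have hη : ((eta D a (D.reflectRoot b (D.simple b)) : ℤ) : F) *
      (((eta D b (D.simple b) : ℤ) : F) * 1) ≠ 0 := by
    apply mul_ne_zero
    · rcases eta_sq D hD a ha _ hrb with h | h <;> rw [h] <;> simp
    · apply mul_ne_zero _ one_ne_zero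
      rcases eta_sq D hD b hb _ hr with h | h <;> rw [h] <;> simp
  exact hne (x_root_inj D hD _ _ (reflectRoot_invol D hD a ha _ hrb).1
    (reflectRoot_invol D hD b hb _ hra).1 _ _ hη h2.symm)

/-- the `(B,N)`-pair is irreducible -/
theorem chevBNPair_irreducible (D : ChevalleyDatum) (hD : D ∈ Seven) :
    (chevBNPair D hD F).Irreducible := by
  intro J hJ hJne hJc
  have hmemG : ∀ i < D.rank, (nGL D hD i : GL D.Idx F) ∈ D.group F :=
    fun i hi => monomial_le_group D hD (nGL_mem D hD i hi)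
  -- the predicate on indices
  let p : ℕ → Prop := fun i => ∃ hi : i < D.rank, (⟨nGL D hD i, hmemG i hi⟩ : ↥(D.group F)) ∈ J
  have hS : ∀ s ∈ (chevBNPair D hD F).S, ∃ i, ∃ hi : i < D.rank,
      s = ⟨nGL D hD i, hmemG i hi⟩ := by
    rintro s ⟨i, hi, hs⟩
    exact ⟨i, hi, Subtype.ext (Units.ext (by rw [hs, nGL_val]))⟩
  have h1 : ∃ i < D.rank, p i := by
    obtain ⟨s, hs⟩ := hJne
    obtain ⟨i, hi, rfl⟩ := hS s (hJ hs)
    exact ⟨i, hi, hi, hs⟩
  have h2 : ∃ j < D.rank, ¬ p j := by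
    obtain ⟨s, hs, hsJ⟩ := hJc
    obtain ⟨j, hj, rfl⟩ := hS s hs
    exact ⟨j, hj, fun ⟨_, h⟩ => hsJ h⟩
  obtain ⟨e, -, hok, hcross⟩ := checkConn_spec D (dynkinOf D) (chkBN_all D hD).2.2 p h1 h2
  obtain ⟨ha, hb, hne⟩ := edgeOK_spec D e hok
  have hnot := nGL_comm_not_mem (F := F) D hD e.1 e.2 ha hb hne
  have hSa : (⟨nGL D hD e.1, hmemG _ ha⟩ : ↥(D.group F)) ∈ (chevBNPair D hD F).S :=
    ⟨e.1, ha, nGL_val D hD _⟩
  have hSb : (⟨nGL D hD e.2, hmemG _ hb⟩ : ↥(D.group F)) ∈ (chevBNPair D hD F).S :=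
    ⟨e.2, hb, nGL_val D hD _⟩
  rcases hcross with ⟨⟨_, hpa⟩, hpb⟩ | ⟨hpa, ⟨_, hpb⟩⟩
  · refine ⟨_, hpa, _, ⟨hSb, fun h => hpb ⟨hb, h⟩⟩, ?_⟩
    intro hmem
    exact hnot hmem
  · refine ⟨_, hpb, _, ⟨hSa, fun h => hpa ⟨ha, h⟩⟩, ?_⟩
    intro hmem
    apply hnot
    have hmem' : (nGL D hD e.2 * nGL D hD e.1 * (nGL D hD e.2)⁻¹ * (nGL D hD e.1)⁻¹ :
        GL D.Idx F) ∈ D.borelSubgroup F := hmem
    have := (D.borelSubgroup F).inv_mem hmem'
    have e' : (nGL D hD e.2 * nGL D hD e.1 * (nGL D hD e.2)⁻¹ * (nGL D hD e.1)⁻¹ :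
        GL D.Idx F)⁻¹ = nGL D hD e.1 * nGL D hD e.2 * (nGL D hD e.1)⁻¹ * (nGL D hD e.2)⁻¹ := by
      group
    rwa [e'] at this

theorem group_nontrivial (D : ChevalleyDatum) (hD : D ∈ Seven) : Nontrivial ↥(D.group F) := by
  have h0 : 0 < D.rank := by
    simp only [Seven, List.mem_cons, List.not_mem_nil, or_false] at hD
    rcases hD with rfl | rfl | rfl | rfl | rfl | rfl | rfl <;> decide
  have hr : D.simple 0 < D.nroots := (checkRows_spec D (checkRows_all D hD) 0 h0).2.1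
  refine ⟨⟨⟨xGL D hD (D.simple 0) 1, xGL_mem_group D hD _ _⟩, 1, fun h => ?_⟩⟩
  have h1 : (xGL D hD (D.simple 0) (1 : F) : GL D.Idx F) = 1 := congrArg Subtype.val h
  have h2 : D.x F (D.simple 0) (1 : F) = 1 := by
    rw [← xGL_val D hD, h1]
    rfl
  exact one_ne_zero ((Cfsg.Agent.S1024.result D hD _ hr _).1 h2)

theorem borel_subgroupOf_isSolvable (D : ChevalleyDatum) (hD : D ∈ Seven) :
    Group.IsSolvable ↥((D.borelSubgroup F).subgroupOf (D.group F)) := by
  have hs : Group.IsSolvable ↥(D.borelSubgroup F) := borel_isSolvable (F := F) D hD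
  have hinj : Function.Injective
      ((Subgroup.subgroupOfEquivOfLe (borel_le_group (F := F) D hD)).toMonoidHom) :=
    (Subgroup.subgroupOfEquivOfLe (borel_le_group (F := F) D hD)).injective
  exact Group.isSolvable_of_isSolvable_injective hinj

/-- the Chevalley groups are simple and non-abelian, whenever they are perfect -/
theorem group_simple (D : ChevalleyDatum) (hD : D ∈ Seven)
    (h2 : D = chevG2 ∨ D = chevB2 → ∃ a : F, a ≠ 0 ∧ a ≠ 1) :
    IsSimpleGroup ↥(D.group F) ∧ ¬ IsMulCommutative ↥(D.group F) := by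
  have hnt : Nontrivial ↥(D.group F) := group_nontrivial (F := F) D hD
  have hperf := group_perfect D hD h2
  have hsimple : IsSimpleGroup ↥(D.group F) :=
    Cfsg.Agent.S0319.result (chevBNPair D hD F) (chevBNPair_irreducible D hD)
      (borel_subgroupOf_isSolvable D hD) hperf (borel_normalCore D hD)
  refine ⟨hsimple, fun hcomm => ?_⟩
  have hbot : commutator ↥(D.group F) = ⊥ := by
    rw [commutator_def, Subgroup.commutator_eq_bot_iff_le_centralizer]
    intro x _ y _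
    exact (hcomm.is_comm.comm y x)
  rw [hbot] at hperf
  exact bot_ne_top hperf

end Cfsg.Agent.Lib.Helper5.ChevStruct
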