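import Mathlib
import Cfsg.Prelude.Def_ChevStructure
import Cfsg.Agent.Lib.Helper5.ChevSymSound

set_option autoImplicit false

/-!
A symbolic calculus for words in root elements, with parameters in `(ℤ/p)[x₁, …, xₙ]`: column
vectors are flat lists of terms `c * x^es * e_idx`; coefficients are compared modulo `p`.
-/

namespace Cfsg.Agent.Lib.Helper5.ChevSymP

open Cfsg Cfsg.Lie Cfsg.Agent.Lib.Helper5.ChevSym

/-- A term `c * x^es * e_idx` of a column vector. -/
structure TermP where
  idx : ℕ
  es : List ℕ
  c : ℤ

abbrev VecP := List TermP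
/-- monomial `(es, c)` -/
abbrev MonoP := List ℕ × ℤ
abbrev PolyP := List MonoP

/-! ### Computation -/

def addE : List ℕ → List ℕ → List ℕ
  | [], l => l
  | a :: l, [] => a :: l
  | a :: l, b :: l' => Nat.add a b :: addE l l'

def allZ : List ℕ → Bool
  | [] => true
  | a :: l => Nat.beq a 0 && allZ l

def eqE : List ℕ → List ℕ → Bool
  | [], l => allZ l
  | a :: l, [] => Nat.beq a 0 && allZ l
  | a :: l, b :: l' => Nat.beq a b && eqE l l'

def pmulMonoP (m : MonoP) (q : PolyP) : PolyP :=
  q.map fun x => (addE m.1 x.1, Int.mul m.2 x.2)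

def pmulP (p q : PolyP) : PolyP := p.flatMap fun m => pmulMonoP m q

def ppowP (p : PolyP) : ℕ → PolyP
  | 0 => [([], 1)]
  | n + 1 => pmulP p (ppowP p n)

/-- powers of a polynomial, the small ones in a shape that the kernel can share -/
def ppowPM (p : PolyP) : ℕ → PolyP
  | 0 => [([], 1)]
  | 1 => p
  | 2 => pmulP p p
  | 3 => pmulP p (pmulP p p)
  | k + 4 => ppowP p (k + 4)

def unitP (col : ℕ) : TermP := ⟨col, [], 1⟩

def keyP (σ τ : TermP) : Bool := Nat.beq σ.idx τ.idx && eqE σ.es τ.es

/-- `c ≡ 0` modulo `p` -/
def isZp (p : ℕ) (c : ℤ) : Bool := isZ (Int.emod c (Int.ofNat p))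

def insertTP (p : ℕ) (τ : TermP) : VecP → VecP
  | [] => bif isZp p τ.c then [] else [τ]
  | σ :: rest =>
    bif keyP σ τ then
      (bif isZp p (Int.add σ.c τ.c) then rest else ⟨σ.idx, σ.es, Int.add σ.c τ.c⟩ :: rest)
    else σ :: insertTP p τ rest

/-- the product term of a vector term, a column entry and a monomial of the parameter power -/
def prodTermP (τ : TermP) (d : ℕ × ℤ × ℕ) (m : MonoP) : TermP :=
  ⟨d.1, addE τ.es m.1, Int.mul τ.c (Int.mul d.2.1 m.2)⟩

/-- apply `x_r(q)` to a vector, merging terms with equal keys on the fly -/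
def applyNormP (D : ChevalleyDatum) (p : ℕ) (r : ℕ) (q : PolyP) (v : VecP) : VecP :=
  v.foldr (fun τ acc => (xDataM D r τ.idx).foldr (fun d acc =>
    (ppowPM q d.2.2).foldr (fun m acc => insertTP p (prodTermP τ d m) acc) acc) acc) []

def wordColP (D : ChevalleyDatum) (p : ℕ) (w : List (ℕ × PolyP)) (col : ℕ) : VecP :=
  w.foldr (fun rp acc => applyNormP D p rp.1 rp.2 acc) [unitP col]

def negTermP (τ : TermP) : TermP := ⟨τ.idx, τ.es, Int.neg τ.c⟩

/-- `v - w`, merged -/
def subVecP (p : ℕ) (v w : VecP) : VecP :=
  w.foldr (fun τ acc => insertTP p (negTermP τ) acc) v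

def isNilP : VecP → Bool
  | [] => true
  | _ :: _ => false

def vecEqP (p : ℕ) (v w : VecP) : Bool := isNilP (subVecP p v w)

/-! ### Semantics -/

section sem

variable {F : Type*} [Field F]

def monoVal : List F → List ℕ → F
  | [], _ => 1
  | _ :: _, [] => 1
  | v :: vs, e :: es => v ^ e * monoVal vs es

def TermP.val (vals : List F) (τ : TermP) : F := (τ.c : F) * monoVal vals τ.es

def evalVecP (vals : List F) (v : VecP) (n : ℕ) : F :=
  (v.map fun τ => if τ.idx = n then τ.val vals else 0).sum

def evalMonoP (vals : List F) (m : MonoP) : F := (m.2 : F) * monoVal vals m.1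

def evalPolyP (vals : List F) (q : PolyP) : F := (q.map (evalMonoP vals)).sum

theorem monoVal_nil_right (vals : List F) : monoVal vals [] = 1 := by
  cases vals <;> rfl

theorem monoVal_addE (vals : List F) (e1 e2 : List ℕ) :
    monoVal vals (addE e1 e2) = monoVal vals e1 * monoVal vals e2 := by
  induction vals generalizing e1 e2 with
  | nil => simp [monoVal]
  | cons v vs ih =>
    cases e1 with
    | nil => simp [addE, monoVal]
    | cons a l =>
      cases e2 with
      | nil => simp [addE, monoVal]
      | cons b l' =>
        simp only [addE, monoVal, Nat.add_eq, ih, pow_add]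
        ring

theorem monoVal_allZ (vals : List F) (e : List ℕ) (h : allZ e = true) : monoVal vals e = 1 := by
  induction vals generalizing e with
  | nil => rfl
  | cons v vs ih =>
    cases e with
    | nil => rfl
    | cons a l =>
      simp only [allZ, Bool.and_eq_true] at h
      have ha : a = 0 := Nat.eq_of_beq_eq_true h.1
      simp only [monoVal, ha, pow_zero, one_mul, ih l h.2]

theorem monoVal_eqE (vals : List F) (e1 e2 : List ℕ) (h : eqE e1 e2 = true) :
    monoVal vals e1 = monoVal vals e2 := by
  induction vals generalizing e1 e2 with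
  | nil => rfl
  | cons v vs ih =>
    cases e1 with
    | nil =>
      simp only [eqE] at h
      rw [monoVal_allZ _ _ h]
      rfl
    | cons a l =>
      cases e2 with
      | nil =>
        have h' : allZ (a :: l) = true := h
        rw [monoVal_allZ _ _ h']
        rfl
      | cons b l' =>
        simp only [eqE, Bool.and_eq_true] at h
        have hab : a = b := Nat.eq_of_beq_eq_true h.1
        simp only [monoVal, hab, ih l l' h.2]

@[simp] theorem evalVecP_nil (vals : List F) (n : ℕ) : evalVecP vals [] n = 0 := rfl

theorem evalVecP_cons (vals : List F) (τ : TermP) (v : VecP) (n : ℕ) :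
    evalVecP vals (τ :: v) n = (if τ.idx = n then τ.val vals else 0) + evalVecP vals v n := by
  simp [evalVecP]

@[simp] theorem evalPolyP_nil (vals : List F) : evalPolyP vals [] = 0 := rfl

theorem evalPolyP_cons (vals : List F) (m : MonoP) (q : PolyP) :
    evalPolyP vals (m :: q) = evalMonoP vals m + evalPolyP vals q := by
  simp [evalPolyP]

theorem evalPolyP_append (vals : List F) (p q : PolyP) :
    evalPolyP vals (p ++ q) = evalPolyP vals p + evalPolyP vals q := by
  simp [evalPolyP]

theorem evalPolyP_pmulMonoP (vals : List F) (m : MonoP) (q : PolyP) :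
    evalPolyP vals (pmulMonoP m q) = evalMonoP vals m * evalPolyP vals q := by
  induction q with
  | nil => simp [pmulMonoP]
  | cons x q ih =>
    have : pmulMonoP m (x :: q) = (addE m.1 x.1, Int.mul m.2 x.2) :: pmulMonoP m q := rfl
    rw [this, evalPolyP_cons, evalPolyP_cons, ih, mul_add]
    congr 1
    simp only [evalMonoP, monoVal_addE, Int.mul_def, Int.cast_mul]
    ring

theorem evalPolyP_pmulP (vals : List F) (p q : PolyP) :
    evalPolyP vals (pmulP p q) = evalPolyP vals p * evalPolyP vals q := by
  induction p with
  | nil => simp [pmulP]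
  | cons m p ih =>
    have : pmulP (m :: p) q = pmulMonoP m q ++ pmulP p q := by simp [pmulP]
    rw [this, evalPolyP_append, evalPolyP_pmulMonoP, ih, evalPolyP_cons, add_mul]

theorem evalPolyP_one (vals : List F) : evalPolyP vals [([], 1)] = 1 := by
  simp [evalPolyP, evalMonoP, monoVal_nil_right]

theorem evalPolyP_ppowP (vals : List F) (p : PolyP) (n : ℕ) :
    evalPolyP vals (ppowP p n) = evalPolyP vals p ^ n := by
  induction n with
  | zero => rw [ppowP, evalPolyP_one, pow_zero]
  | succ n ih => rw [ppowP, evalPolyP_pmulP, ih, pow_succ, mul_comm]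

theorem evalPolyP_ppowPM (vals : List F) (p : PolyP) (n : ℕ) :
    evalPolyP vals (ppowPM p n) = evalPolyP vals p ^ n := by
  match n with
  | 0 => rw [ppowPM, evalPolyP_one, pow_zero]
  | 1 => simp [ppowPM]
  | 2 => simp only [ppowPM, evalPolyP_pmulP]; ring
  | 3 => simp only [ppowPM, evalPolyP_pmulP]; ring
  | k + 4 => simp only [ppowPM, evalPolyP_ppowP]

theorem prodTermP_val (vals : List F) (τ : TermP) (d : ℕ × ℤ × ℕ) (m : MonoP) :
    (prodTermP τ d m).val vals = τ.val vals * ((d.2.1 : F) * evalMonoP vals m) := by
  simp only [prodTermP, TermP.val, evalMonoP, monoVal_addE, Int.mul_def, Int.cast_mul]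
  ring

theorem keyP_sound (vals : List F) (σ τ : TermP) (h : keyP σ τ = true) :
    σ.idx = τ.idx ∧ monoVal vals σ.es = monoVal vals τ.es := by
  simp only [keyP, Bool.and_eq_true] at h
  exact ⟨Nat.eq_of_beq_eq_true h.1, monoVal_eqE vals _ _ h.2⟩

theorem isZp_cast (p : ℕ) (hp : ((p : ℕ) : F) = 0) {z : ℤ} (h : isZp p z = true) :
    ((z : ℤ) : F) = 0 := by
  unfold isZp at h
  have h0 : Int.emod z (Int.ofNat p) = 0 := isZ_eq_true h
  have h1 : z = (p : ℤ) * (z / (p : ℤ)) := by
    have := Int.mul_ediv_add_emod z (p : ℤ)
    have h0' : z % (p : ℤ) = 0 := h0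
    rw [h0', add_zero] at this
    exact this.symm
  rw [h1, Int.cast_mul, Int.cast_natCast, hp, zero_mul]

theorem evalVecP_insertTP (p : ℕ) (vals : List F) (hp : ((p : ℕ) : F) = 0) (τ : TermP)
    (v : VecP) (n : ℕ) :
    evalVecP vals (insertTP p τ v) n
      = (if τ.idx = n then τ.val vals else 0) + evalVecP vals v n := by
  induction v with
  | nil =>
    simp only [insertTP]
    cases hz : isZp p τ.c
    · simp [evalVecP_cons]
    · have := isZp_cast p hp hz
      simp [TermP.val, this]
  | cons σ rest ih =>
    simp only [insertTP]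
    cases hkσ : keyP σ τ
    · simp only [cond_false]
      rw [evalVecP_cons, ih, evalVecP_cons]
      ring
    · obtain ⟨hidx, hval⟩ := keyP_sound vals σ τ hkσ
      simp only [cond_true]
      have hsum : (if τ.idx = n then τ.val vals else 0) + (if σ.idx = n then σ.val vals else 0)
          = if σ.idx = n then ((Int.add σ.c τ.c : ℤ) : F) * monoVal vals σ.es else 0 := by
        rw [← hidx]
        by_cases h : σ.idx = n
        · simp only [h, if_true, TermP.val, Int.add_def, Int.cast_add, ← hval]
          ring
        · simp [h]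
      cases hz : isZp p (Int.add σ.c τ.c)
      · simp only [cond_false]
        rw [evalVecP_cons, evalVecP_cons, ← add_assoc, hsum]
        simp [TermP.val]
      · simp only [cond_true]
        rw [evalVecP_cons, ← add_assoc, hsum, isZp_cast p hp hz]
        simp

theorem evalVecP_foldr_insertTP {α : Type*} (p : ℕ) (vals : List F) (hp : ((p : ℕ) : F) = 0)
    (l : List α) (f : α → TermP) (acc : VecP) (n : ℕ) :
    evalVecP vals (l.foldr (fun x acc => insertTP p (f x) acc) acc) n
      = (l.map fun x => if (f x).idx = n then (f x).val vals else 0).sum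
        + evalVecP vals acc n := by
  induction l with
  | nil => simp
  | cons x l ih =>
    rw [List.foldr_cons, evalVecP_insertTP p vals hp, ih, List.map_cons, List.sum_cons, add_assoc]

theorem evalVecP_applyNormP (D : ChevalleyDatum) (p : ℕ) (vals : List F)
    (hp : ((p : ℕ) : F) = 0) (r : ℕ) (q : PolyP) (v : VecP) (n : ℕ) :
    evalVecP vals (applyNormP D p r q v) n
      = (v.map fun τ => τ.val vals * dataVal (evalPolyP vals q) (xData D r τ.idx) n).sum := by
  unfold applyNormP
  induction v with
  | nil => simp
  | cons τ v ih =>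
    rw [List.foldr_cons, List.map_cons, List.sum_cons, ← ih, xDataM_eq]
    generalize List.foldr _ [] v = acc
    generalize xData D r τ.idx = l
    induction l with
    | nil => simp
    | cons d l ihl =>
      rw [List.foldr_cons, evalVecP_foldr_insertTP p vals hp, ihl, dataVal_cons, mul_add,
        ← add_assoc]
      congr 1
      have : ∀ m : MonoP, (if (prodTermP τ d m).idx = n then (prodTermP τ d m).val vals else 0)
          = if d.1 = n then τ.val vals * ((d.2.1 : F) * evalMonoP vals m) else 0 := by
        intro m
        rw [prodTermP_val]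
        rfl
      simp only [this]
      by_cases h : d.1 = n
      · simp only [h, if_true]
        rw [List.sum_map_mul_left, List.sum_map_mul_left,
          show (List.map (evalMonoP vals) (ppowPM q d.2.2)).sum
            = evalPolyP vals (ppowPM q d.2.2) from rfl,
          evalPolyP_ppowPM]
      · simp [h]

theorem negTermP_val (vals : List F) (τ : TermP) : (negTermP τ).val vals = - τ.val vals := by
  simp only [negTermP, TermP.val]
  have : ((Int.neg τ.c : ℤ) : F) = -((τ.c : ℤ) : F) := by
    rw [show Int.neg τ.c = -τ.c from rfl, Int.cast_neg]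
  rw [this]
  ring

theorem evalVecP_subVecP (p : ℕ) (vals : List F) (hp : ((p : ℕ) : F) = 0) (v w : VecP)
    (n : ℕ) : evalVecP vals (subVecP p v w) n = evalVecP vals v n - evalVecP vals w n := by
  unfold subVecP
  rw [evalVecP_foldr_insertTP p vals hp]
  have : (w.map fun x => if (negTermP x).idx = n then (negTermP x).val vals else 0).sum
      = - evalVecP vals w n := by
    unfold evalVecP
    induction w with
    | nil => simp
    | cons τ w ih =>
      rw [List.map_cons, List.sum_cons, ih, List.map_cons, List.sum_cons, neg_add, negTermP_val]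
      congr 1
      have : (negTermP τ).idx = τ.idx := rfl
      rw [this]
      by_cases h : τ.idx = n <;> simp [h]
  rw [this]
  ring

theorem eq_of_vecEqP (p : ℕ) (vals : List F) (hp : ((p : ℕ) : F) = 0) (v w : VecP)
    (h : vecEqP p v w = true) (n : ℕ) : evalVecP vals v n = evalVecP vals w n := by
  unfold vecEqP at h
  have hnil : subVecP p v w = [] := by
    cases hl : subVecP p v w with
    | nil => rfl
    | cons x l => rw [hl] at h; simp [isNilP] at h
  have := evalVecP_subVecP p vals hp v w n
  rw [hnil, evalVecP_nil] at this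
  exact sub_eq_zero.1 this.symm

/-! ### Ranges -/

def InRangeP (D : ChevalleyDatum) (v : VecP) : Prop := ∀ τ ∈ v, τ.idx < D.rank + D.nroots

theorem inRangeP_insertTP (D : ChevalleyDatum) (p : ℕ) (τ : TermP) (v : VecP)
    (hτ : τ.idx < D.rank + D.nroots) (hv : InRangeP D v) : InRangeP D (insertTP p τ v) := by
  induction v with
  | nil =>
    simp only [insertTP]
    cases isZp p τ.c
    · intro x hx
      simp only [cond_false, List.mem_singleton] at hx
      subst hx; exact hτ
    · intro x hx
      simp at hx
  | cons σ rest ih =>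
    have hσ : σ.idx < D.rank + D.nroots := hv σ (List.mem_cons_self ..)
    have hrest : InRangeP D rest := fun x hx => hv x (List.mem_cons_of_mem _ hx)
    simp only [insertTP]
    cases keyP σ τ
    · simp only [cond_false]
      intro x hx
      rw [List.mem_cons] at hx
      rcases hx with rfl | hx
      · exact hσ
      · exact ih hrest x hx
    · simp only [cond_true]
      cases isZp p (Int.add σ.c τ.c)
      · simp only [cond_false]
        intro x hx
        rw [List.mem_cons] at hx
        rcases hx with rfl | hx
        · exact hσ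
        · exact hrest x hx
      · exact hrest

theorem inRangeP_foldr_insertTP {α : Type*} (D : ChevalleyDatum) (p : ℕ)
    (l : List α) (f : α → TermP) (acc : VecP) (hf : ∀ x ∈ l, (f x).idx < D.rank + D.nroots)
    (hacc : InRangeP D acc) : InRangeP D (l.foldr (fun x acc => insertTP p (f x) acc) acc) := by
  induction l with
  | nil => exact hacc
  | cons x l ih =>
    rw [List.foldr_cons]
    exact inRangeP_insertTP D p _ _ (hf x (List.mem_cons_self ..))
      (ih fun y hy => hf y (List.mem_cons_of_mem _ hy))

theorem inRangeP_applyNormP (D : ChevalleyDatum) (p : ℕ) (r : ℕ) (q : PolyP)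
    (v : VecP) (hv : InRangeP D v) : InRangeP D (applyNormP D p r q v) := by
  unfold applyNormP
  induction v with
  | nil => intro σ hσ; simp at hσ
  | cons τ v ih =>
    rw [List.foldr_cons]
    have hτ : τ.idx < D.rank + D.nroots := hv τ (List.mem_cons_self ..)
    have hacc := ih fun x hx => hv x (List.mem_cons_of_mem _ hx)
    generalize List.foldr _ [] v = acc at hacc ⊢
    have hdata : ∀ d ∈ xDataM D r τ.idx, d.1 < D.rank + D.nroots := by
      rw [xDataM_eq]
      exact xData_inRange D r τ.idx hτ
    generalize xDataM D r τ.idx = l at hdata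
    induction l with
    | nil => exact hacc
    | cons d l ihl =>
      rw [List.foldr_cons]
      apply inRangeP_foldr_insertTP
      · intro m _
        exact hdata d (List.mem_cons_self ..)
      · exact ihl fun d' hd' => hdata d' (List.mem_cons_of_mem _ hd')

theorem inRangeP_wordColP (D : ChevalleyDatum) (p : ℕ) (w : List (ℕ × PolyP))
    (col : ℕ) (hcol : col < D.rank + D.nroots) : InRangeP D (wordColP D p w col) := by
  induction w with
  | nil =>
    intro σ hσ
    simp only [wordColP, List.foldr_nil, List.mem_singleton] at hσ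
    subst hσ; exact hcol
  | cons rp w ih =>
    have : wordColP D p (rp :: w) col = applyNormP D p rp.1 rp.2 (wordColP D p w col) := rfl
    rw [this]
    exact inRangeP_applyNormP D p rp.1 rp.2 _ ih

/-! ### Soundness for words -/

theorem sum_mul_evalVecP (D : ChevalleyDatum) (vals : List F) (G : ℕ → F) (v : VecP)
    (hv : InRangeP D v) :
    (∑ j : D.Idx, G (code D j) * evalVecP vals v (code D j))
      = (v.map fun τ => τ.val vals * G τ.idx).sum := by
  induction v with
  | nil => simp
  | cons τ v ih =>
    have hτ : τ.idx < D.rank + D.nroots := hv τ (List.mem_cons_self ..)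
    have hv' : InRangeP D v := fun x hx => hv x (List.mem_cons_of_mem _ hx)
    rw [List.map_cons, List.sum_cons, ← ih hv']
    simp only [evalVecP_cons, mul_add]
    rw [Finset.sum_add_distrib]
    congr 1
    have : ∀ j : D.Idx, G (code D j) * (if τ.idx = code D j then τ.val vals else 0)
        = if τ.idx = code D j then G (code D j) * τ.val vals else 0 := by
      intro j; split_ifs <;> simp
    simp only [this]
    rw [sum_code_single D τ.idx hτ (fun j => G (code D j) * τ.val vals), code_decode, mul_comm]

/-- the word with its parameters evaluated at `vals` -/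
def evalWP (vals : List F) (w : List (ℕ × PolyP)) : List (ℕ × F) :=
  w.map fun rp => (rp.1, evalPolyP vals rp.2)

theorem wordColP_sound (D : ChevalleyDatum) (p : ℕ) (vals : List F) (hp : ((p : ℕ) : F) = 0)
    (w : List (ℕ × PolyP)) (row col : D.Idx) :
    evalVecP vals (wordColP D p w (code D col)) (code D row)
      = D.wordMat F (evalWP vals w) row col := by
  induction w generalizing row with
  | nil =>
    simp only [wordColP, List.foldr_nil, evalWP, List.map_nil, ChevalleyDatum.wordMat,
      List.prod_nil, evalVecP_cons, evalVecP_nil, add_zero, Matrix.one_apply, unitP, TermP.val,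
      monoVal_nil_right]
    by_cases h : row = col
    · subst h; simp
    · have : ¬ code D col = code D row := fun h' => h (code_injective D h').symm
      simp [h, this]
  | cons rp w ih =>
    have h1 : wordColP D p (rp :: w) (code D col)
        = applyNormP D p rp.1 rp.2 (wordColP D p w (code D col)) := rfl
    have h2 : D.wordMat F (evalWP vals (rp :: w))
        = D.x F rp.1 (evalPolyP vals rp.2) * D.wordMat F (evalWP vals w) := by
      simp [ChevalleyDatum.wordMat, evalWP]
    rw [h1, h2, evalVecP_applyNormP D p vals hp, Matrix.mul_apply]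
    have hin := inRangeP_wordColP D p w (code D col) (code_lt D col)
    rw [← sum_mul_evalVecP D vals
      (fun n => dataVal (evalPolyP vals rp.2) (xData D rp.1 n) (code D row)) _ hin]
    apply Finset.sum_congr rfl
    intro j _
    rw [xData_sound, ih]

/-- Two words with equal symbolic columns on a list `L` of columns covering the supports of all
letters have equal matrices. -/
theorem wordMat_eq_of_colsP (D : ChevalleyDatum) (p : ℕ) (vals : List F)
    (hp : ((p : ℕ) : F) = 0) (w1 w2 : List (ℕ × PolyP)) (L : List ℕ)
    (hL : ∀ rp ∈ w1 ++ w2, ∀ c ∈ supp D rp.1, c ∈ L)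
    (h : ∀ col ∈ L, vecEqP p (wordColP D p w1 col) (wordColP D p w2 col) = true) :
    D.wordMat F (evalWP vals w1) = D.wordMat F (evalWP vals w2) := by
  ext row col
  by_cases hc : code D col ∈ L
  · rw [← wordColP_sound D p vals hp, ← wordColP_sound D p vals hp]
    exact eq_of_vecEqP p vals hp _ _ (h _ hc) _
  · have ht : ∀ (w : List (ℕ × PolyP)), (∀ rp ∈ w, ∀ c ∈ supp D rp.1, c ∈ L) →
        ∀ rt ∈ evalWP vals w, code D col ∉ supp D rt.1 := by
      intro w hw rt hrt
      unfold evalWP at hrt
      rw [List.mem_map] at hrt
      obtain ⟨rp, hrp, rfl⟩ := hrt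
      exact fun hmem => hc (hw rp hrp _ hmem)
    rw [wordMat_col_trivial D _ col (ht w1 fun rp hrp => hL rp (List.mem_append_left _ hrp)),
      wordMat_col_trivial D _ col (ht w2 fun rp hrp => hL rp (List.mem_append_right _ hrp))]

end sem

end Cfsg.Agent.Lib.Helper5.ChevSymP
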