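import Mathlib
import Cfsg.Prelude.Def_ChevStructure
import Cfsg.Agent.Lib.Helper5.ChevGroupCard
import Cfsg.Agent.Lib.Helper4.BNCoxeter

set_option autoImplicit false

/-!
The Weyl group (as a group of permutations of the roots) is a Coxeter group.
-/

namespace Cfsg.Agent.Lib.Helper5.ChevStruct

open Cfsg Cfsg.Lie Cfsg.Agent.Lib.Helper5.ChevSym
open Cfsg.Agent.Lib.Helper4.BNAbstract Cfsg.Agent.Lib.Helper4.BNCoxeter

/-- if `w⁻¹(β) < 0` for a positive root `β`, then `β = l₁(p_a)` for a splitting `w = l₁ a l₂` -/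
theorem exchange_pos (D : ChevalleyDatum) (hD : D ∈ Seven) (w : List ℕ) (hw : Wd D w) (β : ℕ)
    (hβ : D.IsPosRoot β) (hneg : ¬ D.IsPosRoot (wAct D w.reverse β)) :
    ∃ (l1 : List ℕ) (a : ℕ) (l2 : List ℕ), w = l1 ++ a :: l2 ∧ wAct D l1 (D.simple a) = β := by
  induction w generalizing β with
  | nil => exact absurd hβ hneg
  | cons b w' ih =>
    have hb := hw.head
    rw [List.reverse_cons, wAct_append_single] at hneg
    by_cases hp : D.IsPosRoot (D.reflectRoot b β)
    · obtain ⟨l1, a, l2, e, h⟩ := ih hw.tail _ hp hneg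
      refine ⟨b :: l1, a, l2, by rw [e]; rfl, ?_⟩
      show D.reflectRoot b (wAct D l1 (D.simple a)) = β
      rw [h]
      exact (reflectRoot_invol D hD b hb β hβ.1).2
    · have : β = D.simple b := by
        by_contra hne
        exact hp ((checkCoLin_spec D b (chkCoLin_all D hD b hb) β hβ.1).2 hβ hne)
      exact ⟨[], b, w', rfl, this.symm⟩

/-- the Weyl group -/
abbrev weylGroup (D : ChevalleyDatum) (hD : D ∈ Seven) : Subgroup (Equiv.Perm (Fin D.nroots)) :=
  parab D hD (fullSet D)

/-- the fundamental reflections as elements of the Weyl group -/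
def sGen (D : ChevalleyDatum) (hD : D ∈ Seven) (i : Fin D.rank) : ↥(weylGroup D hD) :=
  ⟨sPerm D hD i.val, sPerm_mem_parab D hD _ i.val i.isLt (List.mem_range.2 i.isLt)⟩

/-- the element of the Weyl group attached to a word -/
def wElt (D : ChevalleyDatum) (hD : D ∈ Seven) (w : List ℕ) (hw : Wd D w) : ↥(weylGroup D hD) :=
  ⟨wPerm D hD w, wPerm_mem_parab D hD _ w (wdIn_full hw)⟩

theorem wd_map_val (D : ChevalleyDatum) (ω : List (Fin D.rank)) : Wd D (ω.map Fin.val) := by
  intro i hi
  obtain ⟨j, _, rfl⟩ := List.mem_map.1 hi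
  exact j.isLt

theorem wp_sGen (D : ChevalleyDatum) (hD : D ∈ Seven) (ω : List (Fin D.rank)) :
    wp (sGen D hD) ω = wElt D hD (ω.map Fin.val) (wd_map_val D ω) := by
  induction ω with
  | nil => rfl
  | cons i ω ih =>
    rw [wp_cons, ih]
    apply Subtype.ext
    show sPerm D hD i.val * wPerm D hD (ω.map Fin.val) = wPerm D hD ((i :: ω).map Fin.val)
    rw [List.map_cons, wPerm_cons]

theorem sGen_sq (D : ChevalleyDatum) (hD : D ∈ Seven) (i : Fin D.rank) :
    sGen D hD i * sGen D hD i = 1 :=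
  Subtype.ext (sPerm_mul_self D hD i.val i.isLt)

theorem sPerm_simple (D : ChevalleyDatum) (hD : D ∈ Seven) (i : ℕ) (hi : i < D.rank) :
    ((sPerm D hD i) ⟨D.simple i, simple_lt D hD i hi⟩).val = D.neg (D.simple i) := by
  rw [sPerm_apply D hD i hi]
  exact reflectRoot_simple D i

theorem sGen_injective (D : ChevalleyDatum) (hD : D ∈ Seven) : Function.Injective (sGen D hD) := by
  intro i j h
  have h1 : sPerm D hD i.val = sPerm D hD j.val := congrArg Subtype.val h
  have h2 := sPerm_simple D hD j.val j.isLt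
  rw [← h1, sPerm_apply D hD i.val i.isLt] at h2
  exact Fin.ext (checkInjS_spec D (chkBN_all D hD).2.1 i.val j.val i.isLt j.isLt h2)

theorem sGen_ne_one (D : ChevalleyDatum) (hD : D ∈ Seven) (i : Fin D.rank) : sGen D hD i ≠ 1 := by
  intro h
  have h1 : sPerm D hD i.val = 1 := congrArg Subtype.val h
  have h2 := sPerm_simple D hD i.val i.isLt
  rw [h1, Equiv.Perm.one_apply] at h2
  exact (neg_lt D hD _ (simple_lt D hD i.val i.isLt)).2.1 h2.symm

theorem sGen_genInv (D : ChevalleyDatum) (hD : D ∈ Seven) : GenInv (Set.range (sGen D hD)) := by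
  constructor
  · rintro s ⟨i, rfl⟩
    exact sGen_sq D hD i
  · have : Set.range (sGen D hD) = ((↑) : ↥(weylGroup D hD) → Equiv.Perm (Fin D.nroots)) ⁻¹'
        {σ | ∃ i, i < D.rank ∧ i ∈ fullSet D ∧ σ = sPerm D hD i} := by
      ext σ
      constructor
      · rintro ⟨i, rfl⟩
        exact ⟨i.val, i.isLt, List.mem_range.2 i.isLt, rfl⟩
      · rintro ⟨i, hi, -, h⟩
        exact ⟨⟨i, hi⟩, Subtype.ext h.symm⟩
    rw [this]
    exact Subgroup.closure_closure_coe_preimage

/-- the length of an element of the Weyl group is `N` -/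
theorem len_wElt (D : ChevalleyDatum) (hD : D ∈ Seven) (w : List ℕ) (hw : Wd D w) :
    len (Set.range (sGen D hD)) (wElt D hD w hw) = (negSet D w).card := by
  apply le_antisymm
  · obtain ⟨w₀, hrel, hred, -⟩ := exists_reduced D hD w hw
    have hw₀ := hrel.wd.2
    -- `w₀` as a list of generators
    have hex : ∃ ω : List (Fin D.rank), ω.map Fin.val = w₀ := by
      clear hrel hred
      induction w₀ with
      | nil => exact ⟨[], rfl⟩
      | cons a t ih =>
        obtain ⟨ω, hω⟩ := ih hw₀.tail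
        exact ⟨⟨a, hw₀.head⟩ :: ω, by rw [List.map_cons, hω]⟩
    obtain ⟨ω, hω⟩ := hex
    have e : wElt D hD w hw = ((ω.map (sGen D hD)).prod) := by
      show _ = wp (sGen D hD) ω
      rw [wp_sGen]
      apply Subtype.ext
      show wPerm D hD w = wPerm D hD (ω.map Fin.val)
      rw [hω]
      exact wPerm_of_wrel D hD w w₀ hrel
    rw [e]
    refine le_trans (len_le (isWord_map _ ω)) ?_
    rw [List.length_map, negSet_congr D _ _ (hrel.act hD), ← hred, ← hω, List.length_map]
  · obtain ⟨l, hl, hprod, hlen⟩ := exists_len (sGen_genInv D hD) (wElt D hD w hw)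
    obtain ⟨ω, rfl⟩ := exists_map_eq hl
    rw [← hlen, List.length_map]
    have e : wp (sGen D hD) ω = wElt D hD w hw := hprod
    rw [wp_sGen] at e
    have e' : wPerm D hD (ω.map Fin.val) = wPerm D hD w := congrArg Subtype.val e
    have hact := (wPerm_eq_iff D hD _ _ (wd_map_val D ω) hw).1 e'
    rw [← negSet_congr D _ _ hact]
    -- `N(w) ≤ |w|`
    have hN : ∀ v : List ℕ, Wd D v → (negSet D v).card ≤ v.length := by
      intro v hv
      obtain ⟨v₀, hrel, hred, hle⟩ := exists_reduced D hD v hv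
      rw [negSet_congr D _ _ (hrel.act hD), ← hred]
      exact hle
    have := hN _ (wd_map_val D ω)
    rwa [List.length_map] at this

theorem sGen_exchange (D : ChevalleyDatum) (hD : D ∈ Seven) :
    Exchange (Set.range (sGen D hD)) := by
  rintro s ⟨i, rfl⟩ l hl hlen
  obtain ⟨ω, rfl⟩ := exists_map_eq hl.1
  set w := ω.map Fin.val with hwdef
  have hw : Wd D w := wd_map_val D ω
  have hprod : (ω.map (sGen D hD)).prod = wElt D hD w hw := wp_sGen D hD ω
  -- `|w| = N(w)`
  have hred : w.length = (negSet D w).card := by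
    have := ((isRed_iff (sGen_genInv D hD)).1 hl).2
    rw [hprod, len_wElt, List.length_map] at this
    rw [hwdef, List.length_map]
    exact this
  -- `N(s_i w) ≤ N(w)`
  have hiw : Wd D (i.val :: w) := Wd.cons i.isLt hw
  have e2 : sGen D hD i * (ω.map (sGen D hD)).prod = wElt D hD (i.val :: w) hiw := by
    rw [hprod]
    apply Subtype.ext
    show sPerm D hD i.val * wPerm D hD w = wPerm D hD (i.val :: w)
    rw [wPerm_cons]
  rw [e2, len_wElt, List.length_map] at hlen
  have hlen' : (negSet D (i.val :: w)).card ≤ (negSet D w).card := by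
    rw [← hred, hwdef, List.length_map]
    exact hlen
  -- `w⁻¹(p_i) < 0`
  have hneg : ¬ D.IsPosRoot (wAct D w.reverse (D.simple i.val)) := by
    intro hpos
    have h1 : wAct D w (wAct D w.reverse (D.simple i.val)) = D.simple i.val :=
      wAct_reverse D hD w hw _ (simple_lt D hD i.val i.isLt)
    have := card_negSet_cons_of_witness D hD i.val i.isLt w hw _ hpos h1
    omega
  obtain ⟨l1, a, l2, e, h⟩ := exchange_pos D hD w hw _ (simple_pos D hD i.val i.isLt) hneg
  -- split `ω`
  rw [hwdef, List.map_eq_append_iff] at e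
  obtain ⟨ω1, ω2', rfl, e1, e3⟩ := e
  rw [List.map_eq_cons_iff] at e3
  obtain ⟨a', ω2, rfl, ea, e4⟩ := e3
  refine ⟨ω1.map (sGen D hD), sGen D hD a', ω2.map (sGen D hD), by simp, ?_⟩
  have hl1 : Wd D l1 := by rw [← e1]; exact wd_map_val D ω1
  have hbr := wPerm_of_wrel D hD _ _
    (WRel.braid l1 a i.val hl1 (by rw [← ea]; exact a'.isLt) i.isLt h)
  rw [wPerm_append, wPerm_single, wPerm_cons] at hbr
  have hp1 : (ω1.map (sGen D hD)).prod = wElt D hD (ω1.map Fin.val) (wd_map_val D ω1) :=
    wp_sGen D hD ω1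
  rw [hp1]
  apply Subtype.ext
  show sPerm D hD i.val * wPerm D hD (ω1.map Fin.val) = wPerm D hD (ω1.map Fin.val) * sPerm D hD a'.val
  rw [e1, ea]
  exact hbr.symm

theorem sGen_hyp (D : ChevalleyDatum) (hD : D ∈ Seven) : Hyp (sGen D hD) :=
  ⟨sGen_injective D hD, sGen_genInv D hD, sGen_exchange D hD, sGen_ne_one D hD⟩

/-- the Coxeter matrix of the Weyl group: `m_{ij}` is the order of `s_i s_j` -/
noncomputable def weylMatrix (D : ChevalleyDatum) (hD : D ∈ Seven) : CoxeterMatrix (Fin D.rank) :=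
  cm (sGen_hyp D hD)

/-- the Weyl group is the Coxeter group of its Coxeter matrix -/
noncomputable def weylEquiv (D : ChevalleyDatum) (hD : D ∈ Seven) :
    (weylMatrix D hD).Group ≃* ↥(weylGroup D hD) :=
  MulEquiv.ofBijective (Φ (sGen_hyp D hD)) (Φ_bijective (sGen_hyp D hD))

theorem weylEquiv_simple (D : ChevalleyDatum) (hD : D ∈ Seven) (i : Fin D.rank) :
    weylEquiv D hD ((weylMatrix D hD).simple i) = sGen D hD i :=
  Φ_simple (sGen_hyp D hD) i

theorem weylMatrix_apply (D : ChevalleyDatum) (hD : D ∈ Seven) (i j : Fin D.rank) :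
    weylMatrix D hD i j = orderOf (sPerm D hD i.val * sPerm D hD j.val) := by
  unfold weylMatrix
  rw [cm_apply]
  exact (Subgroup.orderOf_coe (sGen D hD i * sGen D hD j)).symm

end Cfsg.Agent.Lib.Helper5.ChevStruct
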