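import Mathlib
import Cfsg.Prelude.Def_ChevStructure
import Cfsg.Agent.Lib.Helper5.ChevW0Def
import Cfsg.Agent.Lib.Helper5.ChevSymN

set_option autoImplicit false

/-!
Table checks for the order of the permutation of the roots attached to a word in the fundamental
reflections.
-/

namespace Cfsg.Agent.Lib.Helper5.ChevSym

open Cfsg Cfsg.Lie

/-- the `m`-th power of a word -/
def wpow (c : List ℕ) : ℕ → List ℕ
  | 0 => []
  | m + 1 => c ++ wpow c m

/-- `c^m` fixes the fundamental roots, and for each `p ∈ ps` dividing `m` the word `c^{m/p}` moves a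
fundamental root -/
def checkWordOrd (D : ChevalleyDatum) (c : List ℕ) (m : ℕ) (ps : List ℕ) : Bool :=
  c.all (fun i => Nat.blt i D.rank) &&
  (List.range D.rank).all (fun k => canon (fun p => Nat.beq (wActC D (wpow c m) p) p) (D.simple k)) &&
  ps.all (fun p => !(Nat.beq (m % p) 0) ||
    (List.range D.rank).any (fun k =>
      canon (fun s => !(Nat.beq (wActC D (wpow c (m / p)) s) s)) (D.simple k)))

theorem checkWordOrd_spec (D : ChevalleyDatum) (c : List ℕ) (m : ℕ) (ps : List ℕ)
    (h : checkWordOrd D c m ps = true) :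
    (∀ i ∈ c, i < D.rank) ∧
    (∀ k < D.rank, wAct D (wpow c m) (D.simple k) = D.simple k) ∧
    (∀ p ∈ ps, m % p = 0 → ∃ k < D.rank, wAct D (wpow c (m / p)) (D.simple k) ≠ D.simple k) := by
  unfold checkWordOrd at h
  simp only [Bool.and_eq_true, List.all_eq_true] at h
  obtain ⟨⟨h1, h2⟩, h3⟩ := h
  refine ⟨fun i hi => ?_, fun k hk => ?_, fun p hp hmp => ?_⟩
  · have := h1 i hi
    rwa [Nat.blt_eq] at this
  · have := h2 k (List.mem_range.2 hk)
    rw [canon_eq, wActC_eq] at this
    exact Nat.eq_of_beq_eq_true this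
  · have := h3 p hp
    rw [Bool.or_eq_true] at this
    rcases this with h4 | h4
    · rw [Bool.not_eq_true'] at h4
      exact absurd hmp (Nat.ne_of_beq_eq_false h4)
    · rw [List.any_eq_true] at h4
      obtain ⟨k, hk, h5⟩ := h4
      rw [canon_eq, wActC_eq, Bool.not_eq_true'] at h5
      exact ⟨k, List.mem_range.1 hk, Nat.ne_of_beq_eq_false h5⟩

/-- the orders of the products `w_i w_j` are given by the matrix `M` -/
def checkCoxMat (D : ChevalleyDatum) (M : List (List ℕ)) : Bool :=
  (List.range D.rank).all fun i => (List.range D.rank).all fun j =>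
    forceNat ((M.getD i []).getD j 0) fun m =>
      Nat.blt 0 m && Nat.beq (12 % m) 0 && checkWordOrd D [i, j] m [2, 3]

theorem checkCoxMat_spec (D : ChevalleyDatum) (M : List (List ℕ)) (h : checkCoxMat D M = true)
    (i j : ℕ) (hi : i < D.rank) (hj : j < D.rank) :
    0 < (M.getD i []).getD j 0 ∧ 12 % ((M.getD i []).getD j 0) = 0 ∧
      checkWordOrd D [i, j] ((M.getD i []).getD j 0) [2, 3] = true := by
  unfold checkCoxMat at h
  rw [List.all_eq_true] at h
  have := h i (List.mem_range.2 hi)
  rw [List.all_eq_true] at this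
  have := this j (List.mem_range.2 hj)
  rw [forceNat_eq, Bool.and_eq_true, Bool.and_eq_true, Nat.blt_eq] at this
  exact ⟨this.1.1, Nat.eq_of_beq_eq_true this.1.2, this.2⟩

end Cfsg.Agent.Lib.Helper5.ChevSym
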