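import Mathlib
import Cfsg.Prelude.Def_ChevStructure
import Cfsg.Agent.Lib.Helper5.ChevWCox
import Cfsg.Agent.Lib.Helper5.ChevWTbl
import Cfsg.Agent.Lib.Helper5.ChevWOrdDef

set_option autoImplicit false

/-!
Orders of elements of the Weyl group from table checks, and the identification of the Coxeter
matrix of the Weyl group.
-/

namespace Cfsg.Agent.Lib.Helper5.ChevStruct

open Cfsg Cfsg.Lie Cfsg.Agent.Lib.Helper5.ChevSym

theorem wPerm_wpow (D : ChevalleyDatum) (hD : D ∈ Seven) (c : List ℕ) (m : ℕ) :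
    wPerm D hD (wpow c m) = (wPerm D hD c) ^ m := by
  induction m with
  | zero => rfl
  | succ m ih =>
    show wPerm D hD (c ++ wpow c m) = _
    rw [wPerm_append, ih, pow_succ']

theorem wd_wpow (D : ChevalleyDatum) (c : List ℕ) (hc : Wd D c) (m : ℕ) : Wd D (wpow c m) := by
  induction m with
  | zero => exact Wd.nil D
  | succ m ih => exact hc.append ih

theorem prime_dvd_360 (p : ℕ) (hp : p.Prime) (h : p ∣ 360) : p ∈ [2, 3, 5] := by
  have e : (360 : ℕ) = 2 ^ 3 * 3 ^ 2 * 5 := by norm_num
  rw [e] at h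
  rcases (Nat.Prime.dvd_mul hp).1 h with h1 | h1
  · rcases (Nat.Prime.dvd_mul hp).1 h1 with h2 | h2
    · have := (Nat.prime_dvd_prime_iff_eq hp Nat.prime_two).1 (hp.dvd_of_dvd_pow h2)
      simp [this]
    · have := (Nat.prime_dvd_prime_iff_eq hp Nat.prime_three).1 (hp.dvd_of_dvd_pow h2)
      simp [this]
  · have := (Nat.prime_dvd_prime_iff_eq hp Nat.prime_five).1 h1
    simp [this]

/-- the order of the permutation attached to a word, from a table check -/
theorem orderOf_wPerm_of_check (D : ChevalleyDatum) (hD : D ∈ Seven) (c : List ℕ) (m : ℕ)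
    (ps : List ℕ) (hchk : checkWordOrd D c m ps = true) (hm : 0 < m)
    (hps : ∀ p : ℕ, p.Prime → p ∣ m → p ∈ ps) : orderOf (wPerm D hD c) = m := by
  obtain ⟨hc, hfix, hmove⟩ := checkWordOrd_spec D c m ps hchk
  have hc' : Wd D c := hc
  apply orderOf_eq_of_pow_and_pow_div_prime hm
  · rw [← wPerm_wpow, ← wPerm_nil D hD]
    apply (wPerm_eq_iff D hD _ _ (wd_wpow D c hc' m) (Wd.nil D)).2
    apply wAct_eq_of_simple D hD _ _ (wd_wpow D c hc' m) (Wd.nil D)
    intro k hk
    rw [hfix k hk]
    rfl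
  · intro p hp hpm h1
    obtain ⟨k, hk, hne⟩ := hmove p (hps p hp hpm) (Nat.mod_eq_zero_of_dvd hpm)
    apply hne
    rw [← wPerm_wpow, ← wPerm_nil D hD] at h1
    exact (wPerm_eq_iff D hD _ _ (wd_wpow D c hc' _) (Wd.nil D)).1 h1 _ (simple_lt D hD k hk)

/-- the entries of the Coxeter matrix of the Weyl group, from a table check -/
theorem weylMatrix_eq_of_check (D : ChevalleyDatum) (hD : D ∈ Seven) (M : List (List ℕ))
    (hchk : checkCoxMat D M = true) (i j : Fin D.rank) :
    weylMatrix D hD i j = (M.getD i.val []).getD j.val 0 := by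
  obtain ⟨hpos, hdvd, hc⟩ := checkCoxMat_spec D M hchk i.val j.val i.isLt j.isLt
  rw [weylMatrix_apply]
  have e : sPerm D hD i.val * sPerm D hD j.val = wPerm D hD [i.val, j.val] := by
    rw [wPerm_cons, wPerm_single]
  rw [e]
  apply orderOf_wPerm_of_check D hD _ _ [2, 3] hc hpos
  intro p hp hpm
  have h12 : p ∣ 12 := dvd_trans hpm (Nat.dvd_of_mod_eq_zero hdvd)
  have h360 : p ∣ 360 := dvd_trans h12 (by norm_num)
  have := prime_dvd_360 p hp h360
  simp only [List.mem_cons, List.not_mem_nil, or_false] at this ⊢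
  rcases this with rfl | rfl | rfl
  · exact Or.inl rfl
  · exact Or.inr rfl
  · norm_num at h12

theorem coxeterMatrix_ext {B : Type*} (M M' : CoxeterMatrix B) (h : ∀ i j, M i j = M' i j) :
    M = M' := by
  cases M with
  | mk A a1 a2 a3 =>
    cases M' with
    | mk A' b1 b2 b3 =>
      have : A = A' := by
        ext i j
        exact h i j
      subst this
      rfl

theorem exists_equiv_of_eq {B : Type*} (M M' : CoxeterMatrix B) (h : M = M') :
    ∃ e : M.Group ≃* M'.Group, ∀ i, e (M.simple i) = M'.simple i := by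
  subst h
  exact ⟨MulEquiv.refl _, fun i => rfl⟩

/-- the Weyl group as the Coxeter group of a given matrix -/
theorem exists_coxEquiv (D : ChevalleyDatum) (hD : D ∈ Seven) (M : CoxeterMatrix (Fin D.rank))
    (h : weylMatrix D hD = M) :
    ∃ e : M.Group ≃* ↥(weylGroup D hD), ∀ i, e (M.simple i) = sGen D hD i := by
  subst h
  exact ⟨weylEquiv D hD, weylEquiv_simple D hD⟩

/-- `|W| = ∑_{w ∈ W} 1` -/
theorem card_weylGroup (D : ChevalleyDatum) (hD : D ∈ Seven) :
    Nat.card ↥(weylGroup D hD) = poinc D hD (fullSet D) 1 := by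
  classical
  unfold poinc
  simp only [one_pow, Finset.sum_const, smul_eq_mul, mul_one]
  rw [Nat.card_eq_fintype_card, Fintype.card_subtype]

/-- the order of the product of the fundamental reflections along a word, in the Coxeter group -/
theorem orderOf_prod_simple (D : ChevalleyDatum) (hD : D ∈ Seven) (M : CoxeterMatrix (Fin D.rank))
    (h : weylMatrix D hD = M) (ω : List (Fin D.rank)) (w : List ℕ) (hw : ω.map Fin.val = w) :
    orderOf (ω.map M.simple).prod = orderOf (wPerm D hD w) := by
  obtain ⟨e, he⟩ := exists_coxEquiv D hD M h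
  rw [← e.orderOf_eq, map_list_prod, List.map_map]
  have : (ω.map (⇑e ∘ M.simple)).prod
      = Cfsg.Agent.Lib.Helper4.BNCoxeter.wp (sGen D hD) ω := by
    unfold Cfsg.Agent.Lib.Helper4.BNCoxeter.wp
    congr 1
    apply List.map_congr_left
    intro i _
    exact he i
  rw [this, wp_sGen, ← Subgroup.orderOf_coe]
  subst hw
  rfl

/-- the order of the Coxeter group -/
theorem card_coxGroup (D : ChevalleyDatum) (hD : D ∈ Seven) (M : CoxeterMatrix (Fin D.rank))
    (h : weylMatrix D hD = M) : Nat.card M.Group = poinc D hD (fullSet D) 1 := by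
  obtain ⟨e, -⟩ := exists_coxEquiv D hD M h
  rw [Nat.card_congr e.toEquiv, card_weylGroup]

end Cfsg.Agent.Lib.Helper5.ChevStruct
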