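import Mathlib
import Cfsg.Prelude.Def_ChevStructure
import Cfsg.Agent.Lib.Helper5.ChevWCoxStd
import Cfsg.Agent.Lib.Helper5.ChevWKer

set_option autoImplicit false

/-!
The homomorphism from `N` onto the Weyl group, with kernel `H`.
-/

namespace Cfsg.Agent.Lib.Helper5.ChevStruct

open Cfsg Cfsg.Lie Cfsg.Agent.Lib.Helper5.ChevSym

variable {F : Type*} [Field F]

theorem exists_word_of_monomial (D : ChevalleyDatum) (hD : D ∈ Seven)
    (n : ↥(D.monomialSubgroup F)) :
    ∃ w : List ℕ, Wd D w ∧ ∃ h ∈ D.diagonalSubgroup F, (n : GL D.Idx F) = wGL D hD w * h :=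
  exists_word_of_mem_monomial D hD n.1 n.2

/-- a chosen word for an element of `N` -/
noncomputable def nWordOf (D : ChevalleyDatum) (hD : D ∈ Seven) (n : ↥(D.monomialSubgroup F)) :
    List ℕ := Classical.choose (exists_word_of_monomial D hD n)

theorem nWordOf_spec (D : ChevalleyDatum) (hD : D ∈ Seven) (n : ↥(D.monomialSubgroup F)) :
    Wd D (nWordOf D hD n) ∧ ∃ h ∈ D.diagonalSubgroup F,
      (n : GL D.Idx F) = wGL D hD (nWordOf D hD n) * h :=
  Classical.choose_spec (exists_word_of_monomial D hD n)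

/-- the element of the Weyl group attached to an element of `N` -/
noncomputable def nToWeyl (D : ChevalleyDatum) (hD : D ∈ Seven) (n : ↥(D.monomialSubgroup F)) :
    ↥(weylGroup D hD) := wElt D hD (nWordOf D hD n) (nWordOf_spec D hD n).1

theorem wElt_eq_iff (D : ChevalleyDatum) (hD : D ∈ Seven) (a b : List ℕ) (ha : Wd D a)
    (hb : Wd D b) : wElt D hD a ha = wElt D hD b hb ↔
      (wGL D hD a * (wGL D hD b)⁻¹ : GL D.Idx F) ∈ D.diagonalSubgroup F := by
  rw [hrel_iff_act_eq D hD a b ha hb, ← wPerm_eq_iff D hD a b ha hb]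
  constructor
  · intro h
    exact congrArg Subtype.val h
  · intro h
    exact Subtype.ext h

theorem nToWeyl_eq (D : ChevalleyDatum) (hD : D ∈ Seven) (n : ↥(D.monomialSubgroup F))
    (w : List ℕ) (hw : Wd D w) (h : GL D.Idx F) (hh : h ∈ D.diagonalSubgroup F)
    (e : (n : GL D.Idx F) = wGL D hD w * h) : nToWeyl D hD n = wElt D hD w hw := by
  obtain ⟨hw₀, h₀, hh₀, e₀⟩ := nWordOf_spec D hD n
  unfold nToWeyl
  rw [wElt_eq_iff (F := F)]
  have hN := wGL_mem (F := F) D hD w hw
  -- `n_{w₀} n_w⁻¹ = n_{w} (h h₀⁻¹) n_w⁻¹`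
  have e1 : (wGL D hD (nWordOf D hD n) * (wGL D hD w)⁻¹ : GL D.Idx F)
      = wGL D hD w * (h * h₀⁻¹) * (wGL D hD w)⁻¹ := by
    have : (wGL D hD (nWordOf D hD n) : GL D.Idx F) = wGL D hD w * h * h₀⁻¹ := by
      rw [← e, e₀]
      group
    rw [this]
    group
  rw [e1]
  exact (conj_monomial_diag_mem D hD _ hN _
    ((D.diagonalSubgroup F).mul_mem hh ((D.diagonalSubgroup F).inv_mem hh₀))).1

theorem wElt_append (D : ChevalleyDatum) (hD : D ∈ Seven) (a b : List ℕ) (ha : Wd D a)
    (hb : Wd D b) : wElt D hD (a ++ b) (ha.append hb) = wElt D hD a ha * wElt D hD b hb :=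
  Subtype.ext (wPerm_append D hD a b)

/-- the homomorphism `N → W` -/
noncomputable def weylHom (D : ChevalleyDatum) (hD : D ∈ Seven) (F : Type*) [Field F] :
    ↥(D.monomialSubgroup F) →* ↥(weylGroup D hD) :=
  MonoidHom.mk' (nToWeyl D hD) (by
    intro n n'
    obtain ⟨hw, h, hh, e⟩ := nWordOf_spec D hD n
    obtain ⟨hw', h', hh', e'⟩ := nWordOf_spec D hD n'
    have hN' := wGL_mem (F := F) D hD _ hw'
    have e2 : ((n * n' : ↥(D.monomialSubgroup F)) : GL D.Idx F)
        = wGL D hD (nWordOf D hD n ++ nWordOf D hD n') *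
          (((wGL D hD (nWordOf D hD n'))⁻¹ * h * wGL D hD (nWordOf D hD n')) * h') := by
      rw [Subgroup.coe_mul, e, e', wGL_append]
      group
    rw [nToWeyl_eq D hD (n * n') _ (hw.append hw') _
      ((D.diagonalSubgroup F).mul_mem (conj_monomial_diag_mem D hD _ hN' _ hh).2 hh') e2,
      wElt_append]
    rfl)

theorem weylHom_apply (D : ChevalleyDatum) (hD : D ∈ Seven) (n : ↥(D.monomialSubgroup F))
    (w : List ℕ) (hw : Wd D w) (h : GL D.Idx F) (hh : h ∈ D.diagonalSubgroup F)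
    (e : (n : GL D.Idx F) = wGL D hD w * h) : weylHom D hD F n = wElt D hD w hw :=
  nToWeyl_eq D hD n w hw h hh e

theorem weylHom_surjective (D : ChevalleyDatum) (hD : D ∈ Seven) :
    Function.Surjective (weylHom D hD F) := by
  rintro ⟨σ, hσ⟩
  obtain ⟨w, hw, rfl⟩ := exists_word_of_mem_parab D hD _ σ hσ
  refine ⟨⟨wGL D hD w, wGL_mem D hD w hw.wd⟩, ?_⟩
  rw [weylHom_apply D hD _ w hw.wd 1 (one_mem _) (by rw [mul_one])]
  rfl

theorem weylHom_ker (D : ChevalleyDatum) (hD : D ∈ Seven) :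
    (weylHom D hD F).ker = (D.diagonalSubgroup F).subgroupOf (D.monomialSubgroup F) := by
  ext n
  rw [MonoidHom.mem_ker, Subgroup.mem_subgroupOf]
  obtain ⟨hw, h, hh, e⟩ := nWordOf_spec D hD n
  rw [weylHom_apply D hD n _ hw h hh e]
  have h1 : wElt D hD (nWordOf D hD n) hw = 1 ↔
      (wGL D hD (nWordOf D hD n) : GL D.Idx F) ∈ D.diagonalSubgroup F := by
    have : (1 : ↥(weylGroup D hD)) = wElt D hD [] (Wd.nil D) := rfl
    rw [this, wElt_eq_iff (F := F), wGL_nil, inv_one, mul_one]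
  rw [h1, e]
  constructor
  · intro h2
    exact (D.diagonalSubgroup F).mul_mem h2 hh
  · intro h2
    have : (wGL D hD (nWordOf D hD n) : GL D.Idx F)
        = (wGL D hD (nWordOf D hD n) * h) * h⁻¹ := by group
    rw [this]
    exact (D.diagonalSubgroup F).mul_mem h2 ((D.diagonalSubgroup F).inv_mem hh)

theorem weylHom_simple (D : ChevalleyDatum) (hD : D ∈ Seven) (i : Fin D.rank)
    (g : ↥(D.monomialSubgroup F))
    (hg : ((g : GL D.Idx F) : Matrix D.Idx D.Idx F) = D.nMat F (D.simple i.val) 1) :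
    weylHom D hD F g = sGen D hD i := by
  have e : (g : GL D.Idx F) = wGL D hD [i.val] * 1 := by
    apply Units.ext
    rw [mul_one, wGL_cons, wGL_nil, mul_one, nGL_val, hg]
  rw [weylHom_apply D hD g [i.val] (Wd.single i.isLt) 1 (one_mem _) e]
  apply Subtype.ext
  exact wPerm_single D hD i.val

/-- `N / H` is the Coxeter group of the given matrix -/
theorem exists_coxeter_hom (D : ChevalleyDatum) (hD : D ∈ Seven) (M : CoxeterMatrix (Fin D.rank))
    (h : weylMatrix D hD = M) :
    ∃ φ : ↥(D.monomialSubgroup F) →* M.Group, Function.Surjective φ ∧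
      φ.ker = (D.diagonalSubgroup F).subgroupOf (D.monomialSubgroup F) ∧
      ∀ (i : Fin D.rank) (g : ↥(D.monomialSubgroup F)),
        ((g : GL D.Idx F) : Matrix D.Idx D.Idx F) = D.nMat F (D.simple i) 1 →
          φ g = M.simple i := by
  obtain ⟨e, he⟩ := exists_coxEquiv D hD M h
  refine ⟨e.symm.toMonoidHom.comp (weylHom D hD F), ?_, ?_, ?_⟩
  · exact e.symm.surjective.comp (weylHom_surjective D hD)
  · rw [← weylHom_ker D hD]
    ext n
    rw [MonoidHom.mem_ker, MonoidHom.mem_ker, MonoidHom.comp_apply]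
    constructor
    · intro h1
      have := congrArg e h1
      simpa using this
    · intro h1
      rw [h1]
      simp
  · intro i g hg
    rw [MonoidHom.comp_apply, weylHom_simple D hD i g hg, ← he i]
    simp

end Cfsg.Agent.Lib.Helper5.ChevStruct
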