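import Mathlib
import Cfsg.Prelude.Def_ChevStructure
import Cfsg.Agent.Lib.Helper5.ChevTwistCellMap

set_option autoImplicit false

/-!
The sums `∑_{w ∈ W¹} q^{N(w)}` over the groups generated by elements `w_J`, and their factorisation
along a transversal.
-/

namespace Cfsg.Agent.Lib.Helper5.ChevStruct

open Cfsg Cfsg.Lie Cfsg.Agent.Lib.Helper5.ChevSym

open Classical in
/-- the sum `∑_{w ∈ W¹} q^{N(w)}` -/
noncomputable def poincT (D : ChevalleyDatum) (hD : D ∈ Seven) (orbs : List (List ℕ)) (q : ℕ) : ℕ :=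
  ∑ σ ∈ Finset.univ.filter (fun σ => σ ∈ WT D hD orbs), q ^ Nf D σ

theorem WT_nil (D : ChevalleyDatum) (hD : D ∈ Seven) : WT D hD [] = ⊥ := by
  unfold WT
  rw [Subgroup.closure_eq_bot_iff]
  rintro σ ⟨J, hJ, -⟩
  simp at hJ

theorem poincT_nil (D : ChevalleyDatum) (hD : D ∈ Seven) (q : ℕ) : poincT D hD [] q = 1 := by
  classical
  unfold poincT
  have : Finset.univ.filter (fun σ => σ ∈ WT D hD [])
      = {(1 : Equiv.Perm (Fin D.nroots))} := by
    ext σ
    rw [Finset.mem_filter, WT_nil, Subgroup.mem_bot, Finset.mem_singleton]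
    simp
  rw [this, Finset.sum_singleton, Nf_one, pow_zero]

theorem WT_mono (D : ChevalleyDatum) (hD : D ∈ Seven) (Js Ks : List (List ℕ))
    (h : ∀ J ∈ Js, J ∈ Ks) : WT D hD Js ≤ WT D hD Ks := by
  apply Subgroup.closure_mono
  rintro σ ⟨J, hJ, rfl⟩
  exact ⟨J, h J hJ, rfl⟩

/-- the set of the fundamental roots of a list of orbits -/
def orbSet (Js : List (List ℕ)) : Set ℕ := {j | ∃ J ∈ Js, j ∈ J}

theorem wdIn_flatten (D : ChevalleyDatum) (Js : List (List ℕ))
    (hwd : ∀ J ∈ Js, ∀ a ∈ J, a < D.rank) (Ls : List (List ℕ)) (hLs : ∀ J ∈ Ls, J ∈ Js) :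
    WdIn D (orbSet Js) Ls.flatten := by
  intro i hi
  rw [List.mem_flatten] at hi
  obtain ⟨J, hJ, hiJ⟩ := hi
  exact ⟨hwd J (hLs J hJ) i hiJ, ⟨J, hLs J hJ, hiJ⟩⟩

theorem WT_le_parab (D : ChevalleyDatum) (hD : D ∈ Seven) (Js : List (List ℕ))
    (hwd : ∀ J ∈ Js, ∀ a ∈ J, a < D.rank) : WT D hD Js ≤ parab D hD (orbSet Js) := by
  unfold WT
  rw [Subgroup.closure_le]
  rintro σ ⟨J, hJ, rfl⟩
  apply wPerm_mem_parab
  intro i hi
  exact ⟨hwd J hJ i hi, ⟨J, hJ, hi⟩⟩

theorem wPerm_flatten_reverse' (D : ChevalleyDatum) (hD : D ∈ Seven) (orbs : List (List ℕ))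
    (hinv : ∀ J ∈ orbs, (wPerm D hD J)⁻¹ = wPerm D hD J)
    (Js : List (List ℕ)) (hJs : ∀ J ∈ Js, J ∈ orbs) :
    wPerm D hD Js.reverse.flatten = (wPerm D hD Js.flatten)⁻¹ := by
  induction Js with
  | nil => simp [wPerm_nil]
  | cons J Js ih =>
    rw [List.reverse_cons, List.flatten_append, List.flatten_singleton, wPerm_append,
      ih (fun J' hJ' => hJs J' (List.mem_cons_of_mem _ hJ')), List.flatten_cons, wPerm_append,
      mul_inv_rev, hinv J (hJs J (List.mem_cons_self ..))]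

theorem exists_orbits_of_mem_WT' (D : ChevalleyDatum) (hD : D ∈ Seven) (orbs : List (List ℕ))
    (hinv : ∀ J ∈ orbs, (wPerm D hD J)⁻¹ = wPerm D hD J)
    (σ : Equiv.Perm (Fin D.nroots)) (hσ : σ ∈ WT D hD orbs) :
    ∃ Js : List (List ℕ), (∀ J ∈ Js, J ∈ orbs) ∧ wPerm D hD Js.flatten = σ := by
  unfold WT at hσ
  induction hσ using Subgroup.closure_induction with
  | mem y hy =>
    obtain ⟨J, hJ, rfl⟩ := hy
    refine ⟨[J], ?_, by rw [List.flatten_singleton]⟩
    intro J' hJ'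
    rw [List.mem_singleton] at hJ'
    rw [hJ']
    exact hJ
  | one => exact ⟨[], by simp, rfl⟩
  | mul a b _ _ ha hb =>
    obtain ⟨Ja, hJa, rfl⟩ := ha
    obtain ⟨Jb, hJb, rfl⟩ := hb
    refine ⟨Ja ++ Jb, ?_, by rw [List.flatten_append, wPerm_append]⟩
    intro J hJ
    rcases List.mem_append.1 hJ with h | h
    · exact hJa J h
    · exact hJb J h
  | inv a _ ha =>
    obtain ⟨Ja, hJa, rfl⟩ := ha
    exact ⟨Ja.reverse, fun J hJ => hJa J (List.mem_reverse.1 hJ),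
      wPerm_flatten_reverse' D hD orbs hinv Ja hJa⟩

/-- one step of the factorisation of `∑_{w ∈ W¹_K} q^{N(w)}` along `W¹_K = (W¹_K)^J W¹_J` -/
theorem poincT_step (D : ChevalleyDatum) (hD : D ∈ Seven) (Ks Js : List (List ℕ))
    (hJK : ∀ J ∈ Js, J ∈ Ks) (hwd : ∀ J ∈ Ks, ∀ a ∈ J, a < D.rank)
    (hinv : ∀ J ∈ Ks, (wPerm D hD J)⁻¹ = wPerm D hD J) (q : ℕ)
    {m : ℕ} (u : Fin m → List (List ℕ)) (hu : ∀ t, ∀ J ∈ u t, J ∈ Ks)
    (hpos : ∀ t, ∀ J ∈ Js, ∀ j ∈ J, D.IsPosRoot (wAct D (u t).flatten (D.simple j)))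
    (hinj : ∀ t t', wPerm D hD (u t).flatten = wPerm D hD (u t').flatten → t = t')
    (h0 : ∃ t, wPerm D hD (u t).flatten = 1)
    (hcov : ∀ t, ∀ O ∈ Ks,
      (∃ t', wPerm D hD (u t').flatten = wPerm D hD O * wPerm D hD (u t).flatten) ∨
      (∃ O' ∈ Js, wPerm D hD O * wPerm D hD (u t).flatten
        = wPerm D hD (u t).flatten * wPerm D hD O')) :
    poincT D hD Ks q = (∑ t, q ^ (negSet D (u t).flatten).card) * poincT D hD Js q := by
  classical
  unfold poincT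
  have hwdu : ∀ t, Wd D (u t).flatten := fun t => (wdIn_flatten D Ks hwd (u t) (hu t)).wd
  have hwdJ : ∀ J ∈ Js, ∀ a ∈ J, a < D.rank := fun J hJ => hwd J (hJK J hJ)
  have hpos' : ∀ t, ∀ j < D.rank, j ∈ orbSet Js →
      D.IsPosRoot (wAct D (u t).flatten (D.simple j)) := by
    rintro t j - ⟨J, hJ, hjJ⟩
    exact hpos t J hJ j hjJ
  have hsum : ∑ t, q ^ (negSet D (u t).flatten).card
      = ∑ t, q ^ Nf D (wPerm D hD (u t).flatten) := by
    apply Finset.sum_congr rfl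
    intro t _
    rw [Nf_wPerm D hD _ (hwdu t)]
  rw [hsum]
  apply sum_pow_transversal (WT D hD Js) (WT D hD Ks) (WT_mono D hD Js Ks hJK) (Nf D) q
    (fun t => wPerm D hD (u t).flatten)
  · intro t
    exact wPerm_flatten_mem_WT D hD Ks (u t) (hu t)
  · intro k hk
    obtain ⟨Ls, hLs, rfl⟩ := exists_orbits_of_mem_WT' D hD Ks hinv k hk
    induction Ls with
    | nil =>
      obtain ⟨t, ht⟩ := h0
      refine ⟨t, ?_⟩
      rw [ht, List.flatten_nil, wPerm_nil, inv_one, one_mul]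
      exact one_mem _
    | cons O Ls ih =>
      have hLs' : ∀ J ∈ Ls, J ∈ Ks := fun J hJ => hLs J (List.mem_cons_of_mem _ hJ)
      obtain ⟨t, ht⟩ := ih hLs' (wPerm_flatten_mem_WT D hD Ks Ls hLs')
      rcases hcov t O (hLs O (List.mem_cons_self ..)) with ⟨t', ht'⟩ | ⟨O', hO', hcomm⟩
      · refine ⟨t', ?_⟩
        rw [ht', List.flatten_cons, wPerm_append]
        have : (wPerm D hD O * wPerm D hD (u t).flatten)⁻¹ *
            (wPerm D hD O * wPerm D hD Ls.flatten)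
            = (wPerm D hD (u t).flatten)⁻¹ * wPerm D hD Ls.flatten := by group
        rw [this]
        exact ht
      · refine ⟨t, ?_⟩
        rw [List.flatten_cons, wPerm_append]
        have e : (wPerm D hD (u t).flatten)⁻¹ * (wPerm D hD O * wPerm D hD Ls.flatten)
            = wPerm D hD O' * ((wPerm D hD (u t).flatten)⁻¹ * wPerm D hD Ls.flatten) := by
          have : wPerm D hD O
              = wPerm D hD (u t).flatten * wPerm D hD O' * (wPerm D hD (u t).flatten)⁻¹ := by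
            rw [← hcomm]; group
          rw [this]; group
        rw [e]
        exact mul_mem (Subgroup.subset_closure ⟨O', hO', rfl⟩) ht
  · intro t t' h
    apply hinj
    exact para_min_unique D hD (orbSet Js) _ _ (hwdu t) (hwdu t') (hpos' t) (hpos' t')
      (WT_le_parab D hD Js hwdJ h)
  · intro t h hh
    obtain ⟨x, hx, rfl⟩ := exists_word_of_mem_parab D hD (orbSet Js) h
      (WT_le_parab D hD Js hwdJ hh)
    rw [← wPerm_append, Nf_wPerm D hD _ ((hwdu t).append hx.wd), Nf_wPerm D hD _ (hwdu t),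
      Nf_wPerm D hD _ hx.wd]
    exact card_negSet_append_para D hD (orbSet Js) _ (hwdu t) (hpos' t) x hx

end Cfsg.Agent.Lib.Helper5.ChevStruct
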