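import Mathlib
import Cfsg.Prelude.Def_ChevStructure
import Cfsg.Agent.Lib.Helper5.ChevTwistBNPair
import Cfsg.Agent.Lib.Helper5.ChevTwistPoinc
import Cfsg.Agent.Lib.Helper5.ChevWeylHom

set_option autoImplicit false

/-!
The Weyl group `N¹ / H¹` of a twisted group is the group `W¹` generated by the `w_J`, a Coxeter
group.
-/

namespace Cfsg.Agent.Lib.Helper5.ChevStruct

open Cfsg Cfsg.Lie Cfsg.Agent.Lib.Helper5.ChevSym

variable {K : Type*} [Field K]

/-- `|W¹| = ∑_{w ∈ W¹} 1` -/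
theorem card_WT (D : ChevalleyDatum) (hD : D ∈ Seven) (orbs : List (List ℕ)) :
    Nat.card ↥(WT D hD orbs) = poincT D hD orbs 1 := by
  classical
  unfold poincT
  simp only [one_pow, Finset.sum_const, smul_eq_mul, mul_one]
  rw [Nat.card_eq_fintype_card, Fintype.card_subtype]

section

variable (D : ChevalleyDatum) (hD : D ∈ Seven) (G : GraphData)
  (hp : checkGraphPerm D G = true) (f : K →+* K) (rho : Equiv.Perm (Fin D.rank))
  (orbs : List (List ℕ)) (G1 : Subgroup (GL D.Idx K))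
  (hyp : TwistBNHyp D hD G hp f rho orbs G1)

/-- the homomorphism `N¹ → Sym(Φ)` -/
noncomputable def weylHomT0 : ↥(D.monomialSubgroup K ⊓ G1) →* Equiv.Perm (Fin D.nroots) :=
  (weylGroup D hD).subtype.comp ((weylHom D hD K).comp (Subgroup.inclusion inf_le_left))

include hyp in
theorem weylHomT0_apply (n : ↥(D.monomialSubgroup K ⊓ G1)) :
    ∃ Js : List (List ℕ), (∀ J ∈ Js, J ∈ orbs) ∧
      weylHomT0 D hD G1 n = wPerm D hD Js.flatten ∧
      ∃ h ∈ D.diagonalSubgroup K ⊓ G1, (n : GL D.Idx K) = wGL D hD Js.flatten * h := by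
  obtain ⟨hn1, hn2⟩ := Subgroup.mem_inf.1 n.2
  obtain ⟨Js, hJs, h, hh, e⟩ := twisted_monomial D hD G hp hyp.hG hyp.hS f rho hyp.hrho orbs
    hyp.hO G1 hyp.hG1 hyp.hn n.1 hn1 hn2
  have hst := stable_flatten D hD G orbs hyp.hO Js hJs
  refine ⟨Js, hJs, ?_, h, hh, e⟩
  unfold weylHomT0
  rw [MonoidHom.comp_apply, MonoidHom.comp_apply,
    weylHom_apply D hD _ Js.flatten hst.1 h (Subgroup.mem_inf.1 hh).1 e]
  rfl

include hyp in
theorem weylHomT0_mem (n : ↥(D.monomialSubgroup K ⊓ G1)) :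
    weylHomT0 D hD G1 n ∈ WT D hD orbs := by
  obtain ⟨Js, hJs, e, -⟩ := weylHomT0_apply D hD G hp f rho orbs G1 hyp n
  rw [e]
  exact wPerm_flatten_mem_WT D hD orbs Js hJs

/-- the homomorphism `N¹ → W¹` -/
noncomputable def weylHomT : ↥(D.monomialSubgroup K ⊓ G1) →* ↥(WT D hD orbs) :=
  (weylHomT0 D hD G1).codRestrict (WT D hD orbs) (weylHomT0_mem D hD G hp f rho orbs G1 hyp)

theorem weylHomT_surjective :
    Function.Surjective (weylHomT D hD G hp f rho orbs G1 hyp) := by
  rintro ⟨σ, hσ⟩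
  obtain ⟨Js, hJs, rfl⟩ := exists_orbits_of_mem_WT D hD G orbs hyp.hO σ hσ
  have hst := stable_flatten D hD G orbs hyp.hO Js hJs
  have hN := wGL_mem (F := K) D hD _ hst.1
  have hG := wGL_flatten_mem D hD orbs _ hyp.hn Js hJs
  refine ⟨⟨wGL D hD Js.flatten, Subgroup.mem_inf.2 ⟨hN, hG⟩⟩, ?_⟩
  apply Subtype.ext
  show weylHomT0 D hD G1 _ = wPerm D hD Js.flatten
  unfold weylHomT0
  rw [MonoidHom.comp_apply, MonoidHom.comp_apply,
    weylHom_apply D hD _ Js.flatten hst.1 1 (one_mem _) (by rw [mul_one]; rfl)]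
  rfl

theorem weylHomT_ker :
    (weylHomT D hD G hp f rho orbs G1 hyp).ker
      = (D.diagonalSubgroup K ⊓ G1).subgroupOf (D.monomialSubgroup K ⊓ G1) := by
  ext n
  rw [MonoidHom.mem_ker, Subgroup.mem_subgroupOf]
  have h0 : weylHomT D hD G hp f rho orbs G1 hyp n = 1 ↔
      (weylHom D hD K) (Subgroup.inclusion inf_le_left n) = 1 := by
    constructor
    · intro h
      have h1 : weylHomT0 D hD G1 n = 1 := congrArg Subtype.val h
      unfold weylHomT0 at h1
      rw [MonoidHom.comp_apply, MonoidHom.comp_apply] at h1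
      exact Subtype.ext h1
    · intro h
      apply Subtype.ext
      show weylHomT0 D hD G1 n = 1
      unfold weylHomT0
      rw [MonoidHom.comp_apply, MonoidHom.comp_apply, h]
      rfl
  rw [h0, ← MonoidHom.mem_ker, weylHom_ker, Subgroup.mem_subgroupOf]
  constructor
  · intro h
    exact Subgroup.mem_inf.2 ⟨h, (Subgroup.mem_inf.1 n.2).2⟩
  · intro h
    exact (Subgroup.mem_inf.1 h).1

include hyp in
/-- `N¹ / H¹` is the Coxeter group with the given matrix -/
theorem exists_coxeter_hom_twisted {m : ℕ} (M : CoxeterMatrix (Fin m)) (gen : Fin m → List ℕ)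
    (hgen : ∀ i, gen i ∈ orbs) (hsurj : ∀ O ∈ orbs, ∃ i, gen i = O)
    (hrel : ∀ i j, (wPerm D hD (gen i) * wPerm D hD (gen j)) ^ (M i j) = 1)
    (hcard : Nat.card M.Group = Nat.card ↥(WT D hD orbs)) :
    ∃ φ : ↥(D.monomialSubgroup K ⊓ G1) →* M.Group, Function.Surjective φ ∧
      φ.ker = (D.diagonalSubgroup K ⊓ G1).subgroupOf (D.monomialSubgroup K ⊓ G1) := by
  classical
  let g : Fin m → ↥(WT D hD orbs) :=
    fun i => ⟨wPerm D hD (gen i), Subgroup.subset_closure ⟨gen i, hgen i, rfl⟩⟩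
  have hlift : M.IsLiftable g := by
    intro i j
    apply Subtype.ext
    show (wPerm D hD (gen i) * wPerm D hD (gen j)) ^ (M i j) = 1
    exact hrel i j
  let L : M.Group →* ↥(WT D hD orbs) := M.toCoxeterSystem.lift ⟨g, hlift⟩
  have hL : ∀ i, L (M.simple i) = g i := fun i =>
    M.toCoxeterSystem.lift_apply_simple hlift i
  have hLsurj : Function.Surjective L := by
    rintro ⟨σ, hσ⟩
    obtain ⟨Js, hJs, rfl⟩ := exists_orbits_of_mem_WT D hD G orbs hyp.hO σ hσ
    induction Js with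
    | nil => exact ⟨1, by rw [map_one]; rfl⟩
    | cons J Js ih =>
      have hJs' : ∀ J' ∈ Js, J' ∈ orbs := fun J' hJ' => hJs J' (List.mem_cons_of_mem _ hJ')
      obtain ⟨x, hx⟩ := ih hJs' (wPerm_flatten_mem_WT D hD orbs Js hJs')
      obtain ⟨i, hi⟩ := hsurj J (hJs J (List.mem_cons_self ..))
      refine ⟨M.simple i * x, ?_⟩
      rw [map_mul, hL, hx]
      apply Subtype.ext
      show wPerm D hD (gen i) * wPerm D hD Js.flatten = wPerm D hD (J :: Js).flatten
      rw [hi, List.flatten_cons, wPerm_append]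
  have hfin : Finite M.Group := by
    apply Nat.finite_of_card_ne_zero
    rw [hcard]
    exact Nat.card_pos.ne'
  have hbij : Function.Bijective L :=
    hLsurj.bijective_of_nat_card_le (le_of_eq hcard)
  let e : M.Group ≃* ↥(WT D hD orbs) := MulEquiv.ofBijective L hbij
  refine ⟨e.symm.toMonoidHom.comp (weylHomT D hD G hp f rho orbs G1 hyp), ?_, ?_⟩
  · exact e.symm.surjective.comp (weylHomT_surjective D hD G hp f rho orbs G1 hyp)
  · rw [← weylHomT_ker D hD G hp f rho orbs G1 hyp]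
    ext n
    rw [MonoidHom.mem_ker, MonoidHom.mem_ker, MonoidHom.comp_apply]
    constructor
    · intro h
      have := congrArg e h
      simpa using this
    · intro h
      rw [h, map_one]

end

end Cfsg.Agent.Lib.Helper5.ChevStruct
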