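import Mathlib
import Cfsg.Prelude.Def_ChevF4
import Cfsg.Agent.Lib.Helper5.F4WTbl
import Cfsg.Agent.Lib.Helper5.ChevWTbl

set_option autoImplicit false

/-!
Every word in the fundamental reflections of `F₄` acts on the roots like one of the 1152 words of
the table `wtblF4_full`.
-/

namespace Cfsg.Agent.Lib.Helper5.F4W

open Cfsg Cfsg.Lie Cfsg.Agent.Lib.Helper5.ChevSym Cfsg.Agent.Lib.Helper5.ChevStruct

theorem memF4 : chevF4 ∈ Seven := by simp [Seven]

theorem nrootsF4 : chevF4.nroots = 48 := rfl

theorem rankF4 : chevF4.rank = 4 := rfl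

/-- the facts certified by the table -/
theorem tbl_facts (t : ℕ) (ht : t < 1152) :
    Wd chevF4 (wtblF4_full.getD t default).wd ∧
    (∀ j < 4, wAct chevF4 (wtblF4_full.getD t default).wd (chevF4.simple j) =
      (wtblF4_full.getD t default).img.getD j 0) ∧
    (negSet chevF4 (wtblF4_full.getD t default).wd).card =
      (wtblF4_full.getD t default).wd.length := by
  have h := table_facts chevF4 memF4 wtblKF4_full wtblJF4_full wtblF4_full
    (fun t ht => chkWTblF4_full t (by rw [wtblF4_full_length] at ht; exact ht)) t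
    (by rw [wtblF4_full_length]; exact ht)
  exact ⟨h.1.wd, h.2.1, h.2.2⟩

/-- the table is closed under left multiplication by the fundamental reflections -/
theorem tbl_next (t : ℕ) (ht : t < 1152) (i : ℕ) (hi : i < 4) :
    (wtblF4_full.getD t default).nxt.getD i 0 < 1152 ∧
    (wtblF4_full.getD ((wtblF4_full.getD t default).nxt.getD i 0) default).img =
      (wtblF4_full.getD t default).img.map (chevF4.reflectRoot i) ∧
    (wtblF4_full.getD t default).img.length = 4 := by
  have h := checkRec_spec chevF4 wtblKF4_full wtblJF4_full wtblF4_full t (chkWTblF4_full t ht)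
  obtain ⟨-, hlen, -, hK⟩ := h
  have hiK : i ∈ wtblKF4_full := by
    unfold wtblKF4_full
    interval_cases i <;> simp
  rcases hK i hiK with ⟨h1, h2⟩ | ⟨h1, -⟩
  · rw [wtblF4_full_length] at h1
    exact ⟨h1, h2, hlen⟩
  · simp [wtblJF4_full] at h1

/-- **cover**: every word acts like a word of the table -/
theorem cover (w : List ℕ) (hw : Wd chevF4 w) :
    ∃ t < 1152, ∀ j < 4, wAct chevF4 w (chevF4.simple j) =
      (wtblF4_full.getD t default).img.getD j 0 := by
  induction w with
  | nil =>
    refine ⟨0, by norm_num, ?_⟩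
    intro j hj
    have h := (tbl_facts 0 (by norm_num)).2.1 j hj
    have e : (wtblF4_full.getD 0 default).wd = [] := rfl
    rw [e] at h
    exact h
  | cons i w ih =>
    obtain ⟨t, ht, h⟩ := ih hw.tail
    have hi : i < 4 := hw.head
    obtain ⟨h1, h2, h3⟩ := tbl_next t ht i hi
    refine ⟨_, h1, ?_⟩
    intro j hj
    rw [h2, getD_map_of_lt _ _ j (by rw [h3]; exact hj), ← h j hj]
    rfl

/-- every word acts on all roots like a word of the table -/
theorem cover_act (w : List ℕ) (hw : Wd chevF4 w) :
    ∃ t < 1152, ∀ r < 48, wAct chevF4 w r = wAct chevF4 (wtblF4_full.getD t default).wd r := by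
  obtain ⟨t, ht, h⟩ := cover w hw
  refine ⟨t, ht, ?_⟩
  have hf := tbl_facts t ht
  exact wAct_eq_of_simple chevF4 memF4 w _ hw hf.1 (fun j hj => by rw [h j hj, hf.2.1 j hj])

end Cfsg.Agent.Lib.Helper5.F4W
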