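import Mathlib
import Cfsg.Prelude.Def_ChevStructure
import Cfsg.Prelude.Def_LieExceptional
import Cfsg.Agent.Lib.Helper5.ChevTwistBNPair
import Cfsg.Agent.Lib.Helper5.ChevTwistPerfOrb
import Cfsg.Agent.Lib.Helper5.ChevTwistTorus
import Cfsg.Agent.Lib.Helper5.RankOneHom

set_option autoImplicit false

/-!
Shared definitions for the automorphism theorem of the twisted groups `³D₄(q)`, `²E₆(q)`
(S2129 / S2130 farm): twisted root elements, `MapsT`, the bundle of hypotheses `TwAutHyp`.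
-/

namespace Cfsg.Agent.Lib.Helper5.TwAut

open Cfsg Cfsg.Lie Cfsg.Agent.Lib.Helper5.ChevStruct Cfsg.Agent.Lib.Helper5.ChevSym

section maps

variable {Γ : Type*} [Group Γ]

/-- the automorphism `θ` of `G1 ≤ Γ` maps (the trace on `G1` of) `K₁` onto (that of) `K₂` -/
def MapsT (G1 : Subgroup Γ) (θ : ↥G1 ≃* ↥G1) (K₁ K₂ : Subgroup Γ) : Prop :=
  ∀ g : ↥G1, ((θ g : Γ) ∈ K₂ ↔ (g : Γ) ∈ K₁)

theorem MapsT.trans {G1 : Subgroup Γ} {θ θ' : ↥G1 ≃* ↥G1} {K₁ K₂ K₃ : Subgroup Γ}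
    (h : MapsT G1 θ K₁ K₂) (h' : MapsT G1 θ' K₂ K₃) : MapsT G1 (θ.trans θ') K₁ K₃ := fun g => by
  rw [MulEquiv.trans_apply, h' (θ g), h g]

theorem MapsT.symm {G1 : Subgroup Γ} {θ : ↥G1 ≃* ↥G1} {K₁ K₂ : Subgroup Γ}
    (h : MapsT G1 θ K₁ K₂) : MapsT G1 θ.symm K₂ K₁ := fun g => by
  rw [← h (θ.symm g), MulEquiv.apply_symm_apply]

theorem MapsT.inf {G1 : Subgroup Γ} {θ : ↥G1 ≃* ↥G1} {K₁ K₂ L₁ L₂ : Subgroup Γ}
    (h : MapsT G1 θ K₁ K₂) (h' : MapsT G1 θ L₁ L₂) : MapsT G1 θ (K₁ ⊓ L₁) (K₂ ⊓ L₂) := fun g => by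
  rw [Subgroup.mem_inf, Subgroup.mem_inf, h g, h' g]

theorem MapsT.congr {G1 : Subgroup Γ} {θ : ↥G1 ≃* ↥G1} {K₁ K₂ K₁' K₂' : Subgroup Γ}
    (h : MapsT G1 θ K₁ K₂) (h1 : ∀ g ∈ G1, (g ∈ K₁ ↔ g ∈ K₁'))
    (h2 : ∀ g ∈ G1, (g ∈ K₂ ↔ g ∈ K₂')) : MapsT G1 θ K₁' K₂' := fun g => by
  rw [← h1 _ g.2, ← h2 _ (θ g).2, h g]

theorem mapsT_one (G1 : Subgroup Γ) (K₁ : Subgroup Γ) :
    MapsT G1 (MulEquiv.refl ↥G1) K₁ K₁ := fun _ => Iff.rfl

/-- conjugation by `x ∈ G1` maps `K` onto `x K x⁻¹` -/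
theorem mapsT_conj (G1 : Subgroup Γ) (x : ↥G1) (K₁ : Subgroup Γ) :
    MapsT G1 (MulAut.conj x) K₁ (K₁.map (MulAut.conj (x : Γ)).toMonoidHom) := fun g => by
  rw [Subgroup.mem_map]
  constructor
  · rintro ⟨k, hk, hkg⟩
    have : (g : Γ) = k := by
      have h1 : ((MulAut.conj x g : ↥G1) : Γ) = (x : Γ) * g * (x : Γ)⁻¹ := by
        simp [MulAut.conj_apply]
      rw [h1] at hkg
      simp only [MulEquiv.coe_toMonoidHom, MulAut.conj_apply] at hkg
      exact (mul_left_cancel (mul_right_cancel hkg)).symm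
    rw [this]; exact hk
  · intro hg
    refine ⟨g, hg, ?_⟩
    simp [MulAut.conj_apply]

/-- `MapsT` in terms of images of subgroups of `G1` -/
theorem mapsT_iff_map (G1 : Subgroup Γ) (θ : ↥G1 ≃* ↥G1) (K₁ K₂ : Subgroup Γ) :
    MapsT G1 θ K₁ K₂ ↔ (K₁.subgroupOf G1).map θ.toMonoidHom = K₂.subgroupOf G1 := by
  constructor
  · intro h
    ext g
    rw [Subgroup.mem_map, Subgroup.mem_subgroupOf]
    constructor
    · rintro ⟨y, hy, rfl⟩
      rw [Subgroup.mem_subgroupOf] at hy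
      exact (h y).2 hy
    · intro hg
      refine ⟨θ.symm g, ?_, by simp⟩
      rw [Subgroup.mem_subgroupOf, ← h (θ.symm g)]
      simpa using hg
  · intro h g
    have h1 : θ g ∈ (K₁.subgroupOf G1).map θ.toMonoidHom ↔ g ∈ K₁.subgroupOf G1 := by
      rw [Subgroup.mem_map]
      constructor
      · rintro ⟨y, hy, hyg⟩
        have : y = g := θ.injective hyg
        rwa [← this]
      · intro hg
        exact ⟨g, hg, rfl⟩
    rw [h, Subgroup.mem_subgroupOf, Subgroup.mem_subgroupOf] at h1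
    exact h1

end maps

variable {K : Type*} [Field K]

/-- the parameter of the `i`-th factor of a twisted root element: `f^j t` if `i` is the `j`-th
entry of the orbit `J` -/
def sT (f : K →+* K) (J : List ℕ) (t : K) (i : ℕ) : K := (f ^ J.idxOf i) t

/-- the twisted root element `x_J(t) = ∏_j x_{p_{J j}}(f^j t)` -/
def xT (D : ChevalleyDatum) (hD : D ∈ Seven) (f : K →+* K) (J : List ℕ) (t : K) : GL D.Idx K :=
  wordGL D hD (J.map fun i => (D.simple i, sT f J t i))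

/-- the twisted root element `x_{-J}(t) = ∏_j x_{-p_{J j}}(f^j t)` -/
def yT (D : ChevalleyDatum) (hD : D ∈ Seven) (f : K →+* K) (J : List ℕ) (t : K) : GL D.Idx K :=
  wordGL D hD (J.map fun i => (D.neg (D.simple i), sT f J t i))

/-- the twisted torus element `h_J(t) = ∏_j h_{p_{J j}}(f^j t)` -/
def hT (D : ChevalleyDatum) (hD : D ∈ Seven) (f : K →+* K) (J : List ℕ) (t : K) : GL D.Idx K :=
  hProd D hD J (sT f J t)

/-- `t` lies in the parameter field `K_J = Fix(f^{|J|})` of the node `J` -/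
def InK (f : K →+* K) (J : List ℕ) (t : K) : Prop := (f ^ J.length) t = t

/-- the fundamental roots of the node `J` -/
def posJ (D : ChevalleyDatum) (J : List ℕ) : Set ℕ := {r | ∃ i ∈ J, r = D.simple i}

/-- the negatives of the fundamental roots of the node `J` -/
def negJ (D : ChevalleyDatum) (J : List ℕ) : Set ℕ := {r | ∃ i ∈ J, r = D.neg (D.simple i)}

/-- two nodes `J`, `J'` with `K_J ⊆ K_{J'}` joined by a simple bond: `h_J(s)` acts on `x_{J'}(u)` as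
multiplication by `s⁻¹` -/
def AdjT (D : ChevalleyDatum) (J J' : List ℕ) : Prop :=
  (J.length = 1 ∧ ∀ i ∈ J, ∀ i' ∈ J', D.cartan i (D.simple i') = -1) ∨
  (J.length = J'.length ∧ ∀ j < J.length, ∀ j' < J'.length,
    D.cartan (J.getD j 0) (D.simple (J'.getD j' 0)) = if j = j' then -1 else 0)

/-- the hypotheses of the farm: the `(B, N)`-pair hypotheses of the twisted group `G1` together
with the description of `G1` by twisted root elements -/
structure TwAutHyp (D : ChevalleyDatum) (hD : D ∈ Seven) (G : GraphData)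
    (hp : checkGraphPerm D G = true) (f : K →+* K) (rho : Equiv.Perm (Fin D.rank))
    (orbs : List (List ℕ)) (G1 : Subgroup (GL D.Idx K)) (m : ℕ) : Prop where
  bn : TwistBNHyp D hD G hp f rho orbs G1
  horth : ∀ J ∈ orbs, checkOrth D J = true
  hne : ∀ J ∈ orbs, J ≠ []
  hlen : ∀ J ∈ orbs, J.length = 1 ∨ J.length = m
  hfm : ∀ x, (f ^ m) x = x
  hcyc : ∀ J ∈ orbs, ∀ j < J.length,
    rhoN D.rank rho (J.getD j 0) = J.getD ((j + 1) % J.length) 0
  hgen : ∀ J ∈ orbs, ∀ s : ℕ → K, (∀ i ∈ J, s (rhoN D.rank rho i) = f (s i)) →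
    wordGL D hD (J.map fun i => (D.simple i, s i)) ∈ G1 ∧
    wordGL D hD (J.map fun i => (D.neg (D.simple i), s i)) ∈ G1
  hclo : G1 = Subgroup.closure {g | ∃ J ∈ orbs, ∃ t, InK f J t ∧
    (g = xT D hD f J t ∨ g = yT D hD f J t)}
  hw0 : ∃ Js : List (List ℕ), (∀ J ∈ Js, J ∈ orbs) ∧ checkW0 D Js.flatten = true
  hsyl : ∃ p : ℕ, p.Prime ∧ CharP K p ∧
    (∃ a, Nat.card ↥(D.posUnipotent K ⊓ G1) = p ^ a) ∧
    ¬ p ∣ (Nat.card ↥G1 / Nat.card ↥(D.posUnipotent K ⊓ G1))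

end Cfsg.Agent.Lib.Helper5.TwAut
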