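import Mathlib
import Cfsg.Agent.Lib.Helper5.TwAutDefs

set_option autoImplicit false

/-!
More shared definitions for the twisted automorphism farm (S2129 / S2130):
the (B, N)-pair, the node elements, rigidity of the twisted diagram, linkage of the nodes.
-/

namespace Cfsg.Agent.Lib.Helper5.TwAut

open Cfsg Cfsg.Lie Cfsg.Agent.Lib.Helper5.ChevStruct Cfsg.Agent.Lib.Helper5.ChevSym

variable {K : Type*} [Field K]

/-- the `(B, N)`-pair of `G1` -/
noncomputable def bnT {D : ChevalleyDatum} {hD : D ∈ Seven} {G : GraphData}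
    {hp : checkGraphPerm D G = true} {f : K →+* K} {rho : Equiv.Perm (Fin D.rank)}
    {orbs : List (List ℕ)} {G1 : Subgroup (GL D.Idx K)} {m : ℕ}
    (hyp : TwAutHyp D hD G hp f rho orbs G1 m) : Cfsg.BNPair ↥G1 :=
  twistedBNPair D hD G hp f rho orbs G1 hyp.bn

/-- the element `n_J` of `G1` -/
def nT {D : ChevalleyDatum} {hD : D ∈ Seven} {G : GraphData}
    {hp : checkGraphPerm D G = true} {f : K →+* K} {rho : Equiv.Perm (Fin D.rank)}
    {orbs : List (List ℕ)} {G1 : Subgroup (GL D.Idx K)} {m : ℕ}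
    (hyp : TwAutHyp D hD G hp f rho orbs G1 m) (J : List ℕ) (hJ : J ∈ orbs) : ↥G1 :=
  ⟨wGL D hD J, hyp.bn.hn J hJ⟩

/-- the reflections of the nodes `J`, `J'` commute in the Weyl group -/
def CommW (D : ChevalleyDatum) (J J' : List ℕ) : Prop :=
  ∀ r < D.nroots, wAct D (J ++ J') r = wAct D (J' ++ J) r

/-- the twisted diagram has no symmetry preserving the sizes of the nodes -/
def Rigid (D : ChevalleyDatum) (orbs : List (List ℕ)) : Prop :=
  ∀ π : List ℕ → List ℕ, (∀ J ∈ orbs, π J ∈ orbs) →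
    (∀ J ∈ orbs, ∀ J' ∈ orbs, π J = π J' → J = J') →
    (∀ J ∈ orbs, (π J).length = J.length) →
    (∀ J ∈ orbs, ∀ J' ∈ orbs, (CommW D J J' ↔ CommW D (π J) (π J'))) →
    ∀ J ∈ orbs, π J = J

/-- every node is linked to the node `J₀` by a chain of simple bonds along which the
parameter fields increase -/
def Linked (D : ChevalleyDatum) (orbs : List (List ℕ)) (J₀ : List ℕ) : Prop :=
  ∀ J ∈ orbs, Relation.ReflTransGen (fun A B : List ℕ => A ∈ orbs ∧ B ∈ orbs ∧ AdjT D A B) J J₀

/-- the longest element maps `-J` to `J` -/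
def OppOK (D : ChevalleyDatum) (orbs : List (List ℕ)) (w : List ℕ) : Prop :=
  ∀ J ∈ orbs, ∀ i ∈ J, ∃ i' ∈ J, wAct D w (D.neg (D.simple i)) = D.simple i'

end Cfsg.Agent.Lib.Helper5.TwAut
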