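import Mathlib
import Cfsg.Agent.Lib.Helper1.F4Out.Defs

set_option autoImplicit false

/-!
# F4OUT farm (S2128), unit S3 : the root subgroups `X_J = U_{w_J}^- ∩ G1`
-/

namespace Cfsg.Agent.Lib.Helper5.F4Out

open Cfsg Cfsg.Lie Cfsg.Agent.Lib.Helper5.ChevSym Cfsg.Agent.Lib.Helper5.ChevSymP
  Cfsg.Agent.Lib.Helper5.ChevStruct Cfsg.Agent.Lib.Helper5.Ree Cfsg.Agent.Lib.Helper5.TwX
  Cfsg.Agent.Lib.Helper5.MatPow Cfsg.Agent.Lib.Helper5.F4T Cfsg.Agent.Lib.Helper5.TwAut
  Cfsg.Agent.Lib.Helper1.F4Out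

variable {K : Type*} [Field K] [Fintype K] [CharP K 2] (m : ℕ)
  (hq : ∀ x : K, x ^ 2 ^ (2 * m + 1) = x)

theorem mem_canon1 : (([[0, 3]], [0]) : List (List ℕ) × List ℕ) ∈ F4T.canon := by
  simp [F4T.canon]

theorem mem_canon2 : (([[1, 2, 1, 2]], [7]) : List (List ℕ) × List ℕ) ∈ F4T.canon := by
  simp [F4T.canon]

theorem LS_zero : LS [0] = [33, 24] := by decide

theorem LS_seven : LS [7] = [27, 25, 28, 30] := by decide

theorem longS_zero : longS [0] = [24] := by decide

theorem longS_seven : longS [7] = [25, 30] := by decide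

omit [Fintype K] in
/-- a product with parameters supported on the classes in `T` -/
theorem prodL_ext_support (T : List ℕ) (s : ℕ → K) (hs : ∀ r, r ∉ longS T → s r = 0) :
    prodL chevF4 hF4 Lpos (ext m s) = prodL chevF4 hF4 (LS T) (ext m s) := by
  unfold LS
  apply prodL_filter Lpos (inT T) (ext m s)
  intro r hr hrT
  apply ext_eq_zero m s r hr
  intro x hx hxb
  apply hs
  intro hxT
  have h1 := ((mem_longS T x).1 hxT).2.1
  unfold inT at h1 hrT
  rw [hxb, hrT] at h1
  exact Bool.noConfusion h1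

omit [Fintype K] in
theorem prodL_X1 (s : ℕ → K) (hs : ∀ r, r ∉ longS [0] → s r = 0) :
    prodL chevF4 hF4 Lpos (ext m s) = x1 m (s 24) := by
  rw [prodL_ext_support m [0] s hs, LS_zero]
  have e24 : ext m s 24 = s 24 := ext_long m s 24 (by decide)
  have e33 : ext m s 33 = ph m (s 24) := by
    unfold ext
    rw [if_neg (by decide : ¬ F4T.lam 33 = 1), if_neg (by decide : ¬ isAB 33 = true),
      show F4T.piR 33 = 24 from by decide]
  simp only [prodL, x1, List.map_cons, List.map_nil, e24, e33]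

omit [Fintype K] in
theorem prodL_X2 (s : ℕ → K) (hs : ∀ r, r ∉ longS [7] → s r = 0) :
    prodL chevF4 hF4 Lpos (ext m s) =
      wordGL chevF4 hF4 [(27, ph m (s 25)), (25, s 25), (28, s 25 * ph m (s 25) + ph m (s 30)),
        (30, s 30)] := by
  rw [prodL_ext_support m [7] s hs, LS_seven]
  have e25 : ext m s 25 = s 25 := ext_long m s 25 (by decide)
  have e30 : ext m s 30 = s 30 := ext_long m s 30 (by decide)
  have e27 : ext m s 27 = ph m (s 25) := by
    unfold ext
    rw [if_neg (by decide : ¬ F4T.lam 27 = 1), if_neg (by decide : ¬ isAB 27 = true),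
      show F4T.piR 27 = 25 from by decide]
  have e28 : ext m s 28 = s 25 * ph m (s 25) + ph m (s 30) := by
    unfold ext
    rw [if_neg (by decide : ¬ F4T.lam 28 = 1), if_pos (by decide : isAB 28 = true),
      show bOf 28 = 25 from by decide, show F4T.piR 28 = 30 from by decide]
  simp only [prodL, List.map_cons, List.map_nil, e25, e30, e27, e28]

include hq in
theorem mem_X1_iff (g : GL chevF4.Idx K) :
    g ∈ unegSub chevF4 K [0, 3] ⊓ fixG m ↔ ∃ t, g = x1 m t := by
  have h1 := unegSub_canon (K := K) _ mem_canon1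
  have h2 : (([[0, 3]], [0]) : List (List ℕ) × List ℕ).1.flatten = [0, 3] := rfl
  rw [h2] at h1
  rw [h1, run_fix_iff m hq [0] (canon_good _ mem_canon1) g]
  constructor
  · rintro ⟨s, hs, rfl⟩
    exact ⟨s 24, prodL_X1 m s hs⟩
  · rintro ⟨t, rfl⟩
    refine ⟨fun r => if r = 24 then t else 0, ?_, ?_⟩
    · intro r hr
      rw [longS_zero] at hr
      have : r ≠ 24 := fun h => hr (by simp [h])
      simp only [if_neg this]
    · rw [prodL_X1 m _ (by
        intro r hr
        rw [longS_zero] at hr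
        have : r ≠ 24 := fun h => hr (by simp [h])
        simp only [if_neg this])]
      simp

include hq in
theorem mem_X2_iff (g : GL chevF4.Idx K) :
    g ∈ unegSub chevF4 K [1, 2, 1, 2] ⊓ fixG m ↔ ∃ t u, g = x2 m t u := by
  have h1 := unegSub_canon (K := K) _ mem_canon2
  have h2 : (([[1, 2, 1, 2]], [7]) : List (List ℕ) × List ℕ).1.flatten = [1, 2, 1, 2] := rfl
  rw [h2] at h1
  rw [h1, run_fix_iff m hq [7] (canon_good _ mem_canon2) g]
  constructor
  · rintro ⟨s, hs, rfl⟩
    refine ⟨s 25, ph m (s 30), ?_⟩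
    rw [prodL_X2 m s hs, x2, ps_ph m hq]
  · rintro ⟨t, u, rfl⟩
    have hsup : ∀ r, r ∉ longS [7] →
        (fun r => if r = 25 then t else if r = 30 then ps m u else 0 : ℕ → K) r = 0 := by
      intro r hr
      rw [longS_seven] at hr
      have h25 : r ≠ 25 := fun h => hr (by simp [h])
      have h30 : r ≠ 30 := fun h => hr (by simp [h])
      simp only [if_neg h25, if_neg h30]
    refine ⟨fun r => if r = 25 then t else if r = 30 then ps m u else 0, hsup, ?_⟩
    rw [prodL_X2 m _ hsup, x2]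
    simp [ph_ps m hq]

end Cfsg.Agent.Lib.Helper5.F4Out
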