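import Mathlib
import Cfsg.Agent.Lib.Helper1.F4Out.Defs
import Cfsg.Agent.Lib.Helper5.F4OutS3
import Cfsg.Agent.Lib.Helper5.F4T.BN

set_option autoImplicit false

/-!
# F4OUT farm (S2128), unit CELLS : `B n_J B ∩ G1 = (B ∩ G1) n_J X_J`
-/

namespace Cfsg.Agent.Lib.Helper5.F4Out

open Cfsg Cfsg.Lie Cfsg.Agent.Lib.Helper5.ChevSym Cfsg.Agent.Lib.Helper5.ChevSymP
  Cfsg.Agent.Lib.Helper5.ChevStruct Cfsg.Agent.Lib.Helper5.Ree Cfsg.Agent.Lib.Helper5.TwX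
  Cfsg.Agent.Lib.Helper5.MatPow Cfsg.Agent.Lib.Helper5.F4T Cfsg.Agent.Lib.Helper5.TwAut
  Cfsg.Agent.Lib.Helper1.F4Out

variable {K : Type*} [Field K] [Fintype K] [CharP K 2] (m : ℕ)
  (hq : ∀ x : K, x ^ 2 ^ (2 * m + 1) = x)

include hq in
/-- `B n_J B ∩ G1 ⊆ (B ∩ G1) n_J (U_J^- ∩ G1)` -/
theorem cell_orb (J : List ℕ) (hJ : J ∈ orbsF4) (g b₁ b₂ : GL chevF4.Idx K)
    (hg : g ∈ fixG (K := K) m)
    (hb₁ : b₁ ∈ chevF4.borelSubgroup K) (hb₂ : b₂ ∈ chevF4.borelSubgroup K)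
    (e : g = b₁ * wGL chevF4 hF4 J * b₂) :
    ∃ c ∈ chevF4.borelSubgroup K ⊓ fixG m, ∃ v ∈ unegSub chevF4 K J ⊓ fixG m,
      g = c * wGL chevF4 hF4 J * v := by
  have hyp := hypX_F4 (K := K) m hq
  obtain ⟨Js, hJs, c, hc, v, hv, e'⟩ := hyp.cell g hg
  have hJwd : Wd chevF4 J := wd_orbs J hJ
  have hst := stable_flattenX chevF4 hF4 gF4 orbsF4 hyp.hO Js hJs
  have hvU : v ∈ chevF4.posUnipotent K := unegSub_le_pos _ hst.1 (Subgroup.mem_inf.1 hv).1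
  have hN := wGL_mem (F := K) chevF4 hF4 J hJwd
  have hN' := wGL_mem (F := K) chevF4 hF4 Js.flatten hst.1
  have hh : (wGL chevF4 hF4 J)⁻¹ * wGL chevF4 hF4 Js.flatten ∈ chevF4.diagonalSubgroup K :=
    bruhat_cell_unique chevF4 hF4 b₁ c (wGL chevF4 hF4 J) (wGL chevF4 hF4 Js.flatten) b₂ v hb₁
      (Subgroup.mem_inf.1 hc).1 hN hN' hb₂ (pos_le_borel chevF4 hvU) (e.symm.trans e')
  have hh2 : wGL chevF4 hF4 Js.flatten * (wGL chevF4 hF4 J)⁻¹ ∈ chevF4.diagonalSubgroup K := by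
    have := (conj_monomial_diag_mem chevF4 hF4 _ hN _ hh).1
    have e2 : (wGL chevF4 hF4 Js.flatten * (wGL chevF4 hF4 J)⁻¹ : GL chevF4.Idx K)
        = wGL chevF4 hF4 J * ((wGL chevF4 hF4 J)⁻¹ * wGL chevF4 hF4 Js.flatten) *
          (wGL chevF4 hF4 J)⁻¹ := by group
    rw [e2]
    exact this
  have hact := (hrel_iff_act_eq chevF4 hF4 _ _ hst.1 hJwd).1 hh2
  have hvJ : v ∈ unegSub chevF4 K J := by
    rw [← unegSub_congr chevF4 Js.flatten J hact]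
    exact (Subgroup.mem_inf.1 hv).1
  have hnJ : wGL chevF4 hF4 J ∈ fixG (K := K) m := hyp.hn J hJ
  have hnJs : wGL chevF4 hF4 Js.flatten ∈ fixG (K := K) m :=
    wGL_flatten_mem chevF4 hF4 orbsF4 (fixG (K := K) m) hyp.hn Js hJs
  refine ⟨c * (wGL chevF4 hF4 Js.flatten * (wGL chevF4 hF4 J)⁻¹), ?_, v,
    Subgroup.mem_inf.2 ⟨hvJ, (Subgroup.mem_inf.1 hv).2⟩, ?_⟩
  · refine Subgroup.mem_inf.2 ⟨?_, ?_⟩
    · exact mul_mem (Subgroup.mem_inf.1 hc).1 (diagonal_le_borel chevF4 hh2)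
    · exact mul_mem (Subgroup.mem_inf.1 hc).2 (mul_mem hnJs (inv_mem hnJ))
  · rw [e']
    group

include hq in
theorem cell_n1 (g b₁ b₂ : GL chevF4.Idx K) (hg : g ∈ fixG (K := K) m)
    (hb₁ : b₁ ∈ chevF4.borelSubgroup K) (hb₂ : b₂ ∈ chevF4.borelSubgroup K)
    (e : g = b₁ * n1 * b₂) :
    ∃ c ∈ chevF4.borelSubgroup K ⊓ fixG m, ∃ t, g = c * n1 * x1 m t := by
  obtain ⟨c, hc, v, hv, e'⟩ := cell_orb m hq [0, 3] (by decide) g b₁ b₂ hg hb₁ hb₂ e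
  obtain ⟨t, rfl⟩ := (mem_X1_iff m hq v).1 hv
  exact ⟨c, hc, t, e'⟩

include hq in
theorem cell_n2 (g b₁ b₂ : GL chevF4.Idx K) (hg : g ∈ fixG (K := K) m)
    (hb₁ : b₁ ∈ chevF4.borelSubgroup K) (hb₂ : b₂ ∈ chevF4.borelSubgroup K)
    (e : g = b₁ * n2 * b₂) :
    ∃ c ∈ chevF4.borelSubgroup K ⊓ fixG m, ∃ t u, g = c * n2 * x2 m t u := by
  obtain ⟨c, hc, v, hv, e'⟩ := cell_orb m hq [1, 2, 1, 2] (by decide) g b₁ b₂ hg hb₁ hb₂ e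
  obtain ⟨t, u, rfl⟩ := (mem_X2_iff m hq v).1 hv
  exact ⟨c, hc, t, u, e'⟩

end Cfsg.Agent.Lib.Helper5.F4Out
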