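import Mathlib

set_option autoImplicit false

/-! Counting the solutions of `p ^ 2 + q ^ 2 = c` over a finite field of odd order. -/

namespace Cfsg.Agent.Lib.Helper5.SumTwoSq

open Polynomial

variable {F : Type*} [Field F] [Fintype F] [DecidableEq F]

omit [DecidableEq F] in
theorem exists_sq_add_sq (hodd : Fintype.card F % 2 = 1) (x : F) : ∃ a b : F, a ^ 2 + b ^ 2 = x := by
  obtain ⟨a, b, hab⟩ := FiniteField.exists_root_sum_quadratic (R := F) (f := X ^ 2)
    (g := X ^ 2 - C x) (degree_X_pow 2) (degree_X_pow_sub_C (by decide) _) hodd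
  refine ⟨a, b, ?_⟩
  rw [← sub_eq_zero]
  simpa only [eval_C, eval_X, eval_pow, eval_sub, ← add_sub_assoc] using hab

omit [Fintype F] [DecidableEq F] in
theorem two_ne_zero_of_odd [Fintype F] (hodd : Fintype.card F % 2 = 1) : (2 : F) ≠ 0 := by
  intro h2
  have : CharP F 2 := CharTwo.of_one_ne_zero_of_two_eq_zero one_ne_zero h2
  have := FiniteField.even_card_of_char_two (ringChar.eq F 2)
  omega

/-- the solution set -/
def S (c : F) : Finset (F × F) := Finset.univ.filter (fun p => p.1 ^ 2 + p.2 ^ 2 = c)

theorem mem_S (c : F) (p : F × F) : p ∈ S c ↔ p.1 ^ 2 + p.2 ^ 2 = c := by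
  unfold S
  rw [Finset.mem_filter]
  simp

theorem card_S_mul (hodd : Fintype.card F % 2 = 1) (c d : F) (hd : d ≠ 0) :
    (S (c * d)).card = (S c).card := by
  obtain ⟨r, s, hrs⟩ := exists_sq_add_sq hodd d
  symm
  apply Finset.card_nbij' (fun p => (p.1 * r - p.2 * s, p.1 * s + p.2 * r))
    (fun p => ((p.1 * r + p.2 * s) / d, (p.2 * r - p.1 * s) / d))
  · intro p hp
    rw [Finset.mem_coe, mem_S] at hp ⊢
    rw [← hp, ← hrs]
    ring
  · intro p hp
    rw [Finset.mem_coe, mem_S] at hp ⊢
    field_simp
    rw [← hrs] at hp ⊢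
    linear_combination (r ^ 2 + s ^ 2) * hp
  · intro p _
    ext
    · simp only
      field_simp
      rw [← hrs]
      ring
    · simp only
      field_simp
      rw [← hrs]
      ring
  · intro p _
    ext
    · simp only
      field_simp
      rw [← hrs]
      ring
    · simp only
      field_simp
      rw [← hrs]
      ring

theorem sum_card_S : ∑ c : F, (S c).card = Fintype.card F ^ 2 := by
  have h := Finset.card_eq_sum_card_fiberwise (s := (Finset.univ : Finset (F × F)))
    (t := (Finset.univ : Finset F)) (f := fun p : F × F => p.1 ^ 2 + p.2 ^ 2)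
    (fun _ _ => Finset.mem_univ _)
  rw [Finset.card_univ, Fintype.card_prod] at h
  rw [pow_two, h]
  rfl

theorem card_S_zero_of_not_sq (h : ¬ IsSquare (-1 : F)) : (S (0 : F)).card = 1 := by
  rw [Finset.card_eq_one]
  refine ⟨(0, 0), ?_⟩
  ext p
  rw [mem_S, Finset.mem_singleton]
  constructor
  · intro hp
    by_cases hq : p.2 = 0
    · rw [hq] at hp
      have : p.1 = 0 := by
        have : p.1 ^ 2 = 0 := by linear_combination hp
        exact pow_eq_zero_iff (by norm_num) |>.mp this
      exact Prod.ext this hq
    · exfalso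
      apply h
      refine ⟨p.1 / p.2, ?_⟩
      field_simp
      linear_combination -hp
  · rintro rfl
    simp

/-- the number of solutions when `-1` is not a square -/
theorem card_S_of_not_sq (hodd : Fintype.card F % 2 = 1) (h : ¬ IsSquare (-1 : F)) (c : F)
    (hc : c ≠ 0) : (S c).card = Fintype.card F + 1 := by
  have h1 : ∀ d : F, d ≠ 0 → (S d).card = (S (1 : F)).card := by
    intro d hd
    have := card_S_mul hodd 1 d hd
    rw [one_mul] at this
    exact this
  have h2 := sum_card_S (F := F)
  rw [← Finset.add_sum_erase _ _ (Finset.mem_univ (0 : F)), card_S_zero_of_not_sq h] at h2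
  have h3 : ∑ x ∈ Finset.univ.erase (0 : F), (S x).card =
      (Fintype.card F - 1) * (S (1 : F)).card := by
    rw [Finset.sum_congr rfl (fun x hx => h1 x (Finset.ne_of_mem_erase hx)), Finset.sum_const,
      Finset.card_erase_of_mem (Finset.mem_univ _), Finset.card_univ, smul_eq_mul]
  rw [h3] at h2
  rw [h1 c hc]
  have hq : 1 < Fintype.card F := Fintype.one_lt_card
  set q := Fintype.card F with hqdef
  set N := (S (1 : F)).card with hN
  obtain ⟨t, ht⟩ : ∃ t, q = t + 1 := ⟨q - 1, by omega⟩
  rw [ht] at h2 ⊢
  have : t + 1 - 1 = t := by omega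
  rw [this] at h2
  have ht0 : 0 < t := by omega
  have : t * N = t * (t + 2) := by
    have : (t + 1) ^ 2 = 1 + t * (t + 2) := by ring
    omega
  have := Nat.eq_of_mul_eq_mul_left ht0 this
  omega

/-- the number of solutions when `-1` is a square -/
theorem card_S_of_sq (hodd : Fintype.card F % 2 = 1) (i : F) (hi : i ^ 2 = -1) (c : F)
    (hc : c ≠ 0) : (S c).card = Fintype.card F - 1 := by
  have h2 : (2 : F) ≠ 0 := two_ne_zero_of_odd hodd
  have hi0 : i ≠ 0 := by
    rintro rfl
    norm_num at hi
  have : (S c).card = (Finset.univ.filter (fun u : F => u ≠ 0)).card := by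
    apply Finset.card_nbij' (fun p => p.1 + i * p.2)
      (fun u => ((u + c / u) / 2, (u - c / u) / (2 * i)))
    · intro p hp
      rw [Finset.mem_coe, mem_S] at hp
      rw [Finset.mem_coe, Finset.mem_filter]
      refine ⟨Finset.mem_univ _, ?_⟩
      intro h0
      apply hc
      rw [← hp]
      have : p.1 ^ 2 + p.2 ^ 2 = (p.1 + i * p.2) * (p.1 - i * p.2) := by
        linear_combination (p.2 ^ 2) * hi
      have h0' : p.1 + i * p.2 = 0 := h0
      rw [this, h0', zero_mul]
    · intro u hu
      rw [Finset.mem_coe, Finset.mem_filter] at hu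
      have hu0 := hu.2
      rw [Finset.mem_coe, mem_S]
      simp only
      field_simp
      linear_combination ((u ^ 2 - c) ^ 2) * hi
    · intro p hp
      rw [Finset.mem_coe, mem_S] at hp
      have hne : p.1 + i * p.2 ≠ 0 := by
        intro h0
        apply hc
        rw [← hp]
        have : p.1 ^ 2 + p.2 ^ 2 = (p.1 + i * p.2) * (p.1 - i * p.2) := by
          linear_combination (p.2 ^ 2) * hi
        rw [this, h0, zero_mul]
      have hcu : c / (p.1 + i * p.2) = p.1 - i * p.2 := by
        rw [div_eq_iff hne, ← hp]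
        linear_combination (p.2 ^ 2) * hi
      ext
      · simp only
        rw [hcu]
        field_simp
        ring
      · simp only
        rw [hcu]
        field_simp
        ring
    · intro u hu
      rw [Finset.mem_coe, Finset.mem_filter] at hu
      have hu0 := hu.2
      simp only
      field_simp
      ring
  rw [this, Finset.filter_ne' Finset.univ (0 : F), Finset.card_erase_of_mem (Finset.mem_univ _),
    Finset.card_univ]

/-- the number of solutions of `p ^ 2 + q ^ 2 = c`, `c ≠ 0` -/
theorem card_S (hodd : Fintype.card F % 2 = 1) (c : F) (hc : c ≠ 0) :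
    (Fintype.card F % 4 = 1 → (S c).card = Fintype.card F - 1) ∧
    (Fintype.card F % 4 = 3 → (S c).card = Fintype.card F + 1) := by
  constructor
  · intro h
    have hs : IsSquare (-1 : F) := FiniteField.isSquare_neg_one_iff.mpr (by omega)
    obtain ⟨i, hi⟩ := hs
    exact card_S_of_sq hodd i (by rw [pow_two, ← hi]) c hc
  · intro h
    have hs : ¬ IsSquare (-1 : F) := by
      rw [FiniteField.isSquare_neg_one_iff]
      omega
    exact card_S_of_not_sq hodd hs c hc

end Cfsg.Agent.Lib.Helper5.SumTwoSq
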