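import Mathlib
import Cfsg.Prelude

set_option autoImplicit false
open Cfsg

/-! Transport of commutator subgroups and central quotients along isomorphisms. -/

namespace Cfsg.Agent.Lib.Helper5.IsoTools

variable {G G' : Type*} [Group G] [Group G']

theorem map_commutator_equiv (e : G ≃* G') :
    (commutator G).map e.toMonoidHom = commutator G' := by
  rw [commutator_def, Subgroup.map_commutator, commutator_def,
    Subgroup.map_top_of_surjective _ e.surjective]

/-- an isomorphism restricts to the commutator subgroups -/
noncomputable def commEquiv (e : G ≃* G') : ↥(commutator G) ≃* ↥(commutator G') :=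
  (e.subgroupMap (commutator G)).trans (MulEquiv.subgroupCongr (map_commutator_equiv e))

theorem map_center_equiv (e : G ≃* G') :
    (Subgroup.center G).map e.toMonoidHom = Subgroup.center G' := by
  ext b
  constructor
  · rintro ⟨a, ha, rfl⟩
    rw [SetLike.mem_coe] at ha
    rw [Subgroup.mem_center_iff] at ha ⊢
    intro b'
    obtain ⟨a', rfl⟩ := e.surjective b'
    show e a' * e a = e a * e a'
    rw [← map_mul, ← map_mul, ha a']
  · intro hb
    refine ⟨e.symm b, ?_, e.apply_symm_apply b⟩
    rw [SetLike.mem_coe]
    rw [Subgroup.mem_center_iff] at hb ⊢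
    intro a'
    apply e.injective
    rw [map_mul, map_mul, e.apply_symm_apply, hb]

/-- an isomorphism induces an isomorphism of the quotients by the centres -/
noncomputable def centerQuotEquiv (e : G ≃* G') :
    G ⧸ Subgroup.center G ≃* G' ⧸ Subgroup.center G' :=
  QuotientGroup.congr _ _ e (map_center_equiv e)

/-- the quotient by a trivial centre -/
noncomputable def quotCenterOfBot (h : Subgroup.center G = ⊥) : G ⧸ Subgroup.center G ≃* G :=
  (QuotientGroup.quotientMulEquivOfEq h).trans QuotientGroup.quotientBot

end Cfsg.Agent.Lib.Helper5.IsoTools
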