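import Mathlib

set_option autoImplicit false

namespace Cfsg.Agent.Lib.Helper5.PerfectCentral

open scoped commutatorElement

variable {G H : Type*} [Group G] [Group H]

theorem comm_mul (g k l : G) (hl : g * l * g⁻¹ * l⁻¹ ∈ Subgroup.center G) :
    g * (k * l) * g⁻¹ * (k * l)⁻¹ = (g * k * g⁻¹ * k⁻¹) * (g * l * g⁻¹ * l⁻¹) := by
  have hc := Subgroup.mem_center_iff.mp hl k⁻¹
  have h1 : g * (k * l) * g⁻¹ * (k * l)⁻¹ = (g * k * g⁻¹) * ((g * l * g⁻¹ * l⁻¹) * k⁻¹) := by
    simp only [mul_assoc, mul_inv_rev, inv_mul_cancel_left]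
  have h3 : (g * k * g⁻¹ * k⁻¹) * (g * l * g⁻¹ * l⁻¹) =
      (g * k * g⁻¹) * (k⁻¹ * (g * l * g⁻¹ * l⁻¹)) := by
    simp only [mul_assoc]
  rw [h1, h3, hc]

/-- the commutator map `k ↦ [g, k]` into the centre -/
def commHom (g : G) (hmem : ∀ k : G, g * k * g⁻¹ * k⁻¹ ∈ Subgroup.center G) :
    G →* Subgroup.center G :=
  MonoidHom.mk' (fun k => ⟨g * k * g⁻¹ * k⁻¹, hmem k⟩) (fun k l =>
    Subtype.ext (comm_mul g k l (hmem l)))

/-- in a perfect group, an element which is central modulo a central subgroup is central -/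
theorem mem_center_of_map_mem_center (hperf : commutator G = ⊤) (f : G →* H)
    (hker : f.ker ≤ Subgroup.center G) (g : G) (hg : f g ∈ Subgroup.center H) :
    g ∈ Subgroup.center G := by
  have hmem : ∀ k : G, g * k * g⁻¹ * k⁻¹ ∈ Subgroup.center G := by
    intro k
    apply hker
    rw [MonoidHom.mem_ker, map_mul, map_mul, map_mul, map_inv, map_inv]
    have := Subgroup.mem_center_iff.mp hg (f k)
    rw [← this, mul_inv_cancel_right, mul_inv_cancel]
  have hχ : commutator G ≤ (commHom g hmem).ker := by
    rw [commutator_eq_closure, Subgroup.closure_le]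
    rintro x ⟨p, q, rfl⟩
    show commHom g hmem ⁅p, q⁆ = 1
    rw [commutatorElement_def, map_mul, map_mul, map_mul, map_inv, map_inv,
      mul_comm' (commHom g hmem p) (commHom g hmem q), mul_inv_cancel_right, mul_inv_cancel]
  rw [hperf] at hχ
  rw [Subgroup.mem_center_iff]
  intro k
  have h1 : commHom g hmem k = 1 := hχ (Subgroup.mem_top k)
  have h3 : g * k * g⁻¹ * k⁻¹ = 1 := congrArg Subtype.val h1
  have h4 : g * k * g⁻¹ = k := by
    have := congrArg (· * k) h3
    simpa only [inv_mul_cancel_right, one_mul] using this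
  have h5 := congrArg (· * g) h4
  simp only [inv_mul_cancel_right] at h5
  exact h5.symm

/-- a surjection with central kernel from a perfect group induces an isomorphism of the
quotients by the centres -/
theorem nonempty_quotient_center_equiv (hperf : commutator G = ⊤) (f : G →* H)
    (hf : Function.Surjective f) (hker : f.ker ≤ Subgroup.center G) :
    Nonempty (H ⧸ Subgroup.center H ≃* G ⧸ Subgroup.center G) := by
  have hψ : Function.Surjective ((QuotientGroup.mk' (Subgroup.center H)).comp f) :=
    (QuotientGroup.mk'_surjective _).comp hf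
  have hk : ((QuotientGroup.mk' (Subgroup.center H)).comp f).ker = Subgroup.center G := by
    ext g
    rw [MonoidHom.mem_ker, MonoidHom.comp_apply, QuotientGroup.mk'_apply,
      QuotientGroup.eq_one_iff]
    constructor
    · exact mem_center_of_map_mem_center hperf f hker g
    · intro hg
      rw [Subgroup.mem_center_iff]
      intro h
      obtain ⟨k, rfl⟩ := hf h
      rw [← map_mul, ← map_mul, Subgroup.mem_center_iff.mp hg k]
  exact ⟨(QuotientGroup.quotientKerEquivOfSurjective _ hψ).symm.trans
    (QuotientGroup.quotientMulEquivOfEq hk)⟩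

end Cfsg.Agent.Lib.Helper5.PerfectCentral
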