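import Mathlib
import Cfsg.Agent.Lib.Helper4.SLnGen

set_option autoImplicit false

namespace Cfsg.Agent.Lib.Helper5.SL2Perfect

open Matrix
open scoped commutatorElement

variable {F : Type*} [Field F]

/-- upper unitriangular -/
def U (b : F) : Matrix.SpecialLinearGroup (Fin 2) F :=
  ⟨!![1, b; 0, 1], by simp [Matrix.det_fin_two]⟩

/-- lower unitriangular -/
def L (c : F) : Matrix.SpecialLinearGroup (Fin 2) F :=
  ⟨!![1, 0; c, 1], by simp [Matrix.det_fin_two]⟩

/-- diagonal -/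
def D (t : F) (ht : t ≠ 0) : Matrix.SpecialLinearGroup (Fin 2) F :=
  ⟨!![t, 0; 0, t⁻¹], by simp [Matrix.det_fin_two, ht]⟩

theorem transvection_01 (c : F) :
    Matrix.SpecialLinearGroup.transvection (show (0 : Fin 2) ≠ 1 by decide) c = U c := by
  apply Subtype.ext
  ext i j
  fin_cases i <;> fin_cases j <;>
    simp [Matrix.SpecialLinearGroup.transvection_coe, U, Matrix.single]

theorem transvection_10 (c : F) :
    Matrix.SpecialLinearGroup.transvection (show (1 : Fin 2) ≠ 0 by decide) c = L c := by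
  apply Subtype.ext
  ext i j
  fin_cases i <;> fin_cases j <;>
    simp [Matrix.SpecialLinearGroup.transvection_coe, L, Matrix.single]

theorem U_inv (b : F) : (U b)⁻¹ = U (-b) := by
  apply inv_eq_of_mul_eq_one_left
  apply Subtype.ext
  show (!![1, -b; 0, 1] : Matrix (Fin 2) (Fin 2) F) * !![1, b; 0, 1] = 1
  rw [Matrix.mul_fin_two, Matrix.one_fin_two]
  simp

theorem L_inv (c : F) : (L c)⁻¹ = L (-c) := by
  apply inv_eq_of_mul_eq_one_left
  apply Subtype.ext
  show (!![1, 0; -c, 1] : Matrix (Fin 2) (Fin 2) F) * !![1, 0; c, 1] = 1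
  rw [Matrix.mul_fin_two, Matrix.one_fin_two]
  simp

theorem D_inv (t : F) (ht : t ≠ 0) : (D t ht)⁻¹ = D t⁻¹ (inv_ne_zero ht) := by
  apply inv_eq_of_mul_eq_one_left
  apply Subtype.ext
  show (!![t⁻¹, 0; 0, t⁻¹⁻¹] : Matrix (Fin 2) (Fin 2) F) * !![t, 0; 0, t⁻¹] = 1
  rw [Matrix.mul_fin_two, Matrix.one_fin_two]
  simp [ht]

theorem commutator_D_U (t : F) (ht : t ≠ 0) (b : F) : ⁅D t ht, U b⁆ = U ((t ^ 2 - 1) * b) := by
  rw [commutatorElement_def, U_inv, D_inv]
  apply Subtype.ext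
  show (!![t, 0; 0, t⁻¹] : Matrix (Fin 2) (Fin 2) F) * !![1, b; 0, 1] * !![t⁻¹, 0; 0, t⁻¹⁻¹] *
    !![1, -b; 0, 1] = !![1, (t ^ 2 - 1) * b; 0, 1]
  simp only [Matrix.mul_fin_two]
  ext i j
  fin_cases i <;> fin_cases j <;> simp [ht] <;> field_simp <;> ring

theorem commutator_D_L (t : F) (ht : t ≠ 0) (c : F) :
    ⁅D t ht, L c⁆ = L ((t⁻¹ ^ 2 - 1) * c) := by
  rw [commutatorElement_def, L_inv, D_inv]
  apply Subtype.ext
  show (!![t, 0; 0, t⁻¹] : Matrix (Fin 2) (Fin 2) F) * !![1, 0; c, 1] * !![t⁻¹, 0; 0, t⁻¹⁻¹] *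
    !![1, 0; -c, 1] = !![1, 0; (t⁻¹ ^ 2 - 1) * c, 1]
  simp only [Matrix.mul_fin_two]
  ext i j
  fin_cases i <;> fin_cases j <;> simp [ht] <;> field_simp <;> ring

/-- `SL_2(F)` is perfect when `F` has an element `t ≠ 0` with `t² ≠ 1` -/
theorem commutator_eq_top (h : ∃ t : F, t ≠ 0 ∧ t ^ 2 ≠ 1) :
    commutator (Matrix.SpecialLinearGroup (Fin 2) F) = ⊤ := by
  obtain ⟨t, ht, ht2⟩ := h
  have h1 : t ^ 2 - 1 ≠ 0 := sub_ne_zero.mpr ht2
  have h3 : t⁻¹ ^ 2 - 1 ≠ 0 := by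
    rw [sub_ne_zero]
    intro h
    apply ht2
    rw [inv_pow] at h
    have := inv_eq_one.mp h
    exact this
  rw [eq_top_iff]
  intro A _
  refine Cfsg.Agent.Lib.Helper4.transvection_induction_gen
    (fun A => A ∈ commutator (Matrix.SpecialLinearGroup (Fin 2) F)) ?_ (fun _ _ => mul_mem) A
  intro i j hij c
  fin_cases i <;> fin_cases j
  · exact absurd rfl hij
  · show Matrix.SpecialLinearGroup.transvection _ c ∈ _
    rw [transvection_01]
    have := commutator_D_U t ht (c / (t ^ 2 - 1))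
    rw [mul_div_cancel₀ c h1] at this
    rw [← this]
    exact Subgroup.commutator_mem_commutator (Subgroup.mem_top _) (Subgroup.mem_top _)
  · show Matrix.SpecialLinearGroup.transvection _ c ∈ _
    rw [transvection_10]
    have := commutator_D_L t ht (c / (t⁻¹ ^ 2 - 1))
    rw [mul_div_cancel₀ c h3] at this
    rw [← this]
    exact Subgroup.commutator_mem_commutator (Subgroup.mem_top _) (Subgroup.mem_top _)
  · exact absurd rfl hij

end Cfsg.Agent.Lib.Helper5.SL2Perfect
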