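import Mathlib
import Cfsg.Prelude.Def_ClassicalGeometry
import Cfsg.Agent.Lib.Helper5.SpinorNorm
import Cfsg.Agent.Lib.Helper5.QuadStd
import Cfsg.Agent.Lib.Helper5.PlusGeom
import Cfsg.Agent.Lib.Helper5.SL2Perfect
import Cfsg.Agent.Lib.Helper5.SL2Orth
import Cfsg.Agent.Lib.Helper4.SLnGen
import Cfsg.Agent.Lib.Helper4.SLCard
import Cfsg.Agent.Lib.Helper4.SLCenter
import Cfsg.Agent.S0287
import Cfsg.Agent.S0787

set_option autoImplicit false
open Cfsg

namespace Cfsg.Agent.Lib.Helper5.SL2SL2Orth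

open Matrix QuadraticMap Cfsg.Agent.Lib.Helper5.CartanDieudonne Cfsg.Agent.Lib.Helper5.Refl
  Cfsg.Agent.Lib.Helper5.SpinorNorm Cfsg.Agent.Lib.Helper5.OrthCard

variable {F : Type*} [Field F]

/-- the index type of the four-dimensional hyperbolic form -/
abbrev I4 : Type := Fin 2 ⊕ Fin 2

/-- coordinates `(x1, x2, y1, y2)` -/
def e4 : I4 ≃ Fin 4 where
  toFun := fun i => match i with
    | .inl 0 => 0
    | .inl 1 => 1
    | .inr 0 => 2
    | .inr 1 => 3
  invFun := fun i => match i with
    | 0 => .inl 0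
    | 1 => .inl 1
    | 2 => .inr 0
    | 3 => .inr 1
  left_inv := by
    rintro (i | i) <;> fin_cases i <;> rfl
  right_inv := by
    intro i
    fin_cases i <;> rfl

/-- the matrix of `X ↦ M X adj(N)` on `2 × 2` matrices `[[x1, x2], [-y2, y1]]` -/
def P4 (M N : Matrix (Fin 2) (Fin 2) F) : Matrix (Fin 4) (Fin 4) F :=
  !![M 0 0 * N 1 1, -(M 0 0 * N 1 0), -(M 0 1 * N 1 0), -(M 0 1 * N 1 1);
     -(M 0 0 * N 0 1), M 0 0 * N 0 0, M 0 1 * N 0 0, M 0 1 * N 0 1;
     -(M 1 0 * N 0 1), M 1 0 * N 0 0, M 1 1 * N 0 0, M 1 1 * N 0 1;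
     -(M 1 0 * N 1 1), M 1 0 * N 1 0, M 1 1 * N 1 0, M 1 1 * N 1 1]

theorem P4_mul (M N M' N' : Matrix (Fin 2) (Fin 2) F) :
    P4 (M * M') (N * N') = P4 M N * P4 M' N' := by
  ext i j
  fin_cases i <;> fin_cases j <;>
    simp [P4, Matrix.mul_apply, Fin.sum_univ_two, Fin.sum_univ_four] <;> ring

theorem P4_one : P4 (1 : Matrix (Fin 2) (Fin 2) F) 1 = 1 := by
  ext i j
  fin_cases i <;> fin_cases j <;> simp [P4]

theorem P4_quad (M N : Matrix (Fin 2) (Fin 2) F) (w : Fin 4 → F) :
    (P4 M N *ᵥ w) 0 * (P4 M N *ᵥ w) 2 + (P4 M N *ᵥ w) 1 * (P4 M N *ᵥ w) 3 =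
      M.det * N.det * (w 0 * w 2 + w 1 * w 3) := by
  simp [P4, Matrix.mulVec, dotProduct, Fin.sum_univ_four, Matrix.det_fin_two]
  ring

/-- the action as a matrix over `I4` -/
def Rmat4 (M N : Matrix (Fin 2) (Fin 2) F) : Matrix I4 I4 F :=
  (P4 M N).submatrix e4 e4

theorem Rmat4_mul (M N M' N' : Matrix (Fin 2) (Fin 2) F) :
    Rmat4 (M * M') (N * N') = Rmat4 M N * Rmat4 M' N' := by
  unfold Rmat4
  rw [Matrix.submatrix_mul_equiv, P4_mul]

theorem Rmat4_one : Rmat4 (1 : Matrix (Fin 2) (Fin 2) F) 1 = 1 := by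
  unfold Rmat4
  rw [P4_one, submatrix_one_equiv]

/-- `Rmat4` as a monoid homomorphism -/
def RHom : Matrix (Fin 2) (Fin 2) F × Matrix (Fin 2) (Fin 2) F →* Matrix I4 I4 F where
  toFun := fun p => Rmat4 p.1 p.2
  map_one' := Rmat4_one
  map_mul' := fun p p' => Rmat4_mul p.1 p.2 p'.1 p'.2

theorem plus_eq (v : I4 → F) :
    plusForm 2 F v = (v ∘ e4.symm) 0 * (v ∘ e4.symm) 2 + (v ∘ e4.symm) 1 * (v ∘ e4.symm) 3 := by
  rw [plusForm_apply]
  simp [Cfsg.quadFormPlus, e4, Fin.sum_univ_two]

theorem Rmat4_mulVec (M N : Matrix (Fin 2) (Fin 2) F) (v : I4 → F) :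
    (Rmat4 M N *ᵥ v) ∘ e4.symm = P4 M N *ᵥ (v ∘ e4.symm) := by
  unfold Rmat4
  rw [Matrix.submatrix_mulVec_equiv]
  ext i
  simp

theorem quad_Rmat4 (M N : Matrix (Fin 2) (Fin 2) F) (hM : M.det = 1) (hN : N.det = 1)
    (v : I4 → F) : plusForm 2 F (Rmat4 M N *ᵥ v) = plusForm 2 F v := by
  rw [plus_eq, plus_eq, Rmat4_mulVec, P4_quad, hM, hN, one_mul, one_mul]

/-- `SL_2 × SL_2` as units of the product monoid of matrices -/
def toUnits : Matrix.SpecialLinearGroup (Fin 2) F × Matrix.SpecialLinearGroup (Fin 2) F →*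
    (Matrix (Fin 2) (Fin 2) F × Matrix (Fin 2) (Fin 2) F)ˣ :=
  (MulEquiv.prodUnits.symm.toMonoidHom).comp
    (MonoidHom.prodMap Matrix.SpecialLinearGroup.toGL Matrix.SpecialLinearGroup.toGL)

/-- the homomorphism `SL_2(F) × SL_2(F) → O_4^+(F)` -/
noncomputable def sigma :
    Matrix.SpecialLinearGroup (Fin 2) F × Matrix.SpecialLinearGroup (Fin 2) F →*
      ↥(isometryGroup F ⇑(plusForm 2 F)) :=
  ((Units.map (RHom (F := F))).comp toUnits).codRestrict (isometryGroup F ⇑(plusForm 2 F)) (by
    intro p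
    rw [mem_isometryGroup_iff]
    intro v
    exact quad_Rmat4 _ _ p.1.det_coe p.2.det_coe v)

theorem sigma_coe (p : Matrix.SpecialLinearGroup (Fin 2) F × Matrix.SpecialLinearGroup (Fin 2) F) :
    (((sigma p : ↥(isometryGroup F ⇑(plusForm 2 F))) : Matrix.GeneralLinearGroup I4 F) :
      Matrix I4 I4 F) = Rmat4 (p.1 : Matrix (Fin 2) (Fin 2) F) (p.2 : Matrix (Fin 2) (Fin 2) F) :=
  rfl

theorem P4_of_Rmat4_eq_one (M N : Matrix (Fin 2) (Fin 2) F) (h : Rmat4 M N = 1) :
    P4 M N = 1 := by
  unfold Rmat4 at h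
  have h1 := congrArg (fun A => A.submatrix e4.symm e4.symm) h
  simpa only [Matrix.submatrix_submatrix, Equiv.self_comp_symm, Matrix.submatrix_id_id,
    submatrix_one_equiv] using h1

theorem scalar_of_P4_eq_one (M N : Matrix (Fin 2) (Fin 2) F) (hM : M.det = 1)
    (h : P4 M N = 1) :
    M = M 0 0 • (1 : Matrix (Fin 2) (Fin 2) F) ∧ N = M 0 0 • (1 : Matrix (Fin 2) (Fin 2) F) ∧
      M 0 0 ^ 2 = 1 := by
  have h00 := congrFun (congrFun h 0) 0
  have h01 := congrFun (congrFun h 0) 1
  have h10 := congrFun (congrFun h 1) 0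
  have h11 := congrFun (congrFun h 1) 1
  have h12 := congrFun (congrFun h 1) 2
  have h21 := congrFun (congrFun h 2) 1
  have h22 := congrFun (congrFun h 2) 2
  simp [P4] at h00 h01 h10 h11 h12 h21 h22
  have ha : M 0 0 ≠ 0 := fun h0 => by rw [h0] at h11; simp at h11
  have hn : N 0 0 ≠ 0 := fun h0 => by rw [h0] at h11; simp at h11
  have hN10 : N 1 0 = 0 := by
    rcases h01 with h' | h'
    · exact absurd h' ha
    · exact h'
  have hN01 : N 0 1 = 0 := by
    rcases h10 with h' | h'
    · exact absurd h' ha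
    · exact h'
  have hM01 : M 0 1 = 0 := by
    rcases h12 with h' | h'
    · exact h'
    · exact absurd h' hn
  have hM10 : M 1 0 = 0 := by
    rcases h21 with h' | h'
    · exact h'
    · exact absurd h' hn
  have hM11 : M 1 1 = M 0 0 := by
    have : (M 1 1 - M 0 0) * N 0 0 = 0 := by linear_combination h22 - h11
    rcases mul_eq_zero.mp this with h' | h'
    · linear_combination h'
    · exact absurd h' hn
  have hN11 : N 1 1 = N 0 0 := by
    have : M 0 0 * (N 1 1 - N 0 0) = 0 := by linear_combination h00 - h11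
    rcases mul_eq_zero.mp this with h' | h'
    · exact absurd h' ha
    · linear_combination h'
  have hsq : M 0 0 ^ 2 = 1 := by
    rw [Matrix.det_fin_two, hM01, hM11] at hM
    linear_combination hM
  have hN00 : N 0 0 = M 0 0 := by
    have : M 0 0 * (N 0 0 - M 0 0) = 0 := by linear_combination h11 - hsq
    rcases mul_eq_zero.mp this with h' | h'
    · exact absurd h' ha
    · linear_combination h'
  refine ⟨?_, ?_, hsq⟩
  · ext i j
    fin_cases i <;> fin_cases j <;> simp [hM01, hM10, hM11]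
  · ext i j
    fin_cases i <;> fin_cases j <;> simp [hN01, hN10, hN11, hN00]

theorem P4_smul_one (a : F) (ha : a ^ 2 = 1) :
    P4 (a • (1 : Matrix (Fin 2) (Fin 2) F)) (a • (1 : Matrix (Fin 2) (Fin 2) F)) = 1 := by
  have ha' : a * a = 1 := by rw [← _root_.sq]; exact ha
  ext i j
  fin_cases i <;> fin_cases j <;> simp [P4, ha']

theorem ker_sigma : (sigma (F := F)).ker =
    (Subgroup.center (Matrix.SpecialLinearGroup (Fin 2) F)).map
      (MonoidHom.prod (MonoidHom.id _) (MonoidHom.id _)) := by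
  ext ⟨g, h⟩
  rw [MonoidHom.mem_ker, Subgroup.mem_map]
  constructor
  · intro hk
    have h1 : Rmat4 (g : Matrix (Fin 2) (Fin 2) F) (h : Matrix (Fin 2) (Fin 2) F) = 1 := by
      rw [← sigma_coe (g, h), hk]; rfl
    obtain ⟨hg, hh, hsq⟩ := scalar_of_P4_eq_one _ _ g.det_coe (P4_of_Rmat4_eq_one _ _ h1)
    refine ⟨g, ?_, ?_⟩
    · rw [Matrix.SpecialLinearGroup.mem_center_iff]
      refine ⟨(g : Matrix (Fin 2) (Fin 2) F) 0 0, by rw [Fintype.card_fin]; exact hsq, ?_⟩
      rw [Matrix.scalar_apply, ← Matrix.smul_one_eq_diagonal]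
      exact hg.symm
    · have : h = g := by
        apply Subtype.ext
        rw [hh, ← hg]
      rw [this]
      rfl
  · rintro ⟨z, hz, hzz⟩
    obtain ⟨r, hr, hrz⟩ := Matrix.SpecialLinearGroup.mem_center_iff.mp hz
    have hg : g = z := (congrArg Prod.fst hzz).symm
    have hh : h = z := (congrArg Prod.snd hzz).symm
    rw [hg, hh]
    apply Subtype.ext
    apply Units.ext
    rw [sigma_coe]
    show Rmat4 (z : Matrix (Fin 2) (Fin 2) F) (z : Matrix (Fin 2) (Fin 2) F) = 1
    rw [← hrz, Matrix.scalar_apply, ← Matrix.smul_one_eq_diagonal]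
    unfold Rmat4
    rw [P4_smul_one r (by rw [Fintype.card_fin] at hr; exact hr), submatrix_one_equiv]

/-- an element of `SL_2` which is central modulo the centre is central (any field) -/
theorem mem_center_of_comm_mod' (g : Matrix.SpecialLinearGroup (Fin 2) F)
    (h : ∀ k : Matrix.SpecialLinearGroup (Fin 2) F,
      g * k * g⁻¹ * k⁻¹ ∈ Subgroup.center (Matrix.SpecialLinearGroup (Fin 2) F)) :
    g ∈ Subgroup.center (Matrix.SpecialLinearGroup (Fin 2) F) := by
  by_cases h2 : (2 : F) ≠ 0
  · exact Cfsg.Agent.Lib.Helper5.SL2Orth.mem_center_of_comm_mod h2 g h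
  push Not at h2
  have hneg : (-1 : F) = 1 := by linear_combination (-1 : F) * h2
  have key : ∀ k : Matrix.SpecialLinearGroup (Fin 2) F,
      (g : Matrix (Fin 2) (Fin 2) F) * (k : Matrix (Fin 2) (Fin 2) F) =
        (k : Matrix (Fin 2) (Fin 2) F) * (g : Matrix (Fin 2) (Fin 2) F) := by
    intro k
    obtain ⟨r, hr, hz⟩ := Matrix.SpecialLinearGroup.mem_center_iff.mp (h k)
    have hr1 : r = 1 := by
      rw [Fintype.card_fin] at hr
      have : (r - 1) * (r - 1) = 0 := by linear_combination hr - r * h2 + h2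
      rcases mul_eq_zero.mp this with h' | h' <;> linear_combination h'
    have h1 : g * k = (g * k * g⁻¹ * k⁻¹) * (k * g) := by group
    have h3 := congrArg (fun x : Matrix.SpecialLinearGroup (Fin 2) F =>
      (x : Matrix (Fin 2) (Fin 2) F)) h1
    simp only [Matrix.SpecialLinearGroup.coe_mul] at h3
    rw [Matrix.SpecialLinearGroup.coe_mul] at hz
    simp only [Matrix.SpecialLinearGroup.coe_mul] at hz
    rw [← hz, hr1, map_one, Matrix.one_mul] at h3
    exact h3
  have h1 := key ⟨!![1, 1; 0, 1], by simp [Matrix.det_fin_two]⟩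
  have h3 := key ⟨!![1, 0; 1, 1], by simp [Matrix.det_fin_two]⟩
  have hdet := g.det_coe
  obtain ⟨a, b, c, d, hg⟩ : ∃ a b c d : F, (g : Matrix (Fin 2) (Fin 2) F) = !![a, b; c, d] :=
    ⟨_, _, _, _, Matrix.eta_fin_two _⟩
  rw [hg] at h1 h3 hdet
  rw [Matrix.det_fin_two_of] at hdet
  simp only [Matrix.mul_fin_two] at h1 h3
  have e1 := congrFun (congrFun h1 0) 0
  have e3' := congrFun (congrFun h1 0) 1
  have f3 := congrFun (congrFun h3 0) 0
  simp at e1 e3' f3
  have had : d = a := by linear_combination -e3'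
  rw [Matrix.SpecialLinearGroup.mem_center_iff]
  refine ⟨a, ?_, ?_⟩
  · rw [Fintype.card_fin]
    rw [f3, e1, had] at hdet
    linear_combination hdet
  · rw [Matrix.scalar_apply, hg, f3, e1, had]
    ext i j
    fin_cases i <;> fin_cases j <;> simp

section finite
variable [Fintype F]

theorem card_I4 : Fintype.card I4 = 4 := by
  simp only [Fintype.card_sum, Fintype.card_fin]

theorem hex_of_three (hq : 3 ≤ Fintype.card F) : ∃ a : F, a ≠ 0 ∧ a ≠ 1 := by
  classical
  by_contra hcon
  push Not at hcon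
  have hsub : (Finset.univ : Finset F) ⊆ {0, 1} := by
    intro μ _
    simp only [Finset.mem_insert, Finset.mem_singleton]
    by_cases h0 : μ = 0
    · left; exact h0
    · right; exact hcon μ h0
  have := Finset.card_le_card hsub
  rw [Finset.card_univ] at this
  have h3 : ({0, 1} : Finset F).card ≤ 2 := Finset.card_le_two
  omega

theorem sigma_mem_commutator (hq : 3 ≤ Fintype.card F)
    (p : Matrix.SpecialLinearGroup (Fin 2) F × Matrix.SpecialLinearGroup (Fin 2) F) :
    sigma p ∈ commutator ↥(isometryGroup F ⇑(plusForm 2 F)) := by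
  have hQ := Cfsg.Agent.Lib.Helper5.PlusGeom.plus_nondegenerate (F := F) (m := 2)
  have hn : 2 ≤ Fintype.card I4 := by rw [card_I4]; omega
  have hp : p = (p.1, 1) * (1, p.2) := by
    ext <;> simp
  rw [hp, map_mul]
  by_cases h2 : (2 : F) ≠ 0
  · -- odd characteristic: spinor norm
    rw [← ker_theta (plusForm 2 F) h2 hQ hn, MonoidHom.mem_ker, map_mul]
    have hsq : ∀ x : ℤˣ × ℤˣ, x * x = 1 := by
      rintro ⟨x1, x2⟩
      rcases Int.units_eq_one_or x1 with rfl | rfl <;>
        rcases Int.units_eq_one_or x2 with rfl | rfl <;> rfl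
    have htv : ∀ (i j : Fin 2) (hij : i ≠ j) (c : F),
        Matrix.SpecialLinearGroup.transvection hij c =
          Matrix.SpecialLinearGroup.transvection hij (c / 2) *
            Matrix.SpecialLinearGroup.transvection hij (c / 2) := by
      intro i j hij c
      apply Subtype.ext
      show Matrix.transvection i j c =
        Matrix.transvection i j (c / 2) * Matrix.transvection i j (c / 2)
      rw [Matrix.transvection_mul_transvection_same i j hij]
      congr 1
      field_simp
      ring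
    have h1 : theta (plusForm 2 F) h2 hQ (sigma (p.1, 1)) = 1 := by
      refine Cfsg.Agent.Lib.Helper4.transvection_induction_gen
        (fun g => theta (plusForm 2 F) h2 hQ (sigma (g, 1)) = 1) ?_ ?_ p.1
      · intro i j hij c
        have : ((Matrix.SpecialLinearGroup.transvection hij c, 1) :
            Matrix.SpecialLinearGroup (Fin 2) F × Matrix.SpecialLinearGroup (Fin 2) F) =
            (Matrix.SpecialLinearGroup.transvection hij (c / 2), 1) *
              (Matrix.SpecialLinearGroup.transvection hij (c / 2), 1) := by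
          rw [Prod.mk_mul_mk, ← htv, one_mul]
        rw [this, map_mul, map_mul]
        exact hsq _
      · intro A B hA hB
        have : ((A * B, 1) :
            Matrix.SpecialLinearGroup (Fin 2) F × Matrix.SpecialLinearGroup (Fin 2) F) =
            (A, 1) * (B, 1) := by
          rw [Prod.mk_mul_mk, one_mul]
        rw [this, map_mul, map_mul, hA, hB, one_mul]
    have h3 : theta (plusForm 2 F) h2 hQ (sigma (1, p.2)) = 1 := by
      refine Cfsg.Agent.Lib.Helper4.transvection_induction_gen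
        (fun g => theta (plusForm 2 F) h2 hQ (sigma (1, g)) = 1) ?_ ?_ p.2
      · intro i j hij c
        have : ((1, Matrix.SpecialLinearGroup.transvection hij c) :
            Matrix.SpecialLinearGroup (Fin 2) F × Matrix.SpecialLinearGroup (Fin 2) F) =
            (1, Matrix.SpecialLinearGroup.transvection hij (c / 2)) *
              (1, Matrix.SpecialLinearGroup.transvection hij (c / 2)) := by
          rw [Prod.mk_mul_mk, ← htv, one_mul]
        rw [this, map_mul, map_mul]
        exact hsq _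
      · intro A B hA hB
        have : ((1, A * B) :
            Matrix.SpecialLinearGroup (Fin 2) F × Matrix.SpecialLinearGroup (Fin 2) F) =
            (1, A) * (1, B) := by
          rw [Prod.mk_mul_mk, one_mul]
        rw [this, map_mul, map_mul, hA, hB, one_mul]
    rw [h1, h3, one_mul]
  · -- characteristic two: `SL_2` is perfect
    push Not at h2
    obtain ⟨t, ht0, ht1⟩ := hex_of_three hq
    have hperf : commutator (Matrix.SpecialLinearGroup (Fin 2) F) = ⊤ := by
      apply Cfsg.Agent.Lib.Helper5.SL2Perfect.commutator_eq_top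
      refine ⟨t, ht0, ?_⟩
      intro h
      apply ht1
      have : (t - 1) * (t - 1) = 0 := by linear_combination h - t * h2 + h2
      rcases mul_eq_zero.mp this with h' | h' <;> linear_combination h'
    have hmap : ∀ (f : Matrix.SpecialLinearGroup (Fin 2) F →* ↥(isometryGroup F ⇑(plusForm 2 F)))
        (g : Matrix.SpecialLinearGroup (Fin 2) F),
        f g ∈ commutator ↥(isometryGroup F ⇑(plusForm 2 F)) := by
      intro f g
      have hg : g ∈ commutator (Matrix.SpecialLinearGroup (Fin 2) F) := by rw [hperf]; trivial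
      rw [commutator_def] at hg ⊢
      have := Subgroup.mem_map_of_mem f hg
      rw [Subgroup.map_commutator] at this
      exact Subgroup.commutator_mono le_top le_top this
    exact Subgroup.mul_mem _
      (hmap (sigma.comp (MonoidHom.inl _ _)) p.1) (hmap (sigma.comp (MonoidHom.inr _ _)) p.2)

theorem card_O4 :
    Nat.card ↥(isometryGroup F ⇑(plusForm 2 F)) =
      2 * (Fintype.card F ^ 2 * (Fintype.card F ^ 2 - 1) * (Fintype.card F ^ 2 - 1)) := by
  have := Cfsg.Agent.S0287.result (F := F) rfl 2 (by norm_num)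
  rw [coe_plusForm, this]
  simp
  ring

theorem two_eq_zero_iff_even : (2 : F) = 0 ↔ Even (Fintype.card F) := by
  constructor
  · intro h2
    have : CharP F 2 := CharTwo.of_one_ne_zero_of_two_eq_zero one_ne_zero h2
    have h := FiniteField.even_card_of_char_two (ringChar.eq F 2)
    exact Nat.even_iff.mpr h
  · intro he
    by_contra h2
    have := Cfsg.Agent.Lib.Helper5.SL2Orth.odd_card (F := F) h2
    exact (Nat.not_even_iff_odd.mpr this) he

theorem gcd_two (n : ℕ) (hn : 1 ≤ n) : Nat.gcd 2 (n - 1) = if Even n then 1 else 2 := by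
  split_ifs with h
  · obtain ⟨k, hk⟩ := h
    have : n - 1 = 2 * (k - 1) + 1 := by omega
    rw [this]
    simp
  · rw [Nat.not_even_iff_odd] at h
    obtain ⟨k, hk⟩ := h
    have : n - 1 = 2 * k := by omega
    rw [this]
    exact Nat.gcd_eq_left (dvd_mul_right 2 k)

theorem index_commutator_O4 (hq : 3 ≤ Fintype.card F) :
    (commutator ↥(isometryGroup F ⇑(plusForm 2 F))).index =
      2 * Nat.gcd 2 (Fintype.card F - 1) := by
  have hQ := Cfsg.Agent.Lib.Helper5.PlusGeom.plus_nondegenerate (F := F) (m := 2)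
  have hn : 2 ≤ Fintype.card I4 := by rw [card_I4]; omega
  have : Nonempty I4 := ⟨Sum.inl 0⟩
  rw [Cfsg.Agent.S0787.index_comm_eq (plusForm 2 F) hQ (fun _ => hex_of_three hq) hn,
    gcd_two _ (by omega)]
  split_ifs with he
  · rw [Cfsg.Agent.S0787.index_SO_even (plusForm 2 F) (two_eq_zero_iff_even.mpr he) hQ
      (fun _ => hex_of_three hq)]
  · rw [Cfsg.Agent.S0787.index_SO_odd (plusForm 2 F) (fun h => he (two_eq_zero_iff_even.mp h)) hQ
      (fun _ => hex_of_three hq)]

theorem card_ker_sigma :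
    Nat.card ↥(sigma (F := F)).ker = Nat.gcd 2 (Fintype.card F - 1) := by
  rw [ker_sigma, ← Cfsg.Agent.Lib.Helper4.card_center_SL 2 (by norm_num)]
  have hinj : Function.Injective (MonoidHom.prod (MonoidHom.id (Matrix.SpecialLinearGroup (Fin 2) F))
      (MonoidHom.id (Matrix.SpecialLinearGroup (Fin 2) F))) := by
    intro a b hab
    exact congrArg Prod.fst hab
  exact Nat.card_congr
    ((Subgroup.center (Matrix.SpecialLinearGroup (Fin 2) F)).equivMapOfInjective _ hinj).symm.toEquiv

theorem range_sigma (hq : 3 ≤ Fintype.card F) :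
    (sigma (F := F)).range = commutator ↥(isometryGroup F ⇑(plusForm 2 F)) := by
  have : Finite ↥(isometryGroup F ⇑(plusForm 2 F)) := inferInstance
  apply Subgroup.eq_of_le_of_card_ge
  · rintro _ ⟨p, rfl⟩
    exact sigma_mem_commutator hq p
  · have h1 := Subgroup.card_mul_index (sigma (F := F)).ker
    rw [Subgroup.index_ker, card_ker_sigma, Nat.card_prod, Cfsg.Agent.Lib.Helper4.card_SL2] at h1
    have h3 := Subgroup.card_mul_index (commutator ↥(isometryGroup F ⇑(plusForm 2 F)))
    rw [index_commutator_O4 hq, card_O4] at h3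
    have hg : 0 < Nat.gcd 2 (Fintype.card F - 1) := Nat.gcd_pos_of_pos_left _ (by norm_num)
    have h5 : Nat.gcd 2 (Fintype.card F - 1) *
        Nat.card ↥(commutator ↥(isometryGroup F ⇑(plusForm 2 F))) =
        Nat.gcd 2 (Fintype.card F - 1) * Nat.card ↥(sigma (F := F)).range := by
      rw [h1]
      have : 2 * (Nat.gcd 2 (Fintype.card F - 1) *
          Nat.card ↥(commutator ↥(isometryGroup F ⇑(plusForm 2 F)))) =
          2 * (Fintype.card F * (Fintype.card F ^ 2 - 1) *
            (Fintype.card F * (Fintype.card F ^ 2 - 1))) := by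
        calc 2 * (Nat.gcd 2 (Fintype.card F - 1) *
              Nat.card ↥(commutator ↥(isometryGroup F ⇑(plusForm 2 F))))
            = Nat.card ↥(commutator ↥(isometryGroup F ⇑(plusForm 2 F))) *
                (2 * Nat.gcd 2 (Fintype.card F - 1)) := by ring
          _ = 2 * (Fintype.card F ^ 2 * (Fintype.card F ^ 2 - 1) * (Fintype.card F ^ 2 - 1)) := h3
          _ = _ := by ring
      have := Nat.eq_of_mul_eq_mul_left (by norm_num : 0 < 2) this
      rw [this]
    exact le_of_eq (Nat.eq_of_mul_eq_mul_left hg h5)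

/-- `sigma` with codomain the commutator subgroup -/
noncomputable def sigmaOmega (hq : 3 ≤ Fintype.card F) :
    Matrix.SpecialLinearGroup (Fin 2) F × Matrix.SpecialLinearGroup (Fin 2) F →*
      ↥(commutator ↥(isometryGroup F ⇑(plusForm 2 F))) :=
  sigma.codRestrict _ (sigma_mem_commutator hq)

theorem sigmaOmega_surjective (hq : 3 ≤ Fintype.card F) :
    Function.Surjective (sigmaOmega (F := F) hq) := by
  rintro ⟨x, hx⟩
  rw [← range_sigma hq] at hx
  obtain ⟨p, hp⟩ := hx
  exact ⟨p, Subtype.ext hp⟩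

theorem sigmaOmega_eq_one_iff (hq : 3 ≤ Fintype.card F)
    (p : Matrix.SpecialLinearGroup (Fin 2) F × Matrix.SpecialLinearGroup (Fin 2) F) :
    sigmaOmega hq p = 1 ↔ p ∈ (sigma (F := F)).ker := by
  rw [MonoidHom.mem_ker]
  constructor
  · intro h
    exact congrArg Subtype.val h
  · intro h
    exact Subtype.ext h

/-- the composite onto `PΩ` -/
noncomputable def psi (hq : 3 ≤ Fintype.card F) :
    Matrix.SpecialLinearGroup (Fin 2) F × Matrix.SpecialLinearGroup (Fin 2) F →*
      Cfsg.POmega F ⇑(plusForm 2 F) :=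
  (QuotientGroup.mk' (Subgroup.center ↥(commutator ↥(isometryGroup F ⇑(plusForm 2 F))))).comp
    (sigmaOmega hq)

theorem psi_surjective (hq : 3 ≤ Fintype.card F) : Function.Surjective (psi (F := F) hq) :=
  (QuotientGroup.mk'_surjective _).comp (sigmaOmega_surjective hq)

theorem ker_psi (hq : 3 ≤ Fintype.card F) :
    (psi (F := F) hq).ker = (Subgroup.center (Matrix.SpecialLinearGroup (Fin 2) F)).prod
      (Subgroup.center (Matrix.SpecialLinearGroup (Fin 2) F)) := by
  ext ⟨g, h⟩
  rw [MonoidHom.mem_ker, Subgroup.mem_prod]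
  unfold psi
  rw [MonoidHom.comp_apply, QuotientGroup.mk'_apply, QuotientGroup.eq_one_iff]
  constructor
  · intro hc
    have hcomm : ∀ p : Matrix.SpecialLinearGroup (Fin 2) F × Matrix.SpecialLinearGroup (Fin 2) F,
        (g, h) * p * (g, h)⁻¹ * p⁻¹ ∈ (sigma (F := F)).ker := by
      intro p
      rw [← sigmaOmega_eq_one_iff hq, map_mul, map_mul, map_mul, map_inv, map_inv]
      have := Subgroup.mem_center_iff.mp hc (sigmaOmega hq p)
      rw [← this, mul_inv_cancel_right, mul_inv_cancel]
    constructor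
    · apply mem_center_of_comm_mod'
      intro k
      have := hcomm (k, 1)
      rw [ker_sigma] at this
      obtain ⟨z, hz, hzz⟩ := this
      have h1 := congrArg Prod.fst hzz
      simp only [MonoidHom.prod_apply, MonoidHom.id_apply, Prod.fst_mul, Prod.fst_inv] at h1
      rw [← h1]; exact hz
    · apply mem_center_of_comm_mod'
      intro k
      have := hcomm (1, k)
      rw [ker_sigma] at this
      obtain ⟨z, hz, hzz⟩ := this
      have h1 := congrArg Prod.snd hzz
      simp only [MonoidHom.prod_apply, MonoidHom.id_apply, Prod.snd_mul, Prod.snd_inv] at h1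
      rw [← h1]; exact hz
  · rintro ⟨hg, hh⟩
    rw [Subgroup.mem_center_iff]
    intro ω
    obtain ⟨p, rfl⟩ := sigmaOmega_surjective hq ω
    rw [← map_mul, ← map_mul]
    congr 1
    apply Prod.ext
    · exact Subgroup.mem_center_iff.mp hg p.1
    · exact Subgroup.mem_center_iff.mp hh p.2

/-- `PΩ_4^+(q) ≅ PSL_2(q) × PSL_2(q)` for `q ≥ 3` -/
theorem nonempty_mulEquiv (hq : 3 ≤ Fintype.card F) :
    Nonempty (Cfsg.POmega F ⇑(plusForm 2 F) ≃*
      Matrix.ProjectiveSpecialLinearGroup (Fin 2) F ×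
        Matrix.ProjectiveSpecialLinearGroup (Fin 2) F) := by
  have e1 := QuotientGroup.quotientKerEquivOfSurjective (psi (F := F) hq) (psi_surjective hq)
  let μ : Matrix.SpecialLinearGroup (Fin 2) F × Matrix.SpecialLinearGroup (Fin 2) F →*
      Matrix.ProjectiveSpecialLinearGroup (Fin 2) F ×
        Matrix.ProjectiveSpecialLinearGroup (Fin 2) F :=
    MonoidHom.prodMap (QuotientGroup.mk' (Subgroup.center (Matrix.SpecialLinearGroup (Fin 2) F)))
      (QuotientGroup.mk' (Subgroup.center (Matrix.SpecialLinearGroup (Fin 2) F)))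
  have hμ : Function.Surjective μ := by
    rintro ⟨a, b⟩
    obtain ⟨a', rfl⟩ := QuotientGroup.mk'_surjective _ a
    obtain ⟨b', rfl⟩ := QuotientGroup.mk'_surjective _ b
    exact ⟨(a', b'), rfl⟩
  have hker : μ.ker = (psi (F := F) hq).ker := by
    rw [ker_psi]
    ext ⟨g, h⟩
    rw [MonoidHom.mem_ker, Subgroup.mem_prod]
    show (((QuotientGroup.mk' _) g, (QuotientGroup.mk' _) h) : _ × _) = 1 ↔ _
    rw [Prod.mk_eq_one, QuotientGroup.mk'_apply, QuotientGroup.mk'_apply,
      QuotientGroup.eq_one_iff, QuotientGroup.eq_one_iff]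
  have e2 := QuotientGroup.quotientKerEquivOfSurjective μ hμ
  exact ⟨e1.symm.trans ((QuotientGroup.quotientMulEquivOfEq hker.symm).trans e2)⟩

end finite

end Cfsg.Agent.Lib.Helper5.SL2SL2Orth
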