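import Mathlib
import Cfsg.Prelude.Def_ClassicalGeometry
import Cfsg.Agent.Lib.Helper5.QuadStd
import Cfsg.Agent.Lib.Helper5.PlusGeom
import Cfsg.Agent.Lib.Helper5.OrthCard

set_option autoImplicit false
open Cfsg

namespace Cfsg.Agent.Lib.Helper5.SL4Orth

open Matrix QuadraticMap Cfsg.Agent.Lib.Helper5.OrthCard

variable {F : Type*} [Field F]

/-- the index type of the six-dimensional hyperbolic form -/
abbrev I6 : Type := Fin 3 ⊕ Fin 3

/-- coordinates `(x0, x1, x2, y0, y1, y2)` -/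
def e6 : I6 ≃ Fin 6 where
  toFun := fun i => match i with
    | .inl 0 => 0
    | .inl 1 => 1
    | .inl 2 => 2
    | .inr 0 => 3
    | .inr 1 => 4
    | .inr 2 => 5
  invFun := fun i => match i with
    | 0 => .inl 0
    | 1 => .inl 1
    | 2 => .inl 2
    | 3 => .inr 0
    | 4 => .inr 1
    | 5 => .inr 2
  left_inv := by
    rintro (i | i) <;> fin_cases i <;> rfl
  right_inv := by
    intro i
    fin_cases i <;> rfl

/-- the oriented pairs `12, 13, 14, 34, 42, 23` -/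
def P1 : Fin 6 → Fin 4 := ![0, 0, 0, 2, 3, 1]
def P2 : Fin 6 → Fin 4 := ![1, 2, 3, 3, 1, 2]

/-- the matrix of the exterior square in the basis of oriented pairs -/
def L6 (g : Matrix (Fin 4) (Fin 4) F) : Matrix (Fin 6) (Fin 6) F :=
  Matrix.of fun i j => g (P1 i) (P1 j) * g (P2 i) (P2 j) - g (P1 i) (P2 j) * g (P2 i) (P1 j)

set_option maxHeartbeats 1000000 in
theorem L6_mul (g h : Matrix (Fin 4) (Fin 4) F) : L6 (g * h) = L6 g * L6 h := by
  ext i j
  fin_cases i <;> fin_cases j <;>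
    simp [L6, P1, P2, Matrix.mul_apply, Fin.sum_univ_four, Fin.sum_univ_six] <;> ring

theorem L6_one : L6 (1 : Matrix (Fin 4) (Fin 4) F) = 1 := by
  ext i j
  fin_cases i <;> fin_cases j <;> simp [L6, P1, P2, Matrix.one_apply]

theorem det4 (g : Matrix (Fin 4) (Fin 4) F) :
    g.det = g 0 0 * (g 1 1 * (g 2 2 * g 3 3 - g 2 3 * g 3 2) - g 1 2 * (g 2 1 * g 3 3 - g 2 3 * g 3 1) +
        g 1 3 * (g 2 1 * g 3 2 - g 2 2 * g 3 1)) -
      g 0 1 * (g 1 0 * (g 2 2 * g 3 3 - g 2 3 * g 3 2) - g 1 2 * (g 2 0 * g 3 3 - g 2 3 * g 3 0) +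
        g 1 3 * (g 2 0 * g 3 2 - g 2 2 * g 3 0)) +
      g 0 2 * (g 1 0 * (g 2 1 * g 3 3 - g 2 3 * g 3 1) - g 1 1 * (g 2 0 * g 3 3 - g 2 3 * g 3 0) +
        g 1 3 * (g 2 0 * g 3 1 - g 2 1 * g 3 0)) -
      g 0 3 * (g 1 0 * (g 2 1 * g 3 2 - g 2 2 * g 3 1) - g 1 1 * (g 2 0 * g 3 2 - g 2 2 * g 3 0) +
        g 1 2 * (g 2 0 * g 3 1 - g 2 1 * g 3 0)) := by
  rw [Matrix.det_succ_row_zero, Fin.sum_univ_four]
  simp only [Matrix.det_fin_three, Matrix.submatrix_apply, Fin.succAbove]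
  simp [Fin.lt_def]
  ring

set_option maxHeartbeats 2000000 in
theorem L6_quad (g : Matrix (Fin 4) (Fin 4) F) (w : Fin 6 → F) :
    (L6 g *ᵥ w) 0 * (L6 g *ᵥ w) 3 + (L6 g *ᵥ w) 1 * (L6 g *ᵥ w) 4 +
      (L6 g *ᵥ w) 2 * (L6 g *ᵥ w) 5 = g.det * (w 0 * w 3 + w 1 * w 4 + w 2 * w 5) := by
  rw [det4]
  simp [L6, P1, P2, Matrix.mulVec, dotProduct, Fin.sum_univ_six]
  ring

/-- the exterior square as a matrix over `I6` -/
def Rmat6 (g : Matrix (Fin 4) (Fin 4) F) : Matrix I6 I6 F :=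
  (L6 g).submatrix e6 e6

theorem Rmat6_mul (g h : Matrix (Fin 4) (Fin 4) F) : Rmat6 (g * h) = Rmat6 g * Rmat6 h := by
  unfold Rmat6
  rw [Matrix.submatrix_mul_equiv, L6_mul]

theorem Rmat6_one : Rmat6 (1 : Matrix (Fin 4) (Fin 4) F) = 1 := by
  unfold Rmat6
  rw [L6_one, submatrix_one_equiv]

/-- `Rmat6` as a monoid homomorphism -/
def RHom6 : Matrix (Fin 4) (Fin 4) F →* Matrix I6 I6 F where
  toFun := Rmat6
  map_one' := Rmat6_one
  map_mul' := Rmat6_mul

theorem plus_eq (v : I6 → F) :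
    plusForm 3 F v = (v ∘ e6.symm) 0 * (v ∘ e6.symm) 3 + (v ∘ e6.symm) 1 * (v ∘ e6.symm) 4 +
      (v ∘ e6.symm) 2 * (v ∘ e6.symm) 5 := by
  rw [plusForm_apply]
  simp [Cfsg.quadFormPlus, e6, Fin.sum_univ_three]

theorem Rmat6_mulVec (g : Matrix (Fin 4) (Fin 4) F) (v : I6 → F) :
    (Rmat6 g *ᵥ v) ∘ e6.symm = L6 g *ᵥ (v ∘ e6.symm) := by
  unfold Rmat6
  rw [Matrix.submatrix_mulVec_equiv]
  ext i
  simp

theorem quad_Rmat6 (g : Matrix (Fin 4) (Fin 4) F) (hg : g.det = 1) (v : I6 → F) :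
    plusForm 3 F (Rmat6 g *ᵥ v) = plusForm 3 F v := by
  rw [plus_eq, plus_eq, Rmat6_mulVec, L6_quad, hg, one_mul]

/-- the homomorphism `SL_4(F) → O_6^+(F)` -/
noncomputable def sigma6 : Matrix.SpecialLinearGroup (Fin 4) F →*
    ↥(isometryGroup F ⇑(plusForm 3 F)) :=
  ((Units.map (RHom6 (F := F))).comp Matrix.SpecialLinearGroup.toGL).codRestrict
    (isometryGroup F ⇑(plusForm 3 F)) (by
    intro g
    rw [mem_isometryGroup_iff]
    intro v
    exact quad_Rmat6 _ g.det_coe v)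

theorem sigma6_coe (g : Matrix.SpecialLinearGroup (Fin 4) F) :
    (((sigma6 g : ↥(isometryGroup F ⇑(plusForm 3 F))) : Matrix.GeneralLinearGroup I6 F) :
      Matrix I6 I6 F) = Rmat6 (g : Matrix (Fin 4) (Fin 4) F) :=
  rfl

set_option maxHeartbeats 1000000 in
theorem scalar_of_L6_eq_one (g : Matrix (Fin 4) (Fin 4) F) (hL : L6 g = 1) :
    g = g 0 0 • (1 : Matrix (Fin 4) (Fin 4) F) ∧ g 0 0 ^ 2 = 1 := by
  have H : ∀ i j : Fin 6, g (P1 i) (P1 j) * g (P2 i) (P2 j) - g (P1 i) (P2 j) * g (P2 i) (P1 j) =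
      (1 : Matrix (Fin 6) (Fin 6) F) i j := fun i j => congrFun (congrFun hL i) j
  have h00 := H 0 0
  have h01 := H 0 1
  have h02 := H 0 2
  have h04 := H 0 4
  have h05 := H 0 5
  have h10 := H 1 0
  have h11 := H 1 1
  have h12 := H 1 2
  have h15 := H 1 5
  have h20 := H 2 0
  have h21 := H 2 1
  have h22 := H 2 2
  have h24 := H 2 4
  have h31 := H 3 1
  have h32 := H 3 2
  have h40 := H 4 0
  have h42 := H 4 2
  have h44 := H 4 4
  have h50 := H 5 0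
  have h51 := H 5 1
  have h55 := H 5 5
  simp only [P1, P2, Matrix.one_apply] at h00 h01 h02 h04 h05 h10 h11 h12 h15 h20 h21 h22 h24 h31 h32 h40 h42 h44 h50 h51 h55
  simp at h00 h01 h02 h04 h05 h10 h11 h12 h15 h20 h21 h22 h24 h31 h32 h40 h42 h44 h50 h51 h55
  have z01 : g 0 1 = 0 := by linear_combination (-(g 0 1)) * h55 + (g 1 1) * h15 + (-g 2 1) * h05
  have z02 : g 0 2 = 0 := by linear_combination (-(g 0 2)) * h55 + (-g 2 2) * h05 + (g 1 2) * h15
  have z03 : g 0 3 = 0 := by linear_combination (-(g 0 3)) * h44 + (g 3 3) * h04 + (-g 1 3) * h24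
  have z10 : g 1 0 = 0 := by linear_combination (-(g 1 0)) * h11 + (g 0 0) * h51 + (g 2 0) * h01
  have z12 : g 1 2 = 0 := by linear_combination (-(g 1 2)) * h11 + (g 2 2) * h01 + (g 0 2) * h51
  have z13 : g 1 3 = 0 := by linear_combination (-(g 1 3)) * h22 + (g 3 3) * h02 + (-g 0 3) * h42
  have z20 : g 2 0 = 0 := by linear_combination (-(g 2 0)) * h00 + (-g 0 0) * h50 + (g 1 0) * h10
  have z21 : g 2 1 = 0 := by linear_combination (-(g 2 1)) * h00 + (g 1 1) * h10 + (-g 0 1) * h50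
  have z23 : g 2 3 = 0 := by linear_combination (-(g 2 3)) * h22 + (g 3 3) * h12 + (g 0 3) * h32
  have z30 : g 3 0 = 0 := by linear_combination (-(g 3 0)) * h00 + (g 0 0) * h40 + (g 1 0) * h20
  have z31 : g 3 1 = 0 := by linear_combination (-(g 3 1)) * h00 + (g 1 1) * h20 + (g 0 1) * h40
  have z32 : g 3 2 = 0 := by linear_combination (-(g 3 2)) * h11 + (g 2 2) * h21 + (-g 0 2) * h31
  rw [z01, z10] at h00
  rw [z02, z20] at h11
  rw [z03, z30] at h22
  rw [z12, z21] at h55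
  simp only [mul_zero, sub_zero] at h00 h11 h22 h55
  have ha : g 0 0 ≠ 0 := fun h0 => by rw [h0] at h00; simp at h00
  have e12 : g 1 1 = g 2 2 := by
    have : g 0 0 * (g 1 1 - g 2 2) = 0 := by linear_combination h00 - h11
    rcases mul_eq_zero.mp this with h' | h'
    · exact absurd h' ha
    · linear_combination h'
  have e13 : g 1 1 = g 3 3 := by
    have : g 0 0 * (g 1 1 - g 3 3) = 0 := by linear_combination h00 - h22
    rcases mul_eq_zero.mp this with h' | h'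
    · exact absurd h' ha
    · linear_combination h'
  have e01 : g 0 0 = g 1 1 := by
    rw [← e12] at h55
    linear_combination (-(g 0 0)) * h55 + (g 1 1) * h00
  refine ⟨?_, ?_⟩
  · ext i j
    fin_cases i <;> fin_cases j <;>
      simp [z01, z02, z03, z10, z12, z13, z20, z21, z23, z30, z31, z32, ← e12, ← e13, ← e01]
  · rw [← e01] at h00
    linear_combination h00

theorem L6_smul_one (a : F) : L6 (a • (1 : Matrix (Fin 4) (Fin 4) F)) = (a ^ 2) • 1 := by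
  ext i j
  fin_cases i <;> fin_cases j <;> simp [L6, P1, P2, Matrix.one_apply, _root_.sq]

theorem L6_of_Rmat6_eq_one (g : Matrix (Fin 4) (Fin 4) F) (h : Rmat6 g = 1) : L6 g = 1 := by
  unfold Rmat6 at h
  have h1 := congrArg (fun A => A.submatrix e6.symm e6.symm) h
  simpa only [Matrix.submatrix_submatrix, Equiv.self_comp_symm, Matrix.submatrix_id_id,
    submatrix_one_equiv] using h1

theorem sigma6_eq_one_iff (g : Matrix.SpecialLinearGroup (Fin 4) F) :
    sigma6 g = 1 ↔ ∃ a : F, a ^ 2 = 1 ∧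
      (g : Matrix (Fin 4) (Fin 4) F) = a • (1 : Matrix (Fin 4) (Fin 4) F) := by
  constructor
  · intro h
    have h1 : Rmat6 (g : Matrix (Fin 4) (Fin 4) F) = 1 := by
      rw [← sigma6_coe, h]; rfl
    obtain ⟨h3, h4⟩ := scalar_of_L6_eq_one _ (L6_of_Rmat6_eq_one _ h1)
    exact ⟨_, h4, h3⟩
  · rintro ⟨a, ha, hg⟩
    apply Subtype.ext
    apply Units.ext
    rw [sigma6_coe, hg]
    unfold Rmat6
    rw [L6_smul_one, ha, one_smul, submatrix_one_equiv]
    rfl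

theorem ker_sigma6_le_center :
    (sigma6 (F := F)).ker ≤ Subgroup.center (Matrix.SpecialLinearGroup (Fin 4) F) := by
  intro g hg
  rw [MonoidHom.mem_ker, sigma6_eq_one_iff] at hg
  obtain ⟨a, ha, hg⟩ := hg
  rw [Matrix.SpecialLinearGroup.mem_center_iff]
  refine ⟨a, ?_, ?_⟩
  · rw [Fintype.card_fin]
    have : a ^ 4 = (a ^ 2) ^ 2 := by ring
    rw [this, ha, one_pow]
  · rw [Matrix.scalar_apply, ← Matrix.smul_one_eq_diagonal]
    exact hg.symm

end Cfsg.Agent.Lib.Helper5.SL4Orth
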