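import Mathlib
import Cfsg.Prelude.Def_ClassicalGeometry
import Cfsg.Agent.Lib.Helper5.SL4Orth
import Cfsg.Agent.Lib.Helper5.SL2SL2Orth
import Cfsg.Agent.Lib.Helper5.PerfectCentral
import Cfsg.Agent.Lib.Helper4.SLnGen
import Cfsg.Agent.Lib.Helper4.SLCard
import Cfsg.Agent.S0287
import Cfsg.Agent.S0787

set_option autoImplicit false
open Cfsg

namespace Cfsg.Agent.Lib.Helper5.SL4Orth

open Matrix QuadraticMap Cfsg.Agent.Lib.Helper5.OrthCard Cfsg.Agent.Lib.Helper5.SL2SL2Orth

variable {F : Type*} [Field F] [Fintype F]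

theorem card_sq_eq_one :
    Nat.card {a : F // a ^ 2 = 1} = Nat.gcd 2 (Fintype.card F - 1) := by
  rw [gcd_two _ (Fintype.card_pos)]
  have hset : {a : F | a ^ 2 = 1} = {1, -1} := by
    ext a
    simp only [Set.mem_ofPred_eq, Set.mem_insert_iff, Set.mem_singleton_iff]
    constructor
    · intro h
      have : (a - 1) * (a + 1) = 0 := by linear_combination h
      rcases mul_eq_zero.mp this with h' | h'
      · left; linear_combination h'
      · right; linear_combination h'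
    · rintro (rfl | rfl) <;> ring
  have hc : Nat.card {a : F // a ^ 2 = 1} = ({1, -1} : Set F).ncard := by
    rw [← hset]
    exact Nat.card_coe_set_eq _
  rw [hc]
  split_ifs with he
  · have h2 : (2 : F) = 0 := two_eq_zero_iff_even.mpr he
    have : (-1 : F) = 1 := by linear_combination (-1 : F) * h2
    rw [this]
    simp
  · have h2 : (2 : F) ≠ 0 := fun h => he (two_eq_zero_iff_even.mp h)
    apply Set.ncard_pair
    intro h
    apply h2
    linear_combination h

theorem card_ker_sigma6 :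
    Nat.card ↥(sigma6 (F := F)).ker = Nat.gcd 2 (Fintype.card F - 1) := by
  rw [← card_sq_eq_one]
  have hspec : ∀ g : ↥(sigma6 (F := F)).ker, ∃ a : F, a ^ 2 = 1 ∧
      ((g : Matrix.SpecialLinearGroup (Fin 4) F) : Matrix (Fin 4) (Fin 4) F) =
        a • (1 : Matrix (Fin 4) (Fin 4) F) := fun g =>
    (sigma6_eq_one_iff g.1).mp (MonoidHom.mem_ker.mp g.2)
  have h00 : ∀ g : ↥(sigma6 (F := F)).ker,
      ((g : Matrix.SpecialLinearGroup (Fin 4) F) : Matrix (Fin 4) (Fin 4) F) 0 0 ^ 2 = 1 := by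
    intro g
    obtain ⟨a, ha, hg⟩ := hspec g
    rw [hg]
    simpa using ha
  refine Nat.card_congr (Equiv.ofBijective
    (fun g => ⟨((g : Matrix.SpecialLinearGroup (Fin 4) F) : Matrix (Fin 4) (Fin 4) F) 0 0, h00 g⟩)
    ⟨?_, ?_⟩)
  · intro g g' hgg
    have h1 : ((g : Matrix.SpecialLinearGroup (Fin 4) F) : Matrix (Fin 4) (Fin 4) F) 0 0 =
        ((g' : Matrix.SpecialLinearGroup (Fin 4) F) : Matrix (Fin 4) (Fin 4) F) 0 0 :=
      congrArg Subtype.val hgg
    obtain ⟨a, -, hg⟩ := hspec g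
    obtain ⟨a', -, hg'⟩ := hspec g'
    rw [hg, hg'] at h1
    simp at h1
    apply Subtype.ext
    apply Subtype.ext
    rw [hg, hg', h1]
  · rintro ⟨a, ha⟩
    have hdet : (a • (1 : Matrix (Fin 4) (Fin 4) F)).det = 1 := by
      rw [det_smul, det_one, Fintype.card_fin, mul_one]
      have : a ^ 4 = (a ^ 2) ^ 2 := by ring
      rw [this, ha, one_pow]
    obtain ⟨gs, hgs⟩ : ∃ gs : Matrix.SpecialLinearGroup (Fin 4) F,
        (gs : Matrix (Fin 4) (Fin 4) F) = a • 1 := ⟨⟨a • 1, hdet⟩, rfl⟩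
    refine ⟨⟨gs, ?_⟩, ?_⟩
    · rw [MonoidHom.mem_ker, sigma6_eq_one_iff]
      exact ⟨a, ha, hgs⟩
    · apply Subtype.ext
      show (gs : Matrix (Fin 4) (Fin 4) F) 0 0 = a
      rw [hgs]
      simp

theorem card_SL4 :
    Nat.card (Matrix.SpecialLinearGroup (Fin 4) F) =
      Fintype.card F ^ 6 * ((Fintype.card F ^ 4 - 1) * (Fintype.card F ^ 3 - 1) *
        (Fintype.card F ^ 2 - 1)) := by
  have h := Cfsg.Agent.Lib.Helper4.card_SL_mul (F := F) 4 (by norm_num)
  rw [Matrix.card_GL_field, Fin.prod_univ_four] at h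
  obtain ⟨q, hq⟩ : ∃ q, q = Fintype.card F := ⟨_, rfl⟩
  rw [← hq] at h ⊢
  have hq1 : 1 < q := by rw [hq]; exact Fintype.one_lt_card
  have h1 : q ^ 4 - q ^ ((1 : Fin 4) : ℕ) = q * (q ^ 3 - 1) := by
    rw [Nat.mul_sub, mul_one]; simp; ring_nf
  have h2 : q ^ 4 - q ^ ((2 : Fin 4) : ℕ) = q ^ 2 * (q ^ 2 - 1) := by
    rw [Nat.mul_sub, mul_one]; simp; ring_nf
  have h3 : q ^ 4 - q ^ ((3 : Fin 4) : ℕ) = q ^ 3 * (q - 1) := by
    rw [Nat.mul_sub, mul_one]; simp; ring_nf
  have h0 : q ^ 4 - q ^ ((0 : Fin 4) : ℕ) = q ^ 4 - 1 := by simp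
  rw [h0, h1, h2, h3] at h
  have hpos : 0 < q - 1 := by omega
  apply Nat.eq_of_mul_eq_mul_right hpos
  rw [h]
  ring

theorem card_O6 :
    Nat.card ↥(isometryGroup F ⇑(plusForm 3 F)) =
      2 * (Fintype.card F ^ 6 * ((Fintype.card F ^ 4 - 1) * (Fintype.card F ^ 3 - 1) *
        (Fintype.card F ^ 2 - 1))) := by
  have := Cfsg.Agent.S0287.result (F := F) rfl 3 (by norm_num)
  rw [coe_plusForm, this]
  simp [Finset.prod_range_succ]
  ring

theorem card_I6 : Fintype.card I6 = 6 := by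
  simp only [Fintype.card_sum, Fintype.card_fin]

theorem index_commutator_O6 :
    (commutator ↥(isometryGroup F ⇑(plusForm 3 F))).index =
      2 * Nat.gcd 2 (Fintype.card F - 1) := by
  have hQ := Cfsg.Agent.Lib.Helper5.PlusGeom.plus_nondegenerate (F := F) (m := 3)
  have hn : 2 ≤ Fintype.card I6 := by rw [card_I6]; omega
  have hex : Fintype.card I6 = 4 → ∃ a : F, a ≠ 0 ∧ a ≠ 1 := by
    intro h; rw [card_I6] at h; omega
  have : Nonempty I6 := ⟨Sum.inl 0⟩
  rw [Cfsg.Agent.S0787.index_comm_eq (plusForm 3 F) hQ hex hn, gcd_two _ (Fintype.card_pos)]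
  split_ifs with he
  · rw [Cfsg.Agent.S0787.index_SO_even (plusForm 3 F) (two_eq_zero_iff_even.mpr he) hQ hex]
  · rw [Cfsg.Agent.S0787.index_SO_odd (plusForm 3 F) (fun h => he (two_eq_zero_iff_even.mp h)) hQ
      hex]

omit [Fintype F] in
theorem SL4_perfect : commutator (Matrix.SpecialLinearGroup (Fin 4) F) = ⊤ :=
  Cfsg.Agent.Lib.Helper4.SL_commutator_eq_top (by simp)

theorem sigma6_mem_commutator (g : Matrix.SpecialLinearGroup (Fin 4) F) :
    sigma6 g ∈ commutator ↥(isometryGroup F ⇑(plusForm 3 F)) := by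
  have hg : g ∈ commutator (Matrix.SpecialLinearGroup (Fin 4) F) := by rw [SL4_perfect]; trivial
  rw [commutator_def] at hg ⊢
  have := Subgroup.mem_map_of_mem (sigma6 (F := F)) hg
  rw [Subgroup.map_commutator] at this
  exact Subgroup.commutator_mono le_top le_top this

theorem range_sigma6 :
    (sigma6 (F := F)).range = commutator ↥(isometryGroup F ⇑(plusForm 3 F)) := by
  have : Finite ↥(isometryGroup F ⇑(plusForm 3 F)) := inferInstance
  apply Subgroup.eq_of_le_of_card_ge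
  · rintro _ ⟨p, rfl⟩
    exact sigma6_mem_commutator p
  · have h1 := Subgroup.card_mul_index (sigma6 (F := F)).ker
    rw [Subgroup.index_ker, card_ker_sigma6, card_SL4] at h1
    have h3 := Subgroup.card_mul_index (commutator ↥(isometryGroup F ⇑(plusForm 3 F)))
    rw [index_commutator_O6, card_O6] at h3
    have hg : 0 < Nat.gcd 2 (Fintype.card F - 1) := Nat.gcd_pos_of_pos_left _ (by norm_num)
    have h5 : Nat.gcd 2 (Fintype.card F - 1) *
        Nat.card ↥(commutator ↥(isometryGroup F ⇑(plusForm 3 F))) =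
        Nat.gcd 2 (Fintype.card F - 1) * Nat.card ↥(sigma6 (F := F)).range := by
      rw [h1]
      have : 2 * (Nat.gcd 2 (Fintype.card F - 1) *
          Nat.card ↥(commutator ↥(isometryGroup F ⇑(plusForm 3 F)))) =
          2 * (Fintype.card F ^ 6 * ((Fintype.card F ^ 4 - 1) * (Fintype.card F ^ 3 - 1) *
            (Fintype.card F ^ 2 - 1))) := by
        rw [← h3]; ring
      exact Nat.eq_of_mul_eq_mul_left (by norm_num : 0 < 2) this
    exact le_of_eq (Nat.eq_of_mul_eq_mul_left hg h5)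

/-- `PΩ_6^+(q) ≅ PSL_4(q)` -/
theorem nonempty_mulEquiv :
    Nonempty (Cfsg.POmega F ⇑(plusForm 3 F) ≃*
      Matrix.ProjectiveSpecialLinearGroup (Fin 4) F) := by
  let f : Matrix.SpecialLinearGroup (Fin 4) F →*
      ↥(commutator ↥(isometryGroup F ⇑(plusForm 3 F))) :=
    sigma6.codRestrict _ sigma6_mem_commutator
  have hf : Function.Surjective f := by
    rintro ⟨x, hx⟩
    rw [← range_sigma6] at hx
    obtain ⟨p, hp⟩ := hx
    exact ⟨p, Subtype.ext hp⟩
  have hker : f.ker ≤ Subgroup.center (Matrix.SpecialLinearGroup (Fin 4) F) := by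
    intro g hg
    apply ker_sigma6_le_center
    rw [MonoidHom.mem_ker] at hg ⊢
    exact congrArg Subtype.val hg
  exact Cfsg.Agent.Lib.Helper5.PerfectCentral.nonempty_quotient_center_equiv SL4_perfect f hf hker

end Cfsg.Agent.Lib.Helper5.SL4Orth
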