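import Mathlib
import Cfsg.Prelude

set_option autoImplicit false
open Cfsg

/-! Descent of a matrix action to a subquotient `(E(V) + N) / N`. -/

namespace Cfsg.Agent.Lib.Helper5.Descent2

open Matrix

variable {F K : Type*} [Field F] [Field K] (j : F →+* K)
  {ι : Type} [Fintype ι] [DecidableEq ι] {n : Type} [Fintype n] [DecidableEq n]
  (E : (ι → F) → (n → K)) (N : Submodule K (n → K))
  (E_add : ∀ u v, E (u + v) = E u + E v)
  (E_smul : ∀ (c : F) v, E (c • v) = j c • E v)
  (E_inj : ∀ v, E v ∈ N → v = 0)
  {H : Type*} [Group H] (φ : H →* Matrix n n K)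
  (hN : ∀ h, ∀ x ∈ N, φ h *ᵥ x ∈ N)
  (hstab : ∀ h v, ∃ v', φ h *ᵥ E v - E v' ∈ N)

include E_add in
omit [Fintype ι] [DecidableEq ι] [Fintype n] [DecidableEq n] in
theorem E_zero : E 0 = 0 := by
  have := E_add 0 0
  rw [add_zero] at this
  exact (add_eq_left.mp this.symm)

include E_add in
omit [Fintype ι] [DecidableEq ι] [Fintype n] [DecidableEq n] in
theorem E_sub (u v : ι → F) : E (u - v) = E u - E v := by
  have := E_add (u - v) v
  rw [sub_add_cancel] at this
  rw [this, add_sub_cancel_right]

include E_add E_inj in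
omit [Fintype ι] [DecidableEq ι] [Fintype n] [DecidableEq n] in
theorem uniq (x : n → K) (v v' : ι → F) (h1 : x - E v ∈ N) (h2 : x - E v' ∈ N) : v = v' := by
  have h3 : E (v - v') ∈ N := by
    rw [E_sub E E_add]
    have := N.sub_mem h2 h1
    have h4 : x - E v' - (x - E v) = E v - E v' := by abel
    rwa [h4] at this
  exact sub_eq_zero.mp (E_inj _ h3)

/-- the descended linear map -/
noncomputable def descLin (h : H) : (ι → F) →ₗ[F] (ι → F) where
  toFun v := Classical.choose (hstab h v)
  map_add' u v := by
    have h1 := Classical.choose_spec (hstab h (u + v))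
    have h2 := Classical.choose_spec (hstab h u)
    have h3 := Classical.choose_spec (hstab h v)
    refine uniq E N E_add E_inj (φ h *ᵥ E (u + v)) _ _ h1 ?_
    rw [E_add, E_add, Matrix.mulVec_add]
    have := N.add_mem h2 h3
    have h4 : φ h *ᵥ E u - E (Classical.choose (hstab h u)) +
        (φ h *ᵥ E v - E (Classical.choose (hstab h v))) =
        φ h *ᵥ E u + φ h *ᵥ E v -
          (E (Classical.choose (hstab h u)) + E (Classical.choose (hstab h v))) := by abel
    rwa [h4] at this
  map_smul' c v := by
    have h1 := Classical.choose_spec (hstab h (c • v))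
    have h3 := Classical.choose_spec (hstab h v)
    simp only [RingHom.id_apply]
    refine uniq E N E_add E_inj (φ h *ᵥ E (c • v)) _ _ h1 ?_
    rw [E_smul, E_smul, Matrix.mulVec_smul, ← smul_sub]
    exact N.smul_mem _ h3

omit [Fintype ι] [DecidableEq ι] in
theorem E_descLin (h : H) (v : ι → F) :
    φ h *ᵥ E v - E (descLin j E N E_add E_smul E_inj φ hstab h v) ∈ N :=
  Classical.choose_spec (hstab h v)

include hN in
/-- the descended matrix representation -/
noncomputable def descHom : H →* Matrix ι ι F where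
  toFun h := LinearMap.toMatrix' (descLin j E N E_add E_smul E_inj φ hstab h)
  map_one' := by
    rw [← LinearMap.toMatrix'_one]
    congr 1
    apply LinearMap.ext
    intro v
    have h1 := E_descLin j E N E_add E_smul E_inj φ hstab 1 v
    refine uniq E N E_add E_inj (φ 1 *ᵥ E v) _ _ h1 ?_
    rw [map_one, Matrix.one_mulVec]
    show E v - E v ∈ N
    rw [sub_self]
    exact N.zero_mem
  map_mul' g h := by
    rw [← LinearMap.toMatrix'_mul]
    congr 1
    apply LinearMap.ext
    intro v
    have key := E_descLin j E N E_add E_smul E_inj φ hstab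
    refine uniq E N E_add E_inj (φ (g * h) *ᵥ E v) _ _ (key (g * h) v) ?_
    rw [Module.End.mul_apply, map_mul, ← Matrix.mulVec_mulVec]
    have h1 := hN g _ (key h v)
    have h2 := key g (descLin j E N E_add E_smul E_inj φ hstab h v)
    rw [Matrix.mulVec_sub] at h1
    have := N.add_mem h1 h2
    have h4 : φ g *ᵥ φ h *ᵥ E v - φ g *ᵥ E ((descLin j E N E_add E_smul E_inj φ hstab h) v) +
        (φ g *ᵥ E ((descLin j E N E_add E_smul E_inj φ hstab h) v) -
          E ((descLin j E N E_add E_smul E_inj φ hstab g)
            ((descLin j E N E_add E_smul E_inj φ hstab h) v))) =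
        φ g *ᵥ φ h *ᵥ E v - E ((descLin j E N E_add E_smul E_inj φ hstab g)
            ((descLin j E N E_add E_smul E_inj φ hstab h) v)) := by abel
    rwa [h4] at this

theorem E_descHom (h : H) (v : ι → F) :
    φ h *ᵥ E v - E (descHom j E N E_add E_smul E_inj φ hN hstab h *ᵥ v) ∈ N := by
  show φ h *ᵥ E v -
    E (LinearMap.toMatrix' (descLin j E N E_add E_smul E_inj φ hstab h) *ᵥ v) ∈ N
  rw [LinearMap.toMatrix'_mulVec]
  exact E_descLin j E N E_add E_smul E_inj φ hstab h v

theorem fix_of_descHom_eq_one (h : H)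
    (h1 : descHom j E N E_add E_smul E_inj φ hN hstab h = 1) (v : ι → F) :
    φ h *ᵥ E v - E v ∈ N := by
  have := E_descHom j E N E_add E_smul E_inj φ hN hstab h v
  rwa [h1, Matrix.one_mulVec] at this

end Cfsg.Agent.Lib.Helper5.Descent2
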