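import Mathlib
import Cfsg.Prelude
import Cfsg.Agent.Lib.Helper5.Descent2

set_option autoImplicit false
open Cfsg

/-! The permutation module of the symmetric group and its natural subquotient. -/

namespace Cfsg.Agent.Lib.Helper5.PermMod

open Matrix

variable {F : Type*} [Field F] {n : ℕ}

/-- the permutation representation -/
def phi (F : Type*) [Field F] (n : ℕ) : Equiv.Perm (Fin n) →* Matrix (Fin n) (Fin n) F :=
  Matrix.permMatrixHom

theorem phi_mulVec (π : Equiv.Perm (Fin n)) (u : Fin n → F) :
    phi F n π *ᵥ u = u ∘ ⇑π⁻¹ := by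
  unfold phi
  rw [Matrix.permMatrixHom_apply, Matrix.permMatrix_mulVec]

theorem sum_comp (π : Equiv.Perm (Fin n)) (u : Fin n → F) :
    ∑ i, (u ∘ ⇑π) i = ∑ i, u i :=
  Equiv.sum_comp π u

theorem dot_comp (π : Equiv.Perm (Fin n)) (u u' : Fin n → F) :
    (u ∘ ⇑π) ⬝ᵥ (u' ∘ ⇑π) = u ⬝ᵥ u' := by
  unfold dotProduct
  exact Equiv.sum_comp π (fun i => u i * u' i)

/-- the second elementary symmetric function of the coordinates -/
noncomputable def e2 (u : Fin n → F) : F :=
  ((Finset.univ : Finset (Fin n)).val.map u).esymm 2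

theorem e2_comp (π : Equiv.Perm (Fin n)) (u : Fin n → F) : e2 (u ∘ ⇑π) = e2 u := by
  unfold e2
  rw [← Multiset.map_map, Multiset.map_univ_val_equiv]

/-- the line spanned by the all-ones vector -/
def ones (F : Type*) [Field F] (n : ℕ) : Submodule F (Fin n → F) :=
  Submodule.span F {fun _ => (1 : F)}

theorem mem_ones (u : Fin n → F) : u ∈ ones F n ↔ ∃ c : F, u = fun _ => c := by
  unfold ones
  rw [Submodule.mem_span_singleton]
  constructor
  · rintro ⟨c, rfl⟩
    exact ⟨c, by funext i; simp⟩
  · rintro ⟨c, rfl⟩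
    exact ⟨c, by funext i; simp⟩

theorem comp_mem_ones (π : Equiv.Perm (Fin n)) (u : Fin n → F) (hu : u ∈ ones F n) :
    u ∘ ⇑π ∈ ones F n := by
  rw [mem_ones] at hu ⊢
  obtain ⟨c, rfl⟩ := hu
  exact ⟨c, rfl⟩

theorem phi_mem (N : Submodule F (Fin n → F)) (hN : N ≤ ones F n) (π : Equiv.Perm (Fin n))
    (x : Fin n → F) (hx : x ∈ N) : phi F n π *ᵥ x ∈ N := by
  rw [phi_mulVec]
  obtain ⟨c, rfl⟩ := (mem_ones x).mp (hN hx)
  exact hx

/-- a permutation acting trivially on the sum-zero vectors modulo constants is trivial -/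
theorem eq_one_of_fix (hn : 5 ≤ n) (π : Equiv.Perm (Fin n))
    (h : ∀ u : Fin n → F, ∑ i, u i = 0 → u ∘ ⇑π⁻¹ - u ∈ ones F n) : π = 1 := by
  classical
  have key : ∀ i k : Fin n, i ≠ k → π i = i ∨ π i = k := by
    intro i k hik
    have hu : ∑ x, (Pi.single i (1 : F) - Pi.single k 1 : Fin n → F) x = 0 := by
      simp [Finset.sum_sub_distrib]
    obtain ⟨c, hc⟩ := (mem_ones _).mp (h _ hu)
    have hval : ∀ x : Fin n, (Pi.single i (1 : F) - Pi.single k 1 : Fin n → F) (π.symm x) -
        (Pi.single i (1 : F) - Pi.single k 1 : Fin n → F) x = c := fun x => congrFun hc x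
    have hS : ∃ x : Fin n, x ∉ ({π i, π k, i, k} : Finset (Fin n)) := by
      by_contra hcon
      push Not at hcon
      have h1 : (Finset.univ : Finset (Fin n)) ⊆ {π i, π k, i, k} := fun x _ => hcon x
      have h2 := Finset.card_le_card h1
      rw [Finset.card_univ, Fintype.card_fin] at h2
      have h3 : ({π i, π k, i, k} : Finset (Fin n)).card ≤ 4 := Finset.card_le_four
      omega
    obtain ⟨x, hx⟩ := hS
    simp only [Finset.mem_insert, Finset.mem_singleton, not_or] at hx
    obtain ⟨hx1, hx2, hx3, hx4⟩ := hx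
    have hc0 : c = 0 := by
      have := hval x
      have e1 : π.symm x ≠ i := fun e => hx1 (by rw [← e]; simp)
      have e2 : π.symm x ≠ k := fun e => hx2 (by rw [← e]; simp)
      simp [Pi.single_apply, e1, e2, hx3, hx4] at this
      exact this.symm
    have h5 := hval (π i)
    rw [hc0] at h5
    have e3 : π.symm (π i) = i := by simp
    have e4 : i ≠ k := hik
    rw [e3] at h5
    by_contra hcon
    push Not at hcon
    simp [Pi.single_apply, e4, hcon.1, hcon.2] at h5
  have hn3 : 3 ≤ n := by omega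
  ext i
  have : π i = i := by
    obtain ⟨k, hk⟩ : ∃ k : Fin n, k ≠ i := by
      by_contra hcon
      push Not at hcon
      have : Fintype.card (Fin n) ≤ 1 := Fintype.card_le_one_iff.mpr (fun a b => by
        rw [hcon a, hcon b])
      rw [Fintype.card_fin] at this
      omega
    obtain ⟨k', hk', hkk'⟩ : ∃ k' : Fin n, k' ≠ i ∧ k' ≠ k := by
      by_contra hcon
      push Not at hcon
      have h1 : (Finset.univ : Finset (Fin n)) ⊆ {i, k} := by
        intro x _
        by_cases hxi : x = i
        · simp [hxi]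
        · simp [hcon x hxi]
      have h2 := Finset.card_le_card h1
      rw [Finset.card_univ, Fintype.card_fin] at h2
      have h3 : ({i, k} : Finset (Fin n)).card ≤ 2 := Finset.card_le_two
      omega
    rcases key i k (Ne.symm hk) with h1 | h1
    · exact h1
    · rcases key i k' (Ne.symm hk') with h2 | h2
      · exact h2
      · exact absurd (h2.symm.trans h1) hkk'
  simp [this]

end Cfsg.Agent.Lib.Helper5.PermMod
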