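import Mathlib
import Cfsg.Prelude
import Cfsg.Agent.Lib.Helper5.PermMod
import Cfsg.Agent.Lib.Helper5.OrthCard
import Cfsg.Agent.S0288

set_option autoImplicit false
open Cfsg

/-! `O_4^-(2) ≅ S_5` via the even-weight submodule of the permutation module. -/

namespace Cfsg.Agent.Lib.Helper5.PermO4m

open Matrix Cfsg.Agent.Lib.Helper5.PermMod Cfsg.Agent.Lib.Helper5.OrthCard

section two
variable {F : Type*} [Field F] [Fintype F] (hF : Fintype.card F = 2)

include hF in
theorem two_eq_zero : (2 : F) = 0 := by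
  have h := Nat.cast_card_eq_zero F
  rw [hF] at h
  exact_mod_cast h

include hF in
theorem eq_zero_or_one (x : F) : x = 0 ∨ x = 1 := by
  classical
  have h1 : ({0, 1} : Finset F) = Finset.univ := by
    apply Finset.eq_univ_of_card
    rw [hF, Finset.card_pair zero_ne_one]
  have := Finset.mem_univ x
  rw [← h1] at this
  simpa using this

include hF in
theorem anisotropic (z₁ z₂ : F) (h : z₁ ^ 2 + 1 * z₁ * z₂ + 1 * z₂ ^ 2 = 0) : z₁ = 0 ∧ z₂ = 0 := by
  have h2 := two_eq_zero hF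
  rcases eq_zero_or_one hF z₁ with rfl | rfl <;> rcases eq_zero_or_one hF z₂ with rfl | rfl
  · exact ⟨rfl, rfl⟩
  · simp at h
  · simp at h
  · exfalso
    have : (1 : F) = 0 := by linear_combination h - h2
    exact one_ne_zero this

end two

variable {F : Type*} [Field F]

/-- index type of the form -/
abbrev I4 : Type := (Fin 1 ⊕ Fin 1) ⊕ Fin 2

/-- the embedding of the four-dimensional space as the even-weight vectors -/
def E5 (v : I4 → F) : Fin 5 → F :=
  ![v (.inl (.inl 0)) + v (.inl (.inr 0)) + v (.inr 0),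
    v (.inl (.inl 0)) + v (.inl (.inr 0)) + v (.inr 0) + v (.inr 1),
    v (.inl (.inl 0)) + v (.inl (.inr 0)) + v (.inr 1),
    v (.inl (.inl 0)), v (.inl (.inr 0))]

theorem E5_add (u v : I4 → F) : E5 (u + v) = E5 u + E5 v := by
  funext i
  fin_cases i <;> simp [E5] <;> ring

theorem E5_smul (c : F) (v : I4 → F) : E5 (c • v) = (RingHom.id F) c • E5 v := by
  funext i
  fin_cases i <;> simp [E5] <;> ring

theorem E5_inj (v : I4 → F) (h : E5 v ∈ (⊥ : Submodule F (Fin 5 → F))) : v = 0 := by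
  rw [Submodule.mem_bot] at h
  have h0 := congrFun h 0
  have h2 := congrFun h 2
  have h3 := congrFun h 3
  have h4 := congrFun h 4
  simp [E5] at h0 h2 h3 h4
  rw [h3, h4] at h0 h2
  simp at h0 h2
  funext i
  rcases i with (i | i) | i
  · have : i = 0 := Subsingleton.elim _ _
    subst this; exact h3
  · have : i = 0 := Subsingleton.elim _ _
    subst this; exact h4
  · fin_cases i
    · exact h0
    · exact h2

theorem sum_E5 (h2 : (2 : F) = 0) (v : I4 → F) : ∑ i, E5 v i = 0 := by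
  simp only [Fin.sum_univ_five, E5, Matrix.cons_val_zero, Matrix.cons_val_one, Matrix.cons_val]
  linear_combination (2 * v (.inl (.inl 0)) + 2 * v (.inl (.inr 0)) + v (.inr 0) + v (.inr 1)) * h2

theorem exists_E5 (h2 : (2 : F) = 0) (u : Fin 5 → F) (hu : ∑ i, u i = 0) :
    ∃ v, u - E5 v ∈ (⊥ : Submodule F (Fin 5 → F)) := by
  refine ⟨Sum.elim (Sum.elim (fun _ => u 3) (fun _ => u 4)) ![u 0 - u 3 - u 4, u 2 - u 3 - u 4], ?_⟩
  rw [Submodule.mem_bot, sub_eq_zero]
  rw [Fin.sum_univ_five] at hu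
  funext i
  fin_cases i <;> simp [E5]
  linear_combination hu - (u 0 + u 2) * h2

theorem e2_five (u : Fin 5 → F) :
    e2 u = u 0 * u 1 + u 0 * u 2 + u 0 * u 3 + u 0 * u 4 + u 1 * u 2 + u 1 * u 3 + u 1 * u 4 +
      u 2 * u 3 + u 2 * u 4 + u 3 * u 4 := by
  unfold e2
  rw [Fin.univ_val_map]
  simp only [List.ofFn_succ, List.ofFn_zero, Multiset.esymm]
  rw [Multiset.powersetCard_coe]
  simp [List.sublistsLen, List.sublistsLenAux]
  ring

theorem e2_E5 (h2 : (2 : F) = 0) (v : I4 → F) :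
    e2 (E5 v) = Cfsg.quadFormMinus 1 F 1 1 v := by
  rw [e2_five]
  simp only [E5, Matrix.cons_val_zero, Matrix.cons_val_one, Matrix.cons_val, Cfsg.quadFormMinus,
    Finset.univ_unique, Finset.sum_singleton, Fin.default_eq_zero]
  linear_combination (6 * v (.inl (.inl 0)) * v (.inl (.inr 0)) +
    3 * v (.inl (.inl 0)) * v (.inr 0) + 3 * v (.inl (.inl 0)) * v (.inr 1) +
    3 * v (.inl (.inl 0)) ^ 2 + 3 * v (.inl (.inr 0)) * v (.inr 0) +
    3 * v (.inl (.inr 0)) * v (.inr 1) + 3 * v (.inl (.inr 0)) ^ 2 + v (.inr 0) * v (.inr 1)) * h2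

theorem stab_E5 (h2 : (2 : F) = 0) (π : Equiv.Perm (Fin 5)) (v : I4 → F) :
    ∃ v', phi F 5 π *ᵥ E5 v - E5 v' ∈ (⊥ : Submodule F (Fin 5 → F)) := by
  apply exists_E5 h2
  rw [phi_mulVec, sum_comp]
  exact sum_E5 h2 v

/-- the representation of `S_5` on the four-dimensional space -/
noncomputable def rho (h2 : (2 : F) = 0) : Equiv.Perm (Fin 5) →* Matrix I4 I4 F :=
  Cfsg.Agent.Lib.Helper5.Descent2.descHom (RingHom.id F) E5 ⊥ E5_add E5_smul E5_inj (phi F 5)
    (phi_mem ⊥ bot_le) (stab_E5 h2)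

theorem E5_rho (h2 : (2 : F) = 0) (π : Equiv.Perm (Fin 5)) (v : I4 → F) :
    E5 (rho h2 π *ᵥ v) = E5 v ∘ ⇑π⁻¹ := by
  have := Cfsg.Agent.Lib.Helper5.Descent2.E_descHom (RingHom.id F) E5 ⊥ E5_add E5_smul E5_inj
    (phi F 5) (phi_mem ⊥ bot_le) (stab_E5 h2) π v
  rw [Submodule.mem_bot, sub_eq_zero, phi_mulVec] at this
  exact this.symm

theorem quad_rho (h2 : (2 : F) = 0) (π : Equiv.Perm (Fin 5)) (v : I4 → F) :
    Cfsg.quadFormMinus 1 F 1 1 (rho h2 π *ᵥ v) = Cfsg.quadFormMinus 1 F 1 1 v := by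
  rw [← e2_E5 h2, ← e2_E5 h2, E5_rho, e2_comp]

/-- the homomorphism `S_5 → O_4^-(2)` -/
noncomputable def tau (h2 : (2 : F) = 0) : Equiv.Perm (Fin 5) →*
    ↥(isometryGroup F (Cfsg.quadFormMinus 1 F 1 1)) :=
  (rho h2).toHomUnits.codRestrict (isometryGroup F (Cfsg.quadFormMinus 1 F 1 1)) (by
    intro π
    rw [mem_isometryGroup_iff]
    intro v
    exact quad_rho h2 π v)

theorem tau_injective (h2 : (2 : F) = 0) : Function.Injective (tau (F := F) h2) := by
  rw [injective_iff_map_eq_one]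
  intro π hπ
  have h1 : rho h2 π = 1 := by
    have := congrArg (fun g : ↥(isometryGroup F (Cfsg.quadFormMinus 1 F 1 1)) =>
      ((g : Matrix.GeneralLinearGroup I4 F) : Matrix I4 I4 F)) hπ
    exact this
  apply eq_one_of_fix (F := F) (le_refl 5)
  intro u hu
  obtain ⟨v, hv⟩ := exists_E5 h2 u hu
  rw [Submodule.mem_bot, sub_eq_zero] at hv
  rw [hv, ← E5_rho h2, h1, Matrix.one_mulVec, sub_self]
  exact Submodule.zero_mem _

end Cfsg.Agent.Lib.Helper5.PermO4m
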