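import Mathlib
import Cfsg.Prelude
import Cfsg.Agent.Lib.Helper5.PermMod
import Cfsg.Agent.Lib.Helper5.PermO4m
import Cfsg.Agent.Lib.Helper5.OrthCard

set_option autoImplicit false
open Cfsg

/-! `O_6^+(2) ≅ S_8` via the even-weight vectors modulo the all-ones vector. -/

namespace Cfsg.Agent.Lib.Helper5.PermO6p

open Matrix Cfsg.Agent.Lib.Helper5.PermMod Cfsg.Agent.Lib.Helper5.OrthCard

variable {F : Type*} [Field F]

/-- index type of the hyperbolic space -/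
abbrev I6 : Type := Fin 3 ⊕ Fin 3

/-- the embedding of the six-dimensional space into the even-weight vectors -/
def E8 (v : I6 → F) : Fin 8 → F :=
  ![v (.inl 0) + v (.inl 1) + v (.inl 2) + v (.inr 0) + v (.inr 1) + v (.inr 2),
    v (.inl 0) + v (.inl 1) + v (.inr 0) + v (.inr 1),
    v (.inl 0) + v (.inl 2) + v (.inr 0),
    v (.inl 0) + v (.inr 2),
    v (.inr 0) + v (.inr 2),
    v (.inl 1) + v (.inr 1) + v (.inr 2),
    v (.inl 1) + v (.inl 2),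
    v (.inl 2) + v (.inr 1)]

theorem E8_add (u v : I6 → F) : E8 (u + v) = E8 u + E8 v := by
  funext i
  fin_cases i <;> simp [E8] <;> ring

theorem E8_smul (c : F) (v : I6 → F) : E8 (c • v) = (RingHom.id F) c • E8 v := by
  funext i
  fin_cases i <;> simp [E8] <;> ring

theorem E8_inj (h2 : (2 : F) = 0) (v : I6 → F) (h : E8 v ∈ ones F 8) : v = 0 := by
  obtain ⟨c, hc⟩ := (mem_ones _).mp h
  have h0 := congrFun hc 0
  have h1 := congrFun hc 1
  have h2' := congrFun hc 2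
  have h3 := congrFun hc 3
  have h4 := congrFun hc 4
  have h5 := congrFun hc 5
  have h6 := congrFun hc 6
  simp [E8] at h0 h1 h2' h3 h4 h5 h6
  funext i
  rcases i with i | i
  · fin_cases i
    · show v (.inl 0) = 0
      linear_combination h0 + h1 + h2' + h4 + (2 * c - (v (.inl 0) + v (.inl 1) + v (.inl 2) +
        2 * v (.inr 0) + v (.inr 1) + v (.inr 2))) * h2
    · show v (.inl 1) = 0
      linear_combination h2' + h3 + h4 + h6 + (2 * c - (v (.inl 0) + v (.inl 2) + v (.inr 0) +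
        v (.inr 2))) * h2
    · show v (.inl 2) = 0
      linear_combination h0 + h3 + h4 + h5 + (2 * c - (v (.inl 0) + v (.inl 1) + v (.inr 0) +
        v (.inr 1) + 2 * v (.inr 2))) * h2
  · fin_cases i
    · show v (.inr 0) = 0
      linear_combination h0 + h1 + h2' + h3 + (2 * c - (2 * v (.inl 0) + v (.inl 1) + v (.inl 2) +
        v (.inr 0) + v (.inr 1) + v (.inr 2))) * h2
    · show v (.inr 1) = 0
      linear_combination h0 + h1 + h5 + h6 + (2 * c - (v (.inl 0) + 2 * v (.inl 1) + v (.inl 2) +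
        v (.inr 0) + v (.inr 1) + v (.inr 2))) * h2
    · show v (.inr 2) = 0
      linear_combination h1 + h3 + h4 + h5 + (2 * c - (v (.inl 0) + v (.inl 1) + v (.inr 0) +
        v (.inr 1) + v (.inr 2))) * h2

theorem sum_E8 (h2 : (2 : F) = 0) (v : I6 → F) : ∑ i, E8 v i = 0 := by
  simp only [Fin.sum_univ_eight, E8, Matrix.cons_val_zero, Matrix.cons_val_one, Matrix.cons_val]
  linear_combination (2 * v (.inl 0) + 2 * v (.inl 1) + 2 * v (.inl 2) + 2 * v (.inr 0) +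
    2 * v (.inr 1) + 2 * v (.inr 2)) * h2

theorem exists_E8 (h2 : (2 : F) = 0) (u : Fin 8 → F) (hu : ∑ i, u i = 0) :
    ∃ v, u - E8 v ∈ ones F 8 := by
  refine ⟨Sum.elim ![u 0 + u 1 + u 2 + u 4, u 2 + u 3 + u 4 + u 6, u 0 + u 3 + u 4 + u 5]
    ![u 0 + u 1 + u 2 + u 3, u 0 + u 1 + u 5 + u 6, u 1 + u 3 + u 4 + u 5], ?_⟩
  rw [mem_ones]
  refine ⟨u 0 + u 2 + u 5, ?_⟩
  rw [Fin.sum_univ_eight] at hu
  funext i
  fin_cases i <;> simp [E8]
  · linear_combination (-4) * hu + (u 6 + 2 * u 7) * h2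
  · linear_combination (-4) * hu + (u 1 + u 3 + u 4 + u 5 + u 6 + 2 * u 7) * h2
  · linear_combination (-4) * hu + (u 1 + u 2 + u 3 + u 4 + u 5 + 2 * u 6 + 2 * u 7) * h2
  · linear_combination (-4) * hu + (u 0 + u 1 + u 2 + 2 * u 3 + u 4 + u 5 + 2 * u 6 + 2 * u 7) * h2
  · linear_combination (-4) * hu + (u 0 + u 1 + u 2 + u 3 + 2 * u 4 + u 5 + 2 * u 6 + 2 * u 7) * h2
  · linear_combination (-4) * hu + (u 0 + u 1 + u 2 + u 3 + u 4 + u 5 + u 6 + 2 * u 7) * h2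
  · linear_combination (-4) * hu + (u 0 + 2 * u 1 + u 2 + u 3 + u 4 + u 5 + 2 * u 6 + 2 * u 7) * h2
  · linear_combination (-3) * hu + (u 1 + u 2 + u 3 + u 4 + u 6 + 2 * u 7) * h2

theorem e2_eight (u : Fin 8 → F) :
    e2 u = u 0 * u 1 + u 0 * u 2 + u 0 * u 3 + u 0 * u 4 + u 0 * u 5 + u 0 * u 6 + u 0 * u 7 +
      u 1 * u 2 + u 1 * u 3 + u 1 * u 4 + u 1 * u 5 + u 1 * u 6 + u 1 * u 7 +
      u 2 * u 3 + u 2 * u 4 + u 2 * u 5 + u 2 * u 6 + u 2 * u 7 +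
      u 3 * u 4 + u 3 * u 5 + u 3 * u 6 + u 3 * u 7 +
      u 4 * u 5 + u 4 * u 6 + u 4 * u 7 + u 5 * u 6 + u 5 * u 7 + u 6 * u 7 := by
  unfold e2
  rw [Fin.univ_val_map]
  simp only [List.ofFn_succ, List.ofFn_zero, Multiset.esymm]
  rw [Multiset.powersetCard_coe]
  simp [List.sublistsLen, List.sublistsLenAux]
  ring

theorem e2_E8 (h2 : (2 : F) = 0) (v : I6 → F) :
    e2 (E8 v) = Cfsg.quadFormPlus 3 F v := by
  rw [e2_eight]
  simp only [E8, Matrix.cons_val_zero, Matrix.cons_val_one, Matrix.cons_val, Cfsg.quadFormPlus,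
    Fin.sum_univ_three]
  linear_combination (7 * v (.inl 0) * v (.inl 1) + 7 * v (.inl 0) * v (.inl 2) +
    6 * v (.inl 0) * v (.inr 0) + 7 * v (.inl 0) * v (.inr 1) + 7 * v (.inl 0) * v (.inr 2) +
    3 * v (.inl 0) ^ 2 + 7 * v (.inl 1) * v (.inl 2) + 7 * v (.inl 1) * v (.inr 0) +
    6 * v (.inl 1) * v (.inr 1) + 7 * v (.inl 1) * v (.inr 2) + 3 * v (.inl 1) ^ 2 +
    7 * v (.inl 2) * v (.inr 0) + 7 * v (.inl 2) * v (.inr 1) + 7 * v (.inl 2) * v (.inr 2) +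
    3 * v (.inl 2) ^ 2 + 7 * v (.inr 0) * v (.inr 1) + 7 * v (.inr 0) * v (.inr 2) +
    3 * v (.inr 0) ^ 2 + 7 * v (.inr 1) * v (.inr 2) + 3 * v (.inr 1) ^ 2 +
    3 * v (.inr 2) ^ 2) * h2

theorem e2_ones (h2 : (2 : F) = 0) (u x : Fin 8 → F) (hu : ∑ i, u i = 0) (hx : x ∈ ones F 8) :
    e2 (u - x) = e2 u := by
  obtain ⟨c, rfl⟩ := (mem_ones _).mp hx
  rw [Fin.sum_univ_eight] at hu
  rw [e2_eight, e2_eight]
  simp only [Pi.sub_apply]
  linear_combination (-7 * c) * hu + 14 * c ^ 2 * h2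

theorem stab_E8 (h2 : (2 : F) = 0) (π : Equiv.Perm (Fin 8)) (v : I6 → F) :
    ∃ v', phi F 8 π *ᵥ E8 v - E8 v' ∈ ones F 8 := by
  apply exists_E8 h2
  rw [phi_mulVec, sum_comp]
  exact sum_E8 h2 v

/-- the representation of `S_8` on the six-dimensional space -/
noncomputable def rho (h2 : (2 : F) = 0) : Equiv.Perm (Fin 8) →* Matrix I6 I6 F :=
  Cfsg.Agent.Lib.Helper5.Descent2.descHom (RingHom.id F) E8 (ones F 8) E8_add E8_smul
    (E8_inj h2) (phi F 8) (phi_mem (ones F 8) le_rfl) (stab_E8 h2)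

theorem E8_rho (h2 : (2 : F) = 0) (π : Equiv.Perm (Fin 8)) (v : I6 → F) :
    E8 v ∘ ⇑π⁻¹ - E8 (rho h2 π *ᵥ v) ∈ ones F 8 := by
  have := Cfsg.Agent.Lib.Helper5.Descent2.E_descHom (RingHom.id F) E8 (ones F 8) E8_add E8_smul
    (E8_inj h2) (phi F 8) (phi_mem (ones F 8) le_rfl) (stab_E8 h2) π v
  rwa [phi_mulVec] at this

theorem quad_rho (h2 : (2 : F) = 0) (π : Equiv.Perm (Fin 8)) (v : I6 → F) :
    Cfsg.quadFormPlus 3 F (rho h2 π *ᵥ v) = Cfsg.quadFormPlus 3 F v := by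
  rw [← e2_E8 h2, ← e2_E8 h2]
  have h1 := E8_rho h2 π v
  have e1 : E8 (rho h2 π *ᵥ v) = E8 v ∘ ⇑π⁻¹ - (E8 v ∘ ⇑π⁻¹ - E8 (rho h2 π *ᵥ v)) := by abel
  rw [e1, e2_ones h2 _ _ _ h1, e2_comp]
  rw [sum_comp]
  exact sum_E8 h2 v

/-- the homomorphism `S_8 → O_6^+(2)` -/
noncomputable def tau (h2 : (2 : F) = 0) : Equiv.Perm (Fin 8) →*
    ↥(isometryGroup F (Cfsg.quadFormPlus 3 F)) :=
  (rho h2).toHomUnits.codRestrict (isometryGroup F (Cfsg.quadFormPlus 3 F)) (by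
    intro π
    rw [mem_isometryGroup_iff]
    intro v
    exact quad_rho h2 π v)

theorem tau_coe (h2 : (2 : F) = 0) (π : Equiv.Perm (Fin 8)) :
    (((tau h2 π : ↥(isometryGroup F (Cfsg.quadFormPlus 3 F))) :
      Matrix.GeneralLinearGroup I6 F) : Matrix I6 I6 F) = rho h2 π := rfl

theorem tau_injective (h2 : (2 : F) = 0) : Function.Injective (tau (F := F) h2) := by
  rw [injective_iff_map_eq_one]
  intro π hπ
  have h1 : rho h2 π = 1 := by
    rw [← tau_coe, hπ]; rfl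
  apply eq_one_of_fix (F := F) (by norm_num : 5 ≤ 8)
  intro u hu
  obtain ⟨v, hv⟩ := exists_E8 h2 u hu
  have h3 := E8_rho h2 π v
  rw [h1, Matrix.one_mulVec] at h3
  have h4 := comp_mem_ones π⁻¹ _ hv
  have h5 : u ∘ ⇑π⁻¹ - u = (E8 v ∘ ⇑π⁻¹ - E8 v) + ((u - E8 v) ∘ ⇑π⁻¹ - (u - E8 v)) := by
    funext i
    simp only [Pi.sub_apply, Function.comp_apply, Pi.add_apply]
    ring
  rw [h5]
  exact Submodule.add_mem _ h3 (Submodule.sub_mem _ h4 hv)

end Cfsg.Agent.Lib.Helper5.PermO6p
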