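import Mathlib
import Cfsg.Prelude.Def_Local
import Cfsg.Prelude.Def_CaseTheorems
import Cfsg.Agent.Lib.Helper6.GH5R2

/-!
# GH7 (S3105) tool (helper5): generators form of `Helper6.GH5.false_of_sq_section`

To exhibit an elementary abelian section `H / M` of order `≥ 32` with `H = closure T` it suffices to check
that the generators normalise `M`, have squares in `M` and commute pairwise modulo `M`.
-/

set_option autoImplicit false

namespace Cfsg.Agent.Lib.Helper5.GH7

variable {G : Type*} [Group G]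

/-- in a finite group, `g M g⁻¹ ⊆ M` implies `g⁻¹ M g ⊆ M` -/
theorem conj_inv_mem_of_conj_mem [Finite G] (M : Subgroup G) (g : G)
    (h : ∀ m ∈ M, g * m * g⁻¹ ∈ M) : ∀ m ∈ M, g⁻¹ * m * g ∈ M := by
  intro q hq
  let f : M → M := fun m => ⟨g * m.1 * g⁻¹, h m.1 m.2⟩
  have hinj : Function.Injective f := by
    intro a b hab
    have h1 : g * a.1 * g⁻¹ = g * b.1 * g⁻¹ := congrArg Subtype.val hab
    apply Subtype.ext
    exact mul_left_cancel (mul_right_cancel h1)
  have hsurj : Function.Surjective f := Finite.surjective_of_injective hinj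
  obtain ⟨m, hm⟩ := hsurj ⟨q, hq⟩
  have h1 : g * m.1 * g⁻¹ = q := congrArg Subtype.val hm
  have h2 : g⁻¹ * q * g = m.1 := by rw [← h1]; group
  rw [h2]
  exact m.2

/-- generators normalising `M` generate a subgroup normalising `M` -/
theorem closure_normalizes [Finite G] (M : Subgroup G) (T : Set G)
    (hn : ∀ t ∈ T, ∀ m ∈ M, t * m * t⁻¹ ∈ M) :
    ∀ x ∈ Subgroup.closure T, ∀ m ∈ M, x * m * x⁻¹ ∈ M := by
  intro x hx
  induction hx using Subgroup.closure_induction with
  | mem t ht => exact hn t ht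
  | one =>
    intro m hm
    simpa using hm
  | mul a b _ _ iha ihb =>
    intro m hm
    have h : a * b * m * (a * b)⁻¹ = a * (b * m * b⁻¹) * a⁻¹ := by group
    rw [h]
    exact iha _ (ihb m hm)
  | inv a _ iha =>
    intro m hm
    have h := conj_inv_mem_of_conj_mem M a iha m hm
    rw [inv_inv]
    exact h

/-- generators that normalise `M`, have squares in `M` and commute pairwise modulo `M` generate a subgroup
all of whose squares and commutators lie in `M` -/
theorem closure_sq_comm [Finite G] (M : Subgroup G) (T : Set G)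
    (hn : ∀ t ∈ T, ∀ m ∈ M, t * m * t⁻¹ ∈ M) (hsq : ∀ t ∈ T, t * t ∈ M)
    (hcomm : ∀ t ∈ T, ∀ t' ∈ T, t * t' * t⁻¹ * t'⁻¹ ∈ M) :
    (∀ x ∈ Subgroup.closure T, ∀ y ∈ Subgroup.closure T, x * y * x⁻¹ * y⁻¹ ∈ M) ∧
    (∀ x ∈ Subgroup.closure T, x * x ∈ M) := by
  have hN := closure_normalizes M T hn
  have hN' : ∀ x ∈ Subgroup.closure T, ∀ m ∈ M, x⁻¹ * m * x ∈ M := by
    intro x hx m hm
    have := hN x⁻¹ (inv_mem hx) m hm
    rw [inv_inv] at this
    exact this
  -- step 1 : every element of the closure commutes with every generator modulo `M`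
  have h1 : ∀ x ∈ Subgroup.closure T, ∀ t ∈ T, x * t * x⁻¹ * t⁻¹ ∈ M := by
    intro x hx
    induction hx using Subgroup.closure_induction with
    | mem s hs => exact fun t ht => hcomm s hs t ht
    | one =>
      intro t _
      simp
    | mul a b ha _ iha ihb =>
      intro t ht
      have h : a * b * t * (a * b)⁻¹ * t⁻¹ = a * (b * t * b⁻¹ * t⁻¹) * a⁻¹ * (a * t * a⁻¹ * t⁻¹) := by
        group
      rw [h]
      exact mul_mem (hN a ha _ (ihb t ht)) (iha t ht)
    | inv a ha iha =>
      intro t ht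
      have h : a⁻¹ * t * a⁻¹⁻¹ * t⁻¹ = a⁻¹ * (a * t * a⁻¹ * t⁻¹)⁻¹ * a := by group
      rw [h]
      exact hN' a ha _ (inv_mem (iha t ht))
  -- step 2 : any two elements of the closure commute modulo `M`
  have h2 : ∀ y ∈ Subgroup.closure T, ∀ x ∈ Subgroup.closure T, x * y * x⁻¹ * y⁻¹ ∈ M := by
    intro y hy
    induction hy using Subgroup.closure_induction with
    | mem t ht => exact fun x hx => h1 x hx t ht
    | one =>
      intro x _
      simp
    | mul a b ha _ iha ihb =>
      intro x hx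
      have h : x * (a * b) * x⁻¹ * (a * b)⁻¹ = (x * a * x⁻¹ * a⁻¹) * (a * (x * b * x⁻¹ * b⁻¹) * a⁻¹) := by
        group
      rw [h]
      exact mul_mem (iha x hx) (hN a ha _ (ihb x hx))
    | inv a ha iha =>
      intro x hx
      have h : x * a⁻¹ * x⁻¹ * a⁻¹⁻¹ = a⁻¹ * (x * a * x⁻¹ * a⁻¹)⁻¹ * a := by group
      rw [h]
      exact hN' a ha _ (inv_mem (iha x hx))
  refine ⟨fun x hx y hy => h2 y hy x hx, ?_⟩
  -- step 3 : squares
  intro x hx
  induction hx using Subgroup.closure_induction with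
  | mem t ht => exact hsq t ht
  | one => simp
  | mul a b ha hb iha ihb =>
    have h : a * b * (a * b) = (a * a) * (a⁻¹ * b * a⁻¹⁻¹ * b⁻¹) * (b * b) := by group
    rw [h]
    exact mul_mem (mul_mem iha (h2 b hb a⁻¹ (inv_mem ha))) ihb
  | inv a _ iha =>
    have h : a⁻¹ * a⁻¹ = (a * a)⁻¹ := by group
    rw [h]
    exact inv_mem iha

/-- **generators form of `false_of_sq_section`** -/
theorem false_of_gen_section [Finite G] (hr : Cfsg.SectionalPRankLE 2 4 G) (M : Subgroup G) (T : Set G)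
    (hn : ∀ t ∈ T, ∀ m ∈ M, t * m * t⁻¹ ∈ M) (hsq : ∀ t ∈ T, t * t ∈ M)
    (hcomm : ∀ t ∈ T, ∀ t' ∈ T, t * t' * t⁻¹ * t'⁻¹ ∈ M) (hM : M ≤ Subgroup.closure T)
    (hcard : 32 * Nat.card M ≤ Nat.card (Subgroup.closure T)) : False :=
  Cfsg.Agent.Lib.Helper6.GH5.false_of_sq_section hr (Subgroup.closure T) M hM
    (closure_normalizes M T hn) (closure_sq_comm M T hn hsq hcomm).2 hcard

end Cfsg.Agent.Lib.Helper5.GH7
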