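import Mathlib
import Cfsg.Agent.Lib.Helper1.MNDDefs
import Cfsg.Agent.Lib.Helper4.SLnGen

set_option autoImplicit false
set_option linter.unusedSectionVars false
set_option linter.unusedVariables false
set_option linter.unusedSimpArgs false
set_option linter.style.haveILetI false

/-!
Farm MND (statement S2332), unit A3: a normal subgroup of `SL_(m+1)(F)`, `m ≥ 2`, containing a
nontrivial element of the row group is everything.  Also the identification of `xm (t e_j)` and
`gm (1 + t E_ij)` with transvections.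
-/

namespace Cfsg.Agent.Lib.Helper5.MND

open Matrix Cfsg Cfsg.Agent.Lib.Lead.LS1 Cfsg.Agent.Lib.Helper1.MND

variable {F : Type*} [Field F] [Fintype F] [DecidableEq F] {m k : ℕ}

/-- `xm (t e_j)` is the transvection `1 + t E_(0,j)` -/
theorem xm_single (j : Fin m) (t : F) :
    (xm (t • Pi.single j 1) : GG m F) =
      Matrix.SpecialLinearGroup.transvection
        (Sum.inl_ne_inr : (Sum.inl () : Unit ⊕ Fin m) ≠ Sum.inr j) t := by
  apply Subtype.ext
  ext (a | a) (b | b)
  · simp [xm, Matrix.SpecialLinearGroup.transvection_coe, Matrix.transvection, Matrix.single_apply, Matrix.one_apply]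
  · simp [xm, Matrix.SpecialLinearGroup.transvection_coe, Matrix.transvection, Matrix.single_apply, Matrix.one_apply, Pi.single_apply,
      eq_comm]
  · simp [xm, Matrix.SpecialLinearGroup.transvection_coe, Matrix.transvection, Matrix.single_apply, Matrix.one_apply]
  · simp [xm, Matrix.SpecialLinearGroup.transvection_coe, Matrix.transvection, Matrix.single_apply, Matrix.one_apply]

/-- `gm (1 + t E_ij)` is the transvection `1 + t E_(i,j)` -/
theorem gm_transvection {i j : Fin m} (hij : i ≠ j) (t : F) :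
    (gm (Matrix.SpecialLinearGroup.transvection hij t) : GG m F) =
      Matrix.SpecialLinearGroup.transvection
        (Sum.inr_injective.ne hij : (Sum.inr i : Unit ⊕ Fin m) ≠ Sum.inr j) t := by
  apply Subtype.ext
  ext (a | a) (b | b)
  · simp [gm, Matrix.SpecialLinearGroup.transvection_coe, Matrix.transvection, Matrix.single_apply, Matrix.one_apply]
  · simp [gm, Matrix.SpecialLinearGroup.transvection_coe, Matrix.transvection, Matrix.single_apply, Matrix.one_apply]
  · simp [gm, Matrix.SpecialLinearGroup.transvection_coe, Matrix.transvection, Matrix.single_apply, Matrix.one_apply]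
  · simp [gm, Matrix.SpecialLinearGroup.transvection_coe, Matrix.transvection, Matrix.single_apply, Matrix.one_apply]

/-- a normal subgroup of `SL_(m+1)`, `m ≥ 2`, containing a nontrivial element of the row group is
everything -/
theorem normal_eq_top (hm : 2 ≤ m) (N : Subgroup (GG m F)) [N.Normal] (u : Fin m → F) (hu : u ≠ 0)
    (h : xm u ∈ N) : N = ⊤ := by
  have hN : N.Normal := inferInstance
  -- the whole row group
  have h1 : ∀ v : Fin m → F, xm v ∈ N := by
    intro v
    by_cases hv : v = 0
    · rw [hv, xm_zero]; exact N.one_mem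
    · obtain ⟨B, hB⟩ := trans_vec hm u v hu hv
      let A : SS m F := ⟨B.1ᵀ, by rw [Matrix.det_transpose]; exact B.2⟩
      have h3 : u ᵥ* A.1 = v := by
        show u ᵥ* B.1ᵀ = v
        rw [Matrix.vecMul_transpose]; exact hB
      have e : xm v = (gm A)⁻¹ * xm u * gm A := by
        have h2 := xm_mul_gm u A
        rw [h3] at h2
        rw [mul_assoc, h2]; group
      rw [e]
      exact hN.conj_mem' _ h _
  have h2 : ∀ (j : Fin m) (t : F), Matrix.SpecialLinearGroup.transvection
      (Sum.inl_ne_inr : (Sum.inl () : Unit ⊕ Fin m) ≠ Sum.inr j) t ∈ N := by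
    intro j t
    rw [← xm_single]
    exact h1 _
  have h3 : ∀ (i j : Fin m) (hij : i ≠ j) (t : F), Matrix.SpecialLinearGroup.transvection
      (Sum.inr_injective.ne hij : (Sum.inr i : Unit ⊕ Fin m) ≠ Sum.inr j) t ∈ N := by
    intro i j hij t
    have hc := Cfsg.Agent.Lib.Helper4.commutator_transvection (F := F)
      (Sum.inr_injective.ne hij : (Sum.inr i : Unit ⊕ Fin m) ≠ Sum.inr j)
      (Sum.inr_ne_inl : (Sum.inr i : Unit ⊕ Fin m) ≠ Sum.inl ()) Sum.inl_ne_inr t 1
    rw [mul_one] at hc
    rw [← hc, commutatorElement_def]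
    exact N.mul_mem (hN.conj_mem _ (h2 j 1) _) (N.inv_mem (h2 j 1))
  have h4 : ∀ (i : Fin m) (t : F), Matrix.SpecialLinearGroup.transvection
      (Sum.inr_ne_inl : (Sum.inr i : Unit ⊕ Fin m) ≠ Sum.inl ()) t ∈ N := by
    intro i t
    obtain ⟨j, hj⟩ : ∃ j : Fin m, i ≠ j := by
      by_cases h0 : i = ⟨0, by omega⟩
      · refine ⟨⟨1, by omega⟩, ?_⟩
        rw [h0]
        intro h
        simp [Fin.ext_iff] at h
      · exact ⟨⟨0, by omega⟩, h0⟩
    have hc := Cfsg.Agent.Lib.Helper4.commutator_transvection (F := F)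
      (Sum.inr_ne_inl : (Sum.inr i : Unit ⊕ Fin m) ≠ Sum.inl ())
      (Sum.inr_injective.ne hj : (Sum.inr i : Unit ⊕ Fin m) ≠ Sum.inr j) Sum.inr_ne_inl t 1
    rw [mul_one] at hc
    rw [← hc, commutatorElement_def, mul_assoc, mul_assoc]
    refine N.mul_mem (h3 i j hj t) ?_
    rw [← mul_assoc]
    exact hN.conj_mem _ (N.inv_mem (h3 i j hj t)) _
  have hall : ∀ (i j : Unit ⊕ Fin m) (hij : i ≠ j) (c : F),
      Matrix.SpecialLinearGroup.transvection hij c ∈ N := by
    rintro (⟨⟩ | i) (⟨⟩ | j) hij c
    · exact absurd rfl hij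
    · exact h2 j c
    · exact h4 i c
    · exact h3 i j (fun h => hij (by rw [h])) c
  haveI : Nontrivial (Unit ⊕ Fin m) :=
    ⟨⟨Sum.inl (), Sum.inr ⟨0, by omega⟩, Sum.inl_ne_inr⟩⟩
  rw [eq_top_iff]
  intro A _
  exact Cfsg.Agent.Lib.Helper4.transvection_induction_gen (fun A => A ∈ N) hall
    (fun A B => N.mul_mem) A

end Cfsg.Agent.Lib.Helper5.MND
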