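import Mathlib
import Cfsg.Agent.Lib.Helper1.MNDDefs
import Cfsg.Agent.Lib.Helper4.SLnGen
import Cfsg.Agent.Lib.Helper2.StSLW
import Cfsg.Agent.Lib.Helper5.MNDA3

set_option autoImplicit false
set_option linter.unusedSectionVars false
set_option linter.unusedVariables false
set_option linter.unusedSimpArgs false
set_option linter.style.haveILetI false

/-!
Farm MND (statement S2332), unit A1: `X_α` and `X_β` are conjugate; the transvection `tvS`;
reindexing `SL (Unit ⊕ Fin (m+1)) ≃* SL (Fin (m+2))`.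
-/

namespace Cfsg.Agent.Lib.Helper5.MND

open Matrix Cfsg Cfsg.Agent.Lib.Lead.LS1 Cfsg.Agent.Lib.Helper1.MND
open Cfsg.Agent.Lib.Helper6.StSL Cfsg.Agent.Lib.Helper2.StSL

section Taut

variable (ι : Type*) [DecidableEq ι] [Fintype ι] (K : Type*) [Field K]

/-- the transvections of `SL_ι(K)` (junk value `1` on the diagonal) -/
noncomputable def tg (i j : ι) (t : K) : Matrix.SpecialLinearGroup ι K :=
  if h : i ≠ j then Matrix.SpecialLinearGroup.transvection h t else 1

variable {ι K}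

theorem tg_of {i j : ι} (h : i ≠ j) (t : K) :
    tg ι K i j t = Matrix.SpecialLinearGroup.transvection h t := by
  unfold tg
  rw [dif_pos h]

theorem tg_comm {i j k l : ι} (hij : i ≠ j) (hkl : k ≠ l) (hil : i ≠ l)
    (hjk : j ≠ k) (t u : K) :
    Matrix.SpecialLinearGroup.transvection hij t * Matrix.SpecialLinearGroup.transvection hkl u =
      Matrix.SpecialLinearGroup.transvection hkl u *
        Matrix.SpecialLinearGroup.transvection hij t := by
  apply Subtype.ext
  simp only [Matrix.SpecialLinearGroup.coe_mul, Matrix.SpecialLinearGroup.transvection_coe,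
    Matrix.transvection, mul_add, add_mul, mul_one, one_mul,
    Matrix.single_mul_single_of_ne _ _ _ _ hjk,
    Matrix.single_mul_single_of_ne _ _ _ _ hil.symm]
  abel

variable (ι K)

/-- `SL_ι(K)` with its transvections is a group with Steinberg generators of type `A` -/
noncomputable def tautG : StA ι K (Matrix.SpecialLinearGroup ι K) where
  x := tg ι K
  x_add := by
    intro i j hij t u
    rw [tg_of hij, tg_of hij, tg_of hij]
    apply Subtype.ext
    exact Matrix.transvection_mul_transvection_same _ _ hij t u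
  comm_ne := by
    intro i j k l hij hkl hil hjk t u
    rw [tg_of hij, tg_of hkl]
    exact tg_comm hij hkl hil hjk t u
  comm_eq := by
    intro i j l hij hjl hil t u
    rw [tg_of hij, tg_of hjl, tg_of hil]
    have := Cfsg.Agent.Lib.Helper4.commutator_transvection (F := K) hil hij hjl t u
    rw [commutatorElement_def] at this
    exact this
  π := MonoidHom.id _
  π_x := by
    intro i j hij t
    rw [MonoidHom.id_apply, tg_of hij]
    rfl

end Taut

variable {F : Type*} [Field F] [Fintype F] [DecidableEq F] {m k : ℕ}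

theorem tvS_eq (t : F) : (tvS t : SS (m + 2) F) =
    Matrix.SpecialLinearGroup.transvection (by simp : (0 : Fin (m + 2)) ≠ 1) t := rfl

/-- `X_α = xm (t e₀)` and `X_β = hb t` are conjugate (3-cycle permutation matrix) -/
theorem hb_conj : ∃ w : GG (m + 2) F, ∀ t : F, w * xm (t • Pi.single 0 1) * w⁻¹ = hb t := by
  let S := tautG (Unit ⊕ Fin (m + 2)) F
  have h3 : 3 ≤ Fintype.card (Unit ⊕ Fin (m + 2)) := by
    simp only [Fintype.card_sum, Fintype.card_unit, Fintype.card_fin]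
    omega
  have h01 : (0 : Fin (m + 2)) ≠ 1 := by simp
  have hab : (Sum.inl () : Unit ⊕ Fin (m + 2)) ≠ Sum.inr 0 := Sum.inl_ne_inr
  have hac : (Sum.inl () : Unit ⊕ Fin (m + 2)) ≠ Sum.inr 1 := Sum.inl_ne_inr
  have hbc : (Sum.inr 0 : Unit ⊕ Fin (m + 2)) ≠ Sum.inr 1 := Sum.inr_injective.ne h01
  refine ⟨S.w (Sum.inl ()) (Sum.inr 0) 1 * S.w (Sum.inr 0) (Sum.inr 1) 1, fun t => ?_⟩
  have e1 : (xm (t • Pi.single 0 1) : GG (m + 2) F) = S.x (Sum.inl ()) (Sum.inr 0) t := by
    rw [xm_single]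
    exact (tg_of hab t).symm
  have e2 : (hb t : GG (m + 2) F) = S.x (Sum.inr 0) (Sum.inr 1) t := by
    show gm (tvS t) = _
    rw [tvS_eq, gm_transvection]
    exact (tg_of hbc t).symm
  rw [e1, e2]
  have e : S.w (Sum.inl ()) (Sum.inr 0) 1 * S.w (Sum.inr 0) (Sum.inr 1) 1 *
      S.x (Sum.inl ()) (Sum.inr 0) t *
      (S.w (Sum.inl ()) (Sum.inr 0) 1 * S.w (Sum.inr 0) (Sum.inr 1) 1)⁻¹
      = S.w (Sum.inl ()) (Sum.inr 0) 1 * (S.w (Sum.inr 0) (Sum.inr 1) 1 *
        S.x (Sum.inl ()) (Sum.inr 0) t * (S.w (Sum.inr 0) (Sum.inr 1) 1)⁻¹) *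
        (S.w (Sum.inl ()) (Sum.inr 0) 1)⁻¹ := by group
  have a1 : Equiv.swap (Sum.inr 0 : Unit ⊕ Fin (m + 2)) (Sum.inr 1) (Sum.inl ()) = Sum.inl () :=
    Equiv.swap_apply_of_ne_of_ne hab hac
  have a2 : Equiv.swap (Sum.inr 0 : Unit ⊕ Fin (m + 2)) (Sum.inr 1) (Sum.inr 0) = Sum.inr 1 :=
    Equiv.swap_apply_left _ _
  have c1 : wc (Sum.inr 0 : Unit ⊕ Fin (m + 2)) (Sum.inr 1) (1 : F) (Sum.inl ()) *
      (wc (Sum.inr 0 : Unit ⊕ Fin (m + 2)) (Sum.inr 1) (1 : F) (Sum.inr 0))⁻¹ * t = -t := by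
    rw [wc_of_ne hab hac, wc_left]
    simp
  have b1 : Equiv.swap (Sum.inl () : Unit ⊕ Fin (m + 2)) (Sum.inr 0) (Sum.inl ()) = Sum.inr 0 :=
    Equiv.swap_apply_left _ _
  have b2 : Equiv.swap (Sum.inl () : Unit ⊕ Fin (m + 2)) (Sum.inr 0) (Sum.inr 1) = Sum.inr 1 :=
    Equiv.swap_apply_of_ne_of_ne hac.symm hbc.symm
  have c2 : wc (Sum.inl () : Unit ⊕ Fin (m + 2)) (Sum.inr 0) (1 : F) (Sum.inl ()) *
      (wc (Sum.inl () : Unit ⊕ Fin (m + 2)) (Sum.inr 0) (1 : F) (Sum.inr 1))⁻¹ * -t = t := by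
    rw [wc_left, wc_of_ne hac.symm hbc.symm]
    simp
  rw [e, w_conj S h3 hbc one_ne_zero hab, a1, a2, c1, w_conj S h3 hab one_ne_zero hac, b1, b2, c2]

theorem tvS_mulVec (t : F) (c : Fin (m + 2) → F) :
    (tvS t : SS (m + 2) F).1 *ᵥ c = c + (t * c 1) • Pi.single 0 1 := by
  show Matrix.transvection (0 : Fin (m + 2)) 1 t *ᵥ c = _
  rw [transvection_mulVec]
  congr 1
  ext i
  simp [Pi.single_apply]

theorem tvS_add (t u : F) : (tvS (t + u) : SS (m + 2) F) = tvS t * tvS u := by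
  apply Subtype.ext
  show Matrix.transvection (0 : Fin (m + 2)) 1 (t + u) =
    Matrix.transvection (0 : Fin (m + 2)) 1 t * Matrix.transvection (0 : Fin (m + 2)) 1 u
  rw [Matrix.transvection_mul_transvection_same _ _ (by simp)]

/-- the bijection `Fin (m+2) ≃ Unit ⊕ Fin (m+1)`, `0 ↦ inl ()`, `i.succ ↦ inr i` -/
def e0 (m : ℕ) : Fin (m + 2) ≃ Unit ⊕ Fin (m + 1) where
  toFun := Fin.cases (Sum.inl ()) (fun i => Sum.inr i)
  invFun := Sum.elim (fun _ => 0) Fin.succ
  left_inv := by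
    intro i
    refine Fin.cases ?_ (fun i => ?_) i
    · simp
    · simp
  right_inv := by
    rintro (⟨⟩ | i)
    · simp
    · simp

theorem e0_zero : e0 m 0 = Sum.inl () := rfl

theorem e0_one : e0 m 1 = Sum.inr 0 := by
  have : (1 : Fin (m + 2)) = Fin.succ 0 := by simp
  rw [this]
  rfl

/-- `SL (Unit ⊕ Fin (m+1)) ≃* SL (Fin (m+2))`, `inl () ↦ 0`, `inr i ↦ i.succ` -/
theorem exists_reidx : ∃ e : GG (m + 1) F ≃* SS (m + 2) F,
    ∀ t : F, e (xm (t • Pi.single 0 1)) = tvS t := by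
  let e : GG (m + 1) F ≃* SS (m + 2) F :=
    { toFun := reindexHom F (e0 m)
      invFun := reindexHom F (e0 m).symm
      left_inv := by
        intro A
        apply Subtype.ext
        ext i j
        show A.1 ((e0 m) ((e0 m).symm i)) ((e0 m) ((e0 m).symm j)) = A.1 i j
        simp
      right_inv := by
        intro A
        apply Subtype.ext
        ext i j
        show A.1 ((e0 m).symm ((e0 m) i)) ((e0 m).symm ((e0 m) j)) = A.1 i j
        simp
      map_mul' := map_mul _ }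
  refine ⟨e, fun t => ?_⟩
  apply Subtype.ext
  ext i j
  show (xm (t • Pi.single 0 1) : GG (m + 1) F).1 (e0 m i) (e0 m j) =
    Matrix.transvection (0 : Fin (m + 2)) 1 t i j
  rw [xm_single, Matrix.SpecialLinearGroup.transvection_coe, ← e0_zero (m := m),
    ← e0_one (m := m)]
  simp [Matrix.transvection, Matrix.single_apply, Matrix.one_apply]

end Cfsg.Agent.Lib.Helper5.MND
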