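import Mathlib
import Cfsg.Agent.Lib.Helper3.MSDefs

/-! S4125 MS farm, piece D0: basics on internal direct decompositions `IsDecomp`. -/

set_option autoImplicit false
set_option linter.unusedVariables false
set_option linter.unusedSectionVars false
set_option linter.style.longLine false

namespace Cfsg.Agent.Lib.Helper3.MS

universe u v

variable {p q : ℕ} {H : Type u} [Group H] {V : Type v} [AddCommGroup V] [DistribMulAction H V]

theorem h5_single_mem {ι : Type*} [DecidableEq ι] {W : ι → AddSubgroup V} {a : ι} {u : V}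
    (hu : u ∈ W a) (k : ι) : (Pi.single a u : ι → V) k ∈ W k := by
  by_cases hk : k = a
  · subst hk
    rw [Pi.single_eq_same]; exact hu
  · rw [Pi.single_eq_of_ne hk]; exact (W k).zero_mem

theorem h5_sum_single {ι : Type*} [Fintype ι] [DecidableEq ι] (a : ι) (u : V) :
    ∑ k, (Pi.single a u : ι → V) k = u := by
  rw [Finset.sum_pi_single']
  simp

theorem IsDecomp.eq_of_mem_of_mem {ι : Type*} [Fintype ι] [DecidableEq ι] {W : ι → AddSubgroup V}
    (hW : IsDecomp W) {i j : ι} {w : V} (hi : w ∈ W i) (hj : w ∈ W j) (hw : w ≠ 0) : i = j := by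
  by_contra hij
  have hmem : ∀ k, ((Pi.single i w : ι → V) k - (Pi.single j w : ι → V) k) ∈ W k :=
    fun k => (W k).sub_mem (h5_single_mem hi k) (h5_single_mem hj k)
  have hsum : ∑ k, ((Pi.single i w : ι → V) k - (Pi.single j w : ι → V) k) = 0 := by
    rw [Finset.sum_sub_distrib, h5_sum_single, h5_sum_single, sub_self]
  have h0 := hW.2 _ hmem hsum i
  rw [Pi.single_eq_same, Pi.single_eq_of_ne hij, sub_zero] at h0
  exact hw h0

theorem IsDecomp.le_of_forall_mem {ι : Type*} [Fintype ι] [DecidableEq ι] {W : ι → AddSubgroup V}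
    (hW : IsDecomp W) (U : AddSubgroup V) (hU : ∀ u ∈ U, ∃ j, u ∈ W j) : ∃ j, U ≤ W j := by
  by_cases hbot : ∀ u ∈ U, u = 0
  · obtain ⟨j, _⟩ := hU 0 U.zero_mem
    exact ⟨j, fun u hu => by rw [hbot u hu]; exact (W j).zero_mem⟩
  · push Not at hbot
    obtain ⟨u0, hu0, hu0ne⟩ := hbot
    obtain ⟨j0, hj0⟩ := hU u0 hu0
    refine ⟨j0, fun u hu => ?_⟩
    by_cases hu0' : u = 0
    · rw [hu0']; exact (W j0).zero_mem
    obtain ⟨j, hj⟩ := hU u hu
    by_cases hjj : j = j0
    · rw [← hjj]; exact hj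
    exfalso
    obtain ⟨k, hk⟩ := hU (u + u0) (U.add_mem hu hu0)
    have hmem : ∀ l, ((Pi.single j u : ι → V) l + (Pi.single j0 u0 : ι → V) l -
        (Pi.single k (u + u0) : ι → V) l) ∈ W l :=
      fun l => (W l).sub_mem ((W l).add_mem (h5_single_mem hj l) (h5_single_mem hj0 l))
        (h5_single_mem hk l)
    have hsum : ∑ l, ((Pi.single j u : ι → V) l + (Pi.single j0 u0 : ι → V) l -
        (Pi.single k (u + u0) : ι → V) l) = 0 := by
      rw [Finset.sum_sub_distrib, Finset.sum_add_distrib, h5_sum_single, h5_sum_single,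
        h5_sum_single, sub_self]
    by_cases hkj : k = j
    · -- then k ≠ j0
      have hkj0 : j0 ≠ k := by rw [hkj]; exact fun h => hjj h.symm
      have h0 := hW.2 _ hmem hsum j0
      rw [Pi.single_eq_of_ne (fun h => hjj h.symm), Pi.single_eq_same, Pi.single_eq_of_ne hkj0,
        zero_add, sub_zero] at h0
      exact hu0ne h0
    · have h0 := hW.2 _ hmem hsum j
      rw [Pi.single_eq_same, Pi.single_eq_of_ne hjj, Pi.single_eq_of_ne (fun h => hkj h.symm),
        add_zero, sub_zero] at h0
      exact hu0' h0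

end Cfsg.Agent.Lib.Helper3.MS
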