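import Mathlib
import Cfsg.Agent.Lib.Helper3.MSDefs
import Cfsg.Agent.Lib.Helper8.MSB1
import Cfsg.Agent.S0675

/-! S4125 MS farm, piece D2a: a transitive permutation representation of prime degree of a minimal counterexample is
2-transitive (Burnside, S0675). -/

set_option autoImplicit false
set_option linter.unusedVariables false
set_option linter.unusedSectionVars false
set_option linter.style.longLine false

namespace Cfsg.Agent.Lib.Helper3.MS

universe u v

variable {p q : ℕ} {H : Type u} [Group H] {V : Type v} [AddCommGroup V] [DistribMulAction H V]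

theorem MinCE.perm_two_trans (h : MinCE p q H V) {ι : Type*} [Fintype ι] [DecidableEq ι]
    (hι : (Fintype.card ι).Prime) (φ : H →* Equiv.Perm ι) (htr : ∀ i j, ∃ x, φ x i = j)
    (i i' j j' : ι) (hi : i ≠ i') (hj : j ≠ j') : ∃ x : H, φ x i = j ∧ φ x i' = j' := by
  have htrG : MulAction.IsPretransitive φ.range ι := ⟨fun a b => by
    obtain ⟨x, hx⟩ := htr a b
    exact ⟨⟨φ x, x, rfl⟩, hx⟩⟩
  rcases Cfsg.Agent.S0675.result hι φ.range with hs | h2
  · exfalso
    obtain ⟨x, hx⟩ := htr i i'
    have h1 := h.hom_trivial φ hs x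
    rw [h1] at hx
    exact hi hx
  · obtain ⟨g, hg1, hg2⟩ := MulAction.is_two_pretransitive_iff.mp h2 hi hj
    obtain ⟨x, hx⟩ := g.2
    refine ⟨x, ?_, ?_⟩
    · rw [hx]; exact hg1
    · rw [hx]; exact hg2

end Cfsg.Agent.Lib.Helper3.MS
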