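import Mathlib
import Cfsg.Agent.Lib.Helper3.MSDefs
import Cfsg.Agent.Lib.Helper5.MSD0

/-! S4125 MS farm, piece D2b: the stabilizer of `w + w'` (nonzero components in two different summands)
stabilizes the pair of indices. -/

set_option autoImplicit false
set_option linter.unusedVariables false
set_option linter.unusedSectionVars false
set_option linter.style.longLine false

namespace Cfsg.Agent.Lib.Helper3.MS

universe u v

variable {p q : ℕ} {H : Type u} [Group H] {V : Type v} [AddCommGroup V] [DistribMulAction H V]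

theorem IsDecomp.stab_pair {ι : Type*} [Fintype ι] [DecidableEq ι] {W : ι → AddSubgroup V}
    (hW : IsDecomp W) (φ : H →* Equiv.Perm ι) (hφ : ∀ x i, ∀ w ∈ W i, x • w ∈ W (φ x i))
    {i i' : ι} (hii : i ≠ i') {w w' : V} (hw : w ∈ W i) (hw' : w' ∈ W i') (hw0 : w ≠ 0) (hw0' : w' ≠ 0)
    (x : H) (hx : x • (w + w') = w + w') :
    (φ x i = i ∧ φ x i' = i') ∨ (φ x i = i' ∧ φ x i' = i) := by
  have haa : φ x i ≠ φ x i' := fun h => hii ((φ x).injective h)
  have hu : x • w ∈ W (φ x i) := hφ x i w hw
  have hu' : x • w' ∈ W (φ x i') := hφ x i' w' hw'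
  have hmem : ∀ l, ((Pi.single (φ x i) (x • w) : ι → V) l + (Pi.single (φ x i') (x • w') : ι → V) l -
      ((Pi.single i w : ι → V) l + (Pi.single i' w' : ι → V) l)) ∈ W l :=
    fun l => (W l).sub_mem ((W l).add_mem (h5_single_mem hu l) (h5_single_mem hu' l))
      ((W l).add_mem (h5_single_mem hw l) (h5_single_mem hw' l))
  have hsum : ∑ l, ((Pi.single (φ x i) (x • w) : ι → V) l + (Pi.single (φ x i') (x • w') : ι → V) l -
      ((Pi.single i w : ι → V) l + (Pi.single i' w' : ι → V) l)) = 0 := by
    rw [Finset.sum_sub_distrib, Finset.sum_add_distrib, Finset.sum_add_distrib, h5_sum_single,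
      h5_sum_single, h5_sum_single, h5_sum_single, ← smul_add, hx, sub_self]
  have hall := hW.2 _ hmem hsum
  -- at `i`: one of the images is `i`
  have h1 : φ x i = i ∨ φ x i' = i := by
    by_contra hcon
    push Not at hcon
    have h0 := hall i
    rw [Pi.single_eq_of_ne (fun h => hcon.1 h.symm), Pi.single_eq_of_ne (fun h => hcon.2 h.symm),
      Pi.single_eq_same, Pi.single_eq_of_ne hii, add_zero, add_zero, zero_sub, neg_eq_zero] at h0
    exact hw0 h0
  have h2 : φ x i = i' ∨ φ x i' = i' := by
    by_contra hcon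
    push Not at hcon
    have h0 := hall i'
    rw [Pi.single_eq_of_ne (fun h => hcon.1 h.symm), Pi.single_eq_of_ne (fun h => hcon.2 h.symm),
      Pi.single_eq_same, Pi.single_eq_of_ne (fun h => hii h.symm), add_zero, zero_add, zero_sub,
      neg_eq_zero] at h0
    exact hw0' h0
  rcases h1 with h1 | h1
  · rcases h2 with h2 | h2
    · exact absurd (h1.symm.trans h2) hii
    · exact Or.inl ⟨h1, h2⟩
  · rcases h2 with h2 | h2
    · exact Or.inr ⟨h2, h1⟩
    · exact absurd (h2.symm.trans h1) (fun h => hii h.symm)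

end Cfsg.Agent.Lib.Helper3.MS
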