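import Mathlib
import Cfsg.Agent.Lib.Helper3.MSDefs
import Cfsg.Agent.Lib.Helper8.MSB1
import Cfsg.Agent.Lib.Helper5.MSD0
import Cfsg.Agent.Lib.Helper7.MSD1
import Cfsg.Agent.Lib.Helper5.MSD2a
import Cfsg.Agent.Lib.Helper5.MSD2b
import Cfsg.Agent.Lib.Helper9.MSD2c
import Cfsg.Agent.Lib.Helper1.Dv8

/-! S4125 MS farm, piece D2: in a minimal counterexample no decomposition of `V` into `p` summands is permuted
transitively by the Sylow `p`-subgroup. -/

set_option autoImplicit false
set_option linter.unusedVariables false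
set_option linter.unusedSectionVars false
set_option linter.style.longLine false

namespace Cfsg.Agent.Lib.Helper3.MS

universe u v

variable {p q : ℕ} {H : Type u} [Group H] {V : Type v} [AddCommGroup V] [DistribMulAction H V]

theorem h5_choose_two_not_dvd_pow (p a : ℕ) (hp : p.Prime) (h5 : 5 ≤ p) : ¬ p.choose 2 ∣ p ^ a := by
  intro hdvd
  obtain ⟨m, hm⟩ : ∃ m, p = 2 * m + 1 := by
    rcases hp.eq_two_or_odd with h2 | hodd
    · omega
    · exact ⟨p / 2, by omega⟩
  have hm2 : 2 ≤ m := by omega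
  have hc : p.choose 2 = p * m := by
    rw [Nat.choose_two_right]
    have : p * (p - 1) = 2 * (p * m) := by
      have : p - 1 = 2 * m := by omega
      rw [this]; ring
    rw [this, Nat.mul_div_cancel_left _ (by norm_num : 0 < 2)]
  rw [hc] at hdvd
  have hmd : m ∣ p ^ a := (Dvd.intro_left p rfl).trans hdvd
  obtain ⟨b, _, hb⟩ := (Nat.dvd_prime_pow hp).mp hmd
  rcases Nat.eq_zero_or_pos b with hb0 | hbpos
  · rw [hb0, pow_zero] at hb; omega
  · have : p ≤ m := by
      rw [hb]
      calc p = p ^ 1 := (pow_one p).symm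
        _ ≤ p ^ b := Nat.pow_le_pow_right hp.pos hbpos
    omega

theorem MinCE.no_transitive_decomp (h : MinCE p q H V) [Fact p.Prime] {ι : Type*} [Fintype ι] [DecidableEq ι]
    (hι : Fintype.card ι = p) (W : ι → AddSubgroup V) (hW : IsDecomp W) (hne : ∀ i, W i ≠ ⊥)
    (P : Sylow p H) (hperm : ∀ g ∈ P, ∀ i, ∃ j, ∀ w ∈ W i, g • w ∈ W j)
    (htrans : ∀ i j, ∃ g ∈ P, ∀ w ∈ W i, g • w ∈ W j) : False := by
  have hpp : p.Prime := Fact.out
  obtain ⟨φ, hφ⟩ := h.toHyp.perm_of_sylow_perm W hW hne P hperm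
  -- nonzero vectors in each summand
  have hnz : ∀ i, ∃ w ∈ W i, w ≠ 0 := by
    intro i
    obtain ⟨a, ha⟩ := (AddSubgroup.ne_bot_iff_exists_ne_zero).mp (hne i)
    exact ⟨a.1, a.2, fun h0 => ha (Subtype.ext h0)⟩
  -- φ is transitive
  have htr : ∀ i j, ∃ x, φ x i = j := by
    intro i j
    obtain ⟨g, hgP, hg⟩ := htrans i j
    obtain ⟨w, hw, hw0⟩ := hnz i
    refine ⟨g, ?_⟩
    have h1 : g • w ∈ W j := hg w hw
    have h2 : g • w ∈ W (φ g i) := hφ g i w hw
    have h3 : g • w ≠ 0 := fun h0 => hw0 ((smul_eq_zero_iff_eq g).mp h0)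
    exact hW.eq_of_mem_of_mem h2 h1 h3
  -- two distinct indices
  have hcard : 1 < Fintype.card ι := by rw [hι]; exact hpp.one_lt
  obtain ⟨i, i', hii⟩ := Fintype.exists_pair_of_one_lt_card hcard
  by_cases hp3 : p ≤ 4
  · -- `Perm ι` is solvable
    have hsolv : Group.IsSolvable (Equiv.Perm ι) :=
      Cfsg.Agent.Lib.Helper1.Dv.perm_solvable_le_four (by rw [hι]; exact hp3)
    have hs : Group.IsSolvable φ.range := inferInstance
    obtain ⟨x, hx⟩ := htr i i'
    have h1 := h.hom_trivial φ hs x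
    rw [h1] at hx
    exact hii hx
  · have h5 : 5 ≤ p := by
      have : p ≠ 4 := by
        intro h4
        rw [h4] at hpp
        exact absurd hpp (by norm_num)
      omega
    have h2t := h.perm_two_trans (by rw [hι]; exact hpp) φ htr
    obtain ⟨w, hw, hw0⟩ := hnz i
    obtain ⟨w', hw', hw0'⟩ := hnz i'
    obtain ⟨a, ha⟩ := h.orb (w + w')
    have hS : ∀ x ∈ MulAction.stabilizer H (w + w'),
        (φ x i = i ∧ φ x i' = i') ∨ (φ x i = i' ∧ φ x i' = i) := by
      intro x hx
      exact hW.stab_pair φ hφ hii hw hw' hw0 hw0' x (MulAction.mem_stabilizer_iff.mp hx)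
    have : Finite H := h.finH
    have hdvd := pair_index_dvd φ h2t (MulAction.stabilizer H (w + w')) i i' hii hS
    rw [ha, hι] at hdvd
    exact h5_choose_two_not_dvd_pow p a hpp h5 hdvd

end Cfsg.Agent.Lib.Helper3.MS
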