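import Mathlib
import Cfsg.Agent.Lib.Helper5.SL2Cyclic
import Cfsg.Agent.Lib.Lead.UniqueP
import Cfsg.Agent.Lib.Helper3.QuatLift

set_option autoImplicit false
set_option linter.unusedSectionVars false
set_option linter.unusedVariables false
set_option linter.unusedSimpArgs false

/-! The Sylow 2-subgroups of `SL_2(q)`, `q` odd, are generalised quaternion. -/

namespace Cfsg.Agent.Lib.Helper5.SL2Quat

open Matrix Cfsg.Agent.Lib.Helper5.SL2Cyclic

section general
variable {F : Type*} [Field F]

/-- the only involution of `SL_2(F)` in characteristic not two is `-1` -/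
theorem eq_one_or_neg_one (h2 : (2 : F) ≠ 0) (x : Matrix.SpecialLinearGroup (Fin 2) F)
    (hx : x ^ 2 = 1) :
    (x : Matrix (Fin 2) (Fin 2) F) = 1 ∨ (x : Matrix (Fin 2) (Fin 2) F) = -1 := by
  set X : Matrix (Fin 2) (Fin 2) F := (x : Matrix (Fin 2) (Fin 2) F) with hX
  have hXX : X * X = 1 := by
    have := congrArg (fun y : Matrix.SpecialLinearGroup (Fin 2) F =>
      (y : Matrix (Fin 2) (Fin 2) F)) hx
    simpa [pow_two] using this
  have hCH : X * X = X.trace • X - 1 := by rw [cayley2, hX, x.2, one_smul]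
  rw [hXX] at hCH
  have ht : X.trace • X = (2 : F) • 1 := by
    have : X.trace • X - (2 : F) • 1 = 0 := by
      have h5 : (1 : Matrix (Fin 2) (Fin 2) F) - (X.trace • X - 1) = 0 := sub_eq_zero.mpr hCH
      rw [← neg_eq_zero, ← h5]
      module
    exact sub_eq_zero.mp this
  have ht0 : X.trace ≠ 0 := by
    intro h
    rw [h, zero_smul] at ht
    have := congrFun (congrFun ht 0) 0
    simp at this
    exact h2 this.symm
  set s : F := 2 / X.trace with hs
  have hXs : X = s • 1 := by
    rw [hs, div_eq_inv_mul, mul_smul, ← ht, smul_smul, inv_mul_cancel₀ ht0, one_smul]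
  have hs2 : s * s = 1 := by
    have := x.2
    rw [← hX, hXs, det_smul, det_one, Fintype.card_fin, mul_one, pow_two] at this
    exact this
  have : (s - 1) * (s + 1) = 0 := by linear_combination hs2
  rcases mul_eq_zero.mp this with h | h
  · left
    rw [hXs, sub_eq_zero.mp h, one_smul]
  · right
    rw [hXs, eq_neg_of_add_eq_zero_left h, neg_smul, one_smul]

/-- the element `i` -/
def qi (F : Type*) [Field F] : Matrix.SpecialLinearGroup (Fin 2) F :=
  ⟨!![0, 1; -1, 0], by simp [det_fin_two]⟩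

/-- the element `j` -/
def qj (a b : F) (hab : a ^ 2 + b ^ 2 = -1) : Matrix.SpecialLinearGroup (Fin 2) F :=
  ⟨!![a, b; b, -a], by rw [det_fin_two]; simp; linear_combination -hab⟩

/-- the element `-1` -/
def negOne (F : Type*) [Field F] : Matrix.SpecialLinearGroup (Fin 2) F :=
  ⟨-1, by simp [det_fin_two]⟩

theorem qi_sq : (qi F) ^ 2 = negOne F := by
  apply Subtype.ext
  rw [Matrix.SpecialLinearGroup.coe_pow, pow_two]
  show (!![0, 1; -1, 0] : Matrix (Fin 2) (Fin 2) F) * !![0, 1; -1, 0] = -1
  ext i j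
  fin_cases i <;> fin_cases j <;> simp [mul_apply, Fin.sum_univ_two]

theorem qj_sq (a b : F) (hab : a ^ 2 + b ^ 2 = -1) :
    qj a b hab * qj a b hab = negOne F := by
  apply Subtype.ext
  show (!![a, b; b, -a] : Matrix (Fin 2) (Fin 2) F) * !![a, b; b, -a] = -1
  ext i j
  fin_cases i <;> fin_cases j <;> simp [mul_apply, Fin.sum_univ_two]
  · linear_combination hab
  · ring
  · ring
  · linear_combination hab

theorem qi_pow_four : (qi F) ^ (2 * 2) = 1 := by
  rw [pow_mul, qi_sq, pow_two]
  apply Subtype.ext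
  show (-1 : Matrix (Fin 2) (Fin 2) F) * -1 = 1
  simp

theorem qj_qi (a b : F) (hab : a ^ 2 + b ^ 2 = -1) :
    qj a b hab * qi F * (qj a b hab)⁻¹ = (qi F)⁻¹ := by
  rw [mul_inv_eq_iff_eq_mul, eq_inv_mul_iff_mul_eq]
  apply Subtype.ext
  show (!![0, 1; -1, 0] : Matrix (Fin 2) (Fin 2) F) * (!![a, b; b, -a] * !![0, 1; -1, 0]) =
    !![a, b; b, -a]
  ext i j
  fin_cases i <;> fin_cases j <;> simp [mul_apply, Fin.sum_univ_two]

theorem qi_qj_ne (h2 : (2 : F) ≠ 0) (a b : F) (hab : a ^ 2 + b ^ 2 = -1) :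
    qi F * qj a b hab ≠ qj a b hab * qi F := by
  intro h
  have h1 : (!![0, 1; -1, 0] : Matrix (Fin 2) (Fin 2) F) * !![a, b; b, -a] =
      !![a, b; b, -a] * !![0, 1; -1, 0] := congrArg Subtype.val h
  have e00 := congrFun (congrFun h1 0) 0
  have e01 := congrFun (congrFun h1 0) 1
  simp [mul_apply, Fin.sum_univ_two] at e00 e01
  have hb : b = 0 := by
    have : (2 : F) * b = 0 := by linear_combination e00
    exact (mul_eq_zero.mp this).resolve_left h2
  have ha : a = 0 := by
    have : (2 : F) * a = 0 := by linear_combination -e01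
    exact (mul_eq_zero.mp this).resolve_left h2
  rw [ha, hb] at hab
  norm_num at hab

end general

section finite
variable {F : Type*} [Field F] [Fintype F]
open Cfsg.Agent.Lib.Lead.UniqueP Cfsg.Agent.Lib.Helper3

/-- the Sylow 2-subgroups of `SL_2(q)`, `q` odd, are generalised quaternion -/
theorem sylow_two_quaternion (hF : Odd (Fintype.card F))
    (P : Sylow 2 (Matrix.SpecialLinearGroup (Fin 2) F)) :
    ∃ k : ℕ, 1 ≤ k ∧ Nonempty
      (↥(P : Subgroup (Matrix.SpecialLinearGroup (Fin 2) F)) ≃* QuaternionGroup (2 ^ k)) := by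
  have hchar : ringChar F ≠ 2 := by
    intro h
    have := FiniteField.even_card_of_char_two h
    rcases hF with ⟨k, hk⟩
    omega
  have h2 : (2 : F) ≠ 0 := Ring.two_ne_zero hchar
  have : Fact (Nat.Prime 2) := ⟨Nat.prime_two⟩
  -- unique involution
  have huop : UOP 2 ↥(P : Subgroup (Matrix.SpecialLinearGroup (Fin 2) F)) := by
    intro x y hx hy hx1
    have hx' : x.1 ^ 2 = 1 := by
      have := congrArg Subtype.val hx
      simpa using this
    have hy' : y.1 ^ 2 = 1 := by
      have := congrArg Subtype.val hy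
      simpa using this
    rcases eq_one_or_neg_one h2 x.1 hx' with h | h
    · exfalso
      apply hx1
      apply Subtype.ext
      apply Subtype.ext
      exact h
    · rcases eq_one_or_neg_one h2 y.1 hy' with h' | h'
      · have : y = 1 := by
          apply Subtype.ext
          apply Subtype.ext
          exact h'
        rw [this]
        exact one_mem _
      · have : y = x := by
          apply Subtype.ext
          apply Subtype.ext
          rw [h, h']
        rw [this]
        exact Subgroup.mem_zpowers x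
  -- a non-commuting pair
  have hnc : ∃ u v : ↥(P : Subgroup (Matrix.SpecialLinearGroup (Fin 2) F)), u * v ≠ v * u := by
    obtain ⟨p, hp⟩ := CharP.exists F
    have := hp
    have hp0 : p ≠ 0 := by
      intro h
      subst h
      have : CharZero F := CharP.charP_to_charZero F
      exact not_finite F
    have : NeZero p := ⟨hp0⟩
    obtain ⟨a, b, hab⟩ := CharP.sq_add_sq F p (-1)
    have hab' : (a : F) ^ 2 + (b : F) ^ 2 = -1 := by
      rw [hab]; simp
    set φ := quatLift 2 (qi F) (qj (a : F) (b : F) hab') qi_pow_four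
      (by rw [qj_sq, qi_sq]) (qj_qi _ _ hab') with hφ
    have hQ8 : IsPGroup 2 (QuaternionGroup 2) := by
      apply IsPGroup.of_card (n := 3)
      rw [Nat.card_eq_fintype_card, QuaternionGroup.card]
      norm_num
    have hrange : IsPGroup 2 ↥φ.range := hQ8.of_surjective φ.rangeRestrict φ.rangeRestrict_surjective
    obtain ⟨Q, hQ⟩ := hrange.exists_le_sylow
    obtain ⟨g, hg⟩ := MulAction.exists_smul_eq (Matrix.SpecialLinearGroup (Fin 2) F) Q P
    have hi : qi F ∈ φ.range := by
      refine ⟨QuaternionGroup.a ((1 : ℕ) : ZMod (2 * 2)), ?_⟩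
      rw [hφ, quatLift_a_natCast, pow_one]
    have hj : qj (a : F) (b : F) hab' ∈ φ.range := by
      refine ⟨QuaternionGroup.xa 0, ?_⟩
      rw [hφ, quatLift_xa, zmodPw_zero, mul_one]
    have hmem : ∀ y ∈ φ.range, g * y * g⁻¹ ∈ (P : Subgroup (Matrix.SpecialLinearGroup (Fin 2) F)) := by
      intro y hy
      rw [← hg, Sylow.coe_subgroup_smul]
      rw [Subgroup.mem_smul_pointwise_iff_exists]
      exact ⟨y, hQ hy, rfl⟩
    refine ⟨⟨_, hmem _ hi⟩, ⟨_, hmem _ hj⟩, ?_⟩
    intro h
    have h1 : g * qi F * g⁻¹ * (g * qj (a : F) (b : F) hab' * g⁻¹) =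
        g * qj (a : F) (b : F) hab' * g⁻¹ * (g * qi F * g⁻¹) := congrArg Subtype.val h
    apply qi_qj_ne h2 (a : F) (b : F) hab'
    have h3 : g⁻¹ * (g * qi F * g⁻¹ * (g * qj (a : F) (b : F) hab' * g⁻¹)) * g =
        g⁻¹ * (g * qj (a : F) (b : F) hab' * g⁻¹ * (g * qi F * g⁻¹)) * g := by rw [h1]
    have e1 : g⁻¹ * (g * qi F * g⁻¹ * (g * qj (a : F) (b : F) hab' * g⁻¹)) * g =
        qi F * qj (a : F) (b : F) hab' := by group
    have e2 : g⁻¹ * (g * qj (a : F) (b : F) hab' * g⁻¹ * (g * qi F * g⁻¹)) * g =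
        qj (a : F) (b : F) hab' * qi F := by group
    rw [e1, e2] at h3
    exact h3
  obtain ⟨u, v, huv⟩ := hnc
  rcases cyclic_or_quaternion 2 P.isPGroup' huop with hc | ⟨-, n, ⟨e⟩⟩
  · exfalso
    exact huv (comm_of_isCyclic u v)
  · refine ⟨n, ?_, ⟨e⟩⟩
    by_contra hn
    have hn0 : n = 0 := by omega
    subst hn0
    have hcard : Nat.card ↥(P : Subgroup (Matrix.SpecialLinearGroup (Fin 2) F)) = 2 ^ 2 := by
      rw [Nat.card_congr e.toEquiv, Nat.card_eq_fintype_card, QuaternionGroup.card]
      norm_num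
    have hcomm := IsPGroup.isMulCommutative_of_card_eq_prime_sq hcard
    exact huv (mul_comm' u v)

end finite

end Cfsg.Agent.Lib.Helper5.SL2Quat
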