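import Mathlib
import Cfsg.Agent.Lib.Helper5.SL2Cyclic
import Cfsg.Agent.Lib.Helper4.SLCenter

set_option autoImplicit false
set_option linter.unusedSectionVars false
set_option linter.unusedVariables false
set_option linter.unusedSimpArgs false

/-! The Sylow 2-subgroups of `PSL_2(q)`, `q ≡ 3, 5 (mod 8)`, are Klein four-groups. -/

namespace Cfsg.Agent.Lib.Helper5.PSL2Klein

open Matrix Cfsg.Agent.Lib.Helper5.SL2Cyclic

section general
variable {F : Type*} [Field F]

/-- if the fourth power of an element of `SL_2(F)` is scalar then its square is scalar or `2` is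
a square in `F` -/
theorem sq_scalar_or_isSquare_two (g : Matrix.SpecialLinearGroup (Fin 2) F) (s : F)
    (h4 : (g : Matrix (Fin 2) (Fin 2) F) ^ 4 = s • 1) :
    (∃ c : F, (g : Matrix (Fin 2) (Fin 2) F) ^ 2 = c • 1) ∨ IsSquare (2 : F) := by
  set X : Matrix (Fin 2) (Fin 2) F := (g : Matrix (Fin 2) (Fin 2) F) with hX
  set t : F := X.trace with ht
  have hCH : X * X = t • X - 1 := by
    rw [cayley2, hX, g.2, one_smul]
  have h2 : X ^ 2 = t • X - 1 := by rw [pow_two, hCH]
  have h4' : X ^ 4 = (t ^ 3 - 2 * t) • X + (1 - t ^ 2) • 1 := by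
    have : X ^ 4 = X ^ 2 * X ^ 2 := by rw [← pow_add]
    rw [this, h2, sub_mul, mul_sub, mul_sub, mul_one, one_mul, mul_one, smul_mul_assoc,
      mul_smul_comm, hCH]
    module
  rw [h4] at h4'
  have hrel : (t * (t ^ 2 - 2)) • X = (s - 1 + t ^ 2) • 1 := by
    have : (t * (t ^ 2 - 2)) • X - (s - 1 + t ^ 2) • 1 = 0 := by
      have h5 : s • (1 : Matrix (Fin 2) (Fin 2) F) -
          ((t ^ 3 - 2 * t) • X + (1 - t ^ 2) • 1) = 0 := sub_eq_zero.mpr h4'
      rw [← neg_eq_zero, ← h5]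
      module
    exact sub_eq_zero.mp this
  by_cases h : t * (t ^ 2 - 2) = 0
  · rcases mul_eq_zero.mp h with h0 | h0
    · left
      refine ⟨-1, ?_⟩
      rw [h2, h0]
      module
    · right
      exact ⟨t, by linear_combination -h0⟩
  · left
    set c : F := (s - 1 + t ^ 2) / (t * (t ^ 2 - 2)) with hc
    have hXc : X = c • 1 := by
      rw [hc, div_eq_inv_mul, mul_smul, ← hrel, smul_smul, inv_mul_cancel₀ h, one_smul]
    refine ⟨c * c, ?_⟩
    rw [pow_two]
    nth_rewrite 1 2 [hXc]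
    rw [smul_mul_smul_comm, mul_one]

end general

section finite
variable {F : Type*} [Field F] [Fintype F]

/-- an element of `PSL_2(q)`, `q ≡ 3, 5 (mod 8)`, whose fourth power is trivial has trivial
square -/
theorem sq_eq_one_of_pow_four (hq : Fintype.card F % 8 = 3 ∨ Fintype.card F % 8 = 5)
    (x : Matrix.ProjectiveSpecialLinearGroup (Fin 2) F) (hx : x ^ 4 = 1) : x ^ 2 = 1 := by
  obtain ⟨g, rfl⟩ := QuotientGroup.mk'_surjective
    (Subgroup.center (Matrix.SpecialLinearGroup (Fin 2) F)) x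
  set π := QuotientGroup.mk' (Subgroup.center (Matrix.SpecialLinearGroup (Fin 2) F)) with hπ
  have h4c : g ^ 4 ∈ Subgroup.center (Matrix.SpecialLinearGroup (Fin 2) F) := by
    rw [← QuotientGroup.eq_one_iff]
    show π (g ^ 4) = 1
    rw [map_pow]; exact hx
  obtain ⟨r, hr, hrg⟩ := Matrix.SpecialLinearGroup.mem_center_iff.mp h4c
  have h4 : (g : Matrix (Fin 2) (Fin 2) F) ^ 4 = r • 1 := by
    rw [← Matrix.SpecialLinearGroup.coe_pow, ← hrg, scalar_apply, ← smul_one_eq_diagonal]
  rcases sq_scalar_or_isSquare_two g r h4 with ⟨c, hc⟩ | hsq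
  · have h2c : g ^ 2 ∈ Subgroup.center (Matrix.SpecialLinearGroup (Fin 2) F) := by
      rw [Matrix.SpecialLinearGroup.mem_center_iff]
      refine ⟨c, ?_, ?_⟩
      · have := (g ^ 2).2
        rw [Matrix.SpecialLinearGroup.coe_pow, hc, det_smul, det_one, mul_one] at this
        exact this
      · rw [Matrix.SpecialLinearGroup.coe_pow, hc, scalar_apply, ← smul_one_eq_diagonal]
    have : π (g ^ 2) = 1 := (QuotientGroup.eq_one_iff _).mpr h2c
    rw [map_pow] at this
    exact this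
  · exfalso
    have := FiniteField.isSquare_two_iff.mp hsq
    rcases hq with h | h
    · exact this.1 h
    · exact this.2 h

theorem card_PSL2 (hq : Fintype.card F % 8 = 3 ∨ Fintype.card F % 8 = 5) :
    ∃ m : ℕ, ¬ 2 ∣ m ∧ Nat.card (Matrix.ProjectiveSpecialLinearGroup (Fin 2) F) = 4 * m := by
  have h1 := Cfsg.Agent.Lib.Helper4.card_PSL_mul (F := F) 2 (by norm_num)
  rw [Cfsg.Agent.Lib.Helper4.card_SL2] at h1
  set q := Fintype.card F with hqdef
  set N := Nat.card (Matrix.ProjectiveSpecialLinearGroup (Fin 2) F) with hN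
  rcases hq with h | h
  · obtain ⟨k, hk⟩ : ∃ k, q = 8 * k + 3 := ⟨q / 8, by omega⟩
    have hg : Nat.gcd 2 (q - 1) = 2 := by
      rw [hk]
      have : 8 * k + 3 - 1 = 2 * (4 * k + 1) := by omega
      rw [this]
      exact Nat.gcd_mul_right_right _ _
    rw [hg] at h1
    have hq2 : q ^ 2 - 1 = 8 * (8 * k ^ 2 + 6 * k + 1) := by
      rw [hk]
      have : (8 * k + 3) ^ 2 = 8 * (8 * k ^ 2 + 6 * k + 1) + 1 := by ring
      rw [this]; omega
    rw [hq2] at h1
    refine ⟨q * (8 * k ^ 2 + 6 * k + 1), ?_, ?_⟩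
    · rw [Nat.Prime.dvd_mul Nat.prime_two]
      omega
    · have : 2 * N = 2 * (4 * (q * (8 * k ^ 2 + 6 * k + 1))) := by rw [h1]; ring
      exact Nat.eq_of_mul_eq_mul_left (by norm_num) this
  · obtain ⟨k, hk⟩ : ∃ k, q = 8 * k + 5 := ⟨q / 8, by omega⟩
    have hg : Nat.gcd 2 (q - 1) = 2 := by
      rw [hk]
      have : 8 * k + 5 - 1 = 2 * (4 * k + 2) := by omega
      rw [this]
      exact Nat.gcd_mul_right_right _ _
    rw [hg] at h1
    have hq2 : q ^ 2 - 1 = 8 * (8 * k ^ 2 + 10 * k + 3) := by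
      rw [hk]
      have : (8 * k + 5) ^ 2 = 8 * (8 * k ^ 2 + 10 * k + 3) + 1 := by ring
      rw [this]; omega
    rw [hq2] at h1
    refine ⟨q * (8 * k ^ 2 + 10 * k + 3), ?_, ?_⟩
    · rw [Nat.Prime.dvd_mul Nat.prime_two]
      omega
    · have : 2 * N = 2 * (4 * (q * (8 * k ^ 2 + 10 * k + 3))) := by rw [h1]; ring
      exact Nat.eq_of_mul_eq_mul_left (by norm_num) this

/-- the Sylow 2-subgroups of `PSL_2(q)`, `q ≡ 3, 5 (mod 8)`, are Klein four-groups -/
theorem isKleinFour_sylow (hq : Fintype.card F % 8 = 3 ∨ Fintype.card F % 8 = 5)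
    (P : Sylow 2 (Matrix.ProjectiveSpecialLinearGroup (Fin 2) F)) :
    IsKleinFour ↥(P : Subgroup (Matrix.ProjectiveSpecialLinearGroup (Fin 2) F)) := by
  obtain ⟨m, hm2, hm⟩ := card_PSL2 hq
  have hm0 : m ≠ 0 := by
    rintro rfl
    exact hm2 (dvd_zero 2)
  have hcard : Nat.card ↥(P : Subgroup (Matrix.ProjectiveSpecialLinearGroup (Fin 2) F)) = 4 := by
    rw [Sylow.card_eq_multiplicity, hm, Nat.factorization_mul (by norm_num) hm0]
    have h4 : (4 : ℕ).factorization 2 = 2 := by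
      have : (4 : ℕ) = 2 ^ 2 := by norm_num
      rw [this, Nat.Prime.factorization_pow Nat.prime_two]
      simp
    have hmf : m.factorization 2 = 0 := Nat.factorization_eq_zero_of_not_dvd hm2
    simp [h4, hmf]
  have hsq : ∀ y : ↥(P : Subgroup (Matrix.ProjectiveSpecialLinearGroup (Fin 2) F)), y ^ 2 = 1 := by
    intro y
    have h1 : y ^ 4 = 1 := by
      have := pow_card_eq_one' (G := ↥(P : Subgroup (Matrix.ProjectiveSpecialLinearGroup (Fin 2) F)))
        (x := y)
      rwa [hcard] at this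
    have h2 : (y : Matrix.ProjectiveSpecialLinearGroup (Fin 2) F) ^ 4 = 1 := by
      have := congrArg Subtype.val h1
      simpa using this
    apply Subtype.ext
    have := sq_eq_one_of_pow_four hq _ h2
    simpa using this
  refine ⟨hcard, ?_⟩
  have hdvd : Monoid.exponent ↥(P : Subgroup (Matrix.ProjectiveSpecialLinearGroup (Fin 2) F)) ∣ 2 :=
    Monoid.exponent_dvd_of_forall_pow_eq_one hsq
  rcases (Nat.dvd_prime Nat.prime_two).mp hdvd with h | h
  · exfalso
    have hsub := Monoid.exp_eq_one_iff.mp h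
    have := Nat.card_eq_one_iff_unique.mpr ⟨hsub, ⟨1⟩⟩
    omega
  · exact h

end finite

end Cfsg.Agent.Lib.Helper5.PSL2Klein
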