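import Mathlib
import Cfsg.Agent.Lib.Helper5.SL2Quat
import Cfsg.Agent.Lib.Helper5.SumTwoSq

set_option autoImplicit false

/-! Subgroups of order four of `SL_2(q)`, `q` odd. -/

namespace Cfsg.Agent.Lib.Helper5.SL2Four

open Matrix Cfsg.Agent.Lib.Helper5.SL2Cyclic Cfsg.Agent.Lib.Helper5.SL2Quat
  Cfsg.Agent.Lib.Helper5.SumTwoSq

section general
variable {F : Type*} [Field F]

theorem entries (x : Matrix.SpecialLinearGroup (Fin 2) F) :
    x.1 0 0 * x.1 1 1 - x.1 0 1 * x.1 1 0 = 1 := by
  have := x.2
  rw [det_fin_two] at this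
  exact this

theorem trace_eq (x : Matrix.SpecialLinearGroup (Fin 2) F) :
    x.1.trace = x.1 0 0 + x.1 1 1 := Matrix.trace_fin_two _

/-- `x ^ 2 = -1` iff the trace vanishes -/
theorem sq_eq_negOne_iff (x : Matrix.SpecialLinearGroup (Fin 2) F) :
    x * x = negOne F ↔ x.1.trace = 0 := by
  have hc := cayley2 x.1
  rw [x.2, one_smul] at hc
  constructor
  · intro h
    have h1 : x.1 * x.1 = -1 := congrArg Subtype.val h
    rw [h1] at hc
    have h2 : x.1.trace • x.1 = 0 := by
      have : x.1.trace • x.1 - 1 + 1 = -1 + 1 := by rw [← hc]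
      simpa using this
    by_contra hne
    have h3 : x.1 = 0 := by
      rcases smul_eq_zero.mp h2 with h | h
      · exact absurd h hne
      · exact h
    have := x.2
    rw [h3, det_zero] at this
    exact zero_ne_one this
  · intro h
    apply Subtype.ext
    show x.1 * x.1 = -1
    rw [hc, h, zero_smul, zero_sub]

theorem qi_trace : (qi F).1.trace = 0 := by
  rw [trace_eq]
  show (!![0, 1; -1, 0] : Matrix (Fin 2) (Fin 2) F) 0 0 +
    (!![0, 1; -1, 0] : Matrix (Fin 2) (Fin 2) F) 1 1 = 0
  simp

theorem negOne_mem_center (g : Matrix.SpecialLinearGroup (Fin 2) F) :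
    g * negOne F = negOne F * g := by
  apply Subtype.ext
  show g.1 * (-1) = (-1) * g.1
  simp

theorem negOne_mul_self : negOne F * negOne F = 1 := by
  apply Subtype.ext
  show (-1 : Matrix (Fin 2) (Fin 2) F) * -1 = 1
  simp

theorem trace_conj (g x : Matrix.SpecialLinearGroup (Fin 2) F) :
    (g * x * g⁻¹).1.trace = x.1.trace := by
  show (g.1 * x.1 * (g⁻¹).1).trace = x.1.trace
  rw [Matrix.trace_mul_comm, ← mul_assoc]
  have : (g⁻¹).1 * g.1 = ((g⁻¹ * g : Matrix.SpecialLinearGroup (Fin 2) F)).1 := rfl
  rw [this, inv_mul_cancel]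
  show ((1 : Matrix (Fin 2) (Fin 2) F) * x.1).trace = _
  rw [one_mul]

end general

section finite
variable {F : Type*} [Field F] [Fintype F]

/-- every trace-zero element of `SL_2(q)` is conjugate to `qi` -/
theorem exists_conj (hodd : Fintype.card F % 2 = 1) (x : Matrix.SpecialLinearGroup (Fin 2) F)
    (htr : x.1.trace = 0) : ∃ P : Matrix.SpecialLinearGroup (Fin 2) F, x * P = P * qi F := by
  have h2 : (2 : F) ≠ 0 := two_ne_zero_of_odd hodd
  have hdet := entries x
  rw [trace_eq] at htr
  set a := x.1 0 0 with ha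
  set b := x.1 0 1 with hb
  set c := x.1 1 0 with hc
  set d := x.1 1 1 with hd
  have hx : x.1 = !![a, b; c, d] := by
    ext i j
    fin_cases i <;> fin_cases j <;> rfl
  have key : ∃ u1 u2 : F, -c * u1 ^ 2 + 2 * a * u1 * u2 + b * u2 ^ 2 = 1 := by
    by_cases hc0 : c = 0
    · have ha2 : a * d = 1 := by rw [hc0, mul_zero, sub_zero] at hdet; exact hdet
      have ha0 : a ≠ 0 := by
        rintro h
        rw [h, zero_mul] at ha2
        exact zero_ne_one ha2
      refine ⟨(1 - b) / (2 * a), 1, ?_⟩
      rw [hc0]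
      field_simp
      ring
    · obtain ⟨r, s, hrs⟩ := exists_sq_add_sq hodd (-c)
      refine ⟨(r + a * s) / c, s, ?_⟩
      have hd' : d = -a := by linear_combination htr
      rw [hd'] at hdet
      field_simp
      linear_combination (-1 : F) * hrs - s ^ 2 * hdet
  obtain ⟨u1, u2, hu⟩ := key
  have hd' : d = -a := by linear_combination htr
  refine ⟨⟨!![u1, -(a * u1 + b * u2); u2, -(c * u1 + d * u2)], ?_⟩, ?_⟩
  · rw [det_fin_two_of, hd']
    linear_combination hu
  · apply Subtype.ext
    show x.1 * !![u1, -(a * u1 + b * u2); u2, -(c * u1 + d * u2)] =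
      !![u1, -(a * u1 + b * u2); u2, -(c * u1 + d * u2)] * !![0, 1; -1, 0]
    rw [hx]
    rw [hd'] at hdet ⊢
    ext i j
    fin_cases i <;> fin_cases j <;> simp [mul_apply, Fin.sum_univ_two]
    · linear_combination u1 * hdet
    · linear_combination u2 * hdet

theorem exists_conj' (hodd : Fintype.card F % 2 = 1) (x y : Matrix.SpecialLinearGroup (Fin 2) F)
    (hx : x.1.trace = 0) (hy : y.1.trace = 0) :
    ∃ g : Matrix.SpecialLinearGroup (Fin 2) F, g * x * g⁻¹ = y := by
  obtain ⟨P, hP⟩ := exists_conj hodd x hx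
  obtain ⟨R, hR⟩ := exists_conj hodd y hy
  refine ⟨R * P⁻¹, ?_⟩
  have h1 : x = P * qi F * P⁻¹ := by rw [← hP]; group
  have h2 : y = R * qi F * R⁻¹ := by rw [← hR]; group
  rw [h1, h2]
  group

end finite

section normalizer

theorem mem_normalizer_zpowers {G : Type*} [Group G] (x g : G)
    (h : g * x * g⁻¹ ∈ Subgroup.zpowers x) (h' : g⁻¹ * x * g ∈ Subgroup.zpowers x) :
    g ∈ Subgroup.normalizer (Subgroup.zpowers x : Set G) := by
  rw [Subgroup.mem_set_normalizer_iff]
  intro y
  constructor
  · intro hy
    obtain ⟨k, rfl⟩ := Subgroup.mem_zpowers_iff.mp hy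
    have : g * x ^ k * g⁻¹ = (g * x * g⁻¹) ^ k := by
      rw [conj_zpow]
    rw [SetLike.mem_coe, this]
    exact Subgroup.zpow_mem _ h k
  · intro hy
    obtain ⟨k, hk⟩ := Subgroup.mem_zpowers_iff.mp hy
    have : y = (g⁻¹ * x * g) ^ k := by
      have h1 : (g⁻¹ * x * g) ^ k = g⁻¹ * x ^ k * g := by
        have := conj_zpow (a := g⁻¹) (b := x) (i := k)
        rw [inv_inv] at this
        exact this
      rw [h1, hk]
      group
    rw [SetLike.mem_coe, this]
    exact Subgroup.zpow_mem _ h' k

variable {F : Type*} [Field F]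

theorem qi_inv_val : ((qi F)⁻¹).1 = !![0, -1; 1, 0] := by
  rw [Matrix.SpecialLinearGroup.coe_inv]
  show adjugate (!![0, 1; -1, 0] : Matrix (Fin 2) (Fin 2) F) = _
  rw [Matrix.adjugate_fin_two_of]
  simp

theorem commute_qi_iff (g : Matrix.SpecialLinearGroup (Fin 2) F) :
    g * qi F = qi F * g ↔ g.1 1 1 = g.1 0 0 ∧ g.1 1 0 = - g.1 0 1 := by
  constructor
  · intro h
    have h1 : g.1 * !![0, 1; -1, 0] = !![0, 1; -1, 0] * g.1 := congrArg Subtype.val h
    have e01 := congrFun (congrFun h1 0) 1
    have e00 := congrFun (congrFun h1 0) 0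
    simp [mul_apply, Fin.sum_univ_two] at e00 e01
    exact ⟨e01.symm, e00.symm⟩
  · rintro ⟨h1, h2⟩
    apply Subtype.ext
    show g.1 * !![0, 1; -1, 0] = !![0, 1; -1, 0] * g.1
    ext i j
    fin_cases i <;> fin_cases j <;> simp [mul_apply, Fin.sum_univ_two, h1, h2]

theorem anticommute_qi_iff (g : Matrix.SpecialLinearGroup (Fin 2) F) :
    g * qi F = (qi F)⁻¹ * g ↔ g.1 1 1 = - g.1 0 0 ∧ g.1 1 0 = g.1 0 1 := by
  constructor
  · intro h
    have h1 : g.1 * !![0, 1; -1, 0] = ((qi F)⁻¹).1 * g.1 := congrArg Subtype.val h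
    rw [qi_inv_val] at h1
    have e01 := congrFun (congrFun h1 0) 1
    have e00 := congrFun (congrFun h1 0) 0
    simp [mul_apply, Fin.sum_univ_two] at e00 e01
    exact ⟨by rw [e01, neg_neg], e00.symm⟩
  · rintro ⟨h1, h2⟩
    apply Subtype.ext
    show g.1 * !![0, 1; -1, 0] = ((qi F)⁻¹).1 * g.1
    rw [qi_inv_val]
    ext i j
    fin_cases i <;> fin_cases j <;> simp [mul_apply, Fin.sum_univ_two, h1, h2]

theorem mem_normalizer_qi_iff (h2 : (2 : F) ≠ 0) (g : Matrix.SpecialLinearGroup (Fin 2) F) :
    g ∈ Subgroup.normalizer (Subgroup.zpowers (qi F) : Set (Matrix.SpecialLinearGroup (Fin 2) F)) ↔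
      (g * qi F = qi F * g ∨ g * qi F = (qi F)⁻¹ * g) := by
  constructor
  · intro hg
    rw [Subgroup.mem_set_normalizer_iff] at hg
    have hy := (hg (qi F)).mp (Subgroup.mem_zpowers _)
    set y := g * qi F * g⁻¹ with hydef
    obtain ⟨k, hk⟩ := Subgroup.mem_zpowers_iff.mp hy
    have hcomm : y * qi F = qi F * y := by
      rw [← hk]
      exact ((Commute.refl (qi F)).zpow_left k).eq
    obtain ⟨c1, c2⟩ := (commute_qi_iff y).mp hcomm
    have htr : y.1.trace = 0 := by rw [hydef, trace_conj, qi_trace]
    rw [trace_eq, c1] at htr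
    have hp : y.1 0 0 = 0 := by
      have : (2 : F) * y.1 0 0 = 0 := by linear_combination htr
      exact (mul_eq_zero.mp this).resolve_left h2
    have hdet := entries y
    rw [c1, c2, hp] at hdet
    have hq : (y.1 0 1 - 1) * (y.1 0 1 + 1) = 0 := by linear_combination hdet
    rcases mul_eq_zero.mp hq with h | h
    · left
      have : y = qi F := by
        apply Subtype.ext
        ext i j
        show y.1 i j = (!![0, 1; -1, 0] : Matrix (Fin 2) (Fin 2) F) i j
        fin_cases i <;> fin_cases j <;> simp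
        · exact hp
        · linear_combination h
        · rw [c2]; linear_combination -h
        · rw [c1, hp]
      rw [hydef] at this
      exact mul_inv_eq_iff_eq_mul.mp this
    · right
      have : y = (qi F)⁻¹ := by
        apply Subtype.ext
        rw [qi_inv_val]
        ext i j
        fin_cases i <;> fin_cases j <;> simp
        · exact hp
        · linear_combination h
        · rw [c2]; linear_combination -h
        · rw [c1, hp]
      rw [hydef] at this
      exact mul_inv_eq_iff_eq_mul.mp this
  · rintro (h | h)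
    · apply mem_normalizer_zpowers
      · have : g * qi F * g⁻¹ = qi F := by rw [h]; group
        rw [this]
        exact Subgroup.mem_zpowers _
      · have : g⁻¹ * qi F * g = qi F := by rw [mul_assoc, ← h]; group
        rw [this]
        exact Subgroup.mem_zpowers _
    · apply mem_normalizer_zpowers
      · have : g * qi F * g⁻¹ = (qi F)⁻¹ := by rw [h]; group
        rw [this]
        exact Subgroup.inv_mem _ (Subgroup.mem_zpowers _)
      · have : g⁻¹ * qi F * g = (qi F)⁻¹ := by
          have h3 : qi F * g = g * (qi F)⁻¹ := by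
            have : (qi F) * (g * qi F) * (qi F)⁻¹ = (qi F) * ((qi F)⁻¹ * g) * (qi F)⁻¹ := by rw [h]
            calc qi F * g = (qi F) * (g * qi F) * (qi F)⁻¹ := by group
              _ = (qi F) * ((qi F)⁻¹ * g) * (qi F)⁻¹ := this
              _ = g * (qi F)⁻¹ := by group
          rw [mul_assoc, h3]
          group
        rw [this]
        exact Subgroup.inv_mem _ (Subgroup.mem_zpowers _)

end normalizer

section count
variable {F : Type*} [Field F] [Fintype F] [DecidableEq F]

/-- parametrisation of the normaliser of `⟨i⟩` -/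
def toN : {p : F × F // p ∈ S (1 : F)} ⊕ {p : F × F // p ∈ S (-1 : F)} →
    Matrix.SpecialLinearGroup (Fin 2) F
  | Sum.inl p => ⟨!![p.1.1, p.1.2; -p.1.2, p.1.1], by
      rw [det_fin_two_of]
      have := (mem_S _ _).mp p.2
      linear_combination this⟩
  | Sum.inr p => ⟨!![p.1.1, p.1.2; p.1.2, -p.1.1], by
      rw [det_fin_two_of]
      have := (mem_S _ _).mp p.2
      linear_combination -this⟩

theorem toN_mem (h2 : (2 : F) ≠ 0)
    (p : {p : F × F // p ∈ S (1 : F)} ⊕ {p : F × F // p ∈ S (-1 : F)}) :
    toN p ∈ Subgroup.normalizer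
      (Subgroup.zpowers (qi F) : Set (Matrix.SpecialLinearGroup (Fin 2) F)) := by
  rw [mem_normalizer_qi_iff h2]
  rcases p with p | p
  · left
    rw [commute_qi_iff]
    exact ⟨rfl, rfl⟩
  · right
    rw [anticommute_qi_iff]
    exact ⟨rfl, rfl⟩

theorem card_normalizer_qi (hodd : Fintype.card F % 2 = 1) :
    Nat.card ↥(Subgroup.normalizer
      (Subgroup.zpowers (qi F) : Set (Matrix.SpecialLinearGroup (Fin 2) F))) =
      (S (1 : F)).card + (S (-1 : F)).card := by
  have h2 : (2 : F) ≠ 0 := two_ne_zero_of_odd hodd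
  let f : {p : F × F // p ∈ S (1 : F)} ⊕ {p : F × F // p ∈ S (-1 : F)} →
      ↥(Subgroup.normalizer
        (Subgroup.zpowers (qi F) : Set (Matrix.SpecialLinearGroup (Fin 2) F))) :=
    fun p => ⟨toN p, toN_mem h2 p⟩
  have hf : Function.Bijective f := by
    constructor
    · intro p p' h
      have h1 : (toN p).1 = (toN p').1 := congrArg (fun z => z.1.1) h
      have e00 := congrFun (congrFun h1 0) 0
      have e01 := congrFun (congrFun h1 0) 1
      have e10 := congrFun (congrFun h1 1) 0
      have e11 := congrFun (congrFun h1 1) 1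
      rcases p with p | p <;> rcases p' with p' | p'
      · simp [toN] at e00 e01
        congr 1
        exact Subtype.ext (Prod.ext e00 e01)
      · exfalso
        simp [toN] at e00 e01 e10 e11
        have hp := (mem_S _ _).mp p.2
        have h0 : p.1.1 = 0 := by
          have : (2 : F) * p.1.1 = 0 := by linear_combination e00 + e11
          exact (mul_eq_zero.mp this).resolve_left h2
        have h1' : p.1.2 = 0 := by
          have : (2 : F) * p.1.2 = 0 := by linear_combination e01 - e10
          exact (mul_eq_zero.mp this).resolve_left h2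
        rw [h0, h1'] at hp
        norm_num at hp
      · exfalso
        simp [toN] at e00 e01 e10 e11
        have hp := (mem_S _ _).mp p'.2
        have h0 : p'.1.1 = 0 := by
          have : (2 : F) * p'.1.1 = 0 := by linear_combination -e00 - e11
          exact (mul_eq_zero.mp this).resolve_left h2
        have h1' : p'.1.2 = 0 := by
          have : (2 : F) * p'.1.2 = 0 := by linear_combination -e01 + e10
          exact (mul_eq_zero.mp this).resolve_left h2
        rw [h0, h1'] at hp
        norm_num at hp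
      · simp [toN] at e00 e01
        congr 1
        exact Subtype.ext (Prod.ext e00 e01)
    · rintro ⟨g, hg⟩
      have hdet := entries g
      rcases (mem_normalizer_qi_iff h2 g).mp hg with h | h
      · obtain ⟨c1, c2⟩ := (commute_qi_iff g).mp h
        refine ⟨Sum.inl ⟨(g.1 0 0, g.1 0 1), ?_⟩, ?_⟩
        · rw [mem_S]
          rw [c1, c2] at hdet
          linear_combination hdet
        · apply Subtype.ext
          apply Subtype.ext
          show (!![g.1 0 0, g.1 0 1; -g.1 0 1, g.1 0 0] : Matrix (Fin 2) (Fin 2) F) = g.1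
          ext i j
          fin_cases i <;> fin_cases j <;> simp [c1, c2]
      · obtain ⟨c1, c2⟩ := (anticommute_qi_iff g).mp h
        refine ⟨Sum.inr ⟨(g.1 0 0, g.1 0 1), ?_⟩, ?_⟩
        · rw [mem_S]
          rw [c1, c2] at hdet
          linear_combination -hdet
        · apply Subtype.ext
          apply Subtype.ext
          show (!![g.1 0 0, g.1 0 1; g.1 0 1, -g.1 0 0] : Matrix (Fin 2) (Fin 2) F) = g.1
          ext i j
          fin_cases i <;> fin_cases j <;> simp [c1, c2]
  rw [← Nat.card_congr (Equiv.ofBijective f hf), Nat.card_sum, Nat.card_eq_fintype_card,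
    Nat.card_eq_fintype_card, Fintype.card_coe, Fintype.card_coe]

/-- the normaliser of the group generated by a trace-zero element -/
theorem card_normalizer (hodd : Fintype.card F % 2 = 1)
    (x : Matrix.SpecialLinearGroup (Fin 2) F) (hx : x.1.trace = 0) :
    Nat.card ↥(Subgroup.normalizer
      (Subgroup.zpowers x : Set (Matrix.SpecialLinearGroup (Fin 2) F))) =
      (S (1 : F)).card + (S (-1 : F)).card := by
  obtain ⟨P, hP⟩ := exists_conj hodd x hx
  have h1 : x = (MulAut.conj P).toMonoidHom (qi F) := by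
    show x = P * qi F * P⁻¹
    rw [← hP]
    group
  have h2 : Subgroup.zpowers x =
      (Subgroup.zpowers (qi F)).map (MulAut.conj P).toMonoidHom := by
    rw [MonoidHom.map_zpowers, ← h1]
  rw [h2, ← Subgroup.map_equiv_normalizer_eq,
    Subgroup.card_map_of_injective (MulAut.conj P).injective, card_normalizer_qi hodd]

end count

section order4
variable {F : Type*} [Field F] [Fintype F]

/-- a subgroup of order four is generated by a trace-zero element -/
theorem exists_gen (h2 : (2 : F) ≠ 0) (A : Subgroup (Matrix.SpecialLinearGroup (Fin 2) F))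
    (hA : Nat.card A = 4) :
    ∃ x : Matrix.SpecialLinearGroup (Fin 2) F, A = Subgroup.zpowers x ∧ x.1.trace = 0 := by
  classical
  obtain ⟨x, hxA, hx1, hx2⟩ : ∃ x ∈ A, x ≠ 1 ∧ x ≠ negOne F := by
    by_contra hcon
    push Not at hcon
    have hsub : (A : Set (Matrix.SpecialLinearGroup (Fin 2) F)) ⊆ {1, negOne F} := by
      intro x hx
      by_cases h1 : x = 1
      · left; exact h1
      · right; exact hcon x hx h1
    have h1 := Set.ncard_le_ncard hsub (Set.toFinite _)
    have h3 : (A : Set (Matrix.SpecialLinearGroup (Fin 2) F)).ncard = Nat.card A := rfl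
    have h4 : ({1, negOne F} : Set (Matrix.SpecialLinearGroup (Fin 2) F)).ncard ≤ 2 :=
      (Set.ncard_insert_le _ _).trans (by rw [Set.ncard_singleton])
    omega
  have hord : orderOf x ∣ 4 := by
    rw [← hA]
    exact Subgroup.orderOf_dvd_natCard A hxA
  have hx4 : x ^ 4 = 1 := orderOf_dvd_iff_pow_eq_one.mp hord
  have hxx : x * x = negOne F := by
    have h5 : (x * x) ^ 2 = 1 := by
      rw [← pow_two, ← pow_mul]
      exact hx4
    rcases eq_one_or_neg_one h2 (x * x) h5 with h | h
    · exfalso
      have h6 : x ^ 2 = 1 := by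
        rw [pow_two]
        exact Subtype.ext h
      rcases eq_one_or_neg_one h2 x h6 with h' | h'
      · exact hx1 (Subtype.ext h')
      · exact hx2 (Subtype.ext h')
    · exact Subtype.ext h
  refine ⟨x, ?_, (sq_eq_negOne_iff x).mp hxx⟩
  have hle : Subgroup.zpowers x ≤ A := (Subgroup.zpowers_le).mpr hxA
  have ho : orderOf x = 4 := by
    have h4 : orderOf x ≤ 4 := Nat.le_of_dvd (by norm_num) hord
    have hpos : 0 < orderOf x := orderOf_pos x
    interval_cases h : orderOf x
    · exact absurd (orderOf_eq_one_iff.mp h) hx1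
    · exfalso
      have h6 : x ^ 2 = 1 := by
        have := pow_orderOf_eq_one x
        rw [h] at this
        exact this
      rcases eq_one_or_neg_one h2 x h6 with h' | h'
      · exact hx1 (Subtype.ext h')
      · exact hx2 (Subtype.ext h')
    · norm_num at hord
    · rfl
  symm
  apply Subgroup.eq_of_le_of_card_ge hle
  rw [Nat.card_zpowers, ho, hA]

end order4

end Cfsg.Agent.Lib.Helper5.SL2Four
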