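import Mathlib
import Cfsg.Agent.Lib.Helper4.SLCenter
import Cfsg.Agent.Lib.Helper5.SL2Four
import Cfsg.Agent.Lib.Helper5.KleinPairs

set_option autoImplicit false

/-! Commuting involutions in `PSL_2(q)`, `q` odd. -/

namespace Cfsg.Agent.Lib.Helper5.PSL2Pairs

open Matrix Cfsg.Agent.Lib.Helper5.SL2Cyclic Cfsg.Agent.Lib.Helper5.SL2Quat
  Cfsg.Agent.Lib.Helper5.SumTwoSq Cfsg.Agent.Lib.Helper5.SL2Four
  Cfsg.Agent.Lib.Helper5.KleinPairs

section general

/-- class equation for a single element -/
theorem card_class_mul_card_commute {G : Type*} [Group G] [Finite G] (a : G) :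
    Nat.card {x : G // IsConj x a} * Nat.card {g : G // g * a = a * g} = Nat.card G := by
  classical
  have : Fintype G := Fintype.ofFinite G
  have h := MulAction.card_orbit_mul_card_stabilizer_eq_card_group (ConjAct G) a
  rw [← Nat.card_eq_fintype_card, ← Nat.card_eq_fintype_card, ← Nat.card_eq_fintype_card] at h
  have h1 : Nat.card (MulAction.orbit (ConjAct G) a) = Nat.card {x : G // IsConj x a} := by
    apply Nat.card_congr
    apply Equiv.subtypeEquivRight
    intro x
    exact ConjAct.mem_orbit_conjAct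
  have h2 : Nat.card (MulAction.stabilizer (ConjAct G) a) = Nat.card {g : G // g * a = a * g} := by
    apply Nat.card_congr
    refine Equiv.subtypeEquiv ConjAct.ofConjAct.toEquiv ?_
    intro g
    rw [MulAction.mem_stabilizer_iff, ConjAct.smul_def, mul_inv_eq_iff_eq_mul]
    rfl
  have h3 : Nat.card (ConjAct G) = Nat.card G := Nat.card_congr ConjAct.ofConjAct.toEquiv
  rw [h1, h2, h3] at h
  exact h

end general

section sl2
variable {F : Type*} [Field F]

local notation "SL2" => Matrix.SpecialLinearGroup (Fin 2) F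
local notation "PSL2" => Matrix.ProjectiveSpecialLinearGroup (Fin 2) F

theorem mem_center_iff' (h2 : (2 : F) ≠ 0) (z : SL2) :
    z ∈ Subgroup.center SL2 ↔ z = 1 ∨ z = negOne F := by
  rw [Matrix.SpecialLinearGroup.mem_center_iff]
  constructor
  · rintro ⟨r, hr, hr2⟩
    rw [Fintype.card_fin] at hr
    have hr' : (r - 1) * (r + 1) = 0 := by linear_combination hr
    rcases mul_eq_zero.mp hr' with h | h
    · left
      have hr1 : r = 1 := by linear_combination h
      rw [hr1, map_one] at hr2
      exact Subtype.ext hr2.symm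
    · right
      have hr1 : r = -1 := by linear_combination h
      rw [hr1, map_neg, map_one] at hr2
      exact Subtype.ext hr2.symm
  · rintro (rfl | rfl)
    · exact ⟨1, by simp, by simp⟩
    · refine ⟨-1, by simp, ?_⟩
      rw [map_neg, map_one]
      rfl

theorem negOne_mem_center' (h2 : (2 : F) ≠ 0) : negOne F ∈ Subgroup.center SL2 :=
  (mem_center_iff' h2 _).mpr (Or.inr rfl)

theorem negOne_ne_one (h2 : (2 : F) ≠ 0) : negOne F ≠ 1 := by
  intro h
  have h1 : (-1 : Matrix (Fin 2) (Fin 2) F) = 1 := congrArg Subtype.val h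
  have := congrFun (congrFun h1 0) 0
  simp at this
  apply h2
  linear_combination -this

theorem mk_negOne (h2 : (2 : F) ≠ 0) : (QuotientGroup.mk (negOne F) : PSL2) = 1 :=
  (QuotientGroup.eq_one_iff _).mpr (negOne_mem_center' h2)

theorem mk_eq_mk_iff (h2 : (2 : F) ≠ 0) (a b : SL2) :
    (QuotientGroup.mk a : PSL2) = QuotientGroup.mk b ↔ b = a ∨ b = a * negOne F := by
  rw [QuotientGroup.eq, mem_center_iff' h2]
  constructor
  · rintro (h | h)
    · left
      have : b = a * (a⁻¹ * b) := by group
      rw [this, h, mul_one]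
    · right
      have : b = a * (a⁻¹ * b) := by group
      rw [this, h]
  · rintro (rfl | rfl)
    · left; group
    · right; group

theorem trace_negOne_mul (a : SL2) : (negOne F * a).1.trace = - a.1.trace := by
  show ((-1 : Matrix (Fin 2) (Fin 2) F) * a.1).trace = _
  rw [neg_one_mul, Matrix.trace_neg]

/-- the elements of `SL_2` mapping to involutions are those of trace zero -/
theorem inv_iff_trace (h2 : (2 : F) ≠ 0) (a : SL2) :
    ((QuotientGroup.mk a : PSL2) ≠ 1 ∧ (QuotientGroup.mk a : PSL2) * QuotientGroup.mk a = 1) ↔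
      a.1.trace = 0 := by
  constructor
  · rintro ⟨hne, hsq⟩
    have h3 : a * a ∈ Subgroup.center SL2 := by
      rw [← QuotientGroup.eq_one_iff]
      exact hsq
    rw [← sq_eq_negOne_iff]
    rcases (mem_center_iff' h2 _).mp h3 with h | h
    · exfalso
      apply hne
      rw [QuotientGroup.eq_one_iff, mem_center_iff' h2]
      have h6 : a ^ 2 = 1 := by rw [pow_two]; exact h
      rcases eq_one_or_neg_one h2 a h6 with h' | h'
      · left; exact Subtype.ext h'
      · right; exact Subtype.ext h'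
    · exact h
  · intro htr
    have hsq := (sq_eq_negOne_iff a).mpr htr
    constructor
    · intro h
      rw [QuotientGroup.eq_one_iff, mem_center_iff' h2] at h
      rcases h with rfl | rfl
      · rw [trace_eq] at htr
        simp at htr
        exact h2 (by linear_combination htr)
      · rw [trace_eq] at htr
        have h00 : (negOne F).1 0 0 = -1 := by show (-1 : Matrix (Fin 2) (Fin 2) F) 0 0 = -1; simp
        have h11 : (negOne F).1 1 1 = -1 := by show (-1 : Matrix (Fin 2) (Fin 2) F) 1 1 = -1; simp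
        rw [h00, h11] at htr
        exact h2 (by linear_combination -htr)
    · rw [← QuotientGroup.mk_mul, hsq]
      exact mk_negOne h2

/-- lifts of the involutions commuting with the image of `a` -/
theorem J_iff (h2 : (2 : F) ≠ 0) (a b : SL2) (ha : a.1.trace = 0) :
    ((QuotientGroup.mk b : PSL2) ≠ 1 ∧ (QuotientGroup.mk b : PSL2) * QuotientGroup.mk b = 1 ∧
      (QuotientGroup.mk b : PSL2) ≠ QuotientGroup.mk a ∧
      (QuotientGroup.mk b : PSL2) * QuotientGroup.mk a = QuotientGroup.mk a * QuotientGroup.mk b) ↔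
      b * a = negOne F * (a * b) := by
  have haa := (sq_eq_negOne_iff a).mpr ha
  constructor
  · rintro ⟨hb1, hb2, hne, hc⟩
    have hb := (inv_iff_trace h2 b).mp ⟨hb1, hb2⟩
    have hbb := (sq_eq_negOne_iff b).mpr hb
    rw [← QuotientGroup.mk_mul, ← QuotientGroup.mk_mul, eq_comm, mk_eq_mk_iff h2] at hc
    rcases hc with h | h
    · exfalso
      -- `a` and `b` commute
      have h5 : (a * b⁻¹) ^ 2 = 1 := by
        have hbi : b⁻¹ * b⁻¹ = (negOne F)⁻¹ := by rw [← _root_.mul_inv_rev, hbb]
        have hcomm : b⁻¹ * a = a * b⁻¹ := by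
          have : b⁻¹ * (b * a) * b⁻¹ = b⁻¹ * (a * b) * b⁻¹ := by rw [h]
          calc b⁻¹ * a = b⁻¹ * (a * b) * b⁻¹ := by group
            _ = b⁻¹ * (b * a) * b⁻¹ := this.symm
            _ = a * b⁻¹ := by group
        calc (a * b⁻¹) ^ 2 = a * (b⁻¹ * a) * b⁻¹ := by rw [pow_two]; group
          _ = a * (a * b⁻¹) * b⁻¹ := by rw [hcomm]
          _ = (a * a) * (b⁻¹ * b⁻¹) := by group
          _ = 1 := by rw [haa, hbi, mul_inv_cancel]
      apply hne
      rw [eq_comm, mk_eq_mk_iff h2]
      rcases eq_one_or_neg_one h2 _ h5 with h' | h'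
      · left
        have : a * b⁻¹ = 1 := Subtype.ext h'
        exact (mul_inv_eq_one.mp this).symm
      · right
        have : a * b⁻¹ = negOne F := Subtype.ext h'
        have h7 : a = negOne F * b := mul_inv_eq_iff_eq_mul.mp this
        rw [h7, ← negOne_mem_center b, mul_assoc, negOne_mul_self, mul_one]
    · rw [h, negOne_mem_center]
  · intro h
    have hb : b.1.trace = 0 := by
      have h3 : b = negOne F * (a * b * a⁻¹) := by
        calc b = (b * a) * a⁻¹ := by group
          _ = negOne F * (a * b) * a⁻¹ := by rw [h]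
          _ = negOne F * (a * b * a⁻¹) := by group
      have h4 : b.1.trace = (negOne F * (a * b * a⁻¹)).1.trace := by rw [← h3]
      rw [trace_negOne_mul, SL2Four.trace_conj] at h4
      have : (2 : F) * b.1.trace = 0 := by linear_combination h4
      exact (mul_eq_zero.mp this).resolve_left h2
    obtain ⟨hb1, hb2⟩ := (inv_iff_trace h2 b).mpr hb
    refine ⟨hb1, hb2, ?_, ?_⟩
    · intro he
      rw [eq_comm, mk_eq_mk_iff h2] at he
      have hcomm : b * a = a * b := by
        rcases he with rfl | rfl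
        · rfl
        · rw [mul_assoc, ← negOne_mem_center a]
      rw [hcomm] at h
      have : (1 : SL2) = negOne F := by
        have h8 : 1 * (a * b) = negOne F * (a * b) := by rw [one_mul]; exact h
        exact mul_right_cancel h8
      exact negOne_ne_one h2 this.symm
    · rw [← QuotientGroup.mk_mul, ← QuotientGroup.mk_mul, h, QuotientGroup.mk_mul, mk_negOne h2,
        one_mul]

end sl2

section count
variable {F : Type*} [Field F] [Fintype F]

local notation "SL2" => Matrix.SpecialLinearGroup (Fin 2) F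
local notation "PSL2" => Matrix.ProjectiveSpecialLinearGroup (Fin 2) F

/-- the trace-zero elements -/
def I0 (F : Type*) [Field F] : Set (Matrix.SpecialLinearGroup (Fin 2) F) := {a | a.1.trace = 0}

/-- the elements anticommuting with `a` -/
def M (a : SL2) : Set SL2 := {b | b * a = negOne F * (a * b)}

/-- the elements commuting with `a` -/
def C (a : SL2) : Set SL2 := {g | g * a = a * g}

theorem card_center (hodd : Fintype.card F % 2 = 1) : Nat.card (Subgroup.center SL2) = 2 := by
  rw [Cfsg.Agent.Lib.Helper4.card_center_SL 2 (by norm_num)]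
  obtain ⟨t, ht⟩ : ∃ t, Fintype.card F = 2 * t + 1 := ⟨Fintype.card F / 2, by omega⟩
  rw [ht]
  have : 2 * t + 1 - 1 = 2 * t := by omega
  rw [this]
  exact Nat.gcd_mul_right_right _ _

theorem card_preimage (hodd : Fintype.card F % 2 = 1) (Y : Set PSL2) :
    Nat.card ((QuotientGroup.mk : SL2 → PSL2) ⁻¹' Y) = 2 * Nat.card Y := by
  rw [Nat.card_congr (QuotientGroup.preimageMkEquivSubgroupProdSet (Subgroup.center SL2) Y),
    Nat.card_prod, card_center hodd]

theorem preimage_Inv (h2 : (2 : F) ≠ 0) :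
    (QuotientGroup.mk : SL2 → PSL2) ⁻¹' (KleinPairs.Inv PSL2) = I0 F := by
  ext a
  exact inv_iff_trace h2 a

theorem preimage_J (h2 : (2 : F) ≠ 0) (a : SL2) (ha : a.1.trace = 0) :
    (QuotientGroup.mk : SL2 → PSL2) ⁻¹' (J PSL2 (QuotientGroup.mk a)) = M a := by
  ext b
  exact J_iff h2 a b ha

theorem card_I0_mul (hodd : Fintype.card F % 2 = 1) (a : SL2) (ha : a.1.trace = 0) :
    Nat.card (I0 F) * Nat.card (C a) = Nat.card SL2 := by
  rw [← card_class_mul_card_commute a]
  congr 1
  apply Nat.card_congr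
  apply Equiv.subtypeEquivRight
  intro x
  show x.1.trace = 0 ↔ IsConj x a
  rw [isConj_iff]
  constructor
  · intro hx
    exact exists_conj' hodd x a hx ha
  · rintro ⟨c, hc⟩
    rw [← SL2Four.trace_conj c x, hc]
    exact ha

theorem qi_inv_eq : (qi F)⁻¹ = negOne F * qi F := by
  rw [inv_eq_iff_mul_eq_one]
  have := qi_sq (F := F)
  rw [pow_two] at this
  rw [← negOne_mem_center (qi F), ← mul_assoc, this, negOne_mul_self]

theorem exists_mem_M (hodd : Fintype.card F % 2 = 1) (a : SL2) (ha : a.1.trace = 0) :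
    ∃ b, b ∈ M a := by
  obtain ⟨P, hP⟩ := exists_conj hodd a ha
  obtain ⟨p, r, hpr⟩ := exists_sq_add_sq hodd (-1 : F)
  have h1 := qj_qi p r hpr
  rw [mul_inv_eq_iff_eq_mul, qi_inv_eq] at h1
  have ha' : a = P * qi F * P⁻¹ := by rw [← hP]; group
  refine ⟨P * qj p r hpr * P⁻¹, ?_⟩
  show P * qj p r hpr * P⁻¹ * a = negOne F * (a * (P * qj p r hpr * P⁻¹))
  rw [ha']
  calc P * qj p r hpr * P⁻¹ * (P * qi F * P⁻¹) = P * (qj p r hpr * qi F) * P⁻¹ := by group
    _ = P * (negOne F * qi F * qj p r hpr) * P⁻¹ := by rw [h1]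
    _ = (P * negOne F) * (qi F * qj p r hpr) * P⁻¹ := by group
    _ = (negOne F * P) * (qi F * qj p r hpr) * P⁻¹ := by rw [negOne_mem_center P]
    _ = negOne F * (P * qi F * P⁻¹ * (P * qj p r hpr * P⁻¹)) := by group

theorem card_M (hodd : Fintype.card F % 2 = 1) (a : SL2) (ha : a.1.trace = 0) :
    Nat.card (M a) = Nat.card (C a) := by
  obtain ⟨b0, hb0⟩ := exists_mem_M hodd a ha
  have hb0' : b0 * a = negOne F * (a * b0) := hb0
  symm
  apply Nat.card_congr
  refine ⟨fun g => ⟨b0 * g.1, ?_⟩, fun b => ⟨b0⁻¹ * b.1, ?_⟩, ?_, ?_⟩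
  · show b0 * g.1 * a = negOne F * (a * (b0 * g.1))
    have hg : g.1 * a = a * g.1 := g.2
    calc b0 * g.1 * a = b0 * (g.1 * a) := by group
      _ = b0 * (a * g.1) := by rw [hg]
      _ = (b0 * a) * g.1 := by group
      _ = negOne F * (a * b0) * g.1 := by rw [hb0']
      _ = negOne F * (a * (b0 * g.1)) := by group
  · show b0⁻¹ * b.1 * a = a * (b0⁻¹ * b.1)
    have hb : b.1 * a = negOne F * (a * b.1) := b.2
    have h3 : b0⁻¹ * negOne F * a = a * b0⁻¹ := by
      symm
      calc a * b0⁻¹ = b0⁻¹ * (b0 * a) * b0⁻¹ := by group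
        _ = b0⁻¹ * (negOne F * (a * b0)) * b0⁻¹ := by rw [hb0']
        _ = b0⁻¹ * negOne F * a := by group
    calc b0⁻¹ * b.1 * a = b0⁻¹ * (b.1 * a) := by group
      _ = b0⁻¹ * (negOne F * (a * b.1)) := by rw [hb]
      _ = (b0⁻¹ * negOne F * a) * b.1 := by group
      _ = a * b0⁻¹ * b.1 := by rw [h3]
      _ = a * (b0⁻¹ * b.1) := by group
  · intro g
    apply Subtype.ext
    show b0⁻¹ * (b0 * g.1) = g.1
    group
  · intro b
    apply Subtype.ext
    show b0 * (b0⁻¹ * b.1) = b.1
    group

theorem qi_mem_I0 : qi F ∈ I0 F := qi_trace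

/-- the number of ordered pairs of distinct commuting involutions of `PSL_2(q)` -/
theorem two_mul_card_pairs (hodd : Fintype.card F % 2 = 1) :
    2 * Nat.card (Pairs PSL2) = Nat.card PSL2 := by
  classical
  have h2 : (2 : F) ≠ 0 := two_ne_zero_of_odd hodd
  have : Fintype (KleinPairs.Inv PSL2) := Fintype.ofFinite _
  have hJfin : ∀ s : KleinPairs.Inv PSL2, Finite (J PSL2 s.1) := fun s => Subtype.finite
  have hkey : ∀ s : KleinPairs.Inv PSL2, Nat.card (I0 F) * (2 * Nat.card (J PSL2 s.1)) = Nat.card SL2 := by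
    intro s
    obtain ⟨a, ha⟩ := QuotientGroup.mk_surjective s.1
    have hta : a.1.trace = 0 := by
      have : a ∈ (QuotientGroup.mk : SL2 → PSL2) ⁻¹' (KleinPairs.Inv PSL2) := by
        show (QuotientGroup.mk a : PSL2) ∈ KleinPairs.Inv PSL2
        rw [ha]
        exact s.2
      rw [preimage_Inv h2] at this
      exact this
    rw [← card_preimage hodd, ← ha, preimage_J h2 a hta, card_M hodd a hta,
      card_I0_mul hodd a hta]
  have hI : Nat.card (I0 F) = 2 * Nat.card (KleinPairs.Inv PSL2) := by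
    rw [← card_preimage hodd, preimage_Inv h2]
  have hP : Nat.card (Pairs PSL2) = ∑ s : KleinPairs.Inv PSL2, Nat.card (J PSL2 s.1) := by
    unfold Pairs
    rw [Nat.card_sigma]
  have hsum : Nat.card (I0 F) * (2 * Nat.card (Pairs PSL2)) =
      Nat.card (KleinPairs.Inv PSL2) * Nat.card SL2 := by
    rw [hP, Finset.mul_sum, Finset.mul_sum]
    rw [Finset.sum_congr rfl (fun s _ => hkey s), Finset.sum_const, Finset.card_univ,
      smul_eq_mul, ← Nat.card_eq_fintype_card]
  have hSL : Nat.card SL2 = 2 * Nat.card PSL2 := by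
    have := Subgroup.card_eq_card_quotient_mul_card_subgroup (Subgroup.center SL2)
    rw [card_center hodd] at this
    rw [this, mul_comm]
  have hpos : 0 < Nat.card (KleinPairs.Inv PSL2) := by
    have : 0 < Nat.card (I0 F) := by
      have : Nonempty (I0 F) := ⟨⟨qi F, qi_mem_I0⟩⟩
      exact Nat.card_pos
    omega
  rw [hI, hSL] at hsum
  have : Nat.card (KleinPairs.Inv PSL2) * (2 * (2 * Nat.card (Pairs PSL2))) =
      Nat.card (KleinPairs.Inv PSL2) * (2 * Nat.card PSL2) := by
    rw [← hsum]; ring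
  have := Nat.eq_of_mul_eq_mul_left hpos this
  omega

end count

end Cfsg.Agent.Lib.Helper5.PSL2Pairs
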