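import Mathlib
import Cfsg.Agent.Lib.Helper5.KleinPairs

set_option autoImplicit false

/-! Conjugation on ordered pairs of commuting involutions. -/

namespace Cfsg.Agent.Lib.Helper5.PairOrbits

open Cfsg.Agent.Lib.Helper5.KleinPairs

variable {G : Type*} [Group G]

/-- simultaneous conjugation -/
def conjP (g : G) (x : G × G) : G × G := (g * x.1 * g⁻¹, g * x.2 * g⁻¹)

theorem conjP_one (x : G × G) : conjP 1 x = x := by
  unfold conjP
  simp

theorem conjP_mul (g h : G) (x : G × G) : conjP (g * h) x = conjP g (conjP h x) := by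
  unfold conjP
  ext <;> simp [mul_assoc]

theorem conjP_inv_conjP (g : G) (x : G × G) : conjP g⁻¹ (conjP g x) = x := by
  rw [← conjP_mul, inv_mul_cancel, conjP_one]

/-- being in the same orbit -/
def Rel (x y : G × G) : Prop := ∃ g : G, conjP g x = y

theorem Rel.refl (x : G × G) : Rel x x := ⟨1, conjP_one x⟩

theorem Rel.symm {x y : G × G} (h : Rel x y) : Rel y x := by
  obtain ⟨g, rfl⟩ := h
  exact ⟨g⁻¹, conjP_inv_conjP g x⟩

theorem Rel.trans {x y z : G × G} (h : Rel x y) (h' : Rel y z) : Rel x z := by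
  obtain ⟨g, rfl⟩ := h
  obtain ⟨g', rfl⟩ := h'
  exact ⟨g' * g, conjP_mul g' g x⟩

/-- the orbit -/
def orb (x : G × G) : Set (G × G) := {y | Rel x y}

theorem orb_eq_of_rel {x y : G × G} (h : Rel x y) : orb x = orb y := by
  ext z
  exact ⟨fun hz => h.symm.trans hz, fun hz => h.trans hz⟩

theorem disjoint_orb {x y : G × G} (h : ¬ Rel x y) : Disjoint (orb x) (orb y) := by
  rw [Set.disjoint_left]
  intro z hx hy
  exact h (Rel.trans hx (Rel.symm hy))

/-- the stabiliser -/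
def stab (x : G × G) : Set G := {g | conjP g x = x}

theorem card_orb_mul_card_stab [Finite G] (x : G × G) :
    Nat.card (orb x) * Nat.card (stab x) = Nat.card G := by
  classical
  have : Fintype G := Fintype.ofFinite G
  have h := MulAction.card_orbit_mul_card_stabilizer_eq_card_group (ConjAct G) x
  rw [← Nat.card_eq_fintype_card, ← Nat.card_eq_fintype_card, ← Nat.card_eq_fintype_card] at h
  have h1 : Nat.card (MulAction.orbit (ConjAct G) x) = Nat.card (orb x) := by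
    apply Nat.card_congr
    apply Equiv.subtypeEquivRight
    intro y
    rw [MulAction.mem_orbit_iff]
    constructor
    · rintro ⟨g, hg⟩
      exact ⟨ConjAct.ofConjAct g, hg⟩
    · rintro ⟨g, hg⟩
      exact ⟨ConjAct.toConjAct g, hg⟩
  have h2 : Nat.card (MulAction.stabilizer (ConjAct G) x) = Nat.card (stab x) := by
    apply Nat.card_congr
    refine Equiv.subtypeEquiv ConjAct.ofConjAct.toEquiv ?_
    intro g
    rw [MulAction.mem_stabilizer_iff]
    rfl
  have h3 : Nat.card (ConjAct G) = Nat.card G := Nat.card_congr ConjAct.ofConjAct.toEquiv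
  rw [h1, h2, h3] at h
  exact h

/-- the set of ordered pairs of distinct commuting involutions -/
def PairSet (G : Type*) [Group G] : Set (G × G) :=
  {x | (x.1 ≠ 1 ∧ x.1 * x.1 = 1) ∧ (x.2 ≠ 1 ∧ x.2 * x.2 = 1 ∧ x.2 ≠ x.1 ∧ x.2 * x.1 = x.1 * x.2)}

theorem card_pairSet : Nat.card (PairSet G) = Nat.card (Pairs G) := by
  apply Nat.card_congr
  refine ⟨fun x => ⟨⟨x.1.1, x.2.1⟩, ⟨x.1.2, x.2.2⟩⟩, fun p => ⟨(p.1.1, p.2.1), p.1.2, p.2.2⟩, ?_, ?_⟩
  · intro x
    rfl
  · intro p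
    rfl

theorem conjP_mem_pairSet (g : G) (x : G × G) (hx : x ∈ PairSet G) : conjP g x ∈ PairSet G := by
  obtain ⟨⟨h1, h2⟩, h3, h4, h5, h6⟩ := hx
  refine ⟨⟨?_, ?_⟩, ?_, ?_, ?_, ?_⟩
  · intro h
    apply h1
    have h' : g * x.1 * g⁻¹ = 1 := h
    have : x.1 = g⁻¹ * (g * x.1 * g⁻¹) * g := by group
    rw [this, h']
    group
  · show g * x.1 * g⁻¹ * (g * x.1 * g⁻¹) = 1
    calc g * x.1 * g⁻¹ * (g * x.1 * g⁻¹) = g * (x.1 * x.1) * g⁻¹ := by group
      _ = 1 := by rw [h2]; group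
  · intro h
    apply h3
    have h' : g * x.2 * g⁻¹ = 1 := h
    have : x.2 = g⁻¹ * (g * x.2 * g⁻¹) * g := by group
    rw [this, h']
    group
  · show g * x.2 * g⁻¹ * (g * x.2 * g⁻¹) = 1
    calc g * x.2 * g⁻¹ * (g * x.2 * g⁻¹) = g * (x.2 * x.2) * g⁻¹ := by group
      _ = 1 := by rw [h4]; group
  · intro h
    apply h5
    have h' : g * x.2 * g⁻¹ = g * x.1 * g⁻¹ := h
    have : x.2 = g⁻¹ * (g * x.2 * g⁻¹) * g := by group
    rw [this, h']
    group
  · show g * x.2 * g⁻¹ * (g * x.1 * g⁻¹) = g * x.1 * g⁻¹ * (g * x.2 * g⁻¹)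
    calc g * x.2 * g⁻¹ * (g * x.1 * g⁻¹) = g * (x.2 * x.1) * g⁻¹ := by group
      _ = g * (x.1 * x.2) * g⁻¹ := by rw [h6]
      _ = g * x.1 * g⁻¹ * (g * x.2 * g⁻¹) := by group

theorem orb_subset_pairSet (x : G × G) (hx : x ∈ PairSet G) : orb x ⊆ PairSet G := by
  rintro y ⟨g, rfl⟩
  exact conjP_mem_pairSet g x hx

/-- the Klein four-group of a pair in `PairSet` -/
def kvP (x : G × G) (hx : x ∈ PairSet G) : Subgroup G :=
  kv x.1 x.2 hx.1.2 hx.2.2.1 hx.2.2.2.2

theorem isKleinFour_kvP (x : G × G) (hx : x ∈ PairSet G) : IsKleinFour (kvP x hx) :=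
  isKleinFour_kv _ _ _ _ _ hx.1.1 hx.2.1 (fun h => hx.2.2.2.1 h.symm)

theorem mem_kvP (x : G × G) (hx : x ∈ PairSet G) (z : G) :
    z ∈ kvP x hx ↔ z = 1 ∨ z = x.1 ∨ z = x.2 ∨ z = x.1 * x.2 := Iff.rfl

/-- conjugating the pair conjugates the Klein four-group -/
theorem kvP_conjP (g : G) (x : G × G) (hx : x ∈ PairSet G) :
    kvP (conjP g x) (conjP_mem_pairSet g x hx) = (kvP x hx).map (MulAut.conj g).toMonoidHom := by
  ext z
  rw [mem_kvP, Subgroup.mem_map]
  constructor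
  · rintro (h | h | h | h)
    · exact ⟨1, one_mem _, by rw [h]; simp⟩
    · exact ⟨x.1, Or.inr (Or.inl rfl), by rw [h]; rfl⟩
    · exact ⟨x.2, Or.inr (Or.inr (Or.inl rfl)), by rw [h]; rfl⟩
    · refine ⟨x.1 * x.2, Or.inr (Or.inr (Or.inr rfl)), ?_⟩
      rw [h]
      show g * (x.1 * x.2) * g⁻¹ = g * x.1 * g⁻¹ * (g * x.2 * g⁻¹)
      group
  · rintro ⟨y, hy, rfl⟩
    rcases (mem_kvP x hx y).mp hy with rfl | rfl | rfl | rfl
    · left; simp
    · right; left; rfl
    · right; right; left; rfl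
    · right; right; right
      show g * (x.1 * x.2) * g⁻¹ = g * x.1 * g⁻¹ * (g * x.2 * g⁻¹)
      group

/-- every Klein four-subgroup comes from a pair -/
theorem exists_pair [Finite G] (V : Subgroup G) (hV : IsKleinFour V) :
    ∃ (x : G × G) (hx : x ∈ PairSet G), kvP x hx = V := by
  classical
  have : Fintype V := Fintype.ofFinite V
  have h4 : Fintype.card V = 4 := by rw [← Nat.card_eq_fintype_card]; exact hV.card_four
  -- two distinct non-identity elements
  have h1 : 1 < (Finset.univ.erase (1 : V)).card := by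
    rw [Finset.card_erase_of_mem (Finset.mem_univ _), Finset.card_univ, h4]
    norm_num
  obtain ⟨s, hs, t, ht, hst⟩ := Finset.one_lt_card.mp h1
  have hs1 : s ≠ 1 := Finset.ne_of_mem_erase hs
  have ht1 : t ≠ 1 := Finset.ne_of_mem_erase ht
  have hss : s.1 * s.1 = 1 := congrArg Subtype.val (IsKleinFour.mul_self s)
  have htt : t.1 * t.1 = 1 := congrArg Subtype.val (IsKleinFour.mul_self t)
  have hcomm : t.1 * s.1 = s.1 * t.1 :=
    congrArg Subtype.val ((IsKleinFour.isMulCommutative (G := V)).is_comm.comm t s)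
  have hx : (s.1, t.1) ∈ PairSet G :=
    ⟨⟨fun h => hs1 (Subtype.ext h), hss⟩, fun h => ht1 (Subtype.ext h), htt,
      fun h => hst (Subtype.ext h.symm), hcomm⟩
  refine ⟨(s.1, t.1), hx, ?_⟩
  exact kv_eq V hV s.1 t.1 s.2 t.2 hss htt hcomm (fun h => hs1 (Subtype.ext h))
    (fun h => ht1 (Subtype.ext h)) (fun h => hst (Subtype.ext h))

end Cfsg.Agent.Lib.Helper5.PairOrbits
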