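import Mathlib
import Cfsg.Agent.Lib.Helper5.PSL2Pairs
import Cfsg.Agent.Lib.Helper5.PairOrbits
import Cfsg.Agent.Lib.Helper5.PSL2Klein

set_option autoImplicit false

/-! Conjugacy classes of Klein four-subgroups of `PSL_2(q)`, `q` odd. -/

namespace Cfsg.Agent.Lib.Helper5.PSL2KleinClasses

open Matrix Cfsg.Agent.Lib.Helper5.SL2Cyclic Cfsg.Agent.Lib.Helper5.SL2Quat
  Cfsg.Agent.Lib.Helper5.SumTwoSq Cfsg.Agent.Lib.Helper5.SL2Four
  Cfsg.Agent.Lib.Helper5.KleinPairs Cfsg.Agent.Lib.Helper5.PSL2Pairs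
  Cfsg.Agent.Lib.Helper5.PairOrbits

section elements
variable {F : Type*} [Field F]

local notation "SL2" => Matrix.SpecialLinearGroup (Fin 2) F
local notation "PSL2" => Matrix.ProjectiveSpecialLinearGroup (Fin 2) F

theorem qi_inv_eq' : (qi F)⁻¹ = negOne F * qi F := by
  rw [inv_eq_iff_mul_eq_one]
  have := qi_sq (F := F)
  rw [pow_two] at this
  rw [← negOne_mem_center (qi F), ← mul_assoc, this, negOne_mul_self]

/-- `j * i = -(i * j)` -/
theorem qj_anti (p r : F) (hpr : p ^ 2 + r ^ 2 = -1) :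
    qj p r hpr * qi F = negOne F * (qi F * qj p r hpr) := by
  have h1 := qj_qi p r hpr
  rw [mul_inv_eq_iff_eq_mul, qi_inv_eq'] at h1
  rw [h1, mul_assoc]

/-- the element of order three -/
noncomputable def hh (h2 : (2 : F) ≠ 0) (p r : F) (hpr : p ^ 2 + r ^ 2 = -1) : SL2 :=
  ⟨!![(1 + p + r) / 2, (1 + r - p) / 2; (-1 + r - p) / 2, (1 - p - r) / 2], by
    rw [det_fin_two_of]
    field_simp
    linear_combination (-2 : F) * hpr⟩

/-- the element of order four (modulo the centre: order two) -/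
noncomputable def tt (s : F) (hs : s * s = 2) (h2 : (2 : F) ≠ 0) : SL2 :=
  ⟨!![1 / s, 1 / s; -1 / s, 1 / s], by
    have hs0 : s ≠ 0 := by
      rintro rfl
      rw [mul_zero] at hs
      exact h2 hs.symm
    rw [det_fin_two_of]
    field_simp
    linear_combination -hs⟩

theorem qi_val : (qi F).1 = !![0, 1; -1, 0] := rfl
theorem qj_val (p r : F) (hpr : p ^ 2 + r ^ 2 = -1) : (qj p r hpr).1 = !![p, r; r, -p] := rfl

theorem qi_mul_qj_val (p r : F) (hpr : p ^ 2 + r ^ 2 = -1) :
    (qi F * qj p r hpr).1 = !![r, -p; -p, -r] := by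
  show (!![0, 1; -1, 0] : Matrix (Fin 2) (Fin 2) F) * !![p, r; r, -p] = _
  ext i j
  fin_cases i <;> fin_cases j <;> simp [mul_apply, Fin.sum_univ_two]

theorem hh_qi (h2 : (2 : F) ≠ 0) (p r : F) (hpr : p ^ 2 + r ^ 2 = -1) :
    hh h2 p r hpr * qi F = qj p r hpr * hh h2 p r hpr := by
  apply Subtype.ext
  show (!![(1 + p + r) / 2, (1 + r - p) / 2; (-1 + r - p) / 2, (1 - p - r) / 2] :
    Matrix (Fin 2) (Fin 2) F) * !![0, 1; -1, 0] = !![p, r; r, -p] *
      !![(1 + p + r) / 2, (1 + r - p) / 2; (-1 + r - p) / 2, (1 - p - r) / 2]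
  ext i j
  fin_cases i <;> fin_cases j <;> simp [mul_apply, Fin.sum_univ_two] <;> field_simp <;>
    first | ring1 | linear_combination hpr | linear_combination (-1 : F) * hpr |
      linear_combination (2 : F) * hpr | linear_combination (-2 : F) * hpr

theorem hh_qj (h2 : (2 : F) ≠ 0) (p r : F) (hpr : p ^ 2 + r ^ 2 = -1) :
    hh h2 p r hpr * qj p r hpr = (qi F * qj p r hpr) * hh h2 p r hpr := by
  apply Subtype.ext
  show (!![(1 + p + r) / 2, (1 + r - p) / 2; (-1 + r - p) / 2, (1 - p - r) / 2] :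
    Matrix (Fin 2) (Fin 2) F) * !![p, r; r, -p] = (qi F * qj p r hpr).1 *
      !![(1 + p + r) / 2, (1 + r - p) / 2; (-1 + r - p) / 2, (1 - p - r) / 2]
  rw [qi_mul_qj_val]
  ext i j
  fin_cases i <;> fin_cases j <;> simp [mul_apply, Fin.sum_univ_two] <;> field_simp <;>
    first | ring1 | linear_combination hpr | linear_combination (-1 : F) * hpr |
      linear_combination (2 : F) * hpr | linear_combination (-2 : F) * hpr

theorem hh_qij (h2 : (2 : F) ≠ 0) (p r : F) (hpr : p ^ 2 + r ^ 2 = -1) :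
    hh h2 p r hpr * (qi F * qj p r hpr) = qi F * hh h2 p r hpr := by
  apply Subtype.ext
  show (!![(1 + p + r) / 2, (1 + r - p) / 2; (-1 + r - p) / 2, (1 - p - r) / 2] :
    Matrix (Fin 2) (Fin 2) F) * (qi F * qj p r hpr).1 = !![0, 1; -1, 0] *
      !![(1 + p + r) / 2, (1 + r - p) / 2; (-1 + r - p) / 2, (1 - p - r) / 2]
  rw [qi_mul_qj_val]
  ext i j
  fin_cases i <;> fin_cases j <;> simp [mul_apply, Fin.sum_univ_two] <;> field_simp <;>
    first | ring1 | linear_combination hpr | linear_combination (-1 : F) * hpr |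
      linear_combination (2 : F) * hpr | linear_combination (-2 : F) * hpr

theorem tt_qi (s : F) (hs : s * s = 2) (h2 : (2 : F) ≠ 0) :
    tt s hs h2 * qi F = qi F * tt s hs h2 := by
  apply Subtype.ext
  show (!![1 / s, 1 / s; -1 / s, 1 / s] : Matrix (Fin 2) (Fin 2) F) * !![0, 1; -1, 0] =
    !![0, 1; -1, 0] * !![1 / s, 1 / s; -1 / s, 1 / s]
  ext i j
  fin_cases i <;> fin_cases j <;> simp [mul_apply, Fin.sum_univ_two] <;> ring

theorem tt_qj (s : F) (hs : s * s = 2) (h2 : (2 : F) ≠ 0) (p r : F) (hpr : p ^ 2 + r ^ 2 = -1) :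
    tt s hs h2 * qj p r hpr = (qi F * qj p r hpr) * tt s hs h2 := by
  apply Subtype.ext
  show (!![1 / s, 1 / s; -1 / s, 1 / s] : Matrix (Fin 2) (Fin 2) F) * !![p, r; r, -p] =
    (qi F * qj p r hpr).1 * !![1 / s, 1 / s; -1 / s, 1 / s]
  rw [qi_mul_qj_val]
  ext i j
  fin_cases i <;> fin_cases j <;> simp [mul_apply, Fin.sum_univ_two] <;> ring

/-- the only elements commuting with `i` and `j` are `±1` -/
theorem eq_of_commute (h2 : (2 : F) ≠ 0) (p r : F) (hpr : p ^ 2 + r ^ 2 = -1) (x : SL2)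
    (h1 : x * qi F = qi F * x) (h3 : x * qj p r hpr = qj p r hpr * x) :
    x = 1 ∨ x = negOne F := by
  obtain ⟨c1, c2⟩ := (commute_qi_iff x).mp h1
  have h4 : x.1 * !![p, r; r, -p] = !![p, r; r, -p] * x.1 := congrArg Subtype.val h3
  have e00 := congrFun (congrFun h4 0) 0
  have e01 := congrFun (congrFun h4 0) 1
  simp [mul_apply, Fin.sum_univ_two] at e00 e01
  rw [c2] at e00
  rw [c1] at e01
  have hvr : x.1 0 1 * r = 0 := by
    have : (2 : F) * (x.1 0 1 * r) = 0 := by linear_combination e00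
    exact (mul_eq_zero.mp this).resolve_left h2
  have hvp : x.1 0 1 * p = 0 := by
    have : (2 : F) * (x.1 0 1 * p) = 0 := by linear_combination -e01
    exact (mul_eq_zero.mp this).resolve_left h2
  have hv : x.1 0 1 = 0 := by
    have : x.1 0 1 * (p ^ 2 + r ^ 2) = 0 := by linear_combination p * hvp + r * hvr
    rw [hpr] at this
    have : x.1 0 1 * (-1) = 0 := this
    linear_combination -this
  have hdet := entries x
  rw [c1, c2, hv] at hdet
  have hu : (x.1 0 0 - 1) * (x.1 0 0 + 1) = 0 := by linear_combination hdet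
  rcases mul_eq_zero.mp hu with h | h
  · left
    apply Subtype.ext
    ext i j
    show x.1 i j = (1 : Matrix (Fin 2) (Fin 2) F) i j
    fin_cases i <;> fin_cases j <;> simp
    · linear_combination h
    · exact hv
    · rw [c2, hv, neg_zero]
    · rw [c1]; linear_combination h
  · right
    apply Subtype.ext
    ext i j
    show x.1 i j = (-1 : Matrix (Fin 2) (Fin 2) F) i j
    fin_cases i <;> fin_cases j <;> simp
    · linear_combination h
    · exact hv
    · rw [c2, hv, neg_zero]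
    · rw [c1]; linear_combination h

end elements

section central
variable {S : Type*} [Group S] (z : S) (hz : ∀ g : S, g * z = z * g) (hzz : z * z = 1)
  (a b : S) (hba : b * a = z * (a * b))

include hz hzz in
theorem swap_rel (x y : S) (h : x * y = z * (y * x)) : y * x = z * (x * y) := by
  rw [h, ← mul_assoc, hzz, one_mul]

include hz hzz hba in
theorem La (x : S) (h1 : x * a = a * x) (h2 : x * b = z * (b * x)) :
    (x * a) * a = a * (x * a) ∧ (x * a) * b = b * (x * a) := by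
  have hbx := swap_rel z hz hzz x b h2
  constructor
  · calc x * a * a = a * x * a := by rw [h1]
      _ = a * (x * a) := mul_assoc _ _ _
  · calc x * a * b = x * (a * b) := mul_assoc _ _ _
      _ = z * z * (x * (a * b)) := by rw [hzz, one_mul]
      _ = z * (x * (z * (a * b))) := by
          rw [← mul_assoc x z, hz x, mul_assoc z x, mul_assoc z z]
      _ = z * (x * (b * a)) := by rw [hba]
      _ = z * (x * b) * a := by rw [← mul_assoc x b a, mul_assoc z]
      _ = b * x * a := by rw [← hbx]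
      _ = b * (x * a) := mul_assoc _ _ _

include hz hzz hba in
theorem Lb (x : S) (h1 : x * a = z * (a * x)) (h2 : x * b = b * x) :
    (x * b) * a = a * (x * b) ∧ (x * b) * b = b * (x * b) := by
  have hax := swap_rel z hz hzz x a h1
  constructor
  · calc x * b * a = x * (b * a) := mul_assoc _ _ _
      _ = x * (z * (a * b)) := by rw [hba]
      _ = z * (x * a) * b := by
          rw [← mul_assoc x z, hz x, mul_assoc z x, ← mul_assoc x a b, mul_assoc z]
      _ = a * x * b := by rw [← hax]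
      _ = a * (x * b) := mul_assoc _ _ _
  · calc x * b * b = b * x * b := by rw [h2]
      _ = b * (x * b) := mul_assoc _ _ _

include hz hzz hba in
theorem Lab (x : S) (h1 : x * a = z * (a * x)) (h2 : x * b = z * (b * x)) :
    (x * (a * b)) * a = a * (x * (a * b)) ∧ (x * (a * b)) * b = b * (x * (a * b)) := by
  have hax := swap_rel z hz hzz x a h1
  have hbx := swap_rel z hz hzz x b h2
  have hab := swap_rel z hz hzz b a hba
  constructor
  · calc x * (a * b) * a = x * (a * (b * a)) := by simp only [mul_assoc]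
      _ = x * (a * (z * (a * b))) := by rw [hba]
      _ = z * (x * a) * (a * b) := by
          rw [← mul_assoc a z, hz a, mul_assoc z a, ← mul_assoc x z, hz x]
          simp only [mul_assoc]
      _ = a * x * (a * b) := by rw [← hax]
      _ = a * (x * (a * b)) := mul_assoc _ _ _
  · calc x * (a * b) * b = x * a * (b * b) := by simp only [mul_assoc]
      _ = z * z * (x * a * (b * b)) := by rw [hzz, one_mul]
      _ = z * (x * (z * (a * b))) * b := by
          rw [← mul_assoc x z, hz x]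
          simp only [mul_assoc]
      _ = z * (x * (b * a)) * b := by rw [hba]
      _ = z * (x * b) * (a * b) := by simp only [mul_assoc]
      _ = b * x * (a * b) := by rw [← hbx]
      _ = b * (x * (a * b)) := mul_assoc _ _ _
end central

section psl
variable {F : Type*} [Field F]

local notation "SL2" => Matrix.SpecialLinearGroup (Fin 2) F
local notation "PSL2" => Matrix.ProjectiveSpecialLinearGroup (Fin 2) F

/-- the standard pair of commuting involutions -/
def Pw (p r : F) (hpr : p ^ 2 + r ^ 2 = -1) : PSL2 × PSL2 :=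
  (QuotientGroup.mk (qi F), QuotientGroup.mk (qj p r hpr))

theorem Pw_mem (h2 : (2 : F) ≠ 0) (p r : F) (hpr : p ^ 2 + r ^ 2 = -1) :
    Pw p r hpr ∈ PairSet PSL2 :=
  ⟨(inv_iff_trace h2 (qi F)).mpr qi_trace,
    (J_iff h2 (qi F) (qj p r hpr) qi_trace).mpr (qj_anti p r hpr)⟩

theorem conj_mk (x a b : SL2) (h : x * a = b * x) :
    (QuotientGroup.mk x : PSL2) * QuotientGroup.mk a * (QuotientGroup.mk x)⁻¹ =
      QuotientGroup.mk b := by
  rw [mul_inv_eq_iff_eq_mul, ← QuotientGroup.mk_mul, ← QuotientGroup.mk_mul, h]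

/-- lifting a conjugation relation -/
theorem lift_conj (h2 : (2 : F) ≠ 0) (x a : SL2)
    (h : (QuotientGroup.mk x : PSL2) * QuotientGroup.mk a * (QuotientGroup.mk x)⁻¹ =
      QuotientGroup.mk a) : x * a = a * x ∨ x * a = negOne F * (a * x) := by
  rw [mul_inv_eq_iff_eq_mul, ← QuotientGroup.mk_mul, ← QuotientGroup.mk_mul, eq_comm,
    mk_eq_mk_iff h2] at h
  rcases h with h | h
  · left; exact h
  · right
    rw [h, negOne_mem_center]

theorem kvP_subset_stab {G : Type*} [Group G] (x : G × G) (hx : x ∈ PairSet G) (z : G)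
    (hz : z ∈ kvP x hx) : z ∈ stab x := by
  obtain ⟨⟨h1, h2⟩, h3, h4, h5, h6⟩ := hx
  show conjP z x = x
  have key : ∀ z : G, z * x.1 = x.1 * z → z * x.2 = x.2 * z → conjP z x = x := by
    intro z ha hb
    unfold conjP
    ext
    · show z * x.1 * z⁻¹ = x.1
      rw [ha, mul_inv_cancel_right]
    · show z * x.2 * z⁻¹ = x.2
      rw [hb, mul_inv_cancel_right]
  rcases hz with rfl | rfl | rfl | rfl
  · exact key 1 (by simp) (by simp)
  · exact key _ rfl h6.symm
  · exact key _ h6 rfl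
  · apply key
    · rw [mul_assoc, h6]
    · rw [← mul_assoc, ← h6, mul_assoc]

theorem stab_Pw (h2 : (2 : F) ≠ 0) (p r : F) (hpr : p ^ 2 + r ^ 2 = -1) :
    stab (Pw p r hpr) = ((kvP (Pw p r hpr) (Pw_mem h2 p r hpr) : Subgroup PSL2) : Set PSL2) := by
  apply Set.Subset.antisymm
  · intro g hg
    obtain ⟨x, rfl⟩ := QuotientGroup.mk_surjective g
    have hg' : conjP (QuotientGroup.mk x : PSL2) (Pw p r hpr) = Pw p r hpr := hg
    have e1 := congrArg Prod.fst hg'
    have e2 := congrArg Prod.snd hg'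
    have ha := lift_conj h2 x (qi F) e1
    have hb := lift_conj h2 x (qj p r hpr) e2
    have hz : ∀ g : SL2, g * negOne F = negOne F * g := negOne_mem_center
    have hzz : negOne F * negOne F = 1 := negOne_mul_self
    have hba := qj_anti p r hpr
    rw [SetLike.mem_coe]
    -- `x * e = ± 1` for a suitable `e` in the quaternion group
    have fin : ∀ e : SL2, (QuotientGroup.mk e : PSL2) ∈ kvP (Pw p r hpr) (Pw_mem h2 p r hpr) →
        (x * e) * qi F = qi F * (x * e) → (x * e) * qj p r hpr = qj p r hpr * (x * e) →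
        (QuotientGroup.mk x : PSL2) ∈ kvP (Pw p r hpr) (Pw_mem h2 p r hpr) := by
      intro e he c1 c2
      have h5 : (QuotientGroup.mk (x * e) : PSL2) = 1 := by
        rw [QuotientGroup.eq_one_iff, mem_center_iff' h2]
        exact eq_of_commute h2 p r hpr _ c1 c2
      rw [QuotientGroup.mk_mul, mul_eq_one_iff_eq_inv] at h5
      rw [h5]
      exact inv_mem he
    rcases ha with ha | ha <;> rcases hb with hb | hb
    · apply fin 1 (one_mem _)
      · rw [mul_one]; exact ha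
      · rw [mul_one]; exact hb
    · obtain ⟨c1, c2⟩ := La (negOne F) hz hzz (qi F) (qj p r hpr) hba x ha hb
      exact fin (qi F) (Or.inr (Or.inl rfl)) c1 c2
    · obtain ⟨c1, c2⟩ := Lb (negOne F) hz hzz (qi F) (qj p r hpr) hba x ha hb
      exact fin (qj p r hpr) (Or.inr (Or.inr (Or.inl rfl))) c1 c2
    · obtain ⟨c1, c2⟩ := Lab (negOne F) hz hzz (qi F) (qj p r hpr) hba x ha hb
      exact fin (qi F * qj p r hpr) (Or.inr (Or.inr (Or.inr rfl))) c1 c2
  · intro z hz
    exact kvP_subset_stab _ _ z hz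

theorem card_stab_Pw (h2 : (2 : F) ≠ 0) (p r : F) (hpr : p ^ 2 + r ^ 2 = -1) :
    Nat.card (stab (Pw p r hpr)) = 4 := by
  rw [stab_Pw h2]
  exact (isKleinFour_kvP _ (Pw_mem h2 p r hpr)).card_four

/-- every pair is conjugate to a standard one -/
theorem exists_rel_Pw [Fintype F] (hodd : Fintype.card F % 2 = 1) (x : PSL2 × PSL2)
    (hx : x ∈ PairSet PSL2) :
    ∃ (p r : F) (hpr : p ^ 2 + r ^ 2 = -1), Rel x (Pw p r hpr) := by
  have h2 : (2 : F) ≠ 0 := two_ne_zero_of_odd hodd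
  obtain ⟨a', ha'⟩ := QuotientGroup.mk_surjective x.1
  obtain ⟨b', hb'⟩ := QuotientGroup.mk_surjective x.2
  have hx1 := hx.1
  have hx2 := hx.2
  rw [← ha'] at hx1
  rw [← ha', ← hb'] at hx2
  have hta := (inv_iff_trace h2 a').mp hx1
  have hanti := (J_iff h2 a' b' hta).mp hx2
  obtain ⟨P, hP⟩ := exists_conj hodd a' hta
  have hP' : P⁻¹ * a' = qi F * P⁻¹ := by
    calc P⁻¹ * a' = P⁻¹ * (a' * P) * P⁻¹ := by group
      _ = P⁻¹ * (P * qi F) * P⁻¹ := by rw [hP]
      _ = qi F * P⁻¹ := by group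
  obtain ⟨b'', hb''⟩ : ∃ b'' : SL2, b'' = P⁻¹ * b' * P := ⟨_, rfl⟩
  have hrel : b'' * qi F = (qi F)⁻¹ * b'' := by
    rw [qi_inv_eq', mul_assoc (negOne F)]
    calc b'' * qi F = P⁻¹ * b' * (P * qi F) := by rw [hb'']; group
      _ = P⁻¹ * (b' * a') * P := by rw [← hP]; group
      _ = P⁻¹ * (negOne F * (a' * b')) * P := by rw [hanti]
      _ = (P⁻¹ * negOne F) * (a' * b') * P := by group
      _ = (negOne F * P⁻¹) * (a' * b') * P := by rw [negOne_mem_center]
      _ = negOne F * ((P⁻¹ * a') * b' * P) := by group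
      _ = negOne F * ((qi F * P⁻¹) * b' * P) := by rw [hP']
      _ = negOne F * (qi F * b'') := by rw [hb'']; group
  obtain ⟨c1, c2⟩ := (anticommute_qi_iff b'').mp hrel
  have hdet := entries b''
  rw [c1, c2] at hdet
  have hpr : (b''.1 0 0) ^ 2 + (b''.1 0 1) ^ 2 = -1 := by linear_combination -hdet
  have hbq : b'' = qj (b''.1 0 0) (b''.1 0 1) hpr := by
    apply Subtype.ext
    rw [qj_val]
    ext i j
    fin_cases i <;> fin_cases j <;> simp [c1, c2]
  refine ⟨b''.1 0 0, b''.1 0 1, hpr, QuotientGroup.mk P⁻¹, ?_⟩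
  unfold conjP Pw
  rw [← ha', ← hb', conj_mk P⁻¹ a' (qi F) hP', conj_mk P⁻¹ b' b'' (by rw [hb'']; group), ← hbq]

/-- all six pairs of a standard Klein four-group are conjugate, when `2` is a square -/
theorem rel_of_mem_kv (h2 : (2 : F) ≠ 0) (s : F) (hs : s * s = 2) (p r : F)
    (hpr : p ^ 2 + r ^ 2 = -1) (y : PSL2 × PSL2) (hy : y ∈ PairSet PSL2)
    (h1 : y.1 ∈ kvP (Pw p r hpr) (Pw_mem h2 p r hpr))
    (h3 : y.2 ∈ kvP (Pw p r hpr) (Pw_mem h2 p r hpr)) : Rel (Pw p r hpr) y := by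
  set A : PSL2 := QuotientGroup.mk (qi F) with hA
  set B : PSL2 := QuotientGroup.mk (qj p r hpr) with hB
  set H : PSL2 := QuotientGroup.mk (hh h2 p r hpr) with hH
  set T : PSL2 := QuotientGroup.mk (tt s hs h2) with hT
  have hAB : A * B = QuotientGroup.mk (qi F * qj p r hpr) := rfl
  have HA : H * A * H⁻¹ = B := conj_mk _ _ _ (hh_qi h2 p r hpr)
  have HB : H * B * H⁻¹ = A * B := conj_mk _ _ _ (hh_qj h2 p r hpr)
  have HC : H * (A * B) * H⁻¹ = A := by
    rw [hAB]
    exact conj_mk _ _ _ (hh_qij h2 p r hpr)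
  have TA : T * A * T⁻¹ = A := conj_mk _ _ _ (tt_qi s hs h2)
  have TB : T * B * T⁻¹ = A * B := conj_mk _ _ _ (tt_qj s hs h2 p r hpr)
  have hP : Pw p r hpr = (A, B) := rfl
  have R1 : Rel (Pw p r hpr) (B, A * B) := ⟨H, by rw [hP]; unfold conjP; rw [HA, HB]⟩
  have R2 : Rel (Pw p r hpr) (A * B, A) := R1.trans ⟨H, by unfold conjP; rw [HB, HC]⟩
  have R3 : Rel (Pw p r hpr) (A, A * B) := ⟨T, by rw [hP]; unfold conjP; rw [TA, TB]⟩
  have R4 : Rel (Pw p r hpr) (B, A) := R3.trans ⟨H, by unfold conjP; rw [HA, HC]⟩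
  have R5 : Rel (Pw p r hpr) (A * B, B) := R4.trans ⟨H, by unfold conjP; rw [HB, HA]⟩
  obtain ⟨⟨y11, -⟩, y21, -, yne, -⟩ := hy
  have hy' : y = (y.1, y.2) := rfl
  rw [hy']
  rcases h1 with e1 | e1 | e1 | e1 <;> rcases h3 with e2 | e2 | e2 | e2
  · exact absurd e1 y11
  · exact absurd e1 y11
  · exact absurd e1 y11
  · exact absurd e1 y11
  · exact absurd e2 y21
  · exact absurd (e2.trans e1.symm) yne
  · rw [e1, e2]; exact Rel.refl _
  · rw [e1, e2]; exact R3
  · exact absurd e2 y21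
  · rw [e1, e2]; exact R4
  · exact absurd (e2.trans e1.symm) yne
  · rw [e1, e2]; exact R1
  · exact absurd e2 y21
  · rw [e1, e2]; exact R2
  · rw [e1, e2]; exact R5
  · exact absurd (e2.trans e1.symm) yne

end psl

section conjmaps
variable {G : Type*} [Group G]

theorem map_conj_map_conj (V : Subgroup G) (a b : G) :
    (V.map (MulAut.conj b).toMonoidHom).map (MulAut.conj a).toMonoidHom =
      V.map (MulAut.conj (a * b)).toMonoidHom := by
  rw [Subgroup.map_map]
  congr 1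
  ext x
  simp [mul_assoc]

theorem map_conj_one (V : Subgroup G) : V.map (MulAut.conj (1 : G)).toMonoidHom = V := by
  ext x
  simp

theorem eq_map_conj_inv (V W : Subgroup G) (g : G) (h : V = W.map (MulAut.conj g).toMonoidHom) :
    W = V.map (MulAut.conj g⁻¹).toMonoidHom := by
  rw [h, map_conj_map_conj, inv_mul_cancel, map_conj_one]

theorem kvP_congr {x y : G × G} (h : x = y) (hx : x ∈ PairSet G) (hy : y ∈ PairSet G) :
    kvP x hx = kvP y hy := by
  subst h
  rfl

end conjmaps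

section final
variable {F : Type*} [Field F] [Fintype F]

local notation "SL2" => Matrix.SpecialLinearGroup (Fin 2) F
local notation "PSL2" => Matrix.ProjectiveSpecialLinearGroup (Fin 2) F

theorem card_orb_Pw (hodd : Fintype.card F % 2 = 1) (p r : F) (hpr : p ^ 2 + r ^ 2 = -1) :
    Nat.card (orb (Pw p r hpr)) * 4 = Nat.card PSL2 := by
  rw [← card_stab_Pw (two_ne_zero_of_odd hodd) p r hpr]
  exact card_orb_mul_card_stab _

theorem two_mul_card_pairSet (hodd : Fintype.card F % 2 = 1) :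
    2 * Nat.card (PairSet PSL2) = Nat.card PSL2 := by
  rw [card_pairSet]
  exact two_mul_card_pairs hodd

/-- two classes of Klein four-subgroups when `2` is a square -/
theorem classes_two (hodd : Fintype.card F % 2 = 1) (s : F) (hs : s * s = 2) :
    ∃ V₁ V₂ : Subgroup PSL2, IsKleinFour V₁ ∧ IsKleinFour V₂ ∧
      (¬ ∃ g : PSL2, V₂ = V₁.map (MulAut.conj g).toMonoidHom) ∧
      ∀ W : Subgroup PSL2, IsKleinFour W →
        (∃ g : PSL2, W = V₁.map (MulAut.conj g).toMonoidHom) ∨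
        (∃ g : PSL2, W = V₂.map (MulAut.conj g).toMonoidHom) := by
  classical
  have h2 : (2 : F) ≠ 0 := two_ne_zero_of_odd hodd
  have hN : 0 < Nat.card PSL2 := Nat.card_pos
  have hPS := two_mul_card_pairSet (F := F) hodd
  obtain ⟨p₁, r₁, h₁⟩ := exists_sq_add_sq hodd (-1 : F)
  have hO₁ := card_orb_Pw hodd p₁ r₁ h₁
  have m₁ := Pw_mem h2 p₁ r₁ h₁
  -- a pair outside the first orbit
  obtain ⟨x₂, hx₂, hnr⟩ : ∃ x ∈ PairSet PSL2, ¬ Rel (Pw p₁ r₁ h₁) x := by
    by_contra hcon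
    push Not at hcon
    have hsub : PairSet PSL2 ⊆ orb (Pw p₁ r₁ h₁) := fun x hx => hcon x hx
    have := Nat.card_mono (Set.toFinite _) hsub
    omega
  obtain ⟨p₂, r₂, h₂, hrel₂⟩ := exists_rel_Pw hodd x₂ hx₂
  have hO₂ := card_orb_Pw hodd p₂ r₂ h₂
  have m₂ := Pw_mem h2 p₂ r₂ h₂
  have hn12 : ¬ Rel (Pw p₁ r₁ h₁) (Pw p₂ r₂ h₂) := fun h => hnr (h.trans hrel₂.symm)
  refine ⟨kvP _ m₁, kvP _ m₂, isKleinFour_kvP _ m₁, isKleinFour_kvP _ m₂, ?_, ?_⟩
  · rintro ⟨g, hg⟩
    rw [← kvP_conjP g _ m₁] at hg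
    have hy := conjP_mem_pairSet g _ m₁
    have h1 : (conjP g (Pw p₁ r₁ h₁)).1 ∈ kvP _ m₂ := by
      rw [hg]
      exact Or.inr (Or.inl rfl)
    have h3 : (conjP g (Pw p₁ r₁ h₁)).2 ∈ kvP _ m₂ := by
      rw [hg]
      exact Or.inr (Or.inr (Or.inl rfl))
    have hr := rel_of_mem_kv h2 s hs p₂ r₂ h₂ _ hy h1 h3
    exact hn12 (Rel.trans ⟨g, rfl⟩ hr.symm)
  · intro W hW
    obtain ⟨x, hx, hxW⟩ := exists_pair W hW
    obtain ⟨p₃, r₃, h₃, g, hg⟩ := exists_rel_Pw hodd x hx
    have m₃ := Pw_mem h2 p₃ r₃ h₃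
    have hO₃ := card_orb_Pw hodd p₃ r₃ h₃
    have hW3 : kvP _ m₃ = W.map (MulAut.conj g).toMonoidHom := by
      rw [← hxW, ← kvP_conjP g x hx]
      exact kvP_congr hg.symm _ _
    have hW3' := eq_map_conj_inv _ _ _ hW3
    by_cases c1 : Rel (Pw p₁ r₁ h₁) (Pw p₃ r₃ h₃)
    · left
      obtain ⟨g', hg'⟩ := c1
      refine ⟨g⁻¹ * g', ?_⟩
      rw [hW3', ← map_conj_map_conj, ← kvP_conjP g' _ m₁]
      congr 1
      exact kvP_congr hg'.symm _ _
    by_cases c2 : Rel (Pw p₂ r₂ h₂) (Pw p₃ r₃ h₃)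
    · right
      obtain ⟨g', hg'⟩ := c2
      refine ⟨g⁻¹ * g', ?_⟩
      rw [hW3', ← map_conj_map_conj, ← kvP_conjP g' _ m₂]
      congr 1
      exact kvP_congr hg'.symm _ _
    · exfalso
      have d12 := disjoint_orb hn12
      have d13 := disjoint_orb c1
      have d23 := disjoint_orb c2
      have hsub : orb (Pw p₁ r₁ h₁) ∪ orb (Pw p₂ r₂ h₂) ∪ orb (Pw p₃ r₃ h₃) ⊆ PairSet PSL2 :=
        Set.union_subset (Set.union_subset (orb_subset_pairSet _ m₁) (orb_subset_pairSet _ m₂))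
          (orb_subset_pairSet _ m₃)
      have hle := Set.ncard_le_ncard hsub (Set.toFinite _)
      rw [Set.ncard_union_eq (Set.disjoint_union_left.mpr ⟨d13, d23⟩) (Set.toFinite _)
        (Set.toFinite _), Set.ncard_union_eq d12 (Set.toFinite _) (Set.toFinite _)] at hle
      have e1 : (orb (Pw p₁ r₁ h₁)).ncard = Nat.card (orb (Pw p₁ r₁ h₁)) := rfl
      have e2 : (orb (Pw p₂ r₂ h₂)).ncard = Nat.card (orb (Pw p₂ r₂ h₂)) := rfl
      have e3 : (orb (Pw p₃ r₃ h₃)).ncard = Nat.card (orb (Pw p₃ r₃ h₃)) := rfl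
      have e4 : (PairSet PSL2).ncard = Nat.card (PairSet PSL2) := rfl
      rw [e1, e2, e3, e4] at hle
      omega

/-- a single class of Klein four-subgroups when `q ≡ 3, 5 (mod 8)` -/
theorem classes_one (hq : Fintype.card F % 8 = 3 ∨ Fintype.card F % 8 = 5)
    (V W : Subgroup PSL2) (hV : IsKleinFour V) (hW : IsKleinFour W) :
    ∃ g : PSL2, W = V.map (MulAut.conj g).toMonoidHom := by
  classical
  have : Fact (Nat.Prime 2) := ⟨Nat.prime_two⟩
  obtain ⟨m, hm2, hm⟩ := Cfsg.Agent.Lib.Helper5.PSL2Klein.card_PSL2 hq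
  have key : ∀ U : Subgroup PSL2, IsKleinFour U → ¬ 2 ∣ U.index := by
    intro U hU
    have h1 := Subgroup.card_mul_index U
    rw [hU.card_four, hm] at h1
    have : U.index = m := by omega
    rw [this]
    exact hm2
  have pg : ∀ U : Subgroup PSL2, IsKleinFour U → IsPGroup 2 U := by
    intro U hU
    apply IsPGroup.of_card (n := 2)
    rw [hU.card_four]
    norm_num
  let PV := (pg V hV).toSylow (key V hV)
  let PW := (pg W hW).toSylow (key W hW)
  obtain ⟨g, hg⟩ := MulAction.exists_smul_eq PSL2 PV PW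
  refine ⟨g, ?_⟩
  have h1 : (PW : Subgroup PSL2) = W := IsPGroup.toSylow_coe _ _
  have h3 : (PV : Subgroup PSL2) = V := IsPGroup.toSylow_coe _ _
  rw [← h1, ← hg, Sylow.coe_subgroup_smul, h3]
  rfl

end final

end Cfsg.Agent.Lib.Helper5.PSL2KleinClasses
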