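import Mathlib
import Cfsg.Prelude.Def_ClassicalGeometry
import Cfsg.Agent.Lib.Helper5.OrthCard

set_option autoImplicit false
open Cfsg

namespace Cfsg.Agent.Lib.Helper5.IsomReindex

open Matrix Cfsg.Agent.Lib.Helper5.OrthCard

variable {ι ι' : Type} [Fintype ι] [DecidableEq ι] [Fintype ι'] [DecidableEq ι'] {F : Type*} [Field F]

/-- reindexing the coordinates gives an isomorphic isometry group -/
noncomputable def isometryGroupReindexMul (σ : ι ≃ ι') (Q : (ι → F) → F) (Q' : (ι' → F) → F)
    (h : ∀ v : ι' → F, Q' v = Q (v ∘ σ)) : ↥(isometryGroup F Q) ≃* ↥(isometryGroup F Q') :=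
  { isometryGroupReindex σ Q Q' h with
    map_mul' := by
      intro g g'
      apply Subtype.ext
      show Units.mapEquiv (Matrix.reindexAlgEquiv F F σ).toMulEquiv (g.1 * g'.1) = _
      rw [map_mul]
      rfl }

theorem isometryGroupReindexMul_coe (σ : ι ≃ ι') (Q : (ι → F) → F) (Q' : (ι' → F) → F)
    (h : ∀ v : ι' → F, Q' v = Q (v ∘ σ)) (g : ↥(isometryGroup F Q)) :
    (((isometryGroupReindexMul σ Q Q' h g : ↥(isometryGroup F Q')) :
      Matrix.GeneralLinearGroup ι' F) : Matrix ι' ι' F) =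
      Matrix.reindex σ σ ((g : Matrix.GeneralLinearGroup ι F) : Matrix ι ι F) := rfl

/-- equal forms have isomorphic isometry groups -/
noncomputable def isometryGroupCongr (Q Q' : (ι → F) → F) (h : Q = Q') :
    ↥(isometryGroup F Q) ≃* ↥(isometryGroup F Q') :=
  MulEquiv.subgroupCongr (by rw [h])

end Cfsg.Agent.Lib.Helper5.IsomReindex
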