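import Mathlib
import Cfsg.Prelude
import Cfsg.Agent.Lib.Helper5.OmegaSimple
import Cfsg.Agent.Lib.Helper5.IsomReindex
import Cfsg.Agent.Lib.Helper5.IsoTools
import Cfsg.Agent.Lib.Helper5.SpinorHyp2
import Cfsg.Agent.Lib.Helper5.OrthPlane

set_option autoImplicit false
set_option linter.unusedSectionVars false
set_option linter.unusedVariables false
open Cfsg

/-! Farm OMM (S2346): the Levi embedding `lev : Ω(Qκ) →* Ω(hypExt Qκ)`, the reindexing
isomorphisms `Ω(genForm Q₀ (j+1)) ≃* Ω(hypExt (genForm Q₀ j))` and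
`Ω(quadFormMinus k F a b) ≃* Ω(genForm (binForm a b) k)`, and the standing hypotheses `Hyp` for
these forms. -/

namespace Cfsg.Agent.Lib.Helper5.OMMLevi

open Matrix QuadraticMap Cfsg.Agent.Lib.Helper5.CartanDieudonne
  Cfsg.Agent.Lib.Helper5.OrthCard Cfsg.Agent.Lib.Helper5.OrthPlane
  Cfsg.Agent.Lib.Helper5.Eichler Cfsg.Agent.Lib.Helper5.OmegaSimple
  Cfsg.Agent.Lib.Helper5.SpinorHyp Cfsg.Agent.Lib.Helper5.SpinorHyp2
  Cfsg.Agent.Lib.Helper5.IsomReindex Cfsg.Agent.Lib.Helper5.IsoTools
  Cfsg.Agent.Lib.Helper5.QuadIsom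

section lev
variable {F : Type*} [Field F] {κ : Type} [Fintype κ] [DecidableEq κ]
  (Qκ : QuadraticForm F (κ → F))

/-- the block embedding `O(Qκ) → O(hypExt Qκ)` as a monoid homomorphism -/
noncomputable def blkHom : ↥(isometryGroup F ⇑Qκ) →* ↥(isometryGroup F ⇑(hypExt Qκ)) where
  toFun := blkIsom Qκ
  map_one' := by
    apply Subtype.ext
    apply Units.ext
    rw [blkIsom_coe]
    exact blk_one
  map_mul' := by
    intro T T'
    apply Subtype.ext
    apply Units.ext
    rw [blkIsom_coe]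
    show blk (((T.1 * T'.1 : Matrix.GeneralLinearGroup κ F)) : Matrix κ κ F) = blk _ * blk _
    rw [blk_mul]
    rfl

theorem blkHom_apply (T : ↥(isometryGroup F ⇑Qκ)) : blkHom Qκ T = blkIsom Qκ T := rfl

theorem blkHom_coe (T : ↥(isometryGroup F ⇑Qκ)) :
    (((blkHom Qκ T : ↥(isometryGroup F ⇑(hypExt Qκ))) : Matrix.GeneralLinearGroup (Fin 2 ⊕ κ) F) :
      Matrix (Fin 2 ⊕ κ) (Fin 2 ⊕ κ) F) = blk (T.1 : Matrix κ κ F) := rfl

theorem blkHom_injective : Function.Injective (blkHom Qκ) := by
  intro T T' h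
  have h1 : blk (T.1 : Matrix κ κ F) = blk (T'.1 : Matrix κ κ F) := by
    rw [← blkHom_coe, ← blkHom_coe, h]
  exact Subtype.ext (Units.ext (blk_injective h1))

/-- the action of a block element -/
theorem act_blkHom (T : ↥(isometryGroup F ⇑Qκ)) (v : Fin 2 ⊕ κ → F) :
    act (hypExt Qκ) (blkHom Qκ T) v =
      Sum.elim (fun i => v (Sum.inl i)) (act Qκ T (fun k => v (Sum.inr k))) := by
  show blk (T.1 : Matrix κ κ F) *ᵥ v = _
  rw [blk_mulVec]

theorem act_blkHom_ext0 (T : ↥(isometryGroup F ⇑Qκ)) (w : κ → F) :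
    act (hypExt Qκ) (blkHom Qκ T) (ext0 w) = ext0 (act Qκ T w) := by
  rw [act_blkHom]
  ext x
  rcases x with i | k
  · simp [ext0]
  · simp [ext0]

theorem act_blkHom_eH (T : ↥(isometryGroup F ⇑Qκ)) :
    act (hypExt Qκ) (blkHom Qκ T) (eH F κ) = eH F κ := by
  show blk (T.1 : Matrix κ κ F) *ᵥ _ = _
  exact blk_fix_inl _ 0

theorem act_blkHom_fH (T : ↥(isometryGroup F ⇑Qκ)) :
    act (hypExt Qκ) (blkHom Qκ T) (fH F κ) = fH F κ := by
  show blk (T.1 : Matrix κ κ F) *ᵥ _ = _
  exact blk_fix_inl _ 1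

theorem blkHom_mem_Omega (T : ↥(isometryGroup F ⇑Qκ)) (hT : T ∈ Omega F ⇑Qκ) :
    blkHom Qκ T ∈ Omega F ⇑(hypExt Qκ) := by
  have h1 : (commutator ↥(isometryGroup F ⇑Qκ)).map (blkHom Qκ) ≤
      commutator ↥(isometryGroup F ⇑(hypExt Qκ)) := by
    rw [commutator_def, Subgroup.map_commutator, commutator_def]
    exact Subgroup.commutator_mono le_top le_top
  exact h1 (Subgroup.mem_map_of_mem _ hT)

/-- the Levi embedding `Ω(Qκ) →* Ω(hypExt Qκ)` -/
noncomputable def lev : ↥(Omega F ⇑Qκ) →* ↥(Omega F ⇑(hypExt Qκ)) :=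
  ((blkHom Qκ).comp (Omega F ⇑Qκ).subtype).codRestrict (Omega F ⇑(hypExt Qκ))
    (fun g => blkHom_mem_Omega Qκ g.1 g.2)

theorem lev_coe (g : ↥(Omega F ⇑Qκ)) :
    ((lev Qκ g : ↥(Omega F ⇑(hypExt Qκ))) : ↥(isometryGroup F ⇑(hypExt Qκ))) = blkHom Qκ g.1 := rfl

theorem lev_injective : Function.Injective (lev Qκ) := by
  intro g g' h
  have h1 : blkHom Qκ g.1 = blkHom Qκ g'.1 := by
    rw [← lev_coe, ← lev_coe, h]
  exact Subtype.ext (blkHom_injective Qκ h1)

theorem act_lev (g : ↥(Omega F ⇑Qκ)) (v : Fin 2 ⊕ κ → F) :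
    act (hypExt Qκ) (lev Qκ g).1 v =
      Sum.elim (fun i => v (Sum.inl i)) (act Qκ g.1 (fun k => v (Sum.inr k))) :=
  act_blkHom Qκ g.1 v

theorem act_lev_ext0 (g : ↥(Omega F ⇑Qκ)) (w : κ → F) :
    act (hypExt Qκ) (lev Qκ g).1 (ext0 w) = ext0 (act Qκ g.1 w) :=
  act_blkHom_ext0 Qκ g.1 w

theorem act_lev_eH (g : ↥(Omega F ⇑Qκ)) :
    act (hypExt Qκ) (lev Qκ g).1 (eH F κ) = eH F κ := act_blkHom_eH Qκ g.1

theorem act_lev_fH (g : ↥(Omega F ⇑Qκ)) :
    act (hypExt Qκ) (lev Qκ g).1 (fH F κ) = fH F κ := act_blkHom_fH Qκ g.1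

/-- `ext0` is additive, linear -/
theorem ext0_add (w w' : κ → F) : (ext0 (w + w') : Fin 2 ⊕ κ → F) = ext0 w + ext0 w' := by
  ext x
  rcases x with i | k
  · simp [ext0]
  · simp [ext0]

theorem ext0_smul (c : F) (w : κ → F) : (ext0 (c • w) : Fin 2 ⊕ κ → F) = c • ext0 w := by
  ext x
  rcases x with i | k
  · simp [ext0]
  · simp [ext0]

theorem ext0_zero : (ext0 (0 : κ → F) : Fin 2 ⊕ κ → F) = 0 := by
  ext x
  rcases x with i | k
  · simp [ext0]
  · simp [ext0]

theorem ext0_injective : Function.Injective (ext0 : (κ → F) → (Fin 2 ⊕ κ → F)) := by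
  intro w w' h
  funext k
  have := congrFun h (Sum.inr k)
  simpa [ext0] using this

theorem polar_ext0_ext0 (w w' : κ → F) :
    polar (hypExt Qκ) (ext0 w) (ext0 w') = polar Qκ w w' := by
  rw [polar_ext0]
  rfl

theorem polar_eH_ext0 (w : κ → F) : polar (hypExt Qκ) (eH F κ) (ext0 w) = 0 := by
  rw [polar_eH]
  rfl

theorem polar_fH_ext0 (w : κ → F) : polar (hypExt Qκ) (fH F κ) (ext0 w) = 0 := by
  rw [polar_fH]
  rfl

theorem polar_eH_fH : polar (hypExt Qκ) (eH F κ) (fH F κ) = 1 := by
  rw [polar_eH]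
  simp [fH]

/-- the block embedding maps Eichler elements to Eichler elements -/
theorem blkHom_eich (u z : κ → F) (hu : Qκ u = 0) (huz : polar ⇑Qκ u z = 0) :
    blkHom Qκ (eich Qκ u z hu huz) =
      eich (hypExt Qκ) (ext0 u) (ext0 z) (by rw [hypExt_ext0, hu])
        (by rw [polar_ext0_ext0, huz]) := by
  apply ext_act
  intro x
  rw [act_blkHom, act_eich, act_eich, eichlerMap_apply, eichlerMap_apply, hypExt_ext0,
    polar_comm (hypExt Qκ) (ext0 u) x, polar_comm (hypExt Qκ) (ext0 z) x, polar_ext0, polar_ext0,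
    polar_comm Qκ _ u, polar_comm Qκ _ z]
  ext y
  rcases y with i | k
  · simp [ext0]
  · simp [ext0]

end lev

section equivs
variable {F : Type*} [Field F] {κ₀ : Type} [Fintype κ₀] [DecidableEq κ₀]
  (Q₀ : QuadraticForm F (κ₀ → F))

/-- `O(genForm Q₀ (j+1)) ≃* O(hypExt (genForm Q₀ j))` -/
noncomputable def isomStep (j : ℕ) :
    ↥(isometryGroup F ⇑(genForm Q₀ (j + 1))) ≃* ↥(isometryGroup F ⇑(hypExt (genForm Q₀ j))) :=
  isometryGroupReindexMul (stepEquiv j κ₀).symm ⇑(genForm Q₀ (j + 1)) ⇑(hypExt (genForm Q₀ j))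
    (by
      intro v
      rw [genForm_succ]
      congr 1
      funext x
      simp)

/-- `Ω(genForm Q₀ (j+1)) ≃* Ω(hypExt (genForm Q₀ j))` -/
noncomputable def omegaStep (j : ℕ) :
    ↥(Omega F ⇑(genForm Q₀ (j + 1))) ≃* ↥(Omega F ⇑(hypExt (genForm Q₀ j))) :=
  commEquiv (isomStep Q₀ j)

end equivs

section minus
variable {F : Type*} [Field F]

theorem minus_eq' (k : ℕ) (a b : F) :
    ⇑(genForm (binForm a b) k) = Cfsg.quadFormMinus k F a b := by
  funext v
  rw [genForm_apply, binForm_apply]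
  simp only [Cfsg.quadFormMinus]
  ring

/-- `Ω(quadFormMinus k F a b) ≃* Ω(genForm (binForm a b) k)` -/
noncomputable def omegaMinus (k : ℕ) (a b : F) :
    ↥(Omega F (Cfsg.quadFormMinus k F a b)) ≃* ↥(Omega F ⇑(genForm (binForm a b) k)) :=
  commEquiv (isometryGroupCongr _ _ (minus_eq' k a b).symm)

end minus

section hyp
variable {F : Type*} [Field F] [Fintype F] {κ : Type} [Fintype κ] [DecidableEq κ]
  (Qκ : QuadraticForm F (κ → F))

/-- a hyperbolic family of `Qκ` extends by the new pair to one of `hypExt Qκ` -/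
theorem hypFamily_hypExt {i : ℕ} (α β : Fin i → κ) (h : IsHypFamily Qκ α β) :
    IsHypFamily (hypExt Qκ)
      (Fin.cons (Sum.inl 0) (fun t => Sum.inr (α t)) : Fin (i + 1) → Fin 2 ⊕ κ)
      (Fin.cons (Sum.inl 1) (fun t => Sum.inr (β t)) : Fin (i + 1) → Fin 2 ⊕ κ) where
  inj_α := by
    intro s t hst
    induction s using Fin.cases with
    | zero =>
      induction t using Fin.cases with
      | zero => rfl
      | succ t => simp at hst
    | succ s =>
      induction t using Fin.cases with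
      | zero => simp at hst
      | succ t =>
        simp only [Fin.cons_succ, Sum.inr.injEq] at hst
        rw [h.inj_α hst]
  inj_β := by
    intro s t hst
    induction s using Fin.cases with
    | zero =>
      induction t using Fin.cases with
      | zero => rfl
      | succ t => simp at hst
    | succ s =>
      induction t using Fin.cases with
      | zero => simp at hst
      | succ t =>
        simp only [Fin.cons_succ, Sum.inr.injEq] at hst
        rw [h.inj_β hst]
  disj := by
    intro s t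
    induction s using Fin.cases with
    | zero =>
      induction t using Fin.cases with
      | zero => simp
      | succ t => simp
    | succ s =>
      induction t using Fin.cases with
      | zero => simp
      | succ t =>
        simp only [Fin.cons_succ, ne_eq, Sum.inr.injEq]
        exact h.disj s t
  polar_α := by
    intro t v
    induction t using Fin.cases with
    | zero =>
      simp only [Fin.cons_zero]
      exact polar_eH Qκ v
    | succ t =>
      simp only [Fin.cons_succ]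
      have h1 : (Pi.single (Sum.inr (α t)) 1 : Fin 2 ⊕ κ → F) = ext0 (Pi.single (α t) 1) := by
        ext x
        rcases x with j | k
        · simp [ext0]
        · by_cases hk : k = α t
          · subst hk; simp [ext0]
          · simp [ext0, hk]
      rw [h1, polar_comm, polar_ext0, polar_comm, h.polar_α]
  polar_β := by
    intro t v
    induction t using Fin.cases with
    | zero =>
      simp only [Fin.cons_zero]
      exact polar_fH Qκ v
    | succ t =>
      simp only [Fin.cons_succ]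
      have h1 : (Pi.single (Sum.inr (β t)) 1 : Fin 2 ⊕ κ → F) = ext0 (Pi.single (β t) 1) := by
        ext x
        rcases x with j | k
        · simp [ext0]
        · by_cases hk : k = β t
          · subst hk; simp [ext0]
          · simp [ext0, hk]
      rw [h1, polar_comm, polar_ext0, polar_comm, h.polar_β]
  sing_α := by
    intro t
    induction t using Fin.cases with
    | zero =>
      simp only [Fin.cons_zero]
      exact hypExt_eH Qκ
    | succ t =>
      simp only [Fin.cons_succ]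
      have h1 : (Pi.single (Sum.inr (α t)) 1 : Fin 2 ⊕ κ → F) = ext0 (Pi.single (α t) 1) := by
        ext x
        rcases x with j | k
        · simp [ext0]
        · by_cases hk : k = α t
          · subst hk; simp [ext0]
          · simp [ext0, hk]
      rw [h1, hypExt_ext0, h.sing_α]
  sing_β := by
    intro t
    induction t using Fin.cases with
    | zero =>
      simp only [Fin.cons_zero]
      exact hypExt_fH Qκ
    | succ t =>
      simp only [Fin.cons_succ]
      have h1 : (Pi.single (Sum.inr (β t)) 1 : Fin 2 ⊕ κ → F) = ext0 (Pi.single (β t) 1) := by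
        ext x
        rcases x with j | k
        · simp [ext0]
        · by_cases hk : k = β t
          · subst hk; simp [ext0]
          · simp [ext0, hk]
      rw [h1, hypExt_ext0, h.sing_β]

/-- `Hyp` for `hypExt Qκ` when `Qκ` is nondegenerate with two standard hyperbolic pairs -/
theorem hyp_hypExt (hQκ : (polarBilin Qκ).Nondegenerate) {i : ℕ} (α β : Fin i → κ)
    (h : IsHypFamily Qκ α β) (hi : 2 ≤ i) (h3 : 3 ≤ Fintype.card κ) : Hyp (hypExt Qκ) :=
  Hyp.of_hypFamily (hypExt_nondegenerate Qκ hQκ) (hypFamily_hypExt Qκ α β h) (by omega)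
    (by simp only [Fintype.card_sum, Fintype.card_fin]; omega)

variable (a b : F)

/-- `Hyp` for the minus form with at least three hyperbolic pairs -/
theorem hyp_genForm (hab : ∀ z₁ z₂ : F, z₁ ^ 2 + a * z₁ * z₂ + b * z₂ ^ 2 = 0 → z₁ = 0 ∧ z₂ = 0)
    (j : ℕ) (hj : 3 ≤ j) : Hyp (genForm (binForm a b) j) :=
  Hyp.of_hypFamily
    (genForm_nondegenerate (binForm a b) (binForm_nondegenerate a b (anisotropic_of a b hab)) j)
    (genForm_hypFamily (binForm a b) (le_refl j)) hj
    (by simp only [Fintype.card_sum, Fintype.card_fin]; omega)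

/-- `Hyp` for `hypExt` of the minus form with at least two hyperbolic pairs -/
theorem hyp_hypExt_genForm
    (hab : ∀ z₁ z₂ : F, z₁ ^ 2 + a * z₁ * z₂ + b * z₂ ^ 2 = 0 → z₁ = 0 ∧ z₂ = 0)
    (j : ℕ) (hj : 2 ≤ j) : Hyp (hypExt (genForm (binForm a b) j)) :=
  hyp_hypExt (genForm (binForm a b) j)
    (genForm_nondegenerate (binForm a b) (binForm_nondegenerate a b (anisotropic_of a b hab)) j)
    _ _ (genForm_hypFamily (binForm a b) (le_refl j)) hj
    (by simp only [Fintype.card_sum, Fintype.card_fin]; omega)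

end hyp

end Cfsg.Agent.Lib.Helper5.OMMLevi
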