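import Mathlib
import Cfsg.Prelude
import Cfsg.Agent.Lib.Helper5.OrthParity

set_option autoImplicit false
set_option linter.unusedSectionVars false
set_option linter.unusedVariables false
open Cfsg

/-! The stabiliser in `Ω⁺(Q)` of a totally singular subspace of dimension `n/2 - 1` lies in the
stabiliser of a maximal totally singular subspace. -/

namespace Cfsg.Agent.Lib.Helper5.OrthSubmax

open Matrix QuadraticMap Module Cfsg.Agent.Lib.Helper5.CartanDieudonne Cfsg.Agent.Lib.Helper5.Refl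
  Cfsg.Agent.Lib.Helper5.OrthCard Cfsg.Agent.Lib.Helper5.Siegel Cfsg.Agent.Lib.Helper5.QuadIsom
  Cfsg.Agent.Lib.Helper5.MaxTS Cfsg.Agent.Lib.Helper5.OrthParity
  Cfsg.Agent.Lib.Helper5.OrthPairMax Cfsg.Agent.Lib.Helper5.OmegaSimple
  Cfsg.Agent.Lib.Helper5.OrthSingularMax Cfsg.Agent.Lib.Helper5.Eichler
  Cfsg.Agent.Lib.Helper5.ReflGen

variable {ι : Type} [Fintype ι] [DecidableEq ι] {F : Type*} [Field F]
  {Q : QuadraticForm F (ι → F)}

theorem orth_orth (hQ : (polarBilin Q).Nondegenerate) (T : Submodule F (ι → F)) :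
    orth Q (orth Q T) = T := by
  unfold orth
  apply LinearMap.BilinForm.orthogonal_orthogonal hQ
  intro x y h
  rw [polarBilin_apply_apply] at h ⊢
  rw [polar_comm]
  exact h

/-- the two maximal totally singular subspaces through a totally singular subspace of
codimension one in them -/
theorem exists_two_max (hQ : (polarBilin Q).Nondegenerate) (m : ℕ)
    (hV : finrank F (ι → F) = 2 * m) (U₀ : Submodule F (ι → F)) (hU₀ : IsMaxTS Q m U₀)
    (W : Submodule F (ι → F)) (hW : ∀ w ∈ W, Q w = 0) (hWm : finrank F W + 1 = m) :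
    ∃ U₁ U₂ : Submodule F (ι → F), IsMaxTS Q m U₁ ∧ IsMaxTS Q m U₂ ∧ W ≤ U₁ ∧ W ≤ U₂ ∧ U₁ ≠ U₂ ∧
      (∀ X, IsMaxTS Q m X → W ≤ X → X = U₁ ∨ X = U₂) ∧
      ∃ p ∈ U₁, p ∉ W ∧ Q p = 0 ∧ ∀ w ∈ W, polar ⇑Q w p = 0 := by
  -- a singular vector in the perp of `W` outside `W`
  have hstep : ¬ (U₀ ⊓ orth Q W ≤ W) := by
    intro hle
    have hle' : U₀ ⊓ orth Q W ≤ U₀ ⊓ W := le_inf inf_le_left hle
    have h0 := Submodule.finrank_mono hle'
    have h1 := Submodule.finrank_sup_add_finrank_inf_eq U₀ (orth Q W)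
    have h2 := finrank_orth Q hQ W
    have h3 := finrank_orth Q hQ (U₀ ⊔ orth Q W)
    have h4 : orth Q (U₀ ⊔ orth Q W) = U₀ ⊓ W := by
      rw [orth_sup, orth_orth hQ, orth_eq_of_max Q hQ m hV U₀ hU₀]
    rw [h4] at h3
    have h5 : finrank F ↥(U₀ ⊔ orth Q W) ≤ finrank F (ι → F) := Submodule.finrank_le _
    have h6 := hU₀.1
    omega
  obtain ⟨p, hp₁, hpW⟩ := SetLike.not_le_iff_exists.mp hstep
  have hQp : Q p = 0 := hU₀.2 p hp₁.1
  have hWp : ∀ w ∈ W, polar ⇑Q w p = 0 := (mem_orth Q W p).mp hp₁.2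
  -- a partner of `p` in the perp of `W`
  have hpnot : p ∉ orth Q (orth Q W) := by rw [orth_orth hQ]; exact hpW
  rw [mem_orth] at hpnot
  push Not at hpnot
  obtain ⟨y, hy, hyp⟩ := hpnot
  have hWy : ∀ w ∈ W, polar ⇑Q w y = 0 := (mem_orth Q W y).mp hy
  have hpy : polar ⇑Q p y ≠ 0 := by rw [polar_comm]; exact hyp
  obtain ⟨y', hy'def⟩ : ∃ y', y' = y + (-(Q y) / polar ⇑Q y p) • p := ⟨_, rfl⟩
  have hQy' : Q y' = 0 := by
    rw [hy'def, QuadIsom.quad_add_smul, hQp, mul_zero, add_zero, div_mul_cancel₀ _ hyp]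
    ring
  have hpy' : polar ⇑Q p y' = polar ⇑Q p y := by
    rw [hy'def, polar_add_right, polar_smul_right, polar_self_of_sing Q p hQp, smul_zero,
      add_zero]
  have hWy' : ∀ w ∈ W, polar ⇑Q w y' = 0 := by
    intro w hw
    rw [hy'def, polar_add_right, polar_smul_right, hWy w hw, hWp w hw, smul_zero, add_zero]
  obtain ⟨p', hp'def⟩ : ∃ p', p' = (polar ⇑Q p y)⁻¹ • y' := ⟨_, rfl⟩
  have hQp' : Q p' = 0 := by rw [hp'def, QuadraticMap.map_smul, hQy', smul_zero]
  have hpp' : polar ⇑Q p p' = 1 := by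
    rw [hp'def, polar_smul_right, hpy', smul_eq_mul, inv_mul_cancel₀ hpy]
  have hWp' : ∀ w ∈ W, polar ⇑Q w p' = 0 := by
    intro w hw
    rw [hp'def, polar_smul_right, hWy' w hw, smul_zero]
  have hdim : finrank F (ι → F) = 2 * (finrank F W + 1) := by rw [hV, hWm]
  obtain ⟨hset, hne⟩ := PlusGeom.two_extensions' Q hQ W hW hdim p p' hQp hQp' hpp' hWp hWp'
  have hmem₁ : W ⊔ Submodule.span F {p} ∈ ({W ⊔ Submodule.span F {p}, W ⊔ Submodule.span F {p'}} :
      Set (Submodule F (ι → F))) := Set.mem_insert _ _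
  have hmem₂ : W ⊔ Submodule.span F {p'} ∈ ({W ⊔ Submodule.span F {p}, W ⊔ Submodule.span F {p'}} :
      Set (Submodule F (ι → F))) := Set.mem_insert_of_mem _ rfl
  rw [← hset] at hmem₁ hmem₂
  refine ⟨W ⊔ Submodule.span F {p}, W ⊔ Submodule.span F {p'}, ⟨by rw [hmem₁.1, hWm], hmem₁.2.1⟩,
    ⟨by rw [hmem₂.1, hWm], hmem₂.2.1⟩, le_sup_left, le_sup_left, hne, ?_, p,
    Submodule.mem_sup_right (Submodule.mem_span_singleton_self p), hpW, hQp, hWp⟩
  intro X hX hWX
  have hXmem : X ∈ {W' : Submodule F (ι → F) | finrank F W' = finrank F W + 1 ∧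
      (∀ w ∈ W', Q w = 0) ∧ W ≤ W'} := ⟨by rw [hX.1, hWm], hX.2, hWX⟩
  rw [hset] at hXmem
  rcases hXmem with h | h
  · exact Or.inl h
  · exact Or.inr h

variable [Fintype F]

/-- The stabiliser of a totally singular subspace of dimension `n/2 - 1` in `Ω⁺` is not maximal. -/
theorem not_maximal (H : Hyp Q) (m : ℕ) (hm : 3 ≤ m)
    (hV : finrank F (ι → F) = 2 * m) (U₀ : Submodule F (ι → F)) (hU₀ : IsMaxTS Q m U₀)
    (W : Submodule F (ι → F)) (hW : ∀ w ∈ W, Q w = 0) (hWm : finrank F W + 1 = m) :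
    ∃ K : Subgroup (Matrix.GeneralLinearGroup ι F),
      Cfsg.Geo.subspaceStabilizer W ⊓ Cfsg.Geo.omegaGL ⇑Q < K ∧ K < Cfsg.Geo.omegaGL ⇑Q := by
  have hQ := H.nondeg
  obtain ⟨U₁, U₂, hU₁, hU₂, hWU₁, hWU₂, hne, hall, p, hpU₁, hpW, hQp, hWp⟩ :=
    exists_two_max hQ m hV U₀ hU₀ W hW hWm
  have hU₁0 : U₁ ≠ ⊥ := by
    intro h0
    have h1 := hU₁.1
    rw [h0, finrank_bot] at h1
    omega
  have hcard : Fintype.card ι = 2 * m := by
    rw [← hV, Module.finrank_fintype_fun_eq_card]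
  have hmax := OrthSingularMax.isMaximalIn H U₁ hU₁0 hU₁.2 (by
    rintro ⟨h1, -⟩
    rw [hU₁.1, hcard] at h1
    omega)
  refine ⟨_, ?_, hmax.1⟩
  apply lt_of_le_of_ne
  · rintro g ⟨hgS, hgΩ⟩
    refine ⟨?_, hgΩ⟩
    obtain ⟨a, haΩ, rfl⟩ := (mem_omegaGL_iff Q g).mp hgΩ
    have himgW : img Q a W = W := by
      apply Submodule.eq_of_le_of_finrank_eq
      · intro x hx
        obtain ⟨u, hu, rfl⟩ := (mem_img Q a W x).mp hx
        exact ((Cfsg.Agent.Lib.Helper5.SpSingularMax.mem_stab_iff W _).mp hgS u).mp hu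
      · exact finrank_img Q a W
    have hle : W ≤ img Q a U₁ := by
      rw [← himgW]
      exact img_mono Q a hWU₁
    have hcases := hall _ (img_isMaxTS Q m a U₁ hU₁) hle
    have himg : img Q a U₁ = U₁ := by
      rcases hcases with h | h
      · exact h
      · exfalso
        have heven := even_of_mem_Omega Q hQ m hV U₁ hU₁ a haΩ
        rw [h] at heven
        have hge : finrank F W ≤ finrank F ↥(U₁ ⊓ U₂) :=
          Submodule.finrank_mono (le_inf hWU₁ hWU₂)
        have hlt : finrank F ↥(U₁ ⊓ U₂) < m := by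
          by_contra hcon
          push Not at hcon
          have h1 : finrank F ↥(U₁ ⊓ U₂) ≤ finrank F U₁ := Submodule.finrank_mono inf_le_left
          have h2 : U₁ ⊓ U₂ = U₁ := by
            apply Submodule.eq_of_le_of_finrank_eq inf_le_left
            rw [hU₁.1] at h1 ⊢
            omega
          have h3 : U₁ ≤ U₂ := by
            rw [← h2]
            exact inf_le_right
          exact hne (eq_of_le Q m U₁ U₂ hU₁ hU₂ h3)
        have h1 : m - finrank F ↥(U₁ ⊓ U₂) = 1 := by omega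
        rw [h1] at heven
        exact absurd heven (by decide)
    apply Cfsg.Agent.Lib.Helper5.SpSingularMax.mem_stab_of_map_le
    intro x hx
    have : act Q a x ∈ img Q a U₁ := (mem_img Q a U₁ _).mpr ⟨x, hx, rfl⟩
    rw [himg] at this
    exact this
  · intro heq
    have hW0 : W ≠ ⊥ := by
      intro h0
      rw [h0, finrank_bot] at hWm
      omega
    obtain ⟨x, hx, hx0⟩ := (Submodule.ne_bot_iff W).1 hW0
    have hxp : x ∉ Submodule.span F ({p} : Set (ι → F)) := by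
      intro hmem
      obtain ⟨c, hc⟩ := Submodule.mem_span_singleton.mp hmem
      have hc0 : c ≠ 0 := by
        rintro rfl
        rw [zero_smul] at hc
        exact hx0 hc.symm
      apply hpW
      have : p = c⁻¹ • x := by rw [← hc, smul_smul, inv_mul_cancel₀ hc0, one_smul]
      rw [this]
      exact W.smul_mem _ hx
    obtain ⟨z, hxz, hz⟩ := OrthPairMax.dual_vec hQ _ hxp
    have hpz : polar ⇑Q p z = 0 := hz p (Submodule.mem_span_singleton_self p)
    have hmem : ((eich Q p z hQp hpz : ↥(isometryGroup F ⇑Q)) : Matrix.GeneralLinearGroup ι F) ∈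
        Cfsg.Geo.subspaceStabilizer U₁ ⊓ Cfsg.Geo.omegaGL ⇑Q :=
      eich_mem_P_of_mem H U₁ hU₁.2 p z hpU₁ hpz
    rw [← heq] at hmem
    have h1 := ((Cfsg.Agent.Lib.Helper5.SpSingularMax.mem_stab_iff W _).mp hmem.1 x).mp hx
    have e : (((eich Q p z hQp hpz : ↥(isometryGroup F ⇑Q)) : Matrix.GeneralLinearGroup ι F) :
        Matrix ι ι F) *ᵥ x = eichlerMap Q p z x := act_eich Q p z hQp hpz x
    have hpx : polar ⇑Q p x = 0 := by rw [polar_comm]; exact hWp x hx
    have hzx : polar ⇑Q z x ≠ 0 := by rw [polar_comm]; exact hxz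
    rw [e, eichlerMap_apply, hpx, zero_smul, add_zero, mul_zero, add_zero] at h1
    have h2 : (-(polar ⇑Q z x)) • p ∈ W := (Submodule.add_mem_iff_right _ hx).mp h1
    apply hpW
    have := W.smul_mem (-(polar ⇑Q z x))⁻¹ h2
    rwa [smul_smul, inv_mul_cancel₀ (neg_ne_zero.mpr hzx), one_smul] at this

end Cfsg.Agent.Lib.Helper5.OrthSubmax
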