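import Mathlib
import Cfsg.Prelude
import Cfsg.Agent.Lib.Helper5.OmegaCrit
import Cfsg.Agent.Lib.Helper5.ClassParity
import Cfsg.Agent.Lib.Helper5.OrthSubmax

set_option autoImplicit false
set_option linter.unusedSectionVars false
set_option linter.unusedVariables false
open Cfsg

/-! Transitivity properties of `Ω(Q)`: adjusting an isometry by elements of a stabiliser. -/

namespace Cfsg.Agent.Lib.Helper5.OmegaTrans

open Matrix QuadraticMap Module Cfsg.Agent.Lib.Helper5.CartanDieudonne Cfsg.Agent.Lib.Helper5.Refl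
  Cfsg.Agent.Lib.Helper5.SpinorNorm Cfsg.Agent.Lib.Helper5.OmegaGen Cfsg.Agent.Lib.Helper5.Dickson
  Cfsg.Agent.Lib.Helper5.OrthIndexTwo Cfsg.Agent.Lib.Helper5.OmegaCrit
  Cfsg.Agent.Lib.Helper5.OrthParity Cfsg.Agent.Lib.Helper5.MaxTS Cfsg.Agent.Lib.Helper5.OrthCard
  Cfsg.Agent.Lib.Helper5.QuadIsom

variable {ι : Type} [Fintype ι] [DecidableEq ι] {F : Type*} [Field F] [Fintype F]
  (Q : QuadraticForm F (ι → F))

section adjust
variable (hQ : (polarBilin Q).Nondegenerate)
  (hex : Fintype.card ι = 4 → ∃ a : F, a ≠ 0 ∧ a ≠ 1) (hn : 2 ≤ Fintype.card ι)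

include hQ hex hn in
/-- an even product of reflections lies in `Ω` up to a pair of reflections of non-square spinor
norm -/
theorem adjust_even (g : ↥(isometryGroup F ⇑Q)) (vs : List (ι → F)) (hvs : IsRep Q g vs)
    (he : Even vs.length) (b c : ι → F) (hb : Q b ≠ 0) (hc : Q c ≠ 0)
    (hbc : (2 : F) ≠ 0 → ¬ IsSquare (Q b * Q c)) :
    g ∈ Omega F ⇑Q ∨ g * (reflection Q b hb * reflection Q c hc) ∈ Omega F ⇑Q := by
  by_cases hs : IsSquare (vs.map Q).prod
  · left
    exact (mem_Omega_iff Q hQ hex hn g vs hvs).mpr ⟨he, hs⟩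
  · right
    have h2 : (2 : F) ≠ 0 := fun h2 => hs (isSquare_of_two_eq_zero h2 _)
    have hrep : IsRep Q (g * (reflection Q b hb * reflection Q c hc)) (vs ++ ([b] ++ [c])) :=
      isRep_mul Q hvs (isRep_mul Q (isRep_reflection Q b hb) (isRep_reflection Q c hc))
    rw [mem_Omega_iff Q hQ hex hn _ _ hrep]
    refine ⟨?_, ?_⟩
    · rw [List.length_append]
      exact he.add ⟨1, rfl⟩
    · rw [List.map_append, List.prod_append]
      have h1 : (List.map (⇑Q) ([b] ++ [c])).prod = Q b * Q c := by simp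
      rw [h1, ← sgn_eq_one_iff, sgn_mul (prodQ_ne_zero Q vs hvs.1) (mul_ne_zero hb hc),
        sgn_of_not_isSquare hs, sgn_of_not_isSquare (hbc h2)]
      rfl

include hQ hex hn in
/-- every isometry lies in `Ω` up to a reflection and a pair of reflections of non-square spinor
norm -/
theorem adjust (g : ↥(isometryGroup F ⇑Q)) (a : ι → F) (ha : Q a ≠ 0)
    (b c : ι → F) (hb : Q b ≠ 0) (hc : Q c ≠ 0)
    (hbc : (2 : F) ≠ 0 → ¬ IsSquare (Q b * Q c)) :
    g ∈ Omega F ⇑Q ∨ g * (reflection Q b hb * reflection Q c hc) ∈ Omega F ⇑Q ∨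
      g * reflection Q a ha ∈ Omega F ⇑Q ∨
      g * reflection Q a ha * (reflection Q b hb * reflection Q c hc) ∈ Omega F ⇑Q := by
  obtain ⟨vs, hvs⟩ := exists_rep' Q hQ hex g
  by_cases he : Even vs.length
  · rcases adjust_even Q hQ hex hn g vs hvs he b c hb hc hbc with h | h
    · exact Or.inl h
    · exact Or.inr (Or.inl h)
  · have hrep : IsRep Q (g * reflection Q a ha) (vs ++ [a]) :=
      isRep_mul Q hvs (isRep_reflection Q a ha)
    have he' : Even (vs ++ [a]).length := by
      rw [List.length_append, List.length_singleton]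
      rw [Nat.not_even_iff_odd] at he
      exact he.add_one
    rcases adjust_even Q hQ hex hn _ _ hrep he' b c hb hc hbc with h | h
    · exact Or.inr (Or.inr (Or.inl h))
    · exact Or.inr (Or.inr (Or.inr h))

end adjust

section witt

/-- Witt: an isometry between subspaces is induced by an isometry of the whole space -/
theorem exists_isom_map (hQ : (polarBilin Q).Nondegenerate) (U W : Submodule F (ι → F))
    (e : U ≃ₗ[F] W) (he : ∀ u : U, Q (e u : ι → F) = Q (u : ι → F)) :
    ∃ A : ↥(isometryGroup F ⇑Q), img Q A U = W := by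
  classical
  set k := finrank F U with hk
  let b : Module.Basis (Fin k) F U := Module.finBasis F U
  have hpol : ∀ u v : U, polar ⇑Q (e u : ι → F) (e v : ι → F) = polar ⇑Q (u : ι → F) (v : ι → F) := by
    intro u v
    unfold polar
    have h1 : ((e u : ι → F) + (e v : ι → F)) = ((e (u + v) : W) : ι → F) := by
      rw [map_add]
      rfl
    rw [h1, he, he, he]
    rfl
  have hx : LinearIndependent F (fun i => ((b i : U) : ι → F)) :=
    b.linearIndependent.map' U.subtype (Submodule.ker_subtype U)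
  have hy : LinearIndependent F (fun i => ((e (b i) : W) : ι → F)) := by
    have h1 : LinearIndependent F (fun i => e (b i)) :=
      b.linearIndependent.map' (e : U →ₗ[F] W) (LinearEquiv.ker e)
    exact h1.map' W.subtype (Submodule.ker_subtype W)
  obtain ⟨g, hg, hgx⟩ := witt_family Q hQ k (fun i => ((b i : U) : ι → F))
    (fun i => ((e (b i) : W) : ι → F)) hx hy (fun i => (he (b i)).symm)
    (fun i j => (hpol (b i) (b j)).symm)
  obtain ⟨A, hA⟩ := exists_isom_of_linearEquiv Q g hg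
  refine ⟨A, ?_⟩
  have hmap : ∀ u : U, act Q A (u : ι → F) = (e u : ι → F) := by
    intro u
    rw [hA]
    have h1 : ∀ u : U, g (u : ι → F) = (e u : ι → F) := by
      intro u
      have h2 : (g : (ι → F) →ₗ[F] (ι → F)).comp U.subtype = W.subtype.comp (e : U →ₗ[F] W) := by
        apply b.ext
        intro i
        exact hgx i
      exact LinearMap.congr_fun h2 u
    exact h1 u
  apply le_antisymm
  · intro x hx'
    obtain ⟨u, hu, rfl⟩ := (mem_img Q A U x).mp hx'
    rw [hmap ⟨u, hu⟩]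
    exact (e ⟨u, hu⟩).2
  · intro w hw
    rw [mem_img]
    refine ⟨(e.symm ⟨w, hw⟩ : U), (e.symm ⟨w, hw⟩).2, ?_⟩
    rw [hmap, LinearEquiv.apply_symm_apply]

/-- an isometry mapping a subspace into itself maps it onto itself -/
theorem img_eq_of_le (A : ↥(isometryGroup F ⇑Q)) (U : Submodule F (ι → F))
    (h : ∀ u ∈ U, act Q A u ∈ U) : img Q A U = U := by
  apply Submodule.eq_of_le_of_finrank_eq
  · intro x hx
    obtain ⟨u, hu, rfl⟩ := (mem_img Q A U x).mp hx
    exact h u hu
  · exact finrank_img Q A U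

end witt

section stab

theorem img_one (U : Submodule F (ι → F)) : img Q 1 U = U := by
  apply img_eq_of_le
  intro u hu
  have : act Q 1 u = u := one_mulVec u
  rw [this]
  exact hu

theorem img_reflection_of_perp (U : Submodule F (ι → F)) (a : ι → F) (ha : Q a ≠ 0)
    (haU : a ∈ MaxTS.orth Q U) : img Q (reflection Q a ha) U = U := by
  apply img_eq_of_le
  intro u hu
  have h1 : polar ⇑Q a u = 0 := by
    rw [polar_comm]
    exact (mem_orth Q U a).mp haU u hu
  rw [act_reflection, h1, mul_zero, zero_smul, sub_zero]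
  exact hu

theorem img_reflection_of_mem (U : Submodule F (ι → F)) (a : ι → F) (ha : Q a ≠ 0)
    (haU : a ∈ U) : img Q (reflection Q a ha) U = U := by
  apply img_eq_of_le
  intro u hu
  rw [act_reflection]
  exact U.sub_mem hu (U.smul_mem _ haU)

variable {Q} in
theorem quad_torus_left {e f : ι → F} (he : Q e = 0) (hf : Q f = 0) (hef : polar ⇑Q e f = 1)
    (l : F) : Q (e - l • f) = -l := by
  rw [quad_sub', he, QuadraticMap.map_smul, hf, polar_smul_right, hef]
  simp

/-- the action of the product of the reflections in `e - l f` and `e - f` -/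
theorem act_torus {e f : ι → F} (he : Q e = 0) (hf : Q f = 0) (hef : polar ⇑Q e f = 1)
    (l : F) (hl : l ≠ 0) (hb : Q (e - l • f) ≠ 0) (hc : Q (e - (1 : F) • f) ≠ 0) (x : ι → F) :
    act Q (reflection Q (e - l • f) hb * reflection Q (e - (1 : F) • f) hc) x =
      x + ((l⁻¹ - 1) * polar ⇑Q f x) • e + ((l - 1) * polar ⇑Q e x) • f := by
  have hee : polar ⇑Q e e = 0 := Cfsg.Agent.Lib.Helper5.ReflGen.polar_self_of_sing Q e he
  have hff : polar ⇑Q f f = 0 := Cfsg.Agent.Lib.Helper5.ReflGen.polar_self_of_sing Q f hf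
  have hfe : polar ⇑Q f e = 1 := by rw [polar_comm]; exact hef
  rw [act_mul, act_reflection, act_reflection, quad_torus_left he hf hef,
    quad_torus_left he hf hef]
  simp only [polar_sub_left, polar_sub_right, polar_smul_left, polar_smul_right, hee, hff, hef,
    hfe, smul_eq_mul]
  ext i
  simp only [Pi.add_apply, Pi.sub_apply, Pi.smul_apply, smul_eq_mul]
  field_simp
  ring

/-- the torus element stabilises every totally singular subspace containing `e` -/
theorem img_torus (U : Submodule F (ι → F)) (hU : ∀ u ∈ U, Q u = 0) {e f : ι → F}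
    (heU : e ∈ U) (hf : Q f = 0) (hef : polar ⇑Q e f = 1) (l : F) (hl : l ≠ 0)
    (hb : Q (e - l • f) ≠ 0) (hc : Q (e - (1 : F) • f) ≠ 0) :
    img Q (reflection Q (e - l • f) hb * reflection Q (e - (1 : F) • f) hc) U = U := by
  apply img_eq_of_le
  intro u hu
  rw [act_torus Q (hU e heU) hf hef l hl hb hc,
    Cfsg.Agent.Lib.Helper5.PlusGeom.polar_eq_zero_of_ts Q U hU heU hu, mul_zero, zero_smul,
    add_zero]
  exact U.add_mem hu (U.smul_mem _ heU)

omit [Fintype ι] [DecidableEq ι] in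
/-- a scalar which is a non-square in odd characteristic -/
theorem exists_scalar : ∃ l : F, l ≠ 0 ∧ ((2 : F) ≠ 0 → ¬ IsSquare l) := by
  by_cases h2 : (2 : F) = 0
  · exact ⟨1, one_ne_zero, fun h => absurd h2 h⟩
  · obtain ⟨ν, hν0, hν⟩ := exists_nonsquare (F := F) h2
    exact ⟨ν, hν0, fun _ => hν⟩

/-- data for the torus element attached to a nonzero singular vector -/
theorem exists_torus (hQ : (polarBilin Q).Nondegenerate) (e : ι → F) (he0 : e ≠ 0)
    (he : Q e = 0) : ∃ (f : ι → F) (l : F), Q f = 0 ∧ polar ⇑Q e f = 1 ∧ l ≠ 0 ∧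
      Q (e - l • f) ≠ 0 ∧ Q (e - (1 : F) • f) ≠ 0 ∧
      ((2 : F) ≠ 0 → ¬ IsSquare (Q (e - l • f) * Q (e - (1 : F) • f))) := by
  obtain ⟨f, hf, hef⟩ := Cfsg.Agent.Lib.Helper5.exists_partner Q (fun z hz => hQ.1 z hz) e he0 he
  obtain ⟨l, hl, hsq⟩ := exists_scalar (F := F)
  refine ⟨f, l, hf, hef, hl, ?_, ?_, ?_⟩
  · rw [quad_torus_left he hf hef]
    exact neg_ne_zero.mpr hl
  · rw [quad_torus_left he hf hef]
    exact neg_ne_zero.mpr one_ne_zero
  · intro h2
    rw [quad_torus_left he hf hef, quad_torus_left he hf hef]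
    have : -l * -(1 : F) = l := by ring
    rw [this]
    exact hsq h2

end stab

section trans
variable (hQ : (polarBilin Q).Nondegenerate)
  (hex : Fintype.card ι = 4 → ∃ a : F, a ≠ 0 ∧ a ≠ 1)

include hQ hex in
/-- `Ω` is transitive on totally singular subspaces of a given dimension less than half the
dimension of the space -/
theorem trans_ts (U W : Submodule F (ι → F)) (k : ℕ) (hk : 2 * k < Fintype.card ι)
    (hU : finrank F U = k) (hW : finrank F W = k) (hU0 : ∀ u ∈ U, Q u = 0)
    (hW0 : ∀ w ∈ W, Q w = 0) :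
    ∃ g : ↥(isometryGroup F ⇑Q), g ∈ Omega F ⇑Q ∧ img Q g U = W := by
  by_cases hk0 : k = 0
  · have hUb : U = ⊥ := Submodule.finrank_eq_zero.mp (by rw [hU, hk0])
    have hWb : W = ⊥ := Submodule.finrank_eq_zero.mp (by rw [hW, hk0])
    refine ⟨1, one_mem _, ?_⟩
    rw [img_one, hUb, hWb]
  have hn : 2 ≤ Fintype.card ι := by omega
  have hfin : finrank F (ι → F) = Fintype.card ι := Module.finrank_fintype_fun_eq_card F
  obtain ⟨A, hA⟩ := exists_isom_map Q hQ U W (LinearEquiv.ofFinrankEq U W (by rw [hU, hW]))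
    (fun u => by rw [hU0 _ u.2, hW0 _ (Subtype.mem _)])
  -- a nonsingular vector in the perp
  obtain ⟨a, haU, ha⟩ : ∃ a ∈ MaxTS.orth Q U, Q a ≠ 0 := by
    by_contra hcon
    push Not at hcon
    have h1 := Submodule.finrank_mono (le_orth_of_ts Q (MaxTS.orth Q U) hcon)
    have e1 := finrank_orth Q hQ U
    have e2 := finrank_orth Q hQ (MaxTS.orth Q U)
    rw [hU, hfin] at e1
    rw [hfin] at e2
    omega
  -- a torus element
  have hU0' : U ≠ ⊥ := by
    intro hb
    rw [hb, finrank_bot] at hU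
    exact hk0 hU.symm
  obtain ⟨e, heU, he0⟩ := (Submodule.ne_bot_iff U).1 hU0'
  obtain ⟨f, l, hf, hef, hl, hb, hc, hsq⟩ := exists_torus Q hQ e he0 (hU0 e heU)
  have hT := img_torus Q U hU0 heU hf hef l hl hb hc
  have hR := img_reflection_of_perp Q U a ha haU
  rcases adjust Q hQ hex hn A a ha _ _ hb hc hsq with h | h | h | h
  · exact ⟨_, h, hA⟩
  · exact ⟨_, h, by rw [img_mul, hT, hA]⟩
  · exact ⟨_, h, by rw [img_mul, hR, hA]⟩
  · exact ⟨_, h, by rw [img_mul, hT, img_mul, hR, hA]⟩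

/-- a non-degenerate subspace of dimension at least two is universal -/
theorem exists_quad_eq_in (X : Submodule F (ι → F)) (hX : X ⊓ MaxTS.orth Q X = ⊥)
    (h2 : 2 ≤ finrank F X) (c : F) (hc : c ≠ 0) : ∃ x ∈ X, Q x = c := by
  have hND : ∀ z : X, (∀ z', polar (c⁻¹ • Q.comp X.subtype) z z' = 0) → z = 0 := by
    intro z hz
    have hmem : (z : ι → F) ∈ X ⊓ MaxTS.orth Q X := by
      refine ⟨z.2, (mem_orth Q X _).mpr ?_⟩
      intro w hw
      have := hz ⟨w, hw⟩
      have h1 : polar (⇑(c⁻¹ • Q.comp X.subtype)) z ⟨w, hw⟩ =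
          c⁻¹ * polar ⇑Q (z : ι → F) w := by
        simp only [polar, _root_.smul_apply, smul_eq_mul, QuadraticMap.comp_apply,
          Submodule.subtype_apply, Submodule.coe_add]
        ring
      rw [h1] at this
      rw [polar_comm]
      exact (mul_eq_zero.mp this).resolve_left (inv_ne_zero hc)
    rw [hX, Submodule.mem_bot] at hmem
    exact Subtype.ext hmem
  obtain ⟨x, hx⟩ := Cfsg.Agent.Lib.Helper5.exists_eq_one (c⁻¹ • Q.comp X.subtype) hND h2
  refine ⟨x, x.2, ?_⟩
  rw [_root_.smul_apply, smul_eq_mul, QuadraticMap.comp_apply, Submodule.subtype_apply] at hx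
  field_simp at hx
  exact hx

include hQ hex in
/-- `Ω` is transitive on non-degenerate subspaces of a given isometry type -/
theorem trans_nondeg (hn : 3 ≤ Fintype.card ι) (U W : Submodule F (ι → F))
    (hU : U ⊓ MaxTS.orth Q U = ⊥) (e : U ≃ₗ[F] W)
    (he : ∀ u : U, Q (e u : ι → F) = Q (u : ι → F)) :
    ∃ g : ↥(isometryGroup F ⇑Q), g ∈ Omega F ⇑Q ∧ img Q g U = W := by
  have hfin : finrank F (ι → F) = Fintype.card ι := Module.finrank_fintype_fun_eq_card F
  obtain ⟨A, hA⟩ := exists_isom_map Q hQ U W e he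
  obtain ⟨l, hl, hsq⟩ := exists_scalar (F := F)
  -- a non-degenerate subspace of dimension at least two whose reflections stabilise `U`
  obtain ⟨X, hX, hX2, hXs⟩ : ∃ X : Submodule F (ι → F), X ⊓ MaxTS.orth Q X = ⊥ ∧
      2 ≤ finrank F X ∧ ∀ (a : ι → F) (ha : Q a ≠ 0), a ∈ X →
        img Q (reflection Q a ha) U = U := by
    by_cases h2 : 2 ≤ finrank F U
    · exact ⟨U, hU, h2, fun a ha haU => img_reflection_of_mem Q U a ha haU⟩
    · refine ⟨MaxTS.orth Q U, ?_, ?_, fun a ha haU => img_reflection_of_perp Q U a ha haU⟩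
      · rw [Cfsg.Agent.Lib.Helper5.OrthSubmax.orth_orth hQ, inf_comm]
        exact hU
      · rw [finrank_orth Q hQ, hfin]
        omega
  obtain ⟨a, haX, hQa⟩ := exists_quad_eq_in Q X hX hX2 1 one_ne_zero
  obtain ⟨c, hcX, hQc⟩ := exists_quad_eq_in Q X hX hX2 l hl
  have ha : Q a ≠ 0 := by rw [hQa]; exact one_ne_zero
  have hc : Q c ≠ 0 := by rw [hQc]; exact hl
  have hsq' : (2 : F) ≠ 0 → ¬ IsSquare (Q a * Q c) := by
    intro h2
    rw [hQa, hQc, one_mul]
    exact hsq h2
  have hRa := hXs a ha haX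
  have hRc := hXs c hc hcX
  rcases adjust Q hQ hex (by omega) A a ha a c ha hc hsq' with h | h | h | h
  · exact ⟨_, h, hA⟩
  · exact ⟨_, h, by simp only [img_mul, hRc, hRa, hA]⟩
  · exact ⟨_, h, by simp only [img_mul, hRc, hRa, hA]⟩
  · exact ⟨_, h, by simp only [img_mul, hRc, hRa, hA]⟩

include hQ hex in
/-- `Ω` is transitive on each class of maximal totally singular subspaces -/
theorem trans_max (m : ℕ) (hm : 1 ≤ m) (hV : finrank F (ι → F) = 2 * m)
    (U W : Submodule F (ι → F)) (hU : IsMaxTS Q m U) (hW : IsMaxTS Q m W)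
    (hev : Even (m - finrank F ↥(U ⊓ W))) :
    ∃ g : ↥(isometryGroup F ⇑Q), g ∈ Omega F ⇑Q ∧ img Q g U = W := by
  have hfin : finrank F (ι → F) = Fintype.card ι := Module.finrank_fintype_fun_eq_card F
  have hn : 2 ≤ Fintype.card ι := by omega
  obtain ⟨A, hA⟩ := exists_isom_map Q hQ U W (LinearEquiv.ofFinrankEq U W (by rw [hU.1, hW.1]))
    (fun u => by rw [hU.2 _ u.2, hW.2 _ (Subtype.mem _)])
  obtain ⟨vs, hvs⟩ := exists_rep' Q hQ hex A
  have hlen : Even vs.length := by
    rw [← Cfsg.Agent.Lib.Helper5.ClassParity.even_dist_iff Q hQ m hV U hU A vs hvs, hA]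
    exact hev
  have hU0' : U ≠ ⊥ := by
    intro hb
    have := hU.1
    rw [hb, finrank_bot] at this
    omega
  obtain ⟨e, heU, he0⟩ := (Submodule.ne_bot_iff U).1 hU0'
  obtain ⟨f, l, hf, hef, hl, hb, hc, hsq⟩ := exists_torus Q hQ e he0 (hU.2 e heU)
  have hT := img_torus Q U hU.2 heU hf hef l hl hb hc
  rcases adjust_even Q hQ hex hn A vs hvs hlen _ _ hb hc hsq with h | h
  · exact ⟨_, h, hA⟩
  · exact ⟨_, h, by rw [img_mul, hT, hA]⟩

end trans

end Cfsg.Agent.Lib.Helper5.OmegaTrans
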