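import Mathlib
import Cfsg.Prelude
import Cfsg.Agent.Lib.Helper5.OMMLevi
import Cfsg.Agent.Lib.Helper5.OmegaCrit
import Cfsg.Agent.Lib.Helper5.OmegaTrans

set_option autoImplicit false
set_option linter.unusedSectionVars false
set_option linter.unusedVariables false
open Cfsg

/-! Farm OMM (S2346): the subgroup generated by the Eichler transformations is transitive on the
nonzero vectors of each level set `{Q = c}` (dimension at least 5), and the consequences for the
stabiliser of `eH` in `Ω(hypExt Qκ)`. -/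

namespace Cfsg.Agent.Lib.Helper5.OMMOrbit

open Matrix QuadraticMap Cfsg.Agent.Lib.Helper5.CartanDieudonne
  Cfsg.Agent.Lib.Helper5.OrthCard Cfsg.Agent.Lib.Helper5.OrthPlane
  Cfsg.Agent.Lib.Helper5.Eichler Cfsg.Agent.Lib.Helper5.OmegaSimple
  Cfsg.Agent.Lib.Helper5.QuadIsom Cfsg.Agent.Lib.Helper5.SingGeom
  Cfsg.Agent.Lib.Helper5.OMMLevi Cfsg.Agent.Lib.Helper5.SpinorNorm
  Cfsg.Agent.Lib.Helper5.Refl

section general
variable {ι : Type} [Fintype ι] [DecidableEq ι] {F : Type*} [Field F]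
  (Q : QuadraticForm F (ι → F))

/-- the subgroup generated by the Eichler transformations -/
def EG : Subgroup ↥(isometryGroup F ⇑Q) :=
  Subgroup.closure {g | ∃ (u z : ι → F) (hu : Q u = 0) (huz : polar ⇑Q u z = 0),
    g = eich Q u z hu huz}

theorem eich_mem_EG (u z : ι → F) (hu : Q u = 0) (huz : polar ⇑Q u z = 0) :
    eich Q u z hu huz ∈ EG Q :=
  Subgroup.subset_closure ⟨u, z, hu, huz, rfl⟩

theorem polar_self_eq (w : ι → F) : polar ⇑Q w w = 2 * Q w := by
  unfold polar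
  rw [← two_smul F w, QuadraticMap.map_smul]
  simp only [smul_eq_mul]
  ring

/-- one Eichler transformation moves `w` to `w'` exactly, when a singular `y` has the same
nonzero product with both -/
theorem eich_move (y w w' : ι → F) (hy : Q y = 0) (h1 : polar ⇑Q y w = 1)
    (h2 : polar ⇑Q y w' = 1) (hQ : Q w = Q w') :
    ∃ (hyz : polar ⇑Q y (w' - w) = 0), act Q (eich Q y (w' - w) hy hyz) w = w' := by
  have hyz : polar ⇑Q y (w' - w) = 0 := by rw [polar_sub_right, h1, h2, sub_self]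
  refine ⟨hyz, ?_⟩
  rw [act_eich, eichlerMap_apply, h1, one_smul, mul_one]
  have h3 : polar ⇑Q (w' - w) w + Q (w' - w) = 0 := by
    rw [polar_sub_left, quad_sub', polar_self_eq, hQ]
    ring
  rw [h3, neg_zero, zero_smul, add_zero]
  abel

variable [Fintype F]

/-- one step, when `w` is not proportional to `w' - w` -/
theorem exists_move_of_not_mem (hQ : (polarBilin Q).Nondegenerate)
    (h5 : 5 ≤ Module.finrank F (ι → F)) (w w' : ι → F) (hQww' : Q w = Q w')
    (hne : w' - w ≠ 0) (hind : w ∉ Submodule.span F {w' - w}) :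
    ∃ g ∈ EG Q, act Q g w = w' := by
  obtain ⟨e, he, hδe, hew⟩ := exists_singular_perp_not_perp Q hQ h5 (w' - w) w hne hind
  have hy : Q ((polar ⇑Q e w)⁻¹ • e) = 0 := by rw [QuadraticMap.map_smul, he, smul_zero]
  have h1 : polar ⇑Q ((polar ⇑Q e w)⁻¹ • e) w = 1 := by
    rw [polar_smul_left, smul_eq_mul, inv_mul_cancel₀ hew]
  have h2 : polar ⇑Q ((polar ⇑Q e w)⁻¹ • e) w' = 1 := by
    have hw' : w' = w + (w' - w) := by abel
    rw [hw', polar_add_right, h1, polar_smul_left, polar_comm (⇑Q) e (w' - w), hδe, smul_zero,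
      add_zero]
  obtain ⟨hyz, hmove⟩ := eich_move Q _ w w' hy h1 h2 hQww'
  exact ⟨_, eich_mem_EG Q _ _ hy hyz, hmove⟩

/-- the Eichler subgroup is transitive on the nonzero vectors of each level set -/
theorem vec_trans (hQ : (polarBilin Q).Nondegenerate) (h5 : 5 ≤ Module.finrank F (ι → F))
    (w w' : ι → F) (hw : w ≠ 0) (hw' : w' ≠ 0) (hQww' : Q w = Q w') :
    ∃ g ∈ EG Q, act Q g w = w' := by
  by_cases hne : w' - w = 0
  · refine ⟨1, one_mem _, ?_⟩
    have : w' = w := sub_eq_zero.mp hne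
    rw [this]
    exact one_mulVec w
  by_cases hind : w ∈ Submodule.span F {w' - w}
  · -- `w' = t • w`: go through `w + e`
    obtain ⟨c, hc⟩ := Submodule.mem_span_singleton.mp hind
    obtain ⟨e, f, he, hf, hef, hwe, hwf⟩ := exists_hyp_pair_perp Q hQ h5 w hw
    have hw'f : polar ⇑Q w' f = 0 := by
      by_cases hc0 : c = 0
      · exfalso; apply hw; rw [← hc, hc0, zero_smul]
      · have h0 : c⁻¹ • w = w' - w := by
          conv_lhs => rw [← hc]
          rw [smul_smul, inv_mul_cancel₀ hc0, one_smul]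
        have h1 : w' = w + c⁻¹ • w := by rw [h0]; abel
        rw [h1, polar_add_left, polar_smul_left, hwf, smul_zero, add_zero]
    have hQ1 : Q w = Q (w + e) := by rw [quad_add', he, hwe]; ring
    -- first step
    have hne1 : (w + e) - w ≠ 0 := by
      rw [add_sub_cancel_left]
      intro h0
      rw [h0, polar_zero_left] at hef
      exact zero_ne_one hef
    have hind1 : w ∉ Submodule.span F {(w + e) - w} := by
      rw [add_sub_cancel_left]
      intro hmem
      obtain ⟨s, hs⟩ := Submodule.mem_span_singleton.mp hmem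
      have : polar ⇑Q w f = s := by
        rw [← hs, polar_smul_left, hef, smul_eq_mul, mul_one]
      rw [hwf] at this
      apply hw
      rw [← hs, ← this, zero_smul]
    obtain ⟨g1, hg1, hm1⟩ := exists_move_of_not_mem Q hQ h5 w (w + e) hQ1 hne1 hind1
    -- second step
    have hQ2 : Q (w + e) = Q w' := by rw [← hQ1, hQww']
    have hne2 : w' - (w + e) ≠ 0 := by
      intro h0
      have h1 : polar ⇑Q (w' - (w + e)) f = -1 := by
        rw [polar_sub_left, polar_add_left, hw'f, hwf, hef]; ring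
      rw [h0, polar_zero_left] at h1
      exact one_ne_zero (neg_eq_zero.mp h1.symm)
    have hind2 : (w + e) ∉ Submodule.span F {w' - (w + e)} := by
      intro hmem
      obtain ⟨s, hs⟩ := Submodule.mem_span_singleton.mp hmem
      have h1 : polar ⇑Q (w' - (w + e)) f = -1 := by
        rw [polar_sub_left, polar_add_left, hw'f, hwf, hef]; ring
      have h2 : polar ⇑Q (w + e) f = 1 := by rw [polar_add_left, hwf, hef, zero_add]
      have h3 : s * (-1) = 1 := by
        rw [← h1, ← smul_eq_mul, ← polar_smul_left, hs, h2]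
      have hs1 : s = -1 := by
        have : s = -(s * (-1)) := by ring
        rw [this, h3]
      rw [hs1, neg_one_smul, neg_sub] at hs
      -- `(w + e) - w' = w + e` gives `w' = 0`
      apply hw'
      have h6 : w' = (w + e) - ((w + e) - w') := by abel
      rw [h6, hs, sub_self]
    obtain ⟨g2, hg2, hm2⟩ := exists_move_of_not_mem Q hQ h5 (w + e) w' hQ2 hne2 hind2
    refine ⟨g2 * g1, mul_mem hg2 hg1, ?_⟩
    rw [act_mul, hm1, hm2]
  · exact exists_move_of_not_mem Q hQ h5 w w' hQww' hne hind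

end general

section ext
variable {F : Type*} [Field F] [Fintype F] {κ : Type} [Fintype κ] [DecidableEq κ]
  (Qκ : QuadraticForm F (κ → F))

/-- block images of products of Eichler elements lie in `Ω(hypExt Qκ)` -/
theorem blkHom_mem_Omega_of_EG (H : Hyp (hypExt Qκ)) (T : ↥(isometryGroup F ⇑Qκ))
    (hT : T ∈ EG Qκ) : blkHom Qκ T ∈ Omega F ⇑(hypExt Qκ) := by
  have hle : EG Qκ ≤ (Omega F ⇑(hypExt Qκ)).comap (blkHom Qκ) := by
    unfold EG
    rw [Subgroup.closure_le]
    rintro g ⟨u, z, hu, huz, rfl⟩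
    show blkHom Qκ (eich Qκ u z hu huz) ∈ Omega F ⇑(hypExt Qκ)
    rw [blkHom_eich]
    exact eich_mem_Omega H _ _ _ _
  exact hle hT

/-- the block elements lying in `Ω(hypExt Qκ)` are transitive on the nonzero vectors of each
level set of `Qκ` -/
theorem orbit_blk (H : Hyp (hypExt Qκ)) (hQκ : (polarBilin Qκ).Nondegenerate)
    (h5 : 5 ≤ Fintype.card κ) (w w' : κ → F) (hw : w ≠ 0) (hw' : w' ≠ 0)
    (hQ : Qκ w = Qκ w') :
    ∃ T : ↥(isometryGroup F ⇑Qκ), blkIsom Qκ T ∈ Omega F ⇑(hypExt Qκ) ∧ act Qκ T w = w' := by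
  obtain ⟨T, hT, hTw⟩ := vec_trans Qκ hQκ
    (by rw [Module.finrank_fintype_fun_eq_card]; exact h5) w w' hw hw' hQ
  exact ⟨T, blkHom_mem_Omega_of_EG Qκ H T hT, hTw⟩

/-- conjugation of the root elements `eich eH (ext0 a)` by a block element -/
theorem conj_blkHom (T : ↥(isometryGroup F ⇑Qκ)) (a : κ → F) :
    blkHom Qκ T * eich (hypExt Qκ) (eH F κ) (ext0 a) (hypExt_eH Qκ) (polar_eH_ext0 Qκ a) *
      (blkHom Qκ T)⁻¹ =
    eich (hypExt Qκ) (eH F κ) (ext0 (act Qκ T a)) (hypExt_eH Qκ)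
      (polar_eH_ext0 Qκ (act Qκ T a)) := by
  rw [conj_eich]
  exact eich_congr (hypExt Qκ) (act_blkHom_eH Qκ T) (act_blkHom_ext0 Qκ T a) _ _ _ _

/-- a torus element of `Ω(hypExt Qκ)` scaling `eH` by `d⁻¹`, acting on `W` through the torus of
the hyperbolic pair `(e2, f2)` -/
theorem torus_elt (H : Hyp (hypExt Qκ)) (hQκ : (polarBilin Qκ).Nondegenerate)
    (e2 f2 : κ → F) (he2 : Qκ e2 = 0) (hf2 : Qκ f2 = 0) (hef2 : polar ⇑Qκ e2 f2 = 1)
    (d : F) (hd : d ≠ 0) :
    ∃ g : ↥(isometryGroup F ⇑(hypExt Qκ)), g ∈ Omega F ⇑(hypExt Qκ) ∧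
      act (hypExt Qκ) g (eH F κ) = d⁻¹ • eH F κ ∧
      act (hypExt Qκ) g (fH F κ) = d • fH F κ ∧
      ∀ x : κ → F, act (hypExt Qκ) g (ext0 x) =
        ext0 (x + ((d⁻¹ - 1) * polar ⇑Qκ f2 x) • e2 + ((d - 1) * polar ⇑Qκ e2 x) • f2) := by
  have heH := hypExt_eH Qκ
  have hfH := hypExt_fH Qκ
  have hefH := polar_eH_fH Qκ
  have hE2 : hypExt Qκ (ext0 e2) = 0 := by rw [hypExt_ext0, he2]
  have hF2 : hypExt Qκ (ext0 f2) = 0 := by rw [hypExt_ext0, hf2]
  have hEF2 : polar ⇑(hypExt Qκ) (ext0 e2) (ext0 f2) = 1 := by rw [polar_ext0_ext0, hef2]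
  have hb1 : hypExt Qκ (eH F κ - d • fH F κ) ≠ 0 := by
    rw [OmegaTrans.quad_torus_left heH hfH hefH]; exact neg_ne_zero.mpr hd
  have hc1 : hypExt Qκ (eH F κ - (1 : F) • fH F κ) ≠ 0 := by
    rw [OmegaTrans.quad_torus_left heH hfH hefH]; exact neg_ne_zero.mpr one_ne_zero
  have hb2 : hypExt Qκ (ext0 e2 - d • ext0 f2) ≠ 0 := by
    rw [OmegaTrans.quad_torus_left hE2 hF2 hEF2]; exact neg_ne_zero.mpr hd
  have hc2 : hypExt Qκ (ext0 e2 - (1 : F) • ext0 f2) ≠ 0 := by
    rw [OmegaTrans.quad_torus_left hE2 hF2 hEF2]; exact neg_ne_zero.mpr one_ne_zero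
  have hfe : polar ⇑(hypExt Qκ) (fH F κ) (eH F κ) = 1 := by rw [polar_comm]; exact hefH
  have hee : polar ⇑(hypExt Qκ) (eH F κ) (eH F κ) = 0 := by rw [polar_eH]; rfl
  have hff : polar ⇑(hypExt Qκ) (fH F κ) (fH F κ) = 0 := by rw [polar_fH]; rfl
  refine ⟨(reflection (hypExt Qκ) _ hb1 * reflection (hypExt Qκ) _ hc1) *
    (reflection (hypExt Qκ) _ hb2 * reflection (hypExt Qκ) _ hc2), ?_, ?_, ?_, ?_⟩
  · have hrep : IsRep (hypExt Qκ)
        ((reflection (hypExt Qκ) _ hb1 * reflection (hypExt Qκ) _ hc1) *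
          (reflection (hypExt Qκ) _ hb2 * reflection (hypExt Qκ) _ hc2))
        (([eH F κ - d • fH F κ] ++ [eH F κ - (1 : F) • fH F κ]) ++
          ([ext0 e2 - d • ext0 f2] ++ [ext0 e2 - (1 : F) • ext0 f2])) :=
      isRep_mul _ (isRep_mul _ (isRep_reflection _ _ hb1) (isRep_reflection _ _ hc1))
        (isRep_mul _ (isRep_reflection _ _ hb2) (isRep_reflection _ _ hc2))
    rw [OmegaCrit.mem_Omega_iff (hypExt Qκ) (hypExt_nondegenerate Qκ hQκ)
      (fun h4 => by have := H.card5; omega) (by have := H.card5; omega) _ _ hrep]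
    refine ⟨⟨2, rfl⟩, ?_⟩
    simp only [List.cons_append, List.nil_append, List.map_cons, List.map_nil, List.prod_cons,
      List.prod_nil, mul_one]
    rw [OmegaTrans.quad_torus_left heH hfH hefH, OmegaTrans.quad_torus_left heH hfH hefH,
      OmegaTrans.quad_torus_left hE2 hF2 hEF2, OmegaTrans.quad_torus_left hE2 hF2 hEF2]
    exact ⟨d, by ring⟩
  · rw [act_mul, OmegaTrans.act_torus (hypExt Qκ) hE2 hF2 hEF2 d hd hb2 hc2,
      polar_comm _ (ext0 f2) (eH F κ), polar_eH_ext0, polar_comm _ (ext0 e2) (eH F κ),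
      polar_eH_ext0]
    simp only [mul_zero, zero_smul, add_zero]
    rw [OmegaTrans.act_torus (hypExt Qκ) heH hfH hefH d hd hb1 hc1, hfe, hee]
    simp only [mul_zero, zero_smul, add_zero, mul_one]
    rw [sub_smul, one_smul]
    abel
  · rw [act_mul, OmegaTrans.act_torus (hypExt Qκ) hE2 hF2 hEF2 d hd hb2 hc2,
      polar_comm _ (ext0 f2) (fH F κ), polar_fH_ext0, polar_comm _ (ext0 e2) (fH F κ),
      polar_fH_ext0]
    simp only [mul_zero, zero_smul, add_zero]
    rw [OmegaTrans.act_torus (hypExt Qκ) heH hfH hefH d hd hb1 hc1, hff, hefH]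
    simp only [mul_zero, zero_smul, add_zero, mul_one]
    rw [sub_smul, one_smul]
    abel
  · intro x
    rw [act_mul, OmegaTrans.act_torus (hypExt Qκ) hE2 hF2 hEF2 d hd hb2 hc2,
      polar_ext0_ext0, polar_ext0_ext0, ← ext0_smul, ← ext0_smul, ← ext0_add, ← ext0_add,
      OmegaTrans.act_torus (hypExt Qκ) heH hfH hefH d hd hb1 hc1,
      polar_fH_ext0, polar_eH_ext0]
    simp only [mul_zero, zero_smul, add_zero]

end ext

end Cfsg.Agent.Lib.Helper5.OMMOrbit
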