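import Mathlib
import Cfsg.Prelude
import Cfsg.Agent.Lib.Helper5.OmegaSimple
import Cfsg.Agent.Lib.Helper5.QuadWitt

set_option autoImplicit false
set_option linter.unusedSectionVars false
set_option linter.unusedVariables false
open Cfsg

/-! The standing hypotheses of `OmegaSimple` for an arbitrary non-degenerate quadratic form of
dimension at least seven over a finite field. -/

namespace Cfsg.Agent.Lib.Helper5.OrthBridge

open Matrix QuadraticMap Module Cfsg.Agent.Lib.Helper5.CartanDieudonne Cfsg.Agent.Lib.Helper5.Refl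
  Cfsg.Agent.Lib.Helper5.OrthCard Cfsg.Agent.Lib.Helper5.Siegel Cfsg.Agent.Lib.Helper5.QuadIsom
  Cfsg.Agent.Lib.Helper5.SiegelComm Cfsg.Agent.Lib.Helper5.OmegaSimple
open scoped commutatorElement

variable {ι : Type} [Fintype ι] [DecidableEq ι] {F : Type*} [Field F]
  {Q : QuadraticForm F (ι → F)}

/-- a normal subgroup containing one family of long root elements with independent parameters
contains all long root elements -/
theorem siegel_mem_of_std (hQ : (polarBilin Q).Nondegenerate)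
    (N : Subgroup ↥(isometryGroup F ⇑Q)) [N.Normal] (e0 e2 : ι → F) (h0 : Q e0 = 0)
    (h2 : Q e2 = 0) (huv0 : polar ⇑Q e0 e2 = 0) (hli0 : LinearIndependent F ![e0, e2])
    (hstd : ∀ c, siegel Q e0 e2 h0 h2 huv0 c ∈ N)
    (u v : ι → F) (hu : Q u = 0) (hv : Q v = 0) (huv : polar ⇑Q u v = 0) (c : F) :
    siegel Q u v hu hv huv c ∈ N := by
  by_cases hli : LinearIndependent F ![u, v]
  · obtain ⟨φ, hφ, hφx⟩ := QuadIsom.witt_family Q hQ 2 ![e0, e2] ![u, v] hli0 hli
      (by
        intro j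
        fin_cases j
        · simp [h0, hu]
        · simp [h2, hv])
      (by
        intro j k
        fin_cases j <;> fin_cases k
        · simp [polar_self, h0, hu]
        · simpa using huv0.trans huv.symm
        · simp only [Fin.mk_one, Fin.isValue, Matrix.cons_val_one, Matrix.cons_val_zero,
            Fin.zero_eta]
          rw [polar_comm, huv0, polar_comm, huv]
        · simp [polar_self, h2, hv])
    obtain ⟨a, ha⟩ := exists_isom_of_linearEquiv Q φ hφ
    have hau : act Q a e0 = u := by rw [ha]; exact hφx 0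
    have hav : act Q a e2 = v := by rw [ha]; exact hφx 1
    have hconj := conj_siegel Q a e0 e2 h0 h2 huv0 c
    have hnorm : a * siegel Q e0 e2 h0 h2 huv0 c * a⁻¹ ∈ N :=
      (inferInstance : N.Normal).conj_mem _ (hstd c) a
    rw [hconj] at hnorm
    have : siegel Q u v hu hv huv c = siegel Q (act Q a e0) (act Q a e2)
        (by rw [quad_act, h0]) (by rw [quad_act, h2]) (by rw [polar_act, huv0]) c := by
      apply Subtype.ext
      apply Units.ext
      rw [siegel_coe, siegel_coe, hau, hav]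
    rw [this]
    exact hnorm
  · have : siegel Q u v hu hv huv c = 1 := by
      apply Subtype.ext
      apply Units.ext
      rw [siegel_coe, siegelMatrix_eq_one_of_not_li Q u v c hli]
      rfl
    rw [this]
    exact Subgroup.one_mem _

/-- the standing hypotheses from three abstract hyperbolic pairs -/
theorem hyp_of_vectors (hQ : (polarBilin Q).Nondegenerate) (h5 : 5 ≤ Fintype.card ι)
    (e0 e1 f1 e2 : ι → F) (h0 : Q e0 = 0) (h1 : Q e1 = 0) (hf : Q f1 = 0) (h2 : Q e2 = 0)
    (huw : polar ⇑Q e0 e1 = 0) (hw'v : polar ⇑Q f1 e2 = 0) (huv : polar ⇑Q e0 e2 = 0)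
    (huw' : polar ⇑Q e0 f1 = 0) (hww' : polar ⇑Q e1 f1 = 1) (hwv : polar ⇑Q e1 e2 = 0)
    (hli : LinearIndependent F ![e0, e2]) : Hyp Q := by
  have key : ∀ c : F, siegel Q e0 e2 h0 h2 huv c =
      ⁅(siegel Q e0 e1 h0 h1 huw (-c) : ↥(isometryGroup F ⇑Q)),
        (siegel Q f1 e2 hf h2 hw'v 1 : ↥(isometryGroup F ⇑Q))⁆ := by
    intro c
    have := siegel_commutator Q e0 e2 e1 f1 h0 h2 h1 hf huw hw'v huv huw' hww' hwv (-c) 1
    have hc : -(-c * 1) = c := by ring
    rw [hc] at this
    exact this.symm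
  have hS1 : ∀ (u v : ι → F) (hu : Q u = 0) (hv : Q v = 0) (huv' : polar ⇑Q u v = 0) (c : F),
      siegel Q u v hu hv huv' c ∈ commutator ↥(isometryGroup F ⇑Q) := by
    apply siegel_mem_of_std hQ _ e0 e2 h0 h2 huv hli
    intro c
    rw [key c]
    exact Subgroup.commutator_mem_commutator (Subgroup.mem_top _) (Subgroup.mem_top _)
  have hS2 : ∀ (u v : ι → F) (hu : Q u = 0) (hv : Q v = 0) (huv' : polar ⇑Q u v = 0) (c : F),
      siegel Q u v hu hv huv' c ∈ ⁅Omega F ⇑Q, Omega F ⇑Q⁆ := by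
    apply siegel_mem_of_std hQ _ e0 e2 h0 h2 huv hli
    intro c
    rw [key c]
    exact Subgroup.commutator_mem_commutator (hS1 _ _ _ _ _ _) (hS1 _ _ _ _ _ _)
  exact ⟨hQ, h5, hS1, hS2⟩

/-- the standing hypotheses for any non-degenerate quadratic form in dimension at least seven
over a finite field -/
theorem hyp_of_nondeg [Fintype F] (hQ : (polarBilin Q).Nondegenerate)
    (h7 : 7 ≤ Fintype.card ι) : Hyp Q := by
  have hfin : finrank F (ι → F) = 2 * 3 + (Fintype.card ι - 6) := by
    rw [Module.finrank_fintype_fun_eq_card]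
    omega
  obtain ⟨e, f, R, hs, hef, hee, -, -, -⟩ := Cfsg.Agent.Lib.Helper5.exists_hyperbolic_family 3 Q
    (fun z hz => hQ.1 z hz) (Fintype.card ι - 6) (by omega) hfin
  have hli : LinearIndependent F ![e 0, e 2] := by
    rw [LinearIndependent.pair_iff]
    intro s t hst
    have e1 := congrArg (fun x => polar ⇑Q x (f 0)) hst
    have e2 := congrArg (fun x => polar ⇑Q x (f 2)) hst
    simp only [polar_add_left, polar_smul_left, hef, polar_zero_left, smul_eq_mul] at e1 e2
    simp at e1 e2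
    exact ⟨e1, e2⟩
  refine hyp_of_vectors hQ (by omega) (e 0) (e 1) (f 1) (e 2) (hs 0).1 (hs 1).1 (hs 1).2 (hs 2).1
    (hee 0 1).1 ?_ (hee 0 2).1 ?_ ?_ (hee 1 2).1 hli
  · rw [polar_comm, hef]; simp
  · rw [hef]; simp
  · rw [hef]; simp

section fn
variable [Fintype F]

/-- a non-degenerate quadratic form given as a function, bundled -/
noncomputable def toQF (Q₀ : (ι → F) → F) (hQ₀ : Cfsg.Geo.IsNondegenerateQuadraticForm Q₀) :
    QuadraticForm F (ι → F) :=
  QuadraticMap.ofPolar Q₀
    (fun a x => by rw [hQ₀.smul, _root_.sq, smul_eq_mul])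
    (fun x x' y => hQ₀.polar_bilinear.add_left x x' y)
    (fun a x y => by rw [hQ₀.polar_bilinear.smul_left, smul_eq_mul])

theorem coe_toQF (Q₀ : (ι → F) → F) (hQ₀ : Cfsg.Geo.IsNondegenerateQuadraticForm Q₀) :
    ⇑(toQF Q₀ hQ₀) = Q₀ := rfl

theorem toQF_nondegenerate (Q₀ : (ι → F) → F) (hQ₀ : Cfsg.Geo.IsNondegenerateQuadraticForm Q₀) :
    (polarBilin (toQF Q₀ hQ₀)).Nondegenerate := by
  constructor
  · intro u hu
    by_contra hu0
    obtain ⟨x, hx⟩ := (hQ₀.nondegenerate u hu0).2
    exact hx (hu x)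
  · intro u hu
    by_contra hu0
    obtain ⟨x, hx⟩ := (hQ₀.nondegenerate u hu0).1
    exact hx (hu x)

theorem hyp_toQF (Q₀ : (ι → F) → F) (hQ₀ : Cfsg.Geo.IsNondegenerateQuadraticForm Q₀)
    (h7 : 7 ≤ Fintype.card ι) : Hyp (toQF Q₀ hQ₀) :=
  hyp_of_nondeg (toQF_nondegenerate Q₀ hQ₀) h7

end fn

end Cfsg.Agent.Lib.Helper5.OrthBridge
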