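import Mathlib
import Cfsg.Agent.S0228
import Cfsg.Agent.Lib.Helper5.KleinPairs

set_option autoImplicit false

/-! A Klein four-group extended by an element of order three acting fixed-point-freely is `A_4`. -/

namespace Cfsg.Agent.Lib.Helper5.A4Sub

open Cfsg.Agent.Lib.Helper5.KleinPairs
open scoped Pointwise

variable {G : Type*} [Group G]

theorem exists_A4 (s t h : G) (hs : s * s = 1) (ht : t * t = 1)
    (hs1 : s ≠ 1) (hne : s ≠ t) (hc : t * s = s * t) (h3 : h * h * h = 1)
    (h1 : h * s = t * h) (h2 : h * t = s * t * h) :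
    ∃ H : Subgroup G, Nonempty (H ≃* alternatingGroup (Fin 4)) := by
  classical
  have ht1 : t ≠ 1 := by
    rintro rfl
    rw [one_mul] at h1
    exact hs1 (by simpa using h1)
  have hh1 : h ≠ 1 := by
    rintro rfl
    rw [one_mul, mul_one] at h1
    exact hne h1
  have hinv : h⁻¹ = h * h := by
    rw [inv_eq_iff_mul_eq_one, ← mul_assoc, h3]
  have ho : orderOf h = 3 := by
    have : Fact (Nat.Prime 3) := ⟨Nat.prime_three⟩
    apply orderOf_eq_prime
    · rw [pow_succ, pow_two, h3]
    · exact hh1
  set V := kv s t hs ht hc with hVdef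
  set Z := Subgroup.zpowers h with hZdef
  have hVc : Nat.card V = 4 := card_kv s t hs ht hc hs1 ht1 hne
  have hZc : Nat.card Z = 3 := by rw [hZdef, Nat.card_zpowers, ho]
  -- `h` conjugates `V` into `V`
  have hconj : ∀ x ∈ V, h * x * h⁻¹ ∈ V := by
    intro x hx
    rcases hx with hx | hx | hx | hx
    · rw [hx]; simp [one_mem]
    · rw [hx, h1, mul_inv_cancel_right]
      exact right_mem_kv s t hs ht hc
    · rw [hx, h2, mul_inv_cancel_right]
      exact Or.inr (Or.inr (Or.inr rfl))
    · rw [hx, ← mul_assoc, h1, mul_assoc t, h2, ← mul_assoc, mul_inv_cancel_right, ← mul_assoc,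
        hc, mul_assoc, ht, mul_one]
      exact left_mem_kv s t hs ht hc
  have hnorm : h ∈ Subgroup.normalizer (V : Set G) := by
    rw [Subgroup.mem_normalizer_iff]
    intro x
    refine ⟨hconj x, fun hx => ?_⟩
    have := hconj _ (hconj _ hx)
    have e : h * (h * (h * x * h⁻¹) * h⁻¹) * h⁻¹ = x := by
      have h3' : h * (h * h) = 1 := by rw [← mul_assoc]; exact h3
      rw [hinv]
      calc h * (h * (h * x * (h * h)) * (h * h)) * (h * h)
          = (h * h * h) * x * ((h * h * h) * (h * h * h)) := by simp only [mul_assoc]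
        _ = x := by rw [h3]; simp
    rw [e] at this
    exact this
  have hZle : Z ≤ Subgroup.normalizer (V : Set G) := by
    rw [hZdef, Subgroup.zpowers_le]
    exact hnorm
  set K := Z ⊔ V with hKdef
  have hcoe : (↑K : Set G) = (Z : Set G) * (V : Set G) :=
    Subgroup.coe_mul_of_left_le_normalizer_right Z V hZle
  have hZfin : Finite Z := Nat.finite_of_card_ne_zero (by rw [hZc]; norm_num)
  have hVfin : Finite V := Nat.finite_of_card_ne_zero (by rw [hVc]; norm_num)
  have hKfin : Finite K := by
    have : ((Z : Set G) * (V : Set G)).Finite :=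
      Set.Finite.mul (Set.toFinite _) (Set.toFinite _)
    rw [← hcoe] at this
    exact this
  have hKle : Nat.card K ≤ 12 := by
    have e1 : Nat.card K = Nat.card (↑K : Set G) := rfl
    rw [e1, hcoe]
    refine (Set.natCard_mul_le).trans ?_
    have e2 : Nat.card (Z : Set G) = 3 := hZc
    have e3 : Nat.card (V : Set G) = 4 := hVc
    rw [e2, e3]
  have hK12 : Nat.card K = 12 := by
    have d3 : 3 ∣ Nat.card K := hZc ▸ Subgroup.card_dvd_of_le (le_sup_left : Z ≤ K)
    have d4 : 4 ∣ Nat.card K := hVc ▸ Subgroup.card_dvd_of_le (le_sup_right : V ≤ K)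
    have hpos : 0 < Nat.card K := Nat.card_pos
    omega
  have hbot : Z ⊓ V = ⊥ := by
    apply disjoint_iff.mp
    apply Subgroup.disjoint_of_coprime_natCard
    rw [hZc, hVc]
    norm_num
  refine ⟨K, Cfsg.Agent.S0228.result hK12 ?_⟩
  intro z hz hzc
  have hz2 : z.1 * z.1 = 1 := by
    have := pow_orderOf_eq_one z
    rw [hz, pow_two] at this
    exact congrArg Subtype.val this
  have hz1 : z.1 ≠ 1 := by
    intro h
    have : z = 1 := Subtype.ext h
    rw [this, orderOf_one] at hz
    norm_num at hz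
  have hzmem : z.1 ∈ (Z : Set G) * (V : Set G) := by
    rw [← hcoe]; exact z.2
  obtain ⟨y, hy, v, hv, hyv⟩ := hzmem
  have hy3 : y * y * y = 1 := by
    obtain ⟨k, rfl⟩ := Subgroup.mem_zpowers_iff.mp hy
    have : (h ^ k) * (h ^ k) * (h ^ k) = (h * h * h) ^ k := by
      rw [← zpow_add, ← zpow_add]
      have e : h * h * h = h ^ (3 : ℤ) := by
        rw [show (3 : ℤ) = 1 + 1 + 1 by norm_num, zpow_add, zpow_add, zpow_one]
      rw [e, ← zpow_mul]
      congr 1
      ring
    rw [this, h3, one_zpow]
  have hyy : y * y ∈ Z ⊓ V := by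
    rw [Subgroup.mem_inf]
    refine ⟨mul_mem hy hy, ?_⟩
    have hyn : y⁻¹ * v * y ∈ V := by
      have := (Subgroup.mem_normalizer_iff.mp (hZle (inv_mem hy)) v).mp hv
      rwa [inv_inv] at this
    have e : y * y = (y⁻¹ * v * y * v)⁻¹ := by
      rw [eq_inv_iff_mul_eq_one]
      have : y * y * (y⁻¹ * v * y * v) = (y * v) * (y * v) := by
        simp only [mul_assoc, mul_inv_cancel_left]
      rw [this]
      have hyv' : y * v = z.1 := hyv
      rw [hyv', hz2]
    rw [e]
    exact inv_mem (mul_mem hyn hv)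
  rw [hbot, Subgroup.mem_bot] at hyy
  have hy1 : y = 1 := by
    have := hy3
    rw [hyy, one_mul] at this
    exact this
  have hzv : z.1 = v := by
    have hyv' : y * v = z.1 := hyv
    rw [← hyv', hy1, one_mul]
  have hhK : h ∈ K := (le_sup_left : Z ≤ K) (Subgroup.mem_zpowers h)
  have hcomm : h * z.1 = z.1 * h := by
    have := Subgroup.mem_center_iff.mp hzc ⟨h, hhK⟩
    exact congrArg Subtype.val this
  rw [hzv] at hcomm hz1
  rcases hv with hv | hv | hv | hv
  · exact hz1 hv
  · rw [hv, h1] at hcomm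
    exact hne (mul_right_cancel hcomm).symm
  · rw [hv, h2] at hcomm
    have := mul_right_cancel hcomm
    have : s * t = 1 * t := by rw [this, one_mul]
    exact hs1 (mul_right_cancel this)
  · rw [hv, ← mul_assoc, h1, mul_assoc t, h2, ← mul_assoc, ← mul_assoc, hc, mul_assoc s,
      ht, mul_one] at hcomm
    have h5 := mul_right_cancel hcomm
    have : s * 1 = s * t := by rw [mul_one]; exact h5
    exact ht1 (mul_left_cancel this).symm

end Cfsg.Agent.Lib.Helper5.A4Sub
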