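import Mathlib
import Cfsg.Agent.Lib.Helper5.A4Sub
import Cfsg.Agent.Lib.Helper5.PSL2KleinClasses

set_option autoImplicit false

/-! Subgroups `A_4` of `PSL_2(q)`. -/

namespace Cfsg.Agent.Lib.Helper5.PSL2A4

open Matrix Cfsg.Agent.Lib.Helper5.SL2Cyclic Cfsg.Agent.Lib.Helper5.SL2Quat
  Cfsg.Agent.Lib.Helper5.SumTwoSq Cfsg.Agent.Lib.Helper5.SL2Four
  Cfsg.Agent.Lib.Helper5.KleinPairs Cfsg.Agent.Lib.Helper5.PSL2Pairs
  Cfsg.Agent.Lib.Helper5.PairOrbits Cfsg.Agent.Lib.Helper5.PSL2KleinClasses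

section odd
variable {F : Type*} [Field F]

local notation "SL2" => Matrix.SpecialLinearGroup (Fin 2) F
local notation "PSL2" => Matrix.ProjectiveSpecialLinearGroup (Fin 2) F

theorem hh_trace (h2 : (2 : F) ≠ 0) (p r : F) (hpr : p ^ 2 + r ^ 2 = -1) :
    (hh h2 p r hpr).1.trace = 1 := by
  rw [trace_eq]
  show (!![(1 + p + r) / 2, (1 + r - p) / 2; (-1 + r - p) / 2, (1 - p - r) / 2] :
    Matrix (Fin 2) (Fin 2) F) 0 0 +
    (!![(1 + p + r) / 2, (1 + r - p) / 2; (-1 + r - p) / 2, (1 - p - r) / 2] :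
    Matrix (Fin 2) (Fin 2) F) 1 1 = 1
  simp
  field_simp
  ring

theorem hh_cube (h2 : (2 : F) ≠ 0) (p r : F) (hpr : p ^ 2 + r ^ 2 = -1) :
    hh h2 p r hpr * hh h2 p r hpr * hh h2 p r hpr = negOne F := by
  apply Subtype.ext
  have hc := cayley2 (hh h2 p r hpr).1
  rw [(hh h2 p r hpr).2, hh_trace, one_smul, one_smul] at hc
  show (hh h2 p r hpr).1 * (hh h2 p r hpr).1 * (hh h2 p r hpr).1 = -1
  rw [hc, sub_mul, hc, one_mul]
  abel

theorem exists_A4_odd [Fintype F] (hodd : Fintype.card F % 2 = 1) :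
    ∃ H : Subgroup PSL2, Nonempty (H ≃* alternatingGroup (Fin 4)) := by
  classical
  have h2 : (2 : F) ≠ 0 := two_ne_zero_of_odd hodd
  obtain ⟨p, r, hpr⟩ := exists_sq_add_sq hodd (-1 : F)
  obtain ⟨⟨a1, a2⟩, b1, b2, b3, b4⟩ := Pw_mem h2 p r hpr
  have a1' : (QuotientGroup.mk (qi F) : PSL2) ≠ 1 := a1
  have a2' : (QuotientGroup.mk (qi F) : PSL2) * QuotientGroup.mk (qi F) = 1 := a2
  have b2' : (QuotientGroup.mk (qj p r hpr) : PSL2) * QuotientGroup.mk (qj p r hpr) = 1 := b2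
  have b3' : (QuotientGroup.mk (qj p r hpr) : PSL2) ≠ QuotientGroup.mk (qi F) := b3
  have b4' : (QuotientGroup.mk (qj p r hpr) : PSL2) * QuotientGroup.mk (qi F) =
    QuotientGroup.mk (qi F) * QuotientGroup.mk (qj p r hpr) := b4
  refine Cfsg.Agent.Lib.Helper5.A4Sub.exists_A4 (QuotientGroup.mk (qi F) : PSL2)
    (QuotientGroup.mk (qj p r hpr)) (QuotientGroup.mk (hh h2 p r hpr)) a2' b2' a1'
    (fun h => b3' h.symm) b4' ?_ ?_ ?_
  · rw [← QuotientGroup.mk_mul, ← QuotientGroup.mk_mul, hh_cube, mk_negOne h2]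
  · rw [← QuotientGroup.mk_mul, ← QuotientGroup.mk_mul, hh_qi]
  · rw [← QuotientGroup.mk_mul, ← QuotientGroup.mk_mul, ← QuotientGroup.mk_mul, hh_qj]

end odd

section char2
variable {F : Type*} [Field F]

local notation "SL2" => Matrix.SpecialLinearGroup (Fin 2) F
local notation "PSL2" => Matrix.ProjectiveSpecialLinearGroup (Fin 2) F

theorem center_eq_bot [CharP F 2] : Subgroup.center SL2 = ⊥ := by
  rw [eq_bot_iff]
  intro z hz
  rw [Matrix.SpecialLinearGroup.mem_center_iff] at hz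
  obtain ⟨r, hr, hr2⟩ := hz
  rw [Fintype.card_fin] at hr
  have h2 : (2 : F) = 0 := CharTwo.two_eq_zero
  have hr' : (r - 1) * (r - 1) = 0 := by linear_combination hr - (r - 1) * h2
  have hr1 : r = 1 := by
    rcases mul_eq_zero.mp hr' with h | h <;> exact sub_eq_zero.mp h
  rw [Subgroup.mem_bot]
  apply Subtype.ext
  rw [← hr2, hr1]
  simp

theorem mk_injective [CharP F 2] : Function.Injective (QuotientGroup.mk : SL2 → PSL2) := by
  intro a b hab
  have h : a⁻¹ * b ∈ Subgroup.center SL2 := QuotientGroup.eq.mp hab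
  rw [center_eq_bot, Subgroup.mem_bot] at h
  exact (inv_mul_eq_one.mp h)

/-- upper unitriangular -/
def up (b : F) : SL2 := ⟨!![1, b; 0, 1], by simp [det_fin_two]⟩

/-- diagonal -/
def dg (a : F) (ha : a ≠ 0) : SL2 := ⟨!![a, 0; 0, a⁻¹], by simp [det_fin_two, ha]⟩

theorem up_mul (b c : F) : up b * up c = up (b + c) := by
  apply Subtype.ext
  show (!![1, b; 0, 1] : Matrix (Fin 2) (Fin 2) F) * !![1, c; 0, 1] = !![1, b + c; 0, 1]
  ext i j
  fin_cases i <;> fin_cases j <;> simp [mul_apply, Fin.sum_univ_two, add_comm]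

theorem up_zero : up (0 : F) = 1 := by
  apply Subtype.ext
  show (!![1, 0; 0, 1] : Matrix (Fin 2) (Fin 2) F) = 1
  ext i j
  fin_cases i <;> fin_cases j <;> simp

theorem up_injective : Function.Injective (up : F → SL2) := by
  intro b c h
  have := congrFun (congrFun (congrArg Subtype.val h) 0) 1
  simpa [up] using this

theorem dg_up (a : F) (ha : a ≠ 0) (b : F) : dg a ha * up b = up (a * a * b) * dg a ha := by
  apply Subtype.ext
  show (!![a, 0; 0, a⁻¹] : Matrix (Fin 2) (Fin 2) F) * !![1, b; 0, 1] =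
    !![1, a * a * b; 0, 1] * !![a, 0; 0, a⁻¹]
  ext i j
  fin_cases i <;> fin_cases j <;> simp [mul_apply, Fin.sum_univ_two]
  field_simp

theorem dg_cube (a : F) (ha : a ≠ 0) (h3 : a * a * a = 1) : dg a ha * dg a ha * dg a ha = 1 := by
  apply Subtype.ext
  show (!![a, 0; 0, a⁻¹] : Matrix (Fin 2) (Fin 2) F) * !![a, 0; 0, a⁻¹] * !![a, 0; 0, a⁻¹] = 1
  have h3' : a⁻¹ * a⁻¹ * a⁻¹ = 1 := by
    rw [← mul_inv, ← mul_inv, h3, inv_one]
  ext i j
  fin_cases i <;> fin_cases j <;> simp [mul_apply, Fin.sum_univ_two, h3, h3']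

theorem exists_A4_SL2 [CharP F 2] (w : F) (hw : w * w + w + 1 = 0) :
    ∃ H : Subgroup SL2, Nonempty (H ≃* alternatingGroup (Fin 4)) := by
  have h2 : (2 : F) = 0 := CharTwo.two_eq_zero
  have hw0 : w ≠ 0 := by
    rintro rfl
    simp at hw
  have hw3 : w * w * w = 1 := by linear_combination (w - 1) * hw
  have hww : w * w ≠ 0 := mul_ne_zero hw0 hw0
  refine Cfsg.Agent.Lib.Helper5.A4Sub.exists_A4 (up (1 : F)) (up (w * w)) (dg w hw0)
    ?_ ?_ ?_ ?_ ?_ (dg_cube w hw0 hw3) ?_ ?_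
  · rw [up_mul, ← up_zero]
    congr 1
    linear_combination h2
  · rw [up_mul, ← up_zero]
    congr 1
    linear_combination (w * w) * h2
  · rw [← up_zero]
    exact fun h => one_ne_zero (up_injective h)
  · intro h
    have h1 := up_injective h
    have : w = 0 := by linear_combination hw + h1 - h2
    exact hw0 this
  · rw [up_mul, up_mul, add_comm]
  · rw [dg_up, mul_one]
  · rw [dg_up, up_mul]
    congr 2
    linear_combination w * hw3 - hw + w * h2

theorem exists_A4_char2 [CharP F 2] [Fintype F] (n : ℕ) (hF : Fintype.card F = 2 ^ n) (hn : Even n) :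
    ∃ H : Subgroup PSL2, Nonempty (H ≃* alternatingGroup (Fin 4)) := by
  classical
  have : Fact (Nat.Prime 3) := ⟨Nat.prime_three⟩
  have hcard : Fintype.card Fˣ = 2 ^ n - 1 := by rw [Fintype.card_units, hF]
  have h3 : 3 ∣ Fintype.card Fˣ := by
    rw [hcard]
    obtain ⟨k, rfl⟩ := hn
    have : (2 : ℕ) ^ (k + k) = 4 ^ k := by rw [← two_mul, pow_mul]; norm_num
    rw [this]
    have h1 : (4 : ℕ) ^ k % 3 = 1 := by rw [Nat.pow_mod]; simp
    have hpos : 0 < 4 ^ k := pow_pos (by norm_num) k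
    omega
  obtain ⟨u, hu⟩ := exists_prime_orderOf_dvd_card 3 h3
  have hu3 : (u : F) * u * u = 1 := by
    have := pow_orderOf_eq_one u
    rw [hu] at this
    have h := congrArg Units.val this
    rw [Units.val_pow_eq_pow_val, Units.val_one] at h
    rw [← h]; ring
  have hu1 : (u : F) ≠ 1 := by
    intro h
    have : u = 1 := Units.ext h
    rw [this, orderOf_one] at hu
    norm_num at hu
  have hw : (u : F) * u + u + 1 = 0 := by
    have : ((u : F) - 1) * ((u : F) * u + u + 1) = 0 := by linear_combination hu3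
    exact (mul_eq_zero.mp this).resolve_left (sub_ne_zero.mpr hu1)
  obtain ⟨H, ⟨e⟩⟩ := exists_A4_SL2 (u : F) hw
  let f : SL2 →* PSL2 := QuotientGroup.mk' _
  have hf : Function.Injective f := mk_injective
  exact ⟨H.map f, ⟨(H.equivMapOfInjective f hf).symm.trans e⟩⟩

/-- a non-identity matrix fixing `v ≠ 0`: every fixed vector is a multiple of `v` -/
theorem fixed_line (Z : Matrix (Fin 2) (Fin 2) F) (hZ : Z ≠ 1) (v w : Fin 2 → F) (hv : v ≠ 0)
    (hZv : Z *ᵥ v = v) (hZw : Z *ᵥ w = w) : ∃ c : F, w = c • v := by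
  set M : Matrix (Fin 2) (Fin 2) F := !![v 0, w 0; v 1, w 1] with hM
  have hZM : Z * M = M := by
    have e0 := congrFun hZv 0
    have e1 := congrFun hZv 1
    have f0 := congrFun hZw 0
    have f1 := congrFun hZw 1
    simp [mulVec, dotProduct, Fin.sum_univ_two] at e0 e1 f0 f1
    ext i j
    fin_cases i <;> fin_cases j <;> simp [hM, mul_apply, Fin.sum_univ_two, e0, e1, f0, f1]
  have hdet : M.det = 0 := by
    by_contra hd
    apply hZ
    have hu : IsUnit M.det := isUnit_iff_ne_zero.mpr hd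
    calc Z = Z * (M * M⁻¹) := by rw [Matrix.mul_nonsing_inv _ hu, mul_one]
      _ = (Z * M) * M⁻¹ := (mul_assoc _ _ _).symm
      _ = 1 := by rw [hZM, Matrix.mul_nonsing_inv _ hu]
  rw [hM, det_fin_two_of] at hdet
  by_cases h0 : v 0 = 0
  · have h1 : v 1 ≠ 0 := by
      intro h1
      apply hv
      ext i
      fin_cases i
      · exact h0
      · exact h1
    refine ⟨w 1 / v 1, ?_⟩
    ext i
    fin_cases i
    · simp only [Fin.zero_eta, Pi.smul_apply, smul_eq_mul]
      rw [h0, mul_zero]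
      rw [h0, zero_mul, zero_sub, neg_eq_zero] at hdet
      exact (mul_eq_zero.mp hdet).resolve_right h1
    · simp only [Fin.mk_one, Pi.smul_apply, smul_eq_mul]
      field_simp
  · refine ⟨w 0 / v 0, ?_⟩
    ext i
    fin_cases i
    · simp only [Fin.zero_eta, Pi.smul_apply, smul_eq_mul]
      field_simp
    · simp only [Fin.mk_one, Pi.smul_apply, smul_eq_mul]
      field_simp
      linear_combination hdet

/-- a matrix of determinant one fixing a nonzero vector has trace two -/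
theorem trace_of_fixed (Z : Matrix (Fin 2) (Fin 2) F) (hZ : Z.det = 1) (v : Fin 2 → F)
    (hv : v ≠ 0) (hZv : Z *ᵥ v = v) : Z.trace = 2 := by
  have h0 : (Z - 1).det = 0 := by
    rw [← Matrix.exists_mulVec_eq_zero_iff]
    exact ⟨v, hv, by rw [Matrix.sub_mulVec, hZv, Matrix.one_mulVec, sub_self]⟩
  rw [det_sub_one, hZ] at h0
  linear_combination -h0

/-- in characteristic two, an involution has a nonzero fixed vector -/
theorem exists_fixed [CharP F 2] (X : Matrix (Fin 2) (Fin 2) F) (hXX : X * X = 1) :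
    ∃ v : Fin 2 → F, v ≠ 0 ∧ X *ᵥ v = v := by
  have h2 : (2 : F) = 0 := CharTwo.two_eq_zero
  have hsq : (X - 1) * (X - 1) = 0 := by
    rw [sub_mul, mul_sub, mul_sub, hXX, mul_one, one_mul, mul_one]
    have : (1 : Matrix (Fin 2) (Fin 2) F) - X - (X - 1) = (2 : F) • (1 - X) := by
      rw [two_smul]; abel
    rw [this, h2, zero_smul]
  have h0 : (X - 1).det = 0 := by
    have := congrArg Matrix.det hsq
    rw [det_mul] at this
    have h0 : (0 : Matrix (Fin 2) (Fin 2) F).det = 0 := by simp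
    rw [h0] at this
    exact mul_self_eq_zero.mp this
  obtain ⟨v, hv, hXv⟩ := Matrix.exists_mulVec_eq_zero_iff.mpr h0
  refine ⟨v, hv, ?_⟩
  rw [Matrix.sub_mulVec, Matrix.one_mulVec, sub_eq_zero] at hXv
  exact hXv

theorem no_A4_SL2 [CharP F 2] (hroot : ∀ a : F, a * a * a = 1 → a = 1)
    (x y h : SL2) (hx1 : x ≠ 1) (hxx : x * x = 1) (hyy : y * y = 1) (hxy : x * y = y * x)
    (hhx : h * x = y * h) (h3 : h * h * h = 1) (hne : x ≠ y) : False := by
  have h2 : (2 : F) = 0 := CharTwo.two_eq_zero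
  have hy1 : y ≠ 1 := by
    rintro rfl
    rw [one_mul] at hhx
    exact hx1 (by simpa using hhx)
  have hX1 : x.1 ≠ 1 := fun h => hx1 (Subtype.ext h)
  have hY1 : y.1 ≠ 1 := fun h => hy1 (Subtype.ext h)
  have hXX : x.1 * x.1 = 1 := congrArg Subtype.val hxx
  have hYY : y.1 * y.1 = 1 := congrArg Subtype.val hyy
  have hXY : x.1 * y.1 = y.1 * x.1 := congrArg Subtype.val hxy
  have hHX : h.1 * x.1 = y.1 * h.1 := congrArg Subtype.val hhx
  have hH3 : h.1 * h.1 * h.1 = 1 := congrArg Subtype.val h3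
  obtain ⟨v, hv, hXv⟩ := exists_fixed x.1 hXX
  -- `y` fixes `v`
  have hYv : y.1 *ᵥ v = v := by
    have hfix : x.1 *ᵥ (y.1 *ᵥ v) = y.1 *ᵥ v := by
      rw [Matrix.mulVec_mulVec, hXY, ← Matrix.mulVec_mulVec, hXv]
    obtain ⟨c, hc⟩ := fixed_line x.1 hX1 v (y.1 *ᵥ v) hv hXv hfix
    have hcc : (c * c) • v = v := by
      have : y.1 *ᵥ (y.1 *ᵥ v) = v := by
        rw [Matrix.mulVec_mulVec, hYY, Matrix.one_mulVec]
      rw [hc, Matrix.mulVec_smul, hc, smul_smul] at this
      exact this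
    have hc1 : c * c = 1 := by
      by_contra hne1
      apply hv
      have : (c * c - 1) • v = 0 := by rw [sub_smul, hcc, one_smul, sub_self]
      exact (smul_eq_zero.mp this).resolve_left (sub_ne_zero.mpr hne1)
    have hc' : (c - 1) * (c - 1) = 0 := by linear_combination hc1 - (c - 1) * h2
    have : c = 1 := by
      rcases mul_eq_zero.mp hc' with h | h <;> exact sub_eq_zero.mp h
    rw [hc, this, one_smul]
  -- `h v` is fixed by `y`
  have hfix2 : y.1 *ᵥ (h.1 *ᵥ v) = h.1 *ᵥ v := by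
    rw [Matrix.mulVec_mulVec, ← hHX, ← Matrix.mulVec_mulVec, hXv]
  obtain ⟨a, ha⟩ := fixed_line y.1 hY1 v (h.1 *ᵥ v) hv hYv hfix2
  have ha3 : (a * a * a) • v = v := by
    have e1 : h.1 *ᵥ (h.1 *ᵥ (h.1 *ᵥ v)) = v := by
      rw [Matrix.mulVec_mulVec, Matrix.mulVec_mulVec, hH3, Matrix.one_mulVec]
    have e2 : h.1 *ᵥ (h.1 *ᵥ (h.1 *ᵥ v)) = (a * a * a) • v := by
      rw [ha, Matrix.mulVec_smul, ha, smul_smul, Matrix.mulVec_smul, ha, smul_smul]
    rw [← e2, e1]
  have ha1 : a = 1 := by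
    apply hroot
    by_contra hne1
    apply hv
    have : (a * a * a - 1) • v = 0 := by rw [sub_smul, ha3, one_smul, sub_self]
    exact (smul_eq_zero.mp this).resolve_left (sub_ne_zero.mpr hne1)
  rw [ha1, one_smul] at ha
  have htr := trace_of_fixed h.1 h.2 v hv ha
  rw [h2] at htr
  have hc := cayley2 h.1
  rw [htr, h.2, zero_smul, one_smul, zero_sub] at hc
  have hH1 : h.1 = 1 := by
    have : h.1 * h.1 * h.1 = -h.1 := by rw [hc, neg_mul, one_mul]
    rw [hH3] at this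
    have h5 : h.1 = -1 := by rw [this, neg_neg]
    rw [h5]
    have : (-1 : Matrix (Fin 2) (Fin 2) F) - 1 = (2 : F) • (-1) := by rw [two_smul]; abel
    rw [h2, zero_smul, sub_eq_zero] at this
    exact this
  rw [hH1, one_mul, mul_one] at hHX
  exact hne (Subtype.ext hHX)

omit [Field F] in
theorem a4_elements : ∃ px py ph : alternatingGroup (Fin 4), px ≠ 1 ∧ px * px = 1 ∧
    py * py = 1 ∧ px * py = py * px ∧ ph * px = py * ph ∧ ph * ph * ph = 1 ∧ px ≠ py := by
  refine ⟨⟨Equiv.swap 0 1 * Equiv.swap 2 3, Equiv.Perm.mem_alternatingGroup.mpr (by decide)⟩,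
    ⟨Equiv.swap 0 2 * Equiv.swap 1 3, Equiv.Perm.mem_alternatingGroup.mpr (by decide)⟩,
    ⟨Equiv.swap 1 2 * Equiv.swap 2 3, Equiv.Perm.mem_alternatingGroup.mpr (by decide)⟩, ?_⟩
  decide

theorem no_A4_char2 [CharP F 2] [Fintype F] (n : ℕ) (hF : Fintype.card F = 2 ^ n) (hn : Odd n)
    (H : Subgroup PSL2) (e : H ≃* alternatingGroup (Fin 4)) : False := by
  classical
  have hcard : Fintype.card Fˣ = 2 ^ n - 1 := by rw [Fintype.card_units, hF]
  have hcop : Nat.Coprime 3 (Fintype.card Fˣ) := by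
    rw [hcard]
    obtain ⟨k, rfl⟩ := hn
    have : (2 : ℕ) ^ (2 * k + 1) = 2 * 4 ^ k := by rw [pow_succ, pow_mul]; norm_num; ring
    rw [this]
    have h1 : (4 : ℕ) ^ k % 3 = 1 := by rw [Nat.pow_mod]; simp
    have hpos : 0 < 4 ^ k := pow_pos (by norm_num) k
    rw [Nat.Prime.coprime_iff_not_dvd Nat.prime_three]
    omega
  have hroot : ∀ a : F, a * a * a = 1 → a = 1 := by
    intro a ha
    have ha0 : a ≠ 0 := by
      rintro rfl
      simp at ha
    have hu : (Units.mk0 a ha0) ^ 3 = 1 := by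
      apply Units.ext
      rw [Units.val_pow_eq_pow_val, Units.val_mk0, Units.val_one, ← ha]
      ring
    have d1 : orderOf (Units.mk0 a ha0) ∣ 3 := orderOf_dvd_of_pow_eq_one hu
    have d2 : orderOf (Units.mk0 a ha0) ∣ Fintype.card Fˣ := orderOf_dvd_card
    have d3 : orderOf (Units.mk0 a ha0) = 1 := Nat.eq_one_of_dvd_coprimes hcop d1 d2
    rw [orderOf_eq_one_iff] at d3
    have := congrArg Units.val d3
    rwa [Units.val_mk0, Units.val_one] at this
  -- elements of `A_4`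
  obtain ⟨px, py, ph, r1, r2, r3, r4, r5, r6, r7⟩ := a4_elements
  -- transport to `PSL2`
  let g : alternatingGroup (Fin 4) →* PSL2 := H.subtype.comp e.symm.toMonoidHom
  have hg : Function.Injective g := H.subtype_injective.comp e.symm.injective
  obtain ⟨x, hx⟩ := QuotientGroup.mk_surjective (g px)
  obtain ⟨y, hy⟩ := QuotientGroup.mk_surjective (g py)
  obtain ⟨h, hh⟩ := QuotientGroup.mk_surjective (g ph)
  refine no_A4_SL2 hroot x y h ?_ ?_ ?_ ?_ ?_ ?_ ?_
  · rintro rfl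
    apply r1
    apply hg
    rw [← hx, map_one]
    rfl
  · apply mk_injective
    rw [QuotientGroup.mk_mul, hx, ← map_mul, r2, map_one]
    rfl
  · apply mk_injective
    rw [QuotientGroup.mk_mul, hy, ← map_mul, r3, map_one]
    rfl
  · apply mk_injective
    rw [QuotientGroup.mk_mul, QuotientGroup.mk_mul, hx, hy, ← map_mul, ← map_mul, r4]
  · apply mk_injective
    rw [QuotientGroup.mk_mul, QuotientGroup.mk_mul, hx, hy, hh, ← map_mul, ← map_mul, r5]
  · apply mk_injective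
    rw [QuotientGroup.mk_mul, QuotientGroup.mk_mul, hh, ← map_mul, ← map_mul, r6, map_one]
    rfl
  · rintro rfl
    apply r7
    apply hg
    rw [← hx, ← hy]

end char2

end Cfsg.Agent.Lib.Helper5.PSL2A4
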