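import Mathlib
import Cfsg.Agent.S3377
import Cfsg.Agent.Lib.Helper5.PSL2A4

set_option autoImplicit false

/-! Subgroups `A_5` of `PSL_2(q)`. -/

namespace Cfsg.Agent.Lib.Helper5.PSL2A5

open Matrix Cfsg.Agent.Lib.Helper5.SL2Cyclic Cfsg.Agent.Lib.Helper5.SL2Quat
  Cfsg.Agent.Lib.Helper5.SumTwoSq Cfsg.Agent.Lib.Helper5.SL2Four
  Cfsg.Agent.Lib.Helper5.KleinPairs Cfsg.Agent.Lib.Helper5.PSL2Pairs
  Cfsg.Agent.Lib.Helper5.PairOrbits Cfsg.Agent.Lib.Helper5.PSL2KleinClasses

section general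

/-- a nontrivial image of the `(2,3,5)` triangle group is `A_5` -/
theorem exists_A5_of_relations {G : Type*} [Group G] (a b : G) (ha : a ^ 3 = 1) (hb : b ^ 5 = 1)
    (hab : (a * b) ^ 2 = 1) (ha1 : a ≠ 1) :
    ∃ H : Subgroup G, Nonempty (H ≃* alternatingGroup (Fin 5)) := by
  classical
  obtain ⟨e⟩ := Cfsg.Agent.S3377.result
  have hrel : ∀ r ∈ ({FreeGroup.of (0 : Fin 2) ^ 3, FreeGroup.of (1 : Fin 2) ^ 5,
      (FreeGroup.of (0 : Fin 2) * FreeGroup.of 1) ^ 2} : Set (FreeGroup (Fin 2))),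
      FreeGroup.lift ![a, b] r = 1 := by
    rintro r (rfl | rfl | rfl)
    · simp [ha]
    · simp [hb]
    · simp [hab]
  let ψ := PresentedGroup.toGroup hrel
  let χ : alternatingGroup (Fin 5) →* G := ψ.comp e.symm.toMonoidHom
  have hs : IsSimpleGroup (alternatingGroup (Fin 5)) :=
    alternatingGroup.isSimpleGroup (by simp)
  have hinj : Function.Injective χ := by
    rw [← MonoidHom.ker_eq_bot_iff]
    rcases (MonoidHom.normal_ker χ).eq_bot_or_eq_top with h | h
    · exact h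
    · exfalso
      apply ha1
      have h1 : e (PresentedGroup.of 0) ∈ χ.ker := by rw [h]; exact Subgroup.mem_top _
      rw [MonoidHom.mem_ker] at h1
      have h2 : χ (e (PresentedGroup.of 0)) = a := by
        show ψ (e.symm (e (PresentedGroup.of 0))) = a
        rw [MulEquiv.symm_apply_apply]
        show PresentedGroup.toGroup hrel (PresentedGroup.of 0) = a
        rw [PresentedGroup.toGroup.of]
        rfl
      rw [← h2, h1]
  exact ⟨χ.range, ⟨(MonoidHom.ofInjective hinj).symm⟩⟩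

end general

section psl
variable {F : Type*} [Field F]

local notation "SL2" => Matrix.SpecialLinearGroup (Fin 2) F
local notation "PSL2" => Matrix.ProjectiveSpecialLinearGroup (Fin 2) F

/-- the element of order five: `(φ + φ⁻¹ i + j) / 2` -/
noncomputable def ff (h2 : (2 : F) ≠ 0) (p r : F) (hpr : p ^ 2 + r ^ 2 = -1) (φ : F)
    (hφ : φ * φ = φ + 1) : SL2 :=
  ⟨!![(φ + p) / 2, (φ - 1 + r) / 2; (-(φ - 1) + r) / 2, (φ - p) / 2], by
    rw [det_fin_two_of]
    field_simp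
    linear_combination (-1 : F) * hpr + 2 * hφ⟩

theorem ff_trace (h2 : (2 : F) ≠ 0) (p r : F) (hpr : p ^ 2 + r ^ 2 = -1) (φ : F)
    (hφ : φ * φ = φ + 1) : (ff h2 p r hpr φ hφ).1.trace = φ := by
  rw [trace_eq]
  show (!![(φ + p) / 2, (φ - 1 + r) / 2; (-(φ - 1) + r) / 2, (φ - p) / 2] :
    Matrix (Fin 2) (Fin 2) F) 0 0 +
    (!![(φ + p) / 2, (φ - 1 + r) / 2; (-(φ - 1) + r) / 2, (φ - p) / 2] :
    Matrix (Fin 2) (Fin 2) F) 1 1 = φ
  simp
  field_simp
  ring

theorem hh_ff_trace (h2 : (2 : F) ≠ 0) (p r : F) (hpr : p ^ 2 + r ^ 2 = -1) (φ : F)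
    (hφ : φ * φ = φ + 1) : (hh h2 p r hpr * ff h2 p r hpr φ hφ).1.trace = 0 := by
  rw [trace_eq]
  show ((!![(1 + p + r) / 2, (1 + r - p) / 2; (-1 + r - p) / 2, (1 - p - r) / 2] :
    Matrix (Fin 2) (Fin 2) F) *
    !![(φ + p) / 2, (φ - 1 + r) / 2; (-(φ - 1) + r) / 2, (φ - p) / 2]) 0 0 +
    ((!![(1 + p + r) / 2, (1 + r - p) / 2; (-1 + r - p) / 2, (1 - p - r) / 2] :
    Matrix (Fin 2) (Fin 2) F) *
    !![(φ + p) / 2, (φ - 1 + r) / 2; (-(φ - 1) + r) / 2, (φ - p) / 2]) 1 1 = 0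
  simp [mul_apply, Fin.sum_univ_two]
  field_simp
  linear_combination (2 : F) * hpr

theorem step (M : Matrix (Fin 2) (Fin 2) F) (a : F) (hM : M * M = a • M - 1) (x y : F) :
    (x • M + y • (1 : Matrix (Fin 2) (Fin 2) F)) * M = (x * a + y) • M + (-x) • 1 := by
  rw [add_mul, smul_mul_assoc, smul_mul_assoc, one_mul, hM, smul_sub, smul_smul, add_smul,
    neg_smul]
  abel

theorem pow_five_of_trace (t : SL2) (φ : F) (hφ : φ * φ = φ + 1) (ht : t.1.trace = φ) :
    t * t * t * t * t = negOne F := by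
  apply Subtype.ext
  have hc := cayley2 t.1
  rw [t.2, ht, one_smul] at hc
  have e2 : t.1 * t.1 = φ • t.1 + (-1 : F) • (1 : Matrix (Fin 2) (Fin 2) F) := by
    rw [hc, neg_smul, one_smul, sub_eq_add_neg]
  show t.1 * t.1 * t.1 * t.1 * t.1 = -1
  rw [e2, step _ _ hc, step _ _ hc, step _ _ hc]
  have c1 : ((φ * φ + -1) * φ + -φ) * φ + -(φ * φ + -1) = 0 := by
    linear_combination (φ * φ + φ - 1) * hφ
  have c2 : -((φ * φ + -1) * φ + -φ) = -1 := by
    linear_combination (-φ - 1) * hφ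
  rw [c1, c2, zero_smul, zero_add, neg_smul, one_smul]

theorem exists_A5_odd [Fintype F] (hodd : Fintype.card F % 2 = 1) (φ : F)
    (hφ : φ * φ = φ + 1) :
    ∃ H : Subgroup PSL2, Nonempty (H ≃* alternatingGroup (Fin 5)) := by
  classical
  have h2 : (2 : F) ≠ 0 := two_ne_zero_of_odd hodd
  obtain ⟨p, r, hpr⟩ := exists_sq_add_sq hodd (-1 : F)
  have hx0 := Pw_mem h2 p r hpr
  obtain ⟨⟨a1, a2⟩, b1, b2, b3, b4⟩ := id hx0
  have b3' : (QuotientGroup.mk (qj p r hpr) : PSL2) ≠ QuotientGroup.mk (qi F) := b3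
  have ch1 : (QuotientGroup.mk (hh h2 p r hpr) : PSL2) * QuotientGroup.mk (qi F) *
      (QuotientGroup.mk (hh h2 p r hpr))⁻¹ = QuotientGroup.mk (qj p r hpr) :=
    conj_mk _ _ _ (hh_qi h2 p r hpr)
  apply exists_A5_of_relations (QuotientGroup.mk (hh h2 p r hpr) : PSL2)
    (QuotientGroup.mk (ff h2 p r hpr φ hφ))
  · rw [pow_succ, pow_two, ← QuotientGroup.mk_mul, ← QuotientGroup.mk_mul,
      Cfsg.Agent.Lib.Helper5.PSL2A4.hh_cube, mk_negOne h2]
  · have : (QuotientGroup.mk (ff h2 p r hpr φ hφ) : PSL2) ^ 5 =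
        QuotientGroup.mk (ff h2 p r hpr φ hφ * ff h2 p r hpr φ hφ * ff h2 p r hpr φ hφ *
          ff h2 p r hpr φ hφ * ff h2 p r hpr φ hφ) := by
      simp only [pow_succ, pow_zero, one_mul, QuotientGroup.mk_mul]
    rw [this, pow_five_of_trace _ φ hφ (ff_trace h2 p r hpr φ hφ), mk_negOne h2]
  · rw [pow_two, ← QuotientGroup.mk_mul, ← QuotientGroup.mk_mul,
      (sq_eq_negOne_iff _).mpr (hh_ff_trace h2 p r hpr φ hφ), mk_negOne h2]
  · intro h
    rw [h, one_mul, inv_one, mul_one] at ch1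
    exact b3' ch1.symm

theorem fact_prime_five : Fact (Nat.Prime 5) := ⟨by norm_num⟩

attribute [local instance] fact_prime_five

omit [Field F] in
theorem qc_pos (x : ZMod 5) (hx : x = 0 ∨ x = 1 ∨ x = 4) :
    quadraticChar (ZMod 5) (((1 : ℤ) : ZMod 5) * x) ≠ -1 := by
  rcases hx with rfl | rfl | rfl <;> decide

omit [Field F] in
theorem qc_neg (x : ZMod 5) (hx : x = 0 ∨ x = 1 ∨ x = 4) :
    quadraticChar (ZMod 5) (((-1 : ℤ) : ZMod 5) * x) ≠ -1 := by
  rcases hx with rfl | rfl | rfl <;> decide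

/-- the golden ratio in a finite field of odd order `q ≡ 0, ±1 (mod 5)` -/
theorem exists_phi [Fintype F] (hodd : Fintype.card F % 2 = 1)
    (h5 : Fintype.card F % 5 = 0 ∨ Fintype.card F % 5 = 1 ∨ Fintype.card F % 5 = 4) :
    ∃ φ : F, φ * φ = φ + 1 := by
  classical
  have h2 : (2 : F) ≠ 0 := two_ne_zero_of_odd hodd
  have hchar : ringChar F ≠ 2 := by
    intro h
    have := FiniteField.even_card_iff_char_two.mp h
    omega
  have hsq : IsSquare ((5 : ℕ) : F) := by
    rw [FiniteField.isSquare_odd_prime_iff hchar (by norm_num)]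
    have h4 : Fintype.card F % 4 = 1 ∨ Fintype.card F % 4 = 3 := by omega
    have hc : ((Fintype.card F : ℕ) : ZMod 5) = 0 ∨ ((Fintype.card F : ℕ) : ZMod 5) = 1 ∨
        ((Fintype.card F : ℕ) : ZMod 5) = 4 := by
      rw [← ZMod.natCast_mod (Fintype.card F) 5]
      rcases h5 with h5 | h5 | h5 <;> rw [h5]
      · left; rfl
      · right; left; rfl
      · right; right; rfl
    rcases h4 with h4 | h4
    · rw [ZMod.χ₄_nat_one_mod_four h4]
      exact qc_pos _ hc
    · rw [ZMod.χ₄_nat_three_mod_four h4]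
      exact qc_neg _ hc
  obtain ⟨s, hs⟩ := hsq
  have hs' : s * s = 5 := by rw [← hs]; norm_num
  refine ⟨(1 + s) / 2, ?_⟩
  field_simp
  linear_combination hs'

end psl

section char2
variable {F : Type*} [Field F]

local notation "SL2" => Matrix.SpecialLinearGroup (Fin 2) F
local notation "PSL2" => Matrix.ProjectiveSpecialLinearGroup (Fin 2) F

theorem exists_A5_SL2 [CharP F 2] (w : F) (hw : w * w + w + 1 = 0) :
    ∃ H : Subgroup SL2, Nonempty (H ≃* alternatingGroup (Fin 5)) := by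
  have h2 : (2 : F) = 0 := CharTwo.two_eq_zero
  have hneg : (-1 : F) = 1 := by linear_combination -h2
  have hφ : w * w = w + 1 := by linear_combination hw - (w + 1) * h2
  let A : SL2 := ⟨!![0, 1; 1, 1], by rw [det_fin_two_of]; linear_combination -h2⟩
  let B : SL2 := ⟨!![w, 1; 1, 0], by rw [det_fin_two_of]; linear_combination -h2⟩
  have hn1 : negOne F = 1 := by
    apply Subtype.ext
    show (-1 : Matrix (Fin 2) (Fin 2) F) = 1
    have : (-1 : Matrix (Fin 2) (Fin 2) F) - 1 = (2 : F) • (-1) := by rw [two_smul]; abel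
    rw [h2, zero_smul, sub_eq_zero] at this
    exact this
  have hAtr : A.1.trace = 1 := by
    rw [trace_eq]
    show (!![0, 1; 1, 1] : Matrix (Fin 2) (Fin 2) F) 0 0 +
      (!![0, 1; 1, 1] : Matrix (Fin 2) (Fin 2) F) 1 1 = 1
    simp
  have hBtr : B.1.trace = w := by
    rw [trace_eq]
    show (!![w, 1; 1, 0] : Matrix (Fin 2) (Fin 2) F) 0 0 +
      (!![w, 1; 1, 0] : Matrix (Fin 2) (Fin 2) F) 1 1 = w
    simp
  have hABtr : (A * B).1.trace = 0 := by
    rw [trace_eq]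
    show ((!![0, 1; 1, 1] : Matrix (Fin 2) (Fin 2) F) * !![w, 1; 1, 0]) 0 0 +
      ((!![0, 1; 1, 1] : Matrix (Fin 2) (Fin 2) F) * !![w, 1; 1, 0]) 1 1 = 0
    simp [mul_apply, Fin.sum_univ_two]
    linear_combination h2
  apply exists_A5_of_relations A B
  · -- `A ^ 3 = 1`
    apply Subtype.ext
    have hc := cayley2 A.1
    rw [A.2, hAtr, one_smul, one_smul] at hc
    rw [pow_succ, pow_two]
    show A.1 * A.1 * A.1 = 1
    rw [hc, sub_mul, hc, one_mul]
    have : A.1 - 1 - A.1 = (-1 : Matrix (Fin 2) (Fin 2) F) := by abel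
    rw [this]
    exact congrArg Subtype.val hn1
  · have : B ^ 5 = B * B * B * B * B := by
      simp only [pow_succ, pow_zero, one_mul]
    rw [this, pow_five_of_trace B w hφ hBtr, hn1]
  · rw [pow_two, (sq_eq_negOne_iff _).mpr hABtr, hn1]
  · intro h
    have := congrFun (congrFun (congrArg Subtype.val h) 0) 0
    simp [A] at this

theorem exists_A5_char2 [CharP F 2] [Fintype F] (n : ℕ) (hF : Fintype.card F = 2 ^ n)
    (hn : Even n) : ∃ H : Subgroup PSL2, Nonempty (H ≃* alternatingGroup (Fin 5)) := by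
  classical
  have : Fact (Nat.Prime 3) := ⟨Nat.prime_three⟩
  have hcard : Fintype.card Fˣ = 2 ^ n - 1 := by rw [Fintype.card_units, hF]
  have h3 : 3 ∣ Fintype.card Fˣ := by
    rw [hcard]
    obtain ⟨k, rfl⟩ := hn
    have : (2 : ℕ) ^ (k + k) = 4 ^ k := by rw [← two_mul, pow_mul]; norm_num
    rw [this]
    have h1 : (4 : ℕ) ^ k % 3 = 1 := by rw [Nat.pow_mod]; simp
    have hpos : 0 < 4 ^ k := pow_pos (by norm_num) k
    omega
  obtain ⟨u, hu⟩ := exists_prime_orderOf_dvd_card 3 h3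
  have hu3 : (u : F) * u * u = 1 := by
    have := pow_orderOf_eq_one u
    rw [hu] at this
    have h := congrArg Units.val this
    rw [Units.val_pow_eq_pow_val, Units.val_one] at h
    rw [← h]; ring
  have hu1 : (u : F) ≠ 1 := by
    intro h
    have : u = 1 := Units.ext h
    rw [this, orderOf_one] at hu
    norm_num at hu
  have hw : (u : F) * u + u + 1 = 0 := by
    have : ((u : F) - 1) * ((u : F) * u + u + 1) = 0 := by linear_combination hu3
    exact (mul_eq_zero.mp this).resolve_left (sub_ne_zero.mpr hu1)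
  obtain ⟨H, ⟨e⟩⟩ := exists_A5_SL2 (u : F) hw
  let f : SL2 →* PSL2 := QuotientGroup.mk' _
  have hf : Function.Injective f := Cfsg.Agent.Lib.Helper5.PSL2A4.mk_injective
  exact ⟨H.map f, ⟨(H.equivMapOfInjective f hf).symm.trans e⟩⟩

end char2

end Cfsg.Agent.Lib.Helper5.PSL2A5
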