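import Mathlib
import Cfsg.Agent.Lib.Helper5.DicksonOrders
import Cfsg.Agent.S0144

set_option autoImplicit false

/-! Solvability of the small subgroups in Dickson's list. -/

namespace Cfsg.Agent.Lib.Helper5.DicksonSolv

open Matrix Cfsg.Agent.Lib.Helper4 Cfsg.Agent.Lib.Helper5.MobWild Cfsg.Agent.Lib.Helper5.DicksonBorel
  Cfsg.Agent.Lib.Helper5.DicksonMain
open scoped MatrixGroups

/-- dihedral groups are solvable -/
theorem isSolvable_dihedral (k : ℕ) : Group.IsSolvable (DihedralGroup k) := by
  let f : Multiplicative (ZMod k) →* DihedralGroup k :=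
    { toFun := fun i => DihedralGroup.r (Multiplicative.toAdd i)
      map_one' := rfl
      map_mul' := fun a b => by
        rw [DihedralGroup.r_mul_r]; rfl }
  let g : DihedralGroup k →* Multiplicative (ZMod 2) :=
    { toFun := fun x => match x with
        | DihedralGroup.r _ => 1
        | DihedralGroup.sr _ => Multiplicative.ofAdd 1
      map_one' := rfl
      map_mul' := fun a b => by
        cases a <;> cases b <;> simp only [DihedralGroup.r_mul_r, DihedralGroup.r_mul_sr,
          DihedralGroup.sr_mul_r, DihedralGroup.sr_mul_sr] <;> decide }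
  have hfg : g.ker ≤ f.range := by
    intro x hx
    rw [MonoidHom.mem_ker] at hx
    cases x with
    | r i => exact ⟨Multiplicative.ofAdd i, rfl⟩
    | sr i =>
      exfalso
      have : (Multiplicative.ofAdd (1 : ZMod 2)) = 1 := hx
      exact absurd this (by decide)
  have h1 : Group.IsSolvable (Multiplicative (ZMod k)) := Group.isSolvable_of_comm mul_comm
  have h2 : Group.IsSolvable (Multiplicative (ZMod 2)) := Group.isSolvable_of_comm mul_comm
  exact Group.isSolvable_of_ker_le_range f g hfg

theorem isSolvable_of_card_12 {G : Type*} [Group G] (h : Nat.card G = 12) : Group.IsSolvable G := by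
  have : Finite G := Nat.finite_of_card_ne_zero (by rw [h]; norm_num)
  exact Cfsg.Agent.S0144.result 2 3 2 1 Nat.prime_two Nat.prime_three (by rw [h]; norm_num)

theorem isSolvable_of_card_24 {G : Type*} [Group G] (h : Nat.card G = 24) : Group.IsSolvable G := by
  have : Finite G := Nat.finite_of_card_ne_zero (by rw [h]; norm_num)
  exact Cfsg.Agent.S0144.result 2 3 3 1 Nat.prime_two Nat.prime_three (by rw [h]; norm_num)

theorem isSolvable_of_card_6 {G : Type*} [Group G] (h : Nat.card G = 6) : Group.IsSolvable G := by
  have : Finite G := Nat.finite_of_card_ne_zero (by rw [h]; norm_num)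
  exact Cfsg.Agent.S0144.result 2 3 1 1 Nat.prime_two Nat.prime_three (by rw [h]; norm_num)

variable {F : Type*} [Field F] [Fintype F]

theorem isSolvable_of_cycDih (H : Subgroup (Matrix.ProjectiveSpecialLinearGroup (Fin 2) F))
    (h : CycDih H) : Group.IsSolvable H := by
  obtain ⟨k, -, h1 | ⟨⟨e⟩⟩⟩ := h
  · have := h1.1
    exact Group.isSolvable_of_comm (fun a b => (IsCyclic.commGroup (α := H)).mul_comm a b)
  · have := isSolvable_dihedral k
    exact Group.isSolvable_of_isSolvable_injective (f := e.toMonoidHom) e.injective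

open scoped commutatorElement in
theorem isSolvable_of_inBorel (p : ℕ) [Fact p.Prime] [CharP F p]
    (H : Subgroup (Matrix.ProjectiveSpecialLinearGroup (Fin 2) F)) (h : InBorel p H) :
    Group.IsSolvable H := by
  obtain ⟨P, K, hK, ⟨e⟩⟩ := h
  have : CharP (AlgebraicClosure F) p :=
    charP_of_injective_algebraMap (algebraMap F (AlgebraicClosure F)).injective p
  suffices hKs : Group.IsSolvable K from
    Group.isSolvable_of_isSolvable_injective (f := e.toMonoidHom) e.injective
  rw [Group.isSolvable_def]
  refine ⟨2, ?_⟩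
  have h1 : derivedSeries K 1 ≤ (P : Subgroup (Matrix.ProjectiveSpecialLinearGroup (Fin 2) F)).subgroupOf K := by
    rw [derivedSeries_succ, derivedSeries_zero, Subgroup.commutator_le]
    intro a _ b _
    rw [Subgroup.mem_subgroupOf]
    have := commutator_mem_sylow (algebraMap F (AlgebraicClosure F)) p P (hK a.2) (hK b.2)
    exact this
  rw [derivedSeries_succ, eq_bot_iff, Subgroup.commutator_le]
  intro a ha b hb
  rw [Subgroup.mem_bot]
  have ha' := h1 ha
  have hb' := h1 hb
  rw [Subgroup.mem_subgroupOf] at ha' hb'
  have hc := comm_sylow (algebraMap F (AlgebraicClosure F)) p P ha' hb'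
  rw [commutatorElement_def]
  apply Subtype.ext
  have : (a : Matrix.ProjectiveSpecialLinearGroup (Fin 2) F) * b *
      (a : Matrix.ProjectiveSpecialLinearGroup (Fin 2) F)⁻¹ *
      (b : Matrix.ProjectiveSpecialLinearGroup (Fin 2) F)⁻¹ = 1 := by
    rw [hc, mul_assoc, mul_assoc, mul_inv_cancel_left, mul_inv_cancel]
  exact this

end Cfsg.Agent.Lib.Helper5.DicksonSolv
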