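import Mathlib
import Cfsg.Agent.Lib.Helper5.DicksonSolv

set_option autoImplicit false

/-! Tools for showing that a subgroup of `PSL₂(q)` is maximal. -/

namespace Cfsg.Agent.Lib.Helper5.DicksonMax

open Matrix Cfsg.Agent.Lib.Helper4 Cfsg.Agent.Lib.Helper5.MobWild Cfsg.Agent.Lib.Helper5.DicksonBorel
  Cfsg.Agent.Lib.Helper5.DicksonMain
open scoped MatrixGroups

/-- squares commute in a dihedral group -/
theorem dihedral_sq_comm (k : ℕ) (a b : DihedralGroup k) : a ^ 2 * b ^ 2 = b ^ 2 * a ^ 2 := by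
  rcases a with i | i <;> rcases b with j | j <;>
    simp only [pow_two, DihedralGroup.r_mul_r, DihedralGroup.sr_mul_sr, DihedralGroup.r_mul_sr,
      DihedralGroup.sr_mul_r, DihedralGroup.r.injEq, sub_self] <;> ring

/-- the first element of the pair in `A₄` -/
def pa : alternatingGroup (Fin 4) :=
  ⟨Equiv.swap 0 1 * Equiv.swap 1 2, by
    rw [Equiv.Perm.mem_alternatingGroup]; decide⟩

/-- the second element of the pair in `A₄` -/
def pb : alternatingGroup (Fin 4) :=
  ⟨Equiv.swap 0 1 * Equiv.swap 1 3, by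
    rw [Equiv.Perm.mem_alternatingGroup]; decide⟩

theorem pa_pb_sq : pa ^ 2 * pb ^ 2 ≠ pb ^ 2 * pa ^ 2 := by
  intro h
  have := congrArg (fun x : alternatingGroup (Fin 4) => (x : Equiv.Perm (Fin 4))) h
  revert this
  simp only [pa, pb]
  decide

theorem pa_pb_comm_ne : pa * pb * pa⁻¹ * pb⁻¹ ≠ 1 := by
  intro h
  have := congrArg (fun x : alternatingGroup (Fin 4) => (x : Equiv.Perm (Fin 4))) h
  revert this
  simp only [pa, pb]
  decide

theorem pa_pb_comm_sq : (pa * pb * pa⁻¹ * pb⁻¹) ^ 2 = 1 := by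
  apply Subtype.ext
  simp only [pa, pb]
  decide

variable {F : Type*} [Field F] [Fintype F]

/-- a group containing `A₄` is neither cyclic nor dihedral -/
theorem not_cycDih_of_A4 (H : Subgroup (Matrix.ProjectiveSpecialLinearGroup (Fin 2) F))
    (f : alternatingGroup (Fin 4) →* H) (hf : Function.Injective f) : ¬ CycDih H := by
  rintro ⟨k, -, ⟨hc, -⟩ | ⟨⟨e⟩⟩⟩
  · have h1 := (IsCyclic.commGroup (α := H)).mul_comm (f pa) (f pb)
    apply pa_pb_comm_ne
    apply hf
    rw [map_mul, map_mul, map_mul, map_inv, map_inv, map_one, h1, mul_assoc, mul_assoc,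
      mul_inv_cancel_left, mul_inv_cancel]
  · have h1 := dihedral_sq_comm k (e (f pa)) (e (f pb))
    apply pa_pb_sq
    apply hf
    apply e.injective
    rw [map_mul, map_mul, map_mul, map_mul, map_pow, map_pow, map_pow, map_pow]
    exact h1

/-- in odd characteristic a group containing `A₄` does not normalise a Sylow `p`-subgroup -/
theorem not_inBorel_of_A4 (p : ℕ) [Fact p.Prime] [CharP F p] (hp : p ≠ 2)
    (H : Subgroup (Matrix.ProjectiveSpecialLinearGroup (Fin 2) F))
    (f : alternatingGroup (Fin 4) →* H) (hf : Function.Injective f) : ¬ InBorel p H := by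
  rintro ⟨P, K, hK, ⟨e⟩⟩
  have : CharP (AlgebraicClosure F) p :=
    charP_of_injective_algebraMap (algebraMap F (AlgebraicClosure F)).injective p
  have hmem := commutator_mem_sylow (algebraMap F (AlgebraicClosure F)) p P
    (hK (e (f pa)).2) (hK (e (f pb)).2)
  set c : Matrix.ProjectiveSpecialLinearGroup (Fin 2) F :=
    ((e (f pa) : K) : Matrix.ProjectiveSpecialLinearGroup (Fin 2) F) * (e (f pb) : K) *
      ((e (f pa) : K) : Matrix.ProjectiveSpecialLinearGroup (Fin 2) F)⁻¹ *
      ((e (f pb) : K) : Matrix.ProjectiveSpecialLinearGroup (Fin 2) F)⁻¹ with hc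
  have hc' : c = ((e (f (pa * pb * pa⁻¹ * pb⁻¹)) : K) :
      Matrix.ProjectiveSpecialLinearGroup (Fin 2) F) := by
    rw [hc, map_mul, map_mul, map_mul, map_inv, map_inv, map_mul, map_mul, map_mul, map_inv,
      map_inv]
    rfl
  have h2 : c ^ 2 = 1 := by
    rw [hc', ← Subgroup.coe_pow, ← map_pow, ← map_pow, pa_pb_comm_sq, map_one, map_one]
    rfl
  have h1 : c ≠ 1 := by
    rw [hc']
    intro h
    apply pa_pb_comm_ne
    apply hf
    apply e.injective
    apply Subtype.ext
    rw [h, map_one, map_one]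
    rfl
  have hord : orderOf c = 2 := orderOf_eq_prime h2 h1
  obtain ⟨n, hn⟩ := (IsPGroup.iff_orderOf.mp P.isPGroup') ⟨c, hmem⟩
  rw [Subgroup.orderOf_mk, hord] at hn
  have : p ∣ 2 := by
    rcases n with _ | n
    · simp at hn
    · rw [hn, pow_succ]; exact dvd_mul_left _ _
  exact hp ((Nat.prime_dvd_prime_iff_eq (Fact.out) Nat.prime_two).mp this)

/-- a nonsolvable group is neither cyclic nor dihedral -/
theorem not_cycDih_of_not_isSolvable (H : Subgroup (Matrix.ProjectiveSpecialLinearGroup (Fin 2) F))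
    {X : Type*} [Group X] (hX : ¬ Group.IsSolvable X) (f : X →* H) (hf : Function.Injective f) :
    ¬ CycDih H := by
  intro h
  have := DicksonSolv.isSolvable_of_cycDih H h
  exact hX (Group.isSolvable_of_isSolvable_injective hf)

/-- a nonsolvable group does not normalise a Sylow `p`-subgroup -/
theorem not_inBorel_of_not_isSolvable (p : ℕ) [Fact p.Prime] [CharP F p]
    (H : Subgroup (Matrix.ProjectiveSpecialLinearGroup (Fin 2) F))
    {X : Type*} [Group X] (hX : ¬ Group.IsSolvable X) (f : X →* H) (hf : Function.Injective f) :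
    ¬ InBorel p H := by
  intro h
  have := DicksonSolv.isSolvable_of_inBorel p H h
  exact hX (Group.isSolvable_of_isSolvable_injective hf)

/-- a criterion for a subgroup of a finite group to be maximal -/
theorem isCoatom_of_card {G : Type*} [Group G] [Finite G] (H₀ : Subgroup G) (hne : H₀ ≠ ⊤)
    (h : ∀ H : Subgroup G, H₀ ≤ H → H ≠ ⊤ → Nat.card H ≤ Nat.card H₀) : IsCoatom H₀ := by
  refine ⟨hne, ?_⟩
  intro H hH
  by_contra hHt
  have := h H hH.le hHt
  exact hH.ne (Subgroup.eq_of_le_of_card_ge hH.le this)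

/-- the inclusion of a subgroup, composed with an isomorphism -/
theorem exists_embedding {G X : Type*} [Group G] [Group X] {H₀ H : Subgroup G} (e : H₀ ≃* X)
    (hle : H₀ ≤ H) : ∃ f : X →* H, Function.Injective f :=
  ⟨(Subgroup.inclusion hle).comp e.symm.toMonoidHom,
    (Subgroup.inclusion_injective hle).comp e.symm.injective⟩

end Cfsg.Agent.Lib.Helper5.DicksonMax
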