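import Mathlib
import Cfsg.Agent.Lib.Helper5.DicksonMax

set_option autoImplicit false

/-! Order bookkeeping for the maximal subgroups of `PSL₂(q)`. -/

namespace Cfsg.Agent.Lib.Helper5.DicksonMax

open Matrix Cfsg.Agent.Lib.Helper4 Cfsg.Agent.Lib.Helper5.MobWild Cfsg.Agent.Lib.Helper5.DicksonBorel
  Cfsg.Agent.Lib.Helper5.DicksonMain Cfsg.Agent.Lib.Helper5.DicksonOrders
open scoped MatrixGroups

theorem gcd_two_of_odd {q : ℕ} (hq : q % 2 = 1) : Nat.gcd 2 (q - 1) = 2 := by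
  apply Nat.gcd_eq_left
  omega

theorem gcd_two_of_even {q : ℕ} (hq : q % 2 = 0) (h1 : 1 ≤ q) : Nat.gcd 2 (q - 1) = 1 := by
  have h2 : Nat.gcd 2 (q - 1) ∣ 2 := Nat.gcd_dvd_left _ _
  have h3 : Nat.gcd 2 (q - 1) ∣ q - 1 := Nat.gcd_dvd_right _ _
  rcases (Nat.dvd_prime Nat.prime_two).mp h2 with h | h
  · exact h
  · rw [h] at h3
    omega

variable {F : Type*} [Field F] [Fintype F]

/-- the orders in the subfield case -/
theorem card_of_subfieldCase (H : Subgroup (Matrix.ProjectiveSpecialLinearGroup (Fin 2) F))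
    (h : SubfieldCase H) : ∃ q₀ m : ℕ, 2 ≤ q₀ ∧ q₀ ^ m = Fintype.card F ∧
      (Nat.gcd 2 (q₀ - 1) * Nat.card H = q₀ * ((q₀ - 1) * (q₀ + 1)) ∨
        (Nat.card H = q₀ * ((q₀ - 1) * (q₀ + 1)) ∧ q₀ % 2 = 1)) := by
  obtain ⟨K, _, _, m, hm, h⟩ := h
  refine ⟨Fintype.card K, m, Fintype.one_lt_card, hm, ?_⟩
  rcases h with ⟨⟨e⟩⟩ | ⟨⟨e⟩⟩
  · left
    rw [Nat.card_congr e.toEquiv]
    exact card_PSL2_mul
  · rcases Nat.mod_two_eq_zero_or_one (Fintype.card K) with h0 | h1
    · left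
      rw [Nat.card_congr e.toEquiv, gcd_two_of_even h0 Fintype.card_pos, one_mul]
      exact card_pgl _ rfl
    · right
      rw [Nat.card_congr e.toEquiv]
      exact ⟨card_pgl _ rfl, h1⟩

/-- a subgroup of full order is everything -/
theorem eq_top_of_card (H : Subgroup (Matrix.ProjectiveSpecialLinearGroup (Fin 2) F))
    (h : Nat.gcd 2 (Fintype.card F - 1) * Nat.card H =
      Fintype.card F * ((Fintype.card F - 1) * (Fintype.card F + 1))) : H = ⊤ := by
  rw [← card_PSL2_mul] at h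
  have hg : 0 < Nat.gcd 2 (Fintype.card F - 1) := Nat.gcd_pos_of_pos_left _ (by norm_num)
  exact (Subgroup.card_eq_iff_eq_top H).mp (Nat.eq_of_mul_eq_mul_left hg h)

/-- a proper subgroup has at most half the order -/
theorem two_mul_card_le {G : Type*} [Group G] [Finite G] (H : Subgroup G) (h : H ≠ ⊤) :
    2 * Nat.card H ≤ Nat.card G := by
  have h1 := H.card_mul_index
  have h2 : H.index ≠ 1 := fun h' => h (Subgroup.index_eq_one.mp h')
  have h3 : H.index ≠ 0 := Subgroup.index_ne_zero_of_finite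
  have h4 : 2 ≤ H.index := by omega
  calc 2 * Nat.card H = Nat.card H * 2 := by ring
    _ ≤ Nat.card H * H.index := Nat.mul_le_mul_left _ h4
    _ = Nat.card G := h1

end Cfsg.Agent.Lib.Helper5.DicksonMax
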