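import Mathlib
import Cfsg.Agent.Lib.Helper5.DicksonCyc
import Cfsg.Agent.Lib.Helper5.DicksonMax2

set_option autoImplicit false

/-! Orders of the `p'`-elements of `PGL₂(q)`. -/

namespace Cfsg.Agent.Lib.Helper5.PGLOrders

open Matrix Cfsg.Agent.Lib.Helper4 Cfsg.Agent.Lib.Helper5.MobWild
  Cfsg.Agent.Lib.Helper5.DicksonOrders Cfsg.Agent.Lib.Helper5.DicksonMax
open scoped MatrixGroups

variable {K : Type*} [Field K] [Fintype K]

/-- the orders of the `p'`-elements of `PSL₂(q)` divide `q + 1` or `q - 1` -/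
theorem orderOf_dvd_psl (p : ℕ) [Fact p.Prime] [CharP K p]
    (h : Matrix.ProjectiveSpecialLinearGroup (Fin 2) K) (hk : ¬ p ∣ orderOf h) :
    orderOf h ∣ (Fintype.card K + 1) / Nat.gcd 2 (Fintype.card K - 1) ∨
      orderOf h ∣ (Fintype.card K - 1) / Nat.gcd 2 (Fintype.card K - 1) := by
  have : CharP (AlgebraicClosure K) p :=
    charP_of_injective_algebraMap (algebraMap K (AlgebraicClosure K)).injective p
  exact DicksonCyc.orderOf_dvd (algebraMap K (AlgebraicClosure K)) p h hk

/-- the image of `PSL₂(K)` in `PGL₂(K)` has index `gcd(2, q - 1)` -/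
theorem index_range_toPGL :
    (ProjectiveSpecialLinearGroup.toPGL (n := Fin 2) (R := K)).range.index =
      Nat.gcd 2 (Fintype.card K - 1) := by
  have h1 := Subgroup.card_mul_index (ProjectiveSpecialLinearGroup.toPGL (n := Fin 2) (R := K)).range
  have h2 : Nat.card (ProjectiveSpecialLinearGroup.toPGL (n := Fin 2) (R := K)).range =
      Nat.card (Matrix.ProjectiveSpecialLinearGroup (Fin 2) K) :=
    (Nat.card_congr (MonoidHom.ofInjective
      (ProjectiveSpecialLinearGroup.toPGL_injective (n := Fin 2) (R := K))).toEquiv).symm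
  have h3 := card_PSL2_mul (F := K)
  have h4 := card_pgl (K := K) _ rfl
  rw [h2, h4, ← h3] at h1
  have hpos : 0 < Nat.card (Matrix.ProjectiveSpecialLinearGroup (Fin 2) K) := Nat.card_pos
  apply Nat.eq_of_mul_eq_mul_left hpos
  rw [h1]; ring

/-- the orders of the `p'`-elements of `PGL₂(q)` divide `q + 1` or `q - 1` -/
theorem orderOf_dvd_pgl (p : ℕ) [Fact p.Prime] [CharP K p]
    (g : Matrix.ProjGenLinGroup (Fin 2) K) (hk : ¬ p ∣ orderOf g) :
    orderOf g ∣ Fintype.card K + 1 ∨ orderOf g ∣ Fintype.card K - 1 := by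
  set q := Fintype.card K with hq
  have hq1 : 1 ≤ q := Fintype.card_pos
  have hidx := index_range_toPGL (K := K)
  rcases Nat.mod_two_eq_zero_or_one q with h0 | h1
  · -- even: the map is onto
    rw [← hq, gcd_two_of_even h0 hq1, Subgroup.index_eq_one] at hidx
    have hg : g ∈ (ProjectiveSpecialLinearGroup.toPGL (n := Fin 2) (R := K)).range := by
      rw [hidx]; exact Subgroup.mem_top _
    obtain ⟨h, rfl⟩ := hg
    rw [orderOf_injective _ ProjectiveSpecialLinearGroup.toPGL_injective] at hk ⊢
    have := orderOf_dvd_psl p h hk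
    rw [← hq, gcd_two_of_even h0 hq1, Nat.div_one, Nat.div_one] at this
    exact this
  · rw [← hq, gcd_two_of_odd h1] at hidx
    have hg : g ^ 2 ∈ (ProjectiveSpecialLinearGroup.toPGL (n := Fin 2) (R := K)).range :=
      Subgroup.sq_mem_of_index_two hidx g
    obtain ⟨h, hh⟩ := hg
    have hord : orderOf h = orderOf (g ^ 2) := by
      rw [← hh, orderOf_injective _ ProjectiveSpecialLinearGroup.toPGL_injective]
    have hk' : ¬ p ∣ orderOf h := by
      rw [hord]
      intro hd
      exact hk (hd.trans (orderOf_pow_dvd 2))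
    have hg2 : orderOf g ∣ 2 * orderOf h := by
      apply orderOf_dvd_of_pow_eq_one
      rw [pow_mul, hord, pow_orderOf_eq_one]
    have := orderOf_dvd_psl p h hk'
    rw [← hq, gcd_two_of_odd h1] at this
    have e1 : 2 * ((q + 1) / 2) = q + 1 := by omega
    have e2 : 2 * ((q - 1) / 2) = q - 1 := by omega
    rcases this with h3 | h3
    · left
      rw [← e1]
      exact hg2.trans (Nat.mul_dvd_mul_left 2 h3)
    · right
      rw [← e2]
      exact hg2.trans (Nat.mul_dvd_mul_left 2 h3)

end Cfsg.Agent.Lib.Helper5.PGLOrders
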