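import Mathlib
import Cfsg.Agent.Lib.Helper5.DicksonMax2
import Cfsg.Agent.Lib.Helper5.PGLOrders

set_option autoImplicit false

/-! Dihedral subgroups of `PSL₂(q)`: tools for the maximality proofs. -/

namespace Cfsg.Agent.Lib.Helper5.DicksonMax

open Matrix Cfsg.Agent.Lib.Helper4 Cfsg.Agent.Lib.Helper5.MobWild Cfsg.Agent.Lib.Helper5.DicksonBorel
  Cfsg.Agent.Lib.Helper5.DicksonMain Cfsg.Agent.Lib.Helper5.DicksonOrders
open scoped MatrixGroups

theorem dih_comm (m : ℕ) :
    (DihedralGroup.r 1 * DihedralGroup.sr 0 * (DihedralGroup.r 1)⁻¹ * (DihedralGroup.sr 0)⁻¹ :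
      DihedralGroup m) = DihedralGroup.r 2 := by
  rw [DihedralGroup.inv_r, DihedralGroup.inv_sr, DihedralGroup.r_mul_sr, DihedralGroup.sr_mul_r,
    DihedralGroup.sr_mul_sr]
  congr 1
  ring

theorem dih_r_eq_one_iff (m k : ℕ) : (DihedralGroup.r (k : ZMod m) : DihedralGroup m) = 1 ↔ m ∣ k := by
  rw [DihedralGroup.one_def, DihedralGroup.r.injEq, ZMod.natCast_eq_zero_iff]

theorem dih_r2_ne_one (m : ℕ) (hm : 3 ≤ m) : (DihedralGroup.r 2 : DihedralGroup m) ≠ 1 := by
  intro h
  have h1 : (DihedralGroup.r ((2 : ℕ) : ZMod m) : DihedralGroup m) = 1 := by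
    rw [← h]; congr 1
  rw [dih_r_eq_one_iff] at h1
  have := Nat.le_of_dvd (by norm_num) h1
  omega

set_option maxRecDepth 100000 in
theorem A5_pow : ∀ g : Equiv.Perm (Fin 5), Equiv.Perm.sign g = 1 →
    g ^ 2 = 1 ∨ g ^ 3 = 1 ∨ g ^ 5 = 1 := by
  decide

set_option maxRecDepth 100000 in
theorem S4_pow : ∀ g : Equiv.Perm (Fin 4), g ^ 2 = 1 ∨ g ^ 3 = 1 ∨ g ^ 4 = 1 := by
  decide

set_option maxRecDepth 100000 in
theorem A4_comm : ∀ a b : Equiv.Perm (Fin 4), Equiv.Perm.sign a = 1 → Equiv.Perm.sign b = 1 →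
    (a * b * a⁻¹ * b⁻¹) ^ 2 = 1 := by
  decide

/-- orders of the elements of `S₄` -/
theorem orderOf_S4 (g : Equiv.Perm (Fin 4)) : orderOf g ∣ 2 ∨ orderOf g ∣ 3 ∨ orderOf g ∣ 4 := by
  rcases S4_pow g with h | h | h
  · left; exact orderOf_dvd_of_pow_eq_one h
  · right; left; exact orderOf_dvd_of_pow_eq_one h
  · right; right; exact orderOf_dvd_of_pow_eq_one h

/-- orders of the elements of `A₅` -/
theorem orderOf_A5 (g : alternatingGroup (Fin 5)) :
    orderOf g ∣ 2 ∨ orderOf g ∣ 3 ∨ orderOf g ∣ 5 := by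
  have hs : Equiv.Perm.sign (g : Equiv.Perm (Fin 5)) = 1 := Equiv.Perm.mem_alternatingGroup.mp g.2
  rw [← Subgroup.orderOf_coe]
  rcases A5_pow g hs with h | h | h
  · left; exact orderOf_dvd_of_pow_eq_one h
  · right; left; exact orderOf_dvd_of_pow_eq_one h
  · right; right; exact orderOf_dvd_of_pow_eq_one h

/-- `A₄` contains no dihedral group of order at least six -/
theorem not_injective_dihedral_A4 (m : ℕ) (hm : 3 ≤ m)
    (f : DihedralGroup m →* alternatingGroup (Fin 4)) : ¬ Function.Injective f := by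
  intro hf
  have h1 := A4_comm (f (DihedralGroup.r 1) : Equiv.Perm (Fin 4)) (f (DihedralGroup.sr 0))
    (Equiv.Perm.mem_alternatingGroup.mp (f (DihedralGroup.r 1)).2)
    (Equiv.Perm.mem_alternatingGroup.mp (f (DihedralGroup.sr 0)).2)
  have h2 : ((f (DihedralGroup.r 2 ^ 2) : alternatingGroup (Fin 4)) : Equiv.Perm (Fin 4)) = 1 := by
    rw [← dih_comm, map_pow, map_mul, map_mul, map_mul, map_inv, map_inv]
    exact h1
  have h3 : (DihedralGroup.r 2 : DihedralGroup m) ^ 2 = 1 := by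
    apply hf
    rw [map_one]
    exact Subtype.ext h2
  rw [DihedralGroup.r_pow] at h3
  have h4 : (DihedralGroup.r ((4 : ℕ) : ZMod m) : DihedralGroup m) = 1 := by
    rw [← h3]; congr 1; push_cast; ring
  rw [dih_r_eq_one_iff] at h4
  have h5 := Nat.le_of_dvd (by norm_num) h4
  have hm4 : m = 4 := by
    interval_cases m
    · omega
    · rfl
  subst hm4
  have h6 : Nat.card (DihedralGroup 4) ∣ Nat.card (alternatingGroup (Fin 4)) := by
    have := Subgroup.card_subgroup_dvd_card f.range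
    rwa [← Nat.card_congr (MonoidHom.ofInjective hf).toEquiv] at this
  rw [DihedralGroup.nat_card, card_A4] at h6
  omega

variable {F : Type*} [Field F] [Fintype F]

/-- a subgroup containing a dihedral group of order `2 m`, with `m ≥ 3` prime to `p`, does not
normalise a Sylow `p`-subgroup -/
theorem not_inBorel_of_dihedral (p : ℕ) [Fact p.Prime] [CharP F p]
    (H : Subgroup (Matrix.ProjectiveSpecialLinearGroup (Fin 2) F)) (m : ℕ) (hm : 3 ≤ m)
    (hcop : ¬ p ∣ m) (f : DihedralGroup m →* H) (hf : Function.Injective f) : ¬ InBorel p H := by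
  rintro ⟨P, K, hK, ⟨e⟩⟩
  have : CharP (AlgebraicClosure F) p :=
    charP_of_injective_algebraMap (algebraMap F (AlgebraicClosure F)).injective p
  have hmem := commutator_mem_sylow (algebraMap F (AlgebraicClosure F)) p P
    (hK (e (f (DihedralGroup.r 1))).2) (hK (e (f (DihedralGroup.sr 0))).2)
  have hc' : ((e (f (DihedralGroup.r 1)) : K) : Matrix.ProjectiveSpecialLinearGroup (Fin 2) F) *
      (e (f (DihedralGroup.sr 0)) : K) *
      ((e (f (DihedralGroup.r 1)) : K) : Matrix.ProjectiveSpecialLinearGroup (Fin 2) F)⁻¹ *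
      ((e (f (DihedralGroup.sr 0)) : K) : Matrix.ProjectiveSpecialLinearGroup (Fin 2) F)⁻¹ =
      ((e (f (DihedralGroup.r 2)) : K) : Matrix.ProjectiveSpecialLinearGroup (Fin 2) F) := by
    rw [← dih_comm, map_mul, map_mul, map_mul, map_inv, map_inv, map_mul, map_mul, map_mul, map_inv,
      map_inv]
    rfl
  rw [hc'] at hmem
  have hinj : Function.Injective (fun x : DihedralGroup m =>
      ((e (f x) : K) : Matrix.ProjectiveSpecialLinearGroup (Fin 2) F)) :=
    Subtype.val_injective.comp (e.injective.comp hf)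
  have hord : orderOf ((e (f (DihedralGroup.r 2)) : K) :
      Matrix.ProjectiveSpecialLinearGroup (Fin 2) F) = orderOf (DihedralGroup.r 2 : DihedralGroup m) := by
    rw [Subgroup.orderOf_coe, MulEquiv.orderOf_eq, orderOf_injective f hf]
  obtain ⟨n, hn⟩ := (IsPGroup.iff_orderOf.mp P.isPGroup') ⟨_, hmem⟩
  rw [Subgroup.orderOf_mk, hord] at hn
  have hdvd : orderOf (DihedralGroup.r 2 : DihedralGroup m) ∣ m := by
    apply orderOf_dvd_of_pow_eq_one
    rw [DihedralGroup.r_pow]
    have : (2 : ZMod m) * (m : ZMod m) = 0 := by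
      rw [ZMod.natCast_self, mul_zero]
    rw [this]; rfl
  rcases n with _ | n
  · rw [pow_zero, orderOf_eq_one_iff] at hn
    exact dih_r2_ne_one m hm hn
  · apply hcop
    rw [hn] at hdvd
    exact (dvd_pow_self p (Nat.succ_ne_zero n)).trans hdvd

/-- the characteristic of a subfield -/
theorem charP_of_card_pow {K : Type*} [Field K] [Fintype K] (p : ℕ) [Fact p.Prime] [CharP F p]
    (m' : ℕ) (h : Fintype.card K ^ m' = Fintype.card F) : CharP K p := by
  obtain ⟨p', hp'⟩ := CharP.exists K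
  have hp'prime : p'.Prime := CharP.char_is_prime K p'
  obtain ⟨a, -, ha⟩ := FiniteField.card K p'
  obtain ⟨n, -, hn⟩ := FiniteField.card F p
  rw [ha, hn, ← pow_mul] at h
  have h1 : p' ∣ p ^ (n : ℕ) := by
    rw [← h]
    apply dvd_pow_self
    intro h0
    rw [h0, pow_zero] at h
    have : 1 < p ^ (n : ℕ) := Nat.one_lt_pow n.pos.ne' (Fact.out : p.Prime).one_lt
    omega
  have h2 : p' = p := (Nat.prime_dvd_prime_iff_eq hp'prime Fact.out).mp
    (hp'prime.dvd_of_dvd_pow h1)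
  subst h2
  exact hp'

/-- in the subfield case, the orders of the `p'`-elements are small -/
theorem subfield_order (p : ℕ) [Fact p.Prime] [CharP F p]
    (H : Subgroup (Matrix.ProjectiveSpecialLinearGroup (Fin 2) F)) (h : SubfieldCase H) (x : H)
    (hx : ¬ p ∣ orderOf x) :
    ∃ q₀ m' : ℕ, 2 ≤ q₀ ∧ q₀ ^ m' = Fintype.card F ∧
      (orderOf x ∣ q₀ + 1 ∨ orderOf x ∣ q₀ - 1) ∧
      (Nat.gcd 2 (q₀ - 1) * Nat.card H = q₀ * ((q₀ - 1) * (q₀ + 1)) ∨
        (Nat.card H = q₀ * ((q₀ - 1) * (q₀ + 1)) ∧ q₀ % 2 = 1)) := by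
  obtain ⟨K, _, _, m', hm', hiso⟩ := h
  have hK : CharP K p := charP_of_card_pow p m' hm'
  have hq₀ : 2 ≤ Fintype.card K := Fintype.one_lt_card
  have hd1 : Nat.gcd 2 (Fintype.card K - 1) ∣ Fintype.card K - 1 := Nat.gcd_dvd_right _ _
  have hd2 : Nat.gcd 2 (Fintype.card K - 1) ∣ Fintype.card K + 1 := by
    have : Fintype.card K + 1 = (Fintype.card K - 1) + 2 := by omega
    rw [this]
    exact Dvd.dvd.add hd1 (Nat.gcd_dvd_left _ _)
  refine ⟨Fintype.card K, m', hq₀, hm', ?_, ?_⟩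
  · rcases hiso with ⟨⟨e⟩⟩ | ⟨⟨e⟩⟩
    · have h1 : orderOf (e x) = orderOf x := MulEquiv.orderOf_eq e x
      have := PGLOrders.orderOf_dvd_psl p (e x) (by rw [h1]; exact hx)
      rw [h1] at this
      rcases this with h2 | h2
      · left; exact h2.trans (Nat.div_dvd_of_dvd hd2)
      · right; exact h2.trans (Nat.div_dvd_of_dvd hd1)
    · have h1 : orderOf (e x) = orderOf x := MulEquiv.orderOf_eq e x
      have := PGLOrders.orderOf_dvd_pgl p (e x) (by rw [h1]; exact hx)
      rw [h1] at this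
      exact this
  · rcases hiso with ⟨⟨e⟩⟩ | ⟨⟨e⟩⟩
    · left
      rw [Nat.card_congr e.toEquiv]
      exact card_PSL2_mul
    · rcases Nat.mod_two_eq_zero_or_one (Fintype.card K) with h0 | h1
      · left
        rw [Nat.card_congr e.toEquiv, gcd_two_of_even h0 Fintype.card_pos, one_mul]
        exact card_pgl _ rfl
      · right
        rw [Nat.card_congr e.toEquiv]
        exact ⟨card_pgl _ rfl, h1⟩

end Cfsg.Agent.Lib.Helper5.DicksonMax
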