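import Mathlib
import Cfsg.Agent.Lib.Helper5.PSL2Tori

set_option autoImplicit false

/-! Point and pair stabilisers in `PSL₂(q)`. -/

namespace Cfsg.Agent.Lib.Helper5.PSL2Tori

open Matrix Cfsg.Agent.Lib.Helper4 Cfsg.Agent.Lib.Helper5.Mob Cfsg.Agent.Lib.Helper5.MobPGL
  Cfsg.Agent.Lib.Helper5.MobWild Cfsg.Agent.Lib.Helper5.MobRat Cfsg.Agent.Lib.Helper5.DicksonBorel
  Cfsg.Agent.Lib.Helper5.DicksonMain Cfsg.Agent.Lib.Helper5.DicksonOrders
open Cfsg.Agent.Lib.Helper1.SL2Three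
open scoped LinearAlgebra.Projectivization MatrixGroups

variable {F E : Type*} [Field F] [Fintype F] [Field E] [IsAlgClosed E] (j : F →+* E)
  (p : ℕ) [Fact p.Prime] [CharP F p] [CharP E p]

omit [IsAlgClosed E] in
/-- the image is doubly transitive on the rational points -/
theorem rat_two_transitive {x y : ℙ E (Fin 2 → E)} (hx : IsRat j x) (hy : IsRat j y)
    (hxy : x ≠ y) : ∃ γ : Gam j, γ • x = inf ∧ γ • y = fin 0 := by
  obtain ⟨g, hg⟩ := (mem_orbit_inf_iff j x).mpr hx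
  have hg' : g • (inf : ℙ E (Fin 2 → E)) = x := hg
  have hy' : IsRat j (g⁻¹ • y) := isRat_smul j (Gam_le_ratGroup j g⁻¹.2) hy
  have hne : g⁻¹ • y ≠ inf := by
    intro h
    apply hxy
    rw [← hg', ← h, smul_inv_smul]
  rcases eq_inf_or_fin (g⁻¹ • y) with h | ⟨z, hz⟩
  · exact absurd h hne
  · rw [hz, isRat_fin_iff] at hy'
    obtain ⟨a, rfl⟩ := hy'
    refine ⟨gamIso j (QuotientGroup.mk (xmat F (-a))) * g⁻¹, ?_, ?_⟩
    · rw [mul_smul, ← hg', inv_smul_smul, gamIso_smul, pslHom_xmat, aff_smul_inf]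
    · rw [mul_smul, hz, gamIso_smul, pslHom_xmat, aff_smul_fin]
      congr 1
      rw [map_neg]; simp

omit [IsAlgClosed E] in
/-- the order of the stabiliser of a rational point -/
theorem ee_rat {x : ℙ E (Fin 2 → E)} (hx : IsRat j x) :
    Nat.gcd 2 (Fintype.card F - 1) * ee (Gam j) x = Fintype.card F * (Fintype.card F - 1) := by
  obtain ⟨g, hg⟩ := (mem_orbit_inf_iff j x).mpr hx
  have hg' : g • (inf : ℙ E (Fin 2 → E)) = x := hg
  rw [← hg']
  have : ee (Gam j) (g • (inf : ℙ E (Fin 2 → E))) = ee (Gam j) (inf : ℙ E (Fin 2 → E)) :=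
    card_stabilizer_smul g _
  rw [this]
  exact ee_inf j

include p in
/-- the stabiliser of a pair of rational points -/
theorem pairStab_rat {x y : ℙ E (Fin 2 → E)} (hx : IsRat j x) (hy : IsRat j y) (hxy : x ≠ y) :
    Nonempty (pairStab (Gam j) x y ≃*
      DihedralGroup ((Fintype.card F - 1) / Nat.gcd 2 (Fintype.card F - 1))) := by
  obtain ⟨γ, h1, h2⟩ := rat_two_transitive j hx hy hxy
  obtain ⟨⟨c, hc1, hc2⟩, hcard⟩ := split_pair j p
  obtain ⟨-, ⟨e⟩⟩ := (subMob (Gam j) p).pairStab_dihedral (inf : ℙ E (Fin 2 → E)) (fin 0)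
    (fin_ne_inf 0).symm c hc1 hc2
  have hd : 0 < Nat.gcd 2 (Fintype.card F - 1) := Nat.gcd_pos_of_pos_left _ (by norm_num)
  rw [← Nat.div_eq_of_eq_mul_right hd hcard.symm] at e
  have h3 : pairStab (Gam j) (inf : ℙ E (Fin 2 → E)) (fin 0) =
      (pairStab (Gam j) x y).map (MulAut.conj γ).toMonoidHom := by
    rw [← pairStab_conj, h1, h2]
  have e1 : pairStab (Gam j) x y ≃* (pairStab (Gam j) x y).map (MulAut.conj γ).toMonoidHom :=
    (pairStab (Gam j) x y).equivMapOfInjective _ (MulAut.conj γ).injective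
  exact ⟨(e1.trans (MulEquiv.subgroupCongr h3.symm)).trans e⟩

include p in
/-- the partner of a singular point that is not rational -/
theorem nonsplit_partner {t : ℙ E (Fin 2 → E)} (ht : t ∈ sing (Gam j) (ℙ E (Fin 2 → E)))
    (htr : ¬ IsRat j t) :
    ∃ t' : ℙ E (Fin 2 → E), t' ≠ t ∧
      MulAction.stabilizer (Gam j) t = MulAction.stabilizer (Gam j) t' ∧
      Nat.gcd 2 (Fintype.card F - 1) * ee (Gam j) t = Fintype.card F + 1 ∧
      Nat.card (pairStab (Gam j) t t') = 2 * ee (Gam j) t ∧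
      Nonempty (pairStab (Gam j) t t' ≃*
        DihedralGroup ((Fintype.card F + 1) / Nat.gcd 2 (Fintype.card F - 1))) := by
  obtain ⟨x, y, hxy, -, -, ⟨c, hc1, hc2⟩, hstab, hee, -, hcov⟩ := exists_nonsplit_pair j p
  obtain ⟨γ, hγ⟩ := hcov t ht htr
  have hγ' : γ • x = t := hγ
  have hee' : ee (Gam j) t = ee (Gam j) x := by
    rw [← hγ']; exact card_stabilizer_smul γ x
  have hstab' : MulAction.stabilizer (Gam j) t = MulAction.stabilizer (Gam j) (γ • y) := by
    rw [← hγ', MulAction.stabilizer_smul_eq_stabilizer_map_conj,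
      MulAction.stabilizer_smul_eq_stabilizer_map_conj, hstab]
  have hne : γ • y ≠ t := by
    rw [← hγ']
    intro h
    exact hxy (MulAction.injective γ h).symm
  obtain ⟨hcard, ⟨e⟩⟩ := (subMob (Gam j) p).pairStab_dihedral t (γ • y) hne.symm (γ * c * γ⁻¹)
    (by rw [← hγ', mul_smul, mul_smul, inv_smul_smul, hc1])
    (by rw [← hγ', mul_smul, mul_smul, inv_smul_smul, hc2])
  have h1 : Nat.card ↥(MulAction.stabilizer (Gam j) t ⊓ MulAction.stabilizer (Gam j) (γ • y)) =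
      ee (Gam j) t := by
    rw [← hstab', inf_idem]
  rw [h1] at hcard e
  have hd : 0 < Nat.gcd 2 (Fintype.card F - 1) := Nat.gcd_pos_of_pos_left _ (by norm_num)
  refine ⟨γ • y, hne, hstab', by rw [hee']; exact hee, hcard, ?_⟩
  rw [Nat.div_eq_of_eq_mul_right hd (by rw [hee']; exact hee.symm :
    Fintype.card F + 1 = Nat.gcd 2 (Fintype.card F - 1) * ee (Gam j) t)]
  exact ⟨e⟩

omit [Fintype F] [IsAlgClosed E] in
/-- no point is fixed by the whole group -/
theorem exists_smul_ne (x : ℙ E (Fin 2 → E)) : ∃ g : Gam j, g • x ≠ x := by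
  by_cases hx : x = inf
  · subst hx
    refine ⟨gamIso j (QuotientGroup.mk (weyl F)), ?_⟩
    rw [gamIso_smul, pslHom_weyl, swapM_smul_inf]
    exact fin_ne_inf 0
  · obtain ⟨u, hu, hu1⟩ := exists_ne_one_mem_borelU j
    refine ⟨gamIso j u, ?_⟩
    rw [gamIso_smul]
    intro h
    exact hx ((onlyFix_of_mem_borelU j hu hu1).2 x h)

end Cfsg.Agent.Lib.Helper5.PSL2Tori
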