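import Mathlib
import Cfsg.Agent.Lib.Helper5.PSL2Max1

set_option autoImplicit false

/-! Maximal subgroups of `PSL₂(q)` fixing a point or a pair of points. -/

namespace Cfsg.Agent.Lib.Helper5.PSL2Tori

open Matrix Cfsg.Agent.Lib.Helper4 Cfsg.Agent.Lib.Helper5.Mob Cfsg.Agent.Lib.Helper5.MobPGL
  Cfsg.Agent.Lib.Helper5.MobWild Cfsg.Agent.Lib.Helper5.MobRat Cfsg.Agent.Lib.Helper5.DicksonBorel
  Cfsg.Agent.Lib.Helper5.DicksonMain Cfsg.Agent.Lib.Helper5.DicksonOrders
open scoped LinearAlgebra.Projectivization MatrixGroups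

variable {F E : Type*} [Field F] [Fintype F] [Field E] [IsAlgClosed E] (j : F →+* E)
  (p : ℕ) [Fact p.Prime] [CharP F p] [CharP E p]
  (M : Subgroup (Matrix.ProjectiveSpecialLinearGroup (Fin 2) F))

omit [Fintype F] [IsAlgClosed E] in
/-- a maximal subgroup whose image lies in a proper subgroup `N` is isomorphic to `N` -/
theorem coatom_transfer (hM : IsCoatom M) (N : Subgroup (Gam j))
    (h : ∀ m ∈ M, gamIso j m ∈ N) (hN : N ≠ ⊤) : Nonempty (M ≃* N) := by
  set N₀ := N.comap (gamIso j).toMonoidHom with hN₀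
  have hle : M ≤ N₀ := fun m hm => h m hm
  have hne : N₀ ≠ ⊤ := by
    intro htop
    apply hN
    rw [eq_top_iff]
    intro g _
    obtain ⟨m, rfl⟩ := (gamIso j).surjective g
    have : m ∈ N₀ := by rw [htop]; exact Subgroup.mem_top _
    exact this
  have heq : M = N₀ := by
    by_contra hne'
    exact hne (hM.2 N₀ (lt_of_le_of_ne hle hne'))
  have e1 : N₀ ≃* N := by
    have h1 : N₀ = N.map (gamIso j).symm.toMonoidHom :=
      Subgroup.comap_equiv_eq_map_symm (gamIso j) N
    exact (MulEquiv.subgroupCongr h1).trans ((gamIso j).symm.subgroupMap N).symm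
  exact ⟨(MulEquiv.subgroupCongr heq).trans e1⟩

omit [IsAlgClosed E] in
theorem card_Gam_mul : Nat.gcd 2 (Fintype.card F - 1) * Nat.card (Gam j) =
    Fintype.card F * ((Fintype.card F - 1) * (Fintype.card F + 1)) := by
  rw [card_Gam]; exact card_PSL2_mul

omit [Fintype F] [IsAlgClosed E] in
theorem mem_img_iff (g : PGL(Fin 2, E)) : g ∈ img j M ↔ ∃ m ∈ M, pslHom j m = g := by
  unfold img
  rw [Subgroup.mem_map]

include p in
/-- a maximal subgroup with a fixed point has order `q (q - 1) / d` -/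
theorem max_of_fixed (hq : 3 ≤ Fintype.card F) (hM : IsCoatom M) (hM2 : 2 ≤ Nat.card M)
    (x : ℙ E (Fin 2 → E)) (hx : ∀ g : img j M, g • x = x) :
    Nat.gcd 2 (Fintype.card F - 1) * Nat.card M = Fintype.card F * (Fintype.card F - 1) := by
  set q := Fintype.card F with hqdef
  have hmem : ∀ m ∈ M, gamIso j m ∈ MulAction.stabilizer (Gam j) x := by
    intro m hm
    rw [MulAction.mem_stabilizer_iff, gamIso_smul]
    exact hx ⟨pslHom j m, (mem_img_iff j M _).mpr ⟨m, hm, rfl⟩⟩
  have hN : MulAction.stabilizer (Gam j) x ≠ ⊤ := by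
    intro htop
    obtain ⟨g, hg⟩ := exists_smul_ne j x
    apply hg
    have : g ∈ MulAction.stabilizer (Gam j) x := by rw [htop]; exact Subgroup.mem_top _
    exact this
  obtain ⟨e⟩ := coatom_transfer j M hM _ hmem hN
  have hcard : Nat.card M = ee (Gam j) x := Nat.card_congr e.toEquiv
  by_cases hxr : IsRat j x
  · rw [hcard]
    exact ee_rat j hxr
  · exfalso
    have hsing : x ∈ sing (Gam j) (ℙ E (Fin 2 → E)) := by
      rw [mem_sing_iff_card]
      rw [hcard] at hM2
      exact hM2
    obtain ⟨t', hne, hstab, hee, hc2, -⟩ := nonsplit_partner j p hsing hxr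
    have hmem2 : ∀ m ∈ M, gamIso j m ∈ pairStab (Gam j) x t' := by
      intro m hm
      apply stabilizer_inf_le_pairStab
      refine ⟨hmem m hm, ?_⟩
      rw [← hstab]; exact hmem m hm
    have hN2 : pairStab (Gam j) x t' ≠ ⊤ := by
      intro htop
      have h1 : Nat.card (pairStab (Gam j) x t') = Nat.card (Gam j) := by
        rw [htop, Subgroup.card_top]
      have h2 := card_Gam_mul j
      rw [← h1, hc2, ← hqdef] at h2
      have h3 : Nat.gcd 2 (q - 1) * (2 * ee (Gam j) x) = 2 * (q + 1) := by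
        rw [← hee]; ring
      rw [h3] at h2
      have h4 : 3 * (2 * (q + 1)) ≤ q * ((q - 1) * (q + 1)) :=
        Nat.mul_le_mul hq (Nat.mul_le_mul_right _ (by omega))
      omega
    obtain ⟨e2⟩ := coatom_transfer j M hM _ hmem2 hN2
    have hcard2 : Nat.card M = 2 * ee (Gam j) x := by
      rw [Nat.card_congr e2.toEquiv, hc2]
    omega

include p in
/-- a maximal subgroup with an orbit of length two is dihedral of order `2 (q ± 1) / d` -/
theorem max_of_orbit_two (hq : 3 ≤ Fintype.card F) (hM : IsCoatom M)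
    (x : ℙ E (Fin 2 → E)) (hn : nn (img j M) x = 2)
    (hnofix : ¬ ∃ z : ℙ E (Fin 2 → E), ∀ g : img j M, g • z = z) :
    Nonempty (M ≃* DihedralGroup ((Fintype.card F - 1) / Nat.gcd 2 (Fintype.card F - 1))) ∨
    Nonempty (M ≃* DihedralGroup ((Fintype.card F + 1) / Nat.gcd 2 (Fintype.card F - 1))) := by
  set q := Fintype.card F with hqdef
  have hd : 0 < Nat.gcd 2 (q - 1) := Nat.gcd_pos_of_pos_left _ (by norm_num)
  have hdc : Nat.gcd 2 (q - 1) ≤ 2 := Nat.gcd_le_left _ (by norm_num)
  have hGam := card_Gam_mul j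
  rw [← hqdef] at hGam
  -- the orbit
  have hn' : (MulAction.orbit (img j M) x).ncard = 2 := by
    rw [← Nat.card_coe_set_eq]; exact hn
  obtain ⟨a, b, hab, horb⟩ := Set.ncard_eq_two.mp hn'
  have hxo : x ∈ MulAction.orbit (img j M) x := MulAction.mem_orbit_self x
  obtain ⟨y, hyx, horb'⟩ : ∃ y, y ≠ x ∧ MulAction.orbit (img j M) x = {x, y} := by
    rw [horb] at hxo
    rcases hxo with rfl | rfl
    · exact ⟨b, hab.symm, horb⟩
    · exact ⟨a, hab, by rw [horb, Set.pair_comm]⟩
  have hyo : y ∈ MulAction.orbit (img j M) x := by rw [horb']; right; rfl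
  have hpres : ∀ g : img j M, (g • x = x ∧ g • y = y) ∨ (g • x = y ∧ g • y = x) := by
    intro g
    have h1 : g • x ∈ MulAction.orbit (img j M) x := MulAction.mem_orbit x g
    have h2 : g • y ∈ MulAction.orbit (img j M) x := by
      obtain ⟨c, hc⟩ := hyo
      rw [← hc]
      exact ⟨g * c, mul_smul g c x⟩
    rw [horb'] at h1 h2
    rcases h1 with h1 | h1 <;> rcases h2 with h2 | h2
    · exact absurd (MulAction.injective g (h2.trans h1.symm)) hyx
    · left; exact ⟨h1, h2⟩
    · right; exact ⟨h1, h2⟩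
    · exact absurd (MulAction.injective g (h2.trans h1.symm)) hyx
  have hmem : ∀ m ∈ M, gamIso j m ∈ pairStab (Gam j) x y := by
    intro m hm
    rw [mem_pairStab, gamIso_smul, gamIso_smul]
    exact hpres ⟨pslHom j m, (mem_img_iff j M _).mpr ⟨m, hm, rfl⟩⟩
  obtain ⟨c, hc⟩ := hyo
  have hc' : (c : PGL(Fin 2, E)) • x = y := hc
  have hcrat : (c : PGL(Fin 2, E)) ∈ ratGroup j := img_le_ratGroup j M c.2
  by_cases hxr : IsRat j x
  · left
    have hyr : IsRat j y := by rw [← hc']; exact isRat_smul j hcrat hxr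
    obtain ⟨e⟩ := pairStab_rat j p hxr hyr hyx.symm
    have hN : pairStab (Gam j) x y ≠ ⊤ := by
      intro htop
      have h1 : Nat.card (pairStab (Gam j) x y) = Nat.card (Gam j) := by
        rw [htop, Subgroup.card_top]
      rw [Nat.card_congr e.toEquiv, DihedralGroup.nat_card] at h1
      have h1' : 2 * ((q - 1) / Nat.gcd 2 (q - 1)) = Nat.card (Gam j) := h1
      rw [← h1'] at hGam
      have h2 : Nat.gcd 2 (q - 1) * ((q - 1) / Nat.gcd 2 (q - 1)) = q - 1 :=
        Nat.mul_div_cancel' (Nat.gcd_dvd_right _ _)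
      have h3 : Nat.gcd 2 (q - 1) * (2 * ((q - 1) / Nat.gcd 2 (q - 1))) = 2 * (q - 1) := by
        calc Nat.gcd 2 (q - 1) * (2 * ((q - 1) / Nat.gcd 2 (q - 1)))
            = 2 * (Nat.gcd 2 (q - 1) * ((q - 1) / Nat.gcd 2 (q - 1))) := by ring
          _ = 2 * (q - 1) := by rw [h2]
      rw [h3] at hGam
      have h4 : 3 * ((q - 1) * 2) ≤ q * ((q - 1) * (q + 1)) :=
        Nat.mul_le_mul hq (Nat.mul_le_mul_left _ (by omega))
      omega
    obtain ⟨e2⟩ := coatom_transfer j M hM _ hmem hN
    exact ⟨e2.trans e⟩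
  · right
    -- a non-trivial element fixing `x`
    have hee : 2 ≤ ee (img j M) x := by
      by_contra hlt
      push Not at hlt
      have hpos : 0 < ee (img j M) x := Nat.card_pos
      have h1 : ee (img j M) x = 1 := by omega
      have h2 := card_orbit_mul_card_stabilizer (G := img j M) x
      have h3 : Nat.card (MulAction.orbit (img j M) x) = 2 := hn
      have h4 : Nat.card (MulAction.stabilizer (img j M) x) = 1 := h1
      rw [h3, h4] at h2
      -- the group has two elements
      apply hnofix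
      obtain ⟨z, hz⟩ := (isMob (E := E) p).exists_fix (c : PGL(Fin 2, E))
      refine ⟨z, fun g => ?_⟩
      have hcard2 : Nat.card (img j M) = 2 := h2.symm
      have hc1 : c ≠ 1 := by
        rintro rfl
        exact hyx (by rw [← hc', Subgroup.coe_one, one_smul])
      have hg : g = 1 ∨ g = c := by
        by_contra hcon
        push Not at hcon
        have h3 : 2 < Nat.card (img j M) := by
          haveI : Fintype (img j M) := Fintype.ofFinite _
          rw [Nat.card_eq_fintype_card (α := img j M)]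
          · exact Finset.two_lt_card.mpr ⟨1, Finset.mem_univ _, c, Finset.mem_univ _, g,
              Finset.mem_univ _, hc1.symm, hcon.1.symm, hcon.2.symm⟩
        omega
      rcases hg with rfl | rfl
      · exact one_smul _ z
      · exact hz
    have hsingM : x ∈ sing (img j M) (ℙ E (Fin 2 → E)) := (mem_sing_iff_card x).mpr hee
    obtain ⟨h, hh1, hhx⟩ := hsingM
    have hhy : h • y = y := by
      rcases hpres h with ⟨-, h2⟩ | ⟨h1, -⟩
      · exact h2
      · exact absurd (hhx.symm.trans h1) hyx.symm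
    have hhΓ : (h : PGL(Fin 2, E)) ∈ Gam j := by
      obtain ⟨m, -, hm⟩ := (mem_img_iff j M _).mp h.2
      exact (mem_Gam j _).mpr ⟨m, hm⟩
    have hh1' : (⟨(h : PGL(Fin 2, E)), hhΓ⟩ : Gam j) ≠ 1 := by
      intro hcon
      apply hh1
      have h5 : (h : PGL(Fin 2, E)) = 1 := congrArg Subtype.val hcon
      exact Subtype.ext h5
    have hsing : x ∈ sing (Gam j) (ℙ E (Fin 2 → E)) := ⟨⟨h, hhΓ⟩, hh1', hhx⟩
    obtain ⟨t', hne, hstab, hee', hc2, ⟨e⟩⟩ := nonsplit_partner j p hsing hxr
    have ht' : t' = y := by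
      have h1 : (⟨(h : PGL(Fin 2, E)), hhΓ⟩ : Gam j) ∈ MulAction.stabilizer (Gam j) t' := by
        rw [← hstab]; exact hhx
      have h2 : (h : PGL(Fin 2, E)) • t' = t' := h1
      have h3 : (h : PGL(Fin 2, E)) ≠ 1 := fun hcon => hh1 (Subtype.ext hcon)
      rcases (isMob (E := E) p).fix_mem_pair h3 hyx.symm hhx hhy h2 with h4 | h4
      · exact absurd h4 hne
      · exact h4
    subst ht'
    have hN : pairStab (Gam j) x t' ≠ ⊤ := by
      intro htop
      have h1 : Nat.card (pairStab (Gam j) x t') = Nat.card (Gam j) := by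
        rw [htop, Subgroup.card_top]
      rw [← h1, hc2] at hGam
      have h3 : Nat.gcd 2 (q - 1) * (2 * ee (Gam j) x) = 2 * (q + 1) := by
        rw [← hee']; ring
      rw [h3] at hGam
      have h4 : 3 * (2 * (q + 1)) ≤ q * ((q - 1) * (q + 1)) :=
        Nat.mul_le_mul hq (Nat.mul_le_mul_right _ (by omega))
      omega
    obtain ⟨e2⟩ := coatom_transfer j M hM _ hmem hN
    exact ⟨e2.trans e⟩

end Cfsg.Agent.Lib.Helper5.PSL2Tori
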