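import Mathlib
import Cfsg.Agent.Lib.Helper5.PSL2Max2
import Cfsg.Agent.Lib.Helper5.PGLOrders
import Cfsg.Agent.Lib.Helper5.DicksonFrob
import Cfsg.Agent.Lib.Helper5.SubfieldPSL
import Cfsg.Agent.Lib.Helper5.DicksonMax2

set_option autoImplicit false

/-! Subfield subgroups: monotonicity, intermediate fields, and the refined wild case. -/

namespace Cfsg.Agent.Lib.Helper5.PSL2Tori

open Matrix Cfsg.Agent.Lib.Helper4 Cfsg.Agent.Lib.Helper5.Mob Cfsg.Agent.Lib.Helper5.MobPGL
  Cfsg.Agent.Lib.Helper5.MobWild Cfsg.Agent.Lib.Helper5.MobRat Cfsg.Agent.Lib.Helper5.DicksonBorel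
  Cfsg.Agent.Lib.Helper5.DicksonMain Cfsg.Agent.Lib.Helper5.DicksonOrders
  Cfsg.Agent.Lib.Helper5.DicksonMax
open scoped LinearAlgebra.Projectivization MatrixGroups

section fields

variable {K K' E : Type*} [Field K] [Field K'] [Field E]

/-- a field embedding whose image lies in the image of another factors through it -/
theorem exists_factor (ι : K →+* E) (ι' : K' →+* E) (h : ∀ k, ι k ∈ Set.range ι') :
    ∃ σ : K →+* K', ι'.comp σ = ι := by
  have hleft : Function.LeftInverse (Function.invFun ι') ι' :=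
    Function.leftInverse_invFun ι'.injective
  let e : K' ≃+* ι'.range := RingEquiv.ofLeftInverse hleft
  have hmem : ∀ k, ι k ∈ ι'.range := fun k => by
    obtain ⟨a, ha⟩ := h k
    exact ⟨a, ha⟩
  refine ⟨e.symm.toRingHom.comp (ι.codRestrict ι'.range hmem), ?_⟩
  ext k
  have h1 := e.apply_symm_apply ⟨ι k, hmem k⟩
  exact congrArg Subtype.val h1

theorem ratGroup_mono (ι : K →+* E) (ι' : K' →+* E) (h : ∀ k, ι k ∈ Set.range ι') :
    ratGroup ι ≤ ratGroup ι' := by
  obtain ⟨σ, rfl⟩ := exists_factor ι ι' h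
  rintro _ ⟨g, rfl⟩
  rw [Matrix.ProjGenLinGroup.map_comp]
  exact ⟨Matrix.ProjGenLinGroup.map σ g, rfl⟩

theorem pslRange_mono (ι : K →+* E) (ι' : K' →+* E) (h : ∀ k, ι k ∈ Set.range ι') :
    (pslHom ι).range ≤ (pslHom ι').range := by
  obtain ⟨σ, rfl⟩ := exists_factor ι ι' h
  rintro _ ⟨g, rfl⟩
  obtain ⟨A, rfl⟩ := QuotientGroup.mk_surjective g
  refine ⟨(QuotientGroup.mk (Matrix.SpecialLinearGroup.map σ A) :
    Matrix.ProjectiveSpecialLinearGroup (Fin 2) K'), ?_⟩
  rw [DicksonCyc.pslHom_mk, DicksonCyc.pslHom_mk]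
  congr 1
  ext i j
  rfl

end fields

/-- an intermediate field -/
theorem exists_mid_field {K F E : Type*} [Field K] [Fintype K] [Field F] [Fintype F] [Field E]
    (ι : K →+* E) (j : F →+* E) (a b : ℕ) (ha : 1 ≤ a) (hb : 1 ≤ b)
    (h : Fintype.card K ^ (a * b) = Fintype.card F) :
    ∃ (K' : Type) (_ : Field K') (_ : Fintype K') (ι' : K' →+* E),
      Fintype.card K' = Fintype.card K ^ a ∧ (∀ k, ι k ∈ Set.range ι') ∧
        (∀ k, ι' k ∈ Set.range j) := by
  obtain ⟨p, hp⟩ := CharP.exists K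
  have hpp : Fact p.Prime := ⟨CharP.char_is_prime K p⟩
  obtain ⟨n, -, hn⟩ := FiniteField.card K p
  have hna : (n : ℕ) * a ≠ 0 := Nat.mul_ne_zero n.ne_zero (by omega)
  have : Fintype (GaloisField p ((n : ℕ) * a)) := Fintype.ofFinite _
  have hcard : Fintype.card (GaloisField p ((n : ℕ) * a)) = Fintype.card K ^ a := by
    rw [← Nat.card_eq_fintype_card, GaloisField.card p _ hna, hn, pow_mul]
  obtain ⟨σ₁⟩ := SubfieldPSL.exists_ringHom (K := K) (F := GaloisField p ((n : ℕ) * a)) a ha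
    hcard.symm
  obtain ⟨σ₂⟩ := SubfieldPSL.exists_ringHom (K := GaloisField p ((n : ℕ) * a)) (F := F) b hb
    (by rw [hcard, ← pow_mul]; exact h)
  refine ⟨GaloisField p ((n : ℕ) * a), inferInstance, inferInstance, j.comp σ₂, hcard, ?_,
    fun k => ⟨σ₂ k, rfl⟩⟩
  intro k
  obtain ⟨k0, hk0⟩ := DicksonFrob.mem_range_of_pow_card ((j.comp σ₂).comp σ₁) (ι k)
    (by rw [← map_pow, FiniteField.pow_card])
  exact ⟨σ₁ k0, hk0⟩

section even

variable {K E : Type*} [Field K] [Fintype K] [Field E]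

theorem toPGL_range_eq_top (h : Even (Fintype.card K)) :
    (ProjectiveSpecialLinearGroup.toPGL (n := Fin 2) (R := K)).range = ⊤ := by
  rw [← Subgroup.index_eq_one, PGLOrders.index_range_toPGL,
    gcd_two_of_even (Nat.even_iff.mp h) Fintype.card_pos]

theorem pslHom_range_eq (ι : K →+* E) (h : Even (Fintype.card K)) :
    (pslHom ι).range = ratGroup ι := by
  unfold pslHom ratGroup
  rw [MonoidHom.range_comp, toPGL_range_eq_top h, ← MonoidHom.range_eq_map]

/-- in characteristic two `PSL₂` and `PGL₂` agree -/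
noncomputable def pslEquivPgl (h : Even (Fintype.card K)) :
    Matrix.ProjectiveSpecialLinearGroup (Fin 2) K ≃* Matrix.ProjGenLinGroup (Fin 2) K :=
  MulEquiv.ofBijective ProjectiveSpecialLinearGroup.toPGL
    ⟨ProjectiveSpecialLinearGroup.toPGL_injective, by
      rw [← MonoidHom.range_eq_top]; exact toPGL_range_eq_top h⟩

end even

variable {F E : Type*} [Field F] [Fintype F] [Field E] [IsAlgClosed E] (j : F →+* E)
  (p : ℕ) [Fact p.Prime] [CharP F p] [CharP E p]
  (H : Subgroup (Matrix.ProjectiveSpecialLinearGroup (Fin 2) F))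

omit [IsAlgClosed E] in
theorem Gam_eq_ratGroup (h : Even (Fintype.card F)) : Gam j = ratGroup j := by
  unfold Gam img
  rw [← MonoidHom.range_eq_map]
  exact pslHom_range_eq j h

/-- the wild case, keeping track of the conjugating element -/
theorem case_wild_strong (hw : (subMob (img j H) p).WildPSL) :
    ∃ (γ : PGL(Fin 2, E)) (K : Type) (_ : Field K) (_ : Fintype K) (ι : K →+* E),
      γ ∈ ratGroup j ∧ (∀ k : K, ι k ∈ Set.range j) ∧ 3 ≤ Fintype.card K ∧
      (conjSub (img j H) γ = (pslHom ι).range ∨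
        conjSub (img j H) γ = (Matrix.ProjGenLinGroup.map ι).range) := by
  set G := img j H with hG
  set M := subMob G p with hM
  obtain ⟨x₀, x₁, hq3, hn, hc, -, -⟩ := hw
  -- the point `x₀` is rational
  have hrat0 : IsRat j x₀ := isRat_of_qq j p H (by
    show M.qq x₀ ≠ 1
    omega)
  -- two more points of the orbit
  have hOfin : (MulAction.orbit G x₀).Finite := Set.finite_range _
  have hOcard : (MulAction.orbit G x₀).ncard = M.qq x₀ + 1 := by
    rw [← hn]; exact (Nat.card_coe_set_eq _)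
  have hx₀O : x₀ ∈ MulAction.orbit G x₀ := MulAction.mem_orbit_self _
  have h1 : 1 < (MulAction.orbit G x₀ \ {x₀}).ncard := by
    rw [Set.ncard_sdiff_singleton_of_mem hx₀O, hOcard]
    omega
  obtain ⟨y, hy, z, hz, hyz⟩ := (Set.one_lt_ncard (hOfin.sdiff)).mp h1
  have hratO : ∀ t ∈ MulAction.orbit G x₀, IsRat j t := by
    rintro _ ⟨g, rfl⟩
    exact isRat_smul j (img_le_ratGroup j H g.2) hrat0
  obtain ⟨γ, hγr, hγ0, hγy, hγz⟩ := exists_ratGroup_frame j hrat0 (hratO y hy.1) (hratO z hz.1)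
    (fun h => hy.2 h.symm) (fun h => hz.2 h.symm) hyz
  -- the conjugate subgroup
  set G' := conjSub G γ with hG'
  have : Finite G' := Finite.of_equiv G (conjIso G γ).toEquiv
  set M' := subMob G' p with hM'
  have hf := conjIso_smul (X := ℙ E (Fin 2 → E)) G γ
  have hfx : MulAction.toPerm γ x₀ = (inf : ℙ E (Fin 2 → E)) := hγ0
  have hw' : WildHyp G' p := by
    refine ⟨?_, ?_, ?_, ?_, ?_⟩
    · have := qq_transport M M' (conjIso G γ) (MulAction.toPerm γ) hf x₀
      rw [hfx] at this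
      rw [this]; exact hq3
    · have h1 := qq_transport M M' (conjIso G γ) (MulAction.toPerm γ) hf x₀
      have h2 := nn_transport (conjIso G γ) (MulAction.toPerm γ) hf x₀
      rw [hfx] at h1 h2
      rw [h1, h2]; exact hn
    · have h1 := qq_transport M M' (conjIso G γ) (MulAction.toPerm γ) hf x₀
      have h2 := cc_transport M M' (conjIso G γ) (MulAction.toPerm γ) hf x₀
      rw [hfx] at h1 h2
      rw [h1, h2]; exact hc
    · have := (mem_orbit_transport (conjIso G γ) (MulAction.toPerm γ) hf x₀ y).mp hy.1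
      rw [hfx] at this
      have h2 : MulAction.toPerm γ y = fin (0 : E) := hγy
      rwa [h2] at this
    · have := (mem_orbit_transport (conjIso G γ) (MulAction.toPerm γ) hf x₀ z).mp hz.1
      rw [hfx] at this
      have h2 : MulAction.toPerm γ z = fin (1 : E) := hγz
      rwa [h2] at this
  obtain ⟨K, _, _, ι, hrange, hstr⟩ := hw'.structure
  -- the field `K` embeds into `F`
  have hG'rat : G' ≤ ratGroup j := by
    intro g hg
    rw [mem_conjSub_iff] at hg
    have h1 := img_le_ratGroup j H hg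
    have h2 : g = γ * (γ⁻¹ * g * γ) * γ⁻¹ := by group
    rw [h2]
    exact (ratGroup j).mul_mem ((ratGroup j).mul_mem hγr h1) ((ratGroup j).inv_mem hγr)
  have hsub : ∀ k : K, ι k ∈ Set.range j := by
    intro k
    have h1 : aff 1 (ι k) ∈ G' := (hrange _).mp ⟨k, rfl⟩
    exact mem_range_of_aff_mem_ratGroup j (hG'rat h1)
  refine ⟨γ, K, inferInstance, inferInstance, ι, hγr, hsub, ?_, hstr⟩
  -- the order of `K`
  have hcardK : Nat.card K = Nat.card (trA G') := by
    apply Nat.card_congr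
    refine Equiv.ofBijective (fun k => (⟨ι k, (hrange _).mp ⟨k, rfl⟩⟩ : trA G')) ⟨?_, ?_⟩
    · intro a b hab
      exact ι.injective (congrArg Subtype.val hab)
    · rintro ⟨a, ha⟩
      obtain ⟨k, hk⟩ := (hrange a).mpr ha
      exact ⟨k, Subtype.ext hk⟩
  rw [← Nat.card_eq_fintype_card, hcardK, card_trA G' p]
  exact hw'.hq

end Cfsg.Agent.Lib.Helper5.PSL2Tori
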