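import Mathlib
import Cfsg.Agent.Lib.Helper5.PSL2Max3

set_option autoImplicit false

/-! Maximal subgroups of `PSL₂(q)`: characteristic restrictions, and the subfield case for even `q`. -/

namespace Cfsg.Agent.Lib.Helper5.Mob

open Classical

variable {G X A : Type*} [Group G] [MulAction G X] [CommGroup A] {p : ℕ} (M : IsMob G X A p)

/-- the tame polyhedral configurations do not occur in characteristic two -/
theorem IsMob.Tame3.ne_two [Fact p.Prime] [Finite G] {k g : ℕ} (h : M.Tame3 k g) : p ≠ 2 := by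
  obtain ⟨a, b, c, -, ha, -, -, hqa, -⟩ := h
  have h1 : ee G a = M.qq a * M.cc a := M.card_stabilizer a
  intro hp
  have h2 : M.cc a = 2 := by
    rw [ha, hqa, one_mul] at h1; exact h1.symm
  apply M.not_dvd_cc a
  rw [h2, hp]

theorem IsMob.pow_eq_one_of_mem_Q (x : X) (g : G) (hg : g ∈ M.Q x) : g ^ p = 1 := by
  obtain ⟨g', hg', rfl⟩ := hg
  have h1 : M.chi x g' = 1 := hg'
  have h2 := M.pow_eq_one_of_chi x g' h1
  have h3 := congrArg Subtype.val h2
  simpa using h3

/-- the wild icosahedral configuration only occurs in characteristic three -/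
theorem IsMob.WildA5.eq_three [Fact p.Prime] [Finite G] (h : M.WildA5) : p = 3 := by
  obtain ⟨x₀, x₁, -, hq, -⟩ := h
  haveI : Fact (Nat.Prime 3) := ⟨Nat.prime_three⟩
  have h3 : 3 ∣ Nat.card (M.Q x₀) := by
    have : Nat.card (M.Q x₀) = 3 := hq
    rw [this]
  obtain ⟨g, hg⟩ := exists_prime_orderOf_dvd_card' (G := M.Q x₀) 3 h3
  have h1 : (g : G) ^ p = 1 := M.pow_eq_one_of_mem_Q x₀ g g.2
  have h2 : orderOf (g : G) = 3 := by rw [Subgroup.orderOf_coe]; exact hg
  have h4 : 3 ∣ p := by rw [← h2]; exact orderOf_dvd_of_pow_eq_one h1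
  exact ((Nat.prime_dvd_prime_iff_eq Nat.prime_three Fact.out).mp h4).symm

end Cfsg.Agent.Lib.Helper5.Mob

namespace Cfsg.Agent.Lib.Helper5.PSL2Tori

open Matrix Cfsg.Agent.Lib.Helper4 Cfsg.Agent.Lib.Helper5.Mob Cfsg.Agent.Lib.Helper5.MobPGL
  Cfsg.Agent.Lib.Helper5.MobWild Cfsg.Agent.Lib.Helper5.MobRat Cfsg.Agent.Lib.Helper5.DicksonBorel
  Cfsg.Agent.Lib.Helper5.DicksonMain Cfsg.Agent.Lib.Helper5.DicksonOrders
  Cfsg.Agent.Lib.Helper5.DicksonMax
open scoped LinearAlgebra.Projectivization MatrixGroups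

theorem cube_lt {x y : ℕ} (h1 : 1 ≤ x) (hxy : x < y) :
    x * ((x - 1) * (x + 1)) < y * ((y - 1) * (y + 1)) := by
  have h2 : (x - 1) * (x + 1) ≤ (y - 1) * (y + 1) := Nat.mul_le_mul (by omega) (by omega)
  have h3 : 0 < (y - 1) * (y + 1) := Nat.mul_pos (by omega) (by omega)
  calc x * ((x - 1) * (x + 1)) ≤ x * ((y - 1) * (y + 1)) := Nat.mul_le_mul_left _ h2
    _ < y * ((y - 1) * (y + 1)) := Nat.mul_lt_mul_of_pos_right hxy h3

variable {F E : Type*} [Field F] [Fintype F] [Field E] [IsAlgClosed E] (j : F →+* E)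
  (p : ℕ) [Fact p.Prime] [CharP F p] [CharP E p]
  (M : Subgroup (Matrix.ProjectiveSpecialLinearGroup (Fin 2) F))

/-- the subfield case for even `q` -/
theorem max_of_wild_even (hq : 4 ≤ Fintype.card F) (heven : Even (Fintype.card F))
    (hM : IsCoatom M) (hw : (subMob (img j M) p).WildPSL) :
    ∃ (F₀ : Type) (_ : Field F₀) (_ : Fintype F₀) (r : ℕ), r.Prime ∧ Fintype.card F₀ ≠ 2 ∧
      Fintype.card F = Fintype.card F₀ ^ r ∧
      Nonempty (M ≃* Matrix.ProjectiveSpecialLinearGroup (Fin 2) F₀) := by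
  obtain ⟨γ, K, _, _, ι, hγ, hsub, hK3, hstr⟩ := case_wild_strong j p M hw
  obtain ⟨m, hm⟩ := exists_pow_card_eq ι j hsub
  have hm0 : m ≠ 0 := by
    rintro rfl
    rw [pow_zero] at hm
    omega
  have hKeven : Even (Fintype.card K) := by
    rw [← hm] at heven
    exact (Nat.even_pow.mp heven).1
  have hstr' : conjSub (img j M) γ = ratGroup ι := by
    rcases hstr with h | h
    · rw [h]; exact pslHom_range_eq ι hKeven
    · exact h
  have eM : M ≃* Matrix.ProjGenLinGroup (Fin 2) K :=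
    (((imgIso j M).trans (conjIso (img j M) γ)).trans (MulEquiv.subgroupCongr hstr')).trans
      (MonoidHom.ofInjective (SubfieldPSL.pglMap_injective ι)).symm
  have hcardM : Nat.card M =
      Fintype.card K * ((Fintype.card K - 1) * (Fintype.card K + 1)) := by
    rw [Nat.card_congr eM.toEquiv]; exact card_pgl _ rfl
  have hcardG : Nat.card (Matrix.ProjectiveSpecialLinearGroup (Fin 2) F) =
      Fintype.card F * ((Fintype.card F - 1) * (Fintype.card F + 1)) := by
    have := card_PSL2_mul (F := F)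
    rw [gcd_two_of_even (Nat.even_iff.mp heven) Fintype.card_pos, one_mul] at this
    exact this
  have hK1 : 1 ≤ Fintype.card K := Fintype.card_pos
  by_cases hmp : m.Prime
  · exact ⟨K, inferInstance, inferInstance, m, hmp, by omega, hm.symm,
      ⟨eM.trans (pslEquivPgl hKeven).symm⟩⟩
  exfalso
  by_cases hm1 : m = 1
  · -- then `M` is everything
    rw [hm1, pow_one] at hm
    apply hM.1
    apply Subgroup.eq_top_of_card_eq
    rw [hcardM, hcardG, hm]
  have hm2 : 2 ≤ m := by omega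
  obtain ⟨a, b, ha, hb, hab⟩ := (Nat.not_prime_iff_exists_mul_eq hm2).mp hmp
  have ha2 : 2 ≤ a := by
    by_contra hlt
    have : a ≤ 1 := by omega
    have h1 : a * b ≤ 1 * b := Nat.mul_le_mul_right _ this
    omega
  have hb2 : 2 ≤ b := by
    by_contra hlt
    have : b ≤ 1 := by omega
    have h1 : a * b ≤ a * 1 := Nat.mul_le_mul_left _ this
    omega
  obtain ⟨K', _, _, ι', hcard', hι1, hι2⟩ := exists_mid_field ι j a b (by omega) (by omega)
    (by rw [hab]; exact hm)
  have hlt1 : Fintype.card K < Fintype.card K' := by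
    rw [hcard']
    calc Fintype.card K = Fintype.card K ^ 1 := (pow_one _).symm
      _ < Fintype.card K ^ a := Nat.pow_lt_pow_right (by omega) (by omega)
  have hlt2 : Fintype.card K' < Fintype.card F := by
    rw [hcard', ← hm, ← hab, pow_mul]
    calc Fintype.card K ^ a = (Fintype.card K ^ a) ^ 1 := (pow_one _).symm
      _ < (Fintype.card K ^ a) ^ b := Nat.pow_lt_pow_right (by
          calc 1 < Fintype.card K := by omega
            _ ≤ Fintype.card K ^ a := Nat.le_self_pow (by omega) _) (by omega)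
  -- the intermediate subgroup
  set B : Subgroup PGL(Fin 2, E) := conjSub (ratGroup ι') γ⁻¹ with hB
  have hBle : B ≤ Gam j := by
    rw [Gam_eq_ratGroup j heven]
    intro g hg
    rw [hB, mem_conjSub_iff] at hg
    have h1 := ratGroup_mono ι' j hι2 hg
    have h2 : g = γ⁻¹ * (γ⁻¹⁻¹ * g * γ⁻¹) * γ := by group
    rw [h2]
    exact (ratGroup j).mul_mem ((ratGroup j).mul_mem ((ratGroup j).inv_mem hγ) h1) hγ
  have hcardB : Nat.card B =
      Fintype.card K' * ((Fintype.card K' - 1) * (Fintype.card K' + 1)) := by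
    rw [hB, ← Nat.card_congr (conjIso (ratGroup ι') γ⁻¹).toEquiv, ratGroup,
      ← Nat.card_congr (MonoidHom.ofInjective (SubfieldPSL.pglMap_injective ι')).toEquiv]
    exact card_pgl _ rfl
  set N : Subgroup (Gam j) := B.subgroupOf (Gam j) with hN
  have hcardN : Nat.card N = Nat.card B :=
    Nat.card_congr (Subgroup.subgroupOfEquivOfLe hBle).toEquiv
  have hmem : ∀ m ∈ M, gamIso j m ∈ N := by
    intro m hm
    rw [hN, Subgroup.mem_subgroupOf, gamIso_coe, hB, mem_conjSub_iff]
    apply ratGroup_mono ι ι' hι1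
    rw [← hstr', mem_conjSub_iff]
    have h2 : γ⁻¹ * (γ⁻¹⁻¹ * (pslHom j) m * γ⁻¹) * γ = pslHom j m := by group
    rw [h2]
    exact (mem_img_iff j M _).mpr ⟨m, hm, rfl⟩
  have hNtop : N ≠ ⊤ := by
    intro htop
    have h1 : Nat.card N = Nat.card (Gam j) := by rw [htop, Subgroup.card_top]
    rw [hcardN, hcardB, card_Gam, hcardG] at h1
    have := cube_lt (by omega) hlt2
    omega
  obtain ⟨e⟩ := coatom_transfer j M hM N hmem hNtop
  have h1 : Nat.card M = Nat.card N := Nat.card_congr e.toEquiv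
  rw [hcardN, hcardB, hcardM] at h1
  have := cube_lt hK1 hlt1
  omega

end Cfsg.Agent.Lib.Helper5.PSL2Tori
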