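import Mathlib
import Cfsg.Agent.Lib.Helper5.S4Rec
import Cfsg.Agent.Lib.Helper5.PSL2KleinClasses
import Cfsg.Agent.Lib.Helper5.PSL2A4

set_option autoImplicit false

/-! Subgroups `S_4` of `PSL_2(q)`. -/

namespace Cfsg.Agent.Lib.Helper5.PSL2S4

open Matrix Cfsg.Agent.Lib.Helper5.SL2Cyclic Cfsg.Agent.Lib.Helper5.SL2Quat
  Cfsg.Agent.Lib.Helper5.SumTwoSq Cfsg.Agent.Lib.Helper5.SL2Four
  Cfsg.Agent.Lib.Helper5.KleinPairs Cfsg.Agent.Lib.Helper5.PSL2Pairs
  Cfsg.Agent.Lib.Helper5.PairOrbits Cfsg.Agent.Lib.Helper5.PSL2KleinClasses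

section general
variable {G : Type*} [Group G]

theorem mem_normalizer_of_conj [Finite G] (x : G × G) (hx : x ∈ PairSet G) (g : G)
    (h1 : g * x.1 * g⁻¹ ∈ kvP x hx) (h2 : g * x.2 * g⁻¹ ∈ kvP x hx) :
    g ∈ Subgroup.normalizer ((kvP x hx : Subgroup G) : Set G) := by
  rw [Subgroup.mem_normalizer_iff_map_conj_eq]
  have hy := conjP_mem_pairSet g x hx
  have e : kvP (conjP g x) hy = kvP x hx :=
    kv_eq _ (isKleinFour_kvP x hx) _ _ h1 h2 hy.1.2 hy.2.2.1 hy.2.2.2.2 hy.1.1 hy.2.1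
      (fun h => hy.2.2.2.1 h.symm)
  have h3 := kvP_conjP g x hx
  rw [e] at h3
  exact h3.symm

end general

section psl
variable {F : Type*} [Field F]

local notation "SL2" => Matrix.SpecialLinearGroup (Fin 2) F
local notation "PSL2" => Matrix.ProjectiveSpecialLinearGroup (Fin 2) F

theorem tt_sq (s : F) (hs : s * s = 2) (h2 : (2 : F) ≠ 0) : tt s hs h2 * tt s hs h2 = qi F := by
  have hs0 : s ≠ 0 := by
    rintro rfl
    rw [mul_zero] at hs
    exact h2 hs.symm
  apply Subtype.ext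
  show (!![1 / s, 1 / s; -1 / s, 1 / s] : Matrix (Fin 2) (Fin 2) F) *
    !![1 / s, 1 / s; -1 / s, 1 / s] = !![0, 1; -1, 0]
  ext i j
  fin_cases i <;> fin_cases j <;> simp [mul_apply, Fin.sum_univ_two] <;> field_simp <;>
    first | ring1 | linear_combination hs | linear_combination (-1 : F) * hs

theorem exists_S4 [Fintype F] (hodd : Fintype.card F % 2 = 1) (s : F) (hs : s * s = 2) :
    ∃ H : Subgroup PSL2, Nonempty (H ≃* Equiv.Perm (Fin 4)) := by
  classical
  have h2 : (2 : F) ≠ 0 := two_ne_zero_of_odd hodd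
  obtain ⟨p, r, hpr⟩ := exists_sq_add_sq hodd (-1 : F)
  have hx0 := Pw_mem h2 p r hpr
  obtain ⟨⟨a1, a2⟩, b1, b2, b3, b4⟩ := id hx0
  have a1' : (QuotientGroup.mk (qi F) : PSL2) ≠ 1 := a1
  have b1' : (QuotientGroup.mk (qj p r hpr) : PSL2) ≠ 1 := b1
  have b3' : (QuotientGroup.mk (qj p r hpr) : PSL2) ≠ QuotientGroup.mk (qi F) := b3
  have b4' : (QuotientGroup.mk (qj p r hpr) : PSL2) * QuotientGroup.mk (qi F) =
    QuotientGroup.mk (qi F) * QuotientGroup.mk (qj p r hpr) := b4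
  set V : Subgroup PSL2 := kvP (Pw p r hpr) hx0 with hVdef
  have hVK : IsKleinFour V := isKleinFour_kvP _ hx0
  have hiV : (QuotientGroup.mk (qi F) : PSL2) ∈ V := Or.inr (Or.inl rfl)
  have hjV : (QuotientGroup.mk (qj p r hpr) : PSL2) ∈ V := Or.inr (Or.inr (Or.inl rfl))
  have hijV : (QuotientGroup.mk (qi F * qj p r hpr) : PSL2) ∈ V :=
    Or.inr (Or.inr (Or.inr (QuotientGroup.mk_mul _ _ _)))
  set N : Subgroup PSL2 := Subgroup.normalizer (V : Set PSL2) with hNdef
  have hVN : V ≤ N := Subgroup.le_normalizer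
  -- the two extra elements
  set h0 : PSL2 := QuotientGroup.mk (hh h2 p r hpr) with hh0
  set t0 : PSL2 := QuotientGroup.mk (tt s hs h2) with ht0
  have ch1 : h0 * QuotientGroup.mk (qi F) * h0⁻¹ = QuotientGroup.mk (qj p r hpr) :=
    conj_mk _ _ _ (hh_qi h2 p r hpr)
  have ch2 : h0 * QuotientGroup.mk (qj p r hpr) * h0⁻¹ = QuotientGroup.mk (qi F * qj p r hpr) :=
    conj_mk _ _ _ (hh_qj h2 p r hpr)
  have ct1 : t0 * QuotientGroup.mk (qi F) * t0⁻¹ = QuotientGroup.mk (qi F) :=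
    conj_mk _ _ _ (tt_qi s hs h2)
  have ct2 : t0 * QuotientGroup.mk (qj p r hpr) * t0⁻¹ = QuotientGroup.mk (qi F * qj p r hpr) :=
    conj_mk _ _ _ (tt_qj s hs h2 p r hpr)
  have hh0N : h0 ∈ N := by
    apply mem_normalizer_of_conj (Pw p r hpr) hx0
    · show h0 * QuotientGroup.mk (qi F) * h0⁻¹ ∈ V
      rw [ch1]; exact hjV
    · show h0 * QuotientGroup.mk (qj p r hpr) * h0⁻¹ ∈ V
      rw [ch2]; exact hijV
  have ht0N : t0 ∈ N := by
    apply mem_normalizer_of_conj (Pw p r hpr) hx0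
    · show t0 * QuotientGroup.mk (qi F) * t0⁻¹ ∈ V
      rw [ct1]; exact hiV
    · show t0 * QuotientGroup.mk (qj p r hpr) * t0⁻¹ ∈ V
      rw [ct2]; exact hijV
  -- order facts
  have hh0_cube : h0 * h0 * h0 = 1 := by
    rw [hh0, ← QuotientGroup.mk_mul, ← QuotientGroup.mk_mul,
      Cfsg.Agent.Lib.Helper5.PSL2A4.hh_cube, mk_negOne h2]
  have hh0_ne : h0 ≠ 1 := by
    intro h
    rw [h, one_mul, inv_one, mul_one] at ch1
    exact b3' ch1.symm
  have ho3 : orderOf h0 = 3 := by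
    have : Fact (Nat.Prime 3) := ⟨Nat.prime_three⟩
    exact orderOf_eq_prime (by rw [pow_succ, pow_two]; exact hh0_cube) hh0_ne
  have d3 : 3 ∣ Nat.card N := by
    have h := orderOf_dvd_natCard (⟨h0, hh0N⟩ : N)
    rwa [Subgroup.orderOf_mk, ho3] at h
  set V' : Subgroup N := V.subgroupOf N with hV'def
  have hV'n : V'.Normal := Subgroup.normal_in_normalizer
  have e' : V' ≃* V := Subgroup.subgroupOfEquivOfLe hVN
  have hV'K : IsKleinFour V' :=
    ⟨by rw [Nat.card_congr e'.toEquiv]; exact hVK.card_four,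
      by rw [Monoid.exponent_eq_of_mulEquiv e']; exact hVK.exponent_two⟩
  have hcardN : Nat.card N = Nat.card (N ⧸ V') * Nat.card V' :=
    Subgroup.card_eq_card_quotient_mul_card_subgroup V'
  have ht2 : t0 * t0 = QuotientGroup.mk (qi F) := by
    rw [ht0, ← QuotientGroup.mk_mul, tt_sq]
  have ht0V : t0 ∉ V := by
    intro h
    have h5 := kvP_subset_stab _ hx0 t0 h
    have e2 : t0 * QuotientGroup.mk (qj p r hpr) * t0⁻¹ = QuotientGroup.mk (qj p r hpr) :=
      congrArg Prod.snd h5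
    rw [ct2, QuotientGroup.mk_mul] at e2
    exact a1' (mul_right_cancel (e2.trans (one_mul _).symm))
  have d2 : 2 ∣ Nat.card (N ⧸ V') := by
    have : Fact (Nat.Prime 2) := ⟨Nat.prime_two⟩
    have ho : orderOf (QuotientGroup.mk (⟨t0, ht0N⟩ : N) : N ⧸ V') = 2 := by
      apply orderOf_eq_prime
      · rw [pow_two, ← QuotientGroup.mk_mul, QuotientGroup.eq_one_iff, Subgroup.mem_subgroupOf]
        show t0 * t0 ∈ V
        rw [ht2]; exact hiV
      · rw [Ne, QuotientGroup.eq_one_iff, Subgroup.mem_subgroupOf]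
        exact ht0V
    have h5 := orderOf_dvd_natCard (QuotientGroup.mk (⟨t0, ht0N⟩ : N) : N ⧸ V')
    rwa [ho] at h5
  have hC : ∀ g : N, (∀ v ∈ V', g * v = v * g) → g ∈ V' := by
    intro g hg
    rw [Subgroup.mem_subgroupOf]
    have c1 := hg ⟨_, hVN hiV⟩ (by rw [Subgroup.mem_subgroupOf]; exact hiV)
    have c2 := hg ⟨_, hVN hjV⟩ (by rw [Subgroup.mem_subgroupOf]; exact hjV)
    have c1' : g.1 * QuotientGroup.mk (qi F) = QuotientGroup.mk (qi F) * g.1 :=
      congrArg Subtype.val c1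
    have c2' : g.1 * QuotientGroup.mk (qj p r hpr) = QuotientGroup.mk (qj p r hpr) * g.1 :=
      congrArg Subtype.val c2
    have h5 : g.1 ∈ stab (Pw p r hpr) := by
      show conjP g.1 (Pw p r hpr) = Pw p r hpr
      unfold conjP
      ext
      · show g.1 * QuotientGroup.mk (qi F) * g.1⁻¹ = QuotientGroup.mk (qi F)
        rw [c1', mul_inv_cancel_right]
      · show g.1 * QuotientGroup.mk (qj p r hpr) * g.1⁻¹ = QuotientGroup.mk (qj p r hpr)
        rw [c2', mul_inv_cancel_right]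
    rw [stab_Pw h2] at h5
    exact h5
  -- the upper bound
  set x : N × N := (⟨QuotientGroup.mk (qi F), hVN hiV⟩, ⟨QuotientGroup.mk (qj p r hpr), hVN hjV⟩)
    with hxdef
  have hos := card_orb_mul_card_stab x
  have hstab : Nat.card (stab x) ≤ 4 := by
    rw [← hVK.card_four]
    have hmem : ∀ g : N, g ∈ stab x → g.1 ∈ V := by
      intro g hg
      have hg' : conjP g x = x := hg
      have e1 := congrArg (fun y : N × N => (y.1.1, y.2.1)) hg'
      have h5 : g.1 ∈ stab (Pw p r hpr) := e1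
      rw [stab_Pw h2] at h5
      exact h5
    apply Nat.card_le_card_of_injective (fun g : stab x => (⟨g.1.1, hmem g.1 g.2⟩ : V))
    intro g g' hgg
    have := congrArg Subtype.val hgg
    exact Subtype.ext (Subtype.ext this)
  have horb : Nat.card (orb x) ≤ 6 := by
    rw [← card_pairs_klein V']
    have hx1V : x.1 ∈ V' := by rw [Subgroup.mem_subgroupOf]; exact hiV
    have hx2V : x.2 ∈ V' := by rw [Subgroup.mem_subgroupOf]; exact hjV
    have hx1 : x.1 ≠ 1 := fun h => a1' (congrArg Subtype.val h)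
    have hx2 : x.2 ≠ 1 := fun h => b1' (congrArg Subtype.val h)
    have hx12 : x.1 ≠ x.2 := fun h => b3' (congrArg Subtype.val h).symm
    have key : ∀ y ∈ orb x, (y.1 ∈ V' ∧ y.2 ∈ V') ∧ y.1 ≠ 1 ∧ y.2 ≠ 1 ∧ y.1 ≠ y.2 := by
      rintro y ⟨g, rfl⟩
      refine ⟨⟨hV'n.conj_mem _ hx1V g, hV'n.conj_mem _ hx2V g⟩, ?_, ?_, ?_⟩
      · show g * x.1 * g⁻¹ ≠ 1
        intro h
        rw [mul_inv_eq_one] at h
        exact hx1 (mul_left_cancel (h.trans (mul_one g).symm))
      · show g * x.2 * g⁻¹ ≠ 1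
        intro h
        rw [mul_inv_eq_one] at h
        exact hx2 (mul_left_cancel (h.trans (mul_one g).symm))
      · show g * x.1 * g⁻¹ ≠ g * x.2 * g⁻¹
        intro h
        exact hx12 (mul_left_cancel (mul_right_cancel h))
    apply Nat.card_le_card_of_injective (fun y : orb x =>
      (⟨(⟨y.1.1, (key y.1 y.2).1.1⟩, ⟨y.1.2, (key y.1 y.2).1.2⟩),
        fun h => (key y.1 y.2).2.1 (congrArg Subtype.val h),
        fun h => (key y.1 y.2).2.2.1 (congrArg Subtype.val h),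
        fun h => (key y.1 y.2).2.2.2 (congrArg Subtype.val h)⟩ :
        {p : V' × V' // p.1 ≠ 1 ∧ p.2 ≠ 1 ∧ p.1 ≠ p.2}))
    intro y y' hyy
    have h5 := congrArg Subtype.val hyy
    have h6 : y.1.1 = y'.1.1 := congrArg Subtype.val (congrArg Prod.fst h5)
    have h7 : y.1.2 = y'.1.2 := congrArg Subtype.val (congrArg Prod.snd h5)
    exact Subtype.ext (Prod.ext h6 h7)
  have hcard : Nat.card N = 24 := by
    have hpos : 0 < Nat.card N := Nat.card_pos
    have h4 : Nat.card V' = 4 := hV'K.card_four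
    rw [h4] at hcardN
    have hle : Nat.card N ≤ 24 := by
      rw [← hos]
      calc Nat.card (orb x) * Nat.card (stab x) ≤ 6 * 4 := Nat.mul_le_mul horb hstab
        _ = 24 := by norm_num
    obtain ⟨k, hk⟩ := d2
    rw [hk] at hcardN
    omega
  exact ⟨N, Cfsg.Agent.Lib.Helper5.S4Rec.nonempty_mulEquiv_perm hcard V' hV'K hC⟩

theorem perm4_element : ∃ c : Equiv.Perm (Fin 4), c * c ≠ 1 ∧ c * c * (c * c) = 1 :=
  ⟨Equiv.swap 0 1 * Equiv.swap 1 2 * Equiv.swap 2 3, by decide⟩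

theorem no_S4_char2 [CharP F 2] (H : Subgroup PSL2) (e : H ≃* Equiv.Perm (Fin 4)) : False := by
  have h2 : (2 : F) = 0 := CharTwo.two_eq_zero
  obtain ⟨c, hc2, hc4⟩ := perm4_element
  let g : Equiv.Perm (Fin 4) →* PSL2 := H.subtype.comp e.symm.toMonoidHom
  have hg : Function.Injective g := H.subtype_injective.comp e.symm.injective
  obtain ⟨X, hX⟩ := QuotientGroup.mk_surjective (g c)
  have hX2 : X * X ≠ 1 := by
    intro h
    apply hc2
    apply hg
    rw [map_mul, ← hX, ← QuotientGroup.mk_mul, h, map_one]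
    rfl
  have hX4 : X * X * (X * X) = 1 := by
    apply Cfsg.Agent.Lib.Helper5.PSL2A4.mk_injective
    rw [QuotientGroup.mk_mul, QuotientGroup.mk_mul, hX, ← map_mul, ← map_mul, hc4, map_one]
    rfl
  apply hX2
  have hM4 : (X * X).1 * (X * X).1 = 1 := congrArg Subtype.val hX4
  -- the trace of `X * X` vanishes
  have hcA := cayley2 (X * X).1
  rw [hM4, (X * X).2, one_smul] at hcA
  have htrA : (X * X).1.trace = 0 := by
    have h5 : (X * X).1.trace • (X * X).1 = 0 := by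
      have : (X * X).1.trace • (X * X).1 = (1 : Matrix (Fin 2) (Fin 2) F) + 1 :=
        (eq_sub_iff_add_eq.mp hcA).symm
      rw [this, ← two_smul F (1 : Matrix (Fin 2) (Fin 2) F), h2, zero_smul]
    rcases smul_eq_zero.mp h5 with h | h
    · exact h
    · exfalso
      have hd := (X * X).2
      rw [h] at hd
      simp at hd
  have hcM := cayley2 X.1
  rw [X.2, one_smul] at hcM
  have hXX : (X * X).1 = X.1 * X.1 := rfl
  have htr : X.1.trace = 0 := by
    rw [hXX, hcM, trace_sub, trace_smul, trace_one, Fintype.card_fin, smul_eq_mul] at htrA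
    have h5 : X.1.trace * X.1.trace = 0 := by
      have : ((2 : ℕ) : F) = 0 := by exact_mod_cast h2
      rw [this, sub_zero] at htrA
      exact htrA
    exact mul_self_eq_zero.mp h5
  apply Subtype.ext
  rw [hXX, hcM, htr, zero_smul, zero_sub]
  show (-1 : Matrix (Fin 2) (Fin 2) F) = 1
  have : (-1 : Matrix (Fin 2) (Fin 2) F) - 1 = (2 : F) • (-1) := by rw [two_smul]; abel
  rw [h2, zero_smul, sub_eq_zero] at this
  exact this

theorem sq_mod_of_S4 [Fintype F] (hodd : Fintype.card F % 2 = 1) (H : Subgroup PSL2)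
    (e : H ≃* Equiv.Perm (Fin 4)) : Fintype.card F ^ 2 % 16 = 1 := by
  classical
  have h1 := Cfsg.Agent.Lib.Helper4.card_PSL_mul (F := F) 2 (by norm_num)
  rw [Cfsg.Agent.Lib.Helper4.card_SL2] at h1
  have hH : Nat.card H = 24 := by
    rw [Nat.card_congr e.toEquiv, Nat.card_eq_fintype_card, Fintype.card_perm, Fintype.card_fin]
    rfl
  have hdvd : 24 ∣ Nat.card PSL2 := hH ▸ Subgroup.card_subgroup_dvd_card H
  set q := Fintype.card F with hq
  have hq1 : 1 ≤ q := by omega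
  have hg : Nat.gcd 2 (q - 1) = 2 := by
    apply Nat.gcd_eq_left
    omega
  rw [hg] at h1
  have hqq : 1 ≤ q ^ 2 := Nat.one_le_pow _ _ hq1
  have h16 : 16 ∣ q * (q ^ 2 - 1) := by
    obtain ⟨k, hk⟩ := hdvd
    rw [← h1, hk]
    exact ⟨3 * k, by ring⟩
  have hcop : Nat.Coprime 16 q := by
    have : Nat.Coprime 2 q := (Nat.coprime_two_left).mpr (Nat.odd_iff.mpr hodd)
    exact Nat.Coprime.pow_left 4 this
  have h16' : 16 ∣ q ^ 2 - 1 := hcop.dvd_of_dvd_mul_left h16
  omega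

end psl

end Cfsg.Agent.Lib.Helper5.PSL2S4
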