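import Mathlib
import Cfsg.Prelude.Def_ClassicalGeometry
import Cfsg.Prelude.Def_LieClassical
import Cfsg.Agent.Lib.Helper5.Herm
import Cfsg.Agent.Lib.Helper5.HermBlock
import Cfsg.Agent.Lib.Helper5.HermBridge
import Cfsg.Agent.Lib.Helper5.HermCount

set_option autoImplicit false
open Cfsg

namespace Cfsg.Agent.Lib.Helper5.HermCenter

open Matrix Cfsg.Agent.Lib.Helper5.Herm Cfsg.Agent.Lib.Helper5.HermBlock
  Cfsg.Agent.Lib.Helper5.HermCount

section scalar
variable {F : Type*} [Field F] {n : ℕ}

/-- a matrix commuting with enough diagonal matrices and enough mixing matrices is scalar -/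
theorem eq_scalar_of_commute (z : Matrix (Fin n) (Fin n) F)
    (h1 : ∀ a b : Fin n, a ≠ b → ∃ d : Fin n → F, d a ≠ d b ∧
      z * Matrix.diagonal d = Matrix.diagonal d * z)
    (h2 : ∀ a b : Fin n, a ≠ b → ∃ g : Matrix (Fin n) (Fin n) F, g b a ≠ 0 ∧ z * g = g * z) :
    ∃ l : F, z = Matrix.diagonal (fun _ => l) := by
  have hoff : ∀ a b : Fin n, a ≠ b → z a b = 0 := by
    intro a b hab
    obtain ⟨d, hd, hcomm⟩ := h1 a b hab
    have := congrFun (congrFun hcomm a) b
    rw [Matrix.mul_diagonal, Matrix.diagonal_mul] at this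
    have h3 : z a b * (d b - d a) = 0 := by linear_combination this
    rcases mul_eq_zero.mp h3 with h | h
    · exact h
    · exact absurd (sub_eq_zero.mp h).symm hd
  have hdiag : ∀ a b : Fin n, z a a = z b b := by
    intro a b
    by_cases hab : a = b
    · rw [hab]
    obtain ⟨g, hg, hcomm⟩ := h2 a b hab
    have := congrFun (congrFun hcomm b) a
    rw [Matrix.mul_apply, Matrix.mul_apply, Finset.sum_eq_single b, Finset.sum_eq_single a] at this
    · exact (mul_right_cancel₀ hg (this.trans (mul_comm _ _))).symm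
    · intro k _ hk
      rw [hoff k a hk, mul_zero]
    · intro h; exact absurd (Finset.mem_univ _) h
    · intro k _ hk
      rw [hoff b k (Ne.symm hk), zero_mul]
    · intro h; exact absurd (Finset.mem_univ _) h
  rcases Nat.eq_zero_or_pos n with hn | hn
  · subst hn
    exact ⟨0, Matrix.ext fun i => i.elim0⟩
  · refine ⟨z ⟨0, hn⟩ ⟨0, hn⟩, ?_⟩
    ext a b
    rw [Matrix.diagonal_apply]
    by_cases hab : a = b
    · rw [if_pos hab, ← hab]
      exact hdiag a _
    · rw [if_neg hab]
      exact hoff a b hab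

end scalar

section unitary
variable {F : Type*} [Field F] [Fintype F] {q : ℕ} (hF : Fintype.card F = q ^ 2) {n : ℕ}

/-- unitary matrices -/
def IsU (q : ℕ) (M : Matrix (Fin n) (Fin n) F) : Prop := Mᵀ * M.map (· ^ q) = 1

include hF in
theorem isU_mul {M N : Matrix (Fin n) (Fin n) F} (hM : IsU q M) (hN : IsU q N) : IsU q (M * N) := by
  unfold IsU at *
  have hmap : (M * N).map (· ^ q) = M.map (· ^ q) * N.map (· ^ q) := by
    show (M * N).map (Cfsg.Agent.Lib.Helper5.HermBridge.sigma hF) = M.map (Cfsg.Agent.Lib.Helper5.HermBridge.sigma hF) * N.map (Cfsg.Agent.Lib.Helper5.HermBridge.sigma hF)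
    exact Matrix.map_mul
  rw [hmap, Matrix.transpose_mul]
  calc Nᵀ * Mᵀ * (M.map (· ^ q) * N.map (· ^ q))
      = Nᵀ * (Mᵀ * M.map (· ^ q)) * N.map (· ^ q) := by simp only [Matrix.mul_assoc]
    _ = 1 := by rw [hM, Matrix.mul_one, hN]

include hF in
theorem isU_diagonal (d : Fin n → F) (hd : ∀ i, d i ^ (q + 1) = 1) : IsU q (Matrix.diagonal d) := by
  unfold IsU
  rw [Matrix.diagonal_transpose, Matrix.diagonal_map (by
    show (0 : F) ^ q = 0
    exact zero_pow (q_ne_zero hF)), Matrix.diagonal_mul_diagonal, ← Matrix.diagonal_one]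
  congr 1
  funext i
  rw [← pow_succ']
  exact hd i

include hF in
theorem isU_perm (σ : Equiv.Perm (Fin n)) : IsU q (σ.permMatrix F) := by
  unfold IsU
  have hmap : (σ.permMatrix F).map (· ^ q) = σ.permMatrix F := by
    ext i j
    rw [Matrix.map_apply]
    unfold Equiv.Perm.permMatrix
    rw [PEquiv.toMatrix_apply]
    split_ifs
    · exact one_pow q
    · exact zero_pow (q_ne_zero hF)
  rw [hmap, Matrix.transpose_permMatrix, ← Matrix.permMatrix_mul, mul_inv_cancel, Matrix.permMatrix_one]

include hF in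
/-- membership in `SU` -/
theorem mem_SU_iff (A : Matrix.SpecialLinearGroup (Fin n) F) :
    A ∈ Cfsg.SU n F q ↔ IsU q (A : Matrix (Fin n) (Fin n) F) := by
  have h1 : A ∈ Cfsg.SU n F q ↔ Matrix.SpecialLinearGroup.toGL A ∈ Cfsg.GU n F q := Iff.rfl
  rw [h1, mem_GU_iff hF]
  rfl

include hF in
theorem mem_GU_iff' (g : Matrix.GeneralLinearGroup (Fin n) F) :
    g ∈ Cfsg.GU n F q ↔ IsU q (g : Matrix (Fin n) (Fin n) F) := mem_GU_iff hF g

end unitary

section elements
variable {F : Type*} [Field F] [Fintype F] {q : ℕ} (hF : Fintype.card F = q ^ 2) {n : ℕ}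

include hF in
/-- a norm-one element with `x² ≠ 1` -/
theorem exists_norm_one_sq_ne : ∃ x : F, x ^ (q + 1) = 1 ∧ x ^ 2 ≠ 1 := by
  classical
  by_contra hcon
  push Not at hcon
  have hq := two_le_q hF
  have hcard := card_norm_one hF
  have hinj : Function.Injective (fun x : {x : F // x ^ (q + 1) = 1} => decide (x.1 = 1)) := by
    intro x y hxy
    apply Subtype.ext
    have hx := sq_eq_one_iff.mp (hcon x.1 x.2)
    have hy := sq_eq_one_iff.mp (hcon y.1 y.2)
    simp only [decide_eq_decide] at hxy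
    rcases hx with hx | hx <;> rcases hy with hy | hy
    · rw [hx, hy]
    · exact hx.trans (hxy.mp hx).symm
    · exact (hxy.mpr hy).trans hy.symm
    · rw [hx, hy]
  have := Nat.card_le_card_of_injective _ hinj
  rw [hcard, Nat.card_eq_fintype_card, Fintype.card_bool] at this
  omega

/-- diagonal vector with `x` at `a` and `x⁻¹` at `b` -/
def dvec (a b : Fin n) (x : F) : Fin n → F :=
  Function.update (Function.update (fun _ => (1 : F)) a x) b x⁻¹

omit [Fintype F] in
theorem dvec_a (a b : Fin n) (hab : a ≠ b) (x : F) : dvec a b x a = x := by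
  unfold dvec
  rw [Function.update_of_ne hab, Function.update_self]

omit [Fintype F] in
theorem dvec_b (a b : Fin n) (x : F) : dvec a b x b = x⁻¹ := by
  unfold dvec
  rw [Function.update_self]

omit [Fintype F] in
theorem dvec_pow (a b : Fin n) (x : F) (k : ℕ) (hx : x ^ k = 1) (i : Fin n) :
    dvec a b x i ^ k = 1 := by
  unfold dvec
  by_cases hb : i = b
  · rw [hb, Function.update_self, inv_pow, hx, inv_one]
  · rw [Function.update_of_ne hb]
    by_cases ha : i = a
    · rw [ha, Function.update_self, hx]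
    · rw [Function.update_of_ne ha, one_pow]

omit [Fintype F] in
theorem det_dvec (a b : Fin n) (hab : a ≠ b) (x : F) (hx : x ≠ 0) :
    (Matrix.diagonal (dvec a b x)).det = 1 := by
  classical
  rw [Matrix.det_diagonal]
  unfold dvec
  rw [Finset.prod_update_of_mem (Finset.mem_univ _),
    Finset.prod_update_of_mem (by simp [hab] : a ∈ Finset.univ \ {b})]
  simp [hx]

/-- the diagonal element of `SU` -/
noncomputable def Dab (a b : Fin n) (hab : a ≠ b) (x : F) (hx : x ≠ 0) :
    Matrix.SpecialLinearGroup (Fin n) F :=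
  ⟨Matrix.diagonal (dvec a b x), det_dvec a b hab x hx⟩

include hF in
theorem Dab_mem (a b : Fin n) (hab : a ≠ b) (x : F) (hx : x ≠ 0) (hx1 : x ^ (q + 1) = 1) :
    Dab a b hab x hx ∈ Cfsg.SU n F q := by
  rw [mem_SU_iff hF]
  exact isU_diagonal hF _ (dvec_pow a b x (q + 1) hx1)

/-- the mixing matrix -/
noncomputable def gmat (a b : Fin n) : Matrix (Fin n) (Fin n) F :=
  (Equiv.swap a b).permMatrix F * Matrix.diagonal (Function.update (fun _ => (1 : F)) a (-1))

omit [Fintype F] in
theorem det_gmat (a b : Fin n) (hab : a ≠ b) : (gmat (F := F) a b).det = 1 := by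
  classical
  unfold gmat
  rw [Matrix.det_mul, Matrix.det_permutation, Equiv.Perm.sign_swap hab, Matrix.det_diagonal,
    Finset.prod_update_of_mem (Finset.mem_univ _)]
  simp

omit [Fintype F] in
theorem gmat_apply (a b : Fin n) : gmat (F := F) a b b a = -1 := by
  unfold gmat
  rw [Matrix.mul_diagonal, Function.update_self]
  unfold Equiv.Perm.permMatrix
  rw [PEquiv.toMatrix_apply, Equiv.toPEquiv_apply]
  simp

include hF in
theorem isU_gmat (a b : Fin n) : IsU q (gmat (F := F) a b) := by
  unfold gmat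
  apply isU_mul hF (isU_perm hF _)
  apply isU_diagonal hF
  intro i
  by_cases ha : i = a
  · rw [ha, Function.update_self]
    have h := pow_q_neg_one hF
    rw [pow_succ, h]
    ring
  · rw [Function.update_of_ne ha, one_pow]

/-- the mixing element of `SU` -/
noncomputable def Gab (a b : Fin n) (hab : a ≠ b) : Matrix.SpecialLinearGroup (Fin n) F :=
  ⟨gmat a b, det_gmat a b hab⟩

include hF in
theorem Gab_mem (a b : Fin n) (hab : a ≠ b) : Gab (F := F) a b hab ∈ Cfsg.SU n F q := by
  rw [mem_SU_iff hF]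
  exact isU_gmat hF a b

include hF in
/-- a matrix commuting with all of `SU` is scalar -/
theorem scalar_of_commute_SU (z : Matrix (Fin n) (Fin n) F)
    (hz : ∀ g : Matrix.SpecialLinearGroup (Fin n) F, g ∈ Cfsg.SU n F q →
      z * (g : Matrix (Fin n) (Fin n) F) = (g : Matrix (Fin n) (Fin n) F) * z) :
    ∃ l : F, z = Matrix.diagonal (fun _ => l) := by
  obtain ⟨x, hx1, hx2⟩ := exists_norm_one_sq_ne hF
  have hx0 : x ≠ 0 := by
    rintro rfl
    rw [zero_pow (Nat.succ_ne_zero q)] at hx1
    exact zero_ne_one hx1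
  apply eq_scalar_of_commute
  · intro a b hab
    refine ⟨dvec a b x, ?_, hz _ (Dab_mem hF a b hab x hx0 hx1)⟩
    rw [dvec_a a b hab, dvec_b]
    intro h
    apply hx2
    rw [sq]
    nth_rewrite 2 [h]
    exact mul_inv_cancel₀ hx0
  · intro a b hab
    refine ⟨gmat a b, ?_, hz _ (Gab_mem hF a b hab)⟩
    rw [gmat_apply]
    exact neg_ne_zero.mpr one_ne_zero

end elements

section center
variable {F : Type*} [Field F] [Fintype F] {q : ℕ} (hF : Fintype.card F = q ^ 2) (n : ℕ)

/-- the roots of unity that give central scalars -/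
abbrev Mu (F : Type*) [Field F] (q n : ℕ) : Type _ := {l : Fˣ // l ^ n = 1 ∧ l ^ (q + 1) = 1}

include hF in
theorem card_Mu : Nat.card (Mu F q n) = Nat.gcd n (q + 1) := by
  have h1 := IsCyclic.card_powMonoidHom_ker (G := Fˣ) (Nat.gcd n (q + 1))
  rw [card_units hF, Nat.gcd_eq_right (Dvd.dvd.mul_right (Nat.gcd_dvd_right n (q + 1)) (q - 1))] at h1
  rw [← h1]
  apply Nat.card_congr
  apply Equiv.subtypeEquivRight
  intro l
  rw [MonoidHom.mem_ker, powMonoidHom_apply, pow_gcd_eq_one]

omit [Fintype F] in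
theorem det_scalar (l : F) : (Matrix.diagonal (fun _ : Fin n => l)).det = l ^ n := by
  rw [Matrix.det_diagonal, Finset.prod_const, Finset.card_univ, Fintype.card_fin]

omit [Fintype F] in
theorem scalar_comm (l : F) (M : Matrix (Fin n) (Fin n) F) :
    M * Matrix.diagonal (fun _ : Fin n => l) = Matrix.diagonal (fun _ : Fin n => l) * M := by
  ext i j
  rw [Matrix.mul_diagonal, Matrix.diagonal_mul, mul_comm]

/-- scalar matrices in `SL` -/
noncomputable def scalarSL (l : Mu F q n) : Matrix.SpecialLinearGroup (Fin n) F :=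
  ⟨Matrix.diagonal (fun _ : Fin n => ((l.1 : Fˣ) : F)), by
      rw [det_scalar, ← Units.val_pow_eq_pow_val, l.2.1, Units.val_one]⟩

include hF in
theorem scalarSL_mem (l : Mu F q n) : scalarSL n l ∈ Cfsg.SU n F q := by
  rw [mem_SU_iff hF]
  apply isU_diagonal hF
  intro i
  rw [← Units.val_pow_eq_pow_val, l.2.2, Units.val_one]

include hF in
/-- scalar matrices in the centre of `SU` -/
noncomputable def toCenterSU (l : Mu F q n) : ↥(Subgroup.center ↥(Cfsg.SU n F q)) :=
  ⟨⟨scalarSL n l, scalarSL_mem hF n l⟩, by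
    rw [Subgroup.mem_center_iff]
    intro g
    apply Subtype.ext
    apply Subtype.ext
    exact scalar_comm n _ _⟩

theorem toCenterSU_injective (hn : 1 ≤ n) : Function.Injective (toCenterSU hF n) := by
  intro l l' h
  have h1 : Matrix.diagonal (fun _ : Fin n => ((l.1 : Fˣ) : F)) =
      Matrix.diagonal (fun _ : Fin n => ((l'.1 : Fˣ) : F)) :=
    congrArg (fun x : ↥(Subgroup.center ↥(Cfsg.SU n F q)) =>
      ((x.1.1 : Matrix.SpecialLinearGroup (Fin n) F) : Matrix (Fin n) (Fin n) F)) h
  have h2 := congrFun (congrFun h1 ⟨0, hn⟩) ⟨0, hn⟩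
  rw [Matrix.diagonal_apply_eq, Matrix.diagonal_apply_eq] at h2
  exact Subtype.ext (Units.ext h2)

theorem toCenterSU_surjective (hn : 1 ≤ n) : Function.Surjective (toCenterSU hF n) := by
  intro z
  have hz := z.2
  rw [Subgroup.mem_center_iff] at hz
  obtain ⟨l, hl⟩ := scalar_of_commute_SU hF
    ((z.1.1 : Matrix.SpecialLinearGroup (Fin n) F) : Matrix (Fin n) (Fin n) F) (by
      intro g hg
      have := hz ⟨g, hg⟩
      have h2 := congrArg (fun x : ↥(Cfsg.SU n F q) =>
        ((x.1 : Matrix.SpecialLinearGroup (Fin n) F) : Matrix (Fin n) (Fin n) F)) this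
      exact h2.symm)
  have hdet : l ^ n = 1 := by
    rw [← det_scalar, ← hl]
    exact z.1.1.2
  have hl0 : l ≠ 0 := by
    rintro rfl
    rw [zero_pow (by omega)] at hdet
    exact zero_ne_one hdet
  have hU : l ^ (q + 1) = 1 := by
    have h1 := (mem_SU_iff hF z.1.1).mp z.1.2
    rw [hl] at h1
    unfold IsU at h1
    rw [Matrix.diagonal_transpose, Matrix.diagonal_map (by
      show (0 : F) ^ q = 0
      exact zero_pow (q_ne_zero hF)), Matrix.diagonal_mul_diagonal] at h1
    have h2 := congrFun (congrFun h1 ⟨0, hn⟩) ⟨0, hn⟩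
    rw [Matrix.diagonal_apply_eq, Matrix.one_apply_eq] at h2
    rw [pow_succ']
    exact h2
  refine ⟨⟨Units.mk0 l hl0, ?_, ?_⟩, ?_⟩
  · apply Units.ext
    rw [Units.val_pow_eq_pow_val, Units.val_mk0, hdet, Units.val_one]
  · apply Units.ext
    rw [Units.val_pow_eq_pow_val, Units.val_mk0, hU, Units.val_one]
  · apply Subtype.ext
    apply Subtype.ext
    apply Subtype.ext
    show Matrix.diagonal (fun _ : Fin n => l) = _
    exact hl.symm

include hF in
theorem card_center_SU (hn : 1 ≤ n) :
    Nat.card ↥(Subgroup.center ↥(Cfsg.SU n F q)) = Nat.gcd n (q + 1) := by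
  rw [← card_Mu hF n]
  exact (Nat.card_congr (Equiv.ofBijective (toCenterSU hF n)
    ⟨toCenterSU_injective hF n hn, toCenterSU_surjective hF n hn⟩)).symm

end center

end Cfsg.Agent.Lib.Helper5.HermCenter
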