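import Mathlib
import Cfsg.Prelude
import Cfsg.Agent.Lib.Helper1.ThompsonRelative

/-! Farm S1932: the inductive hypothesis used in the proof of
`G` 2-constrained, `S₄`-free, Sylow 2-subgroup of class at most two ⟹ `G = N_G(J_e(S)) O_{2'}(G)`. -/
set_option autoImplicit false
universe u
open Cfsg
open scoped commutatorElement

namespace Cfsg.Agent.Lib.Helper5.S1932

/-- the inductive hypothesis: in every `S₄`-free group `H` of order `< n` with `O_{2'}(H) = 1`,
`C_H(O_2(H)) ≤ O_2(H)` and a Sylow 2-subgroup `T` of class at most two, every elementary abelian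
subgroup of `T` of maximal order lies in `O_2(H)`. -/
def IHyp (n : ℕ) : Prop :=
  ∀ (H : Type u) [Group H] [Finite H], Nat.card H < n →
    ¬ Cfsg.Involves (Equiv.Perm (Fin 4)) H → Cfsg.pPrimeCore 2 H = ⊥ →
    Subgroup.centralizer (Cfsg.pCore 2 H : Set H) ≤ Cfsg.pCore 2 H →
    ∀ T : Sylow 2 H, (∀ x ∈ (T : Subgroup H), ∀ y ∈ (T : Subgroup H), ∀ z ∈ (T : Subgroup H),
      ⁅⁅x, y⁆, z⁆ = 1) →
    ∀ A ∈ Cfsg.Agent.Lib.Helper1.maxElAbIn 2 (T : Subgroup H), A ≤ Cfsg.pCore 2 H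

end Cfsg.Agent.Lib.Helper5.S1932
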