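import Mathlib
import Cfsg.Agent.Lib.Helper1.SPEDefs

set_option autoImplicit false
set_option linter.unusedSectionVars false

/-!
Farm SPW (statement S2524), PART I (gap bound): definitions.  `q` odd; we reuse helper1's
characteristic free `polF`, `bq`, `qOrbit`, `Ani`, `Hyp` (`Cfsg.Agent.Lib.Helper1.SPEDefs`) and
helper6's `Wl.qf`.
-/

namespace Cfsg.Agent.Lib.Helper5.SPWI

open Matrix Cfsg.Agent.Lib.Helper6.Wl

variable {F : Type*} [Field F]

/-- `qf T` has rank at most one: it is `v ↦ c (w·v)²` -/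
def RankLeOne {n : ℕ} (T : Matrix (Fin n) (Fin n) F) : Prop :=
  ∃ (c : F) (w : Fin n → F), ∀ v : Fin n → F, qf T v = c * (w ⬝ᵥ v) * (w ⬝ᵥ v)

end Cfsg.Agent.Lib.Helper5.SPWI
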