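import Mathlib
import Cfsg.Agent.Lib.Helper6.WlC

set_option autoImplicit false
set_option linter.unusedSectionVars false

/-!
Farm SPE (statement S2333): the Landazuri-Seitz lower bound for the degrees of the irreducible
complex representations of `Sp_{2n}(q)`, `q` even.  Definitions for the representation half (the orbit
half is helper1's `Cfsg.Agent.Lib.Helper1.SPEDefs`).

We reuse helper6's `Wl` files (written for `q` odd, but the group elements are characteristic free):
`symAdd F n` (symmetric matrices), `uQ S = [[1, S], [0, 1]]`, `lQ S`, `lev A = diag (A, A⁻ᵀ)`,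
`conjSym`, `lev_mul_uQ`, `qf C x = x ⬝ᵥ (C *ᵥ x)`, `qf_conj`.
-/

namespace Cfsg.Agent.Lib.Helper5.SPE

open Matrix Cfsg Cfsg.Agent.Lib.Helper6.Wl

variable {F : Type*} [Field F] [Fintype F] [DecidableEq F] {n : ℕ}
variable {V : Type*} [AddCommGroup V] [Module ℂ V]

/-- the isotypic projector of the abelian group `Q = uQ (symAdd)` for the character
`S ↦ ψ (tr (C S))`, `C` an ARBITRARY matrix (the character depends only on the quadratic form
`qf C`) -/
noncomputable def eC (ρ : Representation ℂ (symplecticGroup (Fin n) F) V) (ψ : AddChar F ℂ)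
    (C : Matrix (Fin n) (Fin n) F) : Module.End ℂ V :=
  ((Fintype.card (symAdd F n) : ℂ))⁻¹ • ∑ S : symAdd F n,
    ψ (-(Matrix.trace (C * (S : Matrix (Fin n) (Fin n) F)))) • ρ (uQ S)

end Cfsg.Agent.Lib.Helper5.SPE
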