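import Mathlib
import Cfsg.Agent.Lib.Helper1.SPEDefs
import Cfsg.Agent.Lib.Helper1.SPEA
import Cfsg.Agent.Lib.Helper3.SPEB
import Cfsg.Agent.Lib.Helper2.SPEE
import Cfsg.Agent.Lib.Helper5.SPWIDefs
import Cfsg.Agent.Lib.Helper3.SPWIB

set_option autoImplicit false
set_option linter.unusedSectionVars false
set_option linter.unusedVariables false
set_option linter.unusedSimpArgs false

/-!
Farm SPW (statement S2524), PART I, unit IE: the upper count `card_pairs_le_odd` (port of helper2's
`SPEE` to a plane of nonzero discriminant, any characteristic; the binary count is unit IB).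
-/

namespace Cfsg.Agent.Lib.Helper5.SPWI

open Matrix Cfsg.Agent.Lib.Helper6.Wl Cfsg.Agent.Lib.Helper1.SPE
open Cfsg.Agent.Lib.Helper3.SPE (card_hyp_pairs_le)
open Cfsg.Agent.Lib.Helper2.SPE (pm polF_eq_pm pm_add_left pm_add_right pm_smul_left pm_smul_right
  pm_symm tailV tlv vec_eq'')
open Cfsg.Agent.Lib.Helper3.SPWI (card_bq_pairs_le_odd)

variable {F : Type*} [Field F] [Fintype F] [DecidableEq F]

section dec
variable {m : ℕ} (T : Matrix (Fin (m + 2)) (Fin (m + 2)) F)

theorem pm_self_two {n : ℕ} (T : Matrix (Fin n) (Fin n) F) (x : Fin n → F) :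
    pm T x x = 2 * qf T x := by
  rw [← polF_eq_pm]
  unfold polF
  have h2 : x + x = (2 : F) • x := by rw [two_smul]
  rw [h2, qf_smul]
  ring

theorem qf_add_pm {n : ℕ} (T : Matrix (Fin n) (Fin n) F) (x y : Fin n → F) :
    qf T (x + y) = qf T x + qf T y + pm T x y := by
  rw [← polF_eq_pm]
  unfold polF
  ring

/-- the discriminant (Gram determinant) of the plane `⟨e₀, e₁⟩` -/
noncomputable def dsc : F :=
  4 * qf T (Pi.single 0 1) * qf T (Pi.single 1 1) -
    pm T (Pi.single 0 1) (Pi.single 1 1) * pm T (Pi.single 0 1) (Pi.single 1 1)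

/-- the correction of the coordinate `0` -/
noncomputable def alW (u : Fin m → F) : F :=
  (2 * qf T (Pi.single 1 1) * pm T (Pi.single 0 1) (tailV u) -
    pm T (Pi.single 0 1) (Pi.single 1 1) * pm T (Pi.single 1 1) (tailV u)) / dsc T

/-- the correction of the coordinate `1` -/
noncomputable def beW (u : Fin m → F) : F :=
  (2 * qf T (Pi.single 0 1) * pm T (Pi.single 1 1) (tailV u) -
    pm T (Pi.single 0 1) (Pi.single 1 1) * pm T (Pi.single 0 1) (tailV u)) / dsc T

/-- the component of the tail orthogonal to the plane `⟨e₀, e₁⟩` -/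
noncomputable def zW (u : Fin m → F) : Fin (m + 2) → F :=
  tailV u - alW T u • Pi.single 0 1 - beW T u • Pi.single 1 1

theorem pm_e0_zW (hd : dsc T ≠ 0) (u : Fin m → F) : pm T (Pi.single 0 1) (zW T u) = 0 := by
  unfold zW
  rw [sub_eq_add_neg, sub_eq_add_neg, ← neg_smul, ← neg_smul, pm_add_right, pm_add_right,
    pm_smul_right, pm_smul_right, pm_self_two]
  unfold alW beW
  have hD : dsc T = 4 * qf T (Pi.single 0 1) * qf T (Pi.single 1 1) -
    pm T (Pi.single 0 1) (Pi.single 1 1) * pm T (Pi.single 0 1) (Pi.single 1 1) := rfl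
  field_simp
  rw [hD]
  ring

theorem pm_e1_zW (hd : dsc T ≠ 0) (u : Fin m → F) : pm T (Pi.single 1 1) (zW T u) = 0 := by
  unfold zW
  rw [sub_eq_add_neg, sub_eq_add_neg, ← neg_smul, ← neg_smul, pm_add_right, pm_add_right,
    pm_smul_right, pm_smul_right, pm_self_two, pm_symm T (Pi.single 1 1) (Pi.single 0 1)]
  unfold alW beW
  have hD : dsc T = 4 * qf T (Pi.single 0 1) * qf T (Pi.single 1 1) -
    pm T (Pi.single 0 1) (Pi.single 1 1) * pm T (Pi.single 0 1) (Pi.single 1 1) := rfl
  field_simp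
  rw [hD]
  ring

/-- the decomposition `x = s e₀ + r e₁ + z` -/
theorem vec_eqW (x : Fin (m + 2) → F) :
    x = (x 0 + alW T (tlv x)) • Pi.single 0 1 + (x 1 + beW T (tlv x)) • Pi.single 1 1 +
        zW T (tlv x) := by
  conv_lhs => rw [vec_eq'' x]
  unfold zW
  rw [add_smul, add_smul]
  abel

/-- values of `Q` in the decomposition -/
theorem qf_decW (s r : F) (z : Fin (m + 2) → F)
    (hz0 : pm T (Pi.single 0 1) z = 0) (hz1 : pm T (Pi.single 1 1) z = 0) :
    qf T (s • Pi.single 0 1 + r • Pi.single 1 1 + z) =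
      bq (qf T (Pi.single 0 1)) (pm T (Pi.single 0 1) (Pi.single 1 1)) (qf T (Pi.single 1 1)) s r +
        qf T z := by
  rw [qf_add_pm, pm_add_left, pm_smul_left, pm_smul_left, hz0, hz1, mul_zero, mul_zero, add_zero,
    add_zero, qf_comb, polF_eq_pm]

/-- values of the polar form in the decomposition -/
theorem pm_decW (s r s' r' : F) (z z' : Fin (m + 2) → F)
    (hz0 : pm T (Pi.single 0 1) z = 0) (hz1 : pm T (Pi.single 1 1) z = 0)
    (hz0' : pm T (Pi.single 0 1) z' = 0) (hz1' : pm T (Pi.single 1 1) z' = 0) :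
    pm T (s • Pi.single 0 1 + r • Pi.single 1 1 + z) (s' • Pi.single 0 1 + r' • Pi.single 1 1 + z') =
      2 * qf T (Pi.single 0 1) * s * s' +
        pm T (Pi.single 0 1) (Pi.single 1 1) * (s * r' + r * s') +
        2 * qf T (Pi.single 1 1) * r * r' + pm T z z' := by
  have hz0s : pm T z (Pi.single 0 1) = 0 := by rw [pm_symm, hz0]
  have hz1s : pm T z (Pi.single 1 1) = 0 := by rw [pm_symm, hz1]
  simp only [pm_add_left, pm_add_right, pm_smul_left, pm_smul_right, pm_self_two, hz0', hz1',
    hz0s, hz1s, pm_symm T (Pi.single 1 1) (Pi.single 0 1)]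
  ring

end dec

section main
variable {m : ℕ}

theorem card_pairs_le_odd (h2 : (2 : F) ≠ 0) (T : Matrix (Fin (m + 2)) (Fin (m + 2)) F)
    (hd : 4 * qf T (Pi.single 0 1) * qf T (Pi.single 1 1) -
      polF (qf T) (Pi.single 0 1) (Pi.single 1 1) * polF (qf T) (Pi.single 0 1) (Pi.single 1 1) ≠ 0)
    (hcase : Ani (qf T) (Pi.single 0 1) (Pi.single 1 1) ∨
      Hyp (qf T) (Pi.single 0 1) (Pi.single 1 1)) :
    (Finset.univ.filter (fun p : (Fin (m + 2) → F) × (Fin (m + 2) → F) =>
      qf T p.1 = qf T (Pi.single 0 1) ∧ qf T p.2 = qf T (Pi.single 1 1) ∧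
      polF (qf T) p.1 p.2 = polF (qf T) (Pi.single 0 1) (Pi.single 1 1))).card ≤
      2 * (Fintype.card F + 1) * Fintype.card F ^ (2 * m) := by
  classical
  rw [polF_eq_pm] at hd
  simp only [polF_eq_pm]
  have hdW : dsc T ≠ 0 := hd
  have hfib : ∀ uu ∈ (Finset.univ.filter (fun p : (Fin (m + 2) → F) × (Fin (m + 2) → F) =>
      qf T p.1 = qf T (Pi.single 0 1) ∧ qf T p.2 = qf T (Pi.single 1 1) ∧
        pm T p.1 p.2 = pm T (Pi.single 0 1) (Pi.single 1 1))).image
        (fun p => (tlv p.1, tlv p.2)),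
      ((Finset.univ.filter (fun p : (Fin (m + 2) → F) × (Fin (m + 2) → F) =>
      qf T p.1 = qf T (Pi.single 0 1) ∧ qf T p.2 = qf T (Pi.single 1 1) ∧
        pm T p.1 p.2 = pm T (Pi.single 0 1) (Pi.single 1 1))).filter
        (fun p => (tlv p.1, tlv p.2) = uu)).card ≤ 2 * (Fintype.card F + 1) := by
    rintro ⟨u, u'⟩ -
    have hz0 := pm_e0_zW T hdW u
    have hz1 := pm_e1_zW T hdW u
    have hz0' := pm_e0_zW T hdW u'
    have hz1' := pm_e1_zW T hdW u'
    -- the set of unit IB
    have hBs : (Finset.univ.filter (fun p : (F × F) × (F × F) =>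
        bq (qf T (Pi.single 0 1)) (pm T (Pi.single 0 1) (Pi.single 1 1)) (qf T (Pi.single 1 1))
          p.1.1 p.1.2 = qf T (Pi.single 0 1) - qf T (zW T u) ∧
        bq (qf T (Pi.single 0 1)) (pm T (Pi.single 0 1) (Pi.single 1 1)) (qf T (Pi.single 1 1))
          p.2.1 p.2.2 = qf T (Pi.single 1 1) - qf T (zW T u') ∧
        2 * qf T (Pi.single 0 1) * p.1.1 * p.2.1 +
          pm T (Pi.single 0 1) (Pi.single 1 1) * (p.1.1 * p.2.2 + p.1.2 * p.2.1) +
          2 * qf T (Pi.single 1 1) * p.1.2 * p.2.2 =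
          pm T (Pi.single 0 1) (Pi.single 1 1) - pm T (zW T u) (zW T u'))).card ≤
        2 * (Fintype.card F + 1) := by
      rcases hcase with hani | hhyp
      · apply card_bq_pairs_le_odd h2
        intro s t hst
        apply hani s t
        rw [qf_comb, polF_eq_pm]
        exact hst
      · obtain ⟨h0, h1, h3⟩ := hhyp
        have hq : ∀ z : Fin (m + 2) → F, pm T (Pi.single 0 1) z = 0 →
            pm T (Pi.single 1 1) z = 0 → qf T z = 0 := by
          intro z hz hz'
          apply h3 z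
          · rw [polF_eq_pm]; exact hz
          · rw [polF_eq_pm]; exact hz'
        have e1 : qf T (zW T u) = 0 := hq _ hz0 hz1
        have e2 : qf T (zW T u') = 0 := hq _ hz0' hz1'
        have e3 : pm T (zW T u) (zW T u') = 0 := by
          have h4 : qf T (zW T u + zW T u') = 0 := by
            apply hq
            · rw [pm_add_right, hz0, hz0', add_zero]
            · rw [pm_add_right, hz1, hz1', add_zero]
          have h5 := qf_add_pm T (zW T u) (zW T u')
          rw [h4, e1, e2, zero_add, zero_add] at h5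
          exact h5.symm
        have hb : pm T (Pi.single 0 1) (Pi.single 1 1) ≠ 0 := by
          intro hb0
          apply hdW
          unfold dsc
          rw [h0, hb0]
          ring
        rw [h0, h1, e1, e2, e3]
        simp only [sub_zero, mul_zero, zero_mul, zero_add, add_zero]
        exact card_hyp_pairs_le _ hb
    refine le_trans (Finset.card_le_card_of_injOn
      (fun p => ((p.1 0 + alW T u, p.1 1 + beW T u), (p.2 0 + alW T u', p.2 1 + beW T u')))
      ?_ ?_) hBs
    · intro p hp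
      rw [Finset.mem_coe, Finset.mem_filter, Finset.mem_filter] at hp
      obtain ⟨⟨-, hq1, hq2, hq3⟩, htl⟩ := hp
      have hu : tlv p.1 = u := congrArg Prod.fst htl
      have hu' : tlv p.2 = u' := congrArg Prod.snd htl
      have e1 := vec_eqW T p.1
      rw [hu] at e1
      have e2 := vec_eqW T p.2
      rw [hu'] at e2
      have d1 := qf_decW T (p.1 0 + alW T u) (p.1 1 + beW T u) (zW T u) hz0 hz1
      rw [← e1, hq1] at d1
      have d2 := qf_decW T (p.2 0 + alW T u') (p.2 1 + beW T u') (zW T u') hz0' hz1'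
      rw [← e2, hq2] at d2
      have d3 := pm_decW T (p.1 0 + alW T u) (p.1 1 + beW T u) (p.2 0 + alW T u')
        (p.2 1 + beW T u') (zW T u) (zW T u') hz0 hz1 hz0' hz1'
      rw [← e1, ← e2, hq3] at d3
      rw [Finset.mem_coe, Finset.mem_filter]
      refine ⟨Finset.mem_univ _, ?_, ?_, ?_⟩
      · show bq _ _ _ (p.1 0 + alW T u) (p.1 1 + beW T u) = _
        linear_combination -d1
      · show bq _ _ _ (p.2 0 + alW T u') (p.2 1 + beW T u') = _
        linear_combination -d2
      · show 2 * _ * (p.1 0 + alW T u) * (p.2 0 + alW T u') +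
          _ * ((p.1 0 + alW T u) * (p.2 1 + beW T u') + (p.1 1 + beW T u) * (p.2 0 + alW T u')) +
          2 * _ * (p.1 1 + beW T u) * (p.2 1 + beW T u') = _
        linear_combination -d3
    · intro p hp p' hp' heq
      rw [Finset.mem_coe, Finset.mem_filter] at hp hp'
      have htl := hp.2
      have htl' := hp'.2
      have hu : tlv p.1 = tlv p'.1 :=
        (congrArg Prod.fst htl).trans (congrArg Prod.fst htl').symm
      have hu' : tlv p.2 = tlv p'.2 :=
        (congrArg Prod.snd htl).trans (congrArg Prod.snd htl').symm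
      have g1 : p.1 0 = p'.1 0 := add_right_cancel (congrArg (fun q : (F × F) × (F × F) => q.1.1) heq)
      have g2 : p.1 1 = p'.1 1 := add_right_cancel (congrArg (fun q : (F × F) × (F × F) => q.1.2) heq)
      have g3 : p.2 0 = p'.2 0 := add_right_cancel (congrArg (fun q : (F × F) × (F × F) => q.2.1) heq)
      have g4 : p.2 1 = p'.2 1 := add_right_cancel (congrArg (fun q : (F × F) × (F × F) => q.2.2) heq)
      apply Prod.ext
      · rw [vec_eq'' p.1, vec_eq'' p'.1, g1, g2, hu]
      · rw [vec_eq'' p.2, vec_eq'' p'.2, g3, g4, hu']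
  have h1 := Finset.card_le_mul_card_image _ _ hfib
  refine le_trans h1 ?_
  apply Nat.mul_le_mul_left
  refine le_trans (Finset.card_le_univ _) ?_
  rw [Fintype.card_prod, Fintype.card_fun, Fintype.card_fin, ← pow_add, two_mul]

end main

end Cfsg.Agent.Lib.Helper5.SPWI
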