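import Mathlib
import Cfsg.Agent.Lib.Helper5.SPEDefs
import Cfsg.Agent.Lib.Helper1.SPEDefs
import Cfsg.Agent.Lib.Helper6.SPEP
import Cfsg.Agent.Lib.Helper5.SPWIDefs
import Cfsg.Agent.Lib.Helper5.SPWIG

set_option autoImplicit false
set_option linter.unusedSectionVars false
set_option linter.unusedVariables false

/-!
Farm SPW (statement S2524), PART I, unit IZ: the gap bound.  If the restriction to `Q = uQ (Sym_n)` of
a complex representation of `Sp_{2n}(q)`, `q` odd, contains a character `ψ_C` with `qf C` of rank at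
least two, then its degree is at least `(q^n - 1)(q^n - q) / (2 (q + 1))`.
-/

namespace Cfsg.Agent.Lib.Helper5.SPWI

open Matrix Cfsg Cfsg.Agent.Lib.Helper6.Wl Cfsg.Agent.Lib.Helper1.SPE
open Cfsg.Agent.Lib.Helper5.SPE (eC)
open Cfsg.Agent.Lib.Helper6.SPE (eC_idem trace_idem_nat trace_eC_cong finrank_ge)

variable {F : Type*} [Field F] [Fintype F] [DecidableEq F]

theorem spw_gap {n : ℕ} (hn : 2 ≤ n) (h2 : (2 : F) ≠ 0)
    {V : Type*} [AddCommGroup V] [Module ℂ V] [FiniteDimensional ℂ V]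
    (ρ : Representation ℂ (symplecticGroup (Fin n) F) V) (ψ : AddChar F ℂ) (hψ : ψ ≠ 1)
    (C0 : Matrix (Fin n) (Fin n) F) (heC0 : eC ρ ψ C0 ≠ 0)
    (hC0 : ¬ RankLeOne C0) :
    (Fintype.card F ^ n - 1) * (Fintype.card F ^ n - Fintype.card F) ≤
      2 * (Fintype.card F + 1) * Module.finrank ℂ V := by
  classical
  obtain ⟨r, hr, hr1⟩ := trace_idem_nat (eC ρ ψ C0) (eC_idem ρ ψ C0)
  have hr1' : 1 ≤ r := hr1 heC0
  -- choose a matrix for every form in the orbit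
  have hch : ∀ φ ∈ qOrbit C0, ∃ B : GL (Fin n) F,
      φ = qf ((B : Matrix (Fin n) (Fin n) F)ᵀ * C0 * (B : Matrix (Fin n) (Fin n) F)) := by
    intro φ hφ
    obtain ⟨g, -, rfl⟩ := Finset.mem_image.1 hφ
    refine ⟨g, ?_⟩
    funext x
    rw [qf_conj]
  choose! Bf hBf using hch
  have hinj : ∀ φ ∈ qOrbit C0, ∀ φ' ∈ qOrbit C0,
      (Bf φ : Matrix (Fin n) (Fin n) F)ᵀ * C0 * (Bf φ : Matrix (Fin n) (Fin n) F) =
        (Bf φ' : Matrix (Fin n) (Fin n) F)ᵀ * C0 * (Bf φ' : Matrix (Fin n) (Fin n) F) → φ = φ' := by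
    intro φ hφ φ' hφ' h
    rw [hBf φ hφ, hBf φ' hφ', h]
  let O : Finset (Matrix (Fin n) (Fin n) F) := (qOrbit C0).image
    (fun φ => (Bf φ : Matrix (Fin n) (Fin n) F)ᵀ * C0 * (Bf φ : Matrix (Fin n) (Fin n) F))
  have hOcard : O.card = (qOrbit C0).card := by
    apply Finset.card_image_of_injOn
    intro φ hφ φ' hφ' h
    exact hinj φ hφ φ' hφ' h
  have hne : ∀ C ∈ O, ∀ C' ∈ O, C ≠ C' → qf C ≠ qf C' := by
    intro C hC C' hC' hCC' hq
    obtain ⟨φ, hφ, rfl⟩ := Finset.mem_image.1 hC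
    obtain ⟨φ', hφ', rfl⟩ := Finset.mem_image.1 hC'
    apply hCC'
    have : φ = φ' := by rw [hBf φ hφ, hBf φ' hφ']; exact hq
    rw [this]
  have hrO : ∀ C ∈ O, LinearMap.trace ℂ V (eC ρ ψ C) = (r : ℂ) := by
    intro C hC
    obtain ⟨φ, hφ, rfl⟩ := Finset.mem_image.1 hC
    rw [trace_eC_cong, hr]
  have hge := finrank_ge ρ ψ hψ O r hne hrO
  rw [hOcard] at hge
  have hob := orbit_bound_odd h2 hn C0 hC0
  calc (Fintype.card F ^ n - 1) * (Fintype.card F ^ n - Fintype.card F)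
      ≤ 2 * (Fintype.card F + 1) * (qOrbit C0).card := hob
    _ ≤ 2 * (Fintype.card F + 1) * Module.finrank ℂ V := by
        apply Nat.mul_le_mul_left
        calc (qOrbit C0).card ≤ (qOrbit C0).card * r := Nat.le_mul_of_pos_right _ hr1'
          _ ≤ Module.finrank ℂ V := hge

end Cfsg.Agent.Lib.Helper5.SPWI
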