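import Mathlib
import Cfsg.Agent.Lib.Helper1.SPEA
import Cfsg.Agent.Lib.Helper6.SPWDefs
import Cfsg.Agent.Lib.Helper6.SPWIG
import Cfsg.Agent.Lib.Helper5.SPWIDefs
import Cfsg.Agent.Lib.Helper5.SPWIZ

set_option autoImplicit false
set_option linter.unusedSectionVars false
set_option linter.unusedVariables false

/-!
Farm SPW (statement S2524), PART I, final deliverable: a representation of `Sp_{2n}(q)`, `q` odd, of
degree below `(q^n - 1)(q^n - q) / (2 (q + 1))` has only `Q`-characters `ψ_T` with `T = c x xᵀ`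
(rank at most one).
-/

namespace Cfsg.Agent.Lib.Helper5.SPWI

open Matrix Cfsg Cfsg.Agent.Lib.Helper6.Wl Cfsg.Agent.Lib.Helper1.SPE
open Cfsg.Agent.Lib.Helper6.SPW (IsRk1)

variable {F : Type*} [Field F] [Fintype F] [DecidableEq F] {n : ℕ}

theorem qf_single (T : Matrix (Fin n) (Fin n) F) (i : Fin n) :
    qf T (Pi.single i 1) = T i i := by
  unfold qf
  rw [mulVec_single_one, single_one_dotProduct]
  rfl

theorem polF_single (T : Matrix (Fin n) (Fin n) F) (i j : Fin n) :
    polF (qf T) (Pi.single i 1) (Pi.single j 1) = T i j + T j i := by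
  rw [polF_qf, mulVec_single_one, single_one_dotProduct]
  rfl

/-- a SYMMETRIC matrix whose quadratic form is `c (w·v)²` is `c w wᵀ` (`2 ≠ 0`) -/
theorem isRk1_of_rankLeOne (h2 : (2 : F) ≠ 0) (T : Matrix (Fin n) (Fin n) F) (hT : Tᵀ = T)
    (h : RankLeOne T) : IsRk1 T := by
  obtain ⟨c, w, hq⟩ := h
  refine ⟨c, w, ?_⟩
  ext i j
  have hji : T j i = T i j := by
    have := congrFun (congrFun hT i) j
    rw [transpose_apply] at this
    exact this
  have h1 := polF_single T i j
  unfold polF at h1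
  rw [hq, hq, hq, dotProduct_add, dotProduct_single_one, dotProduct_single_one, hji] at h1
  rw [Matrix.smul_apply, vecMulVec_apply, smul_eq_mul]
  have h3 : (2 : F) * (T i j - c * (w i * w j)) = 0 := by linear_combination -h1
  have h4 := (mul_eq_zero.1 h3).resolve_left h2
  linear_combination h4

theorem rank_le_one_of_isRk1 (T : Matrix (Fin n) (Fin n) F) (h : IsRk1 T) : T.rank ≤ 1 := by
  obtain ⟨c, x, rfl⟩ := h
  have h1 : c • vecMulVec x x = vecMulVec (c • x) x := by
    ext i j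
    simp [vecMulVec_apply, mul_assoc]
  rw [h1]
  exact Matrix.rank_vecMulVec_le _ _

/-- PART I of farm SPW: small degree forces rank at most one on `Q` -/
theorem isRk1_of_small (hn : 2 ≤ n) (h2 : (2 : F) ≠ 0)
    {V : Type*} [AddCommGroup V] [Module ℂ V] [FiniteDimensional ℂ V]
    (ρ : Representation ℂ (symplecticGroup (Fin n) F) V) (ψ : AddChar F ℂ) (hψ : ψ ≠ 1)
    (hdim : 2 * (Fintype.card F + 1) * Module.finrank ℂ V <
      (Fintype.card F ^ n - 1) * (Fintype.card F ^ n - Fintype.card F))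
    (T : symAdd F n) (hT : eT ρ ψ T ≠ 0) : IsRk1 (T : Matrix (Fin n) (Fin n) F) := by
  apply isRk1_of_rankLeOne h2 _ ((mem_symAdd _).1 T.2)
  by_contra hnot
  have hgap := spw_gap hn h2 ρ ψ hψ (T : Matrix (Fin n) (Fin n) F)
    (by rw [Cfsg.Agent.Lib.Helper6.SPWI.eC_coe]; exact hT) hnot
  omega

theorem rank_le_one_of_small (hn : 2 ≤ n) (h2 : (2 : F) ≠ 0)
    {V : Type*} [AddCommGroup V] [Module ℂ V] [FiniteDimensional ℂ V]
    (ρ : Representation ℂ (symplecticGroup (Fin n) F) V) (ψ : AddChar F ℂ) (hψ : ψ ≠ 1)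
    (hdim : 2 * (Fintype.card F + 1) * Module.finrank ℂ V <
      (Fintype.card F ^ n - 1) * (Fintype.card F ^ n - Fintype.card F))
    (T : symAdd F n) (hT : eT ρ ψ T ≠ 0) : (T : Matrix (Fin n) (Fin n) F).rank ≤ 1 :=
  rank_le_one_of_isRk1 _ (isRk1_of_small hn h2 ρ ψ hψ hdim T hT)

end Cfsg.Agent.Lib.Helper5.SPWI
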