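import Mathlib

set_option autoImplicit false

/-! Matrices of rank one are outer products. -/

namespace Cfsg.Agent.Lib.Helper5.RankOne

open Matrix

variable {ι : Type*} [Fintype ι] [DecidableEq ι] {K : Type*} [Field K]

theorem exists_vecMulVec_of_rank_eq_one (A : Matrix ι ι K) (h : A.rank = 1) :
    ∃ u φ : ι → K, u ≠ 0 ∧ φ ≠ 0 ∧ A = Matrix.vecMulVec u φ := by
  have h1 : Module.finrank K (LinearMap.range A.mulVecLin) = 1 := h
  rw [finrank_eq_one_iff'] at h1
  obtain ⟨u, hu, hspan⟩ := h1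
  have hmem : ∀ x, ∃ c : K, c • (u : ι → K) = A *ᵥ x := by
    intro x
    obtain ⟨c, hc⟩ := hspan ⟨A *ᵥ x, ⟨x, rfl⟩⟩
    exact ⟨c, congrArg Subtype.val hc⟩
  choose φ hφ using fun j => hmem (Pi.single j 1)
  have hA : A = Matrix.vecMulVec (u : ι → K) φ := by
    ext i j
    have := congrFun (hφ j) i
    rw [Matrix.mulVec_single_one] at this
    rw [Matrix.vecMulVec_apply, mul_comm]
    exact this.symm
  refine ⟨u, φ, ?_, ?_, hA⟩
  · intro h0
    apply hu
    exact Subtype.ext h0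
  · rintro rfl
    have h0 : A = 0 := by
      rw [hA]
      ext i j
      rw [Matrix.vecMulVec_apply, Pi.zero_apply, mul_zero, Matrix.zero_apply]
    rw [h0, Matrix.rank_zero] at h
    exact zero_ne_one h

theorem rank_vecMulVec (u φ : ι → K) (hu : u ≠ 0) (hφ : φ ≠ 0) :
    (Matrix.vecMulVec u φ).rank = 1 := by
  apply le_antisymm (Matrix.rank_vecMulVec_le u φ)
  rw [Nat.one_le_iff_ne_zero]
  intro h0
  have h1 : Module.finrank K (LinearMap.range (Matrix.vecMulVec u φ).mulVecLin) = 0 := h0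
  rw [Submodule.finrank_eq_zero] at h1
  obtain ⟨j, hj⟩ : ∃ j, φ j ≠ 0 := by
    by_contra hcon
    push Not at hcon
    exact hφ (funext hcon)
  have h2 : (Matrix.vecMulVec u φ) *ᵥ (Pi.single j 1) ∈
      LinearMap.range (Matrix.vecMulVec u φ).mulVecLin := ⟨_, rfl⟩
  rw [h1, Submodule.mem_bot, Matrix.vecMulVec_mulVec, dotProduct_single, mul_one] at h2
  apply hu
  funext i
  have := congrFun h2 i
  simp only [Pi.smul_apply, Pi.zero_apply] at this
  have h3 : u i = 0 ∨ φ j = 0 := by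
    simpa [smul_eq_mul, MulOpposite.smul_eq_mul_unop] using this
  rcases h3 with h | h
  · exact h
  · exact absurd h hj

/-- the action of `1 + u φᵀ` -/
theorem one_add_vecMulVec_mulVec (u φ x : ι → K) :
    (1 + Matrix.vecMulVec u φ) *ᵥ x = x + (φ ⬝ᵥ x) • u := by
  rw [Matrix.add_mulVec, Matrix.one_mulVec, Matrix.vecMulVec_mulVec]
  congr 1
  funext i
  simp [mul_comm]

end Cfsg.Agent.Lib.Helper5.RankOne
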