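import Mathlib
import Cfsg.Prelude
import Cfsg.Agent.Lib.Helper5.HermEich

set_option autoImplicit false

/-!
Transvections of the special unitary group: their shape, and their conjugacy in `SU_n(q)`, `n ≥ 3`.
-/

open Cfsg

namespace Cfsg.Agent.Lib.Helper5.SUTransv

open Matrix Cfsg.Agent.Lib.Helper5.Herm Cfsg.Agent.Lib.Helper5.HermBlock
open Cfsg.Agent.Lib.Helper5.HermTv Cfsg.Agent.Lib.Helper5.HermBridge
open Cfsg.Agent.Lib.Helper5.HermSU Cfsg.Agent.Lib.Helper5.HermGen
open Cfsg.Agent.Lib.Helper5.HermEich Cfsg.Agent.Lib.Helper5.HermCount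

variable {F : Type*} [Field F] [Fintype F] {q : ℕ} (hF : Fintype.card F = q ^ 2) (n : ℕ)

include hF in
/-- a unitary matrix which is a transvection is a unitary transvection with isotropic centre -/
theorem exists_eq_unitaryTransvection (g : ↥(Cfsg.GU n F q))
    (ht : Cfsg.IsTransvection
      ((g : Matrix.GeneralLinearGroup (Fin n) F) : Matrix (Fin n) (Fin n) F)) :
    ∃ (v : Fin n → F) (c : F), v ≠ 0 ∧ hermForm n F q v v = 0 ∧ c ≠ 0 ∧
      ((g : Matrix.GeneralLinearGroup (Fin n) F) : Matrix (Fin n) (Fin n) F) =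
        unitaryTransvection n q v c := by
  classical
  obtain ⟨ht1, ht2⟩ := ht
  set M : Matrix (Fin n) (Fin n) F :=
    ((g : Matrix.GeneralLinearGroup (Fin n) F) : Matrix (Fin n) (Fin n) F) with hM
  set N : Matrix (Fin n) (Fin n) F := M - 1 with hN
  have hMN : ∀ x : Fin n → F, M *ᵥ x = x + N *ᵥ x := by
    intro x
    rw [hN, sub_mulVec, one_mulVec]
    abel
  have hrk : Module.finrank F (LinearMap.range N.mulVecLin) = 1 := ht1
  obtain ⟨⟨w, hwr⟩, hw0, hwspan⟩ := finrank_eq_one_iff'.1 hrk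
  have hw0' : w ≠ 0 := fun h => hw0 (Subtype.ext h)
  obtain ⟨x₀, hx₀⟩ := hwr
  rw [Matrix.mulVecLin_apply] at hx₀
  -- every `N x` is a multiple of `w`
  have hmul : ∀ x : Fin n → F, ∃ a : F, N *ᵥ x = a • w := by
    intro x
    obtain ⟨a, ha⟩ := hwspan ⟨N *ᵥ x, ⟨x, rfl⟩⟩
    exact ⟨a, (congrArg Subtype.val ha).symm⟩
  have hNw : N *ᵥ w = 0 := by
    rw [← hx₀, Matrix.mulVec_mulVec, ht2, Matrix.zero_mulVec]
  -- unitarity
  have hU : ∀ x y : Fin n → F, hermForm n F q x (N *ᵥ y) + hermForm n F q (N *ᵥ x) y +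
      hermForm n F q (N *ᵥ x) (N *ᵥ y) = 0 := by
    intro x y
    have h1 := herm_gact n g x y
    unfold gact at h1
    rw [← hM, hMN, hMN, hermForm_add_left, hermForm_add_right hF, hermForm_add_right hF] at h1
    linear_combination h1
  -- `w` is isotropic
  have hww : hermForm n F q w w = 0 := by
    have := hU w x₀
    rw [hNw, hermForm_zero_left, hermForm_zero_left, hx₀] at this
    linear_combination this
  -- the functional
  set κ : F := hermForm n F q w x₀ with hκ
  have hrel : ∀ x : Fin n → F, ∀ a : F, N *ᵥ x = a • w → hermForm n F q x w + a * κ = 0 := by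
    intro x a ha
    have := hU x x₀
    rw [hx₀, ha, hermForm_smul_left, hermForm_smul_left, hww] at this
    linear_combination this
  have hκ0 : κ ≠ 0 := by
    intro h0
    apply hw0'
    apply (hermSesq_nondegenerate hF n).1 w
    intro x
    rw [hermSesq_apply]
    obtain ⟨a, ha⟩ := hmul x
    have := hrel x a ha
    rw [h0, mul_zero, add_zero] at this
    exact this
  refine ⟨w, -κ⁻¹, hw0', hww, neg_ne_zero.2 (inv_ne_zero hκ0), ?_⟩
  rw [ext_iff_mulVec]
  intro x
  rw [hMN, unitaryTransvection_mulVec]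
  congr 1
  obtain ⟨a, ha⟩ := hmul x
  rw [ha]
  congr 1
  have := hrel x a ha
  field_simp
  linear_combination this

include hF in
theorem li_hyp_pair {e f : Fin n → F} (he : hermForm n F q e e = 0)
    (hf : hermForm n F q f f = 0) (hef : hermForm n F q e f = 1) :
    LinearIndependent F ![e, f] := by
  rw [LinearIndependent.pair_iff]
  intro a b hab
  have h1 := herm_comb_e hF he hf hef a b
  have h2 := herm_comb_f hF he hf hef a b
  rw [hab, hermForm_zero_left] at h1 h2
  exact ⟨h2.symm, h1.symm⟩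

include hF in
/-- `SU_n(q)`, `n ≥ 3`, is transitive on the nonzero isotropic vectors -/
theorem exists_SU_move (hn : 3 ≤ n) (v v' : Fin n → F) (hv0 : v ≠ 0) (hv0' : v' ≠ 0)
    (hv : hermForm n F q v v = 0) (hv' : hermForm n F q v' v' = 0) :
    ∃ A : ↥(Cfsg.SU n F q), gact n (toGU n A) v = v' := by
  obtain ⟨f, hf, hvf⟩ := exists_partner hF n v hv0 hv
  obtain ⟨f', hf', hvf'⟩ := exists_partner hF n v' hv0' hv'
  obtain ⟨g₀, hg₀, -⟩ := witt_pair hF n v f v' f' (li_hyp_pair hF n hv hf hvf)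
    (li_hyp_pair hF n hv' hf' hvf') (by rw [hv, hv']) (by rw [hf, hf'])
    (by rw [herm_fe hF hvf, herm_fe hF hvf'])
  obtain ⟨u, huu, huv'⟩ := exists_unit_perp hF n hn v' hv0' hv'
  -- the determinant of `g₀`
  set δ : ↥(normHom F q).ker := detN hF g₀ with hδ
  have hδ1 : (((δ⁻¹ : ↥(normHom F q).ker) : Fˣ) : F) ^ (q + 1) = 1 := normKer_coe (q := q) δ⁻¹
  set c : F := (((δ⁻¹ : ↥(normHom F q).ker) : Fˣ) : F) - 1 with hc
  have hqc : QCond n q u c := by
    unfold QCond
    rw [huu, hc, pow_q_sub hF, one_pow]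
    rw [pow_succ] at hδ1
    linear_combination hδ1
  set d : ↥(Cfsg.GU n F q) := qtv hF n u c hqc with hd
  have hdv' : gact n d v' = v' := by
    rw [hd, gact_qtv]
    have : hermForm n F q v' u = 0 := by
      rw [← hermForm_conj hF, huv', zero_pow (q_ne_zero hF)]
    rw [this, mul_zero, zero_smul, add_zero]
  have hdet : (((d * g₀ : ↥(Cfsg.GU n F q)) : Matrix.GeneralLinearGroup (Fin n) F) :
      Matrix (Fin n) (Fin n) F).det = 1 := by
    have h1 : detN hF (d * g₀) = 1 := by
      rw [map_mul]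
      have h2 : detN hF d = δ⁻¹ := by
        apply Subtype.ext
        apply Units.ext
        rw [hd, detN_qtv, huu, mul_one, hc]
        ring
      rw [h2, hδ, inv_mul_cancel]
    have h3 := detN_coe hF (d * g₀)
    rw [h1] at h3
    rw [← h3]
    rfl
  obtain ⟨A, hA⟩ := exists_toGU_eq n (d * g₀) hdet
  refine ⟨A, ?_⟩
  rw [hA, gact_mul, hg₀, hdv']

include hF in
/-- any two transvections of `SU_n(q)`, `n ≥ 3`, are conjugate -/
theorem su_transvections_conj (hn : 3 ≤ n) (s t : ↥(Cfsg.SU n F q))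
    (hs : Cfsg.IsTransvection
      ((s : Matrix.SpecialLinearGroup (Fin n) F) : Matrix (Fin n) (Fin n) F))
    (ht : Cfsg.IsTransvection
      ((t : Matrix.SpecialLinearGroup (Fin n) F) : Matrix (Fin n) (Fin n) F)) :
    IsConj s t := by
  obtain ⟨v, c, hv0, hv, hc0, hsv⟩ := exists_eq_unitaryTransvection hF n (toGU n s) hs
  obtain ⟨v', c', hv0', hv', hc0', htv⟩ := exists_eq_unitaryTransvection hF n (toGU n t) ht
  have hqc : QCond n q v c := qcond_of_mem hF n (toGU n s) v c hv0 hv hsv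
  have hqc' : QCond n q v' c' := qcond_of_mem hF n (toGU n t) v' c' hv0' hv' htv
  have hcq : c ^ q = -c := (qcond_iso n hv c).1 hqc
  have hcq' : c' ^ q = -c' := (qcond_iso n hv' c').1 hqc'
  -- rescale `v'`
  have hfix : (c' / c) ^ q = c' / c := by
    rw [div_pow, hcq, hcq', neg_div_neg_eq]
  obtain ⟨a, ha⟩ := exists_norm_eq hF (c' / c) (div_ne_zero hc0' hc0) hfix
  have ha0 : a ≠ 0 := by
    rintro rfl
    rw [zero_pow (by omega)] at ha
    exact div_ne_zero hc0' hc0 ha.symm
  have hav0 : a • v' ≠ 0 := smul_ne_zero ha0 hv0'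
  have hav : hermForm n F q (a • v') (a • v') = 0 := by
    rw [hermForm_smul_left, hermForm_smul_right, hv']
    ring
  have hqc'' : QCond n q (a • v') c := (qcond_iso n hav c).2 hcq
  have hac : a ^ (q + 1) * c = c' := by
    rw [ha]
    field_simp
  obtain ⟨A, hA⟩ := exists_SU_move hF n hn v (a • v') hv0 hav0 hv hav
  rw [isConj_iff]
  refine ⟨A, ?_⟩
  apply toGU_injective n
  rw [map_mul, map_mul, map_inv]
  have hs' : toGU n s = qtv hF n v c hqc := by
    apply Subtype.ext
    apply Units.ext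
    rw [qtv_coe]
    exact hsv
  have ht' : toGU n t = qtv hF n v' c' hqc' := by
    apply Subtype.ext
    apply Units.ext
    rw [qtv_coe]
    exact htv
  rw [hs', ht', conj_qtv]
  have e1 := qtv_smul hF n a v' c hqc'' (by rw [hac]; exact hqc')
  rw [qtv_congr hF n hA rfl _ hqc'', e1]
  exact qtv_congr hF n rfl hac _ _

end Cfsg.Agent.Lib.Helper5.SUTransv
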