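import Mathlib
import Cfsg.Prelude.Def_ChevStructure
import Cfsg.Agent.Lib.Helper5.ChevW0Def

set_option autoImplicit false

/-!
Orbits of roots under the Weyl group, by breadth-first search.
-/

namespace Cfsg.Agent.Lib.Helper5.ChevSym

open Cfsg Cfsg.Lie

/-- breadth-first search of the orbit of a root under the fundamental reflections -/
def orbGo (D : ChevalleyDatum) : ℕ → List ℕ → List ℕ → List ℕ
  | 0, _, vis => vis
  | _ + 1, [], vis => vis
  | n + 1, r :: wl, vis =>
    orbGo D n
      (wl ++ (((List.range D.rank).map fun i => D.reflectRoot i r).filter fun s => !vis.contains s))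
      (vis ++ (((List.range D.rank).map fun i => D.reflectRoot i r).filter fun s => !vis.contains s))

/-- the orbit of a root -/
def orb (D : ChevalleyDatum) (r0 : ℕ) : List ℕ := orbGo D D.nroots [r0] [r0]

/-- the orbits of the seeds cover all the roots -/
def checkReach (D : ChevalleyDatum) (seeds : List ℕ) : Bool :=
  decide ((seeds.flatMap (orb D)).dedup.length = D.nroots)

end Cfsg.Agent.Lib.Helper5.ChevSym
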