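import Mathlib
import Cfsg.Prelude.Def_ChevStructure
import Cfsg.Agent.Lib.Helper5.ChevGenNDef
import Cfsg.Agent.Lib.Helper5.ChevTwistPerf
import Cfsg.Agent.Lib.Helper5.ChevWRel

set_option autoImplicit false

/-!
The Chevalley group is generated by `N` and a few root subgroups.
-/

namespace Cfsg.Agent.Lib.Helper5.ChevStruct

open Cfsg Cfsg.Lie Cfsg.Agent.Lib.Helper5.ChevSym
open scoped commutatorElement

variable {K : Type*} [Field K]

theorem orbGo_sound (D : ChevalleyDatum) (r0 : ℕ) : ∀ (n : ℕ) (wl vis : List ℕ),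
    (∀ r ∈ wl, ∃ w, Wd D w ∧ wAct D w r0 = r) → (∀ r ∈ vis, ∃ w, Wd D w ∧ wAct D w r0 = r) →
    ∀ r ∈ orbGo D n wl vis, ∃ w, Wd D w ∧ wAct D w r0 = r := by
  intro n
  induction n with
  | zero =>
    intro wl vis _ hvis r hr
    cases wl <;> exact hvis r hr
  | succ n ih =>
    intro wl vis hwl hvis r hr
    cases wl with
    | nil => exact hvis r hr
    | cons a wl =>
      have hnew : ∀ s ∈ (((List.range D.rank).map fun i => D.reflectRoot i a).filter
          fun s => !vis.contains s), ∃ w, Wd D w ∧ wAct D w r0 = s := by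
        intro s hs
        rw [List.mem_filter, List.mem_map] at hs
        obtain ⟨⟨i, hi, rfl⟩, -⟩ := hs
        obtain ⟨w, hw, e⟩ := hwl a (List.mem_cons_self ..)
        refine ⟨i :: w, Wd.cons (List.mem_range.1 hi) hw, ?_⟩
        show D.reflectRoot i (wAct D w r0) = _
        rw [e]
      apply ih _ _ _ _ r hr
      · intro s hs
        rcases List.mem_append.1 hs with h | h
        · exact hwl s (List.mem_cons_of_mem _ h)
        · exact hnew s h
      · intro s hs
        rcases List.mem_append.1 hs with h | h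
        · exact hvis s h
        · exact hnew s h

theorem orb_sound (D : ChevalleyDatum) (r0 : ℕ) (r : ℕ) (hr : r ∈ orb D r0) :
    ∃ w, Wd D w ∧ wAct D w r0 = r := by
  have h0 : ∀ s ∈ [r0], ∃ w, Wd D w ∧ wAct D w r0 = s := by
    intro s hs
    rw [List.mem_singleton] at hs
    subst hs
    exact ⟨[], Wd.nil D, rfl⟩
  exact orbGo_sound D r0 _ _ _ h0 h0 r hr

/-- a list of `n` distinct numbers below `n` contains them all -/
theorem mem_of_nodup_length (l : List ℕ) (n : ℕ) (hnd : l.Nodup) (hlt : ∀ x ∈ l, x < n)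
    (hlen : l.length = n) : ∀ k < n, k ∈ l := by
  intro k hk
  have hsub : l.toFinset ⊆ Finset.range n := by
    intro x hx
    rw [List.mem_toFinset] at hx
    exact Finset.mem_range.2 (hlt x hx)
  have hcard : (Finset.range n).card ≤ l.toFinset.card := by
    rw [List.toFinset_card_of_nodup hnd, hlen, Finset.card_range]
  have := Finset.eq_of_subset_of_card_le hsub hcard
  have hk' : k ∈ l.toFinset := by rw [this]; exact Finset.mem_range.2 hk
  exact List.mem_toFinset.1 hk'

theorem checkReach_spec (D : ChevalleyDatum) (hD : D ∈ Seven) (seeds : List ℕ)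
    (hs : ∀ k ∈ seeds, k < D.nroots) (h : checkReach D seeds = true) :
    ∀ r < D.nroots, ∃ k ∈ seeds, ∃ w, Wd D w ∧ wAct D w k = r := by
  intro r hr
  unfold checkReach at h
  rw [decide_eq_true_eq] at h
  have hmem := mem_of_nodup_length _ _ (List.nodup_dedup _) (by
    intro x hx
    rw [List.mem_dedup, List.mem_flatMap] at hx
    obtain ⟨k, hk, hx⟩ := hx
    obtain ⟨w, hw, rfl⟩ := orb_sound D k x hx
    exact wAct_lt D hD w hw k (hs k hk)) h r hr
  rw [List.mem_dedup, List.mem_flatMap] at hmem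
  obtain ⟨k, hk, hx⟩ := hmem
  exact ⟨k, hk, orb_sound D k r hx⟩

/-- the root subgroups of the roots in the orbit of `r0` lie in a subgroup containing `N` and
`X_{r0}` -/
theorem orb_mem (D : ChevalleyDatum) (hD : D ∈ Seven) (M : Subgroup (GL D.Idx K))
    (hN : D.monomialSubgroup K ≤ M) (r0 : ℕ) (hr0 : r0 < D.nroots)
    (h0 : ∀ t, xGL D hD r0 t ∈ M) (w : List ℕ) (hw : Wd D w) :
    ∀ t, xGL D hD (wAct D w r0) t ∈ M := by
  intro t
  exact xGL_wAct_mem D hD M Set.univ (fun _ _ => trivial) w hw (hN (wGL_mem D hD w hw)) r0 hr0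
    (fun t _ => h0 t) t trivial

/-- a subgroup containing all the root elements contains the group -/
theorem group_le_of_xGL (D : ChevalleyDatum) (hD : D ∈ Seven) (M : Subgroup (GL D.Idx K))
    (h : ∀ r < D.nroots, ∀ t, xGL D hD r t ∈ M) : D.group K ≤ M := by
  unfold ChevalleyDatum.group
  rw [Subgroup.closure_le]
  rintro g ⟨r, t, hg⟩
  have e : g = xGL D hD r.val t := by
    apply Units.ext
    rw [hg, xGL_val]
    unfold ChevalleyDatum.x
    rw [dif_pos r.isLt]
  rw [e]
  exact h r.val r.isLt t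

/-- generation by `N` and root subgroups whose orbits cover the roots -/
theorem group_le_of_reach (D : ChevalleyDatum) (hD : D ∈ Seven) (M : Subgroup (GL D.Idx K))
    (hN : D.monomialSubgroup K ≤ M) (seeds : List ℕ)
    (hseeds : ∀ k ∈ seeds, k < D.nroots ∧ ∀ t, xGL D hD k t ∈ M)
    (hreach : checkReach D seeds = true) : D.group K ≤ M := by
  apply group_le_of_xGL D hD
  intro r hr t
  obtain ⟨k, hk, w, hw, rfl⟩ := checkReach_spec D hD seeds (fun k hk => (hseeds k hk).1) hreach r hr
  exact orb_mem D hD M hN k (hseeds k hk).1 (hseeds k hk).2 w hw t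

/-- generation by `N` and one root subgroup, when a root of the other length is obtained from a
commutator -/
theorem group_le_of_reach_two (D : ChevalleyDatum) (hD : D ∈ Seven) (M : Subgroup (GL D.Idx K))
    (hN : D.monomialSubgroup K ≤ M) (r0 : ℕ) (hr0 : r0 < D.nroots)
    (h0 : ∀ t, xGL D hD r0 t ∈ M) (r' s' k : ℕ) (c : ℤ)
    (hr' : r' ∈ orb D r0) (hs' : s' ∈ orb D r0) (hne1 : s' ≠ r') (hne2 : s' ≠ D.neg r')
    (hterms : D.commTerms r' s' = [(k, c, 1, 1)]) (hc : (c : K) ≠ 0) (hk : k < D.nroots)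
    (hreach : checkReach D [r0, k] = true) : D.group K ≤ M := by
  obtain ⟨w1, hw1, e1⟩ := orb_sound D r0 r' hr'
  obtain ⟨w2, hw2, e2⟩ := orb_sound D r0 s' hs'
  have hr'lt : r' < D.nroots := by rw [← e1]; exact wAct_lt D hD w1 hw1 r0 hr0
  have hs'lt : s' < D.nroots := by rw [← e2]; exact wAct_lt D hD w2 hw2 r0 hr0
  have m1 : ∀ t, xGL D hD r' t ∈ M := by
    rw [← e1]; exact orb_mem D hD M hN r0 hr0 h0 w1 hw1
  have m2 : ∀ t, xGL D hD s' t ∈ M := by
    rw [← e2]; exact orb_mem D hD M hN r0 hr0 h0 w2 hw2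
  have hcomm : ⁅M, M⁆ ≤ M := by
    rw [Subgroup.commutator_le]
    intro a ha b hb
    exact M.mul_mem (M.mul_mem (M.mul_mem ha hb) (M.inv_mem ha)) (M.inv_mem hb)
  have mk : ∀ t, xGL D hD k t ∈ M := fun t =>
    hcomm (x_mem_comm_of_wit' D hD M k r' s' c hr'lt hs'lt hne1 hne2 hterms hc t (m2 1) (m1 _))
  apply group_le_of_reach D hD M hN [r0, k] _ hreach
  intro x hx
  simp only [List.mem_cons, List.not_mem_nil, or_false] at hx
  rcases hx with rfl | rfl
  · exact ⟨hr0, h0⟩
  · exact ⟨hk, mk⟩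

end Cfsg.Agent.Lib.Helper5.ChevStruct
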