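import Mathlib
import Cfsg.Agent.S0319

set_option autoImplicit false

/-!
In a group with an irreducible `(B,N)`-pair a normal subgroup either lies in the core of `B` or
supplements `B`.
-/

namespace Cfsg.Agent.Lib.Helper5.BNNormal

open Cfsg Cfsg.Agent.Lib.Helper4.BNPair Cfsg.Agent.Lib.Helper4.BNAbstract

theorem normal_le_core_or_sup_eq_top {G : Type*} [Group G] (P : Cfsg.BNPair G)
    (hirr : P.Irreducible) (H : Subgroup G) [hH : H.Normal] :
    H ≤ P.B.normalCore ∨ P.B ⊔ H = ⊤ := by
  set J : Set G := {s | s ∈ P.S ∧ s ∈ P.B ⊔ H} with hJdef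
  have hJ : J ⊆ P.S := fun s hs => hs.1
  have hM : P.B ⊔ H = P.parabolic J := eq_parabolic_of_le le_sup_left
  by_cases hJne : J.Nonempty
  · by_cases hJc : (P.S \ J).Nonempty
    · exfalso
      obtain ⟨s, hs, s', hs', hnot⟩ := hirr J hJ hJne hJc
      exact hnot (Cfsg.Agent.S0319.comm_of_normal hJ hM hs hs'.1 hs'.2)
    · right
      have hSJ : P.S ⊆ J := by
        intro s hs
        by_contra hsJ
        exact hJc ⟨s, hs, hsJ⟩
      rw [eq_top_iff, ← P.sup_eq_top, hM]
      apply sup_le (B_le_parabolic J)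
      rw [← P.closure_sup]
      apply sup_le
      · exact (Subgroup.closure_mono hSJ).trans (closure_le_parabolic J)
      · exact inf_le_left.trans (B_le_parabolic J)
  · left
    have hJe : J = ∅ := Set.not_nonempty_iff_eq_empty.1 hJne
    have h1 : P.B ⊔ H = P.B := by
      rw [hM, hJe]
      unfold BNPair.parabolic
      rw [Subgroup.closure_empty, sup_bot_eq]
    have h2 : H ≤ P.B := by rw [← h1]; exact le_sup_right
    exact Subgroup.normal_le_normalCore.2 h2

end Cfsg.Agent.Lib.Helper5.BNNormal
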