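import Mathlib
import Cfsg.Prelude
import Cfsg.Agent.Lib.Helper5.HermEich
import Cfsg.Agent.Lib.Helper5.HermCenter
import Cfsg.Agent.Lib.Helper5.SuzukiModel

set_option autoImplicit false
set_option linter.unusedSectionVars false
set_option linter.unusedVariables false
set_option linter.unusedSimpArgs false
open Cfsg

/-! The Sylow 2-subgroups of `PSU₃(q)`, `q` even, are isomorphic to the model group. -/

namespace Cfsg.Agent.Lib.Helper5.SU3Sylow

open Matrix Cfsg.Agent.Lib.Helper5.Herm Cfsg.Agent.Lib.Helper5.HermTv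
  Cfsg.Agent.Lib.Helper5.HermSU Cfsg.Agent.Lib.Helper5.HermEich
  Cfsg.Agent.Lib.Helper5.SuzukiModel

section transport

theorem isSuzukiTwoGroup_of_equiv {P P' : Type*} [Group P] [Group P'] (e : P ≃* P')
    (h : Cfsg.IsSuzukiTwoGroup P) : Cfsg.IsSuzukiTwoGroup P' := by
  obtain ⟨hfin, hp, ⟨x, y, hxy⟩, ⟨u, v, huv, hu1, huu, hv1, hvv⟩, K, hK, hreg⟩ := h
  refine ⟨Finite.of_equiv P e.toEquiv, hp.of_equiv e, ⟨e x, e y, ?_⟩,
    ⟨e u, e v, ?_, ?_, ?_, ?_, ?_⟩, K.map (MulAut.congr e).toMonoidHom,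
    isCyclic_of_surjective ((MulAut.congr e).toMonoidHom.subgroupMap K)
      (MonoidHom.subgroupMap_surjective _ _), ?_⟩
  · rw [← map_mul, ← map_mul]
    exact fun h => hxy (e.injective h)
  · exact fun h => huv (e.injective h)
  · exact fun h => hu1 (e.injective (h.trans (map_one e).symm))
  · rw [← map_mul, huu, map_one]
  · exact fun h => hv1 (e.injective (h.trans (map_one e).symm))
  · rw [← map_mul, hvv, map_one]
  · intro x' y' hx1 hxx hy1 hyy
    have h1 : e.symm x' ≠ 1 := fun h => hx1 (by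
      have := congrArg e h
      rwa [e.apply_symm_apply, map_one] at this)
    have h2 : e.symm x' * e.symm x' = 1 := by rw [← map_mul, hxx, map_one]
    have h3 : e.symm y' ≠ 1 := fun h => hy1 (by
      have := congrArg e h
      rwa [e.apply_symm_apply, map_one] at this)
    have h4 : e.symm y' * e.symm y' = 1 := by rw [← map_mul, hyy, map_one]
    obtain ⟨k, hk, huniq⟩ := hreg _ _ h1 h2 h3 h4
    refine ⟨⟨MulAut.congr e k.1, Subgroup.mem_map_of_mem _ k.2⟩, ?_, ?_⟩
    · show e (k.1 (e.symm x')) = y'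
      rw [hk, e.apply_symm_apply]
    · rintro ⟨k'', hk''⟩ hk''x
      obtain ⟨k₂, hk₂, rfl⟩ := Subgroup.mem_map.mp hk''
      have h5 : e (k₂ (e.symm x')) = y' := hk''x
      have h6 : k₂ (e.symm x') = e.symm y' := by rw [← h5, e.symm_apply_apply]
      have h7 := huniq ⟨k₂, hk₂⟩ h6
      apply Subtype.ext
      show MulAut.congr e k₂ = MulAut.congr e k.1
      rw [← h7]

end transport

section emb
variable {F : Type*} [Field F] [Fintype F] {q : ℕ} [hF : Fact (Fintype.card F = q ^ 2)]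
  [CharP F 2]

/-- an isotropic vector -/
def x₀ (F : Type*) [Field F] : Fin 3 → F := ![1, 1, 0]
/-- a unit vector orthogonal to it -/
def e₀ (F : Type*) [Field F] : Fin 3 → F := ![0, 0, 1]
/-- a test vector -/
def v₁ (F : Type*) [Field F] : Fin 3 → F := ![1, 0, 0]

theorem h_x₀_x₀ : hermForm 3 F q (x₀ F) (x₀ F) = 0 := by
  simp only [hermForm, Fin.sum_univ_three, x₀, Matrix.cons_val_zero, Matrix.cons_val_one,
    Matrix.cons_val_two, Matrix.head_cons, Matrix.tail_cons, one_pow, mul_one,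
    zero_pow (q_ne_zero hF.out), mul_zero, add_zero]
  exact CharTwo.add_self_eq_zero 1

theorem h_e₀_x₀ : hermForm 3 F q (e₀ F) (x₀ F) = 0 := by
  simp [hermForm, Fin.sum_univ_three, x₀, e₀, zero_pow (q_ne_zero hF.out)]

theorem h_x₀_e₀ : hermForm 3 F q (x₀ F) (e₀ F) = 0 := by
  simp [hermForm, Fin.sum_univ_three, x₀, e₀, zero_pow (q_ne_zero hF.out)]

theorem h_e₀_e₀ : hermForm 3 F q (e₀ F) (e₀ F) = 1 := by
  simp [hermForm, Fin.sum_univ_three, e₀, zero_pow (q_ne_zero hF.out)]

theorem h_v₁_x₀ : hermForm 3 F q (v₁ F) (x₀ F) = 1 := by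
  simp [hermForm, Fin.sum_univ_three, x₀, v₁, zero_pow (q_ne_zero hF.out)]

theorem h_v₁_e₀ : hermForm 3 F q (v₁ F) (e₀ F) = 0 := by
  simp [hermForm, Fin.sum_univ_three, e₀, v₁, zero_pow (q_ne_zero hF.out)]

theorem ehyp (g : M F q) : EHyp 3 q (x₀ F) (g.a • e₀ F) g.b where
  hx := h_x₀_x₀
  hwx := by rw [hermForm_smul_left, h_e₀_x₀, mul_zero]
  hb := by
    rw [hermForm_smul_left, hermForm_smul_right, h_e₀_e₀, mul_one, ← pow_succ']
    exact g.h

/-- the embedding of the model group into the unitary group -/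
noncomputable def emb (g : M F q) : ↥(Cfsg.GU 3 F q) :=
  eich hF.out 3 (x₀ F) (g.a • e₀ F) g.b (ehyp g)

theorem gact_emb (g : M F q) (v : Fin 3 → F) :
    gact 3 (emb g) v = v + hermForm 3 F q v (x₀ F) • (g.a • e₀ F) +
      (g.b * hermForm 3 F q v (x₀ F) - hermForm 3 F q v (g.a • e₀ F)) • x₀ F :=
  gact_eich hF.out 3 _ _ _ (ehyp g) v

theorem emb_mul (g k : M F q) : emb (g * k) = emb g * emb k := by
  apply ext_gact
  intro v
  rw [gact_mul, gact_emb, gact_emb, gact_emb]
  simp only [hermForm_add_left, hermForm_smul_left, hermForm_smul_right, h_x₀_x₀, h_e₀_x₀,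
    h_x₀_e₀, h_e₀_e₀, mul_a, mul_b, pow_q_add hF.out]
  module

theorem emb_one : emb (1 : M F q) = 1 := by
  apply ext_gact
  intro v
  rw [gact_emb, gact_one]
  simp only [one_a, one_b, zero_smul, smul_zero, zero_mul, add_zero, hermForm_zero_right hF.out,
    sub_zero]

/-- the embedding as a homomorphism -/
noncomputable def embHom : M F q →* ↥(Cfsg.GU 3 F q) where
  toFun := emb
  map_one' := emb_one
  map_mul' := emb_mul

theorem embHom_injective : Function.Injective (embHom (F := F) (q := q)) := by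
  intro g k h
  have h1 : gact 3 (emb g) (v₁ F) = gact 3 (emb k) (v₁ F) := by
    show gact 3 (embHom g) (v₁ F) = gact 3 (embHom k) (v₁ F)
    rw [h]
  rw [gact_emb, gact_emb] at h1
  simp only [h_v₁_x₀, hermForm_smul_right, h_v₁_e₀, mul_zero, sub_zero, mul_one, one_smul] at h1
  have ha := congrFun h1 2
  have hb := congrFun h1 1
  simp [v₁, e₀, x₀] at ha hb
  exact M.ext ha hb

theorem det_emb (g : M F q) :
    (((emb g : ↥(Cfsg.GU 3 F q)) : Matrix.GeneralLinearGroup (Fin 3) F) :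
      Matrix (Fin 3) (Fin 3) F).det = 1 :=
  det_eich hF.out 3 _ _ _ (ehyp g)

/-- the embedding into the special unitary group -/
noncomputable def embSU : M F q →* ↥(Cfsg.SU 3 F q) where
  toFun g := Classical.choose (exists_toGU_eq 3 (emb g) (det_emb g))
  map_one' := by
    apply toGU_injective 3
    rw [Classical.choose_spec (exists_toGU_eq 3 (emb (1 : M F q)) (det_emb 1)), emb_one, map_one]
  map_mul' g k := by
    apply toGU_injective 3
    rw [Classical.choose_spec (exists_toGU_eq 3 (emb (g * k)) (det_emb _)), map_mul,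
      Classical.choose_spec (exists_toGU_eq 3 (emb g) (det_emb _)),
      Classical.choose_spec (exists_toGU_eq 3 (emb k) (det_emb _)), emb_mul]

theorem toGU_embSU (g : M F q) : toGU 3 (embSU g) = emb g :=
  Classical.choose_spec (exists_toGU_eq 3 (emb g) (det_emb g))

theorem embSU_injective : Function.Injective (embSU (F := F) (q := q)) := by
  intro g k h
  apply embHom_injective
  show emb g = emb k
  rw [← toGU_embSU, ← toGU_embSU, h]

end emb

section sylow
variable {F : Type*} [Field F] [Fintype F] {q : ℕ} [hF : Fact (Fintype.card F = q ^ 2)]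
  [CharP F 2]

theorem card_PSU_mul :
    Nat.gcd 3 (q + 1) * Nat.card (Cfsg.PSU 3 F q) = q ^ 3 * ((q ^ 2 - 1) * (q ^ 3 + 1)) := by
  have h1 := Cfsg.Agent.Lib.Helper5.HermCard.card_GU hF.out 3
  have h2 := Cfsg.Agent.Lib.Helper5.HermCard.card_SU hF.out 3 (by norm_num)
  have h3 := Subgroup.card_eq_card_quotient_mul_card_subgroup (Subgroup.center ↥(Cfsg.SU 3 F q))
  have h4 := Cfsg.Agent.Lib.Helper5.HermCenter.card_center_SU hF.out 3 (by norm_num)
  have hprod : ∏ i ∈ Finset.range 3, (if Even i then q ^ (i + 1) + 1 else q ^ (i + 1) - 1) =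
      (q + 1) * ((q ^ 2 - 1) * (q ^ 3 + 1)) := by
    rw [Finset.prod_range_succ, Finset.prod_range_succ, Finset.prod_range_succ,
      Finset.prod_range_zero]
    have e0 : Even 0 := by decide
    have e1 : ¬ Even 1 := by decide
    have e2 : Even 2 := by decide
    simp only [e0, e1, e2, if_true, if_false]
    ring
  rw [hprod] at h1
  rw [h1, h3, h4] at h2
  have hq1 : 0 < q + 1 := by omega
  have : (q + 1) * (Nat.gcd 3 (q + 1) * Nat.card (Cfsg.PSU 3 F q)) =
      (q + 1) * (q ^ 3 * ((q ^ 2 - 1) * (q ^ 3 + 1))) := by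
    have e : 3 * (3 - 1) / 2 = 3 := by norm_num
    rw [e] at h2
    calc (q + 1) * (Nat.gcd 3 (q + 1) * Nat.card (Cfsg.PSU 3 F q))
        = (q + 1) * (Nat.card (↥(Cfsg.SU 3 F q) ⧸ Subgroup.center ↥(Cfsg.SU 3 F q)) *
            Nat.gcd 3 (q + 1)) := by ring
      _ = q ^ 3 * ((q + 1) * ((q ^ 2 - 1) * (q ^ 3 + 1))) := h2
      _ = _ := by ring
  exact Nat.eq_of_mul_eq_mul_left hq1 this

/-- the embedding into `PSU₃(q)` -/
noncomputable def embP : M F q →* Cfsg.PSU 3 F q :=
  (QuotientGroup.mk' (Subgroup.center ↥(Cfsg.SU 3 F q))).comp embSU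

theorem embP_injective {n : ℕ} (hq : q = 2 ^ n) : Function.Injective (embP (F := F) (q := q)) := by
  rw [injective_iff_map_eq_one]
  intro g hg
  have hz : embSU g ∈ Subgroup.center ↥(Cfsg.SU 3 F q) := by
    have : (QuotientGroup.mk' (Subgroup.center ↥(Cfsg.SU 3 F q))) (embSU g) = 1 := hg
    rwa [QuotientGroup.mk'_apply, QuotientGroup.eq_one_iff] at this
  have h1 : orderOf (embSU g) ∣ Nat.gcd 3 (q + 1) := by
    rw [← Cfsg.Agent.Lib.Helper5.HermCenter.card_center_SU hF.out 3 (by norm_num)]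
    have := orderOf_dvd_natCard (⟨embSU g, hz⟩ : Subgroup.center ↥(Cfsg.SU 3 F q))
    rwa [Subgroup.orderOf_mk] at this
  have h2 : orderOf (embSU g) ∣ 2 ^ (3 * n) := by
    rw [orderOf_injective embSU embSU_injective g]
    have := orderOf_dvd_natCard g
    have hq3 : q ^ 3 = 2 ^ (3 * n) := by rw [hq, ← pow_mul, mul_comm]
    rw [card_M, hq3] at this
    exact this
  have h3 : orderOf (embSU g) ∣ 3 := dvd_trans h1 (Nat.gcd_dvd_left 3 (q + 1))
  have h4 : orderOf (embSU g) ∣ Nat.gcd 3 (2 ^ (3 * n)) := Nat.dvd_gcd h3 h2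
  have h5 : Nat.gcd 3 (2 ^ (3 * n)) = 1 :=
    Nat.Coprime.pow_right _ (by norm_num)
  rw [h5, Nat.dvd_one, orderOf_eq_one_iff] at h4
  exact embSU_injective (h4.trans (map_one embSU).symm)

theorem exists_equiv {n : ℕ} (hn : 1 ≤ n) (hq : q = 2 ^ n) (S : Sylow 2 (Cfsg.PSU 3 F q)) :
    Nonempty (↥(S : Subgroup (Cfsg.PSU 3 F q)) ≃* M F q) := by
  have hinj := embP_injective (F := F) hq
  have hcard : Nat.card (embP (F := F) (q := q)).range = 2 ^ (3 * n) := by
    rw [← Nat.card_congr (MonoidHom.ofInjective hinj).toEquiv, card_M, hq, ← pow_mul, mul_comm]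
  have hp : IsPGroup 2 (embP (F := F) (q := q)).range := IsPGroup.of_card hcard
  have hidx : ¬ 2 ∣ (embP (F := F) (q := q)).range.index := by
    intro hdvd
    have h1 := Subgroup.card_mul_index (embP (F := F) (q := q)).range
    have h2 := card_PSU_mul (F := F) (q := q)
    have hq3 : q ^ 3 = 2 ^ (3 * n) := by rw [hq, ← pow_mul, mul_comm]
    have hcard' : Nat.card (embP (F := F) (q := q)).range = q ^ 3 := by rw [hcard, hq3]
    rw [← h1, hcard'] at h2
    have hq0 : 0 < q ^ 3 := by rw [hq3]; positivity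
    have h3 : Nat.gcd 3 (q + 1) * (embP (F := F) (q := q)).range.index =
        (q ^ 2 - 1) * (q ^ 3 + 1) := by
      have : q ^ 3 * (Nat.gcd 3 (q + 1) * (embP (F := F) (q := q)).range.index) =
          q ^ 3 * ((q ^ 2 - 1) * (q ^ 3 + 1)) := by
        rw [← h2]; ring
      exact Nat.eq_of_mul_eq_mul_left hq0 this
    have h4 : 2 ∣ (q ^ 2 - 1) * (q ^ 3 + 1) := by
      rw [← h3]; exact Dvd.dvd.mul_left hdvd _
    have hqe : 2 ∣ q := by rw [hq]; exact dvd_pow_self 2 (by omega)
    have hq1 : 1 ≤ q := by rw [hq]; exact Nat.one_le_two_pow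
    have h5 : ¬ 2 ∣ (q ^ 2 - 1) := by
      obtain ⟨c, hc⟩ := hqe
      have hc1 : 1 ≤ c := by omega
      have : q ^ 2 - 1 = 2 * (2 * c * c - 1) + 1 := by
        rw [hc]
        have : 1 ≤ 2 * c * c := by nlinarith
        have e : (2 * c) ^ 2 = 2 * (2 * c * c) := by ring
        rw [e]; omega
      omega
    have h6 : ¬ 2 ∣ (q ^ 3 + 1) := by
      obtain ⟨c, hc⟩ := hqe
      have : q ^ 3 + 1 = 2 * (4 * c * c * c) + 1 := by rw [hc]; ring
      omega
    rcases (Nat.Prime.dvd_mul Nat.prime_two).mp h4 with h | h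
    · exact h5 h
    · exact h6 h
  have hfin : Finite (Cfsg.PSU 3 F q) := by
    apply Nat.finite_of_card_ne_zero
    intro h0
    have h2 := card_PSU_mul (F := F) (q := q)
    rw [h0, mul_zero] at h2
    have hq1 : 2 ≤ q := two_le_q hF.out
    have : 0 < q ^ 3 * ((q ^ 2 - 1) * (q ^ 3 + 1)) := by
      apply Nat.mul_pos (by positivity)
      apply Nat.mul_pos _ (by positivity)
      have : 4 ≤ q ^ 2 := by nlinarith
      omega
    omega
  have e₁ : ↥(S : Subgroup (Cfsg.PSU 3 F q)) ≃* ↥((hp.toSylow hidx : Sylow 2 (Cfsg.PSU 3 F q)) :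
      Subgroup (Cfsg.PSU 3 F q)) := Sylow.equiv S (hp.toSylow hidx)
  exact ⟨e₁.trans (MonoidHom.ofInjective hinj).symm⟩

end sylow

end Cfsg.Agent.Lib.Helper5.SU3Sylow
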