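import Mathlib
import Cfsg.Prelude

set_option autoImplicit false
set_option linter.unusedSectionVars false
set_option linter.unusedVariables false
open Cfsg

/-! Basic facts about the Kronecker subgroup and the stabiliser of a tensor decomposition. -/

namespace Cfsg.Agent.Lib.Helper5.TensorSub

open Matrix Kronecker

variable {F : Type*} [Field F] {n₁ n₂ : ℕ}

/-- Kronecker product of invertible matrices -/
def kron (a : Matrix.GeneralLinearGroup (Fin n₁) F) (b : Matrix.GeneralLinearGroup (Fin n₂) F) :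
    Matrix.GeneralLinearGroup (Fin n₁ × Fin n₂) F :=
  ⟨(a : Matrix (Fin n₁) (Fin n₁) F) ⊗ₖ (b : Matrix (Fin n₂) (Fin n₂) F),
    ((a⁻¹ : Matrix.GeneralLinearGroup (Fin n₁) F) : Matrix (Fin n₁) (Fin n₁) F) ⊗ₖ
      ((b⁻¹ : Matrix.GeneralLinearGroup (Fin n₂) F) : Matrix (Fin n₂) (Fin n₂) F),
    by rw [← Matrix.mul_kronecker_mul, ← Units.val_mul, ← Units.val_mul, mul_inv_cancel,
      mul_inv_cancel, Units.val_one, Units.val_one, Matrix.one_kronecker_one],
    by rw [← Matrix.mul_kronecker_mul, ← Units.val_mul, ← Units.val_mul, inv_mul_cancel,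
      inv_mul_cancel, Units.val_one, Units.val_one, Matrix.one_kronecker_one]⟩

@[simp] theorem coe_kron (a : Matrix.GeneralLinearGroup (Fin n₁) F)
    (b : Matrix.GeneralLinearGroup (Fin n₂) F) :
    ((kron a b : Matrix.GeneralLinearGroup (Fin n₁ × Fin n₂) F) :
      Matrix (Fin n₁ × Fin n₂) (Fin n₁ × Fin n₂) F) =
      (a : Matrix (Fin n₁) (Fin n₁) F) ⊗ₖ (b : Matrix (Fin n₂) (Fin n₂) F) := rfl

theorem kron_mul (a c : Matrix.GeneralLinearGroup (Fin n₁) F)
    (b d : Matrix.GeneralLinearGroup (Fin n₂) F) :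
    kron (a * c) (b * d) = kron a b * kron c d := by
  apply Units.ext
  rw [Units.val_mul, coe_kron, coe_kron, coe_kron, Units.val_mul, Units.val_mul,
    Matrix.mul_kronecker_mul]

theorem kron_one : kron (1 : Matrix.GeneralLinearGroup (Fin n₁) F)
    (1 : Matrix.GeneralLinearGroup (Fin n₂) F) = 1 := by
  apply Units.ext
  rw [coe_kron, Units.val_one, Units.val_one, Units.val_one, Matrix.one_kronecker_one]

theorem kron_inv (a : Matrix.GeneralLinearGroup (Fin n₁) F)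
    (b : Matrix.GeneralLinearGroup (Fin n₂) F) : (kron a b)⁻¹ = kron a⁻¹ b⁻¹ := by
  apply inv_eq_of_mul_eq_one_right
  rw [← kron_mul, mul_inv_cancel, mul_inv_cancel, kron_one]

theorem mem_kronecker (g : Matrix.GeneralLinearGroup (Fin n₁ × Fin n₂) F) :
    g ∈ Cfsg.Geo.kroneckerSubgroup n₁ n₂ F ↔ ∃ a b, g = kron a b := by
  constructor
  · rintro ⟨a, b, h⟩
    exact ⟨a, b, Units.ext h⟩
  · rintro ⟨a, b, rfl⟩
    exact ⟨a, b, rfl⟩

variable {ι : Type} [Fintype ι] [DecidableEq ι]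

/-- the isomorphism transporting the Kronecker subgroup to the tensor stabiliser -/
noncomputable def Phi (e : ι ≃ Fin n₁ × Fin n₂) (P : Matrix.GeneralLinearGroup ι F) :
    Matrix.GeneralLinearGroup (Fin n₁ × Fin n₂) F ≃* Matrix.GeneralLinearGroup ι F :=
  (Cfsg.Geo.glReindex e.symm).trans (MulAut.conj P)

theorem tensor_eq (e : ι ≃ Fin n₁ × Fin n₂) (P : Matrix.GeneralLinearGroup ι F) :
    Cfsg.Geo.tensorProductSubgroup n₁ n₂ e P =
      (Cfsg.Geo.kroneckerSubgroup n₁ n₂ F).map (Phi e P).toMonoidHom := by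
  unfold Cfsg.Geo.tensorProductSubgroup
  rw [Subgroup.map_map]
  rfl

theorem mem_tensor (e : ι ≃ Fin n₁ × Fin n₂) (P : Matrix.GeneralLinearGroup ι F)
    (g : Matrix.GeneralLinearGroup ι F) :
    g ∈ Cfsg.Geo.tensorProductSubgroup n₁ n₂ e P ↔ ∃ a b, g = Phi e P (kron a b) := by
  rw [tensor_eq, Subgroup.mem_map]
  constructor
  · rintro ⟨x, hx, rfl⟩
    obtain ⟨a, b, rfl⟩ := (mem_kronecker x).mp hx
    exact ⟨a, b, rfl⟩
  · rintro ⟨a, b, rfl⟩
    exact ⟨kron a b, (mem_kronecker _).mpr ⟨a, b, rfl⟩, rfl⟩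

theorem coe_Phi (e : ι ≃ Fin n₁ × Fin n₂) (P : Matrix.GeneralLinearGroup ι F)
    (x : Matrix.GeneralLinearGroup (Fin n₁ × Fin n₂) F) :
    ((Phi e P x : Matrix.GeneralLinearGroup ι F) : Matrix ι ι F) =
      (P : Matrix ι ι F) * (x : Matrix (Fin n₁ × Fin n₂) (Fin n₁ × Fin n₂) F).submatrix e e *
        ((P⁻¹ : Matrix.GeneralLinearGroup ι F) : Matrix ι ι F) := rfl

/-- the action of a transported element on transported vectors -/
theorem Phi_mulVec (e : ι ≃ Fin n₁ × Fin n₂) (P : Matrix.GeneralLinearGroup ι F)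
    (x : Matrix.GeneralLinearGroup (Fin n₁ × Fin n₂) F) (v : Fin n₁ × Fin n₂ → F) :
    ((Phi e P x : Matrix.GeneralLinearGroup ι F) : Matrix ι ι F) *ᵥ
      ((P : Matrix ι ι F) *ᵥ (v ∘ e)) =
      (P : Matrix ι ι F) *ᵥ (((x : Matrix (Fin n₁ × Fin n₂) (Fin n₁ × Fin n₂) F) *ᵥ v) ∘ e) := by
  rw [coe_Phi, Matrix.mulVec_mulVec, Matrix.mul_assoc, Matrix.mul_assoc, ← Units.val_mul,
    inv_mul_cancel, Units.val_one, Matrix.mul_one, ← Matrix.mulVec_mulVec]
  congr 1
  rw [Matrix.submatrix_mulVec_equiv]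
  congr 2
  ext i
  simp

end Cfsg.Agent.Lib.Helper5.TensorSub
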