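import Mathlib
import Cfsg.Prelude
import Cfsg.Agent.Lib.Helper5.TensorSub

set_option autoImplicit false
set_option linter.unusedSectionVars false
set_option linter.unusedVariables false
open Cfsg

/-! Forms on tensor decompositions: pure tensors, the action of Kronecker products and the
similitude property of the factors of a Kronecker product preserving the form. -/

namespace Cfsg.Agent.Lib.Helper5.TensorFormSub

open Matrix Kronecker Cfsg.Agent.Lib.Helper5.TensorSub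

variable {F : Type*} [Field F]

section bilin
variable {κ : Type} [Fintype κ] [DecidableEq κ] {f : (κ → F) → (κ → F) → F}

theorem zero_left (hf : Cfsg.Geo.IsBilinearForm f) (y : κ → F) : f 0 y = 0 := by
  have := hf.smul_left 0 0 y
  rwa [zero_smul, zero_mul] at this

theorem zero_right (hf : Cfsg.Geo.IsBilinearForm f) (y : κ → F) : f y 0 = 0 := by
  have := hf.smul_right 0 y 0
  rwa [zero_smul, zero_mul] at this

theorem neg_left (hf : Cfsg.Geo.IsBilinearForm f) (x y : κ → F) : f (-x) y = -f x y := by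
  have := hf.smul_left (-1) x y
  rwa [neg_one_smul, neg_one_mul] at this

theorem neg_right (hf : Cfsg.Geo.IsBilinearForm f) (x y : κ → F) : f x (-y) = -f x y := by
  have := hf.smul_right (-1) x y
  rwa [neg_one_smul, neg_one_mul] at this

theorem sub_left (hf : Cfsg.Geo.IsBilinearForm f) (x x' y : κ → F) :
    f (x - x') y = f x y - f x' y := by
  rw [sub_eq_add_neg, hf.add_left, neg_left hf, ← sub_eq_add_neg]

theorem sub_right (hf : Cfsg.Geo.IsBilinearForm f) (x y y' : κ → F) :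
    f x (y - y') = f x y - f x y' := by
  rw [sub_eq_add_neg, hf.add_right, neg_right hf, ← sub_eq_add_neg]

theorem sum_left (hf : Cfsg.Geo.IsBilinearForm f) {α : Type*} (s : Finset α) (v : α → κ → F)
    (y : κ → F) : f (∑ a ∈ s, v a) y = ∑ a ∈ s, f (v a) y := by
  classical
  induction s using Finset.induction_on with
  | empty => simp [zero_left hf]
  | insert a s ha ih => rw [Finset.sum_insert ha, Finset.sum_insert ha, hf.add_left, ih]

theorem sum_right (hf : Cfsg.Geo.IsBilinearForm f) {α : Type*} (s : Finset α) (v : α → κ → F)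
    (y : κ → F) : f y (∑ a ∈ s, v a) = ∑ a ∈ s, f y (v a) := by
  classical
  induction s using Finset.induction_on with
  | empty => simp [zero_right hf]
  | insert a s ha ih => rw [Finset.sum_insert ha, Finset.sum_insert ha, hf.add_right, ih]

/-- a bilinear form is the form of its Gram matrix -/
theorem formOfGram_gram (hf : Cfsg.Geo.IsBilinearForm f) (x y : κ → F) :
    Cfsg.Geo.formOfGram id (Cfsg.Geo.gramMatrix f) x y = f x y := by
  conv_rhs => rw [pi_eq_sum_univ' x, pi_eq_sum_univ' y]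
  rw [sum_left hf]
  unfold Cfsg.Geo.formOfGram Cfsg.Geo.gramMatrix
  refine Finset.sum_congr rfl fun a _ => ?_
  rw [sum_right hf]
  refine Finset.sum_congr rfl fun b _ => ?_
  rw [hf.smul_left, hf.smul_right, id]
  ring

end bilin

section tensor
variable {n₁ n₂ : ℕ}

/-- pure tensors in coordinates -/
def pt (x₁ : Fin n₁ → F) (x₂ : Fin n₂ → F) : Fin n₁ × Fin n₂ → F := fun p => x₁ p.1 * x₂ p.2

theorem pt_apply (x₁ : Fin n₁ → F) (x₂ : Fin n₂ → F) (i : Fin n₁) (j : Fin n₂) :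
    pt x₁ x₂ (i, j) = x₁ i * x₂ j := rfl

theorem pt_add_left (x x' : Fin n₁ → F) (y : Fin n₂ → F) : pt (x + x') y = pt x y + pt x' y := by
  ext p; simp only [pt, Pi.add_apply]; ring

theorem pt_add_right (x : Fin n₁ → F) (y y' : Fin n₂ → F) : pt x (y + y') = pt x y + pt x y' := by
  ext p; simp only [pt, Pi.add_apply]; ring

theorem pt_smul_left (c : F) (x : Fin n₁ → F) (y : Fin n₂ → F) : pt (c • x) y = c • pt x y := by
  ext p; simp only [pt, Pi.smul_apply, smul_eq_mul]; ring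

theorem pt_smul_right (c : F) (x : Fin n₁ → F) (y : Fin n₂ → F) : pt x (c • y) = c • pt x y := by
  ext p; simp only [pt, Pi.smul_apply, smul_eq_mul]; ring

theorem pt_neg_left (x : Fin n₁ → F) (y : Fin n₂ → F) : pt (-x) y = -pt x y := by
  ext p; simp only [pt, Pi.neg_apply]; ring

theorem pt_neg_right (x : Fin n₁ → F) (y : Fin n₂ → F) : pt x (-y) = -pt x y := by
  ext p; simp only [pt, Pi.neg_apply]; ring

theorem pt_zero_right (x : Fin n₁ → F) : pt x (0 : Fin n₂ → F) = 0 := by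
  ext p; simp [pt]

theorem pt_zero_left (y : Fin n₂ → F) : pt (0 : Fin n₁ → F) y = 0 := by
  ext p; simp [pt]

theorem formOfGram_kron_pt (G₁ : Matrix (Fin n₁) (Fin n₁) F) (G₂ : Matrix (Fin n₂) (Fin n₂) F)
    (x₁ y₁ : Fin n₁ → F) (x₂ y₂ : Fin n₂ → F) :
    Cfsg.Geo.formOfGram id (G₁ ⊗ₖ G₂) (pt x₁ x₂) (pt y₁ y₂) =
      Cfsg.Geo.formOfGram id G₁ x₁ y₁ * Cfsg.Geo.formOfGram id G₂ x₂ y₂ := by
  unfold Cfsg.Geo.formOfGram
  rw [Finset.sum_mul_sum, Fintype.sum_prod_type]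
  refine Finset.sum_congr rfl fun a₁ _ => ?_
  refine Finset.sum_congr rfl fun a₂ _ => ?_
  rw [Finset.sum_mul_sum, Fintype.sum_prod_type]
  refine Finset.sum_congr rfl fun b₁ _ => ?_
  refine Finset.sum_congr rfl fun b₂ _ => ?_
  simp only [pt, id, Matrix.kroneckerMap_apply]
  ring

theorem kron_mulVec_pt (A : Matrix (Fin n₁) (Fin n₁) F) (B : Matrix (Fin n₂) (Fin n₂) F)
    (x₁ : Fin n₁ → F) (x₂ : Fin n₂ → F) :
    (A ⊗ₖ B) *ᵥ pt x₁ x₂ = pt (A *ᵥ x₁) (B *ᵥ x₂) := by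
  ext ⟨i, j⟩
  simp only [Matrix.mulVec, dotProduct, pt, Matrix.kroneckerMap_apply, Fintype.sum_prod_type,
    Finset.sum_mul_sum]
  refine Finset.sum_congr rfl fun a _ => ?_
  refine Finset.sum_congr rfl fun b _ => ?_
  ring

variable {ι : Type} [Fintype ι] [DecidableEq ι]

/-- the embedding of coordinate vectors -/
def emb (e : ι ≃ Fin n₁ × Fin n₂) (P : Matrix.GeneralLinearGroup ι F)
    (x : Fin n₁ × Fin n₂ → F) : ι → F := (P : Matrix ι ι F) *ᵥ (x ∘ e)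

variable (e : ι ≃ Fin n₁ × Fin n₂) (P : Matrix.GeneralLinearGroup ι F)

theorem emb_add (x y : Fin n₁ × Fin n₂ → F) : emb e P (x + y) = emb e P x + emb e P y := by
  unfold emb
  rw [← Matrix.mulVec_add]
  rfl

theorem emb_smul (c : F) (x : Fin n₁ × Fin n₂ → F) : emb e P (c • x) = c • emb e P x := by
  unfold emb
  rw [← Matrix.mulVec_smul]
  rfl

theorem emb_neg (x : Fin n₁ × Fin n₂ → F) : emb e P (-x) = -emb e P x := by
  unfold emb
  rw [← Matrix.mulVec_neg]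
  rfl

theorem emb_sub (x y : Fin n₁ × Fin n₂ → F) : emb e P (x - y) = emb e P x - emb e P y := by
  rw [sub_eq_add_neg, emb_add, emb_neg, ← sub_eq_add_neg]

theorem emb_zero : emb e P (0 : Fin n₁ × Fin n₂ → F) = 0 := by
  unfold emb
  have : ((0 : Fin n₁ × Fin n₂ → F) ∘ e) = 0 := rfl
  rw [this, Matrix.mulVec_zero]

theorem emb_injective : Function.Injective (emb (F := F) e P) := by
  intro x y h
  unfold emb at h
  have h1 := congrArg (fun v => ((P⁻¹ : Matrix.GeneralLinearGroup ι F) : Matrix ι ι F) *ᵥ v) h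
  simp only [Matrix.mulVec_mulVec, ← Units.val_mul, inv_mul_cancel, Units.val_one,
    Matrix.one_mulVec] at h1
  ext p
  have := congrFun h1 (e.symm p)
  simpa using this

theorem emb_surjective : Function.Surjective (emb (F := F) e P) := by
  intro v
  refine ⟨(((P⁻¹ : Matrix.GeneralLinearGroup ι F) : Matrix ι ι F) *ᵥ v) ∘ e.symm, ?_⟩
  unfold emb
  have : ((((P⁻¹ : Matrix.GeneralLinearGroup ι F) : Matrix ι ι F) *ᵥ v) ∘ e.symm) ∘ e =
      ((P⁻¹ : Matrix.GeneralLinearGroup ι F) : Matrix ι ι F) *ᵥ v := by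
    ext i; simp
  rw [this, Matrix.mulVec_mulVec, ← Units.val_mul, mul_inv_cancel, Units.val_one,
    Matrix.one_mulVec]

theorem emb_eq_zero {x : Fin n₁ × Fin n₂ → F} (h : emb e P x = 0) : x = 0 :=
  emb_injective e P (h.trans (emb_zero e P).symm)

/-- the action of transported elements -/
theorem Phi_emb (x : Matrix.GeneralLinearGroup (Fin n₁ × Fin n₂) F) (v : Fin n₁ × Fin n₂ → F) :
    ((Phi e P x : Matrix.GeneralLinearGroup ι F) : Matrix ι ι F) *ᵥ emb e P v =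
      emb e P ((x : Matrix (Fin n₁ × Fin n₂) (Fin n₁ × Fin n₂) F) *ᵥ v) :=
  Phi_mulVec e P x v

theorem Phi_kron_emb_pt (a : Matrix.GeneralLinearGroup (Fin n₁) F)
    (b : Matrix.GeneralLinearGroup (Fin n₂) F) (x₁ : Fin n₁ → F) (x₂ : Fin n₂ → F) :
    ((Phi e P (kron a b) : Matrix.GeneralLinearGroup ι F) : Matrix ι ι F) *ᵥ
      emb e P (pt x₁ x₂) =
      emb e P (pt ((a : Matrix (Fin n₁) (Fin n₁) F) *ᵥ x₁)
        ((b : Matrix (Fin n₂) (Fin n₂) F) *ᵥ x₂)) := by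
  rw [Phi_emb, coe_kron, kron_mulVec_pt]

variable {f : (ι → F) → (ι → F) → F} {f₁ : (Fin n₁ → F) → (Fin n₁ → F) → F}
  {f₂ : (Fin n₂ → F) → (Fin n₂ → F) → F}

/-- the tensor structure on pure tensors -/
theorem form_pt (hf₁ : Cfsg.Geo.IsBilinearForm f₁) (hf₂ : Cfsg.Geo.IsBilinearForm f₂) {c : F}
    (hc : ∀ x y : Fin n₁ × Fin n₂ → F,
      f ((P : Matrix ι ι F) *ᵥ (x ∘ e)) ((P : Matrix ι ι F) *ᵥ (y ∘ e)) =
        c * Cfsg.Geo.formOfGram id (Cfsg.Geo.gramMatrix f₁ ⊗ₖ Cfsg.Geo.gramMatrix f₂) x y)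
    (x₁ y₁ : Fin n₁ → F) (x₂ y₂ : Fin n₂ → F) :
    f (emb e P (pt x₁ x₂)) (emb e P (pt y₁ y₂)) = c * (f₁ x₁ y₁ * f₂ x₂ y₂) := by
  unfold emb
  rw [hc, formOfGram_kron_pt, formOfGram_gram hf₁, formOfGram_gram hf₂]

/-- the factors of a Kronecker product preserving the form are similitudes -/
theorem exists_mult (hf₁ : Cfsg.Geo.IsBilinearForm f₁) (hf₂ : Cfsg.Geo.IsBilinearForm f₂)
    (hne₁ : ∃ x y, f₁ x y ≠ 0) (hne₂ : ∃ x y, f₂ x y ≠ 0)
    (hT : Cfsg.Geo.IsTensorFormStructure id f f₁ f₂ e P)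
    (a : Matrix.GeneralLinearGroup (Fin n₁) F) (b : Matrix.GeneralLinearGroup (Fin n₂) F)
    (hg : ∀ u v : ι → F,
      f (((Phi e P (kron a b) : Matrix.GeneralLinearGroup ι F) : Matrix ι ι F) *ᵥ u)
        (((Phi e P (kron a b) : Matrix.GeneralLinearGroup ι F) : Matrix ι ι F) *ᵥ v) = f u v) :
    ∃ l : F, l ≠ 0 ∧
      (∀ x y, f₁ ((a : Matrix (Fin n₁) (Fin n₁) F) *ᵥ x) ((a : Matrix (Fin n₁) (Fin n₁) F) *ᵥ y) =
        l * f₁ x y) ∧
      (∀ x y, f₂ ((b : Matrix (Fin n₂) (Fin n₂) F) *ᵥ x) ((b : Matrix (Fin n₂) (Fin n₂) F) *ᵥ y) =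
        l⁻¹ * f₂ x y) := by
  obtain ⟨c, hc0, hc⟩ := hT
  have key : ∀ (x₁ y₁ : Fin n₁ → F) (x₂ y₂ : Fin n₂ → F),
      f₁ ((a : Matrix (Fin n₁) (Fin n₁) F) *ᵥ x₁) ((a : Matrix (Fin n₁) (Fin n₁) F) *ᵥ y₁) *
        f₂ ((b : Matrix (Fin n₂) (Fin n₂) F) *ᵥ x₂) ((b : Matrix (Fin n₂) (Fin n₂) F) *ᵥ y₂) =
      f₁ x₁ y₁ * f₂ x₂ y₂ := by
    intro x₁ y₁ x₂ y₂
    have h1 := hg (emb e P (pt x₁ x₂)) (emb e P (pt y₁ y₂))
    rw [Phi_kron_emb_pt, Phi_kron_emb_pt, form_pt e P hf₁ hf₂ hc, form_pt e P hf₁ hf₂ hc] at h1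
    exact mul_left_cancel₀ hc0 h1
  obtain ⟨x₂, y₂, hs⟩ := hne₂
  obtain ⟨x₁, y₁, hs₁⟩ := hne₁
  have hr : f₂ ((b : Matrix (Fin n₂) (Fin n₂) F) *ᵥ x₂)
      ((b : Matrix (Fin n₂) (Fin n₂) F) *ᵥ y₂) ≠ 0 := by
    intro h0
    have := key x₁ y₁ x₂ y₂
    rw [h0, mul_zero] at this
    exact mul_ne_zero hs₁ hs this.symm
  refine ⟨f₂ x₂ y₂ / f₂ ((b : Matrix (Fin n₂) (Fin n₂) F) *ᵥ x₂)
      ((b : Matrix (Fin n₂) (Fin n₂) F) *ᵥ y₂), div_ne_zero hs hr, ?_, ?_⟩
  · intro x y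
    have := key x y x₂ y₂
    field_simp
    linear_combination this
  · intro x y
    have h1 := key x₁ y₁ x y
    have h2 := key x₁ y₁ x₂ y₂
    rw [inv_div]
    field_simp
    have h3 : f₁ x₁ y₁ * (f₂ ((b : Matrix (Fin n₂) (Fin n₂) F) *ᵥ x)
        ((b : Matrix (Fin n₂) (Fin n₂) F) *ᵥ y) * f₂ x₂ y₂) =
        f₁ x₁ y₁ * (f₂ x y * f₂ ((b : Matrix (Fin n₂) (Fin n₂) F) *ᵥ x₂)
          ((b : Matrix (Fin n₂) (Fin n₂) F) *ᵥ y₂)) := by
      have h4 : f₁ ((a : Matrix (Fin n₁) (Fin n₁) F) *ᵥ x₁)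
          ((a : Matrix (Fin n₁) (Fin n₁) F) *ᵥ y₁) ≠ 0 := by
        intro h0
        rw [h0, zero_mul] at h2
        exact mul_ne_zero hs₁ hs h2.symm
      apply mul_left_cancel₀ h4
      linear_combination (f₁ x₁ y₁ * f₂ x₂ y₂) * h1 - (f₁ x₁ y₁ * f₂ x y) * h2
    have h5 := mul_left_cancel₀ hs₁ h3
    linear_combination h5

end tensor

end Cfsg.Agent.Lib.Helper5.TensorFormSub
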