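import Mathlib
import Cfsg.Prelude
import Cfsg.Agent.Lib.Helper5.TensorSub

set_option autoImplicit false
set_option linter.unusedSectionVars false
set_option linter.unusedVariables false
open Cfsg

/-! Swapping the two factors of a tensor decomposition. -/

namespace Cfsg.Agent.Lib.Helper5.TensorSwap

open Matrix Kronecker Cfsg.Agent.Lib.Helper5.TensorSub

variable {F : Type*} [Field F] {n₁ n₂ : ℕ} {ι : Type} [Fintype ι] [DecidableEq ι]
  (e : ι ≃ Fin n₁ × Fin n₂) (P : Matrix.GeneralLinearGroup ι F)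

theorem Phi_kron_swap (a : Matrix.GeneralLinearGroup (Fin n₁) F)
    (b : Matrix.GeneralLinearGroup (Fin n₂) F) :
    Phi e P (kron a b) = Phi (e.trans (Equiv.prodComm _ _)) P (kron b a) := by
  apply Units.ext
  rw [coe_Phi, coe_Phi]
  congr 2
  ext i j
  simp only [Matrix.submatrix_apply, coe_kron, Equiv.trans_apply, Equiv.prodComm_apply,
    Matrix.kroneckerMap_apply, Prod.fst_swap, Prod.snd_swap]
  ring

theorem tensor_swap :
    Cfsg.Geo.tensorProductSubgroup n₁ n₂ e P =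
      Cfsg.Geo.tensorProductSubgroup n₂ n₁ (e.trans (Equiv.prodComm _ _)) P := by
  ext g
  rw [mem_tensor, mem_tensor]
  constructor
  · rintro ⟨a, b, rfl⟩
    exact ⟨b, a, Phi_kron_swap e P a b⟩
  · rintro ⟨b, a, rfl⟩
    exact ⟨a, b, (Phi_kron_swap e P a b).symm⟩

theorem form_swap {f : (ι → F) → (ι → F) → F} {f₁ : (Fin n₁ → F) → (Fin n₁ → F) → F}
    {f₂ : (Fin n₂ → F) → (Fin n₂ → F) → F}
    (hT : Cfsg.Geo.IsTensorFormStructure id f f₁ f₂ e P) :
    Cfsg.Geo.IsTensorFormStructure id f f₂ f₁ (e.trans (Equiv.prodComm _ _)) P := by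
  obtain ⟨c, hc0, hc⟩ := hT
  refine ⟨c, hc0, fun x y => ?_⟩
  have hx : x ∘ ⇑(e.trans (Equiv.prodComm (Fin n₁) (Fin n₂))) = (x ∘ Prod.swap) ∘ e := by
    ext i; simp
  have hy : y ∘ ⇑(e.trans (Equiv.prodComm (Fin n₁) (Fin n₂))) = (y ∘ Prod.swap) ∘ e := by
    ext i; simp
  rw [hx, hy, hc]
  congr 1
  unfold Cfsg.Geo.formOfGram
  simp only [Fintype.sum_prod_type, Function.comp_apply, Prod.swap_prod_mk,
    Matrix.kroneckerMap_apply, id]
  rw [Finset.sum_comm]
  refine Finset.sum_congr rfl fun b _ => ?_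
  refine Finset.sum_congr rfl fun a _ => ?_
  rw [Finset.sum_comm]
  refine Finset.sum_congr rfl fun b' _ => ?_
  refine Finset.sum_congr rfl fun a' _ => ?_
  ring

end Cfsg.Agent.Lib.Helper5.TensorSwap
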