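import Mathlib
import Cfsg.Prelude
import Cfsg.Agent.Lib.Helper5.Herm
import Cfsg.Agent.Lib.Helper5.TensorFormSub

set_option autoImplicit false
set_option linter.unusedSectionVars false
set_option linter.unusedVariables false
open Cfsg

/-! Abstract unitary forms (`IsUnitaryFormPow`), their tensor products, and the geometry of
unitary forms over the field with four elements. -/

namespace Cfsg.Agent.Lib.Helper5.UnitaryFormTwo

open Matrix Kronecker Cfsg.Agent.Lib.Helper5.Herm Cfsg.Agent.Lib.Helper5.TensorSub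
  Cfsg.Agent.Lib.Helper5.TensorFormSub

variable {F : Type*} [Field F] [Fintype F]

section general
variable {q : ℕ} (hF : Fintype.card F = q ^ 2)

section form
variable {κ : Type} [Fintype κ] [DecidableEq κ] {f : (κ → F) → (κ → F) → F}
  (hf : Cfsg.Geo.IsUnitaryFormPow q f)

include hF hf in
theorem u_add_right (v x y : κ → F) : f v (x + y) = f v x + f v y := by
  rw [hf.herm, hf.add_left, pow_q_add hF, ← hf.herm, ← hf.herm]

include hf in
theorem u_smul_right (c : F) (v x : κ → F) : f v (c • x) = c ^ q * f v x := by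
  rw [hf.herm, hf.smul_left, mul_pow, ← hf.herm]

include hf in
theorem u_zero_left (y : κ → F) : f 0 y = 0 := by
  have := hf.smul_left 0 0 y
  rwa [zero_smul, zero_mul] at this

include hF hf in
theorem u_zero_right (y : κ → F) : f y 0 = 0 := by
  rw [hf.herm, u_zero_left hf, zero_pow (q_ne_zero hF)]

include hf in
theorem u_neg_left (x y : κ → F) : f (-x) y = -f x y := by
  have := hf.smul_left (-1) x y
  rwa [neg_one_smul, neg_one_mul] at this

include hf in
theorem u_sub_left (x x' y : κ → F) : f (x - x') y = f x y - f x' y := by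
  rw [sub_eq_add_neg, hf.add_left, u_neg_left hf, ← sub_eq_add_neg]

include hf in
theorem u_sum_left {α : Type*} (s : Finset α) (v : α → κ → F) (y : κ → F) :
    f (∑ a ∈ s, v a) y = ∑ a ∈ s, f (v a) y := by
  classical
  induction s using Finset.induction_on with
  | empty => simp [u_zero_left hf]
  | insert a s ha ih => rw [Finset.sum_insert ha, Finset.sum_insert ha, hf.add_left, ih]

include hF hf in
theorem u_sum_right {α : Type*} (s : Finset α) (v : α → κ → F) (y : κ → F) :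
    f y (∑ a ∈ s, v a) = ∑ a ∈ s, f y (v a) := by
  classical
  induction s using Finset.induction_on with
  | empty => simp [u_zero_right hF hf]
  | insert a s ha ih => rw [Finset.sum_insert ha, Finset.sum_insert ha, u_add_right hF hf, ih]

include hF hf in
/-- a unitary form is the form of its Gram matrix -/
theorem u_formOfGram (x y : κ → F) :
    Cfsg.Geo.formOfGram (fun a : F => a ^ q) (Cfsg.Geo.gramMatrix f) x y = f x y := by
  conv_rhs => rw [pi_eq_sum_univ' x, pi_eq_sum_univ' y]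
  rw [u_sum_left hf]
  unfold Cfsg.Geo.formOfGram Cfsg.Geo.gramMatrix
  refine Finset.sum_congr rfl fun a _ => ?_
  rw [u_sum_right hF hf]
  refine Finset.sum_congr rfl fun b _ => ?_
  rw [hf.smul_left, u_smul_right hf]
  ring

end form

section tensor
variable {n₁ n₂ : ℕ}

theorem formOfGram_kron_pt_pow (G₁ : Matrix (Fin n₁) (Fin n₁) F)
    (G₂ : Matrix (Fin n₂) (Fin n₂) F) (x₁ y₁ : Fin n₁ → F) (x₂ y₂ : Fin n₂ → F) :
    Cfsg.Geo.formOfGram (fun a : F => a ^ q) (G₁ ⊗ₖ G₂) (pt x₁ x₂) (pt y₁ y₂) =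
      Cfsg.Geo.formOfGram (fun a : F => a ^ q) G₁ x₁ y₁ *
        Cfsg.Geo.formOfGram (fun a : F => a ^ q) G₂ x₂ y₂ := by
  unfold Cfsg.Geo.formOfGram
  rw [Finset.sum_mul_sum, Fintype.sum_prod_type]
  refine Finset.sum_congr rfl fun a₁ _ => ?_
  refine Finset.sum_congr rfl fun a₂ _ => ?_
  rw [Finset.sum_mul_sum, Fintype.sum_prod_type]
  refine Finset.sum_congr rfl fun b₁ _ => ?_
  refine Finset.sum_congr rfl fun b₂ _ => ?_
  simp only [pt, Matrix.kroneckerMap_apply, mul_pow]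
  ring

variable {ι : Type} [Fintype ι] [DecidableEq ι] (e : ι ≃ Fin n₁ × Fin n₂)
  (P : Matrix.GeneralLinearGroup ι F) {f : (ι → F) → (ι → F) → F}
  {f₁ : (Fin n₁ → F) → (Fin n₁ → F) → F} {f₂ : (Fin n₂ → F) → (Fin n₂ → F) → F}

include hF in
theorem form_pt_pow (hf₁ : Cfsg.Geo.IsUnitaryFormPow q f₁) (hf₂ : Cfsg.Geo.IsUnitaryFormPow q f₂)
    {c : F}
    (hc : ∀ x y : Fin n₁ × Fin n₂ → F,
      f ((P : Matrix ι ι F) *ᵥ (x ∘ e)) ((P : Matrix ι ι F) *ᵥ (y ∘ e)) =
        c * Cfsg.Geo.formOfGram (fun a : F => a ^ q)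
          (Cfsg.Geo.gramMatrix f₁ ⊗ₖ Cfsg.Geo.gramMatrix f₂) x y)
    (x₁ y₁ : Fin n₁ → F) (x₂ y₂ : Fin n₂ → F) :
    f (emb e P (pt x₁ x₂)) (emb e P (pt y₁ y₂)) = c * (f₁ x₁ y₁ * f₂ x₂ y₂) := by
  unfold emb
  rw [hc, formOfGram_kron_pt_pow, u_formOfGram hF hf₁, u_formOfGram hF hf₂]

include hF in
/-- the first factor of a Kronecker product preserving the form is a similitude -/
theorem exists_mult_pow (hf₁ : Cfsg.Geo.IsUnitaryFormPow q f₁)
    (hf₂ : Cfsg.Geo.IsUnitaryFormPow q f₂)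
    (hne₁ : ∃ x y, f₁ x y ≠ 0) (hne₂ : ∃ x y, f₂ x y ≠ 0)
    (hT : Cfsg.Geo.IsTensorFormStructure (fun a : F => a ^ q) f f₁ f₂ e P)
    (a : Matrix.GeneralLinearGroup (Fin n₁) F) (b : Matrix.GeneralLinearGroup (Fin n₂) F)
    (hg : ∀ u v : ι → F,
      f (((Phi e P (kron a b) : Matrix.GeneralLinearGroup ι F) : Matrix ι ι F) *ᵥ u)
        (((Phi e P (kron a b) : Matrix.GeneralLinearGroup ι F) : Matrix ι ι F) *ᵥ v) = f u v) :
    ∃ l : F, l ≠ 0 ∧
      (∀ x y, f₁ ((a : Matrix (Fin n₁) (Fin n₁) F) *ᵥ x) ((a : Matrix (Fin n₁) (Fin n₁) F) *ᵥ y) =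
        l * f₁ x y) := by
  obtain ⟨c, hc0, hc⟩ := hT
  have key : ∀ (x₁ y₁ : Fin n₁ → F) (x₂ y₂ : Fin n₂ → F),
      f₁ ((a : Matrix (Fin n₁) (Fin n₁) F) *ᵥ x₁) ((a : Matrix (Fin n₁) (Fin n₁) F) *ᵥ y₁) *
        f₂ ((b : Matrix (Fin n₂) (Fin n₂) F) *ᵥ x₂) ((b : Matrix (Fin n₂) (Fin n₂) F) *ᵥ y₂) =
      f₁ x₁ y₁ * f₂ x₂ y₂ := by
    intro x₁ y₁ x₂ y₂
    have h1 := hg (emb e P (pt x₁ x₂)) (emb e P (pt y₁ y₂))
    rw [Phi_kron_emb_pt, Phi_kron_emb_pt, form_pt_pow hF e P hf₁ hf₂ hc,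
      form_pt_pow hF e P hf₁ hf₂ hc] at h1
    exact mul_left_cancel₀ hc0 h1
  obtain ⟨x₂, y₂, hs⟩ := hne₂
  obtain ⟨x₁, y₁, hs₁⟩ := hne₁
  have hr : f₂ ((b : Matrix (Fin n₂) (Fin n₂) F) *ᵥ x₂)
      ((b : Matrix (Fin n₂) (Fin n₂) F) *ᵥ y₂) ≠ 0 := by
    intro h0
    have := key x₁ y₁ x₂ y₂
    rw [h0, mul_zero] at this
    exact mul_ne_zero hs₁ hs this.symm
  refine ⟨f₂ x₂ y₂ / f₂ ((b : Matrix (Fin n₂) (Fin n₂) F) *ᵥ x₂)
      ((b : Matrix (Fin n₂) (Fin n₂) F) *ᵥ y₂), div_ne_zero hs hr, ?_⟩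
  intro x y
  have := key x y x₂ y₂
  field_simp
  linear_combination this

end tensor

end general

section four
variable (hF : Fintype.card F = 2 ^ 2) {κ : Type} [Fintype κ] [DecidableEq κ]
  {f : (κ → F) → (κ → F) → F} (hf : Cfsg.Geo.IsUnitaryFormPow 2 f)

include hF in
theorem two_eq_zero : (2 : F) = 0 := by
  obtain ⟨p, j, hp, hchar, hpj⟩ := exists_char_pow hF
  have hp2 : p = 2 := by
    have hdvd : p ∣ 2 := by
      cases j with
      | zero => rw [pow_zero] at hpj; omega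
      | succ j => rw [hpj, pow_succ]; exact dvd_mul_left p _
    exact (Nat.prime_dvd_prime_iff_eq hp Nat.prime_two).mp hdvd
  subst hp2
  have := CharP.cast_eq_zero F 2
  exact_mod_cast this

include hF in
theorem cube_eq_one {a : F} (ha : a ≠ 0) : a ^ 3 = 1 := by
  have h1 := FiniteField.pow_card_sub_one_eq_one a ha
  rw [hF] at h1
  exact h1

include hF in
theorem exists_ne01 : ∃ c : F, c ≠ 0 ∧ c ≠ 1 := by
  classical
  by_contra hcon
  push Not at hcon
  have h1 : ∀ x : F, x ∈ ({0, 1} : Finset F) := by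
    intro x
    by_cases hx : x = 0
    · simp [hx]
    · simp [hcon x hx]
  have h2 : Fintype.card F ≤ ({0, 1} : Finset F).card :=
    Finset.card_le_card_of_surjOn (fun x => x) (fun x _ => by simpa using h1 x) |>.trans' (by
      rw [Finset.card_univ])
  have h3 : ({0, 1} : Finset F).card ≤ 2 := Finset.card_le_two
  rw [hF] at h2
  omega

include hf in
theorem self_mem (x : κ → F) : f x x = 0 ∨ f x x = 1 := by
  have h1 := hf.herm x x
  have h2 : f x x * (f x x - 1) = 0 := by linear_combination -h1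
  rcases mul_eq_zero.mp h2 with h3 | h3
  · exact Or.inl h3
  · exact Or.inr (by linear_combination h3)

include hF hf in
theorem exists_nonisotropic (hκ : ∃ v : κ → F, v ≠ 0) : ∃ y, f y y = 1 := by
  by_contra hcon
  push Not at hcon
  have hiso : ∀ y, f y y = 0 := fun y => (self_mem hf y).resolve_right (hcon y)
  have h2 := two_eq_zero hF
  obtain ⟨v, hv⟩ := hκ
  obtain ⟨⟨x, hx⟩, -⟩ := hf.nondegenerate v hv
  have key : ∀ x' : κ → F, f x' v * f x' v = f x' v := by
    intro x'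
    have h1 := hiso (x' + v)
    rw [hf.add_left, u_add_right (by simpa using hF) hf, u_add_right (by simpa using hF) hf,
      hiso, hiso, zero_add, add_zero] at h1
    have h3 := hf.herm v x'
    rw [h3] at h1
    linear_combination h1 - (f x' v) * h2
  have hr : f x v = 1 := by
    have := key x
    have h4 : f x v * (f x v - 1) = 0 := by linear_combination this
    rcases mul_eq_zero.mp h4 with h5 | h5
    · exact absurd h5 hx
    · linear_combination h5
  obtain ⟨c, hc0, hc1⟩ := exists_ne01 hF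
  have := key (c • x)
  rw [hf.smul_left, hr, mul_one] at this
  have h4 : c * (c - 1) = 0 := by linear_combination this
  rcases mul_eq_zero.mp h4 with h5 | h5
  · exact hc0 h5
  · exact hc1 (by linear_combination h5)

include hF hf in
theorem exists_perp {y₀ : κ → F} (hy₀ : f y₀ y₀ = 1) (u : κ → F) (hu : ∀ a : F, u ≠ a • y₀) :
    u - f u y₀ • y₀ ≠ 0 ∧ f (u - f u y₀ • y₀) y₀ = 0 := by
  constructor
  · intro h
    exact hu _ (sub_eq_zero.mp h)
  · rw [u_sub_left hf, hf.smul_left, hy₀, mul_one, sub_self]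

theorem exists_not_smul {n : ℕ} (hn : 2 ≤ n) (y₀ : Fin n → F) :
    ∃ u : Fin n → F, ∀ a : F, u ≠ a • y₀ := by
  by_contra hcon
  push Not at hcon
  obtain ⟨a, ha⟩ := hcon (Pi.single (⟨0, by omega⟩ : Fin n) 1)
  obtain ⟨b, hb⟩ := hcon (Pi.single (⟨1, by omega⟩ : Fin n) 1)
  have h00 := congrFun ha ⟨0, by omega⟩
  have h01 := congrFun ha ⟨1, by omega⟩
  have h11 := congrFun hb ⟨1, by omega⟩
  simp only [Pi.single_eq_same, Pi.smul_apply, smul_eq_mul] at h00 h11
  rw [Pi.single_apply, if_neg (by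
    intro h; exact absurd (Fin.mk.inj_iff.mp h) (by decide)), Pi.smul_apply, smul_eq_mul] at h01
  have ha0 : a ≠ 0 := by
    rintro rfl
    rw [zero_mul] at h00
    exact one_ne_zero h00
  have : y₀ ⟨1, by omega⟩ = 0 := (mul_eq_zero.mp h01.symm).resolve_left ha0
  rw [this, mul_zero] at h11
  exact one_ne_zero h11

include hF in
/-- the vectors needed in the second factor -/
theorem exists_data {n : ℕ} (hn : 2 ≤ n) {f₂ : (Fin n → F) → (Fin n → F) → F}
    (hf₂ : Cfsg.Geo.IsUnitaryFormPow 2 f₂) :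
    ∃ y₀ y' yi : Fin n → F, f₂ y₀ y₀ = 1 ∧ y' ≠ 0 ∧ f₂ y' y₀ = 0 ∧ yi ≠ 0 ∧ f₂ yi yi = 0 := by
  have h2 := two_eq_zero hF
  have hF' : Fintype.card F = 2 ^ 2 := hF
  obtain ⟨y₀, hy₀⟩ := exists_nonisotropic hF hf₂ ⟨Pi.single (⟨0, by omega⟩ : Fin n) 1, by
    intro h
    have := congrFun h ⟨0, by omega⟩
    simp at this⟩
  obtain ⟨u, hu⟩ := exists_not_smul hn y₀
  obtain ⟨hy'0, hy'⟩ := exists_perp hF hf₂ hy₀ u hu
  set y' := u - f₂ u y₀ • y₀ with hy'def
  rcases self_mem hf₂ y' with h0 | h1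
  · exact ⟨y₀, y', y', hy₀, hy'0, hy', hy'0, h0⟩
  · refine ⟨y₀, y', y₀ + y', hy₀, hy'0, hy', ?_, ?_⟩
    · intro h
      have : y' = -y₀ := by rw [eq_neg_iff_add_eq_zero, add_comm]; exact h
      rw [this, u_neg_left hf₂, hy₀] at hy'
      exact one_ne_zero (neg_eq_zero.mp hy')
    · have hperp' : f₂ y₀ y' = 0 := by rw [hf₂.herm, hy', zero_pow (by norm_num)]
      rw [hf₂.add_left, u_add_right hF' hf₂, u_add_right hF' hf₂, hy₀, h1, hy', hperp']
      linear_combination h2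

/-- frame data in dimension two -/
structure IsFrame2 (f : (Fin 2 → F) → (Fin 2 → F) → F) (v : Fin 2 → (Fin 2 → F)) : Prop where
  gram : ∀ i j, f (v i) (v j) = if i = j then 1 else 0
  span : ∀ w : Fin 2 → F, ∃ x : Fin 2 → F, w = ∑ j, x j • v j

include hF in
theorem exists_isFrame2 {f₁ : (Fin 2 → F) → (Fin 2 → F) → F}
    (hf₁ : Cfsg.Geo.IsUnitaryFormPow 2 f₁) : ∃ v : Fin 2 → (Fin 2 → F), IsFrame2 f₁ v := by
  have hF' : Fintype.card F = 2 ^ 2 := hF
  obtain ⟨v₀, hv₀⟩ := exists_nonisotropic hF hf₁ ⟨Pi.single 0 1, by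
    intro h
    have := congrFun h 0
    simp at this⟩
  obtain ⟨u, hu⟩ := exists_not_smul (le_refl 2) v₀
  obtain ⟨hv₁0, hv₁⟩ := exists_perp hF hf₁ hv₀ u hu
  set v₁ := u - f₁ u v₀ • v₀ with hv₁def
  have hv₀₁ : f₁ v₀ v₁ = 0 := by rw [hf₁.herm, hv₁, zero_pow (by norm_num)]
  have hli : LinearIndependent F ![v₀, v₁] := by
    rw [LinearIndependent.pair_iff]
    intro a b hab
    have h1 := congrArg (fun z => f₁ z v₀) hab
    simp only [hf₁.add_left, hf₁.smul_left, hv₀, hv₁, u_zero_left hf₁, mul_one, mul_zero,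
      add_zero] at h1
    subst h1
    rw [zero_smul, zero_add] at hab
    exact ⟨rfl, (smul_eq_zero.mp hab).resolve_right hv₁0⟩
  have hspan := hli.span_eq_top_of_card_eq_finrank' (by
    simp)
  have hsp : ∀ w : Fin 2 → F, ∃ x y : F, w = x • v₀ + y • v₁ := by
    intro w
    have hw : w ∈ Submodule.span F (Set.range ![v₀, v₁]) := by rw [hspan]; trivial
    have hr : Set.range ![v₀, v₁] = {v₀, v₁} := by
      ext z
      simp only [Matrix.range_cons, Matrix.range_empty, Set.union_empty, Set.union_singleton,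
        Set.mem_insert_iff, Set.mem_singleton_iff]
      tauto
    rw [hr, Submodule.mem_span_pair] at hw
    obtain ⟨x, y, h⟩ := hw
    exact ⟨x, y, h.symm⟩
  have hv₁₁ : f₁ v₁ v₁ = 1 := by
    rcases self_mem hf₁ v₁ with h0 | h1
    · exfalso
      obtain ⟨-, ⟨x, hx⟩⟩ := hf₁.nondegenerate v₁ hv₁0
      apply hx
      obtain ⟨a, b, rfl⟩ := hsp x
      rw [u_add_right hF' hf₁, u_smul_right hf₁, u_smul_right hf₁, hv₁, h0, mul_zero, mul_zero,
        add_zero]
    · exact h1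
  refine ⟨![v₀, v₁], ?_, ?_⟩
  · intro i j
    fin_cases i <;> fin_cases j <;> simp <;> assumption
  · intro w
    obtain ⟨x, y, rfl⟩ := hsp w
    exact ⟨![x, y], by rw [Fin.sum_univ_two]; simp⟩

variable {f₁ : (Fin 2 → F) → (Fin 2 → F) → F} {v : Fin 2 → (Fin 2 → F)}

include hF in
/-- the non-isotropic vectors are the multiples of the frame vectors -/
theorem IsFrame2.norm_ne (h : IsFrame2 f₁ v) (hf₁ : Cfsg.Geo.IsUnitaryFormPow 2 f₁)
    (w : Fin 2 → F) (hw : f₁ w w ≠ 0) : ∃ j, ∃ a : F, a ≠ 0 ∧ w = a • v j := by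
  have hF' : Fintype.card F = 2 ^ 2 := hF
  have h2 := two_eq_zero hF
  obtain ⟨x, rfl⟩ := h.span w
  rw [Fin.sum_univ_two] at hw ⊢
  by_cases hx : x 0 = 0
  · refine ⟨1, x 1, ?_, by rw [hx, zero_smul, zero_add]⟩
    rintro h1
    apply hw
    rw [hx, h1, zero_smul, zero_smul, add_zero, u_zero_left hf₁]
  · by_cases hy : x 1 = 0
    · exact ⟨0, x 0, hx, by rw [hy, zero_smul, add_zero]⟩
    · exfalso
      apply hw
      simp only [hf₁.add_left, u_add_right hF' hf₁, hf₁.smul_left, u_smul_right hf₁, h.gram]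
      have e1 := cube_eq_one hF hx
      have e2 := cube_eq_one hF hy
      have n01 : ((0 : Fin 2) = 1) = False := by simp
      have n10 : ((1 : Fin 2) = 0) = False := by simp
      simp only [n01, n10, if_true, if_false, mul_one, mul_zero, add_zero, zero_add]
      linear_combination e1 + e2 + h2

include hF in
/-- similitudes permute the frame lines -/
theorem IsFrame2.perm (h : IsFrame2 f₁ v) (hf₁ : Cfsg.Geo.IsUnitaryFormPow 2 f₁)
    (a : Matrix (Fin 2) (Fin 2) F) (l : F) (hl : l ≠ 0)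
    (ha : ∀ x y, f₁ (a *ᵥ x) (a *ᵥ y) = l * f₁ x y) :
    ∃ σ : Equiv.Perm (Fin 2), ∀ j, ∃ μ : F, a *ᵥ v j = μ • v (σ j) := by
  have h1 : ∀ j, ∃ k, ∃ μ : F, μ ≠ 0 ∧ a *ᵥ v j = μ • v k := by
    intro j
    apply h.norm_ne hF hf₁
    rw [ha, h.gram, if_pos rfl, mul_one]
    exact hl
  choose σ μ hμ0 hσ using h1
  have hinj : Function.Injective σ := by
    intro i j hij
    by_contra hne
    have h2 := ha (v i) (v j)
    rw [h.gram, if_neg hne, mul_zero, hσ i, hσ j, hij, hf₁.smul_left, u_smul_right hf₁, h.gram,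
      if_pos rfl, mul_one] at h2
    exact mul_ne_zero (hμ0 i) (pow_ne_zero _ (hμ0 j)) h2
  exact ⟨Equiv.ofBijective σ (Finite.injective_iff_bijective.mp hinj), fun j => ⟨μ j, hσ j⟩⟩

include hF in
theorem IsFrame2.ne_zero (h : IsFrame2 f₁ v) (hf₁ : Cfsg.Geo.IsUnitaryFormPow 2 f₁) (j : Fin 2) :
    v j ≠ 0 := by
  intro h0
  have := h.gram j j
  rw [if_pos rfl, h0, u_zero_left hf₁] at this
  exact zero_ne_one this

end four

end Cfsg.Agent.Lib.Helper5.UnitaryFormTwo
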