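import Mathlib
import Cfsg.Prelude.Def_LieTwisted
import Cfsg.Agent.Lib.Helper5.ChevTwistN
import Cfsg.Agent.Lib.Helper5.ChevChk.TwistData
import Cfsg.Agent.Lib.Helper5.FrobFix

set_option autoImplicit false

/-!
The twisted group `²E₆(q)`: it consists of fixed points of `σ`, it contains all the fixed points of
`σ` in `U`, and `U ∩ ²E₆(q)` has `q ^ 36` elements.
-/

namespace Cfsg.Agent.Lib.Helper5.Tw2E6

open Cfsg Cfsg.Lie Cfsg.Agent.Lib.Helper5.ChevStruct Cfsg.Agent.Lib.Helper5.ChevSym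

theorem hE6 : chevE6 ∈ Seven := by simp [Seven]

theorem hG6 : ∀ r < twE6.D.nroots, checkGraphAt twE6.D twE6.G r = true :=
  fun r hr => chkGraph_gE6 r hr

/-- the forest of blocks -/
def edges : List (List ℕ × ℕ × ℕ) :=
  [([2, 4], 0, 4), ([3], 3, 6), ([3], 1, 5), ([2, 4], 2, 8), ([3], 4, 7), ([2, 4], 6, 12),
   ([1], 5, 9), ([0, 5], 8, 15), ([1], 7, 11), ([2, 4], 7, 10), ([0, 5], 12, 17), ([3], 12, 14),
   ([2, 4], 11, 13), ([3], 17, 19), ([3], 13, 16), ([2, 4], 19, 21), ([2, 4], 16, 18),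
   ([3], 21, 22), ([0, 5], 18, 20), ([1], 22, 23)]

/-- the orbits of the fundamental roots -/
def orbits : List (List ℕ) := [[0, 5], [1], [2, 4], [3]]

set_option maxRecDepth 100000 in
theorem forest_ok : checkForestB twE6 [0, 3, 1, 2] edges = true := by decide +kernel

theorem edges_orbits : ∀ e ∈ edges, e.1 ∈ orbits := by decide

set_option maxRecDepth 100000 in
theorem orth_ok : ∀ J ∈ orbits, checkOrth chevE6 J = true := by decide +kernel

section

variable {K : Type*} [Field K] {q : ℕ} (f : K →+* K) (hf : ∀ x, f x = x ^ q)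
  (hf2 : ∀ x, f (f x) = x)

theorem wordGL_mem (w : List (ℕ × K)) (hw : w ∈ e6Words K q) :
    wordGL chevE6 hE6 w ∈ twistedE6 K q :=
  Subgroup.subset_closure ⟨w, hw, wordGL_val chevE6 hE6 w⟩

theorem single_mem (r : ℕ) (hr : r ∈ [e6p2, e6m2, e6p4, e6m4]) (t : K) (ht : t ^ q = t) :
    xGL chevE6 hE6 r t ∈ twistedE6 K q := by
  have := wordGL_mem (q := q) [(r, t)] (Or.inl ⟨t, ht, r, hr, rfl⟩)
  simpa [wordGL] using this

theorem pair_mem (rs : ℕ × ℕ) (hrs : rs ∈ [(e6p1, e6p6), (e6m1, e6m6), (e6p3, e6p5), (e6m3, e6m5)])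
    (t : K) : xGL chevE6 hE6 rs.1 t * xGL chevE6 hE6 rs.2 (t ^ q) ∈ twistedE6 K q := by
  have := wordGL_mem (q := q) [(rs.1, t), (rs.2, t ^ q)] (Or.inr ⟨t, rs, hrs, rfl⟩)
  simpa [wordGL] using this

theorem pair_facts : ∀ rs ∈ [(e6p1, e6p6), (e6m1, e6m6), (e6p3, e6p5), (e6m3, e6m5)],
    commOK chevE6 rs.2 rs.1 = true ∧ gE6.pr.getD rs.1 0 = rs.2 ∧ gE6.pr.getD rs.2 0 = rs.1 ∧
    gE6.eps.getD rs.1 1 = 1 ∧ gE6.eps.getD rs.2 1 = 1 ∧ rs.1 < 72 ∧ rs.2 < 72 := by
  decide +kernel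

theorem single_facts : ∀ r ∈ [e6p2, e6m2, e6p4, e6m4],
    gE6.pr.getD r 0 = r ∧ gE6.eps.getD r 1 = 1 ∧ r < 72 := by
  decide +kernel

include hf hf2 in
/-- the twisted group consists of fixed points of `σ` -/
theorem twisted_le_fix : twistedE6 K q ≤ sigmaFix chevE6 gE6 chkGraphPerm_gE6 f := by
  unfold twistedE6 ChevalleyDatum.genSubgroup
  rw [Subgroup.closure_le]
  rintro g ⟨w, hw, hg⟩
  have e : g = wordGL chevE6 hE6 w := Units.ext (by rw [hg, wordGL_val])
  rw [e, SetLike.mem_coe, mem_sigmaFix]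
  rcases hw with ⟨t, ht, r, hr, rfl⟩ | ⟨t, rs, hrs, rfl⟩
  · obtain ⟨h1, h2, h3⟩ := single_facts r hr
    rw [sigma_wordGL chevE6 hE6 gE6 chkGraphPerm_gE6 (fun r hr => chkGraph_gE6 r hr) f _
      (by simp only [List.mem_cons, List.not_mem_nil, or_false]; rintro p rfl; exact h3)]
    simp only [List.map_cons, List.map_nil, h1, h2, Int.cast_one, one_mul, hf, ht]
  · obtain ⟨h1, h2, h3, h4, h5, h6, h7⟩ := pair_facts rs hrs
    rw [sigma_wordGL chevE6 hE6 gE6 chkGraphPerm_gE6 (fun r hr => chkGraph_gE6 r hr) f _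
      (by simp only [List.mem_cons, List.not_mem_nil, or_false]; rintro p (rfl | rfl)
          · exact h6
          · exact h7)]
    simp only [List.map_cons, List.map_nil, h2, h3, h4, h5, Int.cast_one, one_mul]
    rw [← hf t, hf2 t]
    simp only [wordGL, List.map_cons, List.map_nil, List.prod_cons, List.prod_nil, mul_one]
    exact (xGL_commute chevE6 hE6 _ _ h1 _ _).eq

theorem orbits_nodup : ∀ J ∈ orbits, J.Nodup := by decide

theorem simple_vals : chevE6.simple 0 = e6p1 ∧ chevE6.simple 1 = e6p2 ∧ chevE6.simple 2 = e6p3 ∧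
    chevE6.simple 3 = e6p4 ∧ chevE6.simple 4 = e6p5 ∧ chevE6.simple 5 = e6p6 ∧
    chevE6.neg e6p1 = e6m1 ∧ chevE6.neg e6p2 = e6m2 ∧ chevE6.neg e6p3 = e6m3 ∧
    chevE6.neg e6p4 = e6m4 ∧ chevE6.neg e6p5 = e6m5 ∧ chevE6.neg e6p6 = e6m6 := by
  decide +kernel

include hf in
/-- the elements `n_J` lie in the twisted group -/
theorem nJ_mem : ∀ J ∈ orbits, wGL chevE6 hE6 J ∈ twistedE6 K q := by
  intro J hJ
  rw [wGL_orth chevE6 hE6 J (orth_ok J hJ) (orbits_nodup J hJ)]
  obtain ⟨s0, s1, s2, s3, s4, s5, n0, n1, n2, n3, n4, n5⟩ := simple_vals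
  have h1 : (1 : K) ^ q = 1 := one_pow q
  have hm1 : (-1 : K) ^ q = -1 := by rw [← hf, map_neg, map_one]
  simp only [orbits, List.mem_cons, List.not_mem_nil, or_false] at hJ
  rcases hJ with rfl | rfl | rfl | rfl
  · simp only [List.map_cons, List.map_nil, s0, s5, n0, n5, wordGL, List.prod_cons, List.prod_nil,
      mul_one]
    have a := pair_mem (q := q) (e6p1, e6p6) (by simp) (1 : K)
    have b := pair_mem (q := q) (e6m1, e6m6) (by simp) (-1 : K)
    rw [h1] at a
    rw [hm1] at b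
    exact mul_mem (mul_mem a b) a
  · simp only [List.map_cons, List.map_nil, s1, n1, wordGL, List.prod_cons, List.prod_nil,
      mul_one]
    have a := single_mem (q := q) e6p2 (by simp) (1 : K) h1
    have b := single_mem (q := q) e6m2 (by simp) (-1 : K) hm1
    exact mul_mem (mul_mem a b) a
  · simp only [List.map_cons, List.map_nil, s2, s4, n2, n4, wordGL, List.prod_cons, List.prod_nil,
      mul_one]
    have a := pair_mem (q := q) (e6p3, e6p5) (by simp) (1 : K)
    have b := pair_mem (q := q) (e6m3, e6m5) (by simp) (-1 : K)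
    rw [h1] at a
    rw [hm1] at b
    exact mul_mem (mul_mem a b) a
  · simp only [List.map_cons, List.map_nil, s3, n3, wordGL, List.prod_cons, List.prod_nil,
      mul_one]
    have a := single_mem (q := q) e6p4 (by simp) (1 : K) h1
    have b := single_mem (q := q) e6m4 (by simp) (-1 : K) hm1
    exact mul_mem (mul_mem a b) a

theorem base_facts : twE6.blocks.getD 0 [] = [e6p6, e6p1] ∧ twE6.blocks.getD 3 [] = [e6p2] ∧
    twE6.blocks.getD 1 [] = [e6p5, e6p3] ∧ twE6.blocks.getD 2 [] = [e6p4] ∧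
    twE6.prInv e6p6 = e6p1 ∧ twE6.prInv e6p5 = e6p3 ∧ twE6.prInv e6p2 = e6p2 ∧
    twE6.prInv e6p4 = e6p4 ∧ twE6.eps e6p1 = 1 ∧ twE6.eps e6p3 = 1 ∧ twE6.eps e6p2 = 1 ∧
    twE6.eps e6p4 = 1 := by
  decide +kernel

theorem base_mem_blocks : [e6p6, e6p1] ∈ twE6.blocks ∧ [e6p2] ∈ twE6.blocks ∧
    [e6p5, e6p3] ∈ twE6.blocks ∧ [e6p4] ∈ twE6.blocks := by
  decide +kernel

include hf in
theorem base_mem [Fintype K] : ∀ i ∈ [0, 3, 1, 2], ∀ t : ℕ → K,
    prodL chevE6 hE6 (twE6.blocks.getD i []) t ∈ sigmaFix chevE6 gE6 chkGraphPerm_gE6 f →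
      prodL chevE6 hE6 (twE6.blocks.getD i []) t ∈ twistedE6 K q := by
  obtain ⟨b0, b3, b1, b2, i6, i5, i2, i4, e1, e3, e2, e4⟩ := base_facts
  obtain ⟨m0, m3, m1, m2⟩ := base_mem_blocks
  intro i hi t ht
  simp only [List.mem_cons, List.not_mem_nil, or_false] at hi
  rcases hi with rfl | rfl | rfl | rfl
  · rw [b0] at ht ⊢
    have hc := block_fixed_compat twE6 twE6_ok hE6 chkGraphPerm_gE6 hG6 f _ m0 t ht e6p6 (by simp)
    unfold sigT at hc
    rw [i6, e1, Int.cast_one, one_mul, hf] at hc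
    rw [prodL_cons, prodL_cons, prodL_nil, mul_one, ← hc,
      (xGL_commute chevE6 hE6 _ _ (pair_facts (e6p1, e6p6) (by simp)).1 _ _).eq]
    exact pair_mem (e6p1, e6p6) (by simp) _
  · rw [b3] at ht ⊢
    have hc := block_fixed_compat twE6 twE6_ok hE6 chkGraphPerm_gE6 hG6 f _ m3 t ht e6p2 (by simp)
    unfold sigT at hc
    rw [i2, e2, Int.cast_one, one_mul, hf] at hc
    rw [prodL_cons, prodL_nil, mul_one]
    exact single_mem e6p2 (by simp) _ hc
  · rw [b1] at ht ⊢
    have hc := block_fixed_compat twE6 twE6_ok hE6 chkGraphPerm_gE6 hG6 f _ m1 t ht e6p5 (by simp)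
    unfold sigT at hc
    rw [i5, e3, Int.cast_one, one_mul, hf] at hc
    rw [prodL_cons, prodL_cons, prodL_nil, mul_one, ← hc,
      (xGL_commute chevE6 hE6 _ _ (pair_facts (e6p3, e6p5) (by simp)).1 _ _).eq]
    exact pair_mem (e6p3, e6p5) (by simp) _
  · rw [b2] at ht ⊢
    have hc := block_fixed_compat twE6 twE6_ok hE6 chkGraphPerm_gE6 hG6 f _ m2 t ht e6p4 (by simp)
    unfold sigT at hc
    rw [i4, e4, Int.cast_one, one_mul, hf] at hc
    rw [prodL_cons, prodL_nil, mul_one]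
    exact single_mem e6p4 (by simp) _ hc

include hf hf2 in
/-- the fixed points of `σ` in `U` lie in the twisted group -/
theorem pos_fix_le_twisted [Fintype K] :
    chevE6.posUnipotent K ⊓ sigmaFix chevE6 gE6 chkGraphPerm_gE6 f ≤ twistedE6 K q :=
  pos_fix_le_of_forest twE6 twE6_ok hE6 chkGraphPerm_gE6 hG6 f (twistedE6 K q) [0, 3, 1, 2] edges
    orbits forest_ok edges_orbits (nJ_mem f hf)
    (fun J hJ => twisted_le_fix f hf hf2 (nJ_mem f hf J hJ)) (base_mem f hf)

include hf hf2 in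
theorem pos_inf_twisted [Fintype K] : chevE6.posUnipotent K ⊓ twistedE6 K q
    = chevE6.posUnipotent K ⊓ sigmaFix chevE6 gE6 chkGraphPerm_gE6 f :=
  le_antisymm (inf_le_inf_left _ (twisted_le_fix f hf hf2))
    (le_inf inf_le_left (pos_fix_le_twisted f hf hf2))

theorem prod_ite_pow (l : List ℕ) (p : ℕ → Prop) [DecidablePred p] (q m : ℕ) :
    (l.map fun r => if p r then q else q ^ m).prod = q ^ (l.map fun r => if p r then 1 else m).sum := by
  induction l with
  | nil => simp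
  | cons a l ih =>
    rw [List.map_cons, List.prod_cons, ih, List.map_cons, List.sum_cons, pow_add]
    by_cases h : p a
    · simp [h]
    · simp [h]

set_option maxRecDepth 100000 in
theorem rep_sum : ((repList twE6).map fun r => if twE6.pr r = r then 1 else 2).sum = 36 := by
  decide +kernel

end

/-- `|U ∩ ²E₆(q)| = q ^ 36` -/
theorem card_pos_twisted {K : Type*} [Field K] [Fintype K] {q : ℕ} (hq : IsPrimePow q)
    (hK : Fintype.card K = q ^ 2) :
    Nat.card ↥(chevE6.posUnipotent K ⊓ twistedE6 K q) = q ^ 36 := by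
  obtain ⟨f, hf, hfm⟩ := FrobFix.exists_frob hq (by norm_num : 2 ≠ 0) hK
  have hf2 : ∀ x, f (f x) = x := fun x => hfm x
  rw [pos_inf_twisted f hf hf2]
  have h := card_pos_fix twE6 twE6_ok hE6 chkGraphPerm_gE6 hG6 f (by
    intro x
    show (f ^ 2) x = x
    rw [pow_two]
    exact hf2 x)
  have c1 : Nat.card {x : K // f x = x} = q := by
    have := FrobFix.card_fixed (K := K) (q := q) (m := 2) hq.two_le hK
    simpa only [hf] using this
  have c2 : Nat.card K = q ^ 2 := by rw [Nat.card_eq_fintype_card, hK]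
  rw [c1, c2, prod_ite_pow, rep_sum] at h
  exact h

section

end

end Cfsg.Agent.Lib.Helper5.Tw2E6
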