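import Mathlib
import Cfsg.Prelude.Def_ChevStructure
import Cfsg.Agent.Lib.Helper5.ChevW0Def

set_option autoImplicit false

/-!
Tables of transversals in the group generated by the `w_J` and the checks certifying them.
-/

namespace Cfsg.Agent.Lib.Helper5.ChevSym

open Cfsg Cfsg.Lie

/-- a representative: the list of the orbits whose `w_J` multiply to it, and for each orbit `O` of
the larger list either the index of `w_O u` in the table or `m + j` with `w_O u = u w_{O'}`, `O'`
the orbit number `j` of the smaller list -/
structure TRec where
  os : List (List ℕ)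
  nxt : List ℕ
deriving Inhabited

/-- the images of the fundamental roots under a word -/
def imgW (D : ChevalleyDatum) (w : List ℕ) : List ℕ :=
  (List.range D.rank).map fun j => wActC D w (D.simple j)

/-- the number of positive roots made negative by a word -/
def nLen (D : ChevalleyDatum) (w : List ℕ) : ℕ :=
  ((List.range D.nroots).filter fun r =>
    Nat.ble (D.nroots / 2) r && Nat.blt (wActC D w r) (D.nroots / 2)).length

/-- the check of the record `t` -/
def checkTRec (D : ChevalleyDatum) (Ks Js : List (List ℕ)) (tbl : List TRec) (t : ℕ) : Bool :=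
  let R := tbl.getD t default
  let w := R.os.flatten
  R.os.all (fun O => decide (O ∈ Ks)) &&
  Js.all (fun J => J.all fun j => decide (D.IsPosRoot (wActC D w (D.simple j)))) &&
  (List.range Ks.length).all fun i =>
    let O := Ks.getD i []
    let v := R.nxt.getD i 0
    if v < tbl.length then decide (imgW D (tbl.getD v default).os.flatten = imgW D (O ++ w))
    else Nat.blt (v - tbl.length) Js.length &&
      decide (imgW D (O ++ w) = imgW D (w ++ Js.getD (v - tbl.length) []))

theorem checkTRec_spec (D : ChevalleyDatum) (Ks Js : List (List ℕ)) (tbl : List TRec) (t : ℕ)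
    (h : checkTRec D Ks Js tbl t = true) :
    (∀ O ∈ (tbl.getD t default).os, O ∈ Ks) ∧
    (∀ J ∈ Js, ∀ j ∈ J,
      D.IsPosRoot (wAct D (tbl.getD t default).os.flatten (D.simple j))) ∧
    (∀ i < Ks.length,
      ((tbl.getD t default).nxt.getD i 0 < tbl.length ∧
        imgW D (tbl.getD ((tbl.getD t default).nxt.getD i 0) default).os.flatten
          = imgW D (Ks.getD i [] ++ (tbl.getD t default).os.flatten)) ∨
      ((tbl.getD t default).nxt.getD i 0 - tbl.length < Js.length ∧
        imgW D (Ks.getD i [] ++ (tbl.getD t default).os.flatten)
          = imgW D ((tbl.getD t default).os.flatten ++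
            Js.getD ((tbl.getD t default).nxt.getD i 0 - tbl.length) []))) := by
  unfold checkTRec at h
  simp only [Bool.and_eq_true, List.all_eq_true, decide_eq_true_eq, List.mem_range] at h
  obtain ⟨⟨h1, h2⟩, h3⟩ := h
  refine ⟨h1, ?_, ?_⟩
  · intro J hJ j hj
    have := h2 J hJ j hj
    rwa [wActC_eq] at this
  · intro i hi
    have := h3 i hi
    split_ifs at this with hv
    · exact Or.inl ⟨hv, of_decide_eq_true this⟩
    · rw [Bool.and_eq_true, Nat.blt_eq, decide_eq_true_eq] at this
      exact Or.inr this

end Cfsg.Agent.Lib.Helper5.ChevSym
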