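import Mathlib
import Cfsg.Prelude.Def_ChevStructure
import Cfsg.Agent.Lib.Helper5.ChevTwistPoinc
import Cfsg.Agent.Lib.Helper5.ChevTwistTblDef
import Cfsg.Agent.Lib.Helper5.ChevWTbl
import Cfsg.Agent.Lib.Helper5.ChevWPoly

set_option autoImplicit false

/-!
From a certified table of representatives to the factorisation of `∑_{w ∈ W¹_K} q^{N(w)}`.
-/

namespace Cfsg.Agent.Lib.Helper5.ChevStruct

open Cfsg Cfsg.Lie Cfsg.Agent.Lib.Helper5.ChevSym

theorem imgW_eq (D : ChevalleyDatum) (a b : List ℕ) (h : imgW D a = imgW D b) :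
    ∀ j < D.rank, wAct D a (D.simple j) = wAct D b (D.simple j) := by
  unfold imgW at h
  rw [List.map_inj_left] at h
  intro j hj
  have := h j (List.mem_range.2 hj)
  rwa [wActC_eq, wActC_eq] at this

theorem imgW_inj (D : ChevalleyDatum) (hD : D ∈ Seven) (a b : List ℕ) (ha : Wd D a) (hb : Wd D b)
    (h : imgW D a = imgW D b) : wPerm D hD a = wPerm D hD b :=
  (wPerm_eq_iff D hD a b ha hb).2 (wAct_eq_of_simple D hD a b ha hb (imgW_eq D a b h))

theorem imgW_of_wPerm (D : ChevalleyDatum) (hD : D ∈ Seven) (a b : List ℕ) (ha : Wd D a)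
    (hb : Wd D b) (h : wPerm D hD a = wPerm D hD b) : imgW D a = imgW D b := by
  unfold imgW
  rw [List.map_inj_left]
  intro j hj
  rw [wActC_eq, wActC_eq]
  exact (wPerm_eq_iff D hD a b ha hb).1 h _ (simple_lt D hD j (List.mem_range.1 hj))

theorem card_filter_toFinset (l : List ℕ) (hl : l.Nodup) (P : ℕ → Prop) [DecidablePred P] :
    (l.toFinset.filter P).card = (l.filter fun r => decide (P r)).length := by
  rw [← List.toFinset_card_of_nodup (hl.filter _), List.toFinset_filter]
  congr 1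
  ext r
  simp

theorem nLen_eq (D : ChevalleyDatum) (hD : D ∈ Seven) (w : List ℕ) (hw : Wd D w) :
    nLen D w = (negSet D w).card := by
  classical
  unfold nLen negSet
  rw [← List.toFinset_range, card_filter_toFinset _ List.nodup_range]
  congr 1
  apply List.filter_congr
  intro r hr
  rw [List.mem_range] at hr
  have hwr := wAct_lt D hD w hw r hr
  rw [wActC_eq, Bool.eq_iff_iff]
  simp only [Bool.and_eq_true, Nat.ble_eq, Nat.blt_eq, decide_eq_true_eq]
  rw [isPosRoot_iff D hD, isPosRoot_iff D hD]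
  constructor
  · rintro ⟨h1, h2⟩
    exact ⟨⟨h1, hr⟩, fun h => by omega⟩
  · rintro ⟨h1, h2⟩
    refine ⟨h1.1, ?_⟩
    by_contra h3
    exact h2 ⟨by omega, hwr⟩

/-- one step of the factorisation, from a certified table -/
theorem poincT_step_of_table (D : ChevalleyDatum) (hD : D ∈ Seven) (Ks Js : List (List ℕ))
    (hJK : ∀ J ∈ Js, J ∈ Ks) (hwd : ∀ J ∈ Ks, ∀ a ∈ J, a < D.rank)
    (hinv : ∀ J ∈ Ks, (wPerm D hD J)⁻¹ = wPerm D hD J)
    (tbl : List TRec) (hlen : 0 < tbl.length)
    (hchk : ∀ t < tbl.length, checkTRec D Ks Js tbl t = true)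
    (h0 : (tbl.getD 0 default).os = [])
    (hnd : (tbl.map fun R => imgW D R.os.flatten).Nodup) (q : ℕ) :
    poincT D hD Ks q
      = (tbl.map fun R => q ^ nLen D R.os.flatten).sum * poincT D hD Js q := by
  have hgetD : ∀ t : Fin tbl.length, tbl.getD t.val default = tbl[t.val] := fun t =>
    List.getD_eq_getElem _ _ t.isLt
  have hspec : ∀ t : Fin tbl.length, _ := fun t =>
    checkTRec_spec D Ks Js tbl t.val (hchk t.val t.isLt)
  have hu : ∀ t : Fin tbl.length, ∀ J ∈ tbl[t.val].os, J ∈ Ks := by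
    intro t
    have := (hspec t).1
    rwa [hgetD t] at this
  have hwdu : ∀ t : Fin tbl.length, Wd D tbl[t.val].os.flatten :=
    fun t => (wdIn_flatten D Ks hwd _ (hu t)).wd
  rw [poincT_step D hD Ks Js hJK hwd hinv q (fun t : Fin tbl.length => tbl[t.val].os) hu]
  · congr 1
    have : ∀ t : Fin tbl.length, q ^ (negSet D tbl[t.val].os.flatten).card
        = (fun R : TRec => q ^ nLen D R.os.flatten) tbl[t.val] := by
      intro t
      simp only
      rw [nLen_eq D hD _ (hwdu t)]
    rw [Finset.sum_congr rfl (fun t _ => this t)]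
    exact Fin.sum_univ_fun_getElem tbl (fun R : TRec => q ^ nLen D R.os.flatten)
  · intro t
    have := (hspec t).2.1
    rwa [hgetD t] at this
  · intro t t' h
    have himg := imgW_of_wPerm D hD _ _ (hwdu t) (hwdu t') h
    have hlt : t.val < (tbl.map fun R => imgW D R.os.flatten).length := by
      rw [List.length_map]; exact t.isLt
    have hlt' : t'.val < (tbl.map fun R => imgW D R.os.flatten).length := by
      rw [List.length_map]; exact t'.isLt
    have : (tbl.map fun R => imgW D R.os.flatten)[t.val]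
        = (tbl.map fun R => imgW D R.os.flatten)[t'.val] := by
      rw [List.getElem_map, List.getElem_map]
      exact himg
    exact Fin.ext ((hnd.getElem_inj_iff).1 this)
  · refine ⟨⟨0, hlen⟩, ?_⟩
    have := hgetD ⟨0, hlen⟩
    simp only at this
    rw [← this, h0]
    rfl
  · intro t O hO
    obtain ⟨i, hi, rfl⟩ := List.getElem_of_mem hO
    have hOi : Ks.getD i [] = Ks[i] := List.getD_eq_getElem _ _ hi
    have hOwd : Wd D Ks[i] := hwd _ hO
    rcases (hspec t).2.2 i hi with ⟨hv, himg⟩ | ⟨hv, himg⟩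
    · left
      obtain ⟨v, hvdef⟩ : ∃ v, v = (tbl.getD t.val default).nxt.getD i 0 := ⟨_, rfl⟩
      rw [← hvdef] at hv himg
      refine ⟨⟨_, hv⟩, ?_⟩
      rw [hOi, hgetD t] at himg
      rw [← wPerm_append]
      have e := hgetD ⟨_, hv⟩
      simp only at e
      rw [← e]
      exact imgW_inj D hD _ _ (by rw [e]; exact hwdu ⟨_, hv⟩) (hOwd.append (hwdu t)) himg
    · right
      set j := (tbl.getD t.val default).nxt.getD i 0 - tbl.length with hj
      have hOj : Js.getD j [] = Js[j] := List.getD_eq_getElem _ _ hv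
      have hjJ : Js[j] ∈ Js := List.getElem_mem hv
      refine ⟨Js[j], hjJ, ?_⟩
      rw [hOi, hgetD t, hOj] at himg
      rw [← wPerm_append, ← wPerm_append]
      exact imgW_inj D hD _ _ (hOwd.append (hwdu t))
        ((hwdu t).append (hwd _ (hJK _ hjJ))) himg

/-- the polynomial `∑_u X^{N(u)}` read off the table -/
def stepPolyT (D : ChevalleyDatum) (tbl : List TRec) : List ℕ :=
  histo (tbl.map fun R => nLen D R.os.flatten)

theorem sum_eq_evalP_stepPolyT (D : ChevalleyDatum) (tbl : List TRec) (q : ℕ) :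
    (tbl.map fun R => q ^ nLen D R.os.flatten).sum = evalP (stepPolyT D tbl) q := by
  unfold stepPolyT
  rw [evalP_histo, List.map_map]
  rfl

theorem poincT_chain_step (D : ChevalleyDatum) (hD : D ∈ Seven) (Ks Js : List (List ℕ))
    (hJK : ∀ J ∈ Js, J ∈ Ks) (hwd : ∀ J ∈ Ks, ∀ a ∈ J, a < D.rank)
    (hinv : ∀ J ∈ Ks, (wPerm D hD J)⁻¹ = wPerm D hD J)
    (tbl : List TRec) (hlen : 0 < tbl.length)
    (hchk : ∀ t < tbl.length, checkTRec D Ks Js tbl t = true)
    (h0 : (tbl.getD 0 default).os = [])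
    (hnd : (tbl.map fun R => imgW D R.os.flatten).Nodup) (q : ℕ) (P : List ℕ)
    (hJ : poincT D hD Js q = evalP P q) :
    poincT D hD Ks q = evalP (mulP (stepPolyT D tbl) P) q := by
  rw [poincT_step_of_table D hD Ks Js hJK hwd hinv tbl hlen hchk h0 hnd q,
    sum_eq_evalP_stepPolyT, hJ, evalP_mulP]

end Cfsg.Agent.Lib.Helper5.ChevStruct
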