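import Mathlib
import Cfsg.Prelude.Def_ChevStructure
import Cfsg.Agent.Lib.Helper5.ChevTwistUw
import Cfsg.Agent.Lib.Helper5.ChevTwistW

set_option autoImplicit false

/-!
`|U_w⁻ ∩ Fix(σ)| = q₀^{N(w)}` for the words `w` commuting with `ρ`.
-/

namespace Cfsg.Agent.Lib.Helper5.ChevStruct

open Cfsg Cfsg.Lie Cfsg.Agent.Lib.Helper5.ChevSym

variable {K : Type*} [Field K]

section

variable (T : TwistData) (hT : T.OK) (hD : T.D ∈ Seven)
  (hp : checkGraphPerm T.D T.G = true)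
  (hG : ∀ r < T.D.nroots, checkGraphAt T.D T.G r = true) (hS : SigmaOK T.D T.G) (f : K →+* K)

include hD hp hS in
/-- `ρ⁻¹` preserves the positive roots -/
theorem prInv_pos (r : ℕ) (hr : T.D.IsPosRoot r) : T.D.IsPosRoot (T.G.prInv.getD r 0) := by
  obtain ⟨-, h2, h3⟩ := checkGraphPerm_root T.D T.G hp r hr.1
  by_contra hn
  have := pr_not_pos T.D hD T.G hS _ h2 hn
  rw [h3] at this
  exact this hr

include hD hp hS in
theorem negSet_stable (w : List ℕ) (hw : StableW T.D T.G w) :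
    (∀ r ∈ negSet T.D w, T.pr r ∈ negSet T.D w) ∧
      (∀ r ∈ negSet T.D w, T.prInv r ∈ negSet T.D w) := by
  constructor
  · intro r hr
    rw [mem_negSet] at hr ⊢
    refine ⟨pr_pos T.D hD T.G hp hS r hr.1, ?_⟩
    show ¬ T.D.IsPosRoot (wAct T.D w (T.G.pr.getD r 0))
    rw [hw.2 r hr.1.1]
    exact pr_not_pos T.D hD T.G hS _ (wAct_lt T.D hD w hw.1 r hr.1.1) hr.2
  · intro r hr
    rw [mem_negSet] at hr ⊢
    obtain ⟨-, h2, h3⟩ := checkGraphPerm_root T.D T.G hp r hr.1.1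
    refine ⟨prInv_pos T hD hp hS r hr.1, ?_⟩
    show ¬ T.D.IsPosRoot (wAct T.D w (T.G.prInv.getD r 0))
    intro hpos
    have := pr_pos T.D hD T.G hp hS _ hpos
    rw [← hw.2 _ h2, h3] at this
    exact hr.2 this

include hD hp hS in
theorem posSet_stable (w : List ℕ) (hw : StableW T.D T.G w) :
    (∀ r ∈ posSet T.D w, T.pr r ∈ posSet T.D w) ∧
      (∀ r ∈ posSet T.D w, T.prInv r ∈ posSet T.D w) := by
  constructor
  · intro r hr
    rw [mem_posSet] at hr ⊢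
    refine ⟨pr_pos T.D hD T.G hp hS r hr.1, ?_⟩
    show T.D.IsPosRoot (wAct T.D w (T.G.pr.getD r 0))
    rw [hw.2 r hr.1.1]
    exact pr_pos T.D hD T.G hp hS _ hr.2
  · intro r hr
    rw [mem_posSet] at hr ⊢
    obtain ⟨-, h2, h3⟩ := checkGraphPerm_root T.D T.G hp r hr.1.1
    refine ⟨prInv_pos T hD hp hS r hr.1, ?_⟩
    show T.D.IsPosRoot (wAct T.D w (T.G.prInv.getD r 0))
    by_contra hn
    have := pr_not_pos T.D hD T.G hS _ (wAct_lt T.D hD w hw.1 _ h2) hn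
    rw [← hw.2 _ h2, h3] at this
    exact this hr.2

include hT hD hp hG hS in
/-- `|U_w⁻ ∩ Fix(σ)| = q₀^{N(w)}` -/
theorem card_unegSub_fix [Fintype K] (hf : ∀ x, (f ^ T.m) x = x) (q₀ : ℕ) (hq₀ : 0 < q₀)
    (hc1 : Nat.card {x : K // f x = x} = q₀) (hc2 : Nat.card K = q₀ ^ T.m)
    (hsz : ∀ b ∈ repList T, orbSize T b = if T.pr b = b then 1 else T.m)
    (hU : Nat.card ↥(T.D.posUnipotent K ⊓ sigmaFix T.D T.G hp f) = q₀ ^ (T.D.nroots / 2))
    (w : List ℕ) (hw : StableW T.D T.G w) :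
    Nat.card ↥(unegSub T.D K w ⊓ sigmaFix T.D T.G hp f) = q₀ ^ (negSet T.D w).card := by
  classical
  rw [unegSub_eq]
  set A := rootSetSub T.D K ((negSet T.D w : Finset ℕ) : Set ℕ) with hA
  set B := rootSetSub T.D K ((posSet T.D w : Finset ℕ) : Set ℕ) with hB
  set Fx := sigmaFix T.D T.G hp f with hFx
  have hTn : ∀ r ∈ negSet T.D w, T.D.IsPosRoot r := fun r hr => ((mem_negSet T.D w r).1 hr).1
  have hTp : ∀ r ∈ posSet T.D w, T.D.IsPosRoot r := fun r hr => ((mem_posSet T.D w r).1 hr).1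
  have hnL : ∀ r ∈ negSet T.D w, r ∈ T.L := fun r hr => (mem_L_iff T hT hD r).2 (hTn r hr)
  have hpL : ∀ r ∈ posSet T.D w, r ∈ T.L := fun r hr => (mem_L_iff T hT hD r).2 (hTp r hr)
  obtain ⟨hn1, hn2⟩ := negSet_stable T hD hp hS w hw
  obtain ⟨hp1, hp2⟩ := posSet_stable T hD hp hS w hw
  have h1 := card_stable_fix_ge T hT hD hp hG f hf (negSet T.D w) hn1 hn2
  have h2 := card_stable_fix_ge T hT hD hp hG f hf (posSet T.D w) hp1 hp2
  rw [prod_rep_eq_pow T hT q₀ _ _ hc1 hc2 hsz _ hnL hn1 hn2] at h1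
  rw [prod_rep_eq_pow T hT q₀ _ _ hc1 hc2 hsz _ hpL hp1 hp2] at h2
  have hAle : A ≤ T.D.posUnipotent K :=
    rootSetSub_le_pos T.D _ (fun r hr => hTn r (Finset.mem_coe.1 hr))
  have hBle : B ≤ T.D.posUnipotent K :=
    rootSetSub_le_pos T.D _ (fun r hr => hTp r (Finset.mem_coe.1 hr))
  -- the intersection is trivial
  have hinf : ∀ x : GL T.D.Idx K, x ∈ A → x ∈ B → x = 1 := by
    intro x hxA hxB
    have hV : wGL T.D hD w * x * (wGL T.D hD w)⁻¹ ∈ T.D.negUnipotent K := by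
      apply conj_unegOf_le_neg T.D (wGL T.D hD w) x
      apply unegSub_le_unegOf T.D hD w hw.1
      rw [unegSub_eq]
      exact hxA
    have hU' : wGL T.D hD w * x * (wGL T.D hD w)⁻¹ ∈ T.D.posUnipotent K := by
      apply wGL_conj_rootSetSub_pos T.D hD w hw.1 _ _ x hxB
      intro r hr
      have := (mem_posSet T.D w r).1 (Finset.mem_coe.1 hr)
      exact ⟨this.1.1, this.2⟩
    have h3 : wGL T.D hD w * x * (wGL T.D hD w)⁻¹ ∈ T.D.borelSubgroup K ⊓ T.D.negUnipotent K :=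
      Subgroup.mem_inf.2 ⟨pos_le_borel T.D hU', hV⟩
    rw [borel_inf_neg T.D hD, Subgroup.mem_bot] at h3
    have : x = (wGL T.D hD w)⁻¹ * (wGL T.D hD w * x * (wGL T.D hD w)⁻¹) * wGL T.D hD w := by
      group
    rw [this, h3]
    group
  -- the product map is injective
  have hinj : Function.Injective (fun p : ↥(A ⊓ Fx) × ↥(B ⊓ Fx) =>
      (⟨(p.1 : GL T.D.Idx K) * (p.2 : GL T.D.Idx K),
        Subgroup.mem_inf.2 ⟨mul_mem (hAle (Subgroup.mem_inf.1 p.1.2).1)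
          (hBle (Subgroup.mem_inf.1 p.2.2).1),
          mul_mem (Subgroup.mem_inf.1 p.1.2).2 (Subgroup.mem_inf.1 p.2.2).2⟩⟩ :
        ↥(T.D.posUnipotent K ⊓ Fx))) := by
    rintro ⟨a, b⟩ ⟨a', b'⟩ h
    have h' : (a : GL T.D.Idx K) * (b : GL T.D.Idx K)
        = (a' : GL T.D.Idx K) * (b' : GL T.D.Idx K) := congrArg Subtype.val h
    have e : (a' : GL T.D.Idx K)⁻¹ * (a : GL T.D.Idx K)
        = (b' : GL T.D.Idx K) * (b : GL T.D.Idx K)⁻¹ := by
      have : (a : GL T.D.Idx K)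
          = (a' : GL T.D.Idx K) * (b' : GL T.D.Idx K) * (b : GL T.D.Idx K)⁻¹ := by
        rw [← h']; group
      rw [this]; group
    have h4 := hinf _ (A.mul_mem (A.inv_mem (Subgroup.mem_inf.1 a'.2).1) (Subgroup.mem_inf.1 a.2).1)
      (by rw [e]; exact B.mul_mem (Subgroup.mem_inf.1 b'.2).1 (B.inv_mem (Subgroup.mem_inf.1 b.2).1))
    have ha : (a : GL T.D.Idx K) = a' := by
      have := congrArg (fun y => (a' : GL T.D.Idx K) * y) h4
      simpa using this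
    have hb : (b : GL T.D.Idx K) = b' := by
      rw [ha] at h'
      exact mul_left_cancel h'
    exact Prod.ext (Subtype.ext ha) (Subtype.ext hb)
  have h3 := Nat.card_le_card_of_injective _ hinj
  rw [Nat.card_prod, hU, ← card_negSet_add_card_posSet T.D hD w, pow_add] at h3
  -- conclude
  apply le_antisymm _ h1
  by_contra hlt
  push Not at hlt
  have hBpos : 0 < Nat.card ↥(B ⊓ Fx) := lt_of_lt_of_le (pow_pos hq₀ _) h2
  have : q₀ ^ (negSet T.D w).card * q₀ ^ (posSet T.D w).card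
      < Nat.card ↥(A ⊓ Fx) * Nat.card ↥(B ⊓ Fx) :=
    Nat.mul_lt_mul_of_lt_of_le hlt h2 hBpos
  omega

end

end Cfsg.Agent.Lib.Helper5.ChevStruct
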