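import Mathlib
import Cfsg.Prelude.Def_ChevStructure
import Cfsg.Agent.Lib.Helper5.ChevTwistPoinc
import Cfsg.Agent.Lib.Helper5.ChevTwistUwCard

set_option autoImplicit false

/-!
The order of the group of fixed points of `σ`:
`|G ∩ Fix(σ)| = |U ∩ Fix(σ)| |H ∩ Fix(σ)| ∑_{w ∈ W¹} q₀^{N(w)}`.
-/

namespace Cfsg.Agent.Lib.Helper5.ChevStruct

open Cfsg Cfsg.Lie Cfsg.Agent.Lib.Helper5.ChevSym

variable {K : Type*} [Field K]

section

variable (T : TwistData) (hT : T.OK) (hD : T.D ∈ Seven)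
  (hp : checkGraphPerm T.D T.G = true)
  (hG : ∀ r < T.D.nroots, checkGraphAt T.D T.G r = true) (hS : SigmaOK T.D T.G) (f : K →+* K)
  (rho : Equiv.Perm (Fin T.D.rank))
  (hrho : ∀ i : Fin T.D.rank,
      T.G.pr.getD (T.D.simple i) 0 = T.D.simple (rho i) ∧
      T.G.pr.getD (T.D.neg (T.D.simple i)) 0 = T.D.neg (T.D.simple (rho i)) ∧
      T.G.eps.getD (T.D.simple i) 1 = 1 ∧ T.G.eps.getD (T.D.neg (T.D.simple i)) 1 = 1 ∧
      T.D.simple i < T.D.nroots ∧ T.D.neg (T.D.simple i) < T.D.nroots)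
  (orbs : List (List ℕ)) (hO : OrbsOK T.D T.G orbs)

include hT hD hp hG hS hrho hO in
theorem card_fix_group [Fintype K] (hn : ∀ J ∈ orbs, wGL T.D hD J ∈ sigmaFix T.D T.G hp f)
    (hf : ∀ x, (f ^ T.m) x = x) (q₀ : ℕ) (hq₀ : 0 < q₀)
    (hc1 : Nat.card {x : K // f x = x} = q₀) (hc2 : Nat.card K = q₀ ^ T.m)
    (hsz : ∀ b ∈ repList T, orbSize T b = if T.pr b = b then 1 else T.m)
    (hU : Nat.card ↥(T.D.posUnipotent K ⊓ sigmaFix T.D T.G hp f) = q₀ ^ (T.D.nroots / 2)) :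
    Nat.card ↥(T.D.group K ⊓ sigmaFix T.D T.G hp f) =
      q₀ ^ (T.D.nroots / 2) * Nat.card ↥(T.D.diagonalSubgroup K ⊓ sigmaFix T.D T.G hp f) *
        poincT T.D hD orbs q₀ := by
  classical
  rw [← Nat.card_congr (Equiv.ofBijective _
    (cellMapT_bijective T.D hD T.G hp hG hS f rho hrho orbs hO hn)), Nat.card_sigma]
  have hterm : ∀ σ : ↥(WT T.D hD orbs),
      Nat.card (↥(T.D.borelSubgroup K ⊓ sigmaFix T.D T.G hp f) ×
        ↥(unegSub T.D K (orbsOf T.D hD T.G orbs hO σ).flatten ⊓ sigmaFix T.D T.G hp f))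
        = q₀ ^ (T.D.nroots / 2) *
          Nat.card ↥(T.D.diagonalSubgroup K ⊓ sigmaFix T.D T.G hp f) * q₀ ^ Nf T.D σ.1 := by
    intro σ
    have hst := stable_flatten T.D hD T.G orbs hO _ (orbsOf_spec T.D hD T.G orbs hO σ).1
    rw [Nat.card_prod, card_borel_fix T.D hD T.G hp hG hS f rho hrho, hU,
      card_unegSub_fix T hT hD hp hG hS f hf q₀ hq₀ hc1 hc2 hsz hU _ hst,
      ← Nf_wPerm T.D hD _ hst.1, (orbsOf_spec T.D hD T.G orbs hO σ).2]
  rw [Finset.sum_congr rfl (fun σ _ => hterm σ), ← Finset.mul_sum]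
  congr 1
  unfold poincT
  symm
  apply Finset.sum_subtype
  intro σ
  rw [Finset.mem_filter]
  simp

end

end Cfsg.Agent.Lib.Helper5.ChevStruct
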