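import Mathlib

set_option autoImplicit false

/-!
Two instances of the vanishing of the first cohomology of a cyclic group of order `m` acting on an
abelian group of exponent prime to `m`: an element of a quotient `C / Z` fixed by an endomorphism
`s` of order `m` lifts to a fixed element of `C` when `Z` has exponent `3` and `m = 2`, or exponent
`2` and `m = 3`.
-/

namespace Cfsg.Agent.Lib.Helper5.TwistCoh

variable {C H : Type*} [CommGroup C] [Group H] (s : C →* C) (τ : C →* H)

theorem exists_fixed_two (hs : ∀ c, s (s c) = c) (hk : ∀ y, τ y = 1 → y ^ 3 = 1) (c : C)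
    (h : τ (s c) = τ c) : ∃ c', τ c' = τ c ∧ s c' = c' := by
  obtain ⟨z, hz⟩ : ∃ z, z = s c * c⁻¹ := ⟨_, rfl⟩
  have hz1 : τ z = 1 := by rw [hz, map_mul, map_inv, h, mul_inv_cancel]
  have hz3 : z ^ 3 = 1 := hk z hz1
  have hsz : s z = z⁻¹ := by
    rw [hz, map_mul, map_inv, hs, mul_inv_rev, inv_inv]
  have hsc : s c = c * z := by
    rw [hz, mul_comm (s c), mul_inv_cancel_left]
  have hzz : z * z = z⁻¹ := by
    apply eq_inv_of_mul_eq_one_left
    rw [← hz3, pow_succ, pow_two]
  refine ⟨c * z⁻¹, ?_, ?_⟩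
  · rw [map_mul, map_inv, hz1, inv_one, mul_one]
  · rw [map_mul, map_inv, hsz, inv_inv, hsc, mul_assoc, hzz]

theorem exists_fixed_three (hs : ∀ c, s (s (s c)) = c) (hk : ∀ y, τ y = 1 → y ^ 2 = 1)
    (hker : ∀ y, τ y = 1 → τ (s y) = 1) (c : C) (h : τ (s c) = τ c) :
    ∃ c', τ c' = τ c ∧ s c' = c' := by
  obtain ⟨z, hz⟩ : ∃ z, z = s c * c⁻¹ := ⟨_, rfl⟩
  have hz1 : τ z = 1 := by rw [hz, map_mul, map_inv, h, mul_inv_cancel]
  have hz2 : τ (s z) = 1 := hker z hz1
  have hsz2 : s z * s z = 1 := by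
    have := hk (s z) hz2
    rwa [pow_two] at this
  have hsc : s c = c * z := by
    rw [hz, mul_comm (s c), mul_inv_cancel_left]
  have hprod : z * s z * s (s z) = 1 := by
    have e1 : s z = s (s c) * (s c)⁻¹ := by rw [hz, map_mul, map_inv]
    have e2 : s (s z) = c * (s (s c))⁻¹ := by rw [e1, map_mul, map_inv, hs]
    rw [e2, e1, hz]
    have : s c * c⁻¹ * (s (s c) * (s c)⁻¹) * (c * (s (s c))⁻¹)
        = (s c * (s c)⁻¹) * (c⁻¹ * c) * (s (s c) * (s (s c))⁻¹) := by
      simp only [mul_comm, mul_left_comm, mul_assoc]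
    rw [this, mul_inv_cancel, inv_mul_cancel, mul_inv_cancel, one_mul, one_mul]
  refine ⟨c * s z, ?_, ?_⟩
  · rw [map_mul, hz2, mul_one]
  · rw [map_mul, hsc, mul_assoc]
    congr 1
    -- `z * s (s z) = s z`
    have : z * s (s z) = s z * (s z * (z * s (s z))) := by
      rw [← mul_assoc, hsz2, one_mul]
    rw [this]
    have e : s z * (z * s (s z)) = z * s z * s (s z) := by
      simp only [mul_comm, mul_left_comm, mul_assoc]
    rw [e, hprod, mul_one]

end Cfsg.Agent.Lib.Helper5.TwistCoh
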