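import Mathlib
import Cfsg.Prelude.Def_LieTwisted
import Cfsg.Agent.Lib.Helper5.Tw2E6U
import Cfsg.Agent.Lib.Helper5.ChevTwistTorus
import Cfsg.Agent.Lib.Helper5.ChevTorusKer
import Cfsg.Agent.Lib.Helper5.MatPowKer
import Cfsg.Agent.Lib.Helper5.TwistCoh

set_option autoImplicit false

/-!
The diagonal subgroup of `²E₆(q)`: `H ∩ ²E₆(q)` is the image of the `σ`-stable parameters, of order
`(q - 1)^4 (q + 1)^2 / (3, q + 1)`.
-/

namespace Cfsg.Agent.Lib.Helper5.Tw2E6

open Cfsg Cfsg.Lie Cfsg.Agent.Lib.Helper5.ChevStruct Cfsg.Agent.Lib.Helper5.ChevSym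
  Cfsg.Agent.Lib.Helper5.MatPow

/-- the symmetry of the diagram -/
def rho6 : Equiv.Perm (Fin 6) := Equiv.swap 0 5 * Equiv.swap 2 4

set_option maxRecDepth 100000 in
theorem hrho6 : ∀ i : Fin 6,
    gE6.pr.getD (chevE6.simple i) 0 = chevE6.simple (rho6 i) ∧
    gE6.pr.getD (chevE6.neg (chevE6.simple i)) 0 = chevE6.neg (chevE6.simple (rho6 i)) ∧
    gE6.eps.getD (chevE6.simple i) 1 = 1 ∧ gE6.eps.getD (chevE6.neg (chevE6.simple i)) 1 = 1 ∧
    chevE6.simple i < chevE6.nroots ∧ chevE6.neg (chevE6.simple i) < chevE6.nroots := by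
  decide +kernel

theorem rho6_sq : ∀ i : Fin 6, rho6.symm (rho6.symm i) = i := by decide

theorem orbits_perm : orbits.flatten.Perm (List.range chevE6.rank) := by decide

theorem rhoN_vals : rhoN 6 rho6 0 = 5 ∧ rhoN 6 rho6 1 = 1 ∧ rhoN 6 rho6 2 = 4 ∧
    rhoN 6 rho6 3 = 3 ∧ rhoN 6 rho6 4 = 2 ∧ rhoN 6 rho6 5 = 0 := by decide

section

variable {K : Type*} [Field K] {q : ℕ} (f : K →+* K) (hf : ∀ x, f x = x ^ q)
  (hf2 : ∀ x, f (f x) = x)

include hf2 in
theorem sigC_sq (c : Fin 6 → Kˣ) : sigC 6 rho6 f (sigC 6 rho6 f c) = c := by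
  funext j
  apply Units.ext
  rw [sigC_apply, sigC_apply, hf2, rho6_sq]

/-- the exponent of the kernel of the torus homomorphism -/
theorem ker_pow_three (y : Fin chevE6.rank → Kˣ) (h : torHom chevE6 K y = 1) : y ^ 3 = 1 := by
  have h1 : y ∈ (torHom chevE6 K).ker := h
  rw [mem_ker_torHom_iff chevE6 hE6] at h1
  exact ker_mpow_pow_eq_one chevE6.rank (cartanFn chevE6) smPE6 smP'E6 smQE6 smQ'E6
    [1, 1, 1, 1, 1, 3] (by decide +kernel) (by decide +kernel) (by decide +kernel) 3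
    (by decide) y h1

include hf2 in
theorem hfix6 (c : Fin chevE6.rank → Kˣ)
    (h : torHom chevE6 K (sigC chevE6.rank rho6 f c) = torHom chevE6 K c) :
    ∃ c', torHom chevE6 K c' = torHom chevE6 K c ∧ sigC chevE6.rank rho6 f c' = c' :=
  TwistCoh.exists_fixed_two (sigC chevE6.rank rho6 f) (torHom chevE6 K) (sigC_sq f hf2)
    ker_pow_three c h

include hf in
theorem hgen6 : ∀ J ∈ orbits, ∀ s : ℕ → K, (∀ i ∈ J, s (rhoN chevE6.rank rho6 i) = f (s i)) →
    wordGL chevE6 hE6 (J.map fun i => (chevE6.simple i, s i)) ∈ twistedE6 K q ∧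
    wordGL chevE6 hE6 (J.map fun i => (chevE6.neg (chevE6.simple i), s i)) ∈ twistedE6 K q := by
  obtain ⟨s0, s1, s2, s3, s4, s5, n0, n1, n2, n3, n4, n5⟩ := simple_vals
  obtain ⟨r0, r1, r2, r3, r4, r5⟩ := rhoN_vals
  intro J hJ s hs
  simp only [orbits, List.mem_cons, List.not_mem_nil, or_false] at hJ
  rcases hJ with rfl | rfl | rfl | rfl
  · have h0 := hs 0 (by simp)
    change s (rhoN 6 rho6 0) = f (s 0) at h0
    rw [r0, hf] at h0
    simp only [List.map_cons, List.map_nil, s0, s5, n0, n5, wordGL, List.prod_cons, List.prod_nil,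
      mul_one, h0]
    exact ⟨pair_mem (e6p1, e6p6) (by simp) _, pair_mem (e6m1, e6m6) (by simp) _⟩
  · have h0 := hs 1 (by simp)
    change s (rhoN 6 rho6 1) = f (s 1) at h0
    rw [r1, hf] at h0
    simp only [List.map_cons, List.map_nil, s1, n1, wordGL, List.prod_cons, List.prod_nil, mul_one]
    exact ⟨single_mem e6p2 (by simp) _ h0.symm, single_mem e6m2 (by simp) _ h0.symm⟩
  · have h0 := hs 2 (by simp)
    change s (rhoN 6 rho6 2) = f (s 2) at h0
    rw [r2, hf] at h0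
    simp only [List.map_cons, List.map_nil, s2, s4, n2, n4, wordGL, List.prod_cons, List.prod_nil,
      mul_one, h0]
    exact ⟨pair_mem (e6p3, e6p5) (by simp) _, pair_mem (e6m3, e6m5) (by simp) _⟩
  · have h0 := hs 3 (by simp)
    change s (rhoN 6 rho6 3) = f (s 3) at h0
    rw [r3, hf] at h0
    simp only [List.map_cons, List.map_nil, s3, n3, wordGL, List.prod_cons, List.prod_nil, mul_one]
    exact ⟨single_mem e6p4 (by simp) _ h0.symm, single_mem e6m4 (by simp) _ h0.symm⟩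

include hf hf2 in
/-- `H ∩ ²E₆(q)` is the image of the `σ`-stable parameters -/
theorem diag_inf_twisted : chevE6.diagonalSubgroup K ⊓ twistedE6 K q =
    ((sigC chevE6.rank rho6 f).eqLocus (MonoidHom.id _)).map (torHom chevE6 K) :=
  diag_inf_eq chevE6 hE6 gE6 chkGraphPerm_gE6 (fun r hr => chkGraph_gE6 r hr) f rho6 hrho6
    (twistedE6 K q) (twisted_le_fix f hf hf2)
    (fun c hc => torHom_mem_of_orbits chevE6 hE6 rho6 f (twistedE6 K q) orbits orbits_perm
      (fun J hJ => ⟨orth_ok J hJ, orbits_nodup J hJ⟩) (hgen6 f hf) c hc)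
    (hfix6 f hf2)

/-- the central family attached to a cube root of unity -/
def zOf (b : Kˣ) : Fin 6 → Kˣ := ![b, 1, b ^ 2, 1, b, b ^ 2]

theorem zpow_of_cube (b : Kˣ) (hb : b ^ 3 = 1) : b ^ (-5 : ℤ) = b ∧ b ^ (-4 : ℤ) = b ^ 2 ∧
    b ^ (-3 : ℤ) = 1 ∧ b ^ (-2 : ℤ) = b ∧ b ^ (-1 : ℤ) = b ^ 2 := by
  refine ⟨?_, ?_, ?_, ?_, ?_⟩
  · rw [zpow_eq_zpow_emod' (-5) hb]; norm_num
  · rw [zpow_eq_zpow_emod' (-4) hb]; norm_num
  · rw [zpow_eq_zpow_emod' (-3) hb]; norm_num
  · rw [zpow_eq_zpow_emod' (-2) hb]; norm_num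
  · rw [zpow_eq_zpow_emod' (-1) hb]; norm_num

/-- the kernel of the torus homomorphism -/
theorem ker_torHom_iff (c : Fin chevE6.rank → Kˣ) :
    torHom chevE6 K c = 1 ↔ ∃ b : Kˣ, b ^ 3 = 1 ∧ c = zOf b := by
  have h0 : torHom chevE6 K c = 1 ↔ c ∈ (torHom chevE6 K).ker := Iff.rfl
  rw [h0, mem_ker_torHom_iff chevE6 hE6,
    mem_ker_mpow_of_check chevE6.rank (cartanFn chevE6) smPE6 smP'E6 smQE6 smQ'E6
      [1, 1, 1, 1, 1, 3] (by decide +kernel) (by decide +kernel) (by decide +kernel)]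
  constructor
  · rintro ⟨y, hy, rfl⟩
    have y0 : y (0 : Fin 6) = 1 := by simpa using hy (0 : Fin 6)
    have y1 : y (1 : Fin 6) = 1 := by simpa using hy (1 : Fin 6)
    have y2 : y (2 : Fin 6) = 1 := by simpa using hy (2 : Fin 6)
    have y3 : y (3 : Fin 6) = 1 := by simpa using hy (3 : Fin 6)
    have y4 : y (4 : Fin 6) = 1 := by simpa using hy (4 : Fin 6)
    have y5 : y (5 : Fin 6) ^ 3 = 1 := by simpa using hy (5 : Fin 6)
    obtain ⟨e5, e4, e3, e2, e1⟩ := zpow_of_cube _ y5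
    refine ⟨y (5 : Fin 6), y5, ?_⟩
    funext j
    show ∏ i : Fin 6, y i ^ (fmat (lfun smPE6) 6 i j) = zOf (y (5 : Fin 6)) j
    rw [Fin.prod_univ_six, y0, y1, y2, y3, y4]
    simp only [one_zpow, one_mul]
    fin_cases j
    · exact e5
    · show y (5 : Fin 6) ^ (0 : ℤ) = 1
      rw [zpow_zero]
    · exact e4
    · exact e3
    · exact e2
    · exact e1
  · rintro ⟨b, hb, rfl⟩
    obtain ⟨e5, e4, e3, e2, e1⟩ := zpow_of_cube b hb
    refine ⟨![1, 1, 1, 1, 1, b], ?_, ?_⟩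
    · intro j
      fin_cases j
      · show (1 : Kˣ) ^ 1 = 1
        rw [pow_one]
      · show (1 : Kˣ) ^ 1 = 1
        rw [pow_one]
      · show (1 : Kˣ) ^ 1 = 1
        rw [pow_one]
      · show (1 : Kˣ) ^ 1 = 1
        rw [pow_one]
      · show (1 : Kˣ) ^ 1 = 1
        rw [pow_one]
      · show b ^ 3 = 1
        exact hb
    · funext j
      show zOf b j = ∏ i : Fin 6, (![1, 1, 1, 1, 1, b] : Fin 6 → Kˣ) i ^ (fmat (lfun smPE6) 6 i j)
      rw [Fin.prod_univ_six]
      simp only [Matrix.cons_val_zero, Matrix.cons_val_one, Matrix.cons_val, one_zpow, one_mul]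
      fin_cases j
      · exact e5.symm
      · show (1 : Kˣ) = b ^ (0 : ℤ)
        rw [zpow_zero]
      · exact e4.symm
      · exact e3.symm
      · exact e2.symm
      · exact e1.symm

include hf in
theorem unitsMap_eq (u : Kˣ) : Units.map (f : K →* K) u = u ^ q := by
  apply Units.ext
  rw [Units.coe_map, Units.val_pow_eq_pow_val]
  exact hf _

theorem sigC_apply' (c : Fin 6 → Kˣ) (j : Fin 6) :
    sigC 6 rho6 f c j = Units.map (f : K →* K) (c (rho6.symm j)) := rfl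

theorem rho6_symm_vals : rho6.symm 0 = 5 ∧ rho6.symm 1 = 1 ∧ rho6.symm 2 = 4 ∧ rho6.symm 3 = 3 ∧
    rho6.symm 4 = 2 ∧ rho6.symm 5 = 0 := by decide

include hf in
/-- the `σ`-stable central families -/
theorem sigC_zOf_iff (b : Kˣ) (hb : b ^ 3 = 1) :
    sigC 6 rho6 f (zOf b) = zOf b ↔ b ^ (q + 1) = 1 := by
  obtain ⟨r0, r1, r2, r3, r4, r5⟩ := rho6_symm_vals
  constructor
  · intro h
    have h5 := congrFun h 5
    rw [sigC_apply', r5, unitsMap_eq f hf] at h5
    have e0 : zOf b 0 = b := rfl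
    have e5 : zOf b 5 = b ^ 2 := rfl
    rw [e0, e5] at h5
    rw [pow_succ, h5, ← pow_succ]
    exact hb
  · intro h
    have hq : b ^ q = b ^ 2 := by
      have h1 : b ^ q * b = b ^ 2 * b := by rw [← pow_succ, h, ← pow_succ, hb]
      exact mul_right_cancel h1
    have hq2 : (b ^ 2) ^ q = b := by
      rw [← pow_mul, mul_comm, pow_mul, hq, ← pow_mul]
      show b ^ 4 = b
      rw [show 4 = 3 + 1 from rfl, pow_succ, hb, one_mul]
    funext j
    rw [sigC_apply', unitsMap_eq f hf]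
    fin_cases j
    · show (zOf b (rho6.symm 0)) ^ q = zOf b 0
      rw [r0]; exact hq2
    · show (zOf b (rho6.symm 1)) ^ q = zOf b 1
      rw [r1]; exact one_pow q
    · show (zOf b (rho6.symm 2)) ^ q = zOf b 2
      rw [r2]; exact hq
    · show (zOf b (rho6.symm 3)) ^ q = zOf b 3
      rw [r3]; exact one_pow q
    · show (zOf b (rho6.symm 4)) ^ q = zOf b 4
      rw [r4]; exact hq2
    · show (zOf b (rho6.symm 5)) ^ q = zOf b 5
      rw [r5]; exact hq

include hf in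
/-- the number of `σ`-stable central families -/
theorem card_fixed_ker [Fintype K] (hq : 1 ≤ q) (hK : Fintype.card K = q ^ 2) :
    Nat.card {c : Fin 6 → Kˣ //
      c ∈ (sigC 6 rho6 f).eqLocus (MonoidHom.id (Fin 6 → Kˣ)) ∧ torHom chevE6 K c = 1}
      = Nat.gcd 3 (q + 1) := by
  have e : {b : Kˣ // b ^ 3 = 1 ∧ b ^ (q + 1) = 1} ≃ {c : Fin 6 → Kˣ //
      c ∈ (sigC 6 rho6 f).eqLocus (MonoidHom.id (Fin 6 → Kˣ)) ∧ torHom chevE6 K c = 1} := by
    refine Equiv.ofBijective (fun b => ⟨zOf b.1, ?_, ?_⟩) ⟨?_, ?_⟩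
    · exact (sigC_zOf_iff f hf b.1 b.2.1).2 b.2.2
    · exact (ker_torHom_iff _).2 ⟨b.1, b.2.1, rfl⟩
    · intro b b' h
      apply Subtype.ext
      have := congrArg (fun c : {c : Fin 6 → Kˣ //
        c ∈ (sigC 6 rho6 f).eqLocus (MonoidHom.id (Fin 6 → Kˣ)) ∧ torHom chevE6 K c = 1} =>
          c.1 (0 : Fin 6)) h
      exact this
    · rintro ⟨c, hc1, hc2⟩
      obtain ⟨b, hb, rfl⟩ := (ker_torHom_iff c).1 hc2
      exact ⟨⟨b, hb, (sigC_zOf_iff f hf b hb).1 hc1⟩, rfl⟩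
  rw [← Nat.card_congr e]
  have e2 : {b : Kˣ // b ^ 3 = 1 ∧ b ^ (q + 1) = 1} ≃
      (powMonoidHom (Nat.gcd 3 (q + 1)) : Kˣ →* Kˣ).ker := by
    apply Equiv.subtypeEquivRight
    intro b
    rw [MonoidHom.mem_ker, powMonoidHom_apply, pow_gcd_eq_one]
  rw [Nat.card_congr e2, IsCyclic.card_powMonoidHom_ker, Nat.card_units, Nat.card_eq_fintype_card,
    hK]
  apply Nat.gcd_eq_right
  apply dvd_trans (Nat.gcd_dvd_right 3 (q + 1))
  refine ⟨q - 1, ?_⟩
  obtain ⟨k, rfl⟩ : ∃ k, q = k + 1 := ⟨q - 1, by omega⟩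
  simp only [Nat.add_sub_cancel]
  apply Nat.sub_eq_of_eq_add
  ring

include hf hf2 in
/-- the number of `σ`-stable families -/
theorem card_eqLocus [Fintype K] (hq : 2 ≤ q) (hK : Fintype.card K = q ^ 2) :
    Nat.card ((sigC 6 rho6 f).eqLocus (MonoidHom.id (Fin 6 → Kˣ))) = (q - 1) ^ 4 * (q + 1) ^ 2 := by
  obtain ⟨r0, r1, r2, r3, r4, r5⟩ := rho6_symm_vals
  have hff : ∀ u : Kˣ, Units.map (f : K →* K) (Units.map (f : K →* K) u) = u := by
    intro u
    apply Units.ext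
    rw [Units.coe_map, Units.coe_map]
    exact hf2 _
  have e : ((sigC 6 rho6 f).eqLocus (MonoidHom.id (Fin 6 → Kˣ))) ≃
      Kˣ × Kˣ × {u : Kˣ // u ^ q = u} × {u : Kˣ // u ^ q = u} :=
    { toFun := fun c => (c.1 (0 : Fin 6), c.1 (2 : Fin 6),
        ⟨c.1 (1 : Fin 6), by
          have := congrFun c.2 (1 : Fin 6)
          rw [sigC_apply', r1, unitsMap_eq f hf] at this
          exact this⟩,
        ⟨c.1 (3 : Fin 6), by
          have := congrFun c.2 (3 : Fin 6)
          rw [sigC_apply', r3, unitsMap_eq f hf] at this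
          exact this⟩)
      invFun := fun p => ⟨![p.1, p.2.2.1.1, p.2.1, p.2.2.2.1, Units.map (f : K →* K) p.2.1,
          Units.map (f : K →* K) p.1], by
        show sigC 6 rho6 f _ = _
        funext j
        rw [sigC_apply']
        fin_cases j
        · show Units.map (f : K →* K) ((![p.1, p.2.2.1.1, p.2.1, p.2.2.2.1,
            Units.map (f : K →* K) p.2.1, Units.map (f : K →* K) p.1] : Fin 6 → Kˣ)
              (rho6.symm 0)) = p.1
          rw [r0]; exact hff _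
        · show Units.map (f : K →* K) ((![p.1, p.2.2.1.1, p.2.1, p.2.2.2.1,
            Units.map (f : K →* K) p.2.1, Units.map (f : K →* K) p.1] : Fin 6 → Kˣ)
              (rho6.symm 1)) = p.2.2.1.1
          rw [r1, unitsMap_eq f hf]; exact p.2.2.1.2
        · show Units.map (f : K →* K) ((![p.1, p.2.2.1.1, p.2.1, p.2.2.2.1,
            Units.map (f : K →* K) p.2.1, Units.map (f : K →* K) p.1] : Fin 6 → Kˣ)
              (rho6.symm 2)) = p.2.1
          rw [r2]; exact hff _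
        · show Units.map (f : K →* K) ((![p.1, p.2.2.1.1, p.2.1, p.2.2.2.1,
            Units.map (f : K →* K) p.2.1, Units.map (f : K →* K) p.1] : Fin 6 → Kˣ)
              (rho6.symm 3)) = p.2.2.2.1
          rw [r3, unitsMap_eq f hf]; exact p.2.2.2.2
        · show Units.map (f : K →* K) ((![p.1, p.2.2.1.1, p.2.1, p.2.2.2.1,
            Units.map (f : K →* K) p.2.1, Units.map (f : K →* K) p.1] : Fin 6 → Kˣ)
              (rho6.symm 4)) = Units.map (f : K →* K) p.2.1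
          rw [r4]; rfl
        · show Units.map (f : K →* K) ((![p.1, p.2.2.1.1, p.2.1, p.2.2.2.1,
            Units.map (f : K →* K) p.2.1, Units.map (f : K →* K) p.1] : Fin 6 → Kˣ)
              (rho6.symm 5)) = Units.map (f : K →* K) p.1
          rw [r5]; rfl⟩
      left_inv := by
        intro c
        apply Subtype.ext
        funext j
        have h4 := congrFun c.2 (4 : Fin 6)
        have h5 := congrFun c.2 (5 : Fin 6)
        rw [sigC_apply', r4] at h4
        rw [sigC_apply', r5] at h5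
        fin_cases j
        · rfl
        · rfl
        · rfl
        · rfl
        · exact h4
        · exact h5
      right_inv := by
        intro p
        rfl }
  rw [Nat.card_congr e, Nat.card_prod, Nat.card_prod, Nat.card_prod,
    FrobFix.card_units_fixed hq hK, Nat.card_units, Nat.card_eq_fintype_card, hK]
  have : q ^ 2 - 1 = (q - 1) * (q + 1) := by
    obtain ⟨k, rfl⟩ : ∃ k, q = k + 1 := ⟨q - 1, by omega⟩
    simp only [Nat.add_sub_cancel]
    apply Nat.sub_eq_of_eq_add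
    ring
  rw [this]
  ring

end

/-- `(3, q + 1) |H ∩ ²E₆(q)| = (q - 1)^4 (q + 1)^2` -/
theorem card_diag_twisted {K : Type*} [Field K] [Fintype K] {q : ℕ} (hq : IsPrimePow q)
    (hK : Fintype.card K = q ^ 2) :
    Nat.gcd 3 (q + 1) * Nat.card ↥(chevE6.diagonalSubgroup K ⊓ twistedE6 K q)
      = (q - 1) ^ 4 * (q + 1) ^ 2 := by
  obtain ⟨f, hf, hfm⟩ := FrobFix.exists_frob hq (by norm_num : 2 ≠ 0) hK
  have hf2 : ∀ x, f (f x) = x := fun x => hfm x
  rw [diag_inf_twisted f hf hf2]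
  have h := card_map_mul_card_ker (torHom chevE6 K)
    ((sigC 6 rho6 f).eqLocus (MonoidHom.id (Fin 6 → Kˣ)))
  have h1 := card_fixed_ker f hf (by have := hq.two_le; omega) hK
  have h2 := card_eqLocus f hf hf2 hq.two_le hK
  rw [mul_comm]
  calc _ = Nat.card ↥(Subgroup.map (torHom chevE6 K)
        ((sigC 6 rho6 f).eqLocus (MonoidHom.id (Fin 6 → Kˣ)))) *
      Nat.card {c : Fin 6 → Kˣ // c ∈ (sigC 6 rho6 f).eqLocus (MonoidHom.id (Fin 6 → Kˣ)) ∧
        torHom chevE6 K c = 1} := by rw [h1]; rfl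
    _ = _ := h
    _ = _ := h2

section

end

end Cfsg.Agent.Lib.Helper5.Tw2E6
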