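import Mathlib
import Cfsg.Prelude.Def_LieTwisted
import Cfsg.Agent.Lib.Helper5.Tw2E6H
import Cfsg.Agent.Lib.Helper5.ChevTwistCard
import Cfsg.Agent.Lib.Helper5.ChevChk.TwistSigma
import Cfsg.Agent.Lib.Helper5.ChevChk.TTblE6

set_option autoImplicit false

/-!
The order of `²E₆(q)`.
-/

namespace Cfsg.Agent.Lib.Helper5.Tw2E6

open Cfsg Cfsg.Lie Cfsg.Agent.Lib.Helper5.ChevSym Cfsg.Agent.Lib.Helper5.ChevStruct

set_option maxRecDepth 1000000 in
theorem orbsOK6 : OrbsOK chevE6 gE6 orbits where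
  wd := by decide +kernel
  nodup := by decide +kernel
  orth := by decide +kernel
  trans := by decide +kernel
  comm := by decide +kernel
  invol := by decide +kernel
  cover := by decide +kernel

set_option maxRecDepth 1000000 in
theorem hsz6 : ∀ b ∈ repList twE6, orbSize twE6 b = if twE6.pr b = b then 1 else twE6.m := by
  decide +kernel

theorem hinv6 : ∀ J ∈ orbits, (wPerm chevE6 hE6 J)⁻¹ = wPerm chevE6 hE6 J :=
  fun J hJ => wPerm_orb_inv chevE6 hE6 gE6 orbits orbsOK6 J hJ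

/-- the polynomial `∑_{w ∈ W¹} X^{N(w)}` -/
def polyE6 : List ℕ :=
  [1, 2, 4, 6, 9, 13, 17, 22, 26, 32, 37, 43, 47, 51, 55, 58, 61, 61, 62, 61, 61, 58, 55, 51, 47,
    43, 37, 32, 26, 22, 17, 13, 9, 6, 4, 2, 1]

theorem polyE6_eq : mulP (stepPolyT chevE6 ttblE6_0) (mulP (stepPolyT chevE6 ttblE6_1)
    (mulP (stepPolyT chevE6 ttblE6_2) (mulP (stepPolyT chevE6 ttblE6_3) [1]))) = polyE6 := by
  rw [stepPolyTE6_0, stepPolyTE6_1, stepPolyTE6_2, stepPolyTE6_3]
  decide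

theorem polyE6_mul : mulP polyE6 [1, 2, 1] = mulP (degPoly [2, 6, 8, 12])
    (mulP [1, 0, 0, 0, 0, 1] [1, 0, 0, 0, 0, 0, 0, 0, 0, 1]) := by
  decide

theorem poincT_E6 (q : ℕ) : poincT chevE6 hE6 orbits q = evalP polyE6 q := by
  rw [← polyE6_eq]
  have hK : orbits = ttblKE6_0 := rfl
  rw [hK]
  have hsub0 : ∀ J ∈ ttblKE6_0, J ∈ orbits := by decide
  have hsub1 : ∀ J ∈ ttblKE6_1, J ∈ orbits := by decide
  have hsub2 : ∀ J ∈ ttblKE6_2, J ∈ orbits := by decide
  have hsub3 : ∀ J ∈ ttblKE6_3, J ∈ orbits := by decide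
  have hlen0 : ttblE6_0.length = 24 := by decide
  apply poincT_chain_step chevE6 hE6 ttblKE6_0 ttblJE6_0 (by decide)
    (fun J hJ => orbsOK6.wd J (hsub0 J hJ)) (fun J hJ => hinv6 J (hsub0 J hJ))
    ttblE6_0 (by rw [hlen0]; norm_num) (fun t ht => chkTTblE6_0 t (by rw [hlen0] at ht; exact ht))
    rfl chkTTblE6_0_nd q
  show poincT chevE6 hE6 ttblKE6_1 q = _
  have hlen1 : ttblE6_1.length = 8 := by decide
  apply poincT_chain_step chevE6 hE6 ttblKE6_1 ttblJE6_1 (by decide)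
    (fun J hJ => orbsOK6.wd J (hsub1 J hJ)) (fun J hJ => hinv6 J (hsub1 J hJ))
    ttblE6_1 (by rw [hlen1]; norm_num) (fun t ht => chkTTblE6_1 t (by rw [hlen1] at ht; exact ht))
    rfl chkTTblE6_1_nd q
  show poincT chevE6 hE6 ttblKE6_2 q = _
  have hlen2 : ttblE6_2.length = 3 := by decide
  apply poincT_chain_step chevE6 hE6 ttblKE6_2 ttblJE6_2 (by decide)
    (fun J hJ => orbsOK6.wd J (hsub2 J hJ)) (fun J hJ => hinv6 J (hsub2 J hJ))
    ttblE6_2 (by rw [hlen2]; norm_num) (fun t ht => chkTTblE6_2 t (by rw [hlen2] at ht; exact ht))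
    rfl chkTTblE6_2_nd q
  show poincT chevE6 hE6 ttblKE6_3 q = _
  have hlen3 : ttblE6_3.length = 2 := by decide
  apply poincT_chain_step chevE6 hE6 ttblKE6_3 ttblJE6_3 (by decide)
    (fun J hJ => orbsOK6.wd J (hsub3 J hJ)) (fun J hJ => hinv6 J (hsub3 J hJ))
    ttblE6_3 (by rw [hlen3]; norm_num) (fun t ht => chkTTblE6_3 t (by rw [hlen3] at ht; exact ht))
    rfl chkTTblE6_3_nd q
  show poincT chevE6 hE6 [] q = _
  rw [poincT_nil]
  simp [evalP]

section

variable {K : Type*} [Field K] {q : ℕ} (f : K →+* K) (hf : ∀ x, f x = x ^ q)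
  (hf2 : ∀ x, f (f x) = x)

include hf hf2 in
/-- the fixed points of `σ` in `H` lie in the twisted group -/
theorem diag_fix_le_twisted :
    chevE6.diagonalSubgroup K ⊓ sigmaFix chevE6 gE6 chkGraphPerm_gE6 f ≤ twistedE6 K q := by
  have h1 := diag_fix_le chevE6 hE6 gE6 chkGraphPerm_gE6 (fun r hr => chkGraph_gE6 r hr) f rho6
    hrho6 (hfix6 f hf2)
  rw [← diag_inf_twisted f hf hf2] at h1
  exact le_trans h1 inf_le_right

include hf hf2 in
theorem diag_inf_twisted_eq_fix : chevE6.diagonalSubgroup K ⊓ twistedE6 K q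
    = chevE6.diagonalSubgroup K ⊓ sigmaFix chevE6 gE6 chkGraphPerm_gE6 f :=
  le_antisymm (inf_le_inf_left _ (twisted_le_fix f hf hf2))
    (le_inf inf_le_left (diag_fix_le_twisted f hf hf2))

omit f in
theorem twisted_le_group : twistedE6 K q ≤ chevE6.group K := by
  unfold twistedE6 ChevalleyDatum.genSubgroup
  rw [Subgroup.closure_le]
  rintro g ⟨w, _, hg⟩
  exact mem_group_of_val_eq_wordMat chevE6 hE6 g w hg

include hf hf2 in
/-- the twisted group is the group of the fixed points of `σ` -/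
theorem twisted_eq_fix6 [Fintype K] :
    twistedE6 K q = chevE6.group K ⊓ sigmaFix chevE6 gE6 chkGraphPerm_gE6 f :=
  twisted_eq_fix chevE6 hE6 gE6 chkGraphPerm_gE6 (fun r hr => chkGraph_gE6 r hr) sigmaOK_gE6 f
    rho6 hrho6 orbits orbsOK6 (twistedE6 K q)
    (le_inf twisted_le_group (twisted_le_fix f hf hf2))
    (pos_fix_le_twisted f hf hf2) (diag_fix_le_twisted f hf hf2) (nJ_mem f hf)

end

/-- `|²E₆(q)| = q³⁶ |H¹| ∑_{w ∈ W¹} q^{N(w)}` -/
theorem card_twisted {K : Type*} [Field K] [Fintype K] {q : ℕ} (hq : IsPrimePow q)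
    (hK : Fintype.card K = q ^ 2) :
    Nat.card ↥(twistedE6 K q) =
      q ^ 36 * Nat.card ↥(chevE6.diagonalSubgroup K ⊓ twistedE6 K q) * evalP polyE6 q := by
  obtain ⟨f, hf, hfm⟩ := FrobFix.exists_frob hq (by norm_num : 2 ≠ 0) hK
  have hf2 : ∀ x, f (f x) = x := fun x => hfm x
  have hfm' : ∀ x, (f ^ twE6.m) x = x := by
    intro x
    show (f ^ 2) x = x
    rw [pow_two]
    exact hf2 x
  have c1 : Nat.card {x : K // f x = x} = q := by
    have := FrobFix.card_fixed (K := K) (q := q) (m := 2) hq.two_le hK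
    simpa only [hf] using this
  have c2 : Nat.card K = q ^ twE6.m := by rw [Nat.card_eq_fintype_card, hK]; rfl
  have hU : Nat.card ↥(twE6.D.posUnipotent K ⊓ sigmaFix twE6.D twE6.G chkGraphPerm_gE6 f)
      = q ^ (twE6.D.nroots / 2) := by
    have := card_pos_twisted hq hK
    rw [pos_inf_twisted f hf hf2] at this
    exact this
  have hn : ∀ J ∈ orbits, wGL twE6.D hE6 J ∈ sigmaFix twE6.D twE6.G chkGraphPerm_gE6 f :=
    fun J hJ => twisted_le_fix f hf hf2 (nJ_mem f hf J hJ)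
  have h := card_fix_group twE6 twE6_ok hE6 chkGraphPerm_gE6 hG6 sigmaOK_gE6 f rho6 hrho6 orbits
    orbsOK6 hn hfm' q (by have := hq.two_le; omega) c1 c2 hsz6 hU
  rw [diag_inf_twisted_eq_fix f hf hf2]
  have e : Nat.card ↥(twistedE6 K q)
      = Nat.card ↥(chevE6.group K ⊓ sigmaFix chevE6 gE6 chkGraphPerm_gE6 f) := by
    rw [← twisted_eq_fix6 f hf hf2]
  rw [e, ← poincT_E6]
  exact h

end Cfsg.Agent.Lib.Helper5.Tw2E6
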