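import Mathlib
import Cfsg.Agent.Lib.Helper1.BrandtDefs

/-!
# Brandt's theorem (S4607), piece RT2 (core, with the codimension formula RT1 as a hypothesis)

A finite-dimensional algebra `A` over an algebraically closed field with a symmetric
nondegenerate form, a 2-dimensional centre without nontrivial idempotents, and with
`codim [A,A] = dim Z(A)`, has `A / rad A` a single matrix algebra and `rad A ≠ 0`.
-/

set_option autoImplicit false
set_option linter.style.haveILetI false
set_option linter.unusedSectionVars false

namespace Cfsg.Agent.Lib.Helper1.Brandt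

universe u v

namespace RT2aux

/-- a product of `m` elements of a left ideal lies in its `m`-th power -/
theorem prod_mem_pow {A : Type u} [Ring A] (J : Ideal A) :
    ∀ (m : ℕ) (f : Fin m → A), (∀ i, f i ∈ J) → (List.ofFn f).prod ∈ J ^ m := by
  intro m
  induction m with
  | zero =>
    intro f _
    rw [Submodule.pow_zero, Ideal.one_eq_top]
    trivial
  | succ m ih =>
    intro f hf
    rw [List.ofFn_succ', List.concat_eq_append, List.prod_append, List.prod_singleton,
      Submodule.pow_succ]
    exact Ideal.mul_mem_mul (ih _ (fun i => hf i.castSucc)) (hf (Fin.last m))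

theorem rt2_of_codim {K : Type v} {A : Type u} [Field K] [IsAlgClosed K] [Ring A] [Algebra K A]
    [FiniteDimensional K A]
    (lam : A →ₗ[K] K) (hsymm : ∀ a b : A, lam (a * b) = lam (b * a))
    (hnd : ∀ a : A, a ≠ 0 → ∃ b : A, lam (a * b) ≠ 0)
    (hZ : Module.finrank K (Subalgebra.center K A) = 2)
    (hidem : ∀ f ∈ Subalgebra.center K A, f * f = f → f = 0 ∨ f = 1)
    (hcodim : Module.finrank K (Subalgebra.center K A) +
      Module.finrank K (Submodule.span K {x : A | ∃ a b : A, x = a * b - b * a}) =
      Module.finrank K A) :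
    ∃ (n : ℕ) (π : A →ₐ[K] Matrix (Fin n) (Fin n) K), 0 < n ∧ Function.Surjective π ∧
      KerNilp π ∧ ∃ a : A, a ≠ 0 ∧ π a = 0 := by
  classical
  haveI : IsArtinianRing A := IsArtinianRing.of_finite K A
  have hnil : IsNilpotent (Ring.jacobson A) := IsSemiprimaryRing.isNilpotent
  obtain ⟨m, hm⟩ := hnil
  obtain ⟨r, d, hd, ⟨φ⟩⟩ :=
    IsSemisimpleRing.exists_algEquiv_pi_matrix_of_isAlgClosed K (A ⧸ Ring.jacobson A)
  set J := Ring.jacobson A with hJdef
  let π0 : A →ₐ[K] (Π i, Matrix (Fin (d i)) (Fin (d i)) K) :=
    φ.toAlgHom.comp (Ideal.Quotient.mkₐ K J)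
  have hπ0surj : Function.Surjective π0 :=
    φ.surjective.comp (Ideal.Quotient.mkₐ_surjective K J)
  have hπ0ker : ∀ a, π0 a = 0 ↔ a ∈ J := by
    intro a
    show φ (Ideal.Quotient.mk J a) = 0 ↔ _
    rw [EmbeddingLike.map_eq_zero_iff]
    exact Ideal.Quotient.eq_zero_iff_mem
  -- `A` is nontrivial
  have hAnt : Nontrivial A := by
    by_contra h
    rw [not_nontrivial_iff_subsingleton] at h
    have : Module.finrank K (Subalgebra.center K A) = 0 := Module.finrank_zero_of_subsingleton
    omega
  -- a product of `m` elements of `J` vanishes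
  have hJprod : ∀ f : Fin m → A, (∀ i, f i ∈ J) → (List.ofFn f).prod = 0 := by
    intro f hf
    have h1 := prod_mem_pow J m f hf
    rw [hm] at h1
    simpa using h1
  -- the trace map
  let T : A →ₗ[K] (Fin r → K) :=
    LinearMap.pi (fun i => (Matrix.traceLinearMap (Fin (d i)) K K).comp
      ((LinearMap.proj i).comp π0.toLinearMap))
  have hT : ∀ a i, T a i = Matrix.trace (π0 a i) := fun a i => rfl
  have hTsurj : Function.Surjective T := by
    intro v
    obtain ⟨a, ha⟩ := hπ0surj (fun i => haveI := hd i
      v i • Matrix.single (0 : Fin (d i)) (0 : Fin (d i)) (1 : K))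
    refine ⟨a, ?_⟩
    funext i
    rw [hT, ha]
    simp
  set W : Submodule K A := Submodule.span K {x : A | ∃ a b : A, x = a * b - b * a} with hW
  have hWle : W ≤ LinearMap.ker T := by
    rw [hW, Submodule.span_le]
    rintro x ⟨a, b, rfl⟩
    rw [SetLike.mem_coe, LinearMap.mem_ker]
    funext i
    rw [hT, map_sub, map_mul, map_mul, Pi.sub_apply, Pi.mul_apply, Pi.mul_apply,
      Matrix.trace_sub, Matrix.trace_mul_comm, sub_self]
    rfl
  have hrk : r + Module.finrank K (LinearMap.ker T) = Module.finrank K A := by
    have h1 := LinearMap.finrank_range_add_finrank_ker T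
    rw [LinearMap.range_eq_top.mpr hTsurj, finrank_top, Module.finrank_fin_fun] at h1
    exact h1
  have hWfin : Module.finrank K W ≤ Module.finrank K (LinearMap.ker T) :=
    Submodule.finrank_mono hWle
  have hr2 : r ≤ 2 := by omega
  -- `lam` vanishes on `W`
  have hlamW : ∀ x ∈ W, lam x = 0 := by
    intro x hx
    induction hx using Submodule.span_induction with
    | mem x hx =>
      obtain ⟨a, b, rfl⟩ := hx
      rw [map_sub, hsymm a b, sub_self]
    | zero => simp
    | add x y _ _ hx hy => rw [map_add, hx, hy, add_zero]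
    | smul c x _ hx => rw [map_smul, hx, smul_zero]
  have hr : r = 0 ∨ r = 1 ∨ r = 2 := by omega
  rcases hr with hr | hr | hr
  · -- `r = 0`: impossible
    exfalso
    have h1 : π0 1 = 0 := by
      funext i
      exact absurd i.2 (by omega)
    have h2 : (1 : A) ∈ J := (hπ0ker 1).mp h1
    have h3 := hJprod (fun _ => 1) (fun _ => h2)
    simp at h3
  · -- `r = 1`
    have hi : ∀ i : Fin r, i = ⟨0, by omega⟩ := fun i => Fin.ext (by have := i.2; simp; omega)
    set i0 : Fin r := ⟨0, by omega⟩ with hi0
    let π : A →ₐ[K] Matrix (Fin (d i0)) (Fin (d i0)) K :=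
      (Pi.evalAlgHom K (fun i => Matrix (Fin (d i)) (Fin (d i)) K) i0).comp π0
    have hπ : ∀ a, π a = π0 a i0 := fun a => rfl
    have hπker : ∀ a, π a = 0 ↔ a ∈ J := by
      intro a
      rw [← hπ0ker, hπ]
      constructor
      · intro h
        funext i
        rw [hi i]
        exact h
      · intro h
        rw [h]
        rfl
    have hπsurj : Function.Surjective π := by
      intro M
      obtain ⟨a, ha⟩ := hπ0surj (fun i => (hi i) ▸ M)
      refine ⟨a, ?_⟩
      rw [hπ, ha]
    refine ⟨d i0, π, Nat.pos_of_ne_zero (hd i0).out, hπsurj, ⟨m, fun f hf => ?_⟩, ?_⟩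
    · exact hJprod f (fun i => (hπker _).mp (hf i))
    · by_contra hcon
      push Not at hcon
      have hinj : Function.Injective π := by
        intro a b hab
        have h1 : π (a - b) = 0 := by rw [map_sub, hab, sub_self]
        have h2 := hcon (a - b)
        by_contra hne
        exact h2 (sub_ne_zero.mpr hne) h1
      have hle : Subalgebra.center K A ≤ ⊥ := by
        intro z hz
        rw [Subalgebra.mem_center_iff] at hz
        have h1 : π z ∈ Set.center (Matrix (Fin (d i0)) (Fin (d i0)) K) := by
          rw [Semigroup.mem_center_iff]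
          intro M
          obtain ⟨a, rfl⟩ := hπsurj M
          rw [← map_mul, ← map_mul, hz a]
        rw [Matrix.center_eq_range] at h1
        obtain ⟨c, hc⟩ := h1
        rw [Algebra.mem_bot]
        refine ⟨c, hinj ?_⟩
        rw [← hc, AlgHom.commutes]
        rfl
      have h1 : Module.finrank K (Subalgebra.center K A) ≤ 1 := by
        have h2 : Subalgebra.center K A = ⊥ := le_antisymm hle bot_le
        rw [h2, Subalgebra.finrank_bot]
      omega
  · -- `r = 2`: impossible
    exfalso
    set i0 : Fin r := ⟨0, by omega⟩ with hi0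
    set i1 : Fin r := ⟨1, by omega⟩ with hi1
    have hi01 : i1 ≠ i0 := by
      intro h
      have := congrArg Fin.val h
      simp [hi0, hi1] at this
    have hWeq : W = LinearMap.ker T :=
      Submodule.eq_of_le_of_finrank_eq hWle (by omega)
    have hJW : ∀ j ∈ J, j ∈ W := by
      intro j hj
      rw [hWeq, LinearMap.mem_ker]
      funext i
      rw [hT, (hπ0ker j).mpr hj]
      simp
    have hJ0 : ∀ j ∈ J, j = 0 := by
      intro j hj
      by_contra hne
      obtain ⟨b, hb⟩ := hnd j hne
      exact hb (hlamW _ (hJW _ (J.mul_mem_right b hj)))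
    have hinj : Function.Injective π0 := by
      intro a b hab
      have h1 : π0 (a - b) = 0 := by rw [map_sub, hab, sub_self]
      exact sub_eq_zero.mp (hJ0 _ ((hπ0ker _).mp h1))
    obtain ⟨f, hf⟩ := hπ0surj (Pi.single i0 1)
    have hcomm : ∀ x : (Π i, Matrix (Fin (d i)) (Fin (d i)) K),
        x * Pi.single i0 1 = Pi.single i0 1 * x := by
      intro x
      funext i
      by_cases h : i = i0
      · subst h
        simp
      · simp [Pi.single_eq_of_ne h]
    have hfc : f ∈ Subalgebra.center K A := by
      rw [Subalgebra.mem_center_iff]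
      intro b
      apply hinj
      rw [map_mul, map_mul, hf, hcomm]
    have hff : f * f = f := by
      apply hinj
      rw [map_mul, hf]
      funext i
      by_cases h : i = i0
      · subst h
        simp
      · simp [Pi.single_eq_of_ne h]
    haveI := hd i0
    haveI := hd i1
    rcases hidem f hfc hff with h0 | h1
    · have h2 : π0 f i0 (0 : Fin (d i0)) (0 : Fin (d i0)) = 1 := by
        rw [hf]
        simp
      rw [h0, map_zero] at h2
      simp at h2
    · have h2 : π0 f i1 (0 : Fin (d i1)) (0 : Fin (d i1)) = 0 := by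
        rw [hf, Pi.single_eq_of_ne hi01]
        rfl
      rw [h1, map_one] at h2
      simp at h2

end RT2aux

end Cfsg.Agent.Lib.Helper1.Brandt
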