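import Mathlib
import Cfsg.Agent.Lib.Helper1.BrandtDefs
import Cfsg.Agent.Lib.Helper8.BrandtRT1
import Cfsg.Agent.Lib.Helper5.BrandtRT2a

/-!
# Brandt's theorem (S4607), piece RT2 (verbatim statement of helper1's farm)
-/

set_option autoImplicit false

namespace Cfsg.Agent.Lib.Helper1.Brandt

universe u v

/-- RT2 -/
theorem rt2 {K : Type v} {A : Type u} [Field K] [IsAlgClosed K] [Ring A] [Algebra K A]
    [FiniteDimensional K A]
    (lam : A →ₗ[K] K) (hsymm : ∀ a b : A, lam (a * b) = lam (b * a))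
    (hnd : ∀ a : A, a ≠ 0 → ∃ b : A, lam (a * b) ≠ 0)
    (hZ : Module.finrank K (Subalgebra.center K A) = 2)
    (hidem : ∀ f ∈ Subalgebra.center K A, f * f = f → f = 0 ∨ f = 1) :
    ∃ (n : ℕ) (π : A →ₐ[K] Matrix (Fin n) (Fin n) K), 0 < n ∧ Function.Surjective π ∧
      KerNilp π ∧ ∃ a : A, a ≠ 0 ∧ π a = 0 :=
  RT2aux.rt2_of_codim lam hsymm hnd hZ hidem (rt1 lam hsymm hnd)

end Cfsg.Agent.Lib.Helper1.Brandt
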