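import Mathlib
import Cfsg.Prelude.Def_ChevStructure
import Cfsg.Prelude.Def_ChevAutomorphisms
import Cfsg.Agent.Lib.Helper5.ChevCharDiag2

set_option autoImplicit false

/-!
S2318 farm, definitions: the group `Ĥ` of all diagonal matrices `ĥ(χ)` (χ a character of the root
lattice), the extended group `Ĝ = G Ĥ` and its Borel subgroup `B̂ = B Ĥ`.
-/

namespace Cfsg.Agent.Lib.Helper5.StUniq

open Cfsg Cfsg.Lie Cfsg.Agent.Lib.Helper5.ChevSym Cfsg.Agent.Lib.Helper5.ChevStruct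
open scoped Pointwise

variable {F : Type*} [Field F]

theorem isRootCharacter_mul (D : ChevalleyDatum) (χ χ' : ℕ → Fˣ) (h : D.IsRootCharacter χ)
    (h' : D.IsRootCharacter χ') : D.IsRootCharacter (fun r => χ r * χ' r) := by
  refine ⟨fun r hr => ?_, fun r s k hr hs hk => ?_⟩
  · show χ (D.neg r) * χ' (D.neg r) = (χ r * χ' r)⁻¹
    rw [h.1 r hr, h'.1 r hr, mul_inv]
  · show χ k * χ' k = (χ r * χ' r) * (χ s * χ' s)
    rw [h.2 r s k hr hs hk, h'.2 r s k hr hs hk]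
    exact mul_mul_mul_comm _ _ _ _

theorem isRootCharacter_one (D : ChevalleyDatum) : D.IsRootCharacter (fun _ => (1 : Fˣ)) :=
  ⟨fun _ _ => by simp, fun _ _ _ _ _ _ => by simp⟩

theorem isRootCharacter_inv (D : ChevalleyDatum) (χ : ℕ → Fˣ) (h : D.IsRootCharacter χ) :
    D.IsRootCharacter (fun r => (χ r)⁻¹) := by
  refine ⟨fun r hr => ?_, fun r s k hr hs hk => ?_⟩
  · show (χ (D.neg r))⁻¹ = ((χ r)⁻¹)⁻¹
    rw [h.1 r hr]
  · show (χ k)⁻¹ = (χ r)⁻¹ * (χ s)⁻¹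
    rw [h.2 r s k hr hs hk, mul_inv]

theorem charDiag_mul (D : ChevalleyDatum) (χ χ' : ℕ → Fˣ) :
    D.charDiag F χ * D.charDiag F χ' = D.charDiag F (fun r => χ r * χ' r) := by
  unfold ChevalleyDatum.charDiag
  rw [Matrix.diagonal_mul_diagonal]
  congr 1
  funext j
  rcases j with i | s <;> simp

theorem charDiag_one (D : ChevalleyDatum) : D.charDiag F (fun _ => (1 : Fˣ)) = 1 := by
  unfold ChevalleyDatum.charDiag
  rw [← Matrix.diagonal_one]
  congr 1
  funext j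
  rcases j with i | s <;> simp

/-- `Ĥ`: the diagonal matrices `ĥ(χ)`, `χ` a character of the root lattice -/
def Hhat (D : ChevalleyDatum) (F : Type*) [Field F] : Subgroup (GL D.Idx F) where
  carrier := {g | ∃ χ : ℕ → Fˣ, D.IsRootCharacter χ ∧
    (g : Matrix D.Idx D.Idx F) = D.charDiag F χ}
  mul_mem' := by
    rintro a b ⟨χ, hχ, ha⟩ ⟨χ', hχ', hb⟩
    exact ⟨_, isRootCharacter_mul D χ χ' hχ hχ', by rw [Units.val_mul, ha, hb, charDiag_mul]⟩
  one_mem' := ⟨_, isRootCharacter_one D, by rw [Units.val_one, charDiag_one]⟩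
  inv_mem' := by
    rintro a ⟨χ, hχ, ha⟩
    refine ⟨_, isRootCharacter_inv D χ hχ, ?_⟩
    apply val_inv_eq_of_mul_eq_one
    rw [ha]
    exact charDiag_mul_inv D χ

theorem mem_Hhat (D : ChevalleyDatum) (g : GL D.Idx F) :
    g ∈ Hhat D F ↔ ∃ χ : ℕ → Fˣ, D.IsRootCharacter χ ∧
      (g : Matrix D.Idx D.Idx F) = D.charDiag F χ := Iff.rfl

/-- `Ĥ` is abelian -/
theorem Hhat_comm (D : ChevalleyDatum) (a b : GL D.Idx F) (ha : a ∈ Hhat D F)
    (hb : b ∈ Hhat D F) : a * b = b * a := by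
  obtain ⟨χ, _, ea⟩ := ha
  obtain ⟨χ', _, eb⟩ := hb
  apply Units.ext
  rw [Units.val_mul, Units.val_mul, ea, eb, charDiag_mul, charDiag_mul]
  congr 1
  funext r
  exact mul_comm _ _

/-- the conjugation formula `ĥ x_r(t) ĥ⁻¹ = x_r(χ(r) t)` inside `GL` -/
theorem Hhat_conj_x (D : ChevalleyDatum) (hD : D ∈ Seven) (χ : ℕ → Fˣ)
    (hχ : D.IsRootCharacter χ) (g : GL D.Idx F)
    (hg : (g : Matrix D.Idx D.Idx F) = D.charDiag F χ) (r : ℕ) (hr : r < D.nroots) (t : F)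
    (x : GL D.Idx F) (hx : (x : Matrix D.Idx D.Idx F) = D.x F r t) :
    ((g * x * g⁻¹ : GL D.Idx F) : Matrix D.Idx D.Idx F) = D.x F r ((χ r : F) * t) := by
  have hinv : ((g⁻¹ : GL D.Idx F) : Matrix D.Idx D.Idx F) = D.charDiag F (fun s => (χ s)⁻¹) := by
    apply val_inv_eq_of_mul_eq_one
    rw [hg]
    exact charDiag_mul_inv D χ
  rw [Units.val_mul, Units.val_mul, hg, hx, hinv]
  exact charDiag_conj D hD χ hχ r hr t

/-- `Ĥ` normalises `G` -/
theorem Hhat_conj_group (D : ChevalleyDatum) (hD : D ∈ Seven) (h : GL D.Idx F)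
    (hh : h ∈ Hhat D F) (g : GL D.Idx F) (hg : g ∈ D.group F) : h * g * h⁻¹ ∈ D.group F := by
  obtain ⟨χ, hχ, e⟩ := hh
  unfold ChevalleyDatum.group at hg
  induction hg using Subgroup.closure_induction with
  | mem y hy =>
    obtain ⟨r, t, hy⟩ := hy
    have hyx : (y : Matrix D.Idx D.Idx F) = D.x F r.val t := by
      rw [hy]
      unfold ChevalleyDatum.x
      rw [dif_pos r.2]
    have h1 := Hhat_conj_x D hD χ hχ h e r.val r.2 t y hyx
    exact mem_group_of_val_eq_wordMat D hD _ [(r.val, (χ r.val : F) * t)]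
      (by rw [h1, wordMat_single])
  | one =>
    simp only [mul_one, mul_inv_cancel]
    exact one_mem _
  | mul a b _ _ ha hb =>
    have e' : h * (a * b) * h⁻¹ = (h * a * h⁻¹) * (h * b * h⁻¹) := by group
    rw [e']
    exact mul_mem ha hb
  | inv a _ ha =>
    have e' : h * a⁻¹ * h⁻¹ = (h * a * h⁻¹)⁻¹ := by group
    rw [e']
    exact inv_mem ha

/-- `Ĥ` normalises `U` -/
theorem Hhat_conj_pos (D : ChevalleyDatum) (hD : D ∈ Seven) (h : GL D.Idx F)
    (hh : h ∈ Hhat D F) (u : GL D.Idx F) (hu : u ∈ D.posUnipotent F) :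
    h * u * h⁻¹ ∈ D.posUnipotent F := by
  obtain ⟨χ, hχ, e⟩ := hh
  exact charDiag_conj_pos D hD χ hχ h e u hu

theorem Hhat_le_normalizer_group (D : ChevalleyDatum) (hD : D ∈ Seven) :
    Hhat D F ≤ Subgroup.normalizer (D.group F : Set (GL D.Idx F)) := by
  intro h hh
  rw [Subgroup.mem_normalizer_iff]
  intro g
  refine ⟨fun hg => Hhat_conj_group D hD h hh g hg, fun hg => ?_⟩
  have := Hhat_conj_group D hD h⁻¹ (inv_mem hh) _ hg
  have e : h⁻¹ * (h * g * h⁻¹) * h⁻¹⁻¹ = g := by group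
  rwa [e] at this

theorem Hhat_le_normalizer_pos (D : ChevalleyDatum) (hD : D ∈ Seven) :
    Hhat D F ≤ Subgroup.normalizer (D.posUnipotent F : Set (GL D.Idx F)) := by
  intro h hh
  rw [Subgroup.mem_normalizer_iff]
  intro g
  refine ⟨fun hg => Hhat_conj_pos D hD h hh g hg, fun hg => ?_⟩
  have := Hhat_conj_pos D hD h⁻¹ (inv_mem hh) _ hg
  have e : h⁻¹ * (h * g * h⁻¹) * h⁻¹⁻¹ = g := by group
  rwa [e] at this

/-- `Ĝ = G Ĥ` -/
def Ghat (D : ChevalleyDatum) (F : Type*) [Field F] : Subgroup (GL D.Idx F) :=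
  D.group F ⊔ Hhat D F

/-- `B̂ = U Ĥ` (note `H ≤ Ĥ` is not needed: we add `H` by hand) -/
def Bhat (D : ChevalleyDatum) (F : Type*) [Field F] : Subgroup (GL D.Idx F) :=
  D.borelSubgroup F ⊔ Hhat D F

theorem group_le_Ghat (D : ChevalleyDatum) : D.group F ≤ Ghat D F := le_sup_left

theorem Hhat_le_Ghat (D : ChevalleyDatum) : Hhat D F ≤ Ghat D F := le_sup_right

theorem borel_le_Bhat (D : ChevalleyDatum) : D.borelSubgroup F ≤ Bhat D F := le_sup_left

theorem Hhat_le_Bhat (D : ChevalleyDatum) : Hhat D F ≤ Bhat D F := le_sup_right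

theorem Bhat_le_Ghat (D : ChevalleyDatum) (hD : D ∈ Seven) : Bhat D F ≤ Ghat D F :=
  sup_le ((borel_le_group D hD).trans le_sup_left) le_sup_right

/-- every element of `Ĝ` is `g₀ ĥ` -/
theorem mem_Ghat_iff (D : ChevalleyDatum) (hD : D ∈ Seven) (g : GL D.Idx F) :
    g ∈ Ghat D F ↔ ∃ g₀ ∈ D.group F, ∃ h ∈ Hhat D F, g = g₀ * h := by
  have hc : ((D.group F ⊔ Hhat D F : Subgroup (GL D.Idx F)) : Set (GL D.Idx F))
      = (D.group F : Set (GL D.Idx F)) * (Hhat D F : Set (GL D.Idx F)) :=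
    Subgroup.coe_mul_of_right_le_normalizer_left _ _ (Hhat_le_normalizer_group D hD)
  constructor
  · intro hg
    have hg' : g ∈ ((D.group F ⊔ Hhat D F : Subgroup (GL D.Idx F)) : Set (GL D.Idx F)) := hg
    rw [hc] at hg'
    obtain ⟨a, ha, b, hb, e⟩ := Set.mem_mul.1 hg'
    exact ⟨a, ha, b, hb, e.symm⟩
  · rintro ⟨a, ha, b, hb, rfl⟩
    exact mul_mem (Subgroup.mem_sup_left ha) (Subgroup.mem_sup_right hb)

end Cfsg.Agent.Lib.Helper5.StUniq
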