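import Mathlib
import Cfsg.Prelude.Def_LieTwisted
import Cfsg.Agent.Lib.Helper5.Tw3D4U
import Cfsg.Agent.Lib.Helper5.ChevTwistTorus
import Cfsg.Agent.Lib.Helper5.ChevTorusKer
import Cfsg.Agent.Lib.Helper5.MatPowKer
import Cfsg.Agent.Lib.Helper5.TwistCoh

set_option autoImplicit false

/-!
The diagonal subgroup of `³D₄(q)`: `H ∩ ³D₄(q)` is the image of the `σ`-stable parameters, of order
`(q - 1)(q^3 - 1)`.
-/

namespace Cfsg.Agent.Lib.Helper5.Tw3D4

open Cfsg Cfsg.Lie Cfsg.Agent.Lib.Helper5.ChevStruct Cfsg.Agent.Lib.Helper5.ChevSym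
  Cfsg.Agent.Lib.Helper5.MatPow

/-- the symmetry of the diagram -/
def rho4 : Equiv.Perm (Fin 4) := Equiv.swap 0 2 * Equiv.swap 2 3

set_option maxRecDepth 100000 in
theorem hrho4 : ∀ i : Fin 4,
    gD4a.pr.getD (chevD4.simple i) 0 = chevD4.simple (rho4 i) ∧
    gD4a.pr.getD (chevD4.neg (chevD4.simple i)) 0 = chevD4.neg (chevD4.simple (rho4 i)) ∧
    gD4a.eps.getD (chevD4.simple i) 1 = 1 ∧ gD4a.eps.getD (chevD4.neg (chevD4.simple i)) 1 = 1 ∧
    chevD4.simple i < chevD4.nroots ∧ chevD4.neg (chevD4.simple i) < chevD4.nroots := by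
  decide +kernel

theorem rho4_cube : ∀ i : Fin 4, rho4.symm (rho4.symm (rho4.symm i)) = i := by decide

theorem orbits_perm : orbits.flatten.Perm (List.range chevD4.rank) := by decide

theorem rhoN_vals : rhoN 4 rho4 0 = 2 ∧ rhoN 4 rho4 1 = 1 ∧ rhoN 4 rho4 2 = 3 ∧
    rhoN 4 rho4 3 = 0 := by decide

theorem rho4_symm_vals : rho4.symm 0 = 3 ∧ rho4.symm 1 = 1 ∧ rho4.symm 2 = 0 ∧
    rho4.symm 3 = 2 := by decide

section

variable {K : Type*} [Field K] {q : ℕ} (f : K →+* K) (hf : ∀ x, f x = x ^ q)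
  (hf3 : ∀ x, f (f (f x)) = x)

include hf3 in
theorem sigC_cube (c : Fin 4 → Kˣ) : sigC 4 rho4 f (sigC 4 rho4 f (sigC 4 rho4 f c)) = c := by
  funext j
  apply Units.ext
  rw [sigC_apply, sigC_apply, sigC_apply, hf3, rho4_cube]

/-- the exponent of the kernel of the torus homomorphism -/
theorem ker_pow_two (y : Fin chevD4.rank → Kˣ) (h : torHom chevD4 K y = 1) : y ^ 2 = 1 := by
  have h1 : y ∈ (torHom chevD4 K).ker := h
  rw [mem_ker_torHom_iff chevD4 hD4] at h1
  exact ker_mpow_pow_eq_one chevD4.rank (cartanFn chevD4) smPD4 smP'D4 smQD4 smQ'D4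
    [1, 1, 2, 2] (by decide +kernel) (by decide +kernel) (by decide +kernel) 2
    (by decide) y h1

include hf3 in
theorem hfix4 (c : Fin chevD4.rank → Kˣ)
    (h : torHom chevD4 K (sigC chevD4.rank rho4 f c) = torHom chevD4 K c) :
    ∃ c', torHom chevD4 K c' = torHom chevD4 K c ∧ sigC chevD4.rank rho4 f c' = c' := by
  refine TwistCoh.exists_fixed_three (sigC chevD4.rank rho4 f) (torHom chevD4 K) (sigC_cube f hf3)
    ker_pow_two ?_ c h
  intro y hy
  rw [← sigma_torHom chevD4 hD4 gD4a chkGraphPerm_gD4a (fun r hr => chkGraph_gD4a r hr) f rho4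
    hrho4 y, hy, map_one]

include hf in
theorem hgen4 : ∀ J ∈ orbits, ∀ s : ℕ → K, (∀ i ∈ J, s (rhoN chevD4.rank rho4 i) = f (s i)) →
    wordGL chevD4 hD4 (J.map fun i => (chevD4.simple i, s i)) ∈ twistedD4 K q ∧
    wordGL chevD4 hD4 (J.map fun i => (chevD4.neg (chevD4.simple i), s i)) ∈ twistedD4 K q := by
  obtain ⟨s0, s1, s2, s3, n0, n1, n2, n3⟩ := simple_vals
  obtain ⟨r0, r1, r2, r3⟩ := rhoN_vals
  intro J hJ s hs
  simp only [orbits, List.mem_cons, List.not_mem_nil, or_false] at hJ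
  rcases hJ with rfl | rfl
  · have h0 := hs 0 (by simp)
    have h2 := hs 2 (by simp)
    change s (rhoN 4 rho4 0) = f (s 0) at h0
    change s (rhoN 4 rho4 2) = f (s 2) at h2
    rw [r0] at h0
    rw [r2, h0, f_sq f hf] at h2
    rw [hf] at h0
    simp only [List.map_cons, List.map_nil, s0, s2, s3, n0, n2, n3, wordGL, List.prod_cons,
      List.prod_nil, mul_one, h0, h2]
    exact ⟨triple_mem (d4p1, d4p3, d4p4) (by simp) _, triple_mem (d4m1, d4m3, d4m4) (by simp) _⟩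
  · have h0 := hs 1 (by simp)
    change s (rhoN 4 rho4 1) = f (s 1) at h0
    rw [r1, hf] at h0
    simp only [List.map_cons, List.map_nil, s1, n1, wordGL, List.prod_cons, List.prod_nil, mul_one]
    exact ⟨single_mem d4p2 (by simp) _ h0.symm, single_mem d4m2 (by simp) _ h0.symm⟩

include hf hf3 in
/-- `H ∩ ³D₄(q)` is the image of the `σ`-stable parameters -/
theorem diag_inf_twisted : chevD4.diagonalSubgroup K ⊓ twistedD4 K q =
    ((sigC chevD4.rank rho4 f).eqLocus (MonoidHom.id _)).map (torHom chevD4 K) :=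
  diag_inf_eq chevD4 hD4 gD4a chkGraphPerm_gD4a (fun r hr => chkGraph_gD4a r hr) f rho4 hrho4
    (twistedD4 K q) (twisted_le_fix f hf hf3)
    (fun c hc => torHom_mem_of_orbits chevD4 hD4 rho4 f (twistedD4 K q) orbits orbits_perm
      (fun J hJ => ⟨orth_ok J hJ, orbits_nodup J hJ⟩) (hgen4 f hf) c hc)
    (hfix4 f hf3)

include hf in
theorem unitsMap_eq (u : Kˣ) : Units.map (f : K →* K) u = u ^ q := by
  apply Units.ext
  rw [Units.coe_map, Units.val_pow_eq_pow_val]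
  exact hf _

theorem sigC_apply' (c : Fin 4 → Kˣ) (j : Fin 4) :
    sigC 4 rho4 f c j = Units.map (f : K →* K) (c (rho4.symm j)) := rfl

theorem unitsMap_of_sq (u : Kˣ) (hu : u ^ 2 = 1) : Units.map (f : K →* K) u = u := by
  apply Units.ext
  rw [Units.coe_map]
  have h1 : (u : K) ^ 2 = 1 := by rw [← Units.val_pow_eq_pow_val, hu, Units.val_one]
  show f (u : K) = (u : K)
  rcases sq_eq_one_iff.1 h1 with h | h
  · rw [h, map_one]
  · rw [h, map_neg, map_one]

theorem zpow_of_sq (b : Kˣ) (hb : b ^ 2 = 1) : b ^ (-3 : ℤ) = b ∧ b ^ (-2 : ℤ) = 1 ∧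
    b ^ (-1 : ℤ) = b ∧ b ^ (2 : ℤ) = 1 := by
  refine ⟨?_, ?_, ?_, ?_⟩
  · rw [zpow_eq_zpow_emod' (-3) hb]; norm_num
  · rw [zpow_eq_zpow_emod' (-2) hb]; norm_num
  · rw [zpow_eq_zpow_emod' (-1) hb]; norm_num
  · rw [zpow_eq_zpow_emod' 2 hb]; norm_num

/-- the kernel of the torus homomorphism -/
theorem ker_torHom_imp (c : Fin chevD4.rank → Kˣ) (h : torHom chevD4 K c = 1) :
    ∃ a b : Kˣ, a ^ 2 = 1 ∧ b ^ 2 = 1 ∧ c = ![a, 1, a * b, b] := by
  have h0 : c ∈ (torHom chevD4 K).ker := h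
  rw [mem_ker_torHom_iff chevD4 hD4,
    mem_ker_mpow_of_check chevD4.rank (cartanFn chevD4) smPD4 smP'D4 smQD4 smQ'D4
      [1, 1, 2, 2] (by decide +kernel) (by decide +kernel) (by decide +kernel)] at h0
  obtain ⟨y, hy, rfl⟩ := h0
  have y0 : y (0 : Fin 4) = 1 := by simpa using hy (0 : Fin 4)
  have y1 : y (1 : Fin 4) = 1 := by simpa using hy (1 : Fin 4)
  have y2 : y (2 : Fin 4) ^ 2 = 1 := by simpa using hy (2 : Fin 4)
  have y3 : y (3 : Fin 4) ^ 2 = 1 := by simpa using hy (3 : Fin 4)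
  obtain ⟨a3, a2, a1, a0⟩ := zpow_of_sq _ y2
  obtain ⟨b3, b2, b1, b0⟩ := zpow_of_sq _ y3
  refine ⟨y (2 : Fin 4), y (3 : Fin 4), y2, y3, ?_⟩
  funext j
  show ∏ i : Fin 4, y i ^ (fmat (lfun smPD4) 4 i j) = _
  rw [Fin.prod_univ_four, y0, y1]
  simp only [one_zpow, one_mul]
  fin_cases j
  · show y (2 : Fin 4) ^ (-3 : ℤ) * y (3 : Fin 4) ^ (2 : ℤ) = y (2 : Fin 4)
    rw [a3, b0, mul_one]
  · show y (2 : Fin 4) ^ (-2 : ℤ) * y (3 : Fin 4) ^ (2 : ℤ) = 1
    rw [a2, b0, mul_one]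
  · show y (2 : Fin 4) ^ (-1 : ℤ) * y (3 : Fin 4) ^ (1 : ℤ) = y (2 : Fin 4) * y (3 : Fin 4)
    rw [a1, zpow_one]
  · show y (2 : Fin 4) ^ (0 : ℤ) * y (3 : Fin 4) ^ (1 : ℤ) = y (3 : Fin 4)
    rw [zpow_zero, zpow_one, one_mul]

/-- a `σ`-stable family in the kernel is trivial -/
theorem fixed_ker_trivial (c : Fin 4 → Kˣ) (h1 : sigC 4 rho4 f c = c)
    (h2 : torHom chevD4 K c = 1) : c = 1 := by
  obtain ⟨r0, r1, r2, r3⟩ := rho4_symm_vals
  obtain ⟨a, b, ha, hb, rfl⟩ := ker_torHom_imp c h2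
  have e2 := congrFun h1 (2 : Fin 4)
  have e3 := congrFun h1 (3 : Fin 4)
  rw [sigC_apply', r2] at e2
  rw [sigC_apply', r3] at e3
  have e2' : Units.map (f : K →* K) a = a * b := e2
  have e3' : Units.map (f : K →* K) (a * b) = b := e3
  rw [unitsMap_of_sq f a ha] at e2'
  have hb1 : b = 1 := by
    have : a * 1 = a * b := by rw [mul_one]; exact e2'
    exact (mul_left_cancel this).symm
  subst hb1
  rw [mul_one, unitsMap_of_sq f a ha] at e3'
  subst e3'
  funext j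
  fin_cases j <;> simp

include hf hf3 in
/-- the number of `σ`-stable families -/
theorem card_eqLocus [Fintype K] (hq : 2 ≤ q) (hK : Fintype.card K = q ^ 3) :
    Nat.card ((sigC 4 rho4 f).eqLocus (MonoidHom.id (Fin 4 → Kˣ)))
      = (q - 1) ^ 2 * (q ^ 2 + q + 1) := by
  obtain ⟨r0, r1, r2, r3⟩ := rho4_symm_vals
  have hfff : ∀ u : Kˣ, Units.map (f : K →* K) (Units.map (f : K →* K)
      (Units.map (f : K →* K) u)) = u := by
    intro u
    apply Units.ext
    rw [Units.coe_map, Units.coe_map, Units.coe_map]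
    exact hf3 _
  have e : ((sigC 4 rho4 f).eqLocus (MonoidHom.id (Fin 4 → Kˣ))) ≃
      Kˣ × {u : Kˣ // u ^ q = u} :=
    { toFun := fun c => (c.1 (0 : Fin 4),
        ⟨c.1 (1 : Fin 4), by
          have := congrFun c.2 (1 : Fin 4)
          rw [sigC_apply', r1, unitsMap_eq f hf] at this
          exact this⟩)
      invFun := fun p => ⟨![p.1, p.2.1, Units.map (f : K →* K) p.1,
          Units.map (f : K →* K) (Units.map (f : K →* K) p.1)], by
        show sigC 4 rho4 f _ = _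
        funext j
        rw [sigC_apply']
        fin_cases j
        · show Units.map (f : K →* K) ((![p.1, p.2.1, Units.map (f : K →* K) p.1,
            Units.map (f : K →* K) (Units.map (f : K →* K) p.1)] : Fin 4 → Kˣ)
              (rho4.symm 0)) = p.1
          rw [r0]; exact hfff _
        · show Units.map (f : K →* K) ((![p.1, p.2.1, Units.map (f : K →* K) p.1,
            Units.map (f : K →* K) (Units.map (f : K →* K) p.1)] : Fin 4 → Kˣ)
              (rho4.symm 1)) = p.2.1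
          rw [r1, unitsMap_eq f hf]; exact p.2.2
        · show Units.map (f : K →* K) ((![p.1, p.2.1, Units.map (f : K →* K) p.1,
            Units.map (f : K →* K) (Units.map (f : K →* K) p.1)] : Fin 4 → Kˣ)
              (rho4.symm 2)) = Units.map (f : K →* K) p.1
          rw [r2]; rfl
        · show Units.map (f : K →* K) ((![p.1, p.2.1, Units.map (f : K →* K) p.1,
            Units.map (f : K →* K) (Units.map (f : K →* K) p.1)] : Fin 4 → Kˣ)
              (rho4.symm 3)) = Units.map (f : K →* K) (Units.map (f : K →* K) p.1)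
          rw [r3]; rfl⟩
      left_inv := by
        intro c
        apply Subtype.ext
        funext j
        have h2 := congrFun c.2 (2 : Fin 4)
        have h3 := congrFun c.2 (3 : Fin 4)
        rw [sigC_apply', r2] at h2
        rw [sigC_apply', r3] at h3
        fin_cases j
        · rfl
        · rfl
        · exact h2
        · show Units.map (f : K →* K) (Units.map (f : K →* K) (c.1 (0 : Fin 4))) = c.1 (3 : Fin 4)
          have h2' : Units.map (f : K →* K) (c.1 (0 : Fin 4)) = c.1 (2 : Fin 4) := h2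
          rw [h2']
          exact h3
      right_inv := by
        intro p
        rfl }
  rw [Nat.card_congr e, Nat.card_prod, FrobFix.card_units_fixed hq hK, Nat.card_units,
    Nat.card_eq_fintype_card, hK]
  have : q ^ 3 - 1 = (q - 1) * (q ^ 2 + q + 1) := by
    obtain ⟨k, rfl⟩ : ∃ k, q = k + 1 := ⟨q - 1, by omega⟩
    simp only [Nat.add_sub_cancel]
    apply Nat.sub_eq_of_eq_add
    ring
  rw [this]
  ring

end

/-- `|H ∩ ³D₄(q)| = (q - 1)^2 (q^2 + q + 1)` -/
theorem card_diag_twisted {K : Type*} [Field K] [Fintype K] {q : ℕ} (hq : IsPrimePow q)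
    (hK : Fintype.card K = q ^ 3) :
    Nat.card ↥(chevD4.diagonalSubgroup K ⊓ twistedD4 K q) = (q - 1) ^ 2 * (q ^ 2 + q + 1) := by
  obtain ⟨f, hf, hfm⟩ := FrobFix.exists_frob hq (by norm_num : 3 ≠ 0) hK
  have hf3 : ∀ x, f (f (f x)) = x := fun x => hfm x
  rw [diag_inf_twisted f hf hf3]
  have h := card_map_mul_card_ker (torHom chevD4 K)
    ((sigC 4 rho4 f).eqLocus (MonoidHom.id (Fin 4 → Kˣ)))
  have h2 := card_eqLocus f hf hf3 hq.two_le hK
  have h1 : Nat.card {c : Fin 4 → Kˣ // c ∈ (sigC 4 rho4 f).eqLocus (MonoidHom.id (Fin 4 → Kˣ)) ∧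
      torHom chevD4 K c = 1} = 1 := by
    rw [Nat.card_eq_one_iff_unique]
    refine ⟨⟨?_⟩, ⟨⟨1, one_mem _, map_one _⟩⟩⟩
    rintro ⟨c, hc1, hc2⟩ ⟨c', hc1', hc2'⟩
    apply Subtype.ext
    show c = c'
    rw [fixed_ker_trivial f c hc1 hc2, fixed_ker_trivial f c' hc1' hc2']
  calc _ = Nat.card ↥(Subgroup.map (torHom chevD4 K)
        ((sigC 4 rho4 f).eqLocus (MonoidHom.id (Fin 4 → Kˣ)))) *
      Nat.card {c : Fin 4 → Kˣ // c ∈ (sigC 4 rho4 f).eqLocus (MonoidHom.id (Fin 4 → Kˣ)) ∧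
        torHom chevD4 K c = 1} := by rw [h1, mul_one]; rfl
    _ = _ := h
    _ = _ := h2

section

end

end Cfsg.Agent.Lib.Helper5.Tw3D4
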