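import Mathlib
import Cfsg.Prelude.Def_LieTwisted
import Cfsg.Agent.Lib.Helper5.Tw3D4H
import Cfsg.Agent.Lib.Helper5.ChevTwistCard
import Cfsg.Agent.Lib.Helper5.ChevChk.TwistSigma
import Cfsg.Agent.Lib.Helper5.ChevChk.TTblD4

set_option autoImplicit false

/-!
The order of `²E₆(q)`.
-/

namespace Cfsg.Agent.Lib.Helper5.Tw3D4

open Cfsg Cfsg.Lie Cfsg.Agent.Lib.Helper5.ChevSym Cfsg.Agent.Lib.Helper5.ChevStruct

set_option maxRecDepth 1000000 in
theorem orbsOK4 : OrbsOK chevD4 gD4a orbits where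
  wd := by decide +kernel
  nodup := by decide +kernel
  orth := by decide +kernel
  trans := by decide +kernel
  comm := by decide +kernel
  invol := by decide +kernel
  cover := by decide +kernel

set_option maxRecDepth 1000000 in
theorem hsz4 : ∀ b ∈ repList twD4, orbSize twD4 b = if twD4.pr b = b then 1 else twD4.m := by
  decide +kernel

theorem hinv4 : ∀ J ∈ orbits, (wPerm chevD4 hD4 J)⁻¹ = wPerm chevD4 hD4 J :=
  fun J hJ => wPerm_orb_inv chevD4 hD4 gD4a orbits orbsOK4 J hJ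

/-- the polynomial `∑_{w ∈ W¹} X^{N(w)}` -/
def polyD4 : List ℕ := [1, 1, 0, 1, 2, 1, 0, 1, 2, 1, 0, 1, 1]

theorem polyD4_eq : mulP (stepPolyT chevD4 ttblD4_0) (mulP (stepPolyT chevD4 ttblD4_1) [1])
    = polyD4 := by
  rw [stepPolyTD4_0, stepPolyTD4_1]
  decide

theorem polyD4_mul : mulP polyD4 [1, 1, 1] = mulP (degPoly [2, 6]) [1, 0, 0, 0, 1, 0, 0, 0, 1] := by
  decide

theorem poincT_D4 (q : ℕ) : poincT chevD4 hD4 orbits q = evalP polyD4 q := by
  rw [← polyD4_eq]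
  have hK : orbits = ttblKD4_0 := rfl
  rw [hK]
  have hsub0 : ∀ J ∈ ttblKD4_0, J ∈ orbits := by decide
  have hsub1 : ∀ J ∈ ttblKD4_1, J ∈ orbits := by decide
  have hlen0 : ttblD4_0.length = 6 := by decide
  apply poincT_chain_step chevD4 hD4 ttblKD4_0 ttblJD4_0 (by decide)
    (fun J hJ => orbsOK4.wd J (hsub0 J hJ)) (fun J hJ => hinv4 J (hsub0 J hJ))
    ttblD4_0 (by rw [hlen0]; norm_num) (fun t ht => chkTTblD4_0 t (by rw [hlen0] at ht; exact ht))
    rfl chkTTblD4_0_nd q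
  show poincT chevD4 hD4 ttblKD4_1 q = _
  have hlen1 : ttblD4_1.length = 2 := by decide
  apply poincT_chain_step chevD4 hD4 ttblKD4_1 ttblJD4_1 (by decide)
    (fun J hJ => orbsOK4.wd J (hsub1 J hJ)) (fun J hJ => hinv4 J (hsub1 J hJ))
    ttblD4_1 (by rw [hlen1]; norm_num) (fun t ht => chkTTblD4_1 t (by rw [hlen1] at ht; exact ht))
    rfl chkTTblD4_1_nd q
  show poincT chevD4 hD4 [] q = _
  rw [poincT_nil]
  simp [evalP]

section

variable {K : Type*} [Field K] {q : ℕ} (f : K →+* K) (hf : ∀ x, f x = x ^ q)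
  (hf3 : ∀ x, f (f (f x)) = x)

include hf hf3 in
/-- the fixed points of `σ` in `H` lie in the twisted group -/
theorem diag_fix_le_twisted :
    chevD4.diagonalSubgroup K ⊓ sigmaFix chevD4 gD4a chkGraphPerm_gD4a f ≤ twistedD4 K q := by
  have h1 := diag_fix_le chevD4 hD4 gD4a chkGraphPerm_gD4a (fun r hr => chkGraph_gD4a r hr) f rho4
    hrho4 (hfix4 f hf3)
  rw [← diag_inf_twisted f hf hf3] at h1
  exact le_trans h1 inf_le_right

include hf hf3 in
theorem diag_inf_twisted_eq_fix : chevD4.diagonalSubgroup K ⊓ twistedD4 K q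
    = chevD4.diagonalSubgroup K ⊓ sigmaFix chevD4 gD4a chkGraphPerm_gD4a f :=
  le_antisymm (inf_le_inf_left _ (twisted_le_fix f hf hf3))
    (le_inf inf_le_left (diag_fix_le_twisted f hf hf3))

omit f in
theorem twisted_le_group : twistedD4 K q ≤ chevD4.group K := by
  unfold twistedD4 ChevalleyDatum.genSubgroup
  rw [Subgroup.closure_le]
  rintro g ⟨w, _, hg⟩
  exact mem_group_of_val_eq_wordMat chevD4 hD4 g w hg

include hf hf3 in
/-- the twisted group is the group of the fixed points of `σ` -/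
theorem twisted_eq_fix4 [Fintype K] :
    twistedD4 K q = chevD4.group K ⊓ sigmaFix chevD4 gD4a chkGraphPerm_gD4a f :=
  twisted_eq_fix chevD4 hD4 gD4a chkGraphPerm_gD4a (fun r hr => chkGraph_gD4a r hr) sigmaOK_gD4a f
    rho4 hrho4 orbits orbsOK4 (twistedD4 K q)
    (le_inf twisted_le_group (twisted_le_fix f hf hf3))
    (pos_fix_le_twisted f hf hf3) (diag_fix_le_twisted f hf hf3) (nJ_mem f hf)

end

/-- `|²E₆(q)| = q³⁶ |H¹| ∑_{w ∈ W¹} q^{N(w)}` -/
theorem card_twisted {K : Type*} [Field K] [Fintype K] {q : ℕ} (hq : IsPrimePow q)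
    (hK : Fintype.card K = q ^ 3) :
    Nat.card ↥(twistedD4 K q) =
      q ^ 12 * Nat.card ↥(chevD4.diagonalSubgroup K ⊓ twistedD4 K q) * evalP polyD4 q := by
  obtain ⟨f, hf, hfm⟩ := FrobFix.exists_frob hq (by norm_num : 3 ≠ 0) hK
  have hf3 : ∀ x, f (f (f x)) = x := fun x => hfm x
  have hfm' : ∀ x, (f ^ twD4.m) x = x := by
    intro x
    show (f ^ 3) x = x
    exact hf3 x
  have c1 : Nat.card {x : K // f x = x} = q := by
    have := FrobFix.card_fixed (K := K) (q := q) (m := 3) hq.two_le hK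
    simpa only [hf] using this
  have c2 : Nat.card K = q ^ twD4.m := by rw [Nat.card_eq_fintype_card, hK]; rfl
  have hU : Nat.card ↥(twD4.D.posUnipotent K ⊓ sigmaFix twD4.D twD4.G chkGraphPerm_gD4a f)
      = q ^ (twD4.D.nroots / 2) := by
    have := card_pos_twisted hq hK
    rw [pos_inf_twisted f hf hf3] at this
    exact this
  have hn : ∀ J ∈ orbits, wGL twD4.D hD4 J ∈ sigmaFix twD4.D twD4.G chkGraphPerm_gD4a f :=
    fun J hJ => twisted_le_fix f hf hf3 (nJ_mem f hf J hJ)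
  have h := card_fix_group twD4 twD4_ok hD4 chkGraphPerm_gD4a hG4 sigmaOK_gD4a f rho4 hrho4 orbits
    orbsOK4 hn hfm' q (by have := hq.two_le; omega) c1 c2 hsz4 hU
  rw [diag_inf_twisted_eq_fix f hf hf3]
  have e : Nat.card ↥(twistedD4 K q)
      = Nat.card ↥(chevD4.group K ⊓ sigmaFix chevD4 gD4a chkGraphPerm_gD4a f) := by
    rw [← twisted_eq_fix4 f hf hf3]
  rw [e, ← poincT_D4]
  exact h

end Cfsg.Agent.Lib.Helper5.Tw3D4
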