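import Mathlib
import Cfsg.Prelude.Def_LieTwisted
import Cfsg.Agent.Lib.Helper5.Tw3D4Card
import Cfsg.Agent.Lib.Helper5.ChevTwistBNPair

set_option autoImplicit false

/-!
The `(B, N)`-pair of `²E₆(q)`.
-/

namespace Cfsg.Agent.Lib.Helper5.Tw3D4

open Cfsg Cfsg.Lie Cfsg.Agent.Lib.Helper5.ChevSym Cfsg.Agent.Lib.Helper5.ChevStruct

set_option maxRecDepth 1000000 in
theorem hsub4_aux : ∀ J ∈ orbits, ∀ A ∈ J.sublists,
    (∀ r < 24, wAct chevD4 A (gD4a.pr.getD r 0) = gD4a.pr.getD (wAct chevD4 A r) 0) →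
      A = [] ∨ A = J := by
  decide +kernel

theorem hsub4 : ∀ J ∈ orbits, ∀ A : List ℕ, A.Sublist J → StableW chevD4 gD4a A → A = [] ∨ A = J :=
  fun J hJ A hA hst => hsub4_aux J hJ A (List.mem_sublists.2 hA) hst.2

set_option maxRecDepth 1000000 in
theorem hdist4 : ∀ J ∈ orbits, ∀ J' ∈ orbits,
    (∀ r < chevD4.nroots, wAct chevD4 J r = wAct chevD4 J' r) → J = J' := by
  decide +kernel

set_option maxRecDepth 1000000 in
theorem nLen_pos4 : ∀ J ∈ orbits, 0 < nLen chevD4 J := by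
  decide +kernel

/-- the hypotheses of the `(B, N)`-pair -/
theorem hyp4 {K : Type*} [Field K] [Fintype K] {q : ℕ} (hq : IsPrimePow q)
    (hK : Fintype.card K = q ^ 3) (f : K →+* K) (hf : ∀ x, f x = x ^ q)
    (hf3 : ∀ x, f (f (f x)) = x) :
    TwistBNHyp chevD4 hD4 gD4a chkGraphPerm_gD4a f rho4 orbits (twistedD4 K q) where
  hG := fun r hr => chkGraph_gD4a r hr
  hS := sigmaOK_gD4a
  hrho := hrho4
  hO := orbsOK4
  hG1 := twisted_eq_fix4 f hf hf3
  hn := nJ_mem f hf
  hsub := hsub4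
  hdist := hdist4
  hne := by
    intro J hJ
    have hfm' : ∀ x, (f ^ twD4.m) x = x := by
      intro x
      show (f ^ 3) x = x
      exact hf3 x
    have c1 : Nat.card {x : K // f x = x} = q := by
      have := FrobFix.card_fixed (K := K) (q := q) (m := 3) hq.two_le hK
      simpa only [hf] using this
    have c2 : Nat.card K = q ^ twD4.m := by rw [Nat.card_eq_fintype_card, hK]; rfl
    have hU : Nat.card ↥(twD4.D.posUnipotent K ⊓ sigmaFix twD4.D twD4.G chkGraphPerm_gD4a f)
        = q ^ (twD4.D.nroots / 2) := by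
      have := card_pos_twisted hq hK
      rw [pos_inf_twisted f hf hf3] at this
      exact this
    have hst : StableW chevD4 gD4a J := by
      have := stable_flatten chevD4 hD4 gD4a orbits orbsOK4 [J] (by simpa using hJ)
      simpa using this
    have hcard := card_unegSub_fix twD4 twD4_ok hD4 chkGraphPerm_gD4a hG4 sigmaOK_gD4a f hfm' q
      (by have := hq.two_le; omega) c1 c2 hsz4 hU J hst
    have hpos : 0 < (negSet chevD4 J).card := by
      rw [← nLen_eq chevD4 hD4 J hst.1]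
      exact nLen_pos4 J hJ
    have h1 : 1 < Nat.card ↥(unegSub chevD4 K J ⊓ sigmaFix chevD4 gD4a chkGraphPerm_gD4a f) := by
      have e : Nat.card ↥(unegSub chevD4 K J ⊓ sigmaFix chevD4 gD4a chkGraphPerm_gD4a f)
          = q ^ (negSet chevD4 J).card := hcard
      rw [e]
      exact Nat.one_lt_pow (by omega) hq.two_le
    rw [Subgroup.one_lt_card_iff_ne_bot, Subgroup.ne_bot_iff_exists_ne_one] at h1
    obtain ⟨⟨u, hu⟩, hne⟩ := h1
    exact ⟨u, hu, fun h => hne (Subtype.ext h)⟩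

end Cfsg.Agent.Lib.Helper5.Tw3D4
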