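import Mathlib
import Cfsg.Prelude.Def_LieTwisted
import Cfsg.Agent.Lib.Helper5.ChevTwistPerfOrb
import Cfsg.Agent.Lib.Helper5.Tw2E6H

set_option autoImplicit false

/-!
The twisted group `²E₆(q)` is perfect.
-/

namespace Cfsg.Agent.Lib.Helper5.Tw2E6

open Cfsg Cfsg.Lie Cfsg.Agent.Lib.Helper5.ChevStruct Cfsg.Agent.Lib.Helper5.ChevSym
open scoped commutatorElement

/-- the family of torus parameters -/
def uFam {K : Type*} [Field K] (f : K →+* K) (l : K) (i : ℕ) : K :=
  if i = 0 ∨ i = 2 then l else f l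

set_option maxRecDepth 100000 in
theorem pairOrb_facts : ∀ J ∈ [[0, 5], [2, 4]], J ∈ orbits ∧ (∀ i ∈ J, i < chevE6.rank) ∧
    (∀ i ∈ J, ∀ j ∈ J, chevE6.cartan j (chevE6.simple i) = if j = i then 2 else 0) ∧
    (∀ i ∈ J, ∀ j ∈ J,
      chevE6.cartan j (chevE6.neg (chevE6.simple i)) = if j = i then -2 else 0) := by
  decide +kernel

set_option maxRecDepth 100000 in
theorem wAct_vals6 : wAct chevE6 [3] e6p2 = 47 ∧ wAct chevE6 [3] e6m2 = 24 := by decide +kernel

set_option maxRecDepth 100000 in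
theorem wit_facts6 : chevE6.commTerms e6m4 47 = [(e6p2, 1, 1, 1)] ∧
    chevE6.commTerms e6p4 24 = [(e6m2, -1, 1, 1)] ∧
    chevE6.commTerms e6m2 47 = [(e6p4, -1, 1, 1)] ∧
    chevE6.commTerms e6p2 24 = [(e6m4, 1, 1, 1)] ∧
    47 ≠ chevE6.neg e6m4 ∧ 24 ≠ chevE6.neg e6p4 ∧ 47 ≠ chevE6.neg e6m2 ∧ 24 ≠ chevE6.neg e6p2 ∧
    e6p2 < chevE6.nroots ∧ e6m2 < chevE6.nroots ∧ e6p4 < chevE6.nroots ∧ e6m4 < chevE6.nroots ∧
    47 < chevE6.nroots ∧ 24 < chevE6.nroots := by
  decide +kernel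

section

variable {K : Type*} [Field K] {q : ℕ} (f : K →+* K) (hf : ∀ x, f x = x ^ q)
  (hf2 : ∀ x, f (f x) = x)

include hf hf2 in
theorem pair_orbit_comm (l : K) (hl0 : l ≠ 0) (hl2 : l ^ 2 ≠ 1) : ∀ J ∈ [[0, 5], [2, 4]],
    ∀ s : ℕ → K, (∀ i ∈ J, s (rhoN chevE6.rank rho6 i) = f (s i)) →
    wordGL chevE6 hE6 (J.map fun i => (chevE6.simple i, s i))
      ∈ ⁅twistedE6 K q, twistedE6 K q⁆ ∧
    wordGL chevE6 hE6 (J.map fun i => (chevE6.neg (chevE6.simple i), s i))
      ∈ ⁅twistedE6 K q, twistedE6 K q⁆ := by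
  intro J hJ s hs
  obtain ⟨hJo, hJlt, hc1, hc2⟩ := pairOrb_facts J hJ
  obtain ⟨r0, r1, r2, r3, r4, r5⟩ := rhoN_vals
  have hfl2 : (f l) ^ 2 ≠ 1 := by
    rw [← map_pow]
    intro h
    exact hl2 (f.injective (by rw [h, map_one]))
  have hfl0 : f l ≠ 0 := (map_ne_zero f).2 hl0
  refine orbit_mem_comm chevE6 hE6 (twistedE6 K q) f (rhoN chevE6.rank rho6) J hJlt
    (orth_ok J hJo) (orbits_nodup J hJo) hc1 hc2 (hgen6 f hf J hJo) (uFam f l) ?_ ?_ ?_ s hs
  · intro i _
    unfold uFam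
    split_ifs
    · exact hl0
    · exact hfl0
  · intro i _
    unfold uFam
    split_ifs
    · exact hl2
    · exact hfl2
  · simp only [List.mem_cons, List.not_mem_nil, or_false] at hJ
    rcases hJ with rfl | rfl
    · intro i hi
      simp only [List.mem_cons, List.not_mem_nil, or_false] at hi
      rcases hi with rfl | rfl
      · show uFam f l (rhoN 6 rho6 0) = _
        rw [r0]
        simp [uFam]
      · show uFam f l (rhoN 6 rho6 5) = _
        rw [r5]
        simp [uFam, hf2]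
    · intro i hi
      simp only [List.mem_cons, List.not_mem_nil, or_false] at hi
      rcases hi with rfl | rfl
      · show uFam f l (rhoN 6 rho6 2) = _
        rw [r2]
        simp [uFam]
      · show uFam f l (rhoN 6 rho6 4) = _
        rw [r4]
        simp [uFam, hf2]

include hf in
theorem single_mem_comm (r : ℕ) (hr : r ∈ [e6p2, e6m2, e6p4, e6m4]) (t : K) (ht : t ^ q = t) :
    xGL chevE6 hE6 r t ∈ ⁅twistedE6 K q, twistedE6 K q⁆ := by
  have hA : ∀ t ∈ {t : K | f t = t}, -t ∈ {t : K | f t = t} := by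
    intro t ht
    show f (-t) = -t
    rw [map_neg]
    exact congrArg _ ht
  have hbase : ∀ r ∈ [e6p2, e6m2, e6p4, e6m4], ∀ t ∈ {t : K | f t = t},
      xGL chevE6 hE6 r t ∈ twistedE6 K q := by
    intro r hr t ht
    exact single_mem r hr t (by rw [← hf]; exact ht)
  have hn3 : wGL chevE6 hE6 [3] ∈ twistedE6 K q := nJ_mem f hf [3] (by simp [orbits])
  obtain ⟨w1, w2⟩ := wAct_vals6
  obtain ⟨c1, c2, c3, c4, n1, n2, n3, n4, l1, l2, l3, l4, l5, l6⟩ := wit_facts6
  have h47 : ∀ t ∈ {t : K | f t = t}, xGL chevE6 hE6 47 t ∈ twistedE6 K q := by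
    have := xGL_wAct_mem chevE6 hE6 (twistedE6 K q) {t : K | f t = t} hA [3] (by decide) hn3
      e6p2 l1 (hbase e6p2 (by simp))
    rw [w1] at this
    exact this
  have h24 : ∀ t ∈ {t : K | f t = t}, xGL chevE6 hE6 24 t ∈ twistedE6 K q := by
    have := xGL_wAct_mem chevE6 hE6 (twistedE6 K q) {t : K | f t = t} hA [3] (by decide) hn3
      e6m2 l2 (hbase e6m2 (by simp))
    rw [w2] at this
    exact this
  have htA : f t = t := by rw [hf]; exact ht
  have h1A : (1 : K) ∈ {t : K | f t = t} := map_one f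
  have hcA1 : -((((1 : ℤ) : K))⁻¹ * t) ∈ {t : K | f t = t} := by
    show f _ = _
    simp [htA]
  have hcA2 : -((((-1 : ℤ) : K))⁻¹ * t) ∈ {t : K | f t = t} := by
    show f _ = _
    simp [htA]
  simp only [List.mem_cons, List.not_mem_nil, or_false] at hr
  rcases hr with rfl | rfl | rfl | rfl
  · exact x_mem_comm_of_wit' chevE6 hE6 _ e6p2 e6m4 47 1 l4 l5 (by decide) n1 c1 (by simp) t
      (h47 1 h1A) (hbase e6m4 (by simp) _ hcA1)
  · exact x_mem_comm_of_wit' chevE6 hE6 _ e6m2 e6p4 24 (-1) l3 l6 (by decide) n2 c2 (by simp) t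
      (h24 1 h1A) (hbase e6p4 (by simp) _ hcA2)
  · exact x_mem_comm_of_wit' chevE6 hE6 _ e6p4 e6m2 47 (-1) l2 l5 (by decide) n3 c3 (by simp) t
      (h47 1 h1A) (hbase e6m2 (by simp) _ hcA2)
  · exact x_mem_comm_of_wit' chevE6 hE6 _ e6m4 e6p2 24 1 l1 l6 (by decide) n4 c4 (by simp) t
      (h24 1 h1A) (hbase e6p2 (by simp) _ hcA1)

end

/-- `²E₆(q)` is perfect -/
theorem twisted_perfect {K : Type*} [Field K] [Fintype K] {q : ℕ} (hq : IsPrimePow q)
    (hK : Fintype.card K = q ^ 2) : commutator ↥(twistedE6 K q) = ⊤ := by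
  obtain ⟨f, hf, hfm⟩ := FrobFix.exists_frob hq (by norm_num : 2 ≠ 0) hK
  have hf2 : ∀ x, f (f x) = x := fun x => hfm x
  have hcard : 3 < Fintype.card K := by
    rw [hK]
    have := hq.two_le
    nlinarith
  obtain ⟨l, hl0, hl2⟩ := exists_sq_ne_one hcard
  apply commutator_subtype_eq_top
  have key : ∀ g : GL chevE6.Idx K,
      (∃ w ∈ e6Words K q, (g : Matrix chevE6.Idx chevE6.Idx K) = chevE6.wordMat K w) →
      g ∈ ⁅twistedE6 K q, twistedE6 K q⁆ := by
    rintro g ⟨w, hw, hg⟩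
    have e : g = wordGL chevE6 hE6 w := Units.ext (by rw [hg, wordGL_val])
    rw [e]
    obtain ⟨s0, s1, s2, s3, s4, s5, n0, n1, n2, n3, n4, n5⟩ := simple_vals
    obtain ⟨r0, r1, r2, r3, r4, r5⟩ := rhoN_vals
    rcases hw with ⟨t, ht, r, hr, rfl⟩ | ⟨t, rs, hrs, rfl⟩
    · simpa [wordGL] using single_mem_comm f hf r hr t ht
    · have hc05 : ∀ i ∈ [0, 5], (fun i : ℕ => if i = 0 then t else f t) (rhoN chevE6.rank rho6 i)
          = f ((fun i : ℕ => if i = 0 then t else f t) i) := by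
        intro i hi
        simp only [List.mem_cons, List.not_mem_nil, or_false] at hi
        rcases hi with rfl | rfl
        · show (fun i : ℕ => if i = 0 then t else f t) (rhoN 6 rho6 0) = _
          rw [r0]
          simp
        · show (fun i : ℕ => if i = 0 then t else f t) (rhoN 6 rho6 5) = _
          rw [r5]
          simp [hf2]
      have hc24 : ∀ i ∈ [2, 4], (fun i : ℕ => if i = 2 then t else f t) (rhoN chevE6.rank rho6 i)
          = f ((fun i : ℕ => if i = 2 then t else f t) i) := by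
        intro i hi
        simp only [List.mem_cons, List.not_mem_nil, or_false] at hi
        rcases hi with rfl | rfl
        · show (fun i : ℕ => if i = 2 then t else f t) (rhoN 6 rho6 2) = _
          rw [r2]
          simp
        · show (fun i : ℕ => if i = 2 then t else f t) (rhoN 6 rho6 4) = _
          rw [r4]
          simp [hf2]
      have h05 := pair_orbit_comm f hf hf2 l hl0 hl2 [0, 5] (by simp)
        (fun i : ℕ => if i = 0 then t else f t) hc05
      have h24 := pair_orbit_comm f hf hf2 l hl0 hl2 [2, 4] (by simp)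
        (fun i : ℕ => if i = 2 then t else f t) hc24
      simp only [List.map_cons, List.map_nil, s0, s5, n0, n5, s2, s4, n2, n4, if_true,
        OfNat.ofNat_ne_zero, if_false, hf] at h05 h24
      simp only [List.mem_cons, List.not_mem_nil, or_false] at hrs
      rcases hrs with rfl | rfl | rfl | rfl
      · exact h05.1
      · exact h05.2
      · exact h24.1
      · exact h24.2
  show twistedE6 K q ≤ _
  exact (Subgroup.closure_le _).2 (fun g hg => key g hg)

end Cfsg.Agent.Lib.Helper5.Tw2E6
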