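import Mathlib
import Cfsg.Prelude.Def_LieTwisted
import Cfsg.Agent.Lib.Helper5.Tw3D4BN
import Cfsg.Agent.Lib.Helper5.ChevTwistCore

set_option autoImplicit false

/-!
The intersection of the conjugates of `B¹` in `³D₄(q)` is trivial.
-/

namespace Cfsg.Agent.Lib.Helper5.Tw3D4

open Cfsg Cfsg.Lie Cfsg.Agent.Lib.Helper5.ChevSym Cfsg.Agent.Lib.Helper5.ChevStruct

/-- the longest element as a product of the `w_J` -/
def w0Js4 : List (List ℕ) := [[1], [0, 2, 3], [1], [0, 2, 3], [1], [0, 2, 3]]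

theorem w0Js4_mem : ∀ J ∈ w0Js4, J ∈ orbits := by decide

set_option maxRecDepth 1000000 in
theorem w0Js4_chk : checkW0 chevD4 w0Js4.flatten = true := by decide +kernel

/-- the normal core of `B¹` is trivial -/
theorem normalCore4 {K : Type*} [Field K] [Fintype K] {q : ℕ} (hq : IsPrimePow q)
    (hK : Fintype.card K = q ^ 3) :
    ((chevD4.borelSubgroup K ⊓ twistedD4 K q).subgroupOf (twistedD4 K q)).normalCore = ⊥ := by
  obtain ⟨f, hf, hfm⟩ := FrobFix.exists_frob hq (by norm_num : 3 ≠ 0) hK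
  have hf3 : ∀ x, f (f (f x)) = x := fun x => hfm x
  have hfm' : ∀ x, (f ^ twD4.m) x = x := by
    intro x
    show (f ^ 3) x = x
    exact hf3 x
  exact twisted_normalCore twD4 twD4_ok hD4 chkGraphPerm_gD4a f rho4 orbits (twistedD4 K q)
    (hyp4 hq hK f hf hf3) w0Js4 w0Js4_mem w0Js4_chk hfm'

end Cfsg.Agent.Lib.Helper5.Tw3D4
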