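import Mathlib
import Cfsg.Prelude.Def_LieTwisted
import Cfsg.Agent.Lib.Helper5.ChevTwistPerfOrb
import Cfsg.Agent.Lib.Helper5.Tw3D4H

set_option autoImplicit false

/-!
The twisted group `³D₄(q)` is perfect.
-/

namespace Cfsg.Agent.Lib.Helper5.Tw3D4

open Cfsg Cfsg.Lie Cfsg.Agent.Lib.Helper5.ChevStruct Cfsg.Agent.Lib.Helper5.ChevSym
open scoped commutatorElement

/-- the family of torus parameters -/
def uFam {K : Type*} [Field K] (f : K →+* K) (l : K) (i : ℕ) : K :=
  if i = 0 then l else if i = 2 then f l else f (f l)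

set_option maxRecDepth 100000 in
theorem tripleOrb_facts : [0, 2, 3] ∈ orbits ∧ (∀ i ∈ [0, 2, 3], i < chevD4.rank) ∧
    (∀ i ∈ [0, 2, 3], ∀ j ∈ [0, 2, 3],
      chevD4.cartan j (chevD4.simple i) = if j = i then 2 else 0) ∧
    (∀ i ∈ [0, 2, 3], ∀ j ∈ [0, 2, 3],
      chevD4.cartan j (chevD4.neg (chevD4.simple i)) = if j = i then -2 else 0) := by
  decide +kernel

set_option maxRecDepth 100000 in
theorem wAct_vals4 : wAct chevD4 [0, 2, 3] d4p2 = 22 ∧ wAct chevD4 [0, 2, 3] d4m2 = 1 ∧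
    wAct chevD4 [1] 22 = 23 ∧ wAct chevD4 [1] 1 = 0 := by decide +kernel

set_option maxRecDepth 100000 in
theorem wit_facts4 : chevD4.commTerms 1 23 = [(d4p2, -1, 1, 1)] ∧
    chevD4.commTerms 22 0 = [(d4m2, 1, 1, 1)] ∧
    23 ≠ chevD4.neg 1 ∧ 0 ≠ chevD4.neg 22 ∧
    d4p2 < chevD4.nroots ∧ d4m2 < chevD4.nroots ∧ 22 < chevD4.nroots ∧ 1 < chevD4.nroots ∧
    23 < chevD4.nroots ∧ 0 < chevD4.nroots := by
  decide +kernel

section

variable {K : Type*} [Field K] {q : ℕ} (f : K →+* K) (hf : ∀ x, f x = x ^ q)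
  (hf3 : ∀ x, f (f (f x)) = x)

include hf hf3 in
theorem triple_orbit_comm (l : K) (hl0 : l ≠ 0) (hl2 : l ^ 2 ≠ 1) :
    ∀ s : ℕ → K, (∀ i ∈ [0, 2, 3], s (rhoN chevD4.rank rho4 i) = f (s i)) →
    wordGL chevD4 hD4 ([0, 2, 3].map fun i => (chevD4.simple i, s i))
      ∈ ⁅twistedD4 K q, twistedD4 K q⁆ ∧
    wordGL chevD4 hD4 ([0, 2, 3].map fun i => (chevD4.neg (chevD4.simple i), s i))
      ∈ ⁅twistedD4 K q, twistedD4 K q⁆ := by
  intro s hs
  obtain ⟨hJo, hJlt, hc1, hc2⟩ := tripleOrb_facts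
  obtain ⟨r0, r1, r2, r3⟩ := rhoN_vals
  have hinj : ∀ x : K, x ^ 2 ≠ 1 → (f x) ^ 2 ≠ 1 := by
    intro x hx
    rw [← map_pow]
    intro h
    exact hx (f.injective (by rw [h, map_one]))
  have hfl2 : (f l) ^ 2 ≠ 1 := hinj l hl2
  have hffl2 : (f (f l)) ^ 2 ≠ 1 := hinj _ hfl2
  have hfl0 : f l ≠ 0 := (map_ne_zero f).2 hl0
  have hffl0 : f (f l) ≠ 0 := (map_ne_zero f).2 hfl0
  refine orbit_mem_comm chevD4 hD4 (twistedD4 K q) f (rhoN chevD4.rank rho4) [0, 2, 3] hJlt
    (orth_ok _ hJo) (orbits_nodup _ hJo) hc1 hc2 (hgen4 f hf _ hJo) (uFam f l) ?_ ?_ ?_ s hs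
  · intro i _
    unfold uFam
    split_ifs
    · exact hl0
    · exact hfl0
    · exact hffl0
  · intro i _
    unfold uFam
    split_ifs
    · exact hl2
    · exact hfl2
    · exact hffl2
  · intro i hi
    simp only [List.mem_cons, List.not_mem_nil, or_false] at hi
    rcases hi with rfl | rfl | rfl
    · show uFam f l (rhoN 4 rho4 0) = _
      rw [r0]
      simp [uFam]
    · show uFam f l (rhoN 4 rho4 2) = _
      rw [r2]
      simp [uFam]
    · show uFam f l (rhoN 4 rho4 3) = _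
      rw [r3]
      simp [uFam, hf3]

include hf in
theorem single_mem_comm (r : ℕ) (hr : r ∈ [d4p2, d4m2]) (t : K) (ht : t ^ q = t) :
    xGL chevD4 hD4 r t ∈ ⁅twistedD4 K q, twistedD4 K q⁆ := by
  have hA : ∀ t ∈ {t : K | f t = t}, -t ∈ {t : K | f t = t} := by
    intro t ht
    show f (-t) = -t
    rw [map_neg]
    exact congrArg _ ht
  have hbase : ∀ r ∈ [d4p2, d4m2], ∀ t ∈ {t : K | f t = t},
      xGL chevD4 hD4 r t ∈ twistedD4 K q := by
    intro r hr t ht
    exact single_mem r hr t (by rw [← hf]; exact ht)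
  have hnJ : wGL chevD4 hD4 [0, 2, 3] ∈ twistedD4 K q := nJ_mem f hf _ (by simp [orbits])
  have hn1 : wGL chevD4 hD4 [1] ∈ twistedD4 K q := nJ_mem f hf [1] (by simp [orbits])
  obtain ⟨w1, w2, w3, w4⟩ := wAct_vals4
  obtain ⟨c1, c2, n1, n2, l1, l2, l3, l4, l5, l6⟩ := wit_facts4
  have h22 : ∀ t ∈ {t : K | f t = t}, xGL chevD4 hD4 22 t ∈ twistedD4 K q := by
    have := xGL_wAct_mem chevD4 hD4 (twistedD4 K q) {t : K | f t = t} hA [0, 2, 3] (by decide) hnJ
      d4p2 l1 (hbase d4p2 (by simp))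
    rw [w1] at this
    exact this
  have h01 : ∀ t ∈ {t : K | f t = t}, xGL chevD4 hD4 1 t ∈ twistedD4 K q := by
    have := xGL_wAct_mem chevD4 hD4 (twistedD4 K q) {t : K | f t = t} hA [0, 2, 3] (by decide) hnJ
      d4m2 l2 (hbase d4m2 (by simp))
    rw [w2] at this
    exact this
  have h23 : ∀ t ∈ {t : K | f t = t}, xGL chevD4 hD4 23 t ∈ twistedD4 K q := by
    have := xGL_wAct_mem chevD4 hD4 (twistedD4 K q) {t : K | f t = t} hA [1] (by decide) hn1
      22 l3 h22
    rw [w3] at this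
    exact this
  have h00 : ∀ t ∈ {t : K | f t = t}, xGL chevD4 hD4 0 t ∈ twistedD4 K q := by
    have := xGL_wAct_mem chevD4 hD4 (twistedD4 K q) {t : K | f t = t} hA [1] (by decide) hn1
      1 l4 h01
    rw [w4] at this
    exact this
  have htA : f t = t := by rw [hf]; exact ht
  have h1A : (1 : K) ∈ {t : K | f t = t} := map_one f
  have hcA1 : -((((1 : ℤ) : K))⁻¹ * t) ∈ {t : K | f t = t} := by
    show f _ = _
    simp [htA]
  have hcA2 : -((((-1 : ℤ) : K))⁻¹ * t) ∈ {t : K | f t = t} := by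
    show f _ = _
    simp [htA]
  simp only [List.mem_cons, List.not_mem_nil, or_false] at hr
  rcases hr with rfl | rfl
  · exact x_mem_comm_of_wit' chevD4 hD4 _ d4p2 1 23 (-1) l4 l5 (by decide) n1 c1 (by simp) t
      (h23 1 h1A) (h01 _ hcA2)
  · exact x_mem_comm_of_wit' chevD4 hD4 _ d4m2 22 0 1 l3 l6 (by decide) n2 c2 (by simp) t
      (h00 1 h1A) (h22 _ hcA1)

end

/-- `³D₄(q)` is perfect -/
theorem twisted_perfect {K : Type*} [Field K] [Fintype K] {q : ℕ} (hq : IsPrimePow q)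
    (hK : Fintype.card K = q ^ 3) : commutator ↥(twistedD4 K q) = ⊤ := by
  obtain ⟨f, hf, hfm⟩ := FrobFix.exists_frob hq (by norm_num : 3 ≠ 0) hK
  have hf3 : ∀ x, f (f (f x)) = x := fun x => hfm x
  have hcard : 3 < Fintype.card K := by
    rw [hK]
    have := hq.two_le
    nlinarith [pow_le_pow_left₀ (by norm_num : (0:ℕ) ≤ 2) this 3]
  obtain ⟨l, hl0, hl2⟩ := exists_sq_ne_one hcard
  apply commutator_subtype_eq_top
  have key : ∀ g : GL chevD4.Idx K,
      (∃ w ∈ d4Words K q, (g : Matrix chevD4.Idx chevD4.Idx K) = chevD4.wordMat K w) →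
      g ∈ ⁅twistedD4 K q, twistedD4 K q⁆ := by
    rintro g ⟨w, hw, hg⟩
    have e : g = wordGL chevD4 hD4 w := Units.ext (by rw [hg, wordGL_val])
    rw [e]
    obtain ⟨s0, s1, s2, s3, n0, n1, n2, n3⟩ := simple_vals
    obtain ⟨r0, r1, r2, r3⟩ := rhoN_vals
    rcases hw with ⟨t, ht, r, hr, rfl⟩ | ⟨t, rs, hrs, rfl⟩
    · simpa [wordGL] using single_mem_comm f hf r hr t ht
    · have hc : ∀ i ∈ [0, 2, 3],
          (fun i : ℕ => if i = 0 then t else if i = 2 then t ^ q else t ^ (q ^ 2))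
            (rhoN chevD4.rank rho4 i)
          = f ((fun i : ℕ => if i = 0 then t else if i = 2 then t ^ q else t ^ (q ^ 2)) i) := by
        intro i hi
        simp only [List.mem_cons, List.not_mem_nil, or_false] at hi
        rcases hi with rfl | rfl | rfl
        · show (fun i : ℕ => if i = 0 then t else if i = 2 then t ^ q else t ^ (q ^ 2))
            (rhoN 4 rho4 0) = _
          rw [r0]
          simp [hf]
        · show (fun i : ℕ => if i = 0 then t else if i = 2 then t ^ q else t ^ (q ^ 2))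
            (rhoN 4 rho4 2) = _
          rw [r2]
          simp only [OfNat.ofNat_ne_zero, if_false, if_true]
          rw [hf, ← pow_mul, pow_two]
          simp
        · show (fun i : ℕ => if i = 0 then t else if i = 2 then t ^ q else t ^ (q ^ 2))
            (rhoN 4 rho4 3) = _
          rw [r3]
          have : f (t ^ (q ^ 2)) = t := by rw [← f_sq f hf, hf3]
          simp [this]
      have h := triple_orbit_comm f hf hf3 l hl0 hl2
        (fun i : ℕ => if i = 0 then t else if i = 2 then t ^ q else t ^ (q ^ 2)) hc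
      simp only [List.map_cons, List.map_nil, s0, s2, s3, n0, n2, n3, if_true,
        OfNat.ofNat_ne_zero, if_false] at h
      simp only [List.mem_cons, List.not_mem_nil, or_false] at hrs
      rcases hrs with rfl | rfl
      · exact h.1
      · exact h.2
  show twistedD4 K q ≤ _
  exact (Subgroup.closure_le _).2 (fun g hg => key g hg)

end Cfsg.Agent.Lib.Helper5.Tw3D4
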