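import Mathlib
import Cfsg.Prelude.Def_LieTwisted
import Cfsg.Agent.Lib.Helper5.ChevTwistSimple
import Cfsg.Agent.Lib.Helper5.Tw3D4Core
import Cfsg.Agent.Lib.Helper5.Tw3D4Perf

set_option autoImplicit false

/-!
The twisted group `³D₄(q)` is simple.
-/

namespace Cfsg.Agent.Lib.Helper5.Tw3D4

open Cfsg Cfsg.Lie Cfsg.Agent.Lib.Helper5.ChevSym Cfsg.Agent.Lib.Helper5.ChevStruct

set_option maxRecDepth 1000000 in
theorem nc4 :
    ∃ r < chevD4.nroots, wAct chevD4 ([0, 2, 3] ++ [1]) r ≠ wAct chevD4 ([1] ++ [0, 2, 3]) r := by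
  decide +kernel

/-- the twisted diagram (of type `G₂`) is connected -/
theorem hconn4 (p : List ℕ → Prop) (h1 : ∃ J ∈ orbits, p J) (h2 : ∃ J ∈ orbits, ¬ p J) :
    ∃ J1 ∈ orbits, ∃ J2 ∈ orbits, p J1 ∧ ¬ p J2 ∧
      ∃ r < chevD4.nroots, wAct chevD4 (J1 ++ J2) r ≠ wAct chevD4 (J2 ++ J1) r := by
  have e1 := nc4
  have m0 : [0, 2, 3] ∈ orbits := by simp [orbits]
  have m1 : [1] ∈ orbits := by simp [orbits]
  by_contra hcon
  have hcon' : ∀ J1 ∈ orbits, ∀ J2 ∈ orbits, p J1 → ¬ p J2 → ∀ r < chevD4.nroots,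
      wAct chevD4 (J1 ++ J2) r = wAct chevD4 (J2 ++ J1) r := by
    intro J1 h1 J2 h2 hp1 hp2 r hr
    by_contra hne
    exact hcon ⟨J1, h1, J2, h2, hp1, hp2, r, hr, hne⟩
  have edge : ∀ A ∈ orbits, ∀ B ∈ orbits,
      (∃ r < chevD4.nroots, wAct chevD4 (A ++ B) r ≠ wAct chevD4 (B ++ A) r) → (p A ↔ p B) := by
    intro A hA B hB hAB
    obtain ⟨r, hr, hne⟩ := hAB
    constructor
    · intro ha
      by_contra hb
      exact hne (hcon' A hA B hB ha hb r hr)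
    · intro hb
      by_contra ha
      exact hne (hcon' B hB A hA hb ha r hr).symm
  have i1 := edge [0, 2, 3] m0 [1] m1 e1
  obtain ⟨J, hJ, hpJ⟩ := h1
  obtain ⟨J', hJ', hpJ'⟩ := h2
  have hall : ∀ J ∈ orbits, (p J ↔ p [1]) := by
    intro J hJ
    simp only [orbits, List.mem_cons, List.not_mem_nil, or_false] at hJ
    rcases hJ with rfl | rfl
    · exact i1
    · exact Iff.rfl
  exact hpJ' ((hall J' hJ').2 ((hall J hJ).1 hpJ))

/-- `³D₄(q)` is simple and non-abelian -/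
theorem twisted_simple4 {K : Type*} [Field K] [Fintype K] {q : ℕ} (hq : IsPrimePow q)
    (hK : Fintype.card K = q ^ 3) :
    IsSimpleGroup ↥(twistedD4 K q) ∧ ¬ IsMulCommutative ↥(twistedD4 K q) := by
  obtain ⟨f, hf, hfm⟩ := FrobFix.exists_frob hq (by norm_num : 3 ≠ 0) hK
  have hf3 : ∀ x, f (f (f x)) = x := fun x => hfm x
  exact twisted_simple chevD4 hD4 gD4a chkGraphPerm_gD4a f rho4 orbits (twistedD4 K q)
    (hyp4 hq hK f hf hf3) hconn4 [1] (by simp [orbits]) (twisted_perfect hq hK)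
    (normalCore4 hq hK)

end Cfsg.Agent.Lib.Helper5.Tw3D4
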