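import Mathlib
import Cfsg.Agent.Lib.Helper5.TwAutDefs2
import Cfsg.Agent.Lib.Helper5.Tw2E6Simple
import Cfsg.Agent.Lib.Helper5.Tw3D4Simple

set_option autoImplicit false

/-!
The hypotheses `TwAutHyp` of the twisted automorphism farm (S2129 / S2130) for the groups
`²E₆(q)` and `³D₄(q)`, with the combinatorial side conditions (`Rigid`, `Linked`, `OppOK`).
-/

namespace Cfsg.Agent.Lib.Helper5.TwAutInst

open Cfsg Cfsg.Lie Cfsg.Agent.Lib.Helper5.ChevStruct Cfsg.Agent.Lib.Helper5.ChevSym
  Cfsg.Agent.Lib.Helper5.TwAut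

/-- the characteristic of a finite field of prime-power order -/
theorem exists_char {K : Type*} [Field K] [Fintype K] {q m : ℕ} (hq : IsPrimePow q) (hm : m ≠ 0)
    (hK : Fintype.card K = q ^ m) : ∃ p e : ℕ, p.Prime ∧ 0 < e ∧ q = p ^ e ∧ CharP K p := by
  obtain ⟨p, e, hp, he, rfl⟩ := hq
  have hp' : Nat.Prime p := Nat.prime_iff.2 hp
  obtain ⟨p', hchar⟩ := CharP.exists K
  have hp'' : Fact p'.Prime := ⟨CharP.char_is_prime K p'⟩
  obtain ⟨n, -, hn⟩ := FiniteField.card K p'
  have hpp : p = p' := by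
    have h1 : p ∣ p' ^ (n : ℕ) := by
      rw [← hn, hK, ← pow_mul]
      exact dvd_pow_self p (Nat.mul_ne_zero (Nat.pos_iff_ne_zero.1 he) hm)
    exact (Nat.prime_dvd_prime_iff_eq hp' hp''.out).1 (hp'.dvd_of_dvd_pow h1)
  subst hpp
  exact ⟨p, e, hp', he, rfl, hchar⟩

theorem not_dvd_evalP (p q : ℕ) (hp : p.Prime) (hpq : p ∣ q) (c : List ℕ) :
    ¬ p ∣ evalP (1 :: c) q := by
  intro h
  have h1 : evalP (1 :: c) q = 1 + q * evalP c q := rfl
  rw [h1] at h
  have h2 : p ∣ q * evalP c q := Dvd.dvd.mul_right hpq _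
  have h3 : p ∣ 1 + q * evalP c q - q * evalP c q := Nat.dvd_sub h h2
  rw [Nat.add_sub_cancel] at h3
  exact hp.one_lt.ne' (Nat.dvd_one.1 h3)

theorem not_dvd_succ (p q : ℕ) (hp : p.Prime) (hpq : p ∣ q) : ¬ p ∣ q + 1 := by
  intro h
  have h3 : p ∣ q + 1 - q := Nat.dvd_sub h hpq
  rw [Nat.add_sub_cancel_left] at h3
  exact hp.one_lt.ne' (Nat.dvd_one.1 h3)

theorem not_dvd_pred (p q : ℕ) (hp : p.Prime) (hpq : p ∣ q) (hq : 1 ≤ q) : ¬ p ∣ q - 1 := by
  intro h
  have h3 : p ∣ q - (q - 1) := Nat.dvd_sub hpq h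
  have : q - (q - 1) = 1 := by omega
  rw [this] at h3
  exact hp.one_lt.ne' (Nat.dvd_one.1 h3)

theorem sT_apply {K : Type*} [Field K] (f : K →+* K) (J : List ℕ) (t : K) (i : ℕ) :
    sT f J t i = f^[J.idxOf i] t := by
  unfold sT
  rw [RingHom.coe_pow]

/-- some element is moved by the `q`-power map -/
theorem exists_moved {K : Type*} [Field K] [Fintype K] {q m : ℕ} (hq : IsPrimePow q)
    (hm : 2 ≤ m) (hK : Fintype.card K = q ^ m) (f : K →+* K) (hf : ∀ x, f x = x ^ q) :
    ∃ t, f t ≠ t := by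
  by_contra hcon0
  have hcon : ∀ t, f t = t := fun t => by
    by_contra h
    exact hcon0 ⟨t, h⟩
  have h1 := FrobFix.card_fixed (K := K) hq.two_le hK
  have e : {x : K // x ^ q = x} ≃ K :=
    ⟨fun x => x.1, fun x => ⟨x, by rw [← hf]; exact hcon x⟩, fun x => rfl, fun x => rfl⟩
  rw [Nat.card_congr e, Nat.card_eq_fintype_card, hK] at h1
  have h2 : q ^ 1 < q ^ m := Nat.pow_lt_pow_right hq.two_le (by omega)
  rw [pow_one] at h2
  omega

/-! ### `²E₆(q)` -/

section E6

open Cfsg.Agent.Lib.Helper5.Tw2E6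

theorem hcyc6 : ∀ J ∈ orbits, ∀ j < J.length,
    rhoN chevE6.rank rho6 (J.getD j 0) = J.getD ((j + 1) % J.length) 0 := by
  decide

set_option maxRecDepth 1000000 in
theorem comm6 :
    (∀ r < chevE6.nroots, wAct chevE6 ([1] ++ [0, 5]) r = wAct chevE6 ([0, 5] ++ [1]) r) ∧
    (∀ r < chevE6.nroots, wAct chevE6 ([1] ++ [2, 4]) r = wAct chevE6 ([2, 4] ++ [1]) r) ∧
    (∀ r < chevE6.nroots, wAct chevE6 ([3] ++ [0, 5]) r = wAct chevE6 ([0, 5] ++ [3]) r) := by
  decide +kernel

theorem rigid6 : Rigid chevE6 orbits := by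
  intro π hmem hinj hlen hcomm
  obtain ⟨c1, c2, c3⟩ := comm6
  obtain ⟨-, e2, -⟩ := nc6
  have m0 : [0, 5] ∈ orbits := by simp [orbits]
  have m1 : [1] ∈ orbits := by simp [orbits]
  have m2 : [2, 4] ∈ orbits := by simp [orbits]
  have m3 : [3] ∈ orbits := by simp [orbits]
  have key : ∀ J ∈ orbits, π J = [0, 5] ∨ π J = [1] ∨ π J = [2, 4] ∨ π J = [3] := by
    intro J hJ
    simpa [orbits] using hmem J hJ
  have hone : ∀ J ∈ orbits, J.length = 1 → π J = [1] ∨ π J = [3] := by
    intro J hJ hl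
    have h := hlen J hJ
    rw [hl] at h
    rcases key J hJ with h' | h' | h' | h'
    · rw [h'] at h; simp at h
    · exact Or.inl h'
    · rw [h'] at h; simp at h
    · exact Or.inr h'
  have htwo : ∀ J ∈ orbits, J.length = 2 → π J = [0, 5] ∨ π J = [2, 4] := by
    intro J hJ hl
    have h := hlen J hJ
    rw [hl] at h
    rcases key J hJ with h' | h' | h' | h'
    · exact Or.inl h'
    · rw [h'] at h; simp at h
    · exact Or.inr h'
    · rw [h'] at h; simp at h
  have hn : ¬ CommW chevE6 (π [3]) (π [2, 4]) := by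
    rw [← hcomm [3] m3 [2, 4] m2]
    intro h
    obtain ⟨r, hr, hne⟩ := e2
    exact hne (h r hr)
  have hd : π [3] = [3] ∧ π [2, 4] = [2, 4] := by
    rcases hone [3] m3 rfl with h | h <;> rcases htwo [2, 4] m2 rfl with h' | h'
    · exact absurd (by rw [h, h']; exact c1) hn
    · exact absurd (by rw [h, h']; exact c2) hn
    · exact absurd (by rw [h, h']; exact c3) hn
    · exact ⟨h, h'⟩
  have hb : π [1] = [1] := by
    rcases hone [1] m1 rfl with h | h
    · exact h
    · exact absurd (hinj [1] m1 [3] m3 (by rw [h, hd.1])) (by decide)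
  have ha : π [0, 5] = [0, 5] := by
    rcases htwo [0, 5] m0 rfl with h | h
    · exact h
    · exact absurd (hinj [0, 5] m0 [2, 4] m2 (by rw [h, hd.2])) (by decide)
  intro J hJ
  simp only [orbits, List.mem_cons, List.not_mem_nil, or_false] at hJ
  rcases hJ with rfl | rfl | rfl | rfl
  · exact ha
  · exact hb
  · exact hd.2
  · exact hd.1

set_option maxRecDepth 100000 in
theorem adj6 : AdjT chevE6 [1] [3] ∧ AdjT chevE6 [3] [2, 4] ∧ AdjT chevE6 [2, 4] [0, 5] := by
  unfold AdjT
  decide +kernel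

theorem linked6 : Linked chevE6 orbits [0, 5] := by
  obtain ⟨a1, a2, a3⟩ := adj6
  have m0 : [0, 5] ∈ orbits := by simp [orbits]
  have m1 : [1] ∈ orbits := by simp [orbits]
  have m2 : [2, 4] ∈ orbits := by simp [orbits]
  have m3 : [3] ∈ orbits := by simp [orbits]
  have s3 : Relation.ReflTransGen (fun A B : List ℕ => A ∈ orbits ∧ B ∈ orbits ∧ AdjT chevE6 A B)
      [2, 4] [0, 5] := Relation.ReflTransGen.single ⟨m2, m0, a3⟩
  have s2 : Relation.ReflTransGen (fun A B : List ℕ => A ∈ orbits ∧ B ∈ orbits ∧ AdjT chevE6 A B)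
      [3] [0, 5] := Relation.ReflTransGen.head ⟨m3, m2, a2⟩ s3
  have s1 : Relation.ReflTransGen (fun A B : List ℕ => A ∈ orbits ∧ B ∈ orbits ∧ AdjT chevE6 A B)
      [1] [0, 5] := Relation.ReflTransGen.head ⟨m1, m3, a1⟩ s2
  intro J hJ
  simp only [orbits, List.mem_cons, List.not_mem_nil, or_false] at hJ
  rcases hJ with rfl | rfl | rfl | rfl
  · exact Relation.ReflTransGen.refl
  · exact s1
  · exact s3
  · exact s2

set_option maxRecDepth 1000000 in
theorem oppOK6 : OppOK chevE6 orbits w0Js6.flatten := by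
  unfold OppOK
  decide +kernel

variable {K : Type*} [Field K] {q : ℕ} (f : K →+* K) (hf : ∀ x, f x = x ^ q)
  (hf2 : ∀ x, f (f x) = x)

include hf hf2 in
theorem hclo6 : twistedE6 K q = Subgroup.closure {g | ∃ J ∈ orbits, ∃ t, InK f J t ∧
    (g = xT chevE6 hE6 f J t ∨ g = yT chevE6 hE6 f J t)} := by
  obtain ⟨s0, s1, s2, s3, s4, s5, n0, n1, n2, n3, n4, n5⟩ := simple_vals
  obtain ⟨r0, r1, r2, r3, r4, r5⟩ := rhoN_vals
  have m0 : [0, 5] ∈ orbits := by simp [orbits]
  have m1 : [1] ∈ orbits := by simp [orbits]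
  have m2 : [2, 4] ∈ orbits := by simp [orbits]
  have m3 : [3] ∈ orbits := by simp [orbits]
  apply le_antisymm
  · unfold twistedE6 ChevalleyDatum.genSubgroup
    rw [Subgroup.closure_le]
    rintro g ⟨w, hw, hg⟩
    have e : g = wordGL chevE6 hE6 w := Units.ext (by rw [hg, wordGL_val])
    rw [e]
    apply Subgroup.subset_closure
    rcases hw with ⟨t, ht, r, hr, rfl⟩ | ⟨t, rs, hrs, rfl⟩
    · have hI : ∀ J : List ℕ, J.length = 1 → InK f J t := by
        intro J hJ
        unfold InK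
        rw [hJ, pow_one, hf, ht]
      simp only [List.mem_cons, List.not_mem_nil, or_false] at hr
      rcases hr with rfl | rfl | rfl | rfl
      · refine ⟨[1], m1, t, hI _ rfl, Or.inl ?_⟩
        simp [xT, sT_apply, s1]
      · refine ⟨[1], m1, t, hI _ rfl, Or.inr ?_⟩
        simp [yT, sT_apply, s1, n1]
      · refine ⟨[3], m3, t, hI _ rfl, Or.inl ?_⟩
        simp [xT, sT_apply, s3]
      · refine ⟨[3], m3, t, hI _ rfl, Or.inr ?_⟩
        simp [yT, sT_apply, s3, n3]
    · have hI : ∀ J : List ℕ, J.length = 2 → InK f J t := by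
        intro J hJ
        unfold InK
        rw [hJ, pow_two]
        exact hf2 t
      simp only [List.mem_cons, List.not_mem_nil, or_false] at hrs
      rcases hrs with rfl | rfl | rfl | rfl
      · refine ⟨[0, 5], m0, t, hI _ rfl, Or.inl ?_⟩
        simp [xT, sT_apply, s0, s5, hf]
      · refine ⟨[0, 5], m0, t, hI _ rfl, Or.inr ?_⟩
        simp [yT, sT_apply, s0, s5, n0, n5, hf]
      · refine ⟨[2, 4], m2, t, hI _ rfl, Or.inl ?_⟩
        simp [xT, sT_apply, s2, s4, hf]
      · refine ⟨[2, 4], m2, t, hI _ rfl, Or.inr ?_⟩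
        simp [yT, sT_apply, s2, s4, n2, n4, hf]
  · rw [Subgroup.closure_le]
    rintro g ⟨J, hJ, t, ht, hg⟩
    have hs : ∀ i ∈ J, sT f J t (rhoN chevE6.rank rho6 i) = f (sT f J t i) := by
      unfold InK at ht
      simp only [orbits, List.mem_cons, List.not_mem_nil, or_false] at hJ
      rcases hJ with rfl | rfl | rfl | rfl
      · intro i hi
        simp only [List.mem_cons, List.not_mem_nil, or_false] at hi
        have ht' : f (f t) = t := by simpa [pow_two] using ht
        rcases hi with rfl | rfl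
        · show sT f [0, 5] t (rhoN 6 rho6 0) = _
          rw [r0]; simp [sT_apply]
        · show sT f [0, 5] t (rhoN 6 rho6 5) = _
          rw [r5]; simp [sT_apply, ht']
      · intro i hi
        simp only [List.mem_cons, List.not_mem_nil, or_false] at hi
        have ht' : f t = t := by simpa using ht
        subst hi
        show sT f [1] t (rhoN 6 rho6 1) = _
        rw [r1]; simp [sT_apply, ht']
      · intro i hi
        simp only [List.mem_cons, List.not_mem_nil, or_false] at hi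
        have ht' : f (f t) = t := by simpa [pow_two] using ht
        rcases hi with rfl | rfl
        · show sT f [2, 4] t (rhoN 6 rho6 2) = _
          rw [r2]; simp [sT_apply]
        · show sT f [2, 4] t (rhoN 6 rho6 4) = _
          rw [r4]; simp [sT_apply, ht']
      · intro i hi
        simp only [List.mem_cons, List.not_mem_nil, or_false] at hi
        have ht' : f t = t := by simpa using ht
        subst hi
        show sT f [3] t (rhoN 6 rho6 3) = _
        rw [r3]; simp [sT_apply, ht']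
    have h := hgen6 (q := q) f hf J hJ (sT f J t) hs
    rcases hg with rfl | rfl
    · exact h.1
    · exact h.2

end E6

section E6'

open Cfsg.Agent.Lib.Helper5.Tw2E6

theorem hsyl6 {K : Type*} [Field K] [Fintype K] {q : ℕ} (hq : IsPrimePow q)
    (hK : Fintype.card K = q ^ 2) : ∃ p : ℕ, p.Prime ∧ CharP K p ∧
    (∃ a, Nat.card ↥(chevE6.posUnipotent K ⊓ twistedE6 K q) = p ^ a) ∧
    ¬ p ∣ (Nat.card ↥(twistedE6 K q) / Nat.card ↥(chevE6.posUnipotent K ⊓ twistedE6 K q)) := by
  obtain ⟨p, e, hp, he, hqe, hchar⟩ := exists_char hq (by norm_num : 2 ≠ 0) hK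
  refine ⟨p, hp, hchar, ⟨e * 36, ?_⟩, ?_⟩
  · rw [card_pos_twisted hq hK, hqe, pow_mul]
  · rw [card_twisted hq hK, card_pos_twisted hq hK, mul_assoc,
      Nat.mul_div_cancel_left _ (pow_pos hq.pos 36)]
    have hpq : p ∣ q := by rw [hqe]; exact dvd_pow_self p he.ne'
    intro h
    rcases (Nat.Prime.dvd_mul hp).1 h with h | h
    · have h2 : p ∣ Nat.gcd 3 (q + 1) *
          Nat.card ↥(chevE6.diagonalSubgroup K ⊓ twistedE6 K q) := Dvd.dvd.mul_left h _
      rw [card_diag_twisted hq hK] at h2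
      rcases (Nat.Prime.dvd_mul hp).1 h2 with h3 | h3
      · exact not_dvd_pred p q hp hpq hq.pos (hp.dvd_of_dvd_pow h3)
      · exact not_dvd_succ p q hp hpq (hp.dvd_of_dvd_pow h3)
    · exact not_dvd_evalP p q hp hpq _ h

/-- the hypotheses of the farm hold for `²E₆(q)` -/
theorem hyp6A {K : Type*} [Field K] [Fintype K] {q : ℕ} (hq : IsPrimePow q)
    (hK : Fintype.card K = q ^ 2) (f : K →+* K) (hf : ∀ x, f x = x ^ q)
    (hf2 : ∀ x, f (f x) = x) :
    TwAutHyp chevE6 hE6 gE6 chkGraphPerm_gE6 f rho6 orbits (twistedE6 K q) 2 where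
  bn := hyp6 hq hK f hf hf2
  horth := orth_ok
  hne := by decide
  hlen := by decide
  hfm := fun x => by rw [pow_two]; exact hf2 x
  hcyc := hcyc6
  hgen := hgen6 f hf
  hclo := hclo6 f hf hf2
  hw0 := ⟨w0Js6, w0Js6_mem, w0Js6_chk⟩
  hsyl := hsyl6 hq hK

end E6'

/-! ### `³D₄(q)` -/

section D4

open Cfsg.Agent.Lib.Helper5.Tw3D4

theorem hcyc4 : ∀ J ∈ orbits, ∀ j < J.length,
    rhoN chevD4.rank rho4 (J.getD j 0) = J.getD ((j + 1) % J.length) 0 := by
  decide

theorem rigid4 : Rigid chevD4 orbits := by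
  intro π hmem hinj hlen hcomm
  have key : ∀ J ∈ orbits, π J = [0, 2, 3] ∨ π J = [1] := by
    intro J hJ
    simpa [orbits] using hmem J hJ
  intro J hJ
  have h := hlen J hJ
  have h' := key J hJ
  simp only [orbits, List.mem_cons, List.not_mem_nil, or_false] at hJ
  rcases hJ with rfl | rfl
  · rcases h' with h' | h'
    · exact h'
    · rw [h'] at h; simp at h
  · rcases h' with h' | h'
    · rw [h'] at h; simp at h
    · exact h'

set_option maxRecDepth 100000 in
theorem adj4 : AdjT chevD4 [1] [0, 2, 3] := by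
  unfold AdjT
  decide +kernel

theorem linked4 : Linked chevD4 orbits [0, 2, 3] := by
  have m0 : [0, 2, 3] ∈ orbits := by simp [orbits]
  have m1 : [1] ∈ orbits := by simp [orbits]
  intro J hJ
  simp only [orbits, List.mem_cons, List.not_mem_nil, or_false] at hJ
  rcases hJ with rfl | rfl
  · exact Relation.ReflTransGen.refl
  · exact Relation.ReflTransGen.single ⟨m1, m0, adj4⟩

set_option maxRecDepth 1000000 in
theorem oppOK4 : OppOK chevD4 orbits w0Js4.flatten := by
  unfold OppOK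
  decide +kernel

variable {K : Type*} [Field K] {q : ℕ} (f : K →+* K) (hf : ∀ x, f x = x ^ q)
  (hf3 : ∀ x, f (f (f x)) = x)

include hf hf3 in
theorem hclo4 : twistedD4 K q = Subgroup.closure {g | ∃ J ∈ orbits, ∃ t, InK f J t ∧
    (g = xT chevD4 hD4 f J t ∨ g = yT chevD4 hD4 f J t)} := by
  obtain ⟨s0, s1, s2, s3, n0, n1, n2, n3⟩ := simple_vals
  obtain ⟨r0, r1, r2, r3⟩ := rhoN_vals
  have m0 : [0, 2, 3] ∈ orbits := by simp [orbits]
  have m1 : [1] ∈ orbits := by simp [orbits]
  apply le_antisymm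
  · unfold twistedD4 ChevalleyDatum.genSubgroup
    rw [Subgroup.closure_le]
    rintro g ⟨w, hw, hg⟩
    have e : g = wordGL chevD4 hD4 w := Units.ext (by rw [hg, wordGL_val])
    rw [e]
    apply Subgroup.subset_closure
    rcases hw with ⟨t, ht, r, hr, rfl⟩ | ⟨t, rs, hrs, rfl⟩
    · have hI : ∀ J : List ℕ, J.length = 1 → InK f J t := by
        intro J hJ
        unfold InK
        rw [hJ, pow_one, hf, ht]
      simp only [List.mem_cons, List.not_mem_nil, or_false] at hr
      rcases hr with rfl | rfl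
      · refine ⟨[1], m1, t, hI _ rfl, Or.inl ?_⟩
        simp [xT, sT_apply, s1]
      · refine ⟨[1], m1, t, hI _ rfl, Or.inr ?_⟩
        simp [yT, sT_apply, s1, n1]
    · have hI : ∀ J : List ℕ, J.length = 3 → InK f J t := by
        intro J hJ
        unfold InK
        rw [hJ]
        show (f ^ 3) t = t
        rw [pow_succ, pow_two]
        exact hf3 t
      have hff : f (f t) = t ^ q ^ 2 := f_sq f hf t
      simp only [List.mem_cons, List.not_mem_nil, or_false] at hrs
      rcases hrs with rfl | rfl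
      · refine ⟨[0, 2, 3], m0, t, hI _ rfl, Or.inl ?_⟩
        simp [xT, sT_apply, s0, s2, s3, hff, ← hf]
      · refine ⟨[0, 2, 3], m0, t, hI _ rfl, Or.inr ?_⟩
        simp [yT, sT_apply, s0, s2, s3, n0, n2, n3, hff, ← hf]
  · rw [Subgroup.closure_le]
    rintro g ⟨J, hJ, t, ht, hg⟩
    have hs : ∀ i ∈ J, sT f J t (rhoN chevD4.rank rho4 i) = f (sT f J t i) := by
      unfold InK at ht
      simp only [orbits, List.mem_cons, List.not_mem_nil, or_false] at hJ
      rcases hJ with rfl | rfl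
      · intro i hi
        simp only [List.mem_cons, List.not_mem_nil, or_false] at hi
        have ht' : f (f (f t)) = t := hf3 t
        rcases hi with rfl | rfl | rfl
        · show sT f [0, 2, 3] t (rhoN 4 rho4 0) = _
          rw [r0]; simp [sT_apply]
        · show sT f [0, 2, 3] t (rhoN 4 rho4 2) = _
          rw [r2]; simp [sT_apply]
        · show sT f [0, 2, 3] t (rhoN 4 rho4 3) = _
          rw [r3]; simp [sT_apply, ht']
      · intro i hi
        simp only [List.mem_cons, List.not_mem_nil, or_false] at hi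
        have ht' : f t = t := by simpa using ht
        subst hi
        show sT f [1] t (rhoN 4 rho4 1) = _
        rw [r1]; simp [sT_apply, ht']
    have h := hgen4 (q := q) f hf J hJ (sT f J t) hs
    rcases hg with rfl | rfl
    · exact h.1
    · exact h.2

end D4

section D4'

open Cfsg.Agent.Lib.Helper5.Tw3D4

theorem hsyl4 {K : Type*} [Field K] [Fintype K] {q : ℕ} (hq : IsPrimePow q)
    (hK : Fintype.card K = q ^ 3) : ∃ p : ℕ, p.Prime ∧ CharP K p ∧
    (∃ a, Nat.card ↥(chevD4.posUnipotent K ⊓ twistedD4 K q) = p ^ a) ∧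
    ¬ p ∣ (Nat.card ↥(twistedD4 K q) / Nat.card ↥(chevD4.posUnipotent K ⊓ twistedD4 K q)) := by
  obtain ⟨p, e, hp, he, hqe, hchar⟩ := exists_char hq (by norm_num : 3 ≠ 0) hK
  refine ⟨p, hp, hchar, ⟨e * 12, ?_⟩, ?_⟩
  · rw [card_pos_twisted hq hK, hqe, pow_mul]
  · rw [card_twisted hq hK, card_pos_twisted hq hK, mul_assoc,
      Nat.mul_div_cancel_left _ (pow_pos hq.pos 12)]
    have hpq : p ∣ q := by rw [hqe]; exact dvd_pow_self p he.ne'
    intro h
    rcases (Nat.Prime.dvd_mul hp).1 h with h | h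
    · rw [card_diag_twisted hq hK] at h
      rcases (Nat.Prime.dvd_mul hp).1 h with h3 | h3
      · exact not_dvd_pred p q hp hpq hq.pos (hp.dvd_of_dvd_pow h3)
      · have h4 : q ^ 2 + q + 1 = q * (q + 1) + 1 := by ring
        rw [h4] at h3
        exact not_dvd_succ p _ hp (Dvd.dvd.mul_right hpq _) h3
    · exact not_dvd_evalP p q hp hpq _ h

/-- the hypotheses of the farm hold for `³D₄(q)` -/
theorem hyp4A {K : Type*} [Field K] [Fintype K] {q : ℕ} (hq : IsPrimePow q)
    (hK : Fintype.card K = q ^ 3) (f : K →+* K) (hf : ∀ x, f x = x ^ q)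
    (hf3 : ∀ x, f (f (f x)) = x) :
    TwAutHyp chevD4 hD4 gD4a chkGraphPerm_gD4a f rho4 orbits (twistedD4 K q) 3 where
  bn := hyp4 hq hK f hf hf3
  horth := orth_ok
  hne := by decide
  hlen := by decide
  hfm := fun x => by
    show (f ^ 3) x = x
    rw [pow_succ, pow_two]
    exact hf3 x
  hcyc := hcyc4
  hgen := hgen4 f hf
  hclo := hclo4 f hf hf3
  hw0 := ⟨w0Js4, w0Js4_mem, w0Js4_chk⟩
  hsyl := hsyl4 hq hK

end D4'

end Cfsg.Agent.Lib.Helper5.TwAutInst
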