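import Mathlib
import Cfsg.Agent.Lib.Helper5.E6MDefs

set_option autoImplicit false

/-!
Farm E6M (S2340), unit QL: consequences of `qlaw`.
-/

namespace Cfsg.Agent.Lib.Helper5.E6MQL

open Cfsg.Agent.Lib.Helper5.E6M Matrix T3

variable {F : Type*} [Field F] {G : Type*} [Group G] (D : Data F G)

theorem bil_zero_left (s : T3 → F) : bil (0 : T3 → F) s = 0 := by
  unfold bil
  apply Finset.sum_eq_zero
  intro J _
  split_ifs <;> simp

theorem bil_zero_right (s : T3 → F) : bil s (0 : T3 → F) = 0 := by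
  unfold bil
  apply Finset.sum_eq_zero
  intro J _
  split_ifs <;> simp

theorem bil_neg_right (s s' : T3 → F) : bil s (-s') = -bil s s' := by
  unfold bil
  rw [← Finset.sum_neg_distrib]
  apply Finset.sum_congr rfl
  intro J _
  split_ifs <;> simp

theorem ext1_compl (v : S1 → F) (J : T3) (hJ : (0 : Fin 6) ∈ J.1) : ext1 v J.compl = 0 := by
  unfold ext1
  rw [dif_neg]
  simp [T3.compl, hJ]

theorem ext1_of_not (v : S1 → F) (J : T3) (hJ : (0 : Fin 6) ∉ J.1) : ext1 v J = 0 := by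
  unfold ext1
  rw [dif_neg hJ]

theorem bil_ext1_left (v : S1 → F) (s : T3 → F) : bil (ext1 v) s = 0 := by
  unfold bil
  apply Finset.sum_eq_zero
  intro J _
  split_ifs with h
  · rw [ext1_compl v J h]; ring
  · rfl

theorem ext1_add (v v' : S1 → F) : ext1 v + ext1 v' = ext1 (v + v') := by
  funext I
  unfold ext1
  simp only [Pi.add_apply]
  split_ifs <;> simp

variable (hD : Rel D)

include hD

theorem Phi_zero : Phi D 0 0 = 1 := by
  have := hD.qlaw 0 0 0 0
  rw [bil_zero_left, add_zero, add_zero, add_zero] at this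
  exact mul_eq_left.1 this

theorem z_mul_Phi (r r' : F) (s : T3 → F) : D.z r * Phi D r' s = Phi D (r + r') s := by
  rw [hD.z_eq, hD.qlaw, bil_zero_left, add_zero, zero_add]

theorem Phi_inv (r : F) (s : T3 → F) : (Phi D r s)⁻¹ = Phi D (-r + bil s s) (-s) := by
  rw [inv_eq_iff_mul_eq_one, hD.qlaw, bil_neg_right, add_neg_cancel]
  have : r + (-r + bil s s) + -bil s s = 0 := by ring
  rw [this, Phi_zero D hD]

theorem Phi_ext1_mul (r r' : F) (v v' : S1 → F) :
    Phi D r (ext1 v) * Phi D r' (ext1 v') = Phi D (r + r') (ext1 (v + v')) := by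
  rw [hD.qlaw, bil_ext1_left, add_zero, ext1_add]

theorem bil_single_ext1 (J : T3) (hJ : (0 : Fin 6) ∉ J.1) (S : F) (v : S1 → F) :
    bil (Pi.single J S) (ext1 v) = ((J.omega : ℤ) : F) * S * ext1 v J.compl := by
  unfold bil
  have hJc : (0 : Fin 6) ∈ J.compl.1 := by simp [T3.compl, hJ]
  rw [Finset.sum_eq_single J.compl]
  · rw [if_pos hJc]
    have : J.compl.compl = J := Subtype.ext (by simp [T3.compl])
    rw [this, Pi.single_eq_same]
  · intro K _ hK
    split_ifs with h
    · have : K.compl ≠ J := by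
        intro hh
        apply hK
        rw [← hh]
        exact Subtype.ext (by simp [T3.compl])
      rw [Pi.single_eq_of_ne this]; ring
    · rfl
  · intro h
    exact absurd (Finset.mem_univ _) h

theorem bil_right_single (s : T3 → F) (J : T3) (hJ : (0 : Fin 6) ∉ J.1) (S : F) :
    bil s (Pi.single J S) = 0 := by
  unfold bil
  apply Finset.sum_eq_zero
  intro K _
  split_ifs with h
  · have : K ≠ J := fun hh => hJ (hh ▸ h)
    rw [Pi.single_eq_of_ne this]; ring
  · rfl

theorem xI_conj_ext1 (J : T3) (hJ : (0 : Fin 6) ∉ J.1) (S r : F) (v : S1 → F) :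
    D.xI J S * Phi D r (ext1 v) * (D.xI J S)⁻¹ =
      Phi D (r + ((J.omega : ℤ) : F) * S * ext1 v J.compl) (ext1 v) := by
  rw [hD.xI_eq, Phi_inv D hD, hD.qlaw, hD.qlaw, bil_single_ext1 D hD J hJ]
  have e1 : (-(Pi.single J S : T3 → F)) = Pi.single J (-S) := by
    rw [← Pi.single_neg]
  rw [e1, bil_right_single D hD _ J hJ, bil_right_single D hD _ J hJ]
  congr 1
  · ring
  · rw [← e1]; abel

theorem conj_Phi (g : G) (c : F) (d : T3 → F) (hz : ∀ r, g * D.z r * g⁻¹ = D.z (c * r))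
    (hx : ∀ I a, g * D.xI I a * g⁻¹ = D.xI I (d I * a)) (r : F) (s : T3 → F) :
    g * Phi D r s * g⁻¹ = Phi D (c * r) (fun I => d I * s I) := by
  unfold Phi
  have key : ∀ L : List T3, g * (L.map fun I => D.xI I (s I)).prod * g⁻¹
      = (L.map fun I => D.xI I (d I * s I)).prod := by
    intro L
    induction L with
    | nil => simp
    | cons K L ih =>
      rw [List.map_cons, List.prod_cons, List.map_cons, List.prod_cons, ← ih, ← hx]
      group
  rw [← key, ← hz]
  group

theorem h_conj_ext1 (c : Fˣ) (r : F) (v : S1 → F) :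
    D.h c * Phi D r (ext1 v) * (D.h c)⁻¹ =
      Phi D (c * r) (ext1 fun I => ((c ^ hexp I.1 : Fˣ) : F) * v I) := by
  rw [conj_Phi D hD (D.h c) c (fun I => ((c ^ hexp I : Fˣ) : F)) (hD.h_z c) (hD.h_xI c)]
  congr 1
  funext I
  unfold ext1
  split_ifs
  · rfl
  · simp

theorem Phi_list_prod (l : List (F × (T3 → F))) :
    ∃ c : F, (l.map fun p => Phi D p.1 p.2).prod = Phi D c (l.map Prod.snd).sum := by
  induction l with
  | nil => exact ⟨0, by simp [Phi_zero D hD]⟩
  | cons p l ih =>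
    obtain ⟨c, hc⟩ := ih
    refine ⟨p.1 + c + bil p.2 (l.map Prod.snd).sum, ?_⟩
    rw [List.map_cons, List.prod_cons, hc, hD.qlaw, List.map_cons, List.sum_cons]

theorem n1_conj_pair : ∃ e e' : F, e ≠ 0 ∧ e' ≠ 0 ∧ ∀ r t : F,
    D.n1 * (D.z r * D.xij p03 t) * D.n1⁻¹ = D.xI I012 (e * r) * D.xI I045 (e' * t) := by
  obtain ⟨e, he, h1⟩ := hD.n1_z
  obtain ⟨e', he', h2⟩ := hD.n1_x
  refine ⟨e, e', he, he', fun r t => ?_⟩
  rw [← h1, ← h2]
  group

end Cfsg.Agent.Lib.Helper5.E6MQL
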