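import Mathlib
import Cfsg.Agent.Lib.Helper5.E6MDefs2

set_option autoImplicit false

/-!
Farm E6M (S2340), unit REL: the multiplication of `Q` from the pairwise relations.
-/

namespace Cfsg.Agent.Lib.Helper5.E6M

open T3

variable {F : Type*} [Field F] {G : Type*} [Group G] (D : Data F G)

/-- the ordered product over a list of 3-subsets -/
def prodL (L : List T3) (s : T3 → F) : G := (L.map fun I => D.xI I (s I)).prod

theorem prodL_nil (s : T3 → F) : prodL D [] s = 1 := rfl

theorem prodL_cons (K : T3) (L : List T3) (s : T3 → F) :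
    prodL D (K :: L) s = D.xI K (s K) * prodL D L s := by
  simp [prodL]

theorem Phi_eq (r : F) (s : T3 → F) : Phi D r s = D.z r * (prodL D L1 s * prodL D L0 s) := by
  simp [Phi, prodL, T3list, List.map_append, List.prod_append]

theorem T3.compl_compl (I : T3) : I.compl.compl = I := Subtype.ext (by simp [T3.compl])

set_option maxRecDepth 100000 in
theorem tabL1a : ∀ I ∈ L1, ∀ J ∈ L1, J ≠ I.compl := by decide +kernel
theorem tabL1b : L1.Nodup := by decide +kernel
set_option maxRecDepth 100000 in
theorem tabL1c : ∀ J : T3, (0 : Fin 6) ∈ J.1 ↔ J ∈ L1 := by decide +kernel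
set_option maxRecDepth 100000 in
theorem tabL1d : ∀ J ∈ L1, J.compl ∈ L0 := by decide +kernel

theorem tabL1 : (∀ I ∈ L1, ∀ J ∈ L1, J ≠ I.compl) ∧ L1.Nodup ∧
    (∀ J : T3, (0 : Fin 6) ∈ J.1 ↔ J ∈ L1) ∧ (∀ J ∈ L1, J.compl ∈ L0) :=
  ⟨tabL1a, tabL1b, tabL1c, tabL1d⟩

set_option maxRecDepth 100000 in
theorem tabL0a : ∀ I ∈ L0, ∀ J ∈ L0, J ≠ I.compl := by decide +kernel
theorem tabL0b : L0.Nodup := by decide +kernel
theorem tabL0 : (∀ I ∈ L0, ∀ J ∈ L0, J ≠ I.compl) ∧ L0.Nodup := ⟨tabL0a, tabL0b⟩

set_option maxRecDepth 100000 in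
theorem tabL01 : ∀ I : T3, ((0 : Fin 6) ∈ I.1 → I ∉ L0) ∧ ((0 : Fin 6) ∉ I.1 → I ∈ L0) := by
  decide +kernel

variable {D}
variable (h0 : Rel0 D)

include h0

theorem z_zero : D.z 0 = 1 := by
  have := h0.z_add 0 0
  rw [add_zero] at this
  exact mul_eq_left.1 this

theorem xI_zero (I : T3) : D.xI I 0 = 1 := by
  have := h0.xI_add I 0 0
  rw [add_zero] at this
  exact mul_eq_left.1 this

theorem z_comm_prodL (r : F) (L : List T3) (s : T3 → F) :
    D.z r * prodL D L s = prodL D L s * D.z r := by
  induction L with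
  | nil => simp [prodL_nil]
  | cons K L ih =>
    rw [prodL_cons, ← mul_assoc, h0.z_xI, mul_assoc, ih, mul_assoc]

theorem xI_comm_prodL (K : T3) (a : F) (L : List T3) (hL : ∀ I ∈ L, K ≠ I.compl) (s : T3 → F) :
    D.xI K a * prodL D L s = prodL D L s * D.xI K a := by
  induction L with
  | nil => simp [prodL_nil]
  | cons J L ih =>
    have hJ : K ≠ J.compl := hL J (List.mem_cons_self ..)
    have hL' : ∀ I ∈ L, K ≠ I.compl := fun I hI => hL I (List.mem_cons_of_mem _ hI)
    rw [prodL_cons, ← mul_assoc, ← h0.xI_comm J K (s J) a hJ, mul_assoc, ih hL', mul_assoc]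

theorem prodL_add (L : List T3) (hL : ∀ I ∈ L, ∀ J ∈ L, J ≠ I.compl) (s s' : T3 → F) :
    prodL D L s * prodL D L s' = prodL D L (s + s') := by
  induction L with
  | nil => simp [prodL_nil]
  | cons K L ih =>
    have hL' : ∀ I ∈ L, ∀ J ∈ L, J ≠ I.compl := fun I hI J hJ =>
      hL I (List.mem_cons_of_mem _ hI) J (List.mem_cons_of_mem _ hJ)
    have hK : ∀ I ∈ L, K ≠ I.compl := fun I hI =>
      hL I (List.mem_cons_of_mem _ hI) K (List.mem_cons_self ..)
    rw [prodL_cons, prodL_cons, prodL_cons]
    calc D.xI K (s K) * prodL D L s * (D.xI K (s' K) * prodL D L s')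
        = D.xI K (s K) * (prodL D L s * D.xI K (s' K)) * prodL D L s' := by
          simp only [mul_assoc]
      _ = D.xI K (s K) * (D.xI K (s' K) * prodL D L s) * prodL D L s' := by
          rw [xI_comm_prodL h0 K (s' K) L hK s]
      _ = (D.xI K (s K) * D.xI K (s' K)) * (prodL D L s * prodL D L s') := by
          simp only [mul_assoc]
      _ = _ := by rw [h0.xI_add, ih hL']; rfl

/-- moving one `x_J(b)` to the left past a product -/
theorem prodL_mul_xI (J : T3) (b : F) (L : List T3) (hnd : L.Nodup) (s : T3 → F) :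
    prodL D L s * D.xI J b =
      D.z (if J.compl ∈ L then ((J.compl.omega : ℤ) : F) * s J.compl * b else 0) *
        D.xI J b * prodL D L s := by
  induction L with
  | nil => simp [prodL_nil, z_zero h0]
  | cons K L ih =>
    have hnd' := (List.nodup_cons.1 hnd).2
    have hK : K ∉ L := (List.nodup_cons.1 hnd).1
    rw [prodL_cons, mul_assoc, ih hnd']
    by_cases hKJ : K = J.compl
    · -- the non-commuting pair
      have hJL : J.compl ∉ L := hKJ ▸ hK
      have hJK : K.compl = J := by rw [hKJ, T3.compl_compl]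
      rw [if_neg hJL, z_zero h0, one_mul, if_pos (by rw [hKJ]; exact List.mem_cons_self ..)]
      have := h0.xI_compl K (s K) b
      rw [hJK] at this
      rw [← mul_assoc, this, hKJ, mul_assoc]
    · have hJK : J ≠ K.compl := by
        intro h
        apply hKJ
        rw [h, T3.compl_compl]
      have hiff : (J.compl ∈ K :: L) ↔ J.compl ∈ L := by
        rw [List.mem_cons]
        constructor
        · rintro (h | h)
          · exact absurd h.symm hKJ
          · exact h
        · exact Or.inr
      simp only [hiff]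
      set c := (if J.compl ∈ L then ((J.compl.omega : ℤ) : F) * s J.compl * b else 0) with hc
      calc D.xI K (s K) * (D.z c * D.xI J b * prodL D L s)
          = (D.xI K (s K) * D.z c) * D.xI J b * prodL D L s := by simp only [mul_assoc]
        _ = (D.z c * D.xI K (s K)) * D.xI J b * prodL D L s := by rw [h0.z_xI]
        _ = D.z c * (D.xI K (s K) * D.xI J b) * prodL D L s := by simp only [mul_assoc]
        _ = D.z c * (D.xI J b * D.xI K (s K)) * prodL D L s := by rw [h0.xI_comm K J _ _ hJK]
        _ = D.z c * D.xI J b * (D.xI K (s K) * prodL D L s) := by simp only [mul_assoc]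

/-- moving a whole product to the left -/
theorem prodL_mul_prodL (L L' : List T3) (hnd : L.Nodup) (s s' : T3 → F) :
    prodL D L s * prodL D L' s' =
      D.z ((L'.map fun J => if J.compl ∈ L then ((J.compl.omega : ℤ) : F) * s J.compl * s' J
        else 0).sum) * prodL D L' s' * prodL D L s := by
  induction L' with
  | nil => simp [prodL_nil, z_zero h0]
  | cons J L' ih =>
    rw [prodL_cons, ← mul_assoc, prodL_mul_xI h0 J (s' J) L hnd s, mul_assoc, ih,
      List.map_cons, List.sum_cons, ← h0.z_add]
    set c1 := (if J.compl ∈ L then ((J.compl.omega : ℤ) : F) * s J.compl * s' J else 0)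
    set c2 := (L'.map fun J => if J.compl ∈ L then ((J.compl.omega : ℤ) : F) * s J.compl * s' J
        else 0).sum
    calc D.z c1 * D.xI J (s' J) * (D.z c2 * prodL D L' s' * prodL D L s)
        = D.z c1 * (D.xI J (s' J) * D.z c2) * prodL D L' s' * prodL D L s := by
          simp only [mul_assoc]
      _ = D.z c1 * (D.z c2 * D.xI J (s' J)) * prodL D L' s' * prodL D L s := by rw [h0.z_xI]
      _ = _ := by simp only [mul_assoc]

omit [Group G] h0 in
theorem bil_eq (s s' : T3 → F) :
    bil s s' = (L1.map fun J => if J.compl ∈ L0 then ((J.compl.omega : ℤ) : F) * s J.compl * s' J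
        else 0).sum := by
  obtain ⟨_, hnd, hmem, hc⟩ := tabL1
  unfold bil
  have e1 : (L1.map fun J => if J.compl ∈ L0 then ((J.compl.omega : ℤ) : F) * s J.compl * s' J
        else 0) = L1.map fun J => ((J.compl.omega : ℤ) : F) * s J.compl * s' J := by
    apply List.map_congr_left
    intro J hJ
    rw [if_pos (hc J hJ)]
  rw [e1, ← List.sum_toFinset _ hnd]
  rw [← Finset.sum_filter]
  apply Finset.sum_congr
  · ext J
    simp [hmem J]
  · intro J _
    rfl

/-- unit REL -/
theorem rel_of_rel0' :
    (∀ (r : F) (s : T3 → F) (r' : F) (s' : T3 → F),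
      Phi D r s * Phi D r' s' = Phi D (r + r' + bil s s') (s + s')) ∧
    (∀ r, D.z r = Phi D r 0) ∧ (∀ I a, D.xI I a = Phi D 0 (Pi.single I a)) := by
  refine ⟨?_, ?_, ?_⟩
  · intro r s r' s'
    rw [Phi_eq, Phi_eq, Phi_eq, bil_eq, ← h0.z_add, ← h0.z_add,
      ← prodL_add h0 L1 tabL1.1 s s', ← prodL_add h0 L0 tabL0.1 s s']
    have hswap := prodL_mul_prodL h0 L0 L1 tabL0.2 s s'
    set c := (L1.map fun J => if J.compl ∈ L0 then ((J.compl.omega : ℤ) : F) * s J.compl * s' J
        else 0).sum
    calc D.z r * (prodL D L1 s * prodL D L0 s) * (D.z r' * (prodL D L1 s' * prodL D L0 s'))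
        = D.z r * prodL D L1 s * (prodL D L0 s * D.z r') * prodL D L1 s' * prodL D L0 s' := by
          simp only [mul_assoc]
      _ = D.z r * prodL D L1 s * (D.z r' * prodL D L0 s) * prodL D L1 s' * prodL D L0 s' := by
          rw [z_comm_prodL h0 r' L0 s]
      _ = D.z r * (prodL D L1 s * D.z r') * (prodL D L0 s * prodL D L1 s') * prodL D L0 s' := by
          simp only [mul_assoc]
      _ = D.z r * (D.z r' * prodL D L1 s) * (D.z c * prodL D L1 s' * prodL D L0 s) *
            prodL D L0 s' := by
          rw [z_comm_prodL h0 r' L1 s, hswap]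
      _ = D.z r * D.z r' * (prodL D L1 s * D.z c) * prodL D L1 s' * prodL D L0 s *
            prodL D L0 s' := by
          simp only [mul_assoc]
      _ = D.z r * D.z r' * (D.z c * prodL D L1 s) * prodL D L1 s' * prodL D L0 s *
            prodL D L0 s' := by
          rw [z_comm_prodL h0 c L1 s]
      _ = _ := by simp only [mul_assoc]
  · intro r
    rw [Phi_eq]
    have h1 : ∀ L : List T3, prodL D L (0 : T3 → F) = 1 := by
      intro L
      induction L with
      | nil => rfl
      | cons K L ih => rw [prodL_cons, ih, Pi.zero_apply, xI_zero h0, one_mul]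
    rw [h1, h1, mul_one, mul_one]
  · intro I a
    rw [Phi_eq, z_zero h0, one_mul]
    have h1 : ∀ L : List T3, L.Nodup →
        prodL D L (Pi.single I a) = if I ∈ L then D.xI I a else 1 := by
      intro L hnd
      induction L with
      | nil => rfl
      | cons K L ih =>
        have hnd' := (List.nodup_cons.1 hnd).2
        have hK : K ∉ L := (List.nodup_cons.1 hnd).1
        rw [prodL_cons, ih hnd']
        by_cases hKI : K = I
        · subst hKI
          rw [Pi.single_eq_same, if_neg hK, mul_one, if_pos (List.mem_cons_self ..)]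
        · rw [Pi.single_eq_of_ne hKI, xI_zero h0, one_mul]
          have : (I ∈ K :: L) ↔ I ∈ L := by
            rw [List.mem_cons]
            constructor
            · rintro (h | h)
              · exact absurd h.symm hKI
              · exact h
            · exact Or.inr
          simp only [this]
    rw [h1 L1 tabL1.2.1, h1 L0 tabL0.2]
    by_cases hI : (0 : Fin 6) ∈ I.1
    · have hI1 : I ∈ L1 := (tabL1.2.2.1 I).1 hI
      have hI0 : I ∉ L0 := (tabL01 I).1 hI
      rw [if_pos hI1, if_neg hI0, mul_one]
    · have hI1 : I ∉ L1 := fun h => hI ((tabL1.2.2.1 I).2 h)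
      have hI0 : I ∈ L0 := (tabL01 I).2 hI
      rw [if_neg hI1, if_pos hI0, one_mul]

end Cfsg.Agent.Lib.Helper5.E6M
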