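import Mathlib
import Cfsg.Prelude.Def_ChevStructure
import Cfsg.Agent.Lib.Helper5.ChevW0
import Cfsg.Agent.Lib.Helper5.ChevXGL
import Cfsg.Agent.Lib.Helper5.ChevTorusAct

set_option autoImplicit false

/-!
The computable sign of the conjugation action of `n_w` on the root elements:
`n_w x_r(t) n_w⁻¹ = x_{w r}(ε_w(r) t)`, `ε_w(r) = ±1` the product of the signs `eta` along the word.
-/

namespace Cfsg.Agent.Lib.Helper5.ChevStruct

open Cfsg Cfsg.Lie Cfsg.Agent.Lib.Helper5.ChevSym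

variable {F : Type*} [Field F]

/-- the sign of `n_w x_r(t) n_w⁻¹ = x_{w r}(± t)` -/
def wEps (D : ChevalleyDatum) : List ℕ → ℕ → ℤ
  | [], _ => 1
  | i :: w, r => eta D i (wAct D w r) * wEps D w r

theorem wEps_nil (D : ChevalleyDatum) (r : ℕ) : wEps D [] r = 1 := rfl

theorem wEps_cons (D : ChevalleyDatum) (i : ℕ) (w : List ℕ) (r : ℕ) :
    wEps D (i :: w) r = eta D i (wAct D w r) * wEps D w r := rfl

theorem wEps_sq (D : ChevalleyDatum) (hD : D ∈ Seven) (w : List ℕ) (hw : ∀ i ∈ w, i < D.rank)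
    (r : ℕ) (hr : r < D.nroots) : wEps D w r = 1 ∨ wEps D w r = -1 := by
  induction w with
  | nil => exact Or.inl rfl
  | cons i w ih =>
    have hi := hw i (List.mem_cons_self ..)
    have hw' : ∀ j ∈ w, j < D.rank := fun j hj => hw j (List.mem_cons_of_mem _ hj)
    have hr' := wAct_lt D hD w hw' r hr
    rw [wEps_cons]
    rcases eta_sq D hD i hi _ hr' with h1 | h1 <;> rcases ih hw' with h2 | h2 <;>
      rw [h1, h2] <;> simp

/-- `n_w x_r(t) n_w⁻¹ = x_{w r}(ε_w(r) t)` with the computable sign `wEps` -/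
theorem wGL_conj_eps (D : ChevalleyDatum) (hD : D ∈ Seven) (w : List ℕ)
    (hw : ∀ i ∈ w, i < D.rank) (r : ℕ) (hr : r < D.nroots) (t : F) :
    (wGL D hD w * xGL D hD r t * (wGL D hD w)⁻¹ : GL D.Idx F) =
      xGL D hD (wAct D w r) ((wEps D w r : F) * t) := by
  induction w generalizing t with
  | nil =>
    simp [wGL, wAct, wEps]
  | cons i w ih =>
    have hi := hw i (List.mem_cons_self ..)
    have hw' : ∀ j ∈ w, j < D.rank := fun j hj => hw j (List.mem_cons_of_mem _ hj)
    have hr' := wAct_lt D hD w hw' r hr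
    have e1 : (wGL D hD (i :: w) : GL D.Idx F) = nGL D hD i * wGL D hD w := by
      simp [wGL]
    have e2 : (wGL D hD (i :: w) * xGL D hD r t * (wGL D hD (i :: w))⁻¹ : GL D.Idx F)
        = nGL D hD i * (wGL D hD w * xGL D hD r t * (wGL D hD w)⁻¹) * (nGL D hD i)⁻¹ := by
      rw [e1]
      group
    rw [e2, ih hw' t]
    apply Units.ext
    rw [nGL_conj D hD i hi _ hr' _ _ (xGL_val D hD _ _), xGL_val, wEps_cons]
    congr 1
    push_cast
    ring

/-- the action of `n_w h`, `h` a torus element, on the root elements -/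
theorem wGL_mul_torus_conj (D : ChevalleyDatum) (hD : D ∈ Seven) (w : List ℕ)
    (hw : ∀ i ∈ w, i < D.rank) (r : ℕ) (hr : r < D.nroots) (g : GL D.Idx F) (c : ℕ → F)
    (hc : ∀ i, c i ≠ 0) (hg : (g : Matrix D.Idx D.Idx F) = torusMat D c) (t : F) :
    ((wGL D hD w * g) * xGL D hD r t * (wGL D hD w * g)⁻¹ : GL D.Idx F) =
      xGL D hD (wAct D w r) ((wEps D w r : F) * (chi D c r * t)) := by
  have e1 : (g * xGL D hD r t * g⁻¹ : GL D.Idx F) = xGL D hD r (chi D c r * t) := by
    apply Units.ext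
    rw [torus_conj_x D hD g (xGL D hD r t) c hc hg r t (xGL_val D hD r t), xGL_val]
  have e2 : ((wGL D hD w * g) * xGL D hD r t * (wGL D hD w * g)⁻¹ : GL D.Idx F) =
      wGL D hD w * (g * xGL D hD r t * g⁻¹) * (wGL D hD w)⁻¹ := by group
  rw [e2, e1, wGL_conj_eps D hD w hw r hr]

end Cfsg.Agent.Lib.Helper5.ChevStruct
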