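import Mathlib

/-! Farm HIG (S3050), unit U8 = Part G1: a biadditive symmetric `SL₂(K)`-equivariant form between
sums of natural modules vanishes; group-side consequence: `Q` is abelian. -/
set_option autoImplicit false

namespace Cfsg.Agent.Lib.Helper5.HIG

open Matrix

section abstract

variable {K : Type*} [Field K] [CharP K 2]

/-- `u(a)` as an element of `SL₂(K)`. -/
def g1U (a : K) : Matrix.SpecialLinearGroup (Fin 2) K :=
  ⟨!![1, a; 0, 1], by simp [Matrix.det_fin_two]⟩

/-- `d(c)` as an element of `SL₂(K)`. -/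
def g1D (c : K) (hc : c ≠ 0) : Matrix.SpecialLinearGroup (Fin 2) K :=
  ⟨!![c, 0; 0, c⁻¹], by simp [Matrix.det_fin_two, hc]⟩

/-- `w` as an element of `SL₂(K)` (char 2). -/
def g1W : Matrix.SpecialLinearGroup (Fin 2) K :=
  ⟨!![0, 1; 1, 0], by
    have h2 : (2 : K) = 0 := CharP.cast_eq_zero K 2
    simp only [Matrix.det_fin_two_of]
    linear_combination (-1 : K) * h2⟩

/-- plus part -/
def g1P {k : ℕ} (x : Fin k → K) : Fin k → Fin 2 → K := fun j => ![x j, 0]
/-- minus part -/
def g1M {k : ℕ} (x : Fin k → K) : Fin k → Fin 2 → K := fun j => ![0, x j]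

omit [CharP K 2] in
theorem g1_decomp {k : ℕ} (a : Fin k → Fin 2 → K) :
    a = g1P (fun j => a j 0) + g1M (fun j => a j 1) := by
  funext j i
  fin_cases i <;> simp [g1P, g1M]

theorem g1_beta_zero (hK : ∃ c : K, c ≠ 0 ∧ c ≠ 1) {k k' : ℕ}
    (β : (Fin k → Fin 2 → K) → (Fin k → Fin 2 → K) → (Fin k' → Fin 2 → K))
    (hadd : ∀ a a' b, β (a + a') b = β a b + β a' b) (hsymm : ∀ a b, β a b = β b a)
    (heq : ∀ (g : Matrix.SpecialLinearGroup (Fin 2) K) a b i,
      β (fun j => g.1.mulVec (a j)) (fun j => g.1.mulVec (b j)) i = g.1.mulVec (β a b i)) :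
    ∀ a b, β a b = 0 := by
  have haddr : ∀ a b b', β a (b + b') = β a b + β a b' := by
    intro a b b'
    rw [hsymm a (b + b'), hadd, hsymm b a, hsymm b' a]
  -- actions on plus / minus parts
  have hUP : ∀ (a : K) (x : Fin k → K), (fun j => (g1U a).1.mulVec (g1P x j)) = g1P x := by
    intro a x; funext j i; fin_cases i <;> simp [g1U, g1P, Matrix.mulVec, dotProduct, Fin.sum_univ_two]
  have hUM : ∀ (a : K) (x : Fin k → K),
      (fun j => (g1U a).1.mulVec (g1M x j)) = g1P (fun j => a * x j) + g1M x := by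
    intro a x; funext j i; fin_cases i <;> simp [g1U, g1P, g1M, Matrix.mulVec, dotProduct, Fin.sum_univ_two]
  have hDP : ∀ (c : K) (hc : c ≠ 0) (x : Fin k → K),
      (fun j => (g1D c hc).1.mulVec (g1P x j)) = g1P (fun j => c * x j) := by
    intro c hc x; funext j i; fin_cases i <;> simp [g1D, g1P, Matrix.mulVec, dotProduct, Fin.sum_univ_two]
  have hWP : ∀ (x : Fin k → K), (fun j => (g1W (K := K)).1.mulVec (g1P x j)) = g1M x := by
    intro x; funext j i; fin_cases i <;> simp [g1W, g1P, g1M, Matrix.mulVec, dotProduct, Fin.sum_univ_two]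
  have hWM : ∀ (x : Fin k → K), (fun j => (g1W (K := K)).1.mulVec (g1M x j)) = g1P x := by
    intro x; funext j i; fin_cases i <;> simp [g1W, g1P, g1M, Matrix.mulVec, dotProduct, Fin.sum_univ_two]
  -- target actions
  have hUz : ∀ (a : K) (z : Fin 2 → K), (g1U a).1.mulVec z = ![z 0 + a * z 1, z 1] := by
    intro a z; funext i; fin_cases i <;> simp [g1U, Matrix.mulVec, dotProduct, Fin.sum_univ_two]
  have hDz : ∀ (c : K) (hc : c ≠ 0) (z : Fin 2 → K), (g1D c hc).1.mulVec z = ![c * z 0, c⁻¹ * z 1] := by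
    intro c hc z; funext i; fin_cases i <;> simp [g1D, Matrix.mulVec, dotProduct, Fin.sum_univ_two]
  have hWz : ∀ (z : Fin 2 → K), (g1W (K := K)).1.mulVec z = ![z 1, z 0] := by
    intro z; funext i; fin_cases i <;> simp [g1W, Matrix.mulVec, dotProduct, Fin.sum_univ_two]
  -- Step 1
  have h1 : ∀ x x' i, β (g1P x) (g1P x') i 1 = 0 := by
    intro x x' i
    have h := heq (g1U 1) (g1P x) (g1P x') i
    rw [hUP, hUP, hUz] at h
    have h0 := congrFun h 0
    simp at h0
    exact h0
  -- Step 2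
  have h2 : ∀ (a : K) x x' i, β (g1P (fun j => a * x j)) (g1P x') i 0 = a * β (g1M x) (g1P x') i 1 := by
    intro a x x' i
    have h := heq (g1U a) (g1M x) (g1P x') i
    rw [hUM, hUP, hUz, hadd] at h
    have h0 := congrFun h 0
    simp at h0
    linear_combination h0
  have h2' : ∀ x x' i, β (g1P x) (g1P x') i 0 = β (g1M x) (g1P x') i 1 := by
    intro x x' i
    have := h2 1 x x' i
    simpa using this
  have hlin : ∀ (a : K) x x' i, β (g1P (fun j => a * x j)) (g1P x') i 0 = a * β (g1P x) (g1P x') i 0 := by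
    intro a x x' i
    rw [h2, h2']
  have hlinr : ∀ (a : K) x x' i, β (g1P x) (g1P (fun j => a * x' j)) i 0 = a * β (g1P x) (g1P x') i 0 := by
    intro a x x' i
    rw [hsymm, hlin, hsymm]
  -- Step 4
  obtain ⟨c, hc0, hc1⟩ := hK
  have hB : ∀ x x' i, β (g1P x) (g1P x') i 0 = 0 := by
    intro x x' i
    have h := heq (g1D c hc0) (g1P x) (g1P x') i
    rw [hDP, hDP, hDz] at h
    have h0 := congrFun h 0
    simp only [Matrix.cons_val_zero] at h0
    rw [hlin, hlinr] at h0
    have : (c * (c - 1)) * β (g1P x) (g1P x') i 0 = 0 := by linear_combination h0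
    rcases mul_eq_zero.mp this with h' | h'
    · rcases mul_eq_zero.mp h' with h'' | h''
      · exact absurd h'' hc0
      · exact absurd (sub_eq_zero.mp h'') hc1
    · exact h'
  have hPP : ∀ x x', β (g1P x) (g1P x') = 0 := by
    intro x x'; funext i j
    fin_cases j
    · exact hB x x' i
    · exact h1 x x' i
  have hMM : ∀ x x', β (g1M x) (g1M x') = 0 := by
    intro x x'; funext i
    have h := heq g1W (g1P x) (g1P x') i
    rw [hWP, hWP, hPP] at h
    rw [h]; simp
  have hMP1 : ∀ x x' i, β (g1M x) (g1P x') i 1 = 0 := by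
    intro x x' i; rw [← h2', hB]
  have hMP : ∀ x x', β (g1M x) (g1P x') = 0 := by
    intro x x'; funext i j
    have h := heq g1W (g1M x') (g1P x) i
    rw [hWM, hWP, hWz] at h
    -- h : β (g1P x') (g1M x) i = ![β (g1M x') (g1P x) i 1, β (g1M x') (g1P x) i 0]
    rw [hsymm] at h
    fin_cases j
    · have h1' := congrFun h 1
      simp at h1'
      -- β (g1M x) (g1P x') i 1 = β (g1M x') (g1P x) i 0
      have := hMP1 x x' i
      simp only [Fin.zero_eta, Fin.isValue, Pi.zero_apply]
      have h0' := congrFun h 0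
      simp at h0'
      rw [hMP1] at h0'
      exact h0'
    · exact hMP1 x x' i
  have hPM : ∀ x x', β (g1P x) (g1M x') = 0 := by
    intro x x'; rw [hsymm]; exact hMP x' x
  intro a b
  rw [g1_decomp a, g1_decomp b, hadd, haddr, haddr, hPP, hPM, hMP, hMM]
  simp

end abstract

end Cfsg.Agent.Lib.Helper5.HIG
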