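import Mathlib
import Cfsg.Agent.Lib.Helper2.HIGDefs
import Cfsg.Agent.Lib.Helper5.HIGG1

/-! Farm HIG (S3050), unit UG1 with the coordinates of `module_coords` as arguments. -/
set_option autoImplicit false

namespace Cfsg.Agent.Lib.Helper5.HIG

open Cfsg.Agent.Lib.Helper2.HIG

/-- UG1 given coordinates for `V` and `Z`. -/
theorem beta_zero_of_coords {K : Type*} [Field K] [CharP K 2] (hK : ∃ m : K, m ≠ 0 ∧ m ≠ 1)
    {V Z : Type*} [AddCommGroup V] [AddCommGroup Z]
    (h2Z : ∀ z : Z, z + z = 0)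
    (ρV : SL2 K →* AddMonoid.End V) (ρZ : SL2 K →* AddMonoid.End Z)
    {k k' : ℕ} (ΨV : V ≃+ (Fin k → Fin 2 → K))
    (hΨV : ∀ (g : SL2 K) (v : V) (i : Fin k),
        ΨV (ρV g v) i = (g : Matrix (Fin 2) (Fin 2) K).mulVec (ΨV v i))
    (ΨZ : Z ≃+ (Fin k' → Fin 2 → K))
    (hΨZ : ∀ (g : SL2 K) (z : Z) (i : Fin k'),
        ΨZ (ρZ g z) i = (g : Matrix (Fin 2) (Fin 2) K).mulVec (ΨZ z i))
    (β : V → V → Z)
    (hadd₁ : ∀ v v' w, β (v + v') w = β v w + β v' w)
    (hadd₂ : ∀ v w w', β v (w + w') = β v w + β v w')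
    (halt : ∀ v, β v v = 0)
    (heq : ∀ (g : SL2 K) (v w : V), β (ρV g v) (ρV g w) = ρZ g (β v w)) :
    ∀ v w, β v w = 0 := by
  have hsymm : ∀ v w, β v w = β w v := by
    intro v w
    have h := halt (v + w)
    rw [hadd₁, hadd₂, hadd₂, halt, halt] at h
    simp only [zero_add, add_zero] at h
    -- h : β v w + β w v = 0
    have h2 := h2Z (β w v)
    have : β v w = β v w + (β w v + β w v) := by rw [h2, add_zero]
    rw [this, ← add_assoc, h, zero_add]
  have key := g1_beta_zero (K := K) hK (k := k) (k' := k')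
    (fun a b => ΨZ (β (ΨV.symm a) (ΨV.symm b)))
    (by intro a a' b; simp only [map_add, hadd₁])
    (by intro a b; rw [hsymm])
    (by
      intro g a b i
      have hsa : ∀ a : Fin k → Fin 2 → K,
          ΨV.symm (fun j => g.1.mulVec (a j)) = ρV g (ΨV.symm a) := by
        intro a
        apply ΨV.injective
        rw [AddEquiv.apply_symm_apply]
        funext j
        rw [hΨV, AddEquiv.apply_symm_apply]
      rw [hsa, hsa, heq, hΨZ])
  intro v w
  have h := key (ΨV v) (ΨV w)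
  simp only [AddEquiv.symm_apply_apply] at h
  exact (AddEquiv.map_eq_zero_iff ΨZ).mp h

end Cfsg.Agent.Lib.Helper5.HIG
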