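import Mathlib
import Cfsg.Agent.Lib.Helper2.HIGDefs
import Cfsg.Agent.Lib.Helper2.HIGCoords
import Cfsg.Agent.Lib.Helper5.HIGG1b

/-! Farm HIG (S3050), unit UG1 `beta_zero`, verbatim. -/
set_option autoImplicit false

namespace Cfsg.Agent.Lib.Helper5.HIG

open Cfsg.Agent.Lib.Helper2.HIG

/-- UG1: an equivariant alternating biadditive map between two such modules vanishes. -/
theorem beta_zero {K : Type*} [Field K] [Finite K] [CharP K 2] (hK : ∃ m : K, m ≠ 0 ∧ m ≠ 1)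
    {V Z : Type*} [AddCommGroup V] [Finite V] [AddCommGroup Z] [Finite Z]
    (h2V : ∀ v : V, v + v = 0) (h2Z : ∀ z : Z, z + z = 0)
    (ρV : SL2 K →* AddMonoid.End V) (ρZ : SL2 K →* AddMonoid.End Z)
    (H3V : ∀ v, ρV (x0 K) (ρV (x0 K) v) + ρV (x0 K) v + v = 0)
    (H3Z : ∀ z, ρZ (x0 K) (ρZ (x0 K) z) + ρZ (x0 K) z + z = 0)
    (β : V → V → Z)
    (hadd₁ : ∀ v v' w, β (v + v') w = β v w + β v' w)
    (hadd₂ : ∀ v w w', β v (w + w') = β v w + β v w')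
    (halt : ∀ v, β v v = 0)
    (heq : ∀ (g : SL2 K) (v w : V), β (ρV g v) (ρV g w) = ρZ g (β v w)) :
    ∀ v w, β v w = 0 := by
  obtain ⟨k, ΨV, hΨV⟩ := Cfsg.Agent.Lib.Helper2.HIGCoords.module_coords hK h2V ρV H3V
  obtain ⟨k', ΨZ, hΨZ⟩ := Cfsg.Agent.Lib.Helper2.HIGCoords.module_coords hK h2Z ρZ H3Z
  exact beta_zero_of_coords hK h2Z ρV ρZ ΨV hΨV ΨZ hΨZ β hadd₁ hadd₂ halt heq

end Cfsg.Agent.Lib.Helper5.HIG
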