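import Mathlib

set_option autoImplicit false

namespace Cfsg.Agent.Lib.Helper5

open Equiv Equiv.Perm

/-- Element orders of the alternating group `A_n` are exactly the lcm's of multisets of
integers `≥ 2` with sum `≤ n` and with `sum + card` even (i.e. an even number of even parts). -/
theorem mem_range_orderOf_alt_iff (n N : ℕ) :
    N ∈ Set.range (orderOf : alternatingGroup (Fin n) → ℕ) ↔
      ∃ m : Multiset ℕ, (∀ a ∈ m, 2 ≤ a) ∧ m.sum ≤ n ∧ Even (m.sum + Multiset.card m) ∧
        m.lcm = N := by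
  constructor
  · rintro ⟨⟨σ, hσ⟩, rfl⟩
    refine ⟨σ.cycleType, fun a ha => two_le_of_mem_cycleType ha, ?_, ?_, ?_⟩
    · simpa using σ.sum_cycleType_le
    · rw [mem_alternatingGroup, sign_of_cycleType] at hσ
      by_contra hodd
      rw [Nat.not_even_iff_odd] at hodd
      rw [hodd.neg_one_pow] at hσ
      exact absurd hσ (by decide)
    · rw [lcm_cycleType, Subgroup.orderOf_mk]
  · rintro ⟨m, h2, hsum, hev, rfl⟩
    obtain ⟨σ, hσ⟩ := (Equiv.Perm.exists_with_cycleType_iff (α := Fin n)).mpr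
      ⟨by simpa using hsum, h2⟩
    have hmem : σ ∈ alternatingGroup (Fin n) := by
      rw [mem_alternatingGroup, sign_of_cycleType, hσ, hev.neg_one_pow]
    refine ⟨⟨σ, hmem⟩, ?_⟩
    rw [Subgroup.orderOf_mk, ← lcm_cycleType, hσ]

end Cfsg.Agent.Lib.Helper5
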