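import Mathlib
import Cfsg.Agent.Lib.Helper2.GLkDefs

set_option autoImplicit false
set_option linter.unusedVariables false
set_option linter.unusedSectionVars false
set_option linter.style.longLine false

namespace Cfsg.Agent.Lib.Helper2.GLk

open Polynomial

universe u

variable {F : Type u} [Field F]

/-- two multisets of monic irreducible polynomials with the same product are equal -/
theorem h5_multiset_eq_of_prod_eq (f g : Multiset F[X])
    (hf : ∀ x ∈ f, x.Monic ∧ Irreducible x) (hg : ∀ x ∈ g, x.Monic ∧ Irreducible x)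
    (h : f.prod = g.prod) : f = g := by
  have hrel : Multiset.Rel Associated f g :=
    UniqueFactorizationMonoid.factors_unique (fun x hx => (hf x hx).2) (fun x hx => (hg x hx).2)
      (by rw [h]; exact Associated.refl _)
  have hrel' : Multiset.Rel (fun a b => a = b) f g := by
    refine Multiset.Rel.mono hrel ?_
    intro a ha b hb hab
    exact Polynomial.eq_of_monic_of_associated (hf a ha).1 (hg b hb).1 hab
  exact Multiset.rel_eq.mp hrel'

open Classical in
theorem h5_fiber_card_eq {k k' : ℕ} (p : Fin k → F[X]) (e : Fin k → ℕ) (p' : Fin k' → F[X]) (e' : Fin k' → ℕ)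
    (hp : ∀ i, (p i).Monic ∧ Irreducible (p i)) (hp' : ∀ i, (p' i).Monic ∧ Irreducible (p' i))
    (h : ∀ j : ℕ, ∏ i ∈ Finset.univ.filter (fun i => e i = j), p i =
      ∏ i ∈ Finset.univ.filter (fun i => e' i = j), p' i) (c : F[X] × ℕ) :
    Fintype.card {a : Fin k // (p a, e a) = c} = Fintype.card {b : Fin k' // (p' b, e' b) = c} := by
  obtain ⟨r, j⟩ := c
  have hm : ((Finset.univ.filter (fun i => e i = j)).val.map p) =
      ((Finset.univ.filter (fun i => e' i = j)).val.map p') := by
    apply h5_multiset_eq_of_prod_eq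
    · intro x hx
      obtain ⟨i, _, rfl⟩ := Multiset.mem_map.mp hx
      exact hp i
    · intro x hx
      obtain ⟨i, _, rfl⟩ := Multiset.mem_map.mp hx
      exact hp' i
    · exact h j
  have hc := congrArg (Multiset.count r) hm
  rw [Multiset.count_map, Multiset.count_map] at hc
  rw [Fintype.card_subtype, Fintype.card_subtype]
  have e1 : (Finset.univ.filter (fun a : Fin k => (p a, e a) = (r, j))).card =
      (Multiset.filter (fun a => r = p a) (Finset.univ.filter (fun i => e i = j)).val).card := by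
    rw [← Finset.filter_val, Finset.card_def]
    congr 2
    ext a
    simp only [Finset.mem_filter, Finset.mem_univ, true_and, Prod.mk.injEq]
    constructor
    · rintro ⟨h1, h2⟩; exact ⟨h2, h1.symm⟩
    · rintro ⟨h1, h2⟩; exact ⟨h2.symm, h1⟩
  have e2 : (Finset.univ.filter (fun a : Fin k' => (p' a, e' a) = (r, j))).card =
      (Multiset.filter (fun a => r = p' a) (Finset.univ.filter (fun i => e' i = j)).val).card := by
    rw [← Finset.filter_val, Finset.card_def]
    congr 2
    ext a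
    simp only [Finset.mem_filter, Finset.mem_univ, true_and, Prod.mk.injEq]
    constructor
    · rintro ⟨h1, h2⟩; exact ⟨h2, h1.symm⟩
    · rintro ⟨h1, h2⟩; exact ⟨h2.symm, h1⟩
  rw [e1, e2, hc]

theorem h5_exists_perm {k k' : ℕ} (p : Fin k → F[X]) (e : Fin k → ℕ) (p' : Fin k' → F[X]) (e' : Fin k' → ℕ)
    (hp : ∀ i, (p i).Monic ∧ Irreducible (p i)) (hp' : ∀ i, (p' i).Monic ∧ Irreducible (p' i))
    (h : ∀ j : ℕ, ∏ i ∈ Finset.univ.filter (fun i => e i = j), p i =
      ∏ i ∈ Finset.univ.filter (fun i => e' i = j), p' i) :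
    ∃ σ : Fin k ≃ Fin k', ∀ i, p' (σ i) = p i ∧ e' (σ i) = e i := by
  classical
  let fe : ∀ c : F[X] × ℕ, {a : Fin k // (p a, e a) = c} ≃ {b : Fin k' // (p' b, e' b) = c} :=
    fun c => Fintype.equivOfCardEq (h5_fiber_card_eq p e p' e' hp hp' h c)
  refine ⟨Equiv.ofFiberEquiv fe, fun i => ?_⟩
  have := Equiv.ofFiberEquiv_map fe i
  rw [Prod.mk.injEq] at this
  exact this

theorem equiv_of_prod_eq {k k' : ℕ} (p : Fin k → F[X]) (e : Fin k → ℕ) (p' : Fin k' → F[X]) (e' : Fin k' → ℕ)
    (hp : ∀ i, (p i).Monic ∧ Irreducible (p i)) (hp' : ∀ i, (p' i).Monic ∧ Irreducible (p' i))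
    (h : ∀ j : ℕ, ∏ i ∈ Finset.univ.filter (fun i => e i = j), p i =
      ∏ i ∈ Finset.univ.filter (fun i => e' i = j), p' i) :
    Nonempty (DirectSum (Fin k) (fun i => F[X] ⧸ Submodule.span F[X] {p i ^ e i}) ≃ₗ[F[X]]
      DirectSum (Fin k') (fun i => F[X] ⧸ Submodule.span F[X] {p' i ^ e' i})) := by
  obtain ⟨σ, hσ⟩ := h5_exists_perm p e p' e' hp hp' h
  have h1 : DirectSum (Fin k) (fun i => F[X] ⧸ Submodule.span F[X] {p i ^ e i}) ≃ₗ[F[X]]
      DirectSum (Fin k') (fun i' => F[X] ⧸ Submodule.span F[X] {p (σ.symm i') ^ e (σ.symm i')}) :=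
    DirectSum.lequivCongrLeft F[X] σ
  have h2 : DirectSum (Fin k') (fun i' => F[X] ⧸ Submodule.span F[X] {p (σ.symm i') ^ e (σ.symm i')}) ≃ₗ[F[X]]
      DirectSum (Fin k') (fun i => F[X] ⧸ Submodule.span F[X] {p' i ^ e' i}) := by
    refine DFinsupp.mapRange.linearEquiv (fun i' => Submodule.quotEquivOfEq _ _ ?_)
    have := hσ (σ.symm i')
    rw [Equiv.apply_symm_apply] at this
    rw [this.1, this.2]
  exact ⟨h1.trans h2⟩

end Cfsg.Agent.Lib.Helper2.GLk
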