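import Mathlib

/-! # The quotients `u / ρ u` of a nontrivial automorphism do not form a proper additive
subgroup (piece of S3776) -/

set_option autoImplicit false

namespace Cfsg.Agent.Lib.Helper5.SzFq

variable {F : Type*} [Field F] [Fintype F] [CharP F 2]

theorem field_of_quot (ρ : F ≃+* F) (hρ : ρ ≠ 1) (L : AddSubgroup F)
    (hL : ∀ c : F, c ∈ L ↔ c = 0 ∨ ∃ u : F, u ≠ 0 ∧ c = u / ρ u) : ∀ c : F, c ∈ L := by
  by_contra hcon
  push Not at hcon
  obtain ⟨w₀, hw₀⟩ := hcon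
  have hmem : ∀ u : F, u ≠ 0 → u / ρ u ∈ L := fun u hu => (hL _).mpr (Or.inr ⟨u, hu, rfl⟩)
  have hρ0 : ∀ u : F, u ≠ 0 → ρ u ≠ 0 := fun u hu => (map_ne_zero ρ).mpr hu
  have hmul : ∀ a b : F, a ∈ L → b ∈ L → a * b ∈ L := by
    intro a b ha hb
    rcases (hL a).mp ha with rfl | ⟨u, hu, rfl⟩
    · rw [zero_mul]; exact L.zero_mem
    rcases (hL b).mp hb with rfl | ⟨v, hv, rfl⟩
    · rw [mul_zero]; exact L.zero_mem
    have h1 : u / ρ u * (v / ρ v) = (u * v) / ρ (u * v) := by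
      rw [map_mul, div_mul_div_comm]
    rw [h1]; exact hmem _ (mul_ne_zero hu hv)
  have hinv : ∀ a : F, a ∈ L → a⁻¹ ∈ L := by
    intro a ha
    rcases (hL a).mp ha with rfl | ⟨u, hu, rfl⟩
    · rw [inv_zero]; exact L.zero_mem
    have h1 : (u / ρ u)⁻¹ = u⁻¹ / ρ (u⁻¹) := by
      rw [map_inv₀, inv_div, inv_div_inv]
    rw [h1]; exact hmem _ (inv_ne_zero hu)
  have hf : ∀ u : F, u ≠ 0 → ρ u / u ∈ L := by
    intro u hu
    have h1 := hinv _ (hmem u hu)
    rwa [inv_div] at h1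
  have key : ∀ w : F, w ∉ L → ∀ u : F, u ∈ L → u ≠ 0 → ρ w / w = ρ u / u := by
    intro w hw u huL hu
    have hw0 : w ≠ 0 := by rintro rfl; exact hw L.zero_mem
    have huw : u + w ≠ 0 := by
      intro h
      have h2 : w = -u := by linear_combination h
      rw [CharTwo.neg_eq] at h2
      exact hw (h2 ▸ huL)
    have haL : ρ (u + w) / (u + w) ∈ L := hf _ huw
    have hbL : ρ u / u ∈ L := hf _ hu
    have hcL : ρ w / w ∈ L := hf _ hw0
    obtain ⟨a, ha⟩ : ∃ a : F, a = ρ (u + w) / (u + w) := ⟨_, rfl⟩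
    obtain ⟨b, hb⟩ : ∃ b : F, b = ρ u / u := ⟨_, rfl⟩
    obtain ⟨c, hc⟩ : ∃ c : F, c = ρ w / w := ⟨_, rfl⟩
    rw [← ha] at haL
    rw [← hb] at hbL ⊢
    rw [← hc] at hcL ⊢
    have e1 : a * (u + w) = b * u + c * w := by
      rw [ha, hb, hc, div_mul_cancel₀ _ huw, div_mul_cancel₀ _ hu, div_mul_cancel₀ _ hw0, map_add]
    have e2 : (a + b) * u + (c + a) * w = 0 := by
      have h1 : (a + b) * u + (c + a) * w = a * (u + w) + (b * u + c * w) := by ring
      rw [h1, e1, CharTwo.add_self_eq_zero]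
    have e3 : (a + b) * u = (c + a) * w := by
      have h1 := eq_neg_of_add_eq_zero_left e2
      rwa [CharTwo.neg_eq] at h1
    by_cases hca : c + a = 0
    · rw [hca, zero_mul] at e3
      have hab : a + b = 0 := by
        rcases mul_eq_zero.mp e3 with h1 | h1
        · exact h1
        · exact absurd h1 hu
      have h1 : c = -a := eq_neg_of_add_eq_zero_left hca
      have h2 : a = -b := eq_neg_of_add_eq_zero_left hab
      rw [CharTwo.neg_eq] at h1 h2
      rw [h1, h2]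
    · exfalso
      apply hw
      have h1 : w = (a + b) * u * (c + a)⁻¹ := by
        rw [e3, mul_comm (c + a) w, mul_assoc, mul_inv_cancel₀ hca, mul_one]
      rw [h1]
      exact hmul _ _ (hmul _ _ (L.add_mem haL hbL) huL) (hinv _ (L.add_mem hcL haL))
  have hone : (1 : F) ∈ L := by
    have h1 := hmem 1 one_ne_zero
    rwa [map_one, div_one] at h1
  have hw1 : ∀ w : F, w ∉ L → ρ w = w := by
    intro w hw
    have hw0 : w ≠ 0 := by rintro rfl; exact hw L.zero_mem
    have h1 := key w hw 1 hone one_ne_zero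
    rw [map_one, div_one] at h1
    exact (div_eq_one_iff_eq hw0).mp h1
  apply hρ
  apply RingEquiv.ext
  intro x
  show ρ x = x
  by_cases hx : x ∈ L
  · by_cases hx0 : x = 0
    · rw [hx0, map_zero]
    · have h1 := key w₀ hw₀ x hx hx0
      have hw00 : w₀ ≠ 0 := by rintro rfl; exact hw₀ L.zero_mem
      rw [hw1 w₀ hw₀, div_self hw00] at h1
      exact ((div_eq_one_iff_eq hx0).mp h1.symm)
  · exact hw1 x hx

end Cfsg.Agent.Lib.Helper5.SzFq
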