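import Mathlib

/-! # Arithmetic of `2^n - 1` against sparse signed sums of powers of two (piece of S3776) -/

set_option autoImplicit false

namespace Cfsg.Agent.Lib.Helper5.SzNt

/-- sparse multiples: if `2^n ∣ e * (signed sum of m powers 2^a, a < n) + c` and `e ∤ c`, then
`2^n ≤ (e+1)^m * |c|` -/
theorem sparse (n e : ℕ) : ∀ (m : ℕ) (l : List (ℤ × ℕ)) (c : ℤ), l.length = m →
    (∀ p ∈ l, p.2 < n ∧ (p.1 = 1 ∨ p.1 = -1)) → ¬ ((e : ℤ) ∣ c) →
    (2 : ℤ) ^ n ∣ (e : ℤ) * (l.map fun p => p.1 * 2 ^ p.2).sum + c →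
    (2 : ℤ) ^ n ≤ ((e : ℤ) + 1) ^ m * |c| := by
  intro m
  induction m with
  | zero =>
    intro l c hl _ hc hdvd
    have hnil : l = [] := List.length_eq_zero_iff.mp hl
    subst hnil
    simp only [List.map_nil, List.sum_nil, mul_zero, zero_add] at hdvd
    have hc0 : c ≠ 0 := by rintro rfl; exact hc (dvd_zero _)
    have h1 : (2 : ℤ) ^ n ∣ |c| := (dvd_abs _ _).mpr hdvd
    have h2 := Int.le_of_dvd (abs_pos.mpr hc0) h1
    simpa using h2
  | succ m ih =>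
    intro l c hl hp hc hdvd
    have hne : l ≠ [] := by
      intro h; rw [h] at hl; simp at hl
    obtain ⟨p0, hp0⟩ : ∃ p0, p0 ∈ List.argmin (fun p : ℤ × ℕ => p.2) l := by
      cases h : List.argmin (fun p : ℤ × ℕ => p.2) l with
      | none => exact absurd (List.argmin_eq_none.mp h) hne
      | some p => exact ⟨p, rfl⟩
    have hmem : p0 ∈ l := List.argmin_mem hp0
    have hmin : ∀ p ∈ l, p0.2 ≤ p.2 := fun p hp' => List.le_of_mem_argmin hp' hp0
    have hperm := List.perm_cons_erase hmem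
    have hsum : (l.map fun p => p.1 * 2 ^ p.2).sum =
        p0.1 * 2 ^ p0.2 + ((l.erase p0).map fun p => p.1 * 2 ^ p.2).sum := by
      rw [(hperm.map _).sum_eq, List.map_cons, List.sum_cons]
    have hlen : (l.erase p0).length = m := by
      rw [List.length_erase_of_mem hmem, hl]; rfl
    have hl'mem : ∀ p ∈ l.erase p0, p ∈ l := fun p hp' => List.mem_of_mem_erase hp'
    have hdiv' : (2 : ℤ) ^ p0.2 ∣ ((l.erase p0).map fun p => p.1 * 2 ^ p.2).sum := by
      apply List.dvd_sum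
      intro x hx
      rw [List.mem_map] at hx
      obtain ⟨p, hp', rfl⟩ := hx
      exact Dvd.dvd.mul_left (pow_dvd_pow 2 (hmin p (hl'mem p hp'))) _
    have ha : p0.2 < n := (hp p0 hmem).1
    have h2n : (2 : ℤ) ^ p0.2 ∣ 2 ^ n := pow_dvd_pow 2 ha.le
    have hdc : (2 : ℤ) ^ p0.2 ∣ c := by
      have h1 : (2 : ℤ) ^ p0.2 ∣ (e : ℤ) * (l.map fun p => p.1 * 2 ^ p.2).sum + c :=
        dvd_trans h2n hdvd
      rw [hsum] at h1
      have h2 : (2 : ℤ) ^ p0.2 ∣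
          (e : ℤ) * (p0.1 * 2 ^ p0.2 + ((l.erase p0).map fun p => p.1 * 2 ^ p.2).sum) :=
        Dvd.dvd.mul_left (dvd_add (Dvd.intro_left _ rfl) hdiv') _
      exact (dvd_add_right h2).mp h1
    have hc0 : c ≠ 0 := by rintro rfl; exact hc (dvd_zero _)
    have hle : (2 : ℤ) ^ p0.2 ≤ |c| := Int.le_of_dvd (abs_pos.mpr hc0) ((dvd_abs _ _).mpr hdc)
    have hc'nd : ¬ ((e : ℤ) ∣ c + e * (p0.1 * 2 ^ p0.2)) := by
      intro h
      apply hc
      have h3 : (e : ℤ) ∣ e * (p0.1 * 2 ^ p0.2) := Dvd.intro _ rfl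
      exact (dvd_add_left h3).mp h
    have hdvd' : (2 : ℤ) ^ n ∣ (e : ℤ) * ((l.erase p0).map fun p => p.1 * 2 ^ p.2).sum +
        (c + e * (p0.1 * 2 ^ p0.2)) := by
      have h4 : (e : ℤ) * ((l.erase p0).map fun p => p.1 * 2 ^ p.2).sum +
          (c + e * (p0.1 * 2 ^ p0.2)) = (e : ℤ) * (l.map fun p => p.1 * 2 ^ p.2).sum + c := by
        rw [hsum]; ring
      rw [h4]; exact hdvd
    have hih := ih (l.erase p0) (c + e * (p0.1 * 2 ^ p0.2)) hlen
      (fun p hp' => hp p (hl'mem p hp')) hc'nd hdvd'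
    have hsgn : |p0.1| = 1 := by
      rcases (hp p0 hmem).2 with h | h <;> rw [h] <;> simp
    have habs : |c + e * (p0.1 * 2 ^ p0.2)| ≤ ((e : ℤ) + 1) * |c| := by
      calc |c + e * (p0.1 * 2 ^ p0.2)| ≤ |c| + |(e : ℤ) * (p0.1 * 2 ^ p0.2)| := abs_add_le _ _
        _ = |c| + e * 2 ^ p0.2 := by
            rw [abs_mul, abs_mul, hsgn, one_mul, abs_of_nonneg (by positivity : (0 : ℤ) ≤ (e : ℤ)),
              abs_of_nonneg (by positivity : (0 : ℤ) ≤ 2 ^ p0.2)]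
        _ ≤ |c| + e * |c| := by
            have h5 : (e : ℤ) * 2 ^ p0.2 ≤ e * |c| := mul_le_mul_of_nonneg_left hle (by positivity)
            linarith
        _ = ((e : ℤ) + 1) * |c| := by ring
    calc (2 : ℤ) ^ n ≤ ((e : ℤ) + 1) ^ m * |c + e * (p0.1 * 2 ^ p0.2)| := hih
      _ ≤ ((e : ℤ) + 1) ^ m * (((e : ℤ) + 1) * |c|) :=
          mul_le_mul_of_nonneg_left habs (by positivity)
      _ = ((e : ℤ) + 1) ^ (m + 1) * |c| := by ring

theorem pow_bound2 : ∀ n : ℕ, 4 ≤ n → n ^ 2 ≤ 2 ^ n := by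
  intro n hn
  induction n, hn using Nat.le_induction with
  | base => norm_num
  | succ n hn ih =>
    rw [pow_succ 2 n]
    nlinarith

theorem pow_bound3 : ∀ n : ℕ, 11 ≤ n → (n + 1) ^ 3 ≤ 2 ^ n := by
  intro n hn
  induction n, hn using Nat.le_induction with
  | base => norm_num
  | succ n hn ih =>
    rw [pow_succ 2 n]
    have h1 : (n + 1 + 1) ^ 3 ≤ 2 * (n + 1) ^ 3 := by nlinarith [sq_nonneg n, pow_pos (by omega : 0 < n) 3]
    omega

theorem pow_bound4 : ∀ n : ℕ, 18 ≤ n → 2 * (n + 1) ^ 4 ≤ 2 ^ n := by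
  intro n hn
  induction n, hn using Nat.le_induction with
  | base => norm_num
  | succ n hn ih =>
    rw [pow_succ 2 n]
    have h1 : (n + 1 + 1) ^ 4 ≤ 2 * (n + 1) ^ 4 := by
      nlinarith [sq_nonneg n, pow_pos (by omega : 0 < n) 3, pow_pos (by omega : 0 < n) 4,
        pow_pos (by omega : 0 < n) 2]
    omega

set_option synthInstance.maxSize 4096 in
set_option synthInstance.maxHeartbeats 0 in
set_option maxRecDepth 1000000 in
theorem nt2_small : ∀ n : ℕ, n < 4 → ∀ e : ℕ, e < 4 → ∀ s : ℕ, s < n → 2 ≤ n → e ∣ n →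
    (2 ^ n - 1) ∣ e * (2 ^ s - 1) → s = 0 := by decide +kernel

set_option synthInstance.maxSize 4096 in
set_option synthInstance.maxHeartbeats 0 in
set_option maxRecDepth 1000000 in
theorem nt3_small : ∀ n : ℕ, n < 11 → ∀ e : ℕ, e < 11 → e ∣ n → ∀ i : ℕ, i < n → ∀ j : ℕ, j < n →
    2 ≤ n → (2 ^ n - 1) ∣ e * (2 ^ i + 2 ^ j - 1) → i = n - 1 ∧ j = n - 1 := by decide +kernel

set_option synthInstance.maxSize 4096 in
set_option synthInstance.maxHeartbeats 0 in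
set_option maxHeartbeats 0 in
set_option maxRecDepth 1000000 in
theorem nt4_small : ∀ n : ℕ, n < 18 → ∀ e : ℕ, e < 18 → e ∣ n → ∀ k : ℕ, k < n → ∀ k' : ℕ, k' < n →
    ∀ i : ℕ, i < n → 2 ≤ n → 1 ≤ k → 1 ≤ k' →
    ((2 : ℤ) ^ n - 1) ∣ (e : ℤ) * (((2 : ℤ) ^ k - 1) * 2 ^ i - (2 ^ k' - 1)) → k = k' := by
  decide +kernel

theorem nt2 (n e s : ℕ) (hn : 2 ≤ n) (he : e ∣ n) (hs : s < n)
    (h : (2 ^ n - 1) ∣ e * (2 ^ s - 1)) : s = 0 := by
  have he1 : 1 ≤ e := Nat.pos_of_dvd_of_pos he (by omega)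
  have hen : e ≤ n := Nat.le_of_dvd (by omega) he
  by_cases hn4 : n < 4
  · exact nt2_small n hn4 e (by omega) s hs hn he h
  push Not at hn4
  by_contra hs0
  have hs1 : 1 ≤ s := Nat.one_le_iff_ne_zero.mpr hs0
  obtain ⟨t, ht⟩ := h
  have h2s : 2 ≤ 2 ^ s := by
    calc 2 = 2 ^ 1 := by norm_num
      _ ≤ 2 ^ s := Nat.pow_le_pow_right (by norm_num) hs1
  have h2sn : 2 ^ s < 2 ^ n := Nat.pow_lt_pow_right (by norm_num) hs
  have ht1 : 1 ≤ t := by
    by_contra h0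
    have ht0 : t = 0 := by omega
    subst ht0
    rw [mul_zero] at ht
    rcases Nat.mul_eq_zero.mp ht with h1 | h1 <;> omega
  have hte : t < e := by
    by_contra hcon
    push Not at hcon
    have h1 : e * (2 ^ s - 1) < (2 ^ n - 1) * t := by
      calc e * (2 ^ s - 1) ≤ t * (2 ^ s - 1) := Nat.mul_le_mul_right _ hcon
        _ < t * (2 ^ n - 1) := Nat.mul_lt_mul_of_pos_left (by omega) (by omega)
        _ = (2 ^ n - 1) * t := mul_comm _ _
    omega
  have hZ : (e : ℤ) * (2 ^ s - 1) = (2 ^ n - 1) * t := by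
    have h1 := congrArg (Nat.cast : ℕ → ℤ) ht
    rw [Nat.cast_mul, Nat.cast_mul, Nat.cast_pred (Nat.two_pow_pos s),
      Nat.cast_pred (Nat.two_pow_pos n)] at h1
    push_cast at h1
    exact h1
  have hnd : ¬ ((e : ℤ) ∣ (t : ℤ) - e) := by
    intro hd
    have h1 : (e : ℤ) ∣ (t : ℤ) := by
      have := dvd_add hd (dvd_refl (e : ℤ))
      simpa using this
    have h2 : e ∣ t := Int.natCast_dvd_natCast.mp h1
    have := Nat.le_of_dvd (by omega) h2
    omega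
  have hsp := sparse n e 1 [((1 : ℤ), s)] ((t : ℤ) - e) rfl
    (by
      intro p hp
      simp only [List.mem_singleton] at hp
      subst hp
      exact ⟨hs, Or.inl rfl⟩) hnd
    (by
      simp only [List.map_cons, List.map_nil, List.sum_cons, List.sum_nil]
      exact ⟨(t : ℤ), by linear_combination hZ⟩)
  have habs : |(t : ℤ) - e| = e - t := by
    rw [abs_of_nonpos (by have : (t : ℤ) < e := by exact_mod_cast hte
                          linarith)]
    ring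
  rw [habs, pow_one] at hsp
  have hb := pow_bound2 n hn4
  have hbZ : ((n : ℤ)) ^ 2 ≤ 2 ^ n := by exact_mod_cast hb
  have heZ : (e : ℤ) ≤ n := by exact_mod_cast hen
  have htZ : (1 : ℤ) ≤ t := by exact_mod_cast ht1
  have heZ1 : (1 : ℤ) ≤ e := by exact_mod_cast he1
  nlinarith

theorem nt3 (n e i j : ℕ) (hn : 2 ≤ n) (he : e ∣ n) (hi : i < n) (hj : j < n)
    (h : (2 ^ n - 1) ∣ e * (2 ^ i + 2 ^ j - 1)) : i = n - 1 ∧ j = n - 1 := by
  have he1 : 1 ≤ e := Nat.pos_of_dvd_of_pos he (by omega)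
  have hen : e ≤ n := Nat.le_of_dvd (by omega) he
  by_cases hn11 : n < 11
  · exact nt3_small n hn11 e (by omega) he i hi j hj hn h
  push Not at hn11
  obtain ⟨t, ht⟩ := h
  have hi1 : 1 ≤ 2 ^ i := Nat.one_le_two_pow
  have hj1 : 1 ≤ 2 ^ j := Nat.one_le_two_pow
  have hn2 : 2 ^ n = 2 * 2 ^ (n - 1) := by
    rw [← pow_succ']
    congr 1
    omega
  have hi2 : 2 ^ i ≤ 2 ^ (n - 1) := Nat.pow_le_pow_right (by norm_num) (by omega)
  have hj2 : 2 ^ j ≤ 2 ^ (n - 1) := Nat.pow_le_pow_right (by norm_num) (by omega)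
  have ht1 : 1 ≤ t := by
    by_contra h0
    have ht0 : t = 0 := by omega
    subst ht0
    rw [mul_zero] at ht
    rcases Nat.mul_eq_zero.mp ht with h1 | h1 <;> omega
  have hte : t ≤ e := by
    by_contra hcon
    push Not at hcon
    have h1 : e * (2 ^ i + 2 ^ j - 1) < (2 ^ n - 1) * t := by
      calc e * (2 ^ i + 2 ^ j - 1) ≤ e * (2 ^ n - 1) := Nat.mul_le_mul_left _ (by omega)
        _ < t * (2 ^ n - 1) := Nat.mul_lt_mul_of_pos_right hcon (by omega)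
        _ = (2 ^ n - 1) * t := mul_comm _ _
    omega
  rcases Nat.lt_or_ge t e with hlt | hge
  · -- contradiction via the sparse lemma
    exfalso
    have hZ : (e : ℤ) * (2 ^ i + 2 ^ j - 1) = (2 ^ n - 1) * t := by
      have h1 := congrArg (Nat.cast : ℕ → ℤ) ht
      rw [Nat.cast_mul, Nat.cast_mul, Nat.cast_pred (by omega : 0 < 2 ^ i + 2 ^ j),
        Nat.cast_pred (Nat.two_pow_pos n)] at h1
      push_cast at h1
      exact h1
    have hnd : ¬ ((e : ℤ) ∣ (t : ℤ) - e) := by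
      intro hd
      have h1 : (e : ℤ) ∣ (t : ℤ) := by
        have := dvd_add hd (dvd_refl (e : ℤ))
        simpa using this
      have h2 : e ∣ t := Int.natCast_dvd_natCast.mp h1
      have := Nat.le_of_dvd (by omega) h2
      omega
    have hsp := sparse n e 2 [((1 : ℤ), i), ((1 : ℤ), j)] ((t : ℤ) - e) rfl
      (by
        intro p hp
        simp only [List.mem_cons, List.not_mem_nil, or_false] at hp
        rcases hp with rfl | rfl
        · exact ⟨hi, Or.inl rfl⟩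
        · exact ⟨hj, Or.inl rfl⟩) hnd
      (by
        simp only [List.map_cons, List.map_nil, List.sum_cons, List.sum_nil]
        exact ⟨(t : ℤ), by linear_combination hZ⟩)
    have habs : |(t : ℤ) - e| = e - t := by
      rw [abs_of_nonpos (by have : (t : ℤ) < e := by exact_mod_cast hlt
                            linarith)]
      ring
    rw [habs] at hsp
    have hb := pow_bound3 n hn11
    have hbZ : ((n : ℤ) + 1) ^ 3 ≤ 2 ^ n := by exact_mod_cast hb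
    have heZ : (e : ℤ) ≤ n := by exact_mod_cast hen
    have htZ : (1 : ℤ) ≤ t := by exact_mod_cast ht1
    have heZ1 : (1 : ℤ) ≤ e := by exact_mod_cast he1
    have h1 : ((e : ℤ) + 1) ^ 2 * ((e : ℤ) - t) ≤ ((e : ℤ) + 1) ^ 2 * ((e : ℤ) - 1) :=
      mul_le_mul_of_nonneg_left (by linarith) (by positivity)
    have h2 : ((e : ℤ) + 1) ^ 2 * ((e : ℤ) - 1) < ((e : ℤ) + 1) ^ 3 := by nlinarith [sq_nonneg ((e : ℤ) + 1)]
    have h3 : ((e : ℤ) + 1) ^ 3 ≤ ((n : ℤ) + 1) ^ 3 := pow_le_pow_left₀ (by linarith) (by linarith) 3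
    linarith
  · have hteq : t = e := le_antisymm hte hge
    subst hteq
    have h1 : 2 ^ i + 2 ^ j - 1 = 2 ^ n - 1 := by
      have h2 : t * (2 ^ i + 2 ^ j - 1) = t * (2 ^ n - 1) := by rw [ht, mul_comm]
      exact Nat.eq_of_mul_eq_mul_left (by omega) h2
    have h3 : 2 ^ i = 2 ^ (n - 1) := by omega
    have h4 : 2 ^ j = 2 ^ (n - 1) := by omega
    exact ⟨Nat.pow_right_injective le_rfl h3, Nat.pow_right_injective le_rfl h4⟩

theorem nt4 (n e k k' i : ℕ) (hn : 2 ≤ n) (he : e ∣ n) (hk : 1 ≤ k) (hkn : k < n) (hk' : 1 ≤ k')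
    (hk'n : k' < n) (hi : i < n)
    (h : ((2 : ℤ) ^ n - 1) ∣ (e : ℤ) * (((2 : ℤ) ^ k - 1) * 2 ^ i - (2 ^ k' - 1))) : k = k' := by
  have he1 : 1 ≤ e := Nat.pos_of_dvd_of_pos he (by omega)
  have hen : e ≤ n := Nat.le_of_dvd (by omega) he
  by_cases hn18 : n < 18
  · exact nt4_small n hn18 e (by omega) he k hkn k' hk'n i hi hn hk hk' h
  push Not at hn18
  -- reduce the exponent k + i modulo n
  obtain ⟨a, han, hak, hdiv⟩ : ∃ a : ℕ, a < n ∧ (a = k + i ∨ a + n = k + i) ∧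
      ((2 : ℤ) ^ n - 1) ∣ (e : ℤ) * ((2 : ℤ) ^ a - 2 ^ i - 2 ^ k' + 1) := by
    by_cases hki : k + i < n
    · refine ⟨k + i, hki, Or.inl rfl, ?_⟩
      have : (e : ℤ) * ((2 : ℤ) ^ (k + i) - 2 ^ i - 2 ^ k' + 1) =
          (e : ℤ) * (((2 : ℤ) ^ k - 1) * 2 ^ i - (2 ^ k' - 1)) := by
        rw [pow_add]; ring
      rw [this]; exact h
    · push Not at hki
      refine ⟨k + i - n, by omega, Or.inr (by omega), ?_⟩
      have hpow : (2 : ℤ) ^ (k + i) = 2 ^ (k + i - n) * 2 ^ n := by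
        rw [← pow_add]; congr 1; omega
      have : (e : ℤ) * ((2 : ℤ) ^ (k + i - n) - 2 ^ i - 2 ^ k' + 1) =
          (e : ℤ) * (((2 : ℤ) ^ k - 1) * 2 ^ i - (2 ^ k' - 1)) -
            ((2 : ℤ) ^ n - 1) * (e * 2 ^ (k + i - n)) := by
        have h1 : ((2 : ℤ) ^ k - 1) * 2 ^ i = 2 ^ (k + i) - 2 ^ i := by rw [pow_add]; ring
        rw [h1, hpow]; ring
      rw [this]
      exact dvd_sub h (Dvd.intro _ rfl)
  obtain ⟨t, ht⟩ := hdiv
  -- size of the signed sum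
  have hN1 : (2 : ℤ) ^ n = 2 * 2 ^ (n - 1) := by
    rw [← pow_succ']; congr 1; omega
  have ha2 : (2 : ℤ) ^ a ≤ 2 ^ (n - 1) := pow_le_pow_right₀ (by norm_num) (by omega)
  have hi2 : (2 : ℤ) ^ i ≤ 2 ^ (n - 1) := pow_le_pow_right₀ (by norm_num) (by omega)
  have hk2 : (2 : ℤ) ^ k' ≤ 2 ^ (n - 1) := pow_le_pow_right₀ (by norm_num) (by omega)
  have ha0 : (1 : ℤ) ≤ 2 ^ a := one_le_pow₀ (by norm_num)
  have hi0 : (1 : ℤ) ≤ 2 ^ i := one_le_pow₀ (by norm_num)
  have hk0 : (2 : ℤ) ≤ 2 ^ k' := by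
    calc (2 : ℤ) = 2 ^ 1 := by norm_num
      _ ≤ 2 ^ k' := pow_le_pow_right₀ (by norm_num) hk'
  have hn0 : (4 : ℤ) ≤ 2 ^ n := by
    calc (4 : ℤ) = 2 ^ 2 := by norm_num
      _ ≤ 2 ^ n := pow_le_pow_right₀ (by norm_num) hn
  have heZ1 : (1 : ℤ) ≤ e := by exact_mod_cast he1
  have heZ : (e : ℤ) ≤ n := by exact_mod_cast hen
  have hSle : (2 : ℤ) ^ a - 2 ^ i - 2 ^ k' + 1 ≤ 2 ^ n - 2 := by linarith
  have hSge : -((2 : ℤ) ^ n - 2) ≤ (2 : ℤ) ^ a - 2 ^ i - 2 ^ k' + 1 := by linarith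
  have htlt : t < e := by
    by_contra hcon
    push Not at hcon
    have h1 : ((2 : ℤ) ^ n - 1) * (e : ℤ) ≤ ((2 : ℤ) ^ n - 1) * t :=
      mul_le_mul_of_nonneg_left hcon (by linarith)
    have h2 : (e : ℤ) * ((2 : ℤ) ^ a - 2 ^ i - 2 ^ k' + 1) ≤ (e : ℤ) * (2 ^ n - 2) :=
      mul_le_mul_of_nonneg_left hSle (by linarith)
    nlinarith
  have htgt : -(e : ℤ) < t := by
    by_contra hcon
    push Not at hcon
    have h1 : ((2 : ℤ) ^ n - 1) * t ≤ ((2 : ℤ) ^ n - 1) * (-(e : ℤ)) :=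
      mul_le_mul_of_nonneg_left hcon (by linarith)
    have h2 : (e : ℤ) * (-((2 : ℤ) ^ n - 2)) ≤ (e : ℤ) * ((2 : ℤ) ^ a - 2 ^ i - 2 ^ k' + 1) :=
      mul_le_mul_of_nonneg_left hSge (by linarith)
    nlinarith
  by_cases ht0 : t = 0
  · -- the signed sum vanishes
    subst ht0
    rw [mul_zero] at ht
    have hS0 : (2 : ℤ) ^ a - 2 ^ i - 2 ^ k' + 1 = 0 := by
      rcases mul_eq_zero.mp ht with h1 | h1
      · linarith
      · exact h1
    have hS : 2 ^ a + 1 = 2 ^ i + 2 ^ k' := by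
      have : ((2 ^ a + 1 : ℕ) : ℤ) = ((2 ^ i + 2 ^ k' : ℕ) : ℤ) := by
        push_cast; linarith
      exact_mod_cast this
    have hk'2 : 2 ∣ 2 ^ k' := dvd_pow_self 2 (by omega)
    rcases Nat.eq_zero_or_pos i with hi0' | hipos
    · subst hi0'
      have h1 : 2 ^ a = 2 ^ k' := by
        rw [pow_zero] at hS; omega
      have h2 : a = k' := Nat.pow_right_injective le_rfl h1
      omega
    · exfalso
      have hi2' : 2 ∣ 2 ^ i := dvd_pow_self 2 (by omega)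
      have h1 : 2 ∣ 2 ^ a + 1 := by rw [hS]; exact dvd_add hi2' hk'2
      rcases Nat.eq_zero_or_pos a with ha0' | hapos
      · subst ha0'
        have h2 : 2 ≤ 2 ^ i := by
          calc 2 = 2 ^ 1 := by norm_num
            _ ≤ 2 ^ i := Nat.pow_le_pow_right (by norm_num) hipos
        have h3 : 2 ≤ 2 ^ k' := by
          calc 2 = 2 ^ 1 := by norm_num
            _ ≤ 2 ^ k' := Nat.pow_le_pow_right (by norm_num) hk'
        rw [pow_zero] at hS
        omega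
      · have h2 : 2 ∣ 2 ^ a := dvd_pow_self 2 (by omega)
        have h3 : 2 ∣ 1 := (Nat.dvd_add_right h2).mp h1
        omega
  · exfalso
    have hnd : ¬ ((e : ℤ) ∣ (e : ℤ) + t) := by
      intro hd
      have h1 : (e : ℤ) ∣ t := (dvd_add_right (dvd_refl (e : ℤ))).mp hd
      have h2 : |t| < (e : ℤ) := abs_lt.mpr ⟨htgt, htlt⟩
      exact ht0 (Int.eq_zero_of_abs_lt_dvd h1 h2)
    have hsp := sparse n e 3 [((1 : ℤ), a), ((-1 : ℤ), i), ((-1 : ℤ), k')] ((e : ℤ) + t) rfl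
      (by
        intro p hp
        simp only [List.mem_cons, List.not_mem_nil, or_false] at hp
        rcases hp with rfl | rfl | rfl
        · exact ⟨han, Or.inl rfl⟩
        · exact ⟨hi, Or.inr rfl⟩
        · exact ⟨hk'n, Or.inr rfl⟩) hnd
      (by
        simp only [List.map_cons, List.map_nil, List.sum_cons, List.sum_nil]
        exact ⟨t, by linear_combination ht⟩)
    have habs : |(e : ℤ) + t| ≤ 2 * (e : ℤ) - 1 := by
      rw [abs_le]; constructor <;> linarith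
    have hb := pow_bound4 n hn18
    have hbZ : 2 * ((n : ℤ) + 1) ^ 4 ≤ 2 ^ n := by exact_mod_cast hb
    have h1 : ((e : ℤ) + 1) ^ 3 * |(e : ℤ) + t| ≤ ((e : ℤ) + 1) ^ 3 * (2 * (e : ℤ) - 1) :=
      mul_le_mul_of_nonneg_left habs (by positivity)
    have h2 : ((e : ℤ) + 1) ^ 3 * (2 * (e : ℤ) - 1) < 2 * ((e : ℤ) + 1) ^ 4 := by
      have : (0 : ℤ) < ((e : ℤ) + 1) ^ 3 := by positivity
      nlinarith
    have h3 : ((e : ℤ) + 1) ^ 4 ≤ ((n : ℤ) + 1) ^ 4 := pow_le_pow_left₀ (by linarith) (by linarith) 4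
    linarith

end Cfsg.Agent.Lib.Helper5.SzNt
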