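import Mathlib
import Cfsg.Agent.Lib.Helper5.SzNt

/-! # Automorphisms of a finite field of characteristic two against a subgroup of `Fˣ`
containing all `e`-th powers, `e ∣ n` (piece of S3776) -/

set_option autoImplicit false

namespace Cfsg.Agent.Lib.Helper5.SzFld

open Cfsg.Agent.Lib.Helper5.SzNt

variable {F : Type*} [Field F] [Fintype F] [CharP F 2]

/-- every ring automorphism of `F` is a power of the Frobenius -/
theorem frob_repr (n : ℕ) (hcard : Fintype.card F = 2 ^ n) (ρ : F ≃+* F) :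
    ∃ k : ℕ, k < n ∧ ∀ x : F, ρ x = x ^ (2 ^ k) := by
  let _ : Algebra (ZMod 2) F := ZMod.algebra F 2
  have hcomm : ∀ x : ZMod 2, ρ (algebraMap (ZMod 2) F x) = algebraMap (ZMod 2) F x := by
    intro x
    have h1 : (ρ : F →+* F).comp (algebraMap (ZMod 2) F) = algebraMap (ZMod 2) F :=
      Subsingleton.elim _ _
    exact RingHom.congr_fun h1 x
  let ρ' : F ≃ₐ[ZMod 2] F := AlgEquiv.ofRingEquiv (f := ρ) hcomm
  obtain ⟨⟨k, hk⟩, hk'⟩ := (FiniteField.bijective_frobeniusAlgEquivOfAlgebraic_pow (ZMod 2) F).2 ρ'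
  have hfr : Module.finrank (ZMod 2) F = n := by
    have h1 := Module.card_eq_pow_finrank (K := ZMod 2) (V := F)
    rw [hcard, ZMod.card] at h1
    exact (Nat.pow_right_injective le_rfl h1).symm
  refine ⟨k, hfr ▸ hk, ?_⟩
  intro x
  have h2 : ρ x = ρ' x := rfl
  rw [h2, ← hk']
  show (FiniteField.frobeniusAlgEquivOfAlgebraic (ZMod 2) F ^ k) x = x ^ 2 ^ k
  rw [AlgEquiv.coe_pow, FiniteField.coe_frobeniusAlgEquivOfAlgebraic_iterate, ZMod.card]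

/-- a generator of `Fˣ` -/
theorem exists_gen (n : ℕ) (hcard : Fintype.card F = 2 ^ n) :
    ∃ b : Fˣ, orderOf b = 2 ^ n - 1 := by
  obtain ⟨b, hb⟩ := IsCyclic.exists_generator (α := Fˣ)
  refine ⟨b, ?_⟩
  rw [orderOf_eq_card_of_forall_mem_zpowers hb, Nat.card_units, Nat.card_eq_fintype_card, hcard]

theorem n2 (n e : ℕ) (hcard : Fintype.card F = 2 ^ n) (hn : 2 ≤ n) (he : e ∣ n)
    (M : Subgroup Fˣ) (hM : ∀ b : Fˣ, b ^ e ∈ M) (ρ : F ≃+* F)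
    (h : ∀ a ∈ M, ρ ((a : Fˣ) : F) = ((a : Fˣ) : F)) : ρ = 1 := by
  obtain ⟨k, hk, hρ⟩ := frob_repr n hcard ρ
  obtain ⟨b, hb⟩ := exists_gen (F := F) n hcard
  have h1 := h (b ^ e) (hM b)
  rw [hρ] at h1
  have h2 : (b ^ e) ^ (2 ^ k) = b ^ e := by
    apply Units.ext
    rw [Units.val_pow_eq_pow_val]
    exact h1
  rw [← pow_mul] at h2
  have h3 := (pow_eq_pow_iff_modEq).mp h2
  rw [hb] at h3
  have hle : e ≤ e * 2 ^ k := Nat.le_mul_of_pos_right _ (Nat.two_pow_pos k)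
  have h4 : (2 ^ n - 1) ∣ e * 2 ^ k - e := (Nat.modEq_iff_dvd' hle).mp h3.symm
  have h5 : e * 2 ^ k - e = e * (2 ^ k - 1) := by
    rw [Nat.mul_sub, mul_one]
  rw [h5] at h4
  have hk0 := nt2 n e k hn he hk h4
  subst hk0
  apply RingEquiv.ext
  intro x
  rw [hρ, pow_zero, pow_one]
  rfl

theorem n1 (n e : ℕ) (hcard : Fintype.card F = 2 ^ n) (hn : 2 ≤ n) (he : e ∣ n)
    (M : Subgroup Fˣ) (hM : ∀ b : Fˣ, b ^ e ∈ M) (ρ τ : F ≃+* F)
    (h : ∀ a ∈ M, ρ ((a : Fˣ) : F) * τ ((a : Fˣ) : F) = ((a : Fˣ) : F)) :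
    ρ = τ ∧ ∀ u : F, ρ (u * u) = u := by
  obtain ⟨k, hk, hρ⟩ := frob_repr n hcard ρ
  obtain ⟨l, hl, hτ⟩ := frob_repr n hcard τ
  obtain ⟨b, hb⟩ := exists_gen (F := F) n hcard
  have h1 := h (b ^ e) (hM b)
  rw [hρ, hτ] at h1
  have h2 : (b ^ e) ^ (2 ^ k) * (b ^ e) ^ (2 ^ l) = b ^ e := by
    apply Units.ext
    rw [Units.val_mul, Units.val_pow_eq_pow_val, Units.val_pow_eq_pow_val]
    exact h1
  rw [← pow_mul, ← pow_mul, ← pow_add] at h2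
  have h3 := (pow_eq_pow_iff_modEq).mp h2
  rw [hb] at h3
  have hle : e ≤ e * 2 ^ k + e * 2 ^ l :=
    le_trans (Nat.le_mul_of_pos_right _ (Nat.two_pow_pos k)) (Nat.le_add_right _ _)
  have h4 : (2 ^ n - 1) ∣ e * 2 ^ k + e * 2 ^ l - e := (Nat.modEq_iff_dvd' hle).mp h3.symm
  have h5 : e * 2 ^ k + e * 2 ^ l - e = e * (2 ^ k + 2 ^ l - 1) := by
    rw [Nat.mul_sub, mul_one, mul_add]
  rw [h5] at h4
  obtain ⟨hk1, hl1⟩ := nt3 n e k l hn he hk hl h4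
  subst hk1
  subst hl1
  constructor
  · apply RingEquiv.ext
    intro x
    rw [hρ, hτ]
  · intro u
    rw [hρ, ← pow_two, ← pow_mul, ← pow_succ']
    have h6 : n - 1 + 1 = n := by omega
    rw [h6, ← hcard, FiniteField.pow_card]

theorem n4 (n e : ℕ) (hcard : Fintype.card F = 2 ^ n) (hn : 2 ≤ n) (he : e ∣ n)
    (M : Subgroup Fˣ) (hM : ∀ b : Fˣ, b ^ e ∈ M) (ρ ρ' : F ≃+* F) (hρ : ρ ≠ 1) (hρ' : ρ' ≠ 1)
    (i : ℕ) (hi : i < n)
    (h : ∀ a ∈ M, ((a : Fˣ) : F) * (ρ' ((a : Fˣ) : F)) ^ (2 ^ i) =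
      ρ ((a : Fˣ) : F) * ((a : Fˣ) : F) ^ (2 ^ i)) : ρ = ρ' := by
  obtain ⟨k, hk, hr⟩ := frob_repr n hcard ρ
  obtain ⟨k', hk', hr'⟩ := frob_repr n hcard ρ'
  obtain ⟨b, hb⟩ := exists_gen (F := F) n hcard
  have hk0 : 1 ≤ k := by
    by_contra h0
    have : k = 0 := by omega
    subst this
    apply hρ
    apply RingEquiv.ext
    intro x
    rw [hr, pow_zero, pow_one]
    rfl
  have hk'0 : 1 ≤ k' := by
    by_contra h0
    have : k' = 0 := by omega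
    subst this
    apply hρ'
    apply RingEquiv.ext
    intro x
    rw [hr', pow_zero, pow_one]
    rfl
  have h1 := h (b ^ e) (hM b)
  rw [hr, hr'] at h1
  have h2 : (b ^ e) * ((b ^ e) ^ (2 ^ k')) ^ (2 ^ i) = (b ^ e) ^ (2 ^ k) * (b ^ e) ^ (2 ^ i) := by
    apply Units.ext
    rw [Units.val_mul, Units.val_mul, Units.val_pow_eq_pow_val, Units.val_pow_eq_pow_val,
      Units.val_pow_eq_pow_val, Units.val_pow_eq_pow_val]
    exact h1
  have h2' : b ^ (e + e * 2 ^ k' * 2 ^ i) = b ^ (e * 2 ^ k + e * 2 ^ i) := by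
    rw [pow_add, pow_add, pow_mul, pow_mul, pow_mul, pow_mul]
    exact h2
  have h3 := (pow_eq_pow_iff_modEq).mp h2'
  rw [hb] at h3
  have h4 := (Nat.modEq_iff_dvd).mp h3
  rw [Nat.cast_pred (Nat.two_pow_pos n)] at h4
  push_cast at h4
  have h5 : ((2 : ℤ) ^ n - 1) ∣ (e : ℤ) * (((2 : ℤ) ^ k' - 1) * 2 ^ i - (2 ^ k - 1)) := by
    have h6 : (e : ℤ) * (((2 : ℤ) ^ k' - 1) * 2 ^ i - (2 ^ k - 1)) =
        -((e : ℤ) * 2 ^ k + (e : ℤ) * 2 ^ i - ((e : ℤ) + (e : ℤ) * 2 ^ k' * 2 ^ i)) := by ring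
    rw [h6]
    exact (dvd_neg).mpr h4
  have hkk := nt4 n e k' k i hn he hk'0 hk' hk0 hk hi h5
  subst hkk
  apply RingEquiv.ext
  intro x
  rw [hr, hr']

end Cfsg.Agent.Lib.Helper5.SzFld
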