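import Mathlib
import Cfsg.Prelude.Def_CaseTheorems
import Cfsg.Prelude.Def_TwoFusion
import Cfsg.Agent.Lib.Helper2.HDDefs

/-!
# Farm HD (S1235): core (a) = unit U1.
If a Sylow 2-subgroup `S` of `G` satisfies `Q(S)`: for all `M ⊴ R ≤ S` with `R / M` of exponent 2,
`|R| ≤ 2^k |M|`, then every section of `G` has 2-rank at most `k`.
-/

set_option autoImplicit false

namespace Cfsg.Agent.Lib.Helper5.HDU1

open Cfsg
open scoped Pointwise
open Cfsg.Agent.Lib.Helper2.HDDefs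

/-- abstract lifting: a 2-subgroup `A` of a quotient `H ⧸ N` is the image of a 2-subgroup `R₀`
of `H`, with `|A| * |R₀ ∩ N| = |R₀|`. -/
theorem exists_lift {H : Type*} [Group H] [Finite H] (N : Subgroup H) [N.Normal]
    (A : Subgroup (H ⧸ N)) (hA : IsPGroup 2 ↥A) :
    ∃ R₀ : Subgroup H, IsPGroup 2 ↥R₀ ∧ Nat.card ↥A * Nat.card ↥(R₀ ⊓ N) = Nat.card ↥R₀ ∧
      ∀ r ∈ R₀, (QuotientGroup.mk' N r) ∈ A := by
  haveI : Fact (Nat.Prime 2) := ⟨Nat.prime_two⟩
  set f := QuotientGroup.mk' N with hf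
  set B : Subgroup H := A.comap f with hB
  let g : ↥B →* ↥A := f.subgroupComap A
  have hg : Function.Surjective g :=
    f.subgroupComap_surjective_of_surjective A (QuotientGroup.mk'_surjective N)
  obtain ⟨R₁⟩ : Nonempty (Sylow 2 ↥B) := inferInstance
  -- the image of `R₁` is everything
  have htop : (R₁ : Subgroup ↥B).map g = ⊤ := by
    have h1 : ((R₁.mapSurjective hg : Sylow 2 ↥A) : Subgroup ↥A) = (R₁ : Subgroup ↥B).map g :=
      Sylow.coe_mapSurjective hg R₁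
    have h2 := Sylow.card_eq_multiplicity (R₁.mapSurjective hg)
    obtain ⟨n, hn⟩ := IsPGroup.iff_card.mp hA
    rw [hn, Nat.Prime.factorization_pow Nat.prime_two] at h2
    simp only [Finsupp.single_eq_same] at h2
    rw [← h1]
    apply Subgroup.eq_top_of_card_eq
    rw [hn]
    exact h2
  -- restriction of `g` to `R₁`
  let ψ : ↥(R₁ : Subgroup ↥B) →* ↥A := g.comp (R₁ : Subgroup ↥B).subtype
  have hψ : Function.Surjective ψ := by
    intro a
    have : a ∈ (R₁ : Subgroup ↥B).map g := by rw [htop]; exact Subgroup.mem_top a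
    obtain ⟨r, hr, hra⟩ := this
    exact ⟨⟨r, hr⟩, hra⟩
  have hcard : Nat.card ↥(R₁ : Subgroup ↥B) = Nat.card ↥A * Nat.card ↥ψ.ker := by
    rw [Subgroup.card_eq_card_quotient_mul_card_subgroup ψ.ker,
      Nat.card_congr (QuotientGroup.quotientKerEquivOfSurjective ψ hψ).toEquiv]
  -- transport to `H`
  let ι : ↥(R₁ : Subgroup ↥B) →* H := B.subtype.comp (R₁ : Subgroup ↥B).subtype
  have hι : Function.Injective ι := by
    intro a b hab
    apply Subtype.ext
    apply Subtype.ext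
    exact hab
  refine ⟨(⊤ : Subgroup ↥(R₁ : Subgroup ↥B)).map ι, ?_, ?_, ?_⟩
  · -- 2-group
    have h1 : IsPGroup 2 ↥(R₁ : Subgroup ↥B) := R₁.isPGroup'
    intro x
    obtain ⟨x, ⟨r, -, rfl⟩⟩ := x
    obtain ⟨k, hk⟩ := h1 r
    refine ⟨k, ?_⟩
    apply Subtype.ext
    have := congrArg ι hk
    simpa using this
  · have e1 : Nat.card ↥((⊤ : Subgroup ↥(R₁ : Subgroup ↥B)).map ι) = Nat.card ↥(R₁ : Subgroup ↥B) := by
      rw [Subgroup.card_map_of_injective hι, Subgroup.card_top]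
    have e2 : ((⊤ : Subgroup ↥(R₁ : Subgroup ↥B)).map ι ⊓ N) = ψ.ker.map ι := by
      ext x
      constructor
      · rintro ⟨⟨r, -, rfl⟩, hxN⟩
        refine ⟨r, ?_, rfl⟩
        show ψ r = 1
        apply Subtype.ext
        show f ((r : ↥B) : H) = 1
        rw [hf, QuotientGroup.mk'_apply, QuotientGroup.eq_one_iff]
        exact hxN
      · rintro ⟨r, hr, rfl⟩
        refine ⟨⟨r, Subgroup.mem_top r, rfl⟩, ?_⟩
        change ψ r = 1 at hr
        have := congrArg (fun a : ↥A => (a : H ⧸ N)) hr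
        have h3 : f ((r : ↥B) : H) = 1 := this
        rw [hf, QuotientGroup.mk'_apply, QuotientGroup.eq_one_iff] at h3
        exact h3
    rw [e1, e2, Subgroup.card_map_of_injective hι, hcard]
  · rintro x ⟨r, -, rfl⟩
    exact (r : ↥B).2

/-- **Core (a)**: the bound `Q(S)` for the subgroups of one Sylow 2-subgroup gives sectional 2-rank
at most `k`. -/
theorem sectionalPRankLE_of_sylow {G : Type*} [Group G] [Finite G] (k : ℕ) (S : Sylow 2 G)
    (hQ : ∀ R M : Subgroup G, R ≤ (S : Subgroup G) → M ≤ R →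
      (∀ r ∈ R, ∀ m ∈ M, r * m * r⁻¹ ∈ M) → (∀ r ∈ R, r * r ∈ M) →
      Nat.card R ≤ 2 ^ k * Nat.card M) : Cfsg.SectionalPRankLE 2 k G := by
  haveI : Fact (Nat.Prime 2) := ⟨Nat.prime_two⟩
  intro H N _ A _ hA2
  have hA : IsPGroup 2 ↥A := by
    intro a
    refine ⟨1, ?_⟩
    apply Subtype.ext
    simpa using hA2 a a.2
  obtain ⟨R₀, hR₀, hcard, hmem⟩ := exists_lift N A hA
  have hinj : Function.Injective H.subtype := Subtype.coe_injective
  have hRp : IsPGroup 2 ↥(R₀.map H.subtype) := hR₀.map H.subtype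
  obtain ⟨Q, hQR⟩ := hRp.exists_le_sylow
  obtain ⟨c, hc⟩ := MulAction.exists_smul_eq G Q S
  have hSmap : (S : Subgroup G) = (Q : Subgroup G).map (MulAut.conj c).toMonoidHom := by
    rw [← hc]
    have h2 : ((c • Q : Sylow 2 G) : Subgroup G) = MulAut.conj c • (Q : Subgroup G) :=
      Sylow.coe_subgroup_smul
    rw [h2]
    rfl
  let φ : ↥H →* G := (MulAut.conj c).toMonoidHom.comp H.subtype
  have hφ : Function.Injective φ := (MulAut.conj c).injective.comp hinj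
  have hφR : R₀.map φ ≤ (S : Subgroup G) := by
    rw [hSmap, ← Subgroup.map_map]
    exact Subgroup.map_mono hQR
  have hMR : (R₀ ⊓ N).map φ ≤ R₀.map φ := Subgroup.map_mono inf_le_left
  have hnorm : ∀ r ∈ R₀.map φ, ∀ m ∈ (R₀ ⊓ N).map φ, r * m * r⁻¹ ∈ (R₀ ⊓ N).map φ := by
    rintro _ ⟨r, hr, rfl⟩ _ ⟨m, hm, rfl⟩
    refine ⟨r * m * r⁻¹, ⟨?_, ?_⟩, by simp⟩
    · exact R₀.mul_mem (R₀.mul_mem hr hm.1) (R₀.inv_mem hr)
    · exact (inferInstance : N.Normal).conj_mem m hm.2 r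
  have hsq : ∀ r ∈ R₀.map φ, r * r ∈ (R₀ ⊓ N).map φ := by
    rintro _ ⟨r, hr, rfl⟩
    refine ⟨r * r, ⟨R₀.mul_mem hr hr, ?_⟩, by simp⟩
    have h1 := hA2 _ (hmem r hr)
    rw [← map_pow, QuotientGroup.mk'_apply, QuotientGroup.eq_one_iff, pow_two] at h1
    exact h1
  have hbound := hQ _ _ hφR hMR hnorm hsq
  rw [Subgroup.card_map_of_injective hφ, Subgroup.card_map_of_injective hφ, ← hcard] at hbound
  have hpos : 0 < Nat.card ↥(R₀ ⊓ N) := Nat.card_pos
  exact Nat.le_of_mul_le_mul_right hbound hpos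

/-- U1b (verbatim): the bound for the subgroups of one Sylow 2-subgroup gives sectional 2-rank at
most 4. -/
theorem U1b_sectional {G : Type*} [Group G] [Finite G] (S : Sylow 2 G)
    (h : ∀ R M : Subgroup G, R ≤ (S : Subgroup G) → M ≤ R →
      (∀ r ∈ R, ∀ m ∈ M, r * m * r⁻¹ ∈ M) → (∀ r ∈ R, r * r ∈ M) →
      Nat.card R ≤ 16 * Nat.card M) : Cfsg.SectionalPRankLE 2 4 G :=
  sectionalPRankLE_of_sylow 4 S (fun R M h1 h2 h3 h4 =>
    (h R M h1 h2 h3 h4).trans (le_of_eq (by norm_num)))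

/-- U1a (verbatim): transfer of `SecBound` from the subgroup type `↥S` to subgroups of `G` inside
`S`. -/
theorem U1a_transfer {G : Type*} [Group G] (S : Subgroup G) (h : SecBound ↥S)
    (R M : Subgroup G) (hRS : R ≤ S) (hMR : M ≤ R) (hn : ∀ r ∈ R, ∀ m ∈ M, r * m * r⁻¹ ∈ M)
    (hsq : ∀ r ∈ R, r * r ∈ M) : Nat.card R ≤ 16 * Nat.card M := by
  have hMS : M ≤ S := hMR.trans hRS
  have h1 := h (R.subgroupOf S) (M.subgroupOf S) (fun x hx => hMR hx)
    (fun r hr m hm => hn _ hr _ hm) (fun r hr => hsq _ hr)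
  rw [Nat.card_congr (Subgroup.subgroupOfEquivOfLe hRS).toEquiv,
    Nat.card_congr (Subgroup.subgroupOfEquivOfLe hMS).toEquiv] at h1
  exact h1

end Cfsg.Agent.Lib.Helper5.HDU1
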