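import Mathlib
import Cfsg.Prelude.Def_CaseTheorems
import Cfsg.Prelude.Def_TwoFusion
import Cfsg.Agent.Lib.Helper2.HDDefs

/-!
# Farm HD (S1235): units U8b_quasidihedral, U9b_prod, U9c_card (verbatim vs `HDStubs`).
-/

set_option autoImplicit false

namespace Cfsg.Agent.Lib.Helper5.HDU89

open Cfsg.Agent.Lib.Helper2.HDDefs

/-- U8b: quasidihedral `D`: nonabelian with a cyclic subgroup of index 2. -/
theorem U8b_quasidihedral {G : Type*} [Group G] (D : Subgroup G) (hD : Cfsg.IsQuasiDihedral ↥D) :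
    ∃ C : Subgroup G, C ≤ D ∧ IsCyclic C ∧ C.relIndex D = 2 ∧
      ∃ d ∈ D, ∃ d' ∈ D, d * d' ≠ d' * d := by
  obtain ⟨n, hn, hcard, x, y, hx, hy, hxy⟩ := hD
  refine ⟨Subgroup.zpowers (x : G), Subgroup.zpowers_le.mpr x.2, inferInstance, ?_,
    (y : G), y.2, (x : G), x.2, ?_⟩
  · have h1 := Subgroup.relIndex_mul_relIndex ⊥ (Subgroup.zpowers (x : G)) D bot_le
      (Subgroup.zpowers_le.mpr x.2)
    rw [Subgroup.relIndex_bot_left, Subgroup.relIndex_bot_left, Nat.card_zpowers,
      Subgroup.orderOf_coe, hx, hcard, pow_succ] at h1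
    exact Nat.eq_of_mul_eq_mul_left (by positivity) h1
  · intro hc
    have hc' : y * x = x * y := Subtype.ext hc
    have h2 : y * x * y⁻¹ = x := by rw [hc']; group
    rw [h2] at hxy
    obtain ⟨k, rfl⟩ : ∃ k, n = k + 3 := ⟨n - 3, by omega⟩
    have hk2 : k + 3 - 1 = k + 2 := by omega
    have hm : 4 ≤ 2 ^ (k + 3 - 1) := by
      rw [hk2, pow_add]
      have := Nat.one_le_two_pow (n := k)
      omega
    have h7 : 2 ^ (k + 3) = 2 * 2 ^ (k + 3 - 1) := by
      rw [hk2, pow_succ]; ring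
    generalize 2 ^ (k + 3 - 1) = m at hm h7 hxy
    have h3 : x ^ (m - 2) = 1 := by
      have h4 : x ^ (m - 2) * x = 1 * x := by
        rw [one_mul, ← pow_succ]
        have : m - 2 + 1 = m - 1 := by omega
        rw [this]; exact hxy.symm
      exact mul_right_cancel h4
    have h5 := orderOf_dvd_of_pow_eq_one h3
    rw [hx] at h5
    have h6 := Nat.le_of_dvd (by omega) h5
    omega

/-- U9b: an internal direct product inside `S` stays one in the subgroup type `↥S`. -/
theorem U9b_prod {G : Type*} [Group G] (S T D B : Subgroup G) (hTS : T ≤ S)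
    (hprod : Cfsg.IsInternalDirectProduct D B T) :
    Cfsg.IsInternalDirectProduct (D.subgroupOf S) (B.subgroupOf S) (T.subgroupOf S) := by
  obtain ⟨hDT, hBT, hcomm, hinf, hsup⟩ := hprod
  refine ⟨fun x hx => hDT hx, fun x hx => hBT hx,
    fun a ha b hb => Subtype.ext (hcomm _ ha _ hb), ?_, ?_⟩
  · rw [eq_bot_iff]
    rintro x ⟨hx1, hx2⟩
    have : (x : G) ∈ D ⊓ B := ⟨hx1, hx2⟩
    rw [hinf, Subgroup.mem_bot] at this
    exact Subgroup.mem_bot.mpr (Subtype.ext this)
  · rw [← Subgroup.subgroupOf_sup (hDT.trans hTS) (hBT.trans hTS), hsup]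

/-- U9c: order and elements of an internal direct product. -/
theorem U9c_card {G : Type*} [Group G] [Finite G] (T D B : Subgroup G)
    (hprod : Cfsg.IsInternalDirectProduct D B T) :
    Nat.card T = Nat.card D * Nat.card B ∧ ∀ t ∈ T, ∃ d ∈ D, ∃ b ∈ B, t = d * b := by
  obtain ⟨hDT, hBT, hcomm, hinf, hsup⟩ := hprod
  have hc : ∀ (m : ↥D) (n : ↥B), Commute (D.subtype m) (B.subtype n) :=
    fun d b => hcomm d d.2 b b.2
  let f : ↥D × ↥B →* G := MonoidHom.noncommCoprod D.subtype B.subtype hc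
  have hf : ∀ p : ↥D × ↥B, f p = (p.1 : G) * (p.2 : G) := fun p => rfl
  have hinj : Function.Injective f := by
    rw [injective_iff_map_eq_one]
    rintro ⟨d, b⟩ h
    rw [hf] at h
    have h1 : (d : G) = (b : G)⁻¹ := eq_inv_of_mul_eq_one_left h
    have h2 : (d : G) ∈ D ⊓ B := ⟨d.2, by rw [h1]; exact B.inv_mem b.2⟩
    rw [hinf, Subgroup.mem_bot] at h2
    have h3 : (b : G) = 1 := by
      rw [h2] at h1
      exact inv_eq_one.mp h1.symm
    exact Prod.ext (Subtype.ext h2) (Subtype.ext h3)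
  have hrange : f.range = T := by
    rw [← hsup]
    show (MonoidHom.noncommCoprod D.subtype B.subtype hc).range = _
    rw [MonoidHom.noncommCoprod_range, Subgroup.range_subtype, Subgroup.range_subtype]
  constructor
  · rw [← hrange, ← Nat.card_congr (MonoidHom.ofInjective hinj).toEquiv, Nat.card_prod]
  · intro t ht
    rw [← hrange] at ht
    obtain ⟨⟨d, b⟩, rfl⟩ := ht
    exact ⟨d, d.2, b, b.2, rfl⟩

end Cfsg.Agent.Lib.Helper5.HDU89
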