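import Mathlib

set_option autoImplicit false

namespace Cfsg.Agent.Lib.Helper5.Steiner22

open Finset

variable {α : Type*} [Fintype α] [DecidableEq α]

/-- finite version of a Steiner system `S(3,6,22)` -/
structure Sys (Bf : Finset (Finset α)) : Prop where
  card_pts : Fintype.card α = 22
  card_blk : ∀ b ∈ Bf, b.card = 6
  uniq : ∀ s : Finset α, s.card = 3 → ∃! b, b ∈ Bf ∧ s ⊆ b

omit [Fintype α] in
/-- general double counting of incidences -/
theorem double_count (A : Finset α) (T : Finset (Finset α)) :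
    ∑ c ∈ T, (A ∩ c).card = ∑ x ∈ A, (T.filter (fun c => x ∈ c)).card := by
  have := Finset.sum_card_bipartiteAbove_eq_sum_card_bipartiteBelow (s := A) (t := T)
    (r := fun x c => x ∈ c)
  rw [show (∑ x ∈ A, (T.filter (fun c => x ∈ c)).card) =
    ∑ a ∈ A, (T.bipartiteAbove (fun x c => x ∈ c) a).card from rfl, this]
  apply Finset.sum_congr rfl
  intro c _
  congr 1

omit [Fintype α] in
/-- double counting with 2-subsets -/
theorem double_count_pairs (A : Finset α) (T : Finset (Finset α)) :
    ∑ c ∈ T, ((A ∩ c).powersetCard 2).card =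
      ∑ p ∈ A.powersetCard 2, (T.filter (fun c => p ⊆ c)).card := by
  have := Finset.sum_card_bipartiteAbove_eq_sum_card_bipartiteBelow (s := A.powersetCard 2)
    (t := T) (r := fun p c => p ⊆ c)
  rw [show (∑ p ∈ A.powersetCard 2, (T.filter (fun c => p ⊆ c)).card) =
    ∑ a ∈ A.powersetCard 2, (T.bipartiteAbove (fun p c => p ⊆ c) a).card from rfl, this]
  apply Finset.sum_congr rfl
  intro c _
  congr 1
  ext p
  simp only [Finset.mem_bipartiteBelow, Finset.mem_powersetCard, Finset.subset_inter_iff]
  tauto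

variable {Bf : Finset (Finset α)}

/-- number of blocks containing a set -/
def N (Bf : Finset (Finset α)) (s : Finset α) : ℕ := (Bf.filter (fun b => s ⊆ b)).card

theorem N_three (h : Sys Bf) (s : Finset α) (hs : s.card = 3) : N Bf s = 1 := by
  obtain ⟨b, ⟨hb1, hb2⟩, hb3⟩ := h.uniq s hs
  unfold N
  rw [Finset.card_eq_one]
  refine ⟨b, ?_⟩
  ext c
  rw [Finset.mem_filter, Finset.mem_singleton]
  constructor
  · intro hc
    exact hb3 c hc
  · rintro rfl
    exact ⟨hb1, hb2⟩

theorem N_step (h : Sys Bf) (s : Finset α) (i lam : ℕ) (hs : s.card = i)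
    (hlam : ∀ x, x ∉ s → N Bf (insert x s) = lam) :
    (22 - i) * lam = N Bf s * (6 - i) := by
  have h1 := double_count (A := (Finset.univ : Finset α) \ s) (T := Bf.filter (fun b => s ⊆ b))
  have h2 : ∑ x ∈ (Finset.univ : Finset α) \ s,
      ((Bf.filter (fun b => s ⊆ b)).filter (fun c => x ∈ c)).card =
      ∑ x ∈ (Finset.univ : Finset α) \ s, lam := by
    apply Finset.sum_congr rfl
    intro x hx
    rw [← hlam x (Finset.mem_sdiff.mp hx).2]
    unfold N
    congr 1
    ext b
    simp only [Finset.mem_filter, Finset.insert_subset_iff]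
    tauto
  have h3 : ∑ c ∈ Bf.filter (fun b => s ⊆ b), (((Finset.univ : Finset α) \ s) ∩ c).card =
      ∑ c ∈ Bf.filter (fun b => s ⊆ b), (6 - i) := by
    apply Finset.sum_congr rfl
    intro c hc
    obtain ⟨hc1, hc2⟩ := Finset.mem_filter.mp hc
    have : ((Finset.univ : Finset α) \ s) ∩ c = c \ s := by
      ext x
      simp only [Finset.mem_inter, Finset.mem_sdiff, Finset.mem_univ, true_and]
      tauto
    rw [this, Finset.card_sdiff_of_subset hc2, h.card_blk c hc1, hs]
  rw [h2, h3, Finset.sum_const, Finset.sum_const, smul_eq_mul, smul_eq_mul,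
    Finset.card_sdiff_of_subset (Finset.subset_univ s), Finset.card_univ, h.card_pts, hs] at h1
  unfold N
  exact h1.symm

theorem N_two (h : Sys Bf) (s : Finset α) (hs : s.card = 2) : N Bf s = 5 := by
  have := N_step h s 2 1 hs (fun x hx => N_three h _ (by rw [Finset.card_insert_of_notMem hx, hs]))
  omega

theorem N_one (h : Sys Bf) (s : Finset α) (hs : s.card = 1) : N Bf s = 21 := by
  have := N_step h s 1 5 hs (fun x hx => N_two h _ (by rw [Finset.card_insert_of_notMem hx, hs]))
  omega

theorem N_zero (h : Sys Bf) : N Bf ∅ = 77 := by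
  have := N_step h ∅ 0 21 rfl (fun x hx => N_one h _ (by simp))
  omega

theorem card_blocks (h : Sys Bf) : Bf.card = 77 := by
  rw [← N_zero h]
  unfold N
  congr 1
  ext b
  simp

theorem mem_count (h : Sys Bf) (x : α) : (Bf.filter (fun b => x ∈ b)).card = 21 := by
  rw [← N_one h {x} (Finset.card_singleton x)]
  unfold N
  congr 1
  ext b
  simp

theorem pair_count (h : Sys Bf) (x y : α) (hxy : x ≠ y) :
    (Bf.filter (fun b => x ∈ b ∧ y ∈ b)).card = 5 := by
  rw [← N_two h {x, y} (Finset.card_pair hxy)]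
  unfold N
  congr 1
  ext b
  simp [Finset.insert_subset_iff]

theorem inter_le_two (h : Sys Bf) (b c : Finset α) (hb : b ∈ Bf) (hc : c ∈ Bf) (hbc : b ≠ c) :
    (b ∩ c).card ≤ 2 := by
  by_contra hcon
  push Not at hcon
  obtain ⟨s, hs, hs3⟩ := Finset.exists_subset_card_eq (s := b ∩ c) (n := 3) (by omega)
  obtain ⟨d, _, hd⟩ := h.uniq s hs3
  have h1 := hd b ⟨hb, hs.trans Finset.inter_subset_left⟩
  have h2 := hd c ⟨hc, hs.trans Finset.inter_subset_right⟩
  exact hbc (h1.trans h2.symm)

omit [Fintype α] in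
theorem filter_erase_card (T : Finset (Finset α)) (b : Finset α) (p : Finset α → Prop)
    [DecidablePred p] (hb : b ∈ T) (hp : p b) :
    ((T.erase b).filter p).card = (T.filter p).card - 1 := by
  rw [Finset.filter_erase, Finset.card_erase_of_mem (Finset.mem_filter.mpr ⟨hb, hp⟩)]

/-- distinct blocks meet in 0 or 2 points -/
theorem inter_zero_or_two (h : Sys Bf) (b : Finset α) (hb : b ∈ Bf) :
    ∀ c ∈ Bf, c ≠ b → (b ∩ c).card = 0 ∨ (b ∩ c).card = 2 := by
  have hS1 : ∑ c ∈ Bf.erase b, (b ∩ c).card = 120 := by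
    rw [double_count]
    have : ∀ x ∈ b, ((Bf.erase b).filter (fun c => x ∈ c)).card = 20 := by
      intro x hx
      rw [filter_erase_card Bf b _ hb hx, mem_count h]
    rw [Finset.sum_congr rfl this, Finset.sum_const, h.card_blk b hb]
    rfl
  have hS2 : ∑ c ∈ Bf.erase b, ((b ∩ c).powersetCard 2).card = 60 := by
    rw [double_count_pairs]
    have : ∀ p ∈ b.powersetCard 2, ((Bf.erase b).filter (fun c => p ⊆ c)).card = 4 := by
      intro p hp
      obtain ⟨hp1, hp2⟩ := Finset.mem_powersetCard.mp hp
      rw [filter_erase_card Bf b _ hb hp1]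
      have := N_two h p hp2
      unfold N at this
      rw [this]
    rw [Finset.sum_congr rfl this, Finset.sum_const, Finset.card_powersetCard, h.card_blk b hb]
    rfl
  have hle : ∀ c ∈ Bf.erase b, 2 * ((b ∩ c).powersetCard 2).card ≤ (b ∩ c).card := by
    intro c hc
    obtain ⟨hcb, hcB⟩ := Finset.mem_erase.mp hc
    have h2 := inter_le_two h b c hb hcB (Ne.symm hcb)
    rw [Finset.card_powersetCard]
    interval_cases (b ∩ c).card <;> simp [Nat.choose]
  have hsum : ∑ c ∈ Bf.erase b, 2 * ((b ∩ c).powersetCard 2).card =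
      ∑ c ∈ Bf.erase b, (b ∩ c).card := by
    rw [← Finset.mul_sum, hS1, hS2]
    norm_num
  have heq := (Finset.sum_eq_sum_iff_of_le hle).mp hsum
  intro c hc hcb
  have hc' : c ∈ Bf.erase b := Finset.mem_erase.mpr ⟨hcb, hc⟩
  have h1 := heq c hc'
  have h2 := inter_le_two h b c hb hc (Ne.symm hcb)
  rw [Finset.card_powersetCard] at h1
  interval_cases hk : (b ∩ c).card
  · exact Or.inl rfl
  · simp [Nat.choose] at h1
  · exact Or.inr rfl

omit [Fintype α] in
theorem disjoint_iff_card (b c : Finset α) : Disjoint b c ↔ (b ∩ c).card = 0 := by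
  rw [Finset.card_eq_zero, Finset.disjoint_iff_inter_eq_empty]

/-- key summation identity -/
theorem sum_inter (h : Sys Bf) (b : Finset α) (hb : b ∈ Bf) (T : Finset (Finset α))
    (hT : T ⊆ Bf) (hbT : b ∉ T) :
    ∑ c ∈ T, (b ∩ c).card + 2 * (T.filter (fun c => Disjoint b c)).card = 2 * T.card := by
  rw [Finset.card_filter, Finset.mul_sum, ← Finset.sum_add_distrib, Finset.card_eq_sum_ones,
    Finset.mul_sum]
  apply Finset.sum_congr rfl
  intro c hc
  have hcb : c ≠ b := fun hh => hbT (hh ▸ hc)
  rcases inter_zero_or_two h b hb c (hT hc) hcb with h0 | h2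
  · rw [if_pos ((disjoint_iff_card b c).mpr h0), h0]
    norm_num
  · rw [if_neg (fun hd => by rw [disjoint_iff_card] at hd; omega), h2]
    norm_num

omit [DecidableEq α] in
theorem block_ne_empty (h : Sys Bf) (b : Finset α) (hb : b ∈ Bf) : b.Nonempty := by
  rw [← Finset.card_pos, h.card_blk b hb]
  norm_num

omit [DecidableEq α] in
theorem ne_of_disjoint (h : Sys Bf) (b c : Finset α) (hb : b ∈ Bf) (hd : Disjoint b c) :
    c ≠ b := by
  rintro rfl
  rw [disjoint_self] at hd
  have := block_ne_empty h c hb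
  rw [hd] at this
  exact Finset.not_nonempty_empty this

/-- each block is disjoint from exactly 16 blocks -/
theorem card_disjoint (h : Sys Bf) (b : Finset α) (hb : b ∈ Bf) :
    (Bf.filter (fun c => Disjoint b c)).card = 16 := by
  have h1 := sum_inter h b hb (Bf.erase b) (Finset.erase_subset _ _) (Finset.notMem_erase b Bf)
  have hS1 : ∑ c ∈ Bf.erase b, (b ∩ c).card = 120 := by
    rw [double_count]
    have : ∀ x ∈ b, ((Bf.erase b).filter (fun c => x ∈ c)).card = 20 := by
      intro x hx
      rw [filter_erase_card Bf b _ hb hx, mem_count h]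
    rw [Finset.sum_congr rfl this, Finset.sum_const, h.card_blk b hb]
    rfl
  rw [hS1, Finset.card_erase_of_mem hb, card_blocks h] at h1
  have h2 : (Bf.erase b).filter (fun c => Disjoint b c) = Bf.filter (fun c => Disjoint b c) := by
    ext c
    simp only [Finset.mem_filter, Finset.mem_erase]
    constructor
    · rintro ⟨⟨_, hc⟩, hd⟩
      exact ⟨hc, hd⟩
    · rintro ⟨hc, hd⟩
      exact ⟨⟨ne_of_disjoint h b c hb hd, hc⟩, hd⟩
  rw [h2] at h1
  omega

/-- through a point outside a block there are exactly 6 blocks disjoint from it -/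
theorem card_disjoint_through (h : Sys Bf) (b : Finset α) (hb : b ∈ Bf) (x : α) (hx : x ∉ b) :
    (Bf.filter (fun c => x ∈ c ∧ Disjoint b c)).card = 6 := by
  have hbT : b ∉ Bf.filter (fun c => x ∈ c) := fun hh => hx (Finset.mem_filter.mp hh).2
  have h1 := sum_inter h b hb (Bf.filter (fun c => x ∈ c)) (Finset.filter_subset _ _) hbT
  have hS : ∑ c ∈ Bf.filter (fun c => x ∈ c), (b ∩ c).card = 30 := by
    rw [double_count]
    have : ∀ z ∈ b, ((Bf.filter (fun c => x ∈ c)).filter (fun c => z ∈ c)).card = 5 := by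
      intro z hz
      rw [Finset.filter_filter]
      exact pair_count h x z (fun hxz => hx (hxz ▸ hz))
    rw [Finset.sum_congr rfl this, Finset.sum_const, h.card_blk b hb]
    rfl
  rw [hS, mem_count h, Finset.filter_filter] at h1
  omega

/-- `μ = 4` -/
theorem card_common_of_meet (h : Sys Bf) (b c : Finset α) (hb : b ∈ Bf) (hc : c ∈ Bf)
    (hbc : (b ∩ c).card = 2) :
    (Bf.filter (fun d => Disjoint b d ∧ Disjoint c d)).card = 4 := by
  have hcT : c ∉ Bf.filter (fun d => Disjoint b d) := by
    intro hh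
    have := (disjoint_iff_card b c).mp (Finset.mem_filter.mp hh).2
    omega
  have h1 := sum_inter h c hc (Bf.filter (fun d => Disjoint b d)) (Finset.filter_subset _ _) hcT
  have hS : ∑ d ∈ Bf.filter (fun d => Disjoint b d), (c ∩ d).card = 24 := by
    rw [double_count]
    have h3 : ∀ x ∈ c, ((Bf.filter (fun d => Disjoint b d)).filter (fun d => x ∈ d)).card =
        if x ∈ b then 0 else 6 := by
      intro x _
      by_cases hxb : x ∈ b
      · rw [if_pos hxb, Finset.card_eq_zero, Finset.filter_filter, Finset.filter_eq_empty_iff]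
        rintro d _ ⟨hd1, hd2⟩
        exact (Finset.disjoint_left.mp hd1 hxb) hd2
      · rw [if_neg hxb, Finset.filter_filter, ← card_disjoint_through h b hb x hxb]
        congr 1
        ext d
        simp only [Finset.mem_filter]
        tauto
    rw [Finset.sum_congr rfl h3, Finset.sum_ite, Finset.sum_const_zero, zero_add,
      Finset.sum_const, smul_eq_mul]
    have h4 : (c.filter (fun x => ¬ x ∈ b)) = c \ b := by
      ext x
      simp [Finset.mem_sdiff]
    have h5 : (c \ b).card = 4 := by
      have := Finset.card_sdiff_add_card_inter c b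
      rw [Finset.inter_comm, hbc, h.card_blk c hc] at this
      omega
    rw [h4, h5]
  rw [hS, card_disjoint h b hb, Finset.filter_filter] at h1
  omega

/-- `λ = 0` -/
theorem card_common_of_disjoint (h : Sys Bf) (b c : Finset α) (hb : b ∈ Bf) (hc : c ∈ Bf)
    (hbc : Disjoint b c) :
    (Bf.filter (fun d => Disjoint b d ∧ Disjoint c d)).card = 0 := by
  have hcT : c ∈ Bf.filter (fun d => Disjoint b d) := Finset.mem_filter.mpr ⟨hc, hbc⟩
  have h1 := sum_inter h c hc ((Bf.filter (fun d => Disjoint b d)).erase c)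
    ((Finset.erase_subset _ _).trans (Finset.filter_subset _ _)) (Finset.notMem_erase c _)
  have hS : ∑ d ∈ (Bf.filter (fun d => Disjoint b d)).erase c, (c ∩ d).card = 30 := by
    rw [double_count]
    have h3 : ∀ x ∈ c,
        (((Bf.filter (fun d => Disjoint b d)).erase c).filter (fun d => x ∈ d)).card = 5 := by
      intro x hx
      have hxb : x ∉ b := fun hxb => (Finset.disjoint_left.mp hbc hxb) hx
      rw [filter_erase_card _ c _ hcT hx, Finset.filter_filter]
      have := card_disjoint_through h b hb x hxb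
      have h4 : Bf.filter (fun a => Disjoint b a ∧ x ∈ a) =
          Bf.filter (fun c => x ∈ c ∧ Disjoint b c) := by
        ext d
        simp only [Finset.mem_filter]
        tauto
      rw [h4, this]
    rw [Finset.sum_congr rfl h3, Finset.sum_const, h.card_blk c hc]
    rfl
  rw [hS, Finset.card_erase_of_mem hcT, card_disjoint h b hb] at h1
  have h2 : ((Bf.filter (fun d => Disjoint b d)).erase c).filter (fun d => Disjoint c d) =
      Bf.filter (fun d => Disjoint b d ∧ Disjoint c d) := by
    ext d
    simp only [Finset.mem_filter, Finset.mem_erase]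
    constructor
    · rintro ⟨⟨_, hd, hd1⟩, hd2⟩
      exact ⟨hd, hd1, hd2⟩
    · rintro ⟨hd, hd1, hd2⟩
      exact ⟨⟨ne_of_disjoint h c d hc hd2, hd, hd1⟩, hd2⟩
  rw [h2] at h1
  omega

omit [Fintype α] in
/-- transfer of a count on the subtype of blocks to a `Finset.filter` count -/
theorem card_transfer (B : Set (Finset α)) [Fintype B] (P : Finset α → Prop) [DecidablePred P]
    (S : Set B) [Fintype S] (hS : ∀ d : B, d ∈ S ↔ P d.1) :
    Fintype.card S = (B.toFinset.filter P).card := by
  rw [← Nat.card_eq_fintype_card, ← Fintype.card_coe (B.toFinset.filter P),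
    ← Nat.card_eq_fintype_card]
  apply Nat.card_congr
  exact
    { toFun := fun d => ⟨d.1.1, Finset.mem_filter.mpr
        ⟨Set.mem_toFinset.mpr d.1.2, (hS d.1).mp d.2⟩⟩
      invFun := fun d => ⟨⟨d.1, Set.mem_toFinset.mp (Finset.mem_filter.mp d.2).1⟩,
        (hS _).mpr (Finset.mem_filter.mp d.2).2⟩
      left_inv := fun d => rfl
      right_inv := fun d => rfl }

end Cfsg.Agent.Lib.Helper5.Steiner22
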