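import Mathlib
import Cfsg.Prelude.Def_Sporadic_a
import Cfsg.Agent.Lib.Helper5.Steiner22

set_option autoImplicit false

namespace Cfsg.Agent.Lib.Helper5.Steiner22Graph

open Finset Cfsg Cfsg.Agent.Lib.Helper5.Steiner22

variable {α : Type*} [Fintype α] [DecidableEq α]

/-- counting a set of vertices of the point-block graph by vertex type -/
theorem card_vertex_set (B : Set (Finset α)) [Fintype B] (S : Set (Option (α ⊕ B))) [Fintype S]
    (e : Prop) [Decidable e] (P : α → Prop) [DecidablePred P] (Q : Finset α → Prop)
    [DecidablePred Q] (h0 : none ∈ S ↔ e) (h1 : ∀ a, some (Sum.inl a) ∈ S ↔ P a)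
    (h2 : ∀ b : B, some (Sum.inr b) ∈ S ↔ Q b.1) :
    Fintype.card S = (if e then 1 else 0) + (Finset.univ.filter P).card +
      (B.toFinset.filter Q).card := by
  classical
  have h3 : Fintype.card S = (Finset.univ.filter (fun d => d ∈ S)).card := by
    rw [← Nat.card_eq_fintype_card, ← Fintype.card_subtype, ← Nat.card_eq_fintype_card]
  rw [h3, Finset.card_filter, Fintype.sum_option, Fintype.sum_sum_type, Finset.card_filter,
    Finset.card_filter, ← Finset.sum_set_coe (s := B) (f := fun b => if Q b then 1 else 0), add_assoc]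
  congr 1
  · simp only [h0]
  · congr 1
    · apply Finset.sum_congr rfl
      intro a _
      simp only [h1]
    · apply Finset.sum_congr rfl
      intro b _
      simp only [h2]

end Cfsg.Agent.Lib.Helper5.Steiner22Graph

namespace Cfsg.Agent.Lib.Helper5.Steiner22Graph

open Finset Cfsg Cfsg.Agent.Lib.Helper5.Steiner22

variable {α : Type*} {B : Set (Finset α)}

theorem adj_iff (u v : Option (α ⊕ B)) :
    (pointBlockGraph B).Adj u v ↔ u ≠ v ∧ (pointBlockRel B u v ∨ pointBlockRel B v u) := by
  unfold pointBlockGraph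
  rw [SimpleGraph.fromRel_adj]

theorem adj_none_none : ¬ (pointBlockGraph B).Adj none none := fun h => h.ne rfl

theorem adj_none_pt (a : α) : (pointBlockGraph B).Adj none (some (Sum.inl a)) := by
  rw [adj_iff]
  exact ⟨by simp, Or.inl trivial⟩

theorem adj_pt_none (a : α) : (pointBlockGraph B).Adj (some (Sum.inl a)) none :=
  (adj_none_pt a).symm

theorem adj_none_blk (b : B) : ¬ (pointBlockGraph B).Adj none (some (Sum.inr b)) := by
  rw [adj_iff]
  rintro ⟨_, h | h⟩ <;> exact h

theorem adj_blk_none (b : B) : ¬ (pointBlockGraph B).Adj (some (Sum.inr b)) none :=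
  fun h => adj_none_blk b h.symm

theorem adj_pt_pt (a a' : α) :
    ¬ (pointBlockGraph B).Adj (some (Sum.inl a)) (some (Sum.inl a')) := by
  rw [adj_iff]
  rintro ⟨_, h | h⟩ <;> exact h

theorem adj_pt_blk (a : α) (b : B) :
    (pointBlockGraph B).Adj (some (Sum.inl a)) (some (Sum.inr b)) ↔ a ∈ b.1 := by
  rw [adj_iff]
  constructor
  · rintro ⟨_, h | h⟩
    · exact h
    · exact absurd h (by intro h'; exact h')
  · intro h
    exact ⟨by simp, Or.inl h⟩

theorem adj_blk_pt (a : α) (b : B) :
    (pointBlockGraph B).Adj (some (Sum.inr b)) (some (Sum.inl a)) ↔ a ∈ b.1 := by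
  rw [SimpleGraph.adj_comm, adj_pt_blk]

theorem adj_blk_blk (b c : B) :
    (pointBlockGraph B).Adj (some (Sum.inr b)) (some (Sum.inr c)) ↔
      b ≠ c ∧ Disjoint b.1 c.1 := by
  rw [adj_iff]
  constructor
  · rintro ⟨hne, h | h⟩
    · exact ⟨fun hh => hne (by rw [hh]), h⟩
    · exact ⟨fun hh => hne (by rw [hh]), h.symm⟩
  · rintro ⟨hne, h⟩
    exact ⟨fun hh => hne (by simpa using hh), Or.inl h⟩

end Cfsg.Agent.Lib.Helper5.Steiner22Graph

namespace Cfsg.Agent.Lib.Helper5.Steiner22Graph

open Finset Cfsg Cfsg.Agent.Lib.Helper5.Steiner22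

variable {α : Type*} [Fintype α] [DecidableEq α] {B : Set (Finset α)} [Fintype B]

theorem adj_blk_blk' (hsys : Sys B.toFinset) (b c : B) :
    (pointBlockGraph B).Adj (some (Sum.inr b)) (some (Sum.inr c)) ↔ Disjoint b.1 c.1 := by
  rw [adj_blk_blk]
  constructor
  · exact fun h => h.2
  · intro h
    refine ⟨?_, h⟩
    intro hbc
    have := ne_of_disjoint hsys b.1 c.1 (Set.mem_toFinset.mpr b.2) h
    exact this (congrArg Subtype.val hbc).symm

theorem srg (hsys : Sys B.toFinset) [DecidableRel (pointBlockGraph B).Adj] :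
    (pointBlockGraph B).IsSRGWith 100 22 0 6 := by
  have hmemB : ∀ b : B, b.1 ∈ B.toFinset := fun b => Set.mem_toFinset.mpr b.2
  have hfalse : ((Finset.univ : Finset α).filter (fun _ => False)).card = 0 := by simp
  have hfalseB : (B.toFinset.filter (fun _ => False)).card = 0 := by simp
  have hmemcard : ∀ b : B, ((Finset.univ : Finset α).filter (fun a => a ∈ b.1)).card = 6 := by
    intro b
    rw [Finset.filter_mem_eq_inter, Finset.univ_inter, hsys.card_blk b.1 (hmemB b)]
  refine ⟨?_, ?_, ?_, ?_⟩
  · rw [Fintype.card_option, Fintype.card_sum, hsys.card_pts, ← Set.toFinset_card,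
      card_blocks hsys]
  · intro v
    rw [← SimpleGraph.card_neighborSet_eq_degree]
    rcases v with _ | a | b
    · rw [card_vertex_set B _ False (fun _ => True) (fun _ => False)
        (by simp [adj_none_none]) (by simp [adj_none_pt]) (by simp [adj_none_blk])]
      simp [hsys.card_pts]
    · rw [card_vertex_set B _ True (fun _ => False) (fun b => a ∈ b)
        (by simp [adj_pt_none]) (by simp [adj_pt_pt]) (by simp [adj_pt_blk])]
      rw [hfalse, mem_count hsys a]
      simp
    · rw [card_vertex_set B _ False (fun a => a ∈ b.1) (fun c => Disjoint b.1 c)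
        (by simp [adj_blk_none]) (by simp [adj_blk_pt]) (by simp [adj_blk_blk' hsys])]
      rw [hmemcard b, card_disjoint hsys b.1 (hmemB b)]
      simp
  · intro v w hvw
    rcases v with _ | a | b <;> rcases w with _ | a' | c
    · exact absurd hvw adj_none_none
    · rw [card_vertex_set B _ False (fun _ => False) (fun _ => False)
        (by simp [SimpleGraph.mem_commonNeighbors, adj_none_none])
        (by simp [SimpleGraph.mem_commonNeighbors, adj_pt_pt])
        (by simp [SimpleGraph.mem_commonNeighbors, adj_none_blk])]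
      simp
    · exact absurd hvw (adj_none_blk c)
    · rw [card_vertex_set B _ False (fun _ => False) (fun _ => False)
        (by simp [SimpleGraph.mem_commonNeighbors, adj_none_none])
        (by simp [SimpleGraph.mem_commonNeighbors, adj_pt_pt])
        (by simp [SimpleGraph.mem_commonNeighbors, adj_none_blk])]
      simp
    · exact absurd hvw (adj_pt_pt a a')
    · have hac : a ∈ c.1 := (adj_pt_blk a c).mp hvw
      rw [card_vertex_set B _ False (fun _ => False) (fun d => a ∈ d ∧ Disjoint c.1 d)
        (by simp [SimpleGraph.mem_commonNeighbors, adj_blk_none])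
        (by simp [SimpleGraph.mem_commonNeighbors, adj_pt_pt])
        (by simp [SimpleGraph.mem_commonNeighbors, adj_pt_blk, adj_blk_blk' hsys])]
      have : B.toFinset.filter (fun d => a ∈ d ∧ Disjoint c.1 d) = ∅ := by
        rw [Finset.filter_eq_empty_iff]
        rintro d _ ⟨h1, h2⟩
        exact (Finset.disjoint_left.mp h2 hac) h1
      rw [this]
      simp
    · exact absurd hvw (adj_blk_none b)
    · have hab : a' ∈ b.1 := (adj_blk_pt a' b).mp hvw
      rw [card_vertex_set B _ False (fun _ => False) (fun d => Disjoint b.1 d ∧ a' ∈ d)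
        (by simp [SimpleGraph.mem_commonNeighbors, adj_blk_none])
        (by simp [SimpleGraph.mem_commonNeighbors, adj_pt_pt])
        (by simp [SimpleGraph.mem_commonNeighbors, adj_pt_blk, adj_blk_blk' hsys])]
      have : B.toFinset.filter (fun d => Disjoint b.1 d ∧ a' ∈ d) = ∅ := by
        rw [Finset.filter_eq_empty_iff]
        rintro d _ ⟨h1, h2⟩
        exact (Finset.disjoint_left.mp h1 hab) h2
      rw [this]
      simp
    · have hbc : Disjoint b.1 c.1 := (adj_blk_blk' hsys b c).mp hvw
      rw [card_vertex_set B _ False (fun a => a ∈ b.1 ∧ a ∈ c.1)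
        (fun d => Disjoint b.1 d ∧ Disjoint c.1 d)
        (by simp [SimpleGraph.mem_commonNeighbors, adj_blk_none])
        (by simp [SimpleGraph.mem_commonNeighbors, adj_blk_pt])
        (by simp [SimpleGraph.mem_commonNeighbors, adj_blk_blk' hsys])]
      have : (Finset.univ : Finset α).filter (fun a => a ∈ b.1 ∧ a ∈ c.1) = ∅ := by
        rw [Finset.filter_eq_empty_iff]
        rintro a _ ⟨h1, h2⟩
        exact (Finset.disjoint_left.mp hbc h1) h2
      rw [this, card_common_of_disjoint hsys b.1 c.1 (hmemB b) (hmemB c) hbc]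
      simp
  · intro v w hne hvw
    rcases v with _ | a | b <;> rcases w with _ | a' | c
    · exact absurd rfl hne
    · exact absurd (adj_none_pt a') hvw
    · rw [card_vertex_set B _ False (fun a => a ∈ c.1) (fun _ => False)
        (by simp [SimpleGraph.mem_commonNeighbors, adj_none_none])
        (by simp [SimpleGraph.mem_commonNeighbors, adj_none_pt, adj_blk_pt])
        (by simp [SimpleGraph.mem_commonNeighbors, adj_none_blk])]
      rw [hmemcard c]
      simp
    · exact absurd (adj_pt_none a) hvw
    · have haa : a ≠ a' := fun h => hne (by rw [h])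
      rw [card_vertex_set B _ True (fun _ => False) (fun d => a ∈ d ∧ a' ∈ d)
        (by simp [SimpleGraph.mem_commonNeighbors, adj_pt_none])
        (by simp [SimpleGraph.mem_commonNeighbors, adj_pt_pt])
        (by simp [SimpleGraph.mem_commonNeighbors, adj_pt_blk])]
      rw [hfalse, pair_count hsys a a' haa]
      simp
    · have hac : a ∉ c.1 := fun h => hvw ((adj_pt_blk a c).mpr h)
      rw [card_vertex_set B _ False (fun _ => False) (fun d => a ∈ d ∧ Disjoint c.1 d)
        (by simp [SimpleGraph.mem_commonNeighbors, adj_blk_none])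
        (by simp [SimpleGraph.mem_commonNeighbors, adj_pt_pt])
        (by simp [SimpleGraph.mem_commonNeighbors, adj_pt_blk, adj_blk_blk' hsys])]
      rw [hfalse, card_disjoint_through hsys c.1 (hmemB c) a hac]
      simp
    · rw [card_vertex_set B _ False (fun a => a ∈ b.1) (fun _ => False)
        (by simp [SimpleGraph.mem_commonNeighbors, adj_none_none])
        (by simp [SimpleGraph.mem_commonNeighbors, adj_none_pt, adj_blk_pt])
        (by simp [SimpleGraph.mem_commonNeighbors, adj_none_blk])]
      rw [hmemcard b]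
      simp
    · have hab : a' ∉ b.1 := fun h => hvw ((adj_blk_pt a' b).mpr h)
      rw [card_vertex_set B _ False (fun _ => False) (fun d => a' ∈ d ∧ Disjoint b.1 d)
        (by simp [SimpleGraph.mem_commonNeighbors, adj_blk_none])
        (by simp [SimpleGraph.mem_commonNeighbors, adj_pt_pt])
        (by simp [SimpleGraph.mem_commonNeighbors, adj_pt_blk, adj_blk_blk' hsys, and_comm])]
      rw [hfalse, card_disjoint_through hsys b.1 (hmemB b) a' hab]
      simp
    · have hbc : b.1 ≠ c.1 := fun h => hne (by rw [Subtype.ext h])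
      have hnd : ¬ Disjoint b.1 c.1 := fun h => hvw ((adj_blk_blk' hsys b c).mpr h)
      have h2 : (b.1 ∩ c.1).card = 2 := by
        rcases inter_zero_or_two hsys b.1 (hmemB b) c.1 (hmemB c) (Ne.symm hbc) with h0 | h2
        · exact absurd ((disjoint_iff_card b.1 c.1).mpr h0) hnd
        · exact h2
      rw [card_vertex_set B _ False (fun a => a ∈ b.1 ∧ a ∈ c.1)
        (fun d => Disjoint b.1 d ∧ Disjoint c.1 d)
        (by simp [SimpleGraph.mem_commonNeighbors, adj_blk_none])
        (by simp [SimpleGraph.mem_commonNeighbors, adj_blk_pt])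
        (by simp [SimpleGraph.mem_commonNeighbors, adj_blk_blk' hsys])]
      have h3 : (Finset.univ : Finset α).filter (fun a => a ∈ b.1 ∧ a ∈ c.1) = b.1 ∩ c.1 := by
        ext a
        simp
      rw [h3, h2, card_common_of_meet hsys b.1 c.1 (hmemB b) (hmemB c) h2]
      simp

end Cfsg.Agent.Lib.Helper5.Steiner22Graph
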