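import Mathlib
import Cfsg.Prelude.Def_ClassicalGeometry
import Cfsg.Agent.Lib.Helper5.AltForm
import Cfsg.Agent.Lib.Helper5.SympBridge

set_option autoImplicit false
open Cfsg

/-! A group acting by isometries on a (possibly degenerate) alternating space of rank `2m` gives a
homomorphism to the symplectic group `Sp_{2m}`, whose kernel acts trivially modulo the radical. -/

namespace Cfsg.Agent.Lib.Helper5.AltRep

open Matrix Module Cfsg.Agent.Lib.Helper5.SympBridge Cfsg.Agent.Lib.Helper5.SympGen

universe u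

section
variable {F : Type*} [Field F] {E : Type u} [AddCommGroup E] [Module F E]
  {m k : ℕ} (b : Basis ((Fin m ⊕ Fin m) ⊕ Fin k) F E)

/-- hyperbolic coordinates -/
noncomputable def hyp : E →ₗ[F] (Fin m ⊕ Fin m → F) :=
  (LinearMap.funLeft F F Sum.inl) ∘ₗ b.equivFun.toLinearMap

theorem hyp_apply (v : E) (i : Fin m ⊕ Fin m) : hyp b v i = b.repr v (Sum.inl i) := rfl

theorem hyp_basis_inl (i : Fin m ⊕ Fin m) : hyp b (b (Sum.inl i)) = Pi.single i 1 := by
  ext j
  rw [hyp_apply, Basis.repr_self, Finsupp.single_apply, Pi.single_apply]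
  by_cases h : i = j
  · subst h; simp
  · rw [if_neg (by simpa using h), if_neg (Ne.symm h)]

theorem hyp_basis_inr (j : Fin k) : hyp b (b (Sum.inr j)) = 0 := by
  ext i
  rw [hyp_apply, Basis.repr_self, Finsupp.single_apply, if_neg (by simp)]
  rfl

/-- section of the hyperbolic coordinates -/
noncomputable def sec : (Fin m ⊕ Fin m → F) →ₗ[F] E :=
  Fintype.linearCombination F (fun i => b (Sum.inl i))

theorem sec_apply (y : Fin m ⊕ Fin m → F) : sec b y = ∑ i, y i • b (Sum.inl i) :=
  Fintype.linearCombination_apply F _ y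

theorem hyp_sec (y : Fin m ⊕ Fin m → F) : hyp b (sec b y) = y := by
  rw [sec_apply, map_sum]
  simp_rw [map_smul, hyp_basis_inl]
  ext j
  simp [Finset.sum_apply, Pi.single_apply]

variable (B : LinearMap.BilinForm F E)
  (h1 : ∀ i j : Fin m, B (b (Sum.inl (Sum.inl i))) (b (Sum.inl (Sum.inr j))) = if i = j then 1 else 0)
  (h2 : ∀ i j : Fin m, B (b (Sum.inl (Sum.inl i))) (b (Sum.inl (Sum.inl j))) = 0)
  (h3 : ∀ i j : Fin m, B (b (Sum.inl (Sum.inr i))) (b (Sum.inl (Sum.inr j))) = 0)
  (h4 : ∀ (j : Fin k) (v : E), B (b (Sum.inr j)) v = 0)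
  (hA : B.IsAlt)

include h1 h2 h3 h4 hA in
theorem form_eq (u v : E) : B u v = - sympForm m F (hyp b u) (hyp b v) := by
  have hanti : ∀ x y, B x y = - B y x := fun x y => by
    have := hA.neg_eq x y
    rw [← this, neg_neg]
  have : B = - (sympBilin F m).compl₁₂ (hyp b) (hyp b) := by
    apply LinearMap.BilinForm.ext_basis b
    intro i j
    simp only [LinearMap.neg_apply, LinearMap.compl₁₂_apply, sympBilin_apply]
    rcases i with i | i
    · rcases j with j | j
      · rw [hyp_basis_inl, hyp_basis_inl]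
        rcases i with i | i <;> rcases j with j | j
        · rw [h2, sympForm_single_inl]; simp
        · rw [h1, sympForm_single_inr]
          by_cases hij : i = j
          · subst hij; simp
          · simp [hij]
        · rw [hanti, h1, sympForm_single_inl]
          by_cases hij : i = j
          · subst hij; simp
          · simp [Ne.symm hij]
        · rw [h3, sympForm_single_inr]; simp
      · rw [hanti, h4, hyp_basis_inr]
        simp [sympForm]
    · rw [h4, hyp_basis_inr]
      simp [sympForm]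
  rw [this]
  rfl

include h1 h2 h3 h4 hA in
theorem radical_of_hyp_eq_zero (v : E) (hv : hyp b v = 0) (w : E) : B v w = 0 := by
  rw [form_eq b B h1 h2 h3 h4 hA, hv]
  simp [sympForm]

include h1 h2 h3 h4 hA in
theorem hyp_eq_zero_of_radical (v : E) (hv : ∀ w, B v w = 0) : hyp b v = 0 := by
  apply eq_zero_of_sympForm_right m
  intro y
  have := hv (sec b y)
  rw [form_eq b B h1 h2 h3 h4 hA, hyp_sec] at this
  rw [← neg_eq_zero]
  exact this

variable {G : Type*} [Group G] (ρ : G →* Module.End F E)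
  (hρ : ∀ g u v, B (ρ g u) (ρ g v) = B u v)

/-- the induced map on hyperbolic coordinates -/
noncomputable def T (g : G) : (Fin m ⊕ Fin m → F) →ₗ[F] (Fin m ⊕ Fin m → F) :=
  hyp b ∘ₗ ρ g ∘ₗ sec b

theorem T_apply (g : G) (y : Fin m ⊕ Fin m → F) : T b ρ g y = hyp b (ρ g (sec b y)) := rfl

include h1 h2 h3 h4 hA hρ in
theorem hyp_rho (g : G) (v : E) : hyp b (ρ g v) = T b ρ g (hyp b v) := by
  rw [T_apply]
  have hr : hyp b (v - sec b (hyp b v)) = 0 := by
    rw [map_sub, hyp_sec, sub_self]
  have hrad := radical_of_hyp_eq_zero b B h1 h2 h3 h4 hA _ hr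
  have h5 : hyp b (ρ g (v - sec b (hyp b v))) = 0 := by
    apply hyp_eq_zero_of_radical b B h1 h2 h3 h4 hA
    intro w
    have hw : w = ρ g (ρ g⁻¹ w) := by
      rw [← Module.End.mul_apply, ← map_mul, mul_inv_cancel, map_one, Module.End.one_apply]
    rw [hw, hρ]
    exact hrad _
  rw [map_sub, map_sub, sub_eq_zero] at h5
  exact h5

include h1 h2 h3 h4 hA hρ in
theorem T_mul (g g' : G) : T b ρ (g * g') = T b ρ g ∘ₗ T b ρ g' := by
  apply LinearMap.ext
  intro y
  rw [LinearMap.comp_apply]
  conv_rhs => rw [T_apply b ρ g']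
  rw [← hyp_rho b B h1 h2 h3 h4 hA ρ hρ, T_apply, map_mul, Module.End.mul_apply]

theorem T_one : T b ρ 1 = LinearMap.id := by
  apply LinearMap.ext
  intro y
  rw [T_apply, map_one, Module.End.one_apply, hyp_sec]
  rfl

include h1 h2 h3 h4 hA hρ in
theorem T_symp (g : G) (x y : Fin m ⊕ Fin m → F) :
    sympForm m F (T b ρ g x) (T b ρ g y) = sympForm m F x y := by
  have e1 := form_eq b B h1 h2 h3 h4 hA (ρ g (sec b x)) (ρ g (sec b y))
  have e2 := form_eq b B h1 h2 h3 h4 hA (sec b x) (sec b y)
  rw [hρ, e2, hyp_sec, hyp_sec] at e1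
  rw [T_apply, T_apply]
  exact (neg_injective e1).symm

include h1 h2 h3 h4 hA hρ in
theorem exists_hom_aux :
    ∃ f : G →* symplecticGroup (Fin m) F, ∀ g, f g = 1 → ∀ v w, B (ρ g v - v) w = 0 := by
  refine ⟨{ toFun := fun g => ⟨LinearMap.toMatrix' (T b ρ g), ?_⟩
            map_one' := ?_
            map_mul' := ?_ }, ?_⟩
  · rw [mem_symplectic_iff]
    intro u v
    rw [LinearMap.toMatrix'_mulVec, LinearMap.toMatrix'_mulVec]
    exact T_symp b B h1 h2 h3 h4 hA ρ hρ g u v
  · apply Subtype.ext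
    show LinearMap.toMatrix' (T b ρ 1) = 1
    rw [T_one, LinearMap.toMatrix'_id]
  · intro g g'
    apply Subtype.ext
    show LinearMap.toMatrix' (T b ρ (g * g')) = LinearMap.toMatrix' (T b ρ g) * LinearMap.toMatrix' (T b ρ g')
    rw [T_mul b B h1 h2 h3 h4 hA ρ hρ, LinearMap.toMatrix'_comp]
  · intro g hg v w
    have h5 : LinearMap.toMatrix' (T b ρ g) = 1 := congrArg Subtype.val hg
    have h6 : T b ρ g = LinearMap.id := by
      apply LinearMap.toMatrix'.injective
      rw [h5, LinearMap.toMatrix'_id]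
    apply radical_of_hyp_eq_zero b B h1 h2 h3 h4 hA
    rw [map_sub, hyp_rho b B h1 h2 h3 h4 hA ρ hρ, h6, LinearMap.id_apply, sub_self]

end

/-- A group acting by isometries on an alternating space whose non-degenerate part has dimension
`2m` maps to `Sp_{2m}`; elements of the kernel act trivially modulo the radical. -/
theorem exists_symplectic_hom {F : Type*} [Field F] {E : Type u} [AddCommGroup E] [Module F E]
    [FiniteDimensional F E] (B : LinearMap.BilinForm F E) (hA : B.IsAlt) (m : ℕ)
    (hdim : finrank F E = 2 * m + finrank F (LinearMap.ker B))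
    {G : Type*} [Group G] (ρ : G →* Module.End F E)
    (hρ : ∀ g u v, B (ρ g u) (ρ g v) = B u v) :
    ∃ f : G →* symplecticGroup (Fin m) F, ∀ g, f g = 1 → ∀ v w, B (ρ g v - v) w = 0 := by
  obtain ⟨m', k, b, h1, h2, h3, h4, h5, h6⟩ := AltForm.exists_darboux_basis B hA
  have : m' = m := by omega
  subst this
  exact exists_hom_aux b B h1 h2 h3 h4 hA ρ hρ

end Cfsg.Agent.Lib.Helper5.AltRep
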