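import Mathlib
import Cfsg.Prelude
import Cfsg.Agent.Lib.Helper5.HermPerp
import Cfsg.Agent.Lib.Helper5.SympFrames

set_option autoImplicit false
set_option linter.unusedSectionVars false
set_option linter.unusedVariables false
open Cfsg

/-! Isotropic frames of the standard hermitian space, their number, and the order of the
stabiliser in `GU` of a totally isotropic subspace. -/

namespace Cfsg.Agent.Lib.Helper5.HermIsoFrames

open Matrix Cfsg.Agent.Lib.Helper5.Herm Cfsg.Agent.Lib.Helper5.HermBridge
  Cfsg.Agent.Lib.Helper5.HermEich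
  Cfsg.Agent.Lib.Helper5.SUSingularMax Cfsg.Agent.Lib.Helper5.HermPair
  Cfsg.Agent.Lib.Helper5.HermCount Cfsg.Agent.Lib.Helper5.HermPerp

section defs
variable {F : Type*} [Field F] [Fintype F] {q : ℕ} (hF : Fintype.card F = q ^ 2) (n : ℕ)

/-- an isotropic frame: linearly independent, pairwise orthogonal isotropic vectors -/
def IsIso (q n : ℕ) {k : ℕ} (s : Fin k → (Fin n → F)) : Prop :=
  LinearIndependent F s ∧ ∀ i j, hermForm n F q (s i) (s j) = 0

include hF in
theorem isIso_cons {k : ℕ} (v : Fin n → F) (s : Fin k → (Fin n → F)) :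
    IsIso q n (Fin.cons v s : Fin (k + 1) → (Fin n → F)) ↔
      IsIso q n s ∧ (v ∉ Submodule.span F (Set.range s) ∧ (∀ i, hermForm n F q (s i) v = 0) ∧
        hermForm n F q v v = 0) := by
  unfold IsIso
  rw [linearIndependent_finCons]
  constructor
  · rintro ⟨⟨h1, h2⟩, h3⟩
    refine ⟨⟨h1, fun i j => ?_⟩, h2, fun i => ?_, ?_⟩
    · simpa using h3 i.succ j.succ
    · simpa using h3 i.succ 0
    · simpa using h3 0 0
  · rintro ⟨⟨h1, h3⟩, h2, h4, h5⟩
    refine ⟨⟨h1, h2⟩, fun i j => ?_⟩
    refine Fin.cases ?_ (fun a => ?_) i <;> refine Fin.cases ?_ (fun b => ?_) j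
    · simp only [Fin.cons_zero]
      exact h5
    · simp only [Fin.cons_zero, Fin.cons_succ]
      exact herm_symm_zero hF n (h4 b)
    · simp only [Fin.cons_zero, Fin.cons_succ]
      exact h4 a
    · simp only [Fin.cons_succ]
      exact h3 a b

include hF in
/-- peeling off the first vector of an isotropic frame -/
def isoEquiv (k : ℕ) :
    {s : Fin (k + 1) → (Fin n → F) // IsIso q n s} ≃
      Σ s : {s : Fin k → (Fin n → F) // IsIso q n s},
        {v : Fin n → F // v ∉ Submodule.span F (Set.range s.1) ∧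
          (∀ i, hermForm n F q (s.1 i) v = 0) ∧ hermForm n F q v v = 0} where
  toFun s := ⟨⟨Fin.tail s.1, by
      have := s.2
      rw [← Fin.cons_self_tail s.1, isIso_cons hF] at this
      exact this.1⟩, ⟨s.1 0, by
      have := s.2
      rw [← Fin.cons_self_tail s.1, isIso_cons hF] at this
      exact this.2⟩⟩
  invFun p := ⟨Fin.cons p.2.1 p.1.1, (isIso_cons hF n _ _).mpr ⟨p.1.2, p.2.2⟩⟩
  left_inv s := by
    apply Subtype.ext
    simp
  right_inv p := by
    obtain ⟨⟨s, hs⟩, ⟨v, hv⟩⟩ := p
    refine Sigma.ext (Subtype.ext ?_) ?_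
    · simp
    · apply (Subtype.heq_iff_coe_eq ?_).mpr
      · simp
      · intro x
        simp
end defs

section count
variable {F : Type*} [Field F] [Fintype F] {q : ℕ} (hF : Fintype.card F = q ^ 2) (n : ℕ)

theorem mem_perpS_span {k : ℕ} (s : Fin k → (Fin n → F)) (v : Fin n → F) :
    v ∈ perpS hF (Submodule.span F (Set.range s)) ↔ ∀ i, hermForm n F q (s i) v = 0 := by
  rw [mem_perpS]
  constructor
  · intro h i
    exact h (s i) (Submodule.subset_span ⟨i, rfl⟩)
  · intro h w hw
    induction hw using Submodule.span_induction with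
    | mem x hx =>
      obtain ⟨i, rfl⟩ := hx
      exact h i
    | zero => exact hermForm_zero_left n q _
    | add x y _ _ hx hy => rw [hermForm_add_left, hx, hy, add_zero]
    | smul a x _ hx => rw [hermForm_smul_left, hx, mul_zero]

include hF in
theorem card_fiber' {k : ℕ} (s : Fin k → (Fin n → F)) (hs : IsIso q n s) :
    Nat.card {v : Fin n → F // v ∉ Submodule.span F (Set.range s) ∧
      (∀ i, hermForm n F q (s i) v = 0) ∧ hermForm n F q v v = 0} =
      (q ^ 2) ^ k * A F q (n - 2 * k) 0 - (q ^ 2) ^ k := by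
  classical
  set U := Submodule.span F (Set.range s) with hU
  have hUti : ∀ u ∈ U, ∀ v ∈ U, hermForm n F q u v = 0 :=
    HermFrames.span_isotropic hF n s hs.2
  have hfU : Module.finrank F U = k := by
    rw [hU, finrank_span_eq_card hs.1, Fintype.card_fin]
  have hcU : Nat.card U = (q ^ 2) ^ k := by
    rw [Module.natCard_eq_pow_finrank (K := F) (V := U), hfU, Nat.card_eq_fintype_card, hF]
  have hsub : (U : Set (Fin n → F)) ⊆
      {v : Fin n → F | v ∈ perpS hF U ∧ hermForm n F q v v = 0} := by
    intro u hu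
    refine ⟨?_, hUti u hu u hu⟩
    rw [mem_perpS]
    intro w hw
    exact hUti w hw u hu
  have hset : {v : Fin n → F | v ∉ U ∧ (∀ i, hermForm n F q (s i) v = 0) ∧
      hermForm n F q v v = 0} =
      {v : Fin n → F | v ∈ perpS hF U ∧ hermForm n F q v v = 0} \ (U : Set (Fin n → F)) := by
    ext v
    simp only [Set.mem_ofPred_eq, Set.mem_sdiff, SetLike.mem_coe]
    rw [hU, mem_perpS_span]
    tauto
  have h1 : Nat.card {v : Fin n → F // v ∉ U ∧ (∀ i, hermForm n F q (s i) v = 0) ∧
      hermForm n F q v v = 0} =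
      ({v : Fin n → F | v ∉ U ∧ (∀ i, hermForm n F q (s i) v = 0) ∧
        hermForm n F q v v = 0}).ncard := rfl
  rw [h1, hset, Set.ncard_sdiff hsub]
  have h2 : ({v : Fin n → F | v ∈ perpS hF U ∧ hermForm n F q v v = 0}).ncard =
      Nat.card {v : Fin n → F // v ∈ perpS hF U ∧ hermForm n F q v v = 0} := rfl
  have h3 : (U : Set (Fin n → F)).ncard = Nat.card U := rfl
  rw [h2, h3, card_iso_perp hF U hUti, hfU, hcU]

/-- the fibre size in step `i` of the frame count -/
noncomputable def fib (F : Type*) [Field F] (q n i : ℕ) : ℕ := (q ^ 2) ^ i * A F q (n - 2 * i) 0 - (q ^ 2) ^ i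

include hF in
theorem card_isoFrame (k : ℕ) :
    Nat.card {s : Fin k → (Fin n → F) // IsIso q n s} =
      ∏ i ∈ Finset.range k, fib F q n i := by
  induction k with
  | zero =>
    rw [Finset.range_zero, Finset.prod_empty]
    have : Unique {s : Fin 0 → (Fin n → F) // IsIso q n s} :=
      { default := ⟨fun i => i.elim0, linearIndependent_empty_type, fun i => i.elim0⟩
        uniq := fun s => Subtype.ext (funext fun i => i.elim0) }
    exact Nat.card_unique
  | succ k ih =>
    have : Fintype {s : Fin k → (Fin n → F) // IsIso q n s} := Fintype.ofFinite _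
    rw [Nat.card_congr (isoEquiv hF n k), Nat.card_sigma]
    have : ∀ s : {s : Fin k → (Fin n → F) // IsIso q n s},
        Nat.card {v : Fin n → F // v ∉ Submodule.span F (Set.range s.1) ∧
          (∀ i, hermForm n F q (s.1 i) v = 0) ∧ hermForm n F q v v = 0} =
          fib F q n k := fun s => card_fiber' hF n s.1 s.2
    simp only [this]
    rw [Finset.sum_const, Finset.card_univ, smul_eq_mul, Finset.prod_range_succ, ← ih,
      Nat.card_eq_fintype_card]

end count

section action
variable {F : Type*} [Field F] [Fintype F] {q : ℕ} (hF : Fintype.card F = q ^ 2) (n k : ℕ)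

/-- the matrix of an element of `GU` -/
def guToMat (n : ℕ) (F : Type*) [Field F] (q : ℕ) :
    ↥(Cfsg.GU n F q) →* Matrix (Fin n) (Fin n) F :=
  (Units.coeHom (Matrix (Fin n) (Fin n) F)).comp (Cfsg.GU n F q).subtype

theorem guToMat_apply (g : ↥(Cfsg.GU n F q)) :
    guToMat n F q g = ((g : Matrix.GeneralLinearGroup (Fin n) F) : Matrix (Fin n) (Fin n) F) := rfl

theorem smul_apply (g : ↥(Cfsg.GU n F q)) (s : Fin k → (Fin n → F)) (i : Fin k) :
    (g • s) i = guToMat n F q g *ᵥ s i := rfl

/-- a unitary matrix as a linear equivalence -/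
noncomputable def linEquiv (g : ↥(Cfsg.GU n F q)) : (Fin n → F) ≃ₗ[F] (Fin n → F) :=
  Matrix.toLin'OfInv (M := guToMat n F q g⁻¹) (M' := guToMat n F q g)
    (by rw [← map_mul, inv_mul_cancel, map_one])
    (by rw [← map_mul, mul_inv_cancel, map_one])

theorem linEquiv_apply (g : ↥(Cfsg.GU n F q)) (v : Fin n → F) :
    linEquiv n g v = guToMat n F q g *ᵥ v := by
  unfold linEquiv
  simp [Matrix.toLin'OfInv, Matrix.toLin'_apply]

theorem smul_eq_comp (g : ↥(Cfsg.GU n F q)) (s : Fin k → (Fin n → F)) :
    g • s = (linEquiv n g) ∘ s := by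
  funext i
  rw [smul_apply, Function.comp_apply, linEquiv_apply]

theorem hermForm_guToMat (g : ↥(Cfsg.GU n F q)) (u v : Fin n → F) :
    hermForm n F q (guToMat n F q g *ᵥ u) (guToMat n F q g *ᵥ v) = hermForm n F q u v := g.2 u v

theorem isIso_smul (g : ↥(Cfsg.GU n F q)) (s : Fin k → (Fin n → F))
    (hs : IsIso q n s) : IsIso q n (g • s) := by
  constructor
  · rw [smul_eq_comp]
    exact hs.1.map' (linEquiv n g).toLinearMap (linEquiv n g).ker
  · intro i j
    rw [smul_apply, smul_apply, hermForm_guToMat]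
    exact hs.2 i j

include hF in
theorem exists_smul_eq (s t : Fin k → (Fin n → F)) (hs : IsIso q n s) (ht : IsIso q n t) :
    ∃ g : ↥(Cfsg.GU n F q), g • s = t := by
  obtain ⟨g, hg, hgs⟩ := HermWitt.witt_family (B := hermSesq hF n) (sigma_ne_id hF)
    (sigma_sigma hF) (hermSesq_nondegenerate hF n) (hermSesq_isSymm hF n) k s t hs.1 ht.1
    (fun i j => by rw [hermSesq_apply, hermSesq_apply, hs.2, ht.2])
  obtain ⟨A, hA⟩ := exists_GU_of_isometry n g (fun u w => by
    have := hg w u
    rw [hermSesq_apply, hermSesq_apply] at this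
    exact this)
  refine ⟨A, ?_⟩
  funext i
  rw [smul_apply, guToMat_apply, hA, hgs]

include hF in
theorem orbit_eq_isIso (s : Fin k → (Fin n → F)) (hs : IsIso q n s) :
    MulAction.orbit ↥(Cfsg.GU n F q) s = {t | IsIso q n t} := by
  ext t
  constructor
  · rintro ⟨g, rfl⟩
    exact isIso_smul n k g s hs
  · intro ht
    obtain ⟨g, hg⟩ := exists_smul_eq hF n k s t hs ht
    exact ⟨g, hg⟩

include hF in
/-- `|GU| = N_k * |pointwise stabiliser of an isotropic k-frame|` -/
theorem card_eq_mul_card_stabilizer (s : Fin k → (Fin n → F)) (hs : IsIso q n s) :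
    Nat.card ↥(Cfsg.GU n F q) =
      (∏ i ∈ Finset.range k, fib F q n i) *
        Nat.card (MulAction.stabilizer ↥(Cfsg.GU n F q) s) := by
  rw [SympFrames.card_group_eq (G := ↥(Cfsg.GU n F q)) s, orbit_eq_isIso hF n k s hs,
    ← card_isoFrame hF n k]
  rfl

/-- membership in `stabilizing` from `map = self` -/
theorem mem_stabilizing_of_map_eq (g : ↥(Cfsg.GU n F q))
    (W : Submodule F (Fin n → F))
    (h : W.map (linEquiv n g).toLinearMap = W) :
    g ∈ Cfsg.stabilizing (guToMat n F q) (W : Set (Fin n → F)) := by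
  intro v
  show v ∈ W ↔ guToMat n F q g *ᵥ v ∈ W
  rw [← linEquiv_apply]
  constructor
  · intro hv
    rw [← h]
    exact Submodule.mem_map_of_mem hv
  · intro hv
    rw [← h] at hv
    obtain ⟨w, hw, hwv⟩ := hv
    have : w = v := (linEquiv n g).injective hwv
    rw [← this]
    exact hw

end action

section parabolic
variable {F : Type*} [Field F] [Fintype F] {q : ℕ} (hF : Fintype.card F = q ^ 2) (n k : ℕ)

theorem map_span_range (g : ↥(Cfsg.GU n F q)) (s : Fin k → (Fin n → F)) :
    (Submodule.span F (Set.range s)).map (linEquiv n g).toLinearMap =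
      Submodule.span F (Set.range (g • s)) := by
  rw [Submodule.map_span, smul_eq_comp, Set.range_comp]
  rfl

include hF in
/-- the orbit of a basis of `W` under the stabiliser of `W` consists of all bases of `W` -/
theorem orbit_stab_eq (W : Submodule F (Fin n → F)) (hWk : Module.finrank F W = k)
    (hW : ∀ u ∈ W, ∀ v ∈ W, hermForm n F q u v = 0)
    (s : Fin k → (Fin n → F)) (hs : LinearIndependent F s)
    (hsW : Submodule.span F (Set.range s) = W) :
    MulAction.orbit ↥(Cfsg.stabilizing (guToMat n F q) (W : Set (Fin n → F))) s =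
      {t | LinearIndependent F t ∧ ∀ i, t i ∈ W} := by
  have hsmem : ∀ i, s i ∈ W := fun i => by
    rw [← hsW]; exact Submodule.subset_span ⟨i, rfl⟩
  have hsI : IsIso q n s := ⟨hs, fun i j => hW _ (hsmem i) _ (hsmem j)⟩
  ext t
  constructor
  · rintro ⟨p, rfl⟩
    show (p.1 : ↥(Cfsg.GU n F q)) • s ∈ _
    refine ⟨(isIso_smul n k p.1 s hsI).1, fun i => ?_⟩
    rw [smul_apply]
    exact (p.2 (s i)).mp (hsmem i)
  · rintro ⟨ht, htW⟩
    have htI : IsIso q n t := ⟨ht, fun i j => hW _ (htW i) _ (htW j)⟩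
    obtain ⟨g, hg⟩ := exists_smul_eq hF n k s t hsI htI
    have hspan : Submodule.span F (Set.range t) = W := by
      apply Submodule.eq_of_le_of_finrank_eq
      · rw [Submodule.span_le]
        rintro _ ⟨i, rfl⟩
        exact htW i
      · rw [finrank_span_eq_card ht, Fintype.card_fin, hWk]
    have hgP : g ∈ Cfsg.stabilizing (guToMat n F q) (W : Set (Fin n → F)) := by
      apply mem_stabilizing_of_map_eq
      conv_lhs => rw [← hsW]
      rw [map_span_range, hg, hspan]
    exact ⟨⟨g, hgP⟩, hg⟩

theorem stabilizer_le_stab (W : Submodule F (Fin n → F))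
    (s : Fin k → (Fin n → F))
    (hsW : Submodule.span F (Set.range s) = W) :
    MulAction.stabilizer ↥(Cfsg.GU n F q) s ≤
      Cfsg.stabilizing (guToMat n F q) (W : Set (Fin n → F)) := by
  intro g hg
  rw [MulAction.mem_stabilizer_iff] at hg
  apply mem_stabilizing_of_map_eq
  conv_lhs => rw [← hsW]
  rw [map_span_range, hg, hsW]

include hF in
/-- `|Stab(W)| * N_k = |GL_k(q²)| * |GU_n|` for a totally isotropic `k`-subspace `W` -/
theorem card_stab_mul (W : Submodule F (Fin n → F))
    (hWk : Module.finrank F W = k) (hW : ∀ u ∈ W, ∀ v ∈ W, hermForm n F q u v = 0) :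
    Nat.card ↥(Cfsg.stabilizing (guToMat n F q) (W : Set (Fin n → F))) *
      (∏ i ∈ Finset.range k, fib F q n i) =
      (∏ i : Fin k, ((q ^ 2) ^ k - (q ^ 2) ^ (i : ℕ))) *
        Nat.card ↥(Cfsg.GU n F q) := by
  let b := Module.finBasisOfFinrankEq F W hWk
  set s : Fin k → (Fin n → F) := fun i => (b i : Fin n → F) with hs_def
  have hs : LinearIndependent F s := b.linearIndependent.map' W.subtype (Submodule.ker_subtype W)
  have hsW : Submodule.span F (Set.range s) = W := by
    have h1 : Set.range s = W.subtype '' (Set.range b) := by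
      rw [← Set.range_comp]; rfl
    rw [h1, ← Submodule.map_span, b.span_eq, Submodule.map_subtype_top]
  have hsmem : ∀ i, s i ∈ W := fun i => (b i).2
  have hsI : IsIso q n s := ⟨hs, fun i j => hW _ (hsmem i) _ (hsmem j)⟩
  rw [SympFrames.card_subgroup_eq _ s (stabilizer_le_stab n k W s hsW),
    orbit_stab_eq hF n k W hWk hW s hs hsW, card_eq_mul_card_stabilizer hF n k s hsI]
  have hcard : Nat.card ↥{t : Fin k → (Fin n → F) | LinearIndependent F t ∧ ∀ i, t i ∈ W} =
      ∏ i : Fin k, ((q ^ 2) ^ k - (q ^ 2) ^ (i : ℕ)) := by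
    have h2 := card_linearIndependent (K := F) (V := W) (k := k) (by rw [hWk])
    rw [hWk, hF] at h2
    rw [← h2]
    apply Nat.card_congr
    exact
      { toFun := fun t => ⟨fun i => ⟨t.1 i, t.2.2 i⟩, by
          apply LinearIndependent.of_comp W.subtype
          exact t.2.1⟩
        invFun := fun t => ⟨fun i => (t.1 i : Fin n → F),
          t.2.map' W.subtype (Submodule.ker_subtype W), fun i => (t.1 i).2⟩
        left_inv := fun t => rfl
        right_inv := fun t => rfl }
  rw [hcard]
  ring

end parabolic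

end Cfsg.Agent.Lib.Helper5.HermIsoFrames
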