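import Mathlib
import Cfsg.Prelude
import Cfsg.Agent.Lib.Helper5.HermIsoFrames
import Cfsg.Agent.Lib.Helper5.HermCard

set_option autoImplicit false
set_option linter.unusedSectionVars false
set_option linter.unusedVariables false
open Cfsg

/-! The determinant is onto the norm-one group on the stabiliser in `GU` of a totally isotropic
subspace; comparison with the stabiliser in `SU`. -/

namespace Cfsg.Agent.Lib.Helper5.HermParabolicDet

open Matrix Cfsg.Agent.Lib.Helper5.Herm Cfsg.Agent.Lib.Helper5.HermBridge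
  Cfsg.Agent.Lib.Helper5.HermEich
  Cfsg.Agent.Lib.Helper5.SUSingularMax Cfsg.Agent.Lib.Helper5.HermPair
  Cfsg.Agent.Lib.Helper5.HermCount Cfsg.Agent.Lib.Helper5.HermPerp
  Cfsg.Agent.Lib.Helper5.HermIsoFrames Cfsg.Agent.Lib.Helper5.HermCard

section hilbert
variable {F : Type*} [Field F] [Fintype F] {q : ℕ} (hF : Fintype.card F = q ^ 2)

include hF in
/-- Hilbert 90 for the norm-one group -/
theorem exists_div_pow_eq (l : F) (hl : l * l ^ q = 1) : ∃ μ : F, μ ≠ 0 ∧ l * μ ^ q = μ := by
  have key : ∀ θ : F, l * (θ + l * θ ^ q) ^ q = θ + l * θ ^ q := by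
    intro θ
    rw [pow_q_add hF, mul_pow, pow_q_pow_q hF]
    linear_combination θ * hl
  by_cases h1 : (1 : F) + l = 0
  · obtain ⟨t, ht⟩ := exists_not_fixed hF
    refine ⟨t + l * t ^ q, ?_, key t⟩
    have hl' : l = -1 := by linear_combination h1
    rw [hl']
    intro h
    apply ht
    linear_combination -h
  · refine ⟨1 + l * 1 ^ q, ?_, key 1⟩
    rw [one_pow, mul_one]
    exact h1

end hilbert

section rank1
variable {F : Type*} [Field F] (n q : ℕ)

/-- the matrix of `x ↦ x + c h(x, b) a` -/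
def rk1 (a b : Fin n → F) (c : F) : Matrix (Fin n) (Fin n) F :=
  1 + c • Matrix.vecMulVec a (fun j => (b j) ^ q)

theorem rk1_mulVec (a b : Fin n → F) (c : F) (x : Fin n → F) :
    rk1 n q a b c *ᵥ x = x + (c * hermForm n F q x b) • a := by
  unfold rk1 hermForm
  rw [add_mulVec, one_mulVec, smul_mulVec, vecMulVec_mulVec]
  ext i
  simp only [dotProduct, Pi.add_apply, Pi.smul_apply, smul_eq_mul, MulOpposite.smul_eq_mul_unop,
    MulOpposite.unop_op]
  congr 1
  rw [mul_comm (a i), ← mul_assoc]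
  congr 2
  exact Finset.sum_congr rfl fun j _ => mul_comm _ _

theorem det_rk1 (a b : Fin n → F) (c : F) :
    (rk1 n q a b c).det = 1 + c * hermForm n F q a b := by
  unfold rk1
  rw [← smul_vecMulVec, vecMulVec_eq Unit, det_one_add_replicateCol_mul_replicateRow]
  congr 1
  unfold hermForm
  rw [dotProduct]
  rw [Finset.mul_sum]
  apply Finset.sum_congr rfl
  intro i _
  simp only [Pi.smul_apply, smul_eq_mul]
  ring

/-- the matrix of `x ↦ x + (μ - 1) h(x, w') w + (ν - 1) h(x, w) w'` -/
def hyp (w w' : Fin n → F) (μ ν : F) : Matrix (Fin n) (Fin n) F :=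
  rk1 n q w w' (μ - 1) * rk1 n q w' w (ν - 1)

theorem det_hyp (w w' : Fin n → F) (μ ν : F) (h1 : hermForm n F q w w' = 1)
    (h2 : hermForm n F q w' w = 1) : (hyp n q w w' μ ν).det = μ * ν := by
  unfold hyp
  rw [det_mul, det_rk1, det_rk1, h1, h2]
  ring

theorem hyp_mulVec (w w' : Fin n → F) (μ ν : F) (h0 : hermForm n F q w' w' = 0)
    (x : Fin n → F) :
    hyp n q w w' μ ν *ᵥ x =
      x + ((μ - 1) * hermForm n F q x w') • w + ((ν - 1) * hermForm n F q x w) • w' := by
  unfold hyp
  rw [← mulVec_mulVec, rk1_mulVec, rk1_mulVec, hermForm_add_left, hermForm_smul_left, h0,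
    mul_zero, add_zero]
  abel

end rank1

section iso
variable {F : Type*} [Field F] [Fintype F] {q : ℕ} (hF : Fintype.card F = q ^ 2) (n : ℕ)

include hF in
theorem hyp_isometry (w w' : Fin n → F) (μ ν : F)
    (hw : hermForm n F q w w = 0) (hw' : hermForm n F q w' w' = 0)
    (h1 : hermForm n F q w w' = 1) (e1 : μ * ν ^ q = 1) (x y : Fin n → F) :
    hermForm n F q (hyp n q w w' μ ν *ᵥ x) (hyp n q w w' μ ν *ᵥ y) = hermForm n F q x y := by
  have h2 : hermForm n F q w' w = 1 := by rw [← hermForm_conj hF, h1, one_pow]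
  have e2 : ν * μ ^ q = 1 := by
    have := congrArg (· ^ q) e1
    simp only [mul_pow, pow_q_pow_q hF, one_pow] at this
    rw [mul_comm]; exact this
  rw [hyp_mulVec n q w w' μ ν hw', hyp_mulVec n q w w' μ ν hw']
  have hwy : hermForm n F q w y = (hermForm n F q y w) ^ q := (hermForm_conj hF n y w).symm
  have hw'y : hermForm n F q w' y = (hermForm n F q y w') ^ q := (hermForm_conj hF n y w').symm
  simp only [hermForm_add_left, hermForm_add_right hF, hermForm_smul_left, hermForm_smul_right,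
    hw, hw', h1, h2, hwy, hw'y, mul_pow, pow_q_sub hF, one_pow]
  linear_combination (hermForm n F q x w' * (hermForm n F q y w) ^ q) * e1 +
    (hermForm n F q x w * (hermForm n F q y w') ^ q) * e2

end iso

section main
variable {F : Type*} [Field F] [Fintype F] {q : ℕ} (hF : Fintype.card F = q ^ 2) (n : ℕ)

include hF in
theorem orthoPair_top : OrthoPair q (⊤ : Submodule F (Fin n → F)) ⊥ where
  orth := fun a _ b hb => by
    rw [(Submodule.mem_bot F).mp hb]
    exact hermForm_zero_right hF n a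
  decomp := fun x => ⟨x, trivial, 0, Submodule.zero_mem _, add_zero x⟩

include hF in
/-- the determinant maps the stabiliser of a totally isotropic subspace onto the norm-one group -/
theorem exists_det_eq (hn : 1 ≤ n) (W : Submodule F (Fin n → F))
    (hW : ∀ u ∈ W, ∀ v ∈ W, hermForm n F q u v = 0) (x : Fˣ) (hx : x ∈ (normHom F q).ker) :
    ∃ g : ↥(Cfsg.GU n F q), g ∈ Cfsg.stabilizing (guToMat n F q) (W : Set (Fin n → F)) ∧
      detGU F q n g = x := by
  by_cases hW0 : W = ⊥
  · obtain ⟨g, hg⟩ := exists_detGU_eq hF hn x hx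
    refine ⟨g, ?_, hg⟩
    apply mem_stabilizing_of_map_eq
    rw [hW0, Submodule.map_bot]
  · obtain ⟨w, hwW, hw0⟩ := Submodule.exists_mem_ne_zero_of_ne_bot hW0
    have hww : hermForm n F q w w = 0 := hW w hwW w hwW
    obtain ⟨w', -, hw'w', hww'⟩ := (orthoPair_top hF n).exists_partner hF w trivial hw0 hww
    have hw'w : hermForm n F q w' w = 1 := by rw [← hermForm_conj hF, hww', one_pow]
    have hx' : (x : F) * (x : F) ^ q = 1 := by
      rw [MonoidHom.mem_ker] at hx
      have h3 : x ^ (q + 1) = 1 := hx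
      have h2 : ((x ^ (q + 1) : Fˣ) : F) = 1 := by rw [h3]; rfl
      rw [Units.val_pow_eq_pow_val, pow_succ'] at h2
      exact h2
    obtain ⟨μ, hμ0, hμ⟩ := exists_div_pow_eq hF (x : F) hx'
    have hμq : μ ^ q ≠ 0 := pow_ne_zero _ hμ0
    obtain ⟨ν, hν⟩ : ∃ ν : F, ν = (μ ^ q)⁻¹ := ⟨_, rfl⟩
    have e1 : μ * ν ^ q = 1 := by
      rw [hν, inv_pow, pow_q_pow_q hF, mul_inv_cancel₀ hμ0]
    have hdet : (hyp n q w w' μ ν).det = (x : F) := by
      rw [det_hyp n q w w' μ ν hww' hw'w, hν]
      field_simp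
      rw [mul_comm]; exact hμ.symm
    have hdet0 : (hyp n q w w' μ ν).det ≠ 0 := by
      rw [hdet]; exact x.ne_zero
    let g : Matrix.GeneralLinearGroup (Fin n) F := Matrix.GeneralLinearGroup.mkOfDetNeZero _ hdet0
    have hg : g ∈ Cfsg.GU n F q := fun u v => hyp_isometry hF n w w' μ ν hww hw'w' hww' e1 u v
    refine ⟨⟨g, hg⟩, ?_, ?_⟩
    · apply mem_stabilizing_of_map_eq
      have hle : W.map (linEquiv n ⟨g, hg⟩).toLinearMap ≤ W := by
        rintro _ ⟨y, hy, rfl⟩
        show linEquiv n ⟨g, hg⟩ y ∈ W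
        rw [linEquiv_apply]
        show hyp n q w w' μ ν *ᵥ y ∈ W
        rw [hyp_mulVec n q w w' μ ν hw'w', hW y hy w hwW, mul_zero, zero_smul, add_zero]
        exact W.add_mem hy (W.smul_mem _ hwW)
      exact Submodule.eq_of_le_of_finrank_eq hle (LinearEquiv.finrank_map_eq _ W)
    · apply Units.ext
      rw [detGU_val]
      exact hdet

end main

section bridge
variable {F : Type*} [Field F] [Fintype F] {q : ℕ} (hF : Fintype.card F = q ^ 2) (n : ℕ)

/-- the determinant on the stabiliser of a subspace in `GU` -/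
noncomputable def detP (q : ℕ) (W : Submodule F (Fin n → F)) :
    ↥(Cfsg.stabilizing (guToMat n F q) (W : Set (Fin n → F))) →* Fˣ :=
  (detGU F q n).comp (Subgroup.subtype _)

include hF in
theorem range_detP (hn : 1 ≤ n) (W : Submodule F (Fin n → F))
    (hW : ∀ u ∈ W, ∀ v ∈ W, hermForm n F q u v = 0) :
    (detP n q W).range = (normHom F q).ker := by
  ext x
  constructor
  · rintro ⟨g, rfl⟩
    exact detGU_mem_ker hF g.1
  · intro hx
    obtain ⟨g, hg, hgx⟩ := exists_det_eq hF n hn W hW x hx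
    exact ⟨⟨g, hg⟩, hgx⟩

/-- the kernel of the determinant on the stabiliser in `GU` is the stabiliser in `SU` -/
noncomputable def kerEquiv (W : Submodule F (Fin n → F)) :
    ↥(detP n q W).ker ≃
      ↥((Cfsg.stabilizing (Cfsg.slToMat n F) (W : Set (Fin n → F))).subgroupOf
        (Cfsg.SU n F q)) where
  toFun g := ⟨⟨⟨((g.1.1 : Matrix.GeneralLinearGroup (Fin n) F) : Matrix (Fin n) (Fin n) F), by
      have := g.2
      rw [MonoidHom.mem_ker] at this
      have h2 := congrArg Units.val this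
      exact h2⟩, fun u v => g.1.1.2 u v⟩, fun v => g.1.2 v⟩
  invFun A := ⟨⟨⟨Matrix.SpecialLinearGroup.toGL A.1.1, fun u v => A.1.2 u v⟩, fun v => A.2 v⟩, by
      rw [MonoidHom.mem_ker]
      apply Units.ext
      exact A.1.1.2⟩
  left_inv g := by
    apply Subtype.ext
    apply Subtype.ext
    apply Subtype.ext
    apply Units.ext
    rfl
  right_inv A := by
    apply Subtype.ext
    apply Subtype.ext
    apply Subtype.ext
    rfl

include hF in
theorem card_stab_SU (hn : 1 ≤ n) (W : Submodule F (Fin n → F))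
    (hW : ∀ u ∈ W, ∀ v ∈ W, hermForm n F q u v = 0) :
    (q + 1) * Nat.card ↥((Cfsg.stabilizing (Cfsg.slToMat n F) (W : Set (Fin n → F))).subgroupOf
        (Cfsg.SU n F q)) =
      Nat.card ↥(Cfsg.stabilizing (guToMat n F q) (W : Set (Fin n → F))) := by
  rw [← Subgroup.card_mul_index (detP n q W).ker, Subgroup.index_ker, range_detP hF n hn W hW,
    card_ker hF, Nat.card_congr (kerEquiv n W), mul_comm]

end bridge

end Cfsg.Agent.Lib.Helper5.HermParabolicDet
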