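import Mathlib
import Cfsg.Agent.Lib.Helper3.QuatLift

set_option autoImplicit false

/-! A group of order 72 with suitable generators and relations is `3² : Q₈`. -/

namespace Cfsg.Agent.Lib.Helper5.Ext9Q8

open Cfsg.Agent.Lib.Helper3

section
variable {G : Type*} [Group G]

/-- the relations -/
structure Rel (c d a x w : G) : Prop where
  hc : c ^ 3 = 1
  hd : d ^ 3 = 1
  hcd : c * d = d * c
  hac : a * c = d * d * a
  had : a * d = c * a
  ha4 : a ^ 4 = 1
  ha2 : a ^ 2 ≠ 1
  hxx : x * x = d * d * a * a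
  hxa : x * a = w * x
  hwa : w * a = c
  hc1 : c ≠ 1
  hcd1 : c ≠ d
  hcd2 : c ≠ d * d
  hd1 : d ≠ 1

/-- the normal subgroup -/
def NN (c d : G) : Subgroup G := Subgroup.closure {c, d}

variable {c d a x w : G} (R : Rel c d a x w)

include R in
theorem comm_NN : IsMulCommutative ↥(NN c d) := by
  apply Subgroup.isMulCommutative_closure
  intro u hu v hv
  rcases hu with rfl | rfl <;> rcases hv with rfl | rfl
  · rfl
  · exact R.hcd
  · exact R.hcd.symm
  · rfl

include R in
theorem exp_NN : ∀ g ∈ NN c d, g ^ 3 = 1 := by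
  have := comm_NN R
  intro g hg
  unfold NN at hg
  induction hg using Subgroup.closure_induction with
  | mem u hu =>
    rcases hu with rfl | rfl
    · exact R.hc
    · exact R.hd
  | one => exact one_pow 3
  | mul u v hu hv h1 h2 =>
    have hc : Commute u v := setLike_mul_comm (s := NN c d) hu hv
    rw [hc.mul_pow, h1, h2, one_mul]
  | inv u hu h1 => rw [inv_pow, h1, inv_one]

theorem c_mem : c ∈ NN c d := Subgroup.subset_closure (Set.mem_insert _ _)

theorem d_mem : d ∈ NN c d := Subgroup.subset_closure (Set.mem_insert_of_mem _ rfl)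

include R in
theorem c_notMem : c ∉ Subgroup.zpowers d := by
  have : Fact (Nat.Prime 3) := ⟨Nat.prime_three⟩
  have hod : orderOf d = 3 := orderOf_eq_prime R.hd R.hd1
  intro h
  obtain ⟨k, hk⟩ := Subgroup.mem_zpowers_iff.mp h
  rw [← zpow_mod_orderOf, hod] at hk
  have h0 : 0 ≤ k % ((3 : ℕ) : ℤ) := Int.emod_nonneg _ (by norm_num)
  have h3 : k % ((3 : ℕ) : ℤ) < 3 := Int.emod_lt_of_pos _ (by norm_num)
  generalize k % ((3 : ℕ) : ℤ) = m at hk h0 h3
  interval_cases m
  · rw [zpow_zero] at hk
    exact R.hc1 hk.symm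
  · rw [zpow_one] at hk
    exact R.hcd1 hk.symm
  · have : d ^ (2 : ℤ) = d * d := by rw [zpow_ofNat, sq]
    rw [this] at hk
    exact R.hcd2 hk.symm

include R in
theorem card_NN (hcard : Nat.card G = 72) : Nat.card ↥(NN c d) = 9 := by
  have : Fact (Nat.Prime 3) := ⟨Nat.prime_three⟩
  have : Finite G := Nat.finite_of_card_ne_zero (by rw [hcard]; norm_num)
  have hp : IsPGroup 3 ↥(NN c d) := by
    intro g
    refine ⟨1, ?_⟩
    apply Subtype.ext
    rw [pow_one, Subgroup.coe_pow, exp_NN R _ g.2]
    rfl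
  obtain ⟨n, hn⟩ := hp.exists_card_eq
  have hdvd : 3 ^ n ∣ 72 := by
    rw [← hn, ← hcard]
    exact Subgroup.card_subgroup_dvd_card _
  have hn2 : n ≤ 2 := by
    by_contra hcon
    have h3 : 3 ≤ n := by omega
    have := Nat.dvd_trans (pow_dvd_pow 3 h3) hdvd
    norm_num at this
  have hod : orderOf d = 3 := orderOf_eq_prime R.hd R.hd1
  have hle : Subgroup.zpowers d ≤ NN c d := by
    rw [Subgroup.zpowers_le]
    exact d_mem
  have hcz : Nat.card ↥(Subgroup.zpowers d) = 3 := by rw [Nat.card_zpowers, hod]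
  have hdvd2 : 3 ∣ 3 ^ n := by
    rw [← hn, ← hcz]
    exact Subgroup.card_dvd_of_le hle
  have hn1 : n ≠ 1 := by
    intro h1
    rw [h1, pow_one] at hn
    have := Subgroup.eq_of_le_of_card_ge hle (by rw [hn, hcz])
    apply c_notMem R
    rw [this]
    exact c_mem
  have hn0 : n ≠ 0 := by
    intro h0
    rw [h0, pow_zero] at hdvd2
    norm_num at hdvd2
  have : n = 2 := by omega
  rw [hn, this]
  norm_num

include R in
theorem conj_mem : ∀ h ∈ NN c d, a * h * a⁻¹ ∈ NN c d := by
  intro h hh
  unfold NN at hh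
  induction hh using Subgroup.closure_induction with
  | mem u hu =>
    rcases hu with rfl | rfl
    · rw [R.hac, mul_inv_cancel_right]
      exact mul_mem d_mem d_mem
    · rw [R.had, mul_inv_cancel_right]
      exact c_mem
  | one => 
    rw [mul_one, mul_inv_cancel]
    exact one_mem _
  | mul u v hu hv h1 h2 =>
    have : a * (u * v) * a⁻¹ = (a * u * a⁻¹) * (a * v * a⁻¹) := by group
    rw [this]
    exact mul_mem h1 h2
  | inv u hu h1 =>
    have : a * u⁻¹ * a⁻¹ = (a * u * a⁻¹)⁻¹ := by group
    rw [this]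
    exact inv_mem h1

include R in
theorem a_mem_normalizer : a ∈ Subgroup.normalizer (NN c d : Set G) := by
  rw [Subgroup.mem_normalizer_iff]
  intro h
  refine ⟨conj_mem R h, fun hh => ?_⟩
  have h1 := conj_mem R _ (conj_mem R _ (conj_mem R _ hh))
  have h2 : a * (a * (a * (a * h * a⁻¹) * a⁻¹) * a⁻¹) * a⁻¹ =
      (a * a * a * a) * h * (a * a * a * a)⁻¹ := by group
  have h4 : a * a * a * a = 1 := by
    have := R.ha4
    rw [pow_succ, pow_succ, pow_succ, pow_one] at this
    exact this
  rw [h2, h4, inv_one, one_mul, mul_one] at h1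
  exact h1

include R in
theorem normal_NN (hcard : Nat.card G = 72) : (NN c d).Normal := by
  have : Fact (Nat.Prime 3) := ⟨Nat.prime_three⟩
  have : Fact (Nat.Prime 2) := ⟨Nat.prime_two⟩
  have : Finite G := Nat.finite_of_card_ne_zero (by rw [hcard]; norm_num)
  have hfac : (72).factorization 3 = 2 := by
    rw [Nat.factorization_def _ Nat.prime_three]
    have : (72:ℕ) = 3^2 * 8 := by norm_num
    rw [this, padicValNat.mul (by norm_num) (by norm_num), padicValNat.prime_pow]
    simp [padicValNat.eq_zero_of_not_dvd]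
  let P : Sylow 3 G := Sylow.ofCard (NN c d) (by rw [card_NN R hcard, hcard, hfac]; norm_num)
  have hP : (P : Subgroup G) = NN c d := rfl
  have h1 := Sylow.card_eq_index_normalizer P
  have h2 := card_sylow_modEq_one 3 G
  rw [h1] at h2
  change (Subgroup.normalizer (NN c d : Set G)).index ≡ 1 [MOD 3] at h2
  set K := Subgroup.normalizer (NN c d : Set G) with hK
  have h3 := Subgroup.index_mul_card K
  rw [hcard] at h3
  have h9 : 9 ∣ Nat.card ↥K := by
    rw [← card_NN R hcard]
    exact Subgroup.card_dvd_of_le Subgroup.le_normalizer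
  have hoa : orderOf a = 2 ^ (1 + 1) := by
    apply orderOf_eq_prime_pow
    · rw [pow_one]; exact R.ha2
    · exact R.ha4
  have h4 : 4 ∣ Nat.card ↥K := by
    have := Subgroup.orderOf_dvd_natCard K (a_mem_normalizer R)
    rw [hoa] at this
    exact this
  have h36 : 36 ∣ Nat.card ↥K := 
    Nat.Coprime.mul_dvd_of_dvd_of_dvd (by norm_num : Nat.Coprime 4 9) h4 h9
  obtain ⟨m, hm⟩ := h36
  rw [hm] at h3
  have hidx : K.index = 1 := by
    have hm0 : m ≠ 0 := by
      rintro rfl
      omega
    have h5 : K.index * m = 2 := by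
      have : K.index * (36 * m) = 36 * (K.index * m) := by ring
      omega
    have h6 : K.index ∣ 2 := ⟨m, h5.symm⟩
    have h7 : K.index ≤ 2 := Nat.le_of_dvd (by norm_num) h6
    have h8 : K.index ≠ 0 := by
      rintro h0
      rw [h0] at h5
      omega
    have h10 : K.index ≠ 2 := by
      intro h
      rw [h] at h2
      have := h2
      unfold Nat.ModEq at this
      norm_num at this
    omega
  rw [Subgroup.index_eq_one] at hidx
  exact Subgroup.normalizer_eq_top_iff.mp hidx

include R in
theorem a2_notMem : a ^ 2 ∉ NN c d := by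
  intro h
  have h3 := exp_NN R _ h
  apply R.ha2
  have : (a ^ 2) ^ 3 = a ^ 4 * a ^ 2 := by rw [← pow_mul, ← pow_add]
  rw [this, R.ha4, one_mul] at h3
  exact h3

theorem quat_aux : ∀ g : QuaternionGroup 2, g ≠ 1 →
    g = QuaternionGroup.a 2 ∨ g ^ 2 = QuaternionGroup.a 2 := by decide

include R in
theorem quat_quotient (hcard : Nat.card G = 72) [hN : (NN c d).Normal] :
    Nonempty (G ⧸ NN c d ≃* QuaternionGroup 2) := by
  have : Finite G := Nat.finite_of_card_ne_zero (by rw [hcard]; norm_num)
  let π := QuotientGroup.mk' (NN c d)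
  have hπ : ∀ g, π g = 1 ↔ g ∈ NN c d := fun g => QuotientGroup.eq_one_iff g
  have hπc : π c = 1 := (hπ c).mpr c_mem
  have hπd : π d = 1 := (hπ d).mpr d_mem
  have hA : (π a) ^ (2 * 2) = 1 := by
    rw [← map_pow]
    have : a ^ (2 * 2) = 1 := R.ha4
    rw [this, map_one]
  have hX : π x * π x = (π a) ^ 2 := by
    rw [← map_mul, R.hxx, map_mul, map_mul, map_mul, hπd, one_mul, one_mul, sq]
  have hw : π w = (π a)⁻¹ := by
    apply eq_inv_of_mul_eq_one_left
    rw [← map_mul, R.hwa, hπc]
  have hXA : π x * π a * (π x)⁻¹ = (π a)⁻¹ := by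
    rw [← map_mul, R.hxa, map_mul, mul_inv_cancel_right, hw]
  let f := quatLift 2 (π a) (π x) hA hX hXA
  have hf2 : f (QuaternionGroup.a 2) = (π a) ^ 2 := by
    have := quatLift_a_natCast (n := 2) (π a) (π x) hA hX hXA 2
    rw [← this]
    rfl
  have hf2' : f (QuaternionGroup.a 2) ≠ 1 := by
    rw [hf2, ← map_pow, Ne, hπ]
    exact a2_notMem R
  have hinj : Function.Injective f := by
    rw [injective_iff_map_eq_one]
    intro g hg
    by_contra hg1
    apply hf2'
    rcases quat_aux g hg1 with h | h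
    · rw [← h, hg]
    · rw [← h, map_pow, hg, one_pow]
  have hc1 : Nat.card (G ⧸ NN c d) = 8 := by
    have h1 := Subgroup.card_eq_card_quotient_mul_card_subgroup (NN c d)
    rw [hcard, card_NN R hcard] at h1
    omega
  have hc2 : Nat.card (QuaternionGroup 2) = 8 := by
    rw [Nat.card_eq_fintype_card, QuaternionGroup.card]
  have hbij : Function.Bijective f :=
    hinj.bijective_of_nat_card_le (by rw [hc1, hc2])
  exact ⟨(MulEquiv.ofBijective f hbij).symm⟩

include R in
theorem solvable (hcard : Nat.card G = 72) : Group.IsSolvable G := by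
  have : Finite G := Nat.finite_of_card_ne_zero (by rw [hcard]; norm_num)
  have : Fact (Nat.Prime 2) := ⟨Nat.prime_two⟩
  have hN := normal_NN R hcard
  have := comm_NN R
  have hc1 : Nat.card (G ⧸ NN c d) = 2 ^ 3 := by
    have h1 := Subgroup.card_eq_card_quotient_mul_card_subgroup (NN c d)
    rw [hcard, card_NN R hcard] at h1
    omega
  have h2 : Group.IsNilpotent (G ⧸ NN c d) := (IsPGroup.of_card hc1).isNilpotent
  have h3 : Group.IsSolvable (G ⧸ NN c d) := inferInstance
  have h4 : Group.IsSolvable ↥(NN c d) :=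
    Group.isSolvable_of_comm (fun u v => Subtype.ext (setLike_mul_comm (s := NN c d) u.2 v.2))
  apply Group.isSolvable_of_ker_le_range (NN c d).subtype (QuotientGroup.mk' (NN c d))
  rw [QuotientGroup.ker_mk', Subgroup.range_subtype]

include R in
theorem main (hcard : Nat.card G = 72) :
    ∃ (N : Subgroup G) (_ : N.Normal), Nat.card N = 9 ∧ (∀ x ∈ N, x ^ 3 = 1) ∧
      Nonempty (G ⧸ N ≃* QuaternionGroup 2) := by
  have hN := normal_NN R hcard
  exact ⟨NN c d, hN, card_NN R hcard, exp_NN R, quat_quotient R hcard⟩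

end

end Cfsg.Agent.Lib.Helper5.Ext9Q8
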