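import Mathlib
import Cfsg.Prelude
import Cfsg.Agent.Lib.Helper5.HermCenter

set_option autoImplicit false
set_option linter.unusedSectionVars false
set_option linter.unusedVariables false
open Cfsg

/-! Explicit matrices in `SU_3(2)` and their relations. -/

namespace Cfsg.Agent.Lib.Helper5.SU32

open Matrix Cfsg.Agent.Lib.Helper5.HermCenter

variable {F : Type*} [Field F]

theorem mat3_ext {a b c d e f g h i a' b' c' d' e' f' g' h' i' : F}
    (h1 : a = a') (h2 : b = b') (h3 : c = c') (h4 : d = d') (h5 : e = e') (h6 : f = f')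
    (h7 : g = g') (h8 : h = h') (h9 : i = i') :
    !![a, b, c; d, e, f; g, h, i] = !![a', b', c'; d', e', f'; g', h', i'] := by
  subst h1 h2 h3 h4 h5 h6 h7 h8 h9
  rfl

theorem isU_iff (a b c d e f g h i : F) :
    IsU 2 !![a, b, c; d, e, f; g, h, i] ↔
      !![a, d, g; b, e, h; c, f, i] *
        !![a ^ 2, b ^ 2, c ^ 2; d ^ 2, e ^ 2, f ^ 2; g ^ 2, h ^ 2, i ^ 2] = 1 := by
  unfold IsU
  have h1 : (!![a, b, c; d, e, f; g, h, i] : Matrix (Fin 3) (Fin 3) F)ᵀ =
      !![a, d, g; b, e, h; c, f, i] := by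
    ext i j
    fin_cases i <;> fin_cases j <;> rfl
  have h2 : (!![a, b, c; d, e, f; g, h, i] : Matrix (Fin 3) (Fin 3) F).map (· ^ 2) =
      !![a ^ 2, b ^ 2, c ^ 2; d ^ 2, e ^ 2, f ^ 2; g ^ 2, h ^ 2, i ^ 2] := by
    ext i j
    fin_cases i <;> fin_cases j <;> rfl
  rw [h1, h2]

/-- the cyclic shift -/
def Mc : Matrix (Fin 3) (Fin 3) F := !![0, 1, 0; 0, 0, 1; 1, 0, 0]

/-- the transposition -/
def Mt : Matrix (Fin 3) (Fin 3) F := !![1, 0, 0; 0, 0, 1; 0, 1, 0]

/-- the clock matrix -/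
def Md (ω : F) : Matrix (Fin 3) (Fin 3) F := !![1, 0, 0; 0, ω, 0; 0, 0, ω ^ 2]

/-- the scalar matrix -/
def Mz (ω : F) : Matrix (Fin 3) (Fin 3) F := !![ω, 0, 0; 0, ω, 0; 0, 0, ω]

/-- the Fourier matrix -/
def Mm (ω : F) : Matrix (Fin 3) (Fin 3) F := !![1, 1, 1; 1, ω, ω ^ 2; 1, ω ^ 2, ω]

/-- the matrix `ω² c M⁻¹` -/
def Mw (ω : F) : Matrix (Fin 3) (Fin 3) F := !![ω ^ 2, ω, 1; ω ^ 2, 1, ω; ω ^ 2, ω ^ 2, ω ^ 2]

/-- a conjugate of the Fourier matrix -/
def Mx (ω : F) : Matrix (Fin 3) (Fin 3) F := !![1, 1, ω ^ 2; 1, ω, ω; ω, 1, ω]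

variable (ω : F) (hω : ω ^ 2 + ω + 1 = 0) (h2 : (2 : F) = 0)

include hω h2 in
theorem c_cube : (Mc : Matrix (Fin 3) (Fin 3) F) * (Mc : Matrix (Fin 3) (Fin 3) F) * (Mc : Matrix (Fin 3) (Fin 3) F) = (1 : Matrix (Fin 3) (Fin 3) F) := by
  simp only [Mc, Matrix.mul_fin_three, Matrix.one_fin_three]
  apply mat3_ext <;> first
    | ring1

include hω h2 in
theorem d_cube : Md ω * Md ω * Md ω = (1 : Matrix (Fin 3) (Fin 3) F) := by
  simp only [Md, Matrix.mul_fin_three, Matrix.one_fin_three]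
  apply mat3_ext <;> first
    | ring1
    | linear_combination ((-1) + (1) * ω) * hω + (0) * h2
    | linear_combination ((-1) + (1) * ω + (-1) * ω ^ 3 + (1) * ω ^ 4) * hω + (0) * h2

include hω h2 in
theorem c_d : (Mc : Matrix (Fin 3) (Fin 3) F) * Md ω = Mz ω * Md ω * (Mc : Matrix (Fin 3) (Fin 3) F) := by
  simp only [Mc, Md, Mz, Matrix.mul_fin_three, Matrix.one_fin_three]
  apply mat3_ext <;> first
    | ring1
    | linear_combination ((1) + (-1) * ω) * hω + (0) * h2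

include hω h2 in
theorem m_c : Mm ω * (Mc : Matrix (Fin 3) (Fin 3) F) = Md ω * Md ω * Mm ω := by
  simp only [Mc, Md, Mm, Matrix.mul_fin_three, Matrix.one_fin_three]
  apply mat3_ext <;> first
    | ring1
    | linear_combination ((1) + (-1) * ω) * hω + (0) * h2
    | linear_combination ((1) * ω + (-1) * ω ^ 2) * hω + (0) * h2
    | linear_combination ((1) + (-1) * ω + (1) * ω ^ 3 + (-1) * ω ^ 4) * hω + (0) * h2
    | linear_combination ((1) * ω ^ 2 + (-1) * ω ^ 3) * hω + (0) * h2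

include hω h2 in
theorem m_d : Mm ω * Md ω = (Mc : Matrix (Fin 3) (Fin 3) F) * Mm ω := by
  simp only [Mc, Md, Mm, Matrix.mul_fin_three, Matrix.one_fin_three]
  apply mat3_ext <;> first
    | ring1
    | linear_combination ((-1) * ω + (1) * ω ^ 2) * hω + (0) * h2
    | linear_combination ((-1) + (1) * ω) * hω + (0) * h2

include hω h2 in
theorem m_sq : Mm ω * Mm ω = (Mt : Matrix (Fin 3) (Fin 3) F) := by
  simp only [Mm, Mt, Matrix.mul_fin_three, Matrix.one_fin_three]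
  apply mat3_ext <;> first
    | ring1
    | linear_combination (0) * hω + ((1)) * h2
    | linear_combination ((1)) * hω + (0) * h2
    | linear_combination ((1) + (-1) * ω + (1) * ω ^ 2) * hω + (0) * h2
    | linear_combination ((-2) + (2) * ω) * hω + ((1)) * h2

include hω h2 in
theorem t_sq : (Mt : Matrix (Fin 3) (Fin 3) F) * (Mt : Matrix (Fin 3) (Fin 3) F) = (1 : Matrix (Fin 3) (Fin 3) F) := by
  simp only [Mt, Matrix.mul_fin_three, Matrix.one_fin_three]
  apply mat3_ext <;> first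
    | ring1

include hω h2 in
theorem x_sq : Mx ω * Mx ω = Md ω * Md ω * Mm ω * Mm ω := by
  simp only [Md, Mm, Mx, Matrix.mul_fin_three, Matrix.one_fin_three]
  apply mat3_ext <;> first
    | ring1
    | linear_combination ((-1) + (1) * ω) * hω + (0) * h2
    | linear_combination ((1) + (-1) * ω ^ 2) * hω + (0) * h2
    | linear_combination ((1) + (-1) * ω ^ 2 + (1) * ω ^ 3 + (-1) * ω ^ 4) * hω + (0) * h2
    | linear_combination ((2) * ω ^ 2 + (-2) * ω ^ 3) * hω + (0) * h2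
    | linear_combination ((1) + (-1) * ω ^ 4) * hω + (0) * h2
    | linear_combination ((3) * ω + (-3) * ω ^ 2 + (2) * ω ^ 4 + (-2) * ω ^ 5) * hω + (0) * h2
    | linear_combination ((1) * ω + (-1) * ω ^ 4 + (1) * ω ^ 5 + (-1) * ω ^ 6) * hω + (0) * h2

include hω h2 in
theorem x_m : Mx ω * Mm ω = Mw ω * Mx ω := by
  simp only [Mm, Mw, Mx, Matrix.mul_fin_three, Matrix.one_fin_three]
  apply mat3_ext <;> first
    | ring1
    | linear_combination (0) * hω + ((1) + (-1) * ω) * h2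
    | linear_combination ((-2) + (-1) * ω + (1) * ω ^ 2) * hω + ((1) + (2) * ω) * h2
    | linear_combination ((-1) + (2) * ω + (-1) * ω ^ 2) * hω + ((1) + (-1) * ω) * h2
    | linear_combination ((-2)) * hω + ((1) + (2) * ω) * h2
    | linear_combination ((-1) + (1) * ω) * hω + ((1) + (-1) * ω) * h2
    | linear_combination ((-1) + (-1) * ω) * hω + ((1) + (2) * ω) * h2
    | linear_combination ((4) + (-1) * ω + (-1) * ω ^ 2) * hω + ((-2) + (-1) * ω) * h2

include hω h2 in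
theorem w_m : Mw ω * Mm ω = Mz ω * Mz ω * (Mc : Matrix (Fin 3) (Fin 3) F) := by
  simp only [Mc, Mm, Mw, Mz, Matrix.mul_fin_three, Matrix.one_fin_three]
  apply mat3_ext <;> first
    | ring1
    | linear_combination ((1)) * hω + (0) * h2
    | linear_combination ((2)) * hω + ((-1) + (-1) * ω) * h2
    | linear_combination ((1) * ω) * hω + (0) * h2
    | linear_combination ((1) * ω ^ 2) * hω + (0) * h2

include hω h2 in
theorem det_Mc : ((Mc : Matrix (Fin 3) (Fin 3) F)).det = 1 := by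
  rw [Mc, Matrix.det_fin_three]
  show 0 * 0 * 0 - 0 * (1) * 0 - (1) * 0 * 0 + (1) * (1) * (1) + 0 * 0 * 0 - 0 * 0 * (1) = (1 : F)
  linear_combination (0) * hω + (0) * h2

include hω h2 in
theorem isU_Mc : IsU 2 ((Mc : Matrix (Fin 3) (Fin 3) F)) := by
  rw [Mc, isU_iff]
  simp only [Matrix.mul_fin_three, Matrix.one_fin_three]
  apply mat3_ext <;> first
    | ring1

include hω h2 in
theorem det_Md : (Md ω).det = 1 := by
  rw [Md, Matrix.det_fin_three]
  show (1) * (ω) * (ω ^ 2) - (1) * 0 * 0 - 0 * 0 * (ω ^ 2) + 0 * 0 * 0 + 0 * 0 * 0 - 0 * (ω) * 0 = (1 : F)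
  linear_combination ((-1) + (1) * ω) * hω + (0) * h2

include hω h2 in
theorem isU_Md : IsU 2 (Md ω) := by
  rw [Md, isU_iff]
  simp only [Matrix.mul_fin_three, Matrix.one_fin_three]
  apply mat3_ext <;> first
    | ring1
    | linear_combination ((-1) + (1) * ω) * hω + (0) * h2
    | linear_combination ((-1) + (1) * ω + (-1) * ω ^ 3 + (1) * ω ^ 4) * hω + (0) * h2

include hω h2 in
theorem det_Mz : (Mz ω).det = 1 := by
  rw [Mz, Matrix.det_fin_three]
  show (ω) * (ω) * (ω) - (ω) * 0 * 0 - 0 * 0 * (ω) + 0 * 0 * 0 + 0 * 0 * 0 - 0 * (ω) * 0 = (1 : F)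
  linear_combination ((-1) + (1) * ω) * hω + (0) * h2

include hω h2 in
theorem isU_Mz : IsU 2 (Mz ω) := by
  rw [Mz, isU_iff]
  simp only [Matrix.mul_fin_three, Matrix.one_fin_three]
  apply mat3_ext <;> first
    | ring1
    | linear_combination ((-1) + (1) * ω) * hω + (0) * h2

include hω h2 in
theorem det_Mm : (Mm ω).det = 1 := by
  rw [Mm, Matrix.det_fin_three]
  show (1) * (ω) * (ω) - (1) * (ω ^ 2) * (ω ^ 2) - (1) * (1) * (ω) + (1) * (ω ^ 2) * (1) + (1) * (1) * (ω ^ 2) - (1) * (ω) * (1) = (1 : F)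
  linear_combination ((3) + (1) * ω + (-1) * ω ^ 2) * hω + ((-2) + (-3) * ω) * h2

include hω h2 in
theorem isU_Mm : IsU 2 (Mm ω) := by
  rw [Mm, isU_iff]
  simp only [Matrix.mul_fin_three, Matrix.one_fin_three]
  apply mat3_ext <;> first
    | ring1
    | linear_combination (0) * hω + ((1)) * h2
    | linear_combination ((1) + (-1) * ω + (1) * ω ^ 2) * hω + (0) * h2
    | linear_combination ((1)) * hω + (0) * h2
    | linear_combination ((-2) + (2) * ω + (-1) * ω ^ 3 + (1) * ω ^ 4) * hω + ((1)) * h2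
    | linear_combination ((1) + (-1) * ω + (1) * ω ^ 3) * hω + (0) * h2

include hω h2 in
theorem det_Mx : (Mx ω).det = 1 := by
  rw [Mx, Matrix.det_fin_three]
  show (1) * (ω) * (ω) - (1) * (ω) * (1) - (1) * (1) * (ω) + (1) * (ω) * (ω) + (ω ^ 2) * (1) * (1) - (ω ^ 2) * (ω) * (ω) = (1 : F)
  linear_combination ((3) + (1) * ω + (-1) * ω ^ 2) * hω + ((-2) + (-3) * ω) * h2

include hω h2 in
theorem isU_Mx : IsU 2 (Mx ω) := by
  rw [Mx, isU_iff]
  simp only [Matrix.mul_fin_three, Matrix.one_fin_three]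
  apply mat3_ext <;> first
    | ring1
    | linear_combination ((-1) + (1) * ω) * hω + ((1)) * h2
    | linear_combination ((1)) * hω + (0) * h2
    | linear_combination ((1) * ω ^ 2) * hω + (0) * h2
    | linear_combination ((1) * ω) * hω + (0) * h2
    | linear_combination ((-3) + (3) * ω + (-1) * ω ^ 3 + (1) * ω ^ 4) * hω + ((1)) * h2

include hω h2 in
theorem det_Mt : ((Mt : Matrix (Fin 3) (Fin 3) F)).det = 1 := by
  rw [Mt, Matrix.det_fin_three]
  show (1) * 0 * 0 - (1) * (1) * (1) - 0 * 0 * 0 + 0 * (1) * 0 + 0 * 0 * (1) - 0 * 0 * 0 = (1 : F)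
  linear_combination (0) * hω + ((-1)) * h2

include hω h2 in
theorem isU_Mt : IsU 2 ((Mt : Matrix (Fin 3) (Fin 3) F)) := by
  rw [Mt, isU_iff]
  simp only [Matrix.mul_fin_three, Matrix.one_fin_three]
  apply mat3_ext <;> first
    | ring1

include hω h2 in
theorem det_Mw : (Mw ω).det = 1 := by
  rw [Mw, Matrix.det_fin_three]
  show (ω ^ 2) * (1) * (ω ^ 2) - (ω ^ 2) * (ω) * (ω ^ 2) - (ω) * (ω ^ 2) * (ω ^ 2) + (ω) * (ω) * (ω ^ 2) + (1) * (ω ^ 2) * (ω ^ 2) - (1) * (1) * (ω ^ 2) = (1 : F)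
  linear_combination ((-3) + (-3) * ω + (5) * ω ^ 2 + (-2) * ω ^ 3) * hω + ((1) + (3) * ω) * h2

include hω h2 in
theorem isU_Mw : IsU 2 (Mw ω) := by
  rw [Mw, isU_iff]
  simp only [Matrix.mul_fin_three, Matrix.one_fin_three]
  apply mat3_ext <;> first
    | ring1
    | linear_combination ((-3) + (3) * ω + (-3) * ω ^ 3 + (3) * ω ^ 4) * hω + ((1)) * h2
    | linear_combination ((1) * ω ^ 2 + (-1) * ω ^ 3 + (1) * ω ^ 4) * hω + (0) * h2
    | linear_combination ((1) * ω ^ 4) * hω + (0) * h2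
    | linear_combination ((-2) + (2) * ω + (-1) * ω ^ 3 + (1) * ω ^ 4) * hω + ((1)) * h2
    | linear_combination ((1) * ω + (-1) * ω ^ 3 + (1) * ω ^ 4) * hω + (0) * h2

end Cfsg.Agent.Lib.Helper5.SU32
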