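import Mathlib
import Cfsg.Prelude
import Cfsg.Agent.Lib.Helper5.SU32
import Cfsg.Agent.Lib.Helper5.Ext9Q8
import Cfsg.Agent.S0280

set_option autoImplicit false
set_option linter.unusedSectionVars false
set_option linter.unusedVariables false
open Cfsg

/-! `PSU_3(2)` is `3² : Q₈`. -/

namespace Cfsg.Agent.Lib.Helper5.SU32b

open Matrix Cfsg.Agent.Lib.Helper5.HermCenter Cfsg.Agent.Lib.Helper5.SU32

variable {F : Type*} [Field F] [Fintype F] (hF : Fintype.card F = 2 ^ 2)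

include hF in
theorem two_eq_zero : (2 : F) = 0 := by
  have h4 : ((Fintype.card F : ℕ) : F) = 0 := Nat.cast_card_eq_zero F
  rw [hF] at h4
  have : (2 : F) * 2 = 0 := by
    rw [← h4]
    norm_num
  exact mul_self_eq_zero.mp this

include hF in
theorem exists_omega : ∃ ω : F, ω ^ 2 + ω + 1 = 0 ∧ ω ≠ 1 := by
  classical
  obtain ⟨x, hx0, hx1⟩ : ∃ x : F, x ≠ 0 ∧ x ≠ 1 := by
    by_contra hcon
    push Not at hcon
    have : Fintype.card F ≤ 2 := by
      calc Fintype.card F = (Finset.univ : Finset F).card := rfl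
        _ ≤ ({0, 1} : Finset F).card := Finset.card_le_card (fun x _ => by
            by_cases h : x = 0
            · simp [h]
            · simp [hcon x h])
        _ ≤ 2 := Finset.card_le_two
    rw [hF] at this
    norm_num at this
  refine ⟨x, ?_, hx1⟩
  have h3 : x ^ 3 = 1 := by
    have := FiniteField.pow_card_sub_one_eq_one x hx0
    rw [hF] at this
    exact this
  have : (x - 1) * (x ^ 2 + x + 1) = 0 := by
    have : (x - 1) * (x ^ 2 + x + 1) = x ^ 3 - 1 := by ring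
    rw [this, h3, sub_self]
  rcases mul_eq_zero.mp this with h | h
  · exact absurd (sub_eq_zero.mp h) hx1
  · exact h

/-- membership in `SU_3(2)` for a matrix -/
def P (M : Matrix (Fin 3) (Fin 3) F) : Prop := M.det = 1 ∧ IsU 2 M

include hF in
theorem P_mul {M N : Matrix (Fin 3) (Fin 3) F} (hM : P M) (hN : P N) : P (M * N) :=
  ⟨by rw [Matrix.det_mul, hM.1, hN.1, one_mul], isU_mul hF hM.2 hN.2⟩

include hF in
theorem P_one : P (1 : Matrix (Fin 3) (Fin 3) F) := by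
  refine ⟨Matrix.det_one, ?_⟩
  have := (mem_SU_iff hF (1 : Matrix.SpecialLinearGroup (Fin 3) F)).mp (one_mem _)
  exact this

/-- the element of `SU_3(2)` -/
def toSU (M : Matrix (Fin 3) (Fin 3) F) (h : P M) : ↥(Cfsg.SU 3 F 2) :=
  ⟨⟨M, h.1⟩, (mem_SU_iff hF _).mpr h.2⟩

open Classical in
/-- the element of `PSU_3(2)` -/
noncomputable def toG (M : Matrix (Fin 3) (Fin 3) F) : Cfsg.PSU 3 F 2 :=
  if h : P M then QuotientGroup.mk' _ (toSU hF M h) else 1

theorem toG_mul {M N : Matrix (Fin 3) (Fin 3) F} (hM : P M) (hN : P N) :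
    toG hF (M * N) = toG hF M * toG hF N := by
  unfold toG
  rw [dif_pos hM, dif_pos hN, dif_pos (P_mul hF hM hN), ← map_mul]
  rfl

theorem toG_one : toG hF (1 : Matrix (Fin 3) (Fin 3) F) = 1 := by
  unfold toG
  rw [dif_pos (P_one hF)]
  exact map_one _

theorem toG_scalar (l : F) (h : P (Matrix.diagonal (fun _ : Fin 3 => l))) :
    toG hF (Matrix.diagonal (fun _ : Fin 3 => l)) = 1 := by
  unfold toG
  rw [dif_pos h]
  show ((toSU hF _ h : ↥(Cfsg.SU 3 F 2)) : Cfsg.PSU 3 F 2) = 1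
  rw [QuotientGroup.eq_one_iff, Subgroup.mem_center_iff]
  intro g
  apply Subtype.ext
  apply Subtype.ext
  exact scalar_comm 3 l _

theorem toG_eq {M N : Matrix (Fin 3) (Fin 3) F} (hM : P M) (hN : P N)
    (h : toG hF M = toG hF N) : ∃ l : F, M * Matrix.diagonal (fun _ : Fin 3 => l) = N := by
  unfold toG at h
  rw [dif_pos hM, dif_pos hN, QuotientGroup.mk'_eq_mk'] at h
  obtain ⟨z, hz, hzM⟩ := h
  obtain ⟨l, hl⟩ := toCenterSU_surjective hF 3 (by norm_num) ⟨z, hz⟩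
  refine ⟨((l.1 : Fˣ) : F), ?_⟩
  have h1 := congrArg (fun x : ↥(Subgroup.center ↥(Cfsg.SU 3 F 2)) =>
      ((x.1.1 : Matrix.SpecialLinearGroup (Fin 3) F) : Matrix (Fin 3) (Fin 3) F)) hl
  have h2 := congrArg (fun x : ↥(Cfsg.SU 3 F 2) =>
      ((x.1 : Matrix.SpecialLinearGroup (Fin 3) F) : Matrix (Fin 3) (Fin 3) F)) hzM
  have h3 : Matrix.diagonal (fun _ : Fin 3 => ((l.1 : Fˣ) : F)) =
      ((z.1 : Matrix.SpecialLinearGroup (Fin 3) F) : Matrix (Fin 3) (Fin 3) F) := h1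
  rw [h3]
  exact h2

section rel
variable (ω : F) (hω : ω ^ 2 + ω + 1 = 0) (hω1 : ω ≠ 1)

include hF hω in
theorem P_c : P (Mc : Matrix (Fin 3) (Fin 3) F) :=
  ⟨det_Mc ω hω (two_eq_zero hF), isU_Mc ω hω (two_eq_zero hF)⟩

include hF hω in
theorem P_t : P (Mt : Matrix (Fin 3) (Fin 3) F) :=
  ⟨det_Mt ω hω (two_eq_zero hF), isU_Mt ω hω (two_eq_zero hF)⟩

include hF hω in
theorem P_d : P (Md ω) := ⟨det_Md ω hω (two_eq_zero hF), isU_Md ω hω (two_eq_zero hF)⟩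

include hF hω in
theorem P_z : P (Mz ω) := ⟨det_Mz ω hω (two_eq_zero hF), isU_Mz ω hω (two_eq_zero hF)⟩

include hF hω in
theorem P_m : P (Mm ω) := ⟨det_Mm ω hω (two_eq_zero hF), isU_Mm ω hω (two_eq_zero hF)⟩

include hF hω in
theorem P_x : P (Mx ω) := ⟨det_Mx ω hω (two_eq_zero hF), isU_Mx ω hω (two_eq_zero hF)⟩

include hF hω in
theorem P_w : P (Mw ω) := ⟨det_Mw ω hω (two_eq_zero hF), isU_Mw ω hω (two_eq_zero hF)⟩

theorem Mz_eq : Mz ω = Matrix.diagonal (fun _ : Fin 3 => ω) := by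
  ext i j
  fin_cases i <;> fin_cases j <;> simp [Mz]

include hω in
theorem toG_z : toG hF (Mz ω) = 1 := by
  have h := P_z hF ω hω
  rw [Mz_eq] at h ⊢
  exact toG_scalar hF ω h

include hω hω1 in
theorem rel : Ext9Q8.Rel (toG hF (Mc : Matrix (Fin 3) (Fin 3) F)) (toG hF (Md ω))
    (toG hF (Mm ω)) (toG hF (Mx ω)) (toG hF (Mw ω)) := by
  have h2 := two_eq_zero hF
  have Pc := P_c hF ω hω
  have Pt := P_t hF ω hω
  have Pd := P_d hF ω hω
  have Pz := P_z hF ω hω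
  have Pm := P_m hF ω hω
  have Px := P_x hF ω hω
  have Pw := P_w hF ω hω
  have hz := toG_z hF ω hω
  have hmm : toG hF (Mm ω) * toG hF (Mm ω) = toG hF (Mt : Matrix (Fin 3) (Fin 3) F) := by
    rw [← toG_mul hF Pm Pm, m_sq ω hω h2]
  have htt : toG hF (Mt : Matrix (Fin 3) (Fin 3) F) * toG hF (Mt : Matrix (Fin 3) (Fin 3) F) = 1 := by
    rw [← toG_mul hF Pt Pt, t_sq ω hω h2, toG_one]
  constructor
  · rw [pow_succ, pow_succ, pow_one, ← toG_mul hF Pc Pc, ← toG_mul hF (P_mul hF Pc Pc) Pc,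
      c_cube ω hω h2, toG_one]
  · rw [pow_succ, pow_succ, pow_one, ← toG_mul hF Pd Pd, ← toG_mul hF (P_mul hF Pd Pd) Pd,
      d_cube ω hω h2, toG_one]
  · rw [← toG_mul hF Pc Pd, c_d ω hω h2, toG_mul hF (P_mul hF Pz Pd) Pc, toG_mul hF Pz Pd, hz,
      one_mul]
  · rw [← toG_mul hF Pm Pc, m_c ω hω h2, toG_mul hF (P_mul hF Pd Pd) Pm, toG_mul hF Pd Pd]
  · rw [← toG_mul hF Pm Pd, m_d ω hω h2, toG_mul hF Pc Pm]
  · have : toG hF (Mm ω) ^ 4 = (toG hF (Mm ω) * toG hF (Mm ω)) * (toG hF (Mm ω) * toG hF (Mm ω)) := by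
      rw [← sq, ← sq, ← pow_mul]
    rw [this, hmm, htt]
  · rw [sq, hmm]
    intro h
    rw [← toG_one hF] at h
    obtain ⟨l, hl⟩ := toG_eq hF Pt (P_one hF) h
    have h1 := congrFun (congrFun hl 1) 1
    rw [Matrix.mul_diagonal] at h1
    simp [Mt] at h1
  · rw [← toG_mul hF Px Px, x_sq ω hω h2, toG_mul hF (P_mul hF (P_mul hF Pd Pd) Pm) Pm,
      toG_mul hF (P_mul hF Pd Pd) Pm, toG_mul hF Pd Pd]
  · rw [← toG_mul hF Px Pm, x_m ω hω h2, toG_mul hF Pw Px]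
  · rw [← toG_mul hF Pw Pm, w_m ω hω h2, toG_mul hF (P_mul hF Pz Pz) Pc, toG_mul hF Pz Pz, hz,
      one_mul, one_mul]
  · intro h
    rw [← toG_one hF] at h
    obtain ⟨l, hl⟩ := toG_eq hF Pc (P_one hF) h
    have h1 := congrFun (congrFun hl 0) 0
    rw [Matrix.mul_diagonal] at h1
    simp [Mc] at h1
  · intro h
    obtain ⟨l, hl⟩ := toG_eq hF Pc Pd h
    have h1 := congrFun (congrFun hl 0) 0
    rw [Matrix.mul_diagonal] at h1
    simp [Mc, Md] at h1
  · intro h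
    rw [← toG_mul hF Pd Pd] at h
    obtain ⟨l, hl⟩ := toG_eq hF Pc (P_mul hF Pd Pd) h
    have h1 := congrFun (congrFun hl 0) 0
    rw [Matrix.mul_diagonal] at h1
    simp [Mc, Md, Matrix.mul_apply, Fin.sum_univ_three] at h1
  · intro h
    rw [← toG_one hF] at h
    obtain ⟨l, hl⟩ := toG_eq hF Pd (P_one hF) h
    have h1 := congrFun (congrFun hl 0) 0
    have h3 := congrFun (congrFun hl 1) 1
    rw [Matrix.mul_diagonal] at h1 h3
    simp [Md] at h1 h3
    rw [h1, mul_one] at h3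
    exact hω1 h3

end rel

include hF in
theorem card_G : Nat.card (Cfsg.PSU 3 F 2) = 72 := by
  have h := Cfsg.Agent.S0280.result hF 3 (by norm_num)
  have h1 : Nat.gcd 3 (2 + 1) = 3 := by norm_num
  rw [h1] at h
  have h2 : (∏ i ∈ Finset.range 3, (if Even i then 2 ^ (i + 1) + 1 else 2 ^ (i + 1) - 1)) = 3 * 3 * 9 := by
    decide
  rw [h2] at h
  norm_num at h
  omega

include hF in
theorem main : ∃ (N : Subgroup (Cfsg.PSU 3 F 2)) (_ : N.Normal), Nat.card N = 9 ∧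
    (∀ x ∈ N, x ^ 3 = 1) ∧ Nonempty (Cfsg.PSU 3 F 2 ⧸ N ≃* QuaternionGroup 2) := by
  obtain ⟨ω, hω, hω1⟩ := exists_omega hF
  exact Ext9Q8.main (rel hF ω hω hω1) (card_G hF)

include hF in
theorem solvable : Group.IsSolvable (Cfsg.PSU 3 F 2) := by
  obtain ⟨ω, hω, hω1⟩ := exists_omega hF
  exact Ext9Q8.solvable (rel hF ω hω hω1) (card_G hF)

end Cfsg.Agent.Lib.Helper5.SU32b
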