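import Mathlib
import Cfsg.Prelude
import Cfsg.Agent.Lib.Helper5.OrthBridge
import Cfsg.Agent.Lib.Helper5.SingGeom

set_option autoImplicit false
set_option linter.unusedSectionVars false
set_option linter.unusedVariables false
open Cfsg

/-! Geometry of a non-degenerate quadratic form given as a function, over a finite field. -/

namespace Cfsg.Agent.Lib.Helper5.QuadGeomOdd

open Matrix Module QuadraticMap Cfsg.Agent.Lib.Helper5.OrthBridge

variable {F : Type*} [Field F] [Fintype F] {n : ℕ} (Q : (Fin n → F) → F)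

/-- the functional `x ↦ polar Q x u` as a vector -/
def phi (u : Fin n → F) : Fin n → F := fun i => polar Q (Pi.single i 1) u

variable {Q} (hQ : Cfsg.Geo.IsNondegenerateQuadraticForm Q)

include hQ

theorem B_add_left (x y v : Fin n → F) : polar Q (x + y) v = polar Q x v + polar Q y v :=
  hQ.polar_bilinear.add_left x y v

theorem B_add_right (v x y : Fin n → F) : polar Q v (x + y) = polar Q v x + polar Q v y :=
  hQ.polar_bilinear.add_right v x y

theorem B_smul_left (c : F) (x v : Fin n → F) : polar Q (c • x) v = c * polar Q x v :=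
  hQ.polar_bilinear.smul_left c x v

theorem B_smul_right (c : F) (v x : Fin n → F) : polar Q v (c • x) = c * polar Q v x :=
  hQ.polar_bilinear.smul_right c v x

omit hQ in
theorem B_comm (x y : Fin n → F) : polar Q x y = polar Q y x := polar_comm Q x y

theorem B_zero_left (x : Fin n → F) : polar Q 0 x = 0 := by
  have := B_smul_left hQ 0 0 x
  rw [zero_smul, zero_mul] at this
  exact this

theorem B_zero_right (x : Fin n → F) : polar Q x 0 = 0 := by
  rw [B_comm, B_zero_left hQ]

theorem B_neg_left (x y : Fin n → F) : polar Q (-x) y = -polar Q x y := by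
  have := B_smul_left hQ (-1) x y
  rw [neg_one_smul, neg_one_mul] at this
  exact this

theorem B_neg_right (x y : Fin n → F) : polar Q x (-y) = -polar Q x y := by
  rw [B_comm, B_neg_left hQ, B_comm]

theorem B_sub_left (x y z : Fin n → F) : polar Q (x - y) z = polar Q x z - polar Q y z := by
  rw [sub_eq_add_neg, B_add_left hQ, B_neg_left hQ, sub_eq_add_neg]

theorem B_sub_right (x y z : Fin n → F) : polar Q x (y - z) = polar Q x y - polar Q x z := by
  rw [sub_eq_add_neg, B_add_right hQ, B_neg_right hQ, sub_eq_add_neg]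

omit hQ in
theorem Q_add (Q : (Fin n → F) → F) (x y : Fin n → F) :
    Q (x + y) = Q x + Q y + polar Q x y := by
  unfold polar
  ring

theorem Q_zero : Q 0 = 0 := by
  have h := hQ.smul 0 (0 : Fin n → F)
  rw [zero_smul] at h
  rw [h]
  ring

theorem Q_add_smul (x v : Fin n → F) (a : F) :
    Q (x + a • v) = Q x + a ^ 2 * Q v + a * polar Q x v := by
  rw [Q_add Q, hQ.smul, B_smul_right hQ]

theorem B_self (x : Fin n → F) : polar Q x x = 2 * Q x := by
  have h : x + x = (2 : F) • x := by rw [two_smul]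
  unfold polar
  rw [h, hQ.smul]
  ring

theorem eq_zero_of_forall (u : Fin n → F) (h : ∀ x, polar Q x u = 0) : u = 0 := by
  by_contra hu
  obtain ⟨x, hx⟩ := (hQ.nondegenerate u hu).1
  exact hx (h x)

theorem exists_pair (u : Fin n → F) (hu : u ≠ 0) : ∃ x, polar Q x u ≠ 0 :=
  (hQ.nondegenerate u hu).1

theorem phi_dot (u x : Fin n → F) : phi Q u ⬝ᵥ x = polar Q x u := by
  let L : (Fin n → F) →ₗ[F] F :=
    { toFun := fun x => polar Q x u
      map_add' := fun x y => B_add_left hQ x y u
      map_smul' := fun c x => by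
        rw [B_smul_left hQ, RingHom.id_apply, smul_eq_mul] }
  have h1 := LinearMap.pi_apply_eq_sum_univ L x
  have h2 : L x = polar Q x u := rfl
  rw [← h2, h1]
  unfold phi dotProduct
  apply Finset.sum_congr rfl
  intro i _
  have h3 : (fun j => if i = j then (1 : F) else 0) = Pi.single i 1 := by
    funext j
    rw [Pi.single_apply]
    simp only [eq_comm]
  rw [h3, smul_eq_mul, mul_comm]
  rfl

theorem phi_add (u u' : Fin n → F) : phi Q (u + u') = phi Q u + phi Q u' := by
  funext i
  exact B_add_right hQ _ u u'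

theorem phi_smul (c : F) (u : Fin n → F) : phi Q (c • u) = c • phi Q u := by
  funext i
  exact B_smul_right hQ c _ u

theorem phi_zero : phi Q (0 : Fin n → F) = 0 := by
  funext i
  exact B_zero_right hQ _

theorem phi_neg (u : Fin n → F) : phi Q (-u) = -phi Q u := by
  funext i
  exact B_neg_right hQ _ u

theorem phi_injective : Function.Injective (phi Q) := by
  intro u u' h
  have : u - u' = 0 := by
    apply eq_zero_of_forall hQ
    intro x
    rw [B_sub_right hQ, ← phi_dot hQ, ← phi_dot hQ u', h, sub_self]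
  exact sub_eq_zero.mp this

/-- every functional is represented by a vector -/
theorem exists_phi (ψ : Fin n → F) : ∃ u, phi Q u = ψ :=
  (Finite.injective_iff_surjective.mp (phi_injective hQ)) ψ

/-- a functional vanishing on the kernel of another one is proportional to it -/
theorem exists_smul_of_ker (u p : Fin n → F) (h : ∀ y, polar Q y u = 0 → polar Q y p = 0) :
    ∃ a : F, p = a • u := by
  by_cases hu : u = 0
  · refine ⟨0, ?_⟩
    rw [zero_smul]
    apply eq_zero_of_forall hQ
    intro y
    apply h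
    rw [hu, B_zero_right hQ]
  obtain ⟨x₀, hx₀⟩ := exists_pair hQ u hu
  refine ⟨polar Q x₀ p / polar Q x₀ u, ?_⟩
  have : p - (polar Q x₀ p / polar Q x₀ u) • u = 0 := by
    apply eq_zero_of_forall hQ
    intro y
    have h1 := h (y - (polar Q y u / polar Q x₀ u) • x₀) (by
      rw [B_sub_left hQ, B_smul_left hQ, div_mul_cancel₀ _ hx₀, sub_self])
    rw [B_sub_left hQ, B_smul_left hQ, sub_eq_zero] at h1
    rw [B_sub_right hQ, B_smul_right hQ, h1]
    field_simp
    ring
  exact sub_eq_zero.mp this

/-- a vector pairing non-trivially with two given non-zero vectors -/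
theorem exists_cross (x v : Fin n → F) (hx : x ≠ 0) (hv : v ≠ 0) :
    ∃ z, polar Q z x ≠ 0 ∧ polar Q z v ≠ 0 := by
  obtain ⟨z₁, h₁⟩ := exists_pair hQ x hx
  obtain ⟨z₂, h₂⟩ := exists_pair hQ v hv
  by_cases h3 : polar Q z₁ v = 0
  · by_cases h4 : polar Q z₂ x = 0
    · refine ⟨z₁ + z₂, ?_, ?_⟩
      · rw [B_add_left hQ, h4, add_zero]; exact h₁
      · rw [B_add_left hQ, h3, zero_add]; exact h₂
    · exact ⟨z₂, h4, h₂⟩
  · exact ⟨z₁, h₁, h3⟩

/-- making a vector singular by adding a multiple of a singular one -/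
theorem Q_make_singular (y e : Fin n → F) (he : Q e = 0) (hye : polar Q y e ≠ 0) :
    Q (y + (-(Q y) / polar Q y e) • e) = 0 := by
  rw [Q_add_smul hQ, he, div_mul_cancel₀ _ hye]
  ring

theorem finrank_eq : finrank F (Fin n → F) = n := by
  rw [Module.finrank_fintype_fun_eq_card, Fintype.card_fin]

/-- a singular vector non-orthogonal to two given orthogonal nonzero vectors, the first of which
is singular -/
theorem exists_singular_cross (u u' : Fin n → F) (hu0 : u ≠ 0) (hu0' : u' ≠ 0) (hu : Q u = 0)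
    (huu' : polar Q u u' = 0) : ∃ w, Q w = 0 ∧ polar Q w u ≠ 0 ∧ polar Q w u' ≠ 0 :=
  SingGeom.exists_singular_cross (toQF Q hQ) (toQF_nondegenerate Q hQ) u u' hu0 hu0' hu huu'

/-- a singular vector orthogonal to `y` and not orthogonal to `x ∉ ⟨y⟩` -/
theorem exists_singular_perp_not_perp (hn : 5 ≤ n) (y x : Fin n → F) (hy : y ≠ 0)
    (hx : ¬ ∃ a : F, x = a • y) : ∃ e, Q e = 0 ∧ polar Q y e = 0 ∧ polar Q e x ≠ 0 := by
  apply SingGeom.exists_singular_perp_not_perp (toQF Q hQ) (toQF_nondegenerate Q hQ)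
    (by rw [finrank_eq hQ]; exact hn) y x hy
  intro hmem
  obtain ⟨a, ha⟩ := Submodule.mem_span_singleton.mp hmem
  exact hx ⟨a, ha.symm⟩

/-- a hyperbolic pair orthogonal to a given nonzero vector -/
theorem exists_hyp_pair_perp (hn : 5 ≤ n) (y : Fin n → F) (hy : y ≠ 0) :
    ∃ e f, Q e = 0 ∧ Q f = 0 ∧ polar Q e f = 1 ∧ polar Q y e = 0 ∧ polar Q y f = 0 :=
  SingGeom.exists_hyp_pair_perp (toQF Q hQ) (toQF_nondegenerate Q hQ)
    (by rw [finrank_eq hQ]; exact hn) y hy

/-- the common orthogonal complement of finitely many vectors -/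
noncomputable def perpMap (k : ℕ) (b : Fin k → (Fin n → F)) : (Fin n → F) →ₗ[F] (Fin k → F) where
  toFun := fun x i => polar Q x (b i)
  map_add' := fun x y => by
    funext i
    exact B_add_left hQ x y (b i)
  map_smul' := fun c x => by
    funext i
    rw [RingHom.id_apply, Pi.smul_apply, smul_eq_mul]
    exact B_smul_left hQ c x (b i)

theorem mem_ker_perpMap (k : ℕ) (b : Fin k → (Fin n → F)) (x : Fin n → F) :
    x ∈ LinearMap.ker (perpMap hQ k b) ↔ ∀ i, polar Q x (b i) = 0 := by
  rw [LinearMap.mem_ker]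
  constructor
  · intro h i
    exact congrFun h i
  · intro h
    funext i
    exact h i

theorem finrank_ker_perpMap (k : ℕ) (b : Fin k → (Fin n → F)) :
    n ≤ finrank F (LinearMap.ker (perpMap hQ k b)) + k := by
  have h2 := LinearMap.finrank_range_add_finrank_ker (perpMap hQ k b)
  have h3 : finrank F (LinearMap.range (perpMap hQ k b)) ≤ k := by
    have := Submodule.finrank_le (LinearMap.range (perpMap hQ k b))
    rwa [Module.finrank_fintype_fun_eq_card, Fintype.card_fin] at this
  rw [finrank_eq hQ] at h2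
  omega

/-- an anisotropic vector orthogonal to few given vectors -/
theorem exists_aniso_perp (k : ℕ) (b : Fin k → (Fin n → F)) (hk : 2 * k < n) :
    ∃ d, Q d ≠ 0 ∧ ∀ i, polar Q d (b i) = 0 := by
  by_contra hcon
  push Not at hcon
  have hnd := toQF_nondegenerate Q hQ
  set Bf := QuadraticMap.polarBilin (toQF Q hQ) with hBf
  have hBapp : ∀ x y, Bf x y = polar Q x y := by
    intro x y
    rw [hBf, QuadraticMap.polarBilin_apply_apply]
    rfl
  set W := LinearMap.ker (perpMap hQ k b) with hW
  have hsing : ∀ z ∈ W, Q z = 0 := by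
    intro z hz
    by_contra hne
    obtain ⟨i, hi⟩ := hcon z hne
    exact hi ((mem_ker_perpMap hQ k b z).mp hz i)
  have hle : W ≤ LinearMap.BilinForm.orthogonal Bf W := by
    intro z hz
    rw [LinearMap.BilinForm.mem_orthogonal_iff]
    intro t ht
    show Bf t z = 0
    rw [hBapp]
    unfold polar
    rw [hsing _ (Submodule.add_mem _ ht hz), hsing t ht, hsing z hz]
    ring
  have h1 := Submodule.finrank_mono hle
  have h5 := LinearMap.BilinForm.finrank_orthogonal hnd W
  have h3 := finrank_ker_perpMap hQ k b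
  rw [finrank_eq hQ] at h5
  rw [← hW] at h3
  omega

/-- a non-zero singular vector orthogonal to few given vectors -/
theorem exists_singular_perp (k : ℕ) (b : Fin k → (Fin n → F)) (hk : k + 3 ≤ n) :
    ∃ e, e ≠ 0 ∧ Q e = 0 ∧ ∀ i, polar Q e (b i) = 0 := by
  have h3 := finrank_ker_perpMap hQ k b
  obtain ⟨e, heU, he0, he⟩ := SingGeom.exists_singular_in (toQF Q hQ)
    (LinearMap.ker (perpMap hQ k b)) (by omega)
  exact ⟨e, he0, he, (mem_ker_perpMap hQ k b e).mp heU⟩

/-- every vector is a sum of two singular vectors -/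
theorem exists_singular_decomp (hn : 5 ≤ n) (y : Fin n → F) :
    ∃ v₁ v₂, Q v₁ = 0 ∧ Q v₂ = 0 ∧ y = v₁ + v₂ := by
  by_cases hy : y = 0
  · exact ⟨0, 0, Q_zero hQ, Q_zero hQ, by rw [hy, add_zero]⟩
  obtain ⟨e, he, hye⟩ : ∃ e, Q e = 0 ∧ polar Q y e ≠ 0 := by
    obtain ⟨e₀, he₀0, he₀, -⟩ := exists_singular_perp hQ 0 (fun i => i.elim0) (by omega)
    by_cases h : polar Q e₀ y = 0
    · obtain ⟨w, hw, -, hwy⟩ := exists_singular_cross hQ e₀ y he₀0 hy he₀ h
      exact ⟨w, hw, by rw [B_comm]; exact hwy⟩
    · exact ⟨e₀, he₀, by rw [B_comm]; exact h⟩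
  refine ⟨y + (-(Q y) / polar Q y e) • e, -((-(Q y) / polar Q y e) • e),
    Q_make_singular hQ y e he hye, ?_, by abel⟩
  rw [← neg_smul, hQ.smul, he, mul_zero]

end Cfsg.Agent.Lib.Helper5.QuadGeomOdd
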