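import Mathlib
import Cfsg.Prelude
import Cfsg.Agent.Lib.Helper5.SLSubspaceMax

set_option autoImplicit false
set_option linter.unusedSectionVars false
set_option linter.unusedVariables false
open Cfsg

/-! The similarity group of a symplectic form is maximal in the special linear group. -/

namespace Cfsg.Agent.Lib.Helper5.SpInSLMax

open Matrix Cfsg.Agent.Lib.Helper5.TvGL Cfsg.Agent.Lib.Helper5.SLSubspaceMax

variable {F : Type*} [Field F] {n : ℕ} (f : (Fin n → F) → (Fin n → F) → F)

/-- the functional `x ↦ f x u` as a vector -/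
def phi (u : Fin n → F) : Fin n → F := fun i => f (Pi.single i 1) u

variable {f} (hf : Cfsg.Geo.IsSymplecticForm f)

include hf

theorem phi_dot (u x : Fin n → F) : phi f u ⬝ᵥ x = f x u := by
  let L : (Fin n → F) →ₗ[F] F :=
    { toFun := fun x => f x u
      map_add' := fun x y => hf.bilinear.add_left x y u
      map_smul' := fun c x => by
        rw [hf.bilinear.smul_left, RingHom.id_apply, smul_eq_mul] }
  have h1 := LinearMap.pi_apply_eq_sum_univ L x
  have h2 : L x = f x u := rfl
  rw [← h2, h1]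
  unfold phi dotProduct
  apply Finset.sum_congr rfl
  intro i _
  have h3 : (fun j => if i = j then (1 : F) else 0) = Pi.single i 1 := by
    funext j
    rw [Pi.single_apply]
    simp only [eq_comm]
  rw [h3, smul_eq_mul, mul_comm]
  rfl

theorem f_zero_right (x : Fin n → F) : f x 0 = 0 := by
  have := hf.bilinear.smul_right 0 x 0
  rw [zero_smul, zero_mul] at this
  exact this

theorem f_zero_left (x : Fin n → F) : f 0 x = 0 := by
  have := hf.bilinear.smul_left 0 0 x
  rw [zero_smul, zero_mul] at this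
  exact this

theorem f_neg_right (x y : Fin n → F) : f x (-y) = -f x y := by
  have := hf.bilinear.smul_right (-1) x y
  rw [neg_one_smul, neg_one_mul] at this
  exact this

theorem f_sub_right (x y z : Fin n → F) : f x (y - z) = f x y - f x z := by
  rw [sub_eq_add_neg, hf.bilinear.add_right, f_neg_right hf, sub_eq_add_neg]

theorem f_sub_left (x y z : Fin n → F) : f (x - y) z = f x z - f y z := by
  rw [hf.skew, f_sub_right hf, hf.skew z x, hf.skew z y]
  ring

theorem eq_zero_of_forall (u : Fin n → F) (h : ∀ x, f x u = 0) : u = 0 := by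
  by_contra hu
  obtain ⟨x, hx⟩ := (hf.nondegenerate u hu).1
  exact hx (h x)

theorem phi_add (u u' : Fin n → F) : phi f (u + u') = phi f u + phi f u' := by
  funext i
  exact hf.bilinear.add_right _ u u'

theorem phi_smul (c : F) (u : Fin n → F) : phi f (c • u) = c • phi f u := by
  funext i
  exact hf.bilinear.smul_right c _ u

/-- every functional is represented by a vector -/
theorem exists_phi (ψ : Fin n → F) : ∃ u, phi f u = ψ := by
  let Φ : (Fin n → F) →ₗ[F] (Fin n → F) :=
    { toFun := phi f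
      map_add' := phi_add hf
      map_smul' := fun c u => by rw [phi_smul hf, RingHom.id_apply] }
  have hinj : Function.Injective Φ := by
    rw [← LinearMap.ker_eq_bot, LinearMap.ker_eq_bot']
    intro u hu
    apply eq_zero_of_forall hf
    intro x
    rw [← phi_dot hf]
    have : phi f u = 0 := hu
    rw [this, zero_dotProduct]
  exact LinearMap.injective_iff_surjective.mp hinj ψ

/-- a functional vanishing on the kernel of another one is proportional to it -/
theorem exists_smul_of_ker (u p : Fin n → F) (h : ∀ y, f y u = 0 → f y p = 0) :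
    ∃ a : F, p = a • u := by
  by_cases hu : u = 0
  · refine ⟨0, ?_⟩
    rw [zero_smul]
    apply eq_zero_of_forall hf
    intro y
    apply h
    rw [hu, f_zero_right hf]
  obtain ⟨x₀, hx₀⟩ := (hf.nondegenerate u hu).1
  refine ⟨f x₀ p / f x₀ u, ?_⟩
  have : p - (f x₀ p / f x₀ u) • u = 0 := by
    apply eq_zero_of_forall hf
    intro y
    have h1 := h (y - (f y u / f x₀ u) • x₀) (by
      rw [f_sub_left hf, hf.bilinear.smul_left, div_mul_cancel₀ _ hx₀, sub_self])
    rw [f_sub_left hf, hf.bilinear.smul_left, sub_eq_zero] at h1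
    rw [f_sub_right hf, hf.bilinear.smul_right, h1]
    field_simp
    ring
  exact sub_eq_zero.mp this

/-- a vector pairing non-trivially with two given non-zero vectors -/
theorem exists_cross (x v : Fin n → F) (hx : x ≠ 0) (hv : v ≠ 0) :
    ∃ z, f z x ≠ 0 ∧ f z v ≠ 0 := by
  obtain ⟨z₁, h₁⟩ := (hf.nondegenerate x hx).1
  obtain ⟨z₂, h₂⟩ := (hf.nondegenerate v hv).1
  by_cases h3 : f z₁ v = 0
  · by_cases h4 : f z₂ x = 0
    · refine ⟨z₁ + z₂, ?_, ?_⟩
      · rw [hf.bilinear.add_left, h4, add_zero]; exact h₁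
      · rw [hf.bilinear.add_left, h3, zero_add]; exact h₂
    · exact ⟨z₂, h4, h₂⟩
  · exact ⟨z₁, h₁, h3⟩

omit hf in
theorem tvMat_mul (ψ₁ ψ₂ p : Fin n → F) (h : ψ₁ ⬝ᵥ p = 0) :
    tvMat ψ₁ p * tvMat ψ₂ p = tvMat (ψ₁ + ψ₂) p := by
  rw [ext_iff_mulVec]
  intro x
  rw [← mulVec_mulVec, tvMat_mulVec, tvMat_mulVec, tvMat_mulVec, dotProduct_add, dotProduct_smul, h,
    add_dotProduct]
  simp only [smul_eq_mul, mul_zero, add_zero]
  rw [add_smul]
  abel

omit hf in
theorem conj_tvMat (m : GL (Fin n) F) (ψ p : Fin n → F) :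
    (m : Matrix (Fin n) (Fin n) F) * tvMat ψ p * ((m⁻¹ : GL (Fin n) F) : Matrix (Fin n) (Fin n) F) =
      tvMat (ψ ᵥ* ((m⁻¹ : GL (Fin n) F) : Matrix (Fin n) (Fin n) F))
        ((m : Matrix (Fin n) (Fin n) F) *ᵥ p) := by
  unfold tvMat
  rw [mul_add, add_mul, mul_one, ← Units.val_mul, mul_inv_cancel, Units.val_one,
    mul_vecMulVec, vecMulVec_mul]

/-- the group element with a given transvection matrix -/
noncomputable def mkTv (ψ p : Fin n → F) (h : ψ ⬝ᵥ p = 0) : GL (Fin n) F :=
  Matrix.GeneralLinearGroup.mk'' (tvMat ψ p) (by rw [det_tvMat ψ p h]; exact isUnit_one)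

omit hf in
theorem mkTv_coe (ψ p : Fin n → F) (h : ψ ⬝ᵥ p = 0) :
    ((mkTv ψ p h : GL (Fin n) F) : Matrix (Fin n) (Fin n) F) = tvMat ψ p := rfl

/-- the symplectic transvections are isometries of determinant one -/
theorem tv_mem (v : Fin n → F) (c : F) (g : GL (Fin n) F)
    (hg : (g : Matrix (Fin n) (Fin n) F) = tvMat (c • phi f v) v) :
    g ∈ Cfsg.Geo.similarityGroup f ⊓ Cfsg.Geo.specialLinear (Fin n) F := by
  have hvv : (c • phi f v) ⬝ᵥ v = 0 := by
    rw [smul_dotProduct, phi_dot hf, hf.alternating, smul_zero]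
  rw [Subgroup.mem_inf, mem_specialLinear_iff]
  refine ⟨⟨1, fun x y => ?_⟩, by rw [hg, det_tvMat _ _ hvv]⟩
  rw [hg, tvMat_mulVec, tvMat_mulVec, smul_dotProduct, smul_dotProduct, phi_dot hf, phi_dot hf,
    hf.bilinear.add_left, hf.bilinear.add_right, hf.bilinear.add_right, hf.bilinear.smul_left,
    hf.bilinear.smul_left, hf.bilinear.smul_right, hf.bilinear.smul_right, hf.alternating,
    hf.skew v y, Units.val_one]
  simp only [smul_eq_mul]
  ring


omit hf in
/-- partial centre: `M` contains the transvection `x ↦ x + f(x,u) p` -/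
def InA (f : (Fin n → F) → (Fin n → F) → F) (M : Subgroup (GL (Fin n) F)) (p u : Fin n → F) :
    Prop :=
  f p u = 0 ∧ ∀ g : GL (Fin n) F, (g : Matrix (Fin n) (Fin n) F) = tvMat (phi f u) p → g ∈ M

section overgroup
variable {M : Subgroup (GL (Fin n) F)}
  (hPM : Cfsg.Geo.similarityGroup f ⊓ Cfsg.Geo.specialLinear (Fin n) F ≤ M)

theorem inA_add {p u u' : Fin n → F} (h1 : InA f M p u) (h2 : InA f M p u') :
    InA f M p (u + u') := by
  refine ⟨by rw [hf.bilinear.add_right, h1.1, h2.1, add_zero], fun g hg => ?_⟩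
  have e1 : phi f u ⬝ᵥ p = 0 := by rw [phi_dot hf]; exact h1.1
  have e2 : phi f u' ⬝ᵥ p = 0 := by rw [phi_dot hf]; exact h2.1
  have : g = mkTv (phi f u) p e1 * mkTv (phi f u') p e2 := by
    apply Units.ext
    rw [hg, Units.val_mul, mkTv_coe, mkTv_coe, tvMat_mul _ _ _ e1, phi_add hf]
  rw [this]
  exact M.mul_mem (h1.2 _ rfl) (h2.2 _ rfl)

include hPM in
theorem inA_smul_self (p : Fin n → F) (c : F) : InA f M p (c • p) := by
  refine ⟨by rw [hf.bilinear.smul_right, hf.alternating, mul_zero], fun g hg => ?_⟩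
  apply hPM
  apply tv_mem hf p c g
  rw [hg, phi_smul hf]

theorem inA_neg {p u : Fin n → F} (h : InA f M p u) : InA f M p (-u) := by
  refine ⟨by rw [f_neg_right hf, h.1, neg_zero], fun g hg => ?_⟩
  have e1 : phi f u ⬝ᵥ p = 0 := by rw [phi_dot hf]; exact h.1
  have hmul : g * mkTv (phi f u) p e1 = 1 := by
    apply Units.ext
    have e2 : phi f (-u) ⬝ᵥ p = 0 := by rw [phi_dot hf, f_neg_right hf, h.1, neg_zero]
    rw [Units.val_mul, hg, mkTv_coe, tvMat_mul _ _ _ e2, ← phi_add hf, neg_add_cancel]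
    have : phi f (0 : Fin n → F) = 0 := by
      funext i
      exact f_zero_right hf _
    rw [this]
    unfold tvMat
    simp
  have : g = (mkTv (phi f u) p e1)⁻¹ := eq_inv_of_mul_eq_one_left hmul
  rw [this]
  exact M.inv_mem (h.2 _ rfl)

include hPM in
theorem inA_conj {p u w : Fin n → F} (h : InA f M p u) (hw : f p w = 0) (c : F) :
    InA f M p (u + (c * f u w) • w) := by
  have hww : (c • phi f w) ⬝ᵥ w = 0 := by
    rw [smul_dotProduct, phi_dot hf, hf.alternating, smul_zero]
  obtain ⟨T, hT⟩ : ∃ T : GL (Fin n) F, T = mkTv (c • phi f w) w hww := ⟨_, rfl⟩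
  have hTM : T ∈ M := hPM (tv_mem hf w c T (by rw [hT]; rfl))
  have hTact : ∀ x, (T : Matrix (Fin n) (Fin n) F) *ᵥ x = x + (c * f x w) • w := by
    intro x
    rw [hT, mkTv_coe, tvMat_mulVec, smul_dotProduct, phi_dot hf, smul_eq_mul]
  have hTiso : ∀ x y, f ((T : Matrix (Fin n) (Fin n) F) *ᵥ x)
      ((T : Matrix (Fin n) (Fin n) F) *ᵥ y) = f x y := by
    intro x y
    rw [hTact, hTact, hf.bilinear.add_left, hf.bilinear.add_right, hf.bilinear.add_right,
      hf.bilinear.smul_left, hf.bilinear.smul_left, hf.bilinear.smul_right,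
      hf.bilinear.smul_right, hf.alternating, hf.skew w y]
    ring
  have hTp : (T : Matrix (Fin n) (Fin n) F) *ᵥ p = p := by
    rw [hTact, hw, mul_zero, zero_smul, add_zero]
  refine ⟨?_, fun g hg => ?_⟩
  · rw [hf.bilinear.add_right, hf.bilinear.smul_right, h.1, hw, mul_zero, add_zero]
  · have e1 : phi f u ⬝ᵥ p = 0 := by rw [phi_dot hf]; exact h.1
    have hconj : g = T * mkTv (phi f u) p e1 * T⁻¹ := by
      apply Units.ext
      have hG : ((mkTv (phi f u) p e1 : GL (Fin n) F) : Matrix (Fin n) (Fin n) F) =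
          tvMat (phi f u) p := rfl
      rw [Units.val_mul, Units.val_mul, hG, conj_tvMat, hTp, hg]
      congr 1
      apply dotProduct_eq
      intro x
      rw [phi_dot hf, ← dotProduct_mulVec, phi_dot hf, ← hTact u]
      have key := hTiso (((T⁻¹ : GL (Fin n) F) : Matrix (Fin n) (Fin n) F) *ᵥ x) u
      rw [mulVec_mulVec, ← Units.val_mul, mul_inv_cancel, Units.val_one, one_mulVec] at key
      exact key
    rw [hconj]
    exact M.mul_mem (M.mul_mem hTM (h.2 _ rfl)) (M.inv_mem hTM)

include hPM in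
theorem inA_smul_of_ne {p u w : Fin n → F} (h : InA f M p u) (hw : f p w = 0)
    (huw : f u w ≠ 0) (a : F) : InA f M p (a • w) := by
  have h1 := inA_conj hf hPM h hw (a / f u w)
  rw [div_mul_cancel₀ _ huw] at h1
  have h2 := inA_add hf h1 (inA_neg hf h)
  have e : u + a • w + -u = a • w := by abel
  rw [e] at h2
  exact h2

include hPM in
theorem inA_full {p u : Fin n → F} (h : InA f M p u) (hu : ¬ ∃ a : F, u = a • p)
    (w : Fin n → F) (hw : f p w = 0) : InA f M p w := by
  obtain ⟨w₀, hw₀, huw₀⟩ : ∃ w₀, f p w₀ = 0 ∧ f u w₀ ≠ 0 := by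
    by_contra hcon
    push Not at hcon
    apply hu
    apply exists_smul_of_ker hf p u
    intro y hy
    rw [hf.skew, hcon y (by rw [hf.skew, hy, neg_zero]), neg_zero]
  by_cases huw : f u w = 0
  · have h1 : InA f M p ((1 : F) • (w + w₀)) := inA_smul_of_ne hf hPM h
      (by rw [hf.bilinear.add_right, hw, hw₀, add_zero])
      (by rw [hf.bilinear.add_right, huw, zero_add]; exact huw₀) 1
    have h2 : InA f M p ((-1 : F) • w₀) := inA_smul_of_ne hf hPM h hw₀ huw₀ (-1)
    have h3 := inA_add hf h1 h2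
    have e : (1 : F) • (w + w₀) + (-1 : F) • w₀ = w := by
      rw [one_smul, neg_smul, one_smul]; abel
    rw [e] at h3
    exact h3
  · have h1 := inA_smul_of_ne hf hPM h hw huw 1
    rw [one_smul] at h1
    exact h1

theorem isCentre_of_full {p : Fin n → F} (h : ∀ w, f p w = 0 → InA f M p w) : IsCentre M p := by
  intro ψ hψ g hg
  obtain ⟨u, rfl⟩ := exists_phi hf ψ
  rw [phi_dot hf] at hψ
  exact (h u hψ).2 g hg

include hPM in
theorem isCentre_all {p : Fin n → F} (hp0 : p ≠ 0) (hp : IsCentre M p) : ∀ v, IsCentre M v := by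
  have key : ∀ w, f p w ≠ 0 → IsCentre M w := by
    intro w hw
    have hww : ((f p w)⁻¹ • phi f w) ⬝ᵥ w = 0 := by
      rw [smul_dotProduct, phi_dot hf, hf.alternating, smul_zero]
    have hTM : mkTv ((f p w)⁻¹ • phi f w) w hww ∈ M := hPM (tv_mem hf w _ _ rfl)
    have h1 := isCentre_mulVec M p _ hTM hp
    rw [mkTv_coe, tvMat_mulVec, smul_dotProduct, phi_dot hf, smul_eq_mul, inv_mul_cancel₀ hw,
      one_smul] at h1
    have h2 := isCentre_add M _ _ h1 (isCentre_smul M p (-1) hp)
    have e : p + w + (-1 : F) • p = w := by rw [neg_smul, one_smul]; abel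
    rw [e] at h2
    exact h2
  intro v
  by_cases hv : f p v = 0
  · obtain ⟨w₀, hw₀⟩ := (hf.nondegenerate p hp0).2
    have h1 := key (v + w₀) (by rw [hf.bilinear.add_right, hv, zero_add]; exact hw₀)
    have h2 := isCentre_add M _ _ h1 (isCentre_smul M w₀ (-1) (key w₀ hw₀))
    have e : v + w₀ + (-1 : F) • w₀ = v := by rw [neg_smul, one_smul]; abel
    rw [e] at h2
    exact h2
  · exact key v hv

end overgroup

/-- a matrix preserving orthogonality is a similarity -/
theorem mem_similarityGroup_of_perp (hn : 1 ≤ n) (g : GL (Fin n) F)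
    (h : ∀ x v, f x v = 0 → f ((g : Matrix (Fin n) (Fin n) F) *ᵥ x)
      ((g : Matrix (Fin n) (Fin n) F) *ᵥ v) = 0) : g ∈ Cfsg.Geo.similarityGroup f := by
  have hsurj : ∀ y, ∃ x, (g : Matrix (Fin n) (Fin n) F) *ᵥ x = y := by
    intro y
    refine ⟨((g⁻¹ : GL (Fin n) F) : Matrix (Fin n) (Fin n) F) *ᵥ y, ?_⟩
    rw [mulVec_mulVec, ← Units.val_mul, mul_inv_cancel, Units.val_one, one_mulVec]
  have hinj : ∀ x, (g : Matrix (Fin n) (Fin n) F) *ᵥ x = 0 → x = 0 := by
    intro x hx
    have := congrArg (fun y => ((g⁻¹ : GL (Fin n) F) : Matrix (Fin n) (Fin n) F) *ᵥ y) hx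
    simp only [mulVec_mulVec, mulVec_zero] at this
    rwa [← Units.val_mul, inv_mul_cancel, Units.val_one, one_mulVec] at this
  -- the proportionality factor of each vector
  have hc : ∀ v, ∃ c : F, ∀ x, f ((g : Matrix (Fin n) (Fin n) F) *ᵥ x)
      ((g : Matrix (Fin n) (Fin n) F) *ᵥ v) = c * f x v := by
    intro v
    obtain ⟨u', hu'⟩ := exists_phi hf
      (phi f ((g : Matrix (Fin n) (Fin n) F) *ᵥ v) ᵥ* (g : Matrix (Fin n) (Fin n) F))
    have hu'' : ∀ x, f x u' = f ((g : Matrix (Fin n) (Fin n) F) *ᵥ x)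
        ((g : Matrix (Fin n) (Fin n) F) *ᵥ v) := by
      intro x
      rw [← phi_dot hf, hu', ← dotProduct_mulVec, phi_dot hf]
    obtain ⟨c, hcv⟩ := exists_smul_of_ker hf v u' (fun y hy => by rw [hu'']; exact h y v hy)
    refine ⟨c, fun x => ?_⟩
    rw [← hu'', hcv, hf.bilinear.smul_right]
  choose c hc using hc
  have hcc : ∀ x v, f x v ≠ 0 → c v = c x := by
    intro x v hxv
    have h1 := hc v x
    have h2 := hc x v
    rw [hf.skew, h2, hf.skew v x] at h1
    have h3 : (c v - c x) * f x v = 0 := by linear_combination -h1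
    rcases mul_eq_zero.mp h3 with h4 | h4
    · exact sub_eq_zero.mp h4
    · exact absurd h4 hxv
  set v₀ : Fin n → F := Pi.single ⟨0, by omega⟩ 1 with hv₀
  have hv₀0 : v₀ ≠ 0 := by
    intro h0
    have := congrFun h0 ⟨0, by omega⟩
    rw [hv₀, Pi.single_eq_same] at this
    exact one_ne_zero this
  have hconst : ∀ v, v ≠ 0 → c v = c v₀ := by
    intro v hv
    obtain ⟨z, hz1, hz2⟩ := exists_cross hf v v₀ hv hv₀0
    rw [hcc z v hz1, hcc z v₀ hz2]
  have hc0 : c v₀ ≠ 0 := by
    intro h0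
    apply hv₀0
    apply hinj
    apply eq_zero_of_forall hf
    intro y
    obtain ⟨x, rfl⟩ := hsurj y
    rw [hc, h0, zero_mul]
  refine ⟨Units.mk0 (c v₀) hc0, fun u v => ?_⟩
  rw [Units.val_mk0]
  by_cases hv : v = 0
  · rw [hv, mulVec_zero, f_zero_right hf, f_zero_right hf, mul_zero]
  · rw [hc, hconst v hv]

theorem isMaximalIn (hn : 3 ≤ n) :
    Cfsg.Geo.IsMaximalIn (Cfsg.Geo.specialLinear (Fin n) F)
      (Cfsg.Geo.similarityGroup f ⊓ Cfsg.Geo.specialLinear (Fin n) F) := by
  refine ⟨lt_of_le_of_ne inf_le_right ?_, ?_⟩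
  · -- a transvection which is not a similarity
    intro hEq
    set p : Fin n → F := Pi.single ⟨0, by omega⟩ 1 with hp
    set e₁ : Fin n → F := Pi.single ⟨1, by omega⟩ 1 with he₁
    set e₂ : Fin n → F := Pi.single ⟨2, by omega⟩ 1 with he₂
    have hp0 : p ≠ 0 := by
      intro h0
      have := congrFun h0 ⟨0, by omega⟩
      rw [hp, Pi.single_eq_same] at this
      exact one_ne_zero this
    have h01 : (⟨0, by omega⟩ : Fin n) ≠ ⟨1, by omega⟩ := by
      intro h; have := congrArg Fin.val h; simp at this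
    have h12 : (⟨1, by omega⟩ : Fin n) ≠ ⟨2, by omega⟩ := by
      intro h; have := congrArg Fin.val h; simp at this
    have h02 : (⟨0, by omega⟩ : Fin n) ≠ ⟨2, by omega⟩ := by
      intro h; have := congrArg Fin.val h; simp at this
    obtain ⟨u, hpu, hu⟩ : ∃ u, f p u = 0 ∧ ¬ ∃ a : F, u = a • p := by
      by_cases h1 : f p e₁ = 0
      · refine ⟨e₁, h1, ?_⟩
        rintro ⟨a, ha⟩
        have := congrFun ha ⟨1, by omega⟩
        rw [he₁, hp, Pi.single_eq_same, Pi.smul_apply, Pi.single_eq_of_ne h01.symm,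
          smul_zero] at this
        exact one_ne_zero this
      · by_cases h2 : f p e₂ = 0
        · refine ⟨e₂, h2, ?_⟩
          rintro ⟨a, ha⟩
          have := congrFun ha ⟨2, by omega⟩
          rw [he₂, hp, Pi.single_eq_same, Pi.smul_apply, Pi.single_eq_of_ne h02.symm,
            smul_zero] at this
          exact one_ne_zero this
        · refine ⟨e₁ - (f p e₁ / f p e₂) • e₂, ?_, ?_⟩
          · rw [f_sub_right hf, hf.bilinear.smul_right, div_mul_cancel₀ _ h2, sub_self]
          · rintro ⟨a, ha⟩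
            have := congrFun ha ⟨1, by omega⟩
            rw [he₁, he₂, hp, Pi.sub_apply, Pi.single_eq_same, Pi.smul_apply, Pi.smul_apply,
              Pi.single_eq_of_ne h12, Pi.single_eq_of_ne h01.symm, smul_zero, smul_zero,
              sub_zero] at this
            exact one_ne_zero this
    have e1 : phi f u ⬝ᵥ p = 0 := by rw [phi_dot hf]; exact hpu
    have hmem : mkTv (phi f u) p e1 ∈ Cfsg.Geo.similarityGroup f ⊓
        Cfsg.Geo.specialLinear (Fin n) F := by
      rw [hEq, mem_specialLinear_iff, mkTv_coe, det_tvMat _ _ e1]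
    obtain ⟨c, hc⟩ := hmem.1
    have hact : ∀ x, ((mkTv (phi f u) p e1 : GL (Fin n) F) : Matrix (Fin n) (Fin n) F) *ᵥ x =
        x + f x u • p := by
      intro x
      rw [mkTv_coe, tvMat_mulVec, phi_dot hf]
    obtain ⟨y, hyu, hpy⟩ : ∃ y, f y u = 0 ∧ f p y ≠ 0 := by
      by_contra hcon
      push Not at hcon
      obtain ⟨a, ha⟩ := exists_smul_of_ker hf u p (fun y hy => by
        rw [hf.skew, hcon y hy, neg_zero])
      have ha0 : a ≠ 0 := by
        rintro rfl
        rw [zero_smul] at ha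
        exact hp0 ha
      apply hu
      refine ⟨a⁻¹, ?_⟩
      rw [ha, smul_smul, inv_mul_cancel₀ ha0, one_smul]
    have hc1 : (c : F) = 1 := by
      have h1 := hc p y
      rw [hact, hact, hyu, zero_smul, add_zero, hpu, zero_smul, add_zero] at h1
      have h2 : ((c : F) - 1) * f p y = 0 := by linear_combination -h1
      rcases mul_eq_zero.mp h2 with h3 | h3
      · exact sub_eq_zero.mp h3
      · exact absurd h3 hpy
    obtain ⟨y₁, hy₁p, hy₁u⟩ : ∃ y₁, f y₁ p = 0 ∧ f y₁ u ≠ 0 := by
      by_contra hcon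
      push Not at hcon
      exact hu (exists_smul_of_ker hf p u hcon)
    obtain ⟨x₁, hx₁⟩ := (hf.nondegenerate p hp0).1
    have h1 := hc x₁ y₁
    rw [hact, hact, hc1, one_mul, hf.bilinear.add_left, hf.bilinear.add_right,
      hf.bilinear.add_right, hf.bilinear.smul_left, hf.bilinear.smul_left,
      hf.bilinear.smul_right, hf.bilinear.smul_right, hf.alternating, hf.skew p y₁, hy₁p] at h1
    have h2 : f y₁ u * f x₁ p = 0 := by linear_combination h1
    rcases mul_eq_zero.mp h2 with h3 | h3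
    · exact hy₁u h3
    · exact hx₁ h3
  · intro M hPM hMS
    by_cases hMP : M ≤ Cfsg.Geo.similarityGroup f ⊓ Cfsg.Geo.specialLinear (Fin n) F
    · left
      exact le_antisymm hMP hPM
    right
    apply le_antisymm hMS
    apply specialLinear_le (by omega)
    obtain ⟨g, hgM, hgP⟩ := SetLike.not_le_iff_exists.mp hMP
    have hgS : g ∉ Cfsg.Geo.similarityGroup f := fun h => hgP ⟨h, hMS hgM⟩
    obtain ⟨x, v, hxv, hgxv⟩ : ∃ x v, f x v = 0 ∧ f ((g : Matrix (Fin n) (Fin n) F) *ᵥ x)
        ((g : Matrix (Fin n) (Fin n) F) *ᵥ v) ≠ 0 := by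
      by_contra hcon
      push Not at hcon
      exact hgS (mem_similarityGroup_of_perp hf (by omega) g hcon)
    have hvv : ((1 : F) • phi f v) ⬝ᵥ v = 0 := by
      rw [smul_dotProduct, phi_dot hf, hf.alternating, smul_zero]
    have hTM : mkTv ((1 : F) • phi f v) v hvv ∈ M := hPM (tv_mem hf v 1 _ rfl)
    obtain ⟨u, hu⟩ := exists_phi hf
      (((1 : F) • phi f v) ᵥ* ((g⁻¹ : GL (Fin n) F) : Matrix (Fin n) (Fin n) F))
    have hu' : ∀ y, f y u = f (((g⁻¹ : GL (Fin n) F) : Matrix (Fin n) (Fin n) F) *ᵥ y) v := by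
      intro y
      rw [← phi_dot hf, hu, ← dotProduct_mulVec, smul_dotProduct, phi_dot hf, one_smul]
    have hginv : ∀ y, ((g⁻¹ : GL (Fin n) F) : Matrix (Fin n) (Fin n) F) *ᵥ
        ((g : Matrix (Fin n) (Fin n) F) *ᵥ y) = y := by
      intro y
      rw [mulVec_mulVec, ← Units.val_mul, inv_mul_cancel, Units.val_one, one_mulVec]
    have hA : InA f M ((g : Matrix (Fin n) (Fin n) F) *ᵥ v) u := by
      refine ⟨by rw [hu', hginv, hf.alternating], fun g' hg' => ?_⟩
      have : g' = g * mkTv ((1 : F) • phi f v) v hvv * g⁻¹ := by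
        apply Units.ext
        rw [Units.val_mul, Units.val_mul, mkTv_coe, conj_tvMat, hg', hu]
      rw [this]
      exact M.mul_mem (M.mul_mem hgM hTM) (M.inv_mem hgM)
    have hnot : ¬ ∃ a : F, u = a • ((g : Matrix (Fin n) (Fin n) F) *ᵥ v) := by
      rintro ⟨a, ha⟩
      have h1 := hu' ((g : Matrix (Fin n) (Fin n) F) *ᵥ x)
      rw [hginv, hxv, ha, hf.bilinear.smul_right] at h1
      rcases mul_eq_zero.mp h1 with h2 | h2
      · rw [h2, zero_smul] at ha
        have hv0 : v = 0 := by
          apply eq_zero_of_forall hf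
          intro y
          have h3 := hu' ((g : Matrix (Fin n) (Fin n) F) *ᵥ y)
          rw [hginv, ha, f_zero_right hf] at h3
          exact h3.symm
        apply hgxv
        rw [hv0, mulVec_zero, f_zero_right hf]
      · exact hgxv h2
    have hp0 : (g : Matrix (Fin n) (Fin n) F) *ᵥ v ≠ 0 := by
      intro h0
      apply hgxv
      rw [h0, f_zero_right hf]
    have hC := isCentre_of_full hf (fun w hw => inA_full hf hPM hA hnot w hw)
    exact isCentre_all hf hPM hp0 hC

end Cfsg.Agent.Lib.Helper5.SpInSLMax
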