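import Mathlib
import Cfsg.Prelude
import Cfsg.Agent.Lib.Helper5.QuadGeomOdd
import Cfsg.Agent.Lib.Helper5.SpInSLMax

set_option autoImplicit false
set_option linter.unusedSectionVars false
set_option linter.unusedVariables false
open Cfsg

/-! The similarity group of a quadratic form in odd characteristic is maximal in the special linear
group. -/

namespace Cfsg.Agent.Lib.Helper5.OInSLMax

open Matrix Module QuadraticMap Cfsg.Agent.Lib.Helper5.TvGL Cfsg.Agent.Lib.Helper5.SLSubspaceMax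
  Cfsg.Agent.Lib.Helper5.QuadGeomOdd
open Cfsg.Agent.Lib.Helper5.SpInSLMax (tvMat_mul conj_tvMat mkTv mkTv_coe)

variable {F : Type*} [Field F] [Fintype F] {n : ℕ}

/-- the matrix of a Siegel transformation -/
noncomputable def sgMat (Q : (Fin n → F) → F) (e s : Fin n → F) : Matrix (Fin n) (Fin n) F :=
  tvMat (phi Q e) s * tvMat (-(phi Q (s + Q s • e))) e

variable {Q : (Fin n → F) → F} (hQ : Cfsg.Geo.IsNondegenerateQuadraticForm Q)

include hQ

theorem sgMat_mulVec (e s : Fin n → F) (he : Q e = 0) (hes : polar Q e s = 0) (x : Fin n → F) :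
    sgMat Q e s *ᵥ x = x + polar Q x e • s - (polar Q x s + Q s * polar Q x e) • e := by
  have h1 : tvMat (-(phi Q (s + Q s • e))) e *ᵥ x =
      x - (polar Q x s + Q s * polar Q x e) • e := by
    rw [tvMat_mulVec, neg_dotProduct, phi_dot hQ, B_add_right hQ, B_smul_right hQ, neg_smul,
      sub_eq_add_neg]
  unfold sgMat
  rw [← mulVec_mulVec, h1, tvMat_mulVec, phi_dot hQ, B_sub_left hQ, B_smul_left hQ, B_self hQ e,
    he, mul_zero, mul_zero, sub_zero]
  abel

theorem det_sgMat (e s : Fin n → F) (he : Q e = 0) (hes : polar Q e s = 0) :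
    (sgMat Q e s).det = 1 := by
  unfold sgMat
  rw [det_mul, det_tvMat, det_tvMat, one_mul]
  · rw [neg_dotProduct, phi_dot hQ, B_add_right hQ, B_smul_right hQ, hes, B_self hQ e, he]
    ring
  · rw [phi_dot hQ, B_comm, hes]

/-- a Siegel transformation as an element of the general linear group -/
noncomputable def sgGL (e s : Fin n → F) (he : Q e = 0) (hes : polar Q e s = 0) :
    GL (Fin n) F :=
  Matrix.GeneralLinearGroup.mk'' (sgMat Q e s) (by
    rw [det_sgMat hQ e s he hes]; exact isUnit_one)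

theorem sgGL_coe (e s : Fin n → F) (he : Q e = 0) (hes : polar Q e s = 0) :
    ((sgGL hQ e s he hes : GL (Fin n) F) : Matrix (Fin n) (Fin n) F) = sgMat Q e s := rfl

theorem sg_iso (e s : Fin n → F) (he : Q e = 0) (hes : polar Q e s = 0) (x : Fin n → F) :
    Q (sgMat Q e s *ᵥ x) = Q x := by
  rw [sgMat_mulVec hQ e s he hes, sub_eq_add_neg, ← neg_smul, Q_add_smul hQ, Q_add_smul hQ, he,
    B_add_left hQ, B_smul_left hQ, B_comm s e, hes]
  ring

theorem sg_polar (e s : Fin n → F) (he : Q e = 0) (hes : polar Q e s = 0) (x y : Fin n → F) :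
    polar Q (sgMat Q e s *ᵥ x) (sgMat Q e s *ᵥ y) = polar Q x y := by
  unfold polar
  rw [← mulVec_add, sg_iso hQ e s he hes, sg_iso hQ e s he hes, sg_iso hQ e s he hes]

theorem sg_mem (e s : Fin n → F) (he : Q e = 0) (hes : polar Q e s = 0) :
    sgGL hQ e s he hes ∈ Cfsg.Geo.quadSimilarityGroup Q ⊓ Cfsg.Geo.specialLinear (Fin n) F := by
  rw [Subgroup.mem_inf, mem_specialLinear_iff]
  refine ⟨⟨1, fun x => ?_⟩, by rw [sgGL_coe, det_sgMat hQ e s he hes]⟩
  rw [sgGL_coe, sg_iso hQ e s he hes, Units.val_one, one_mul]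

omit hQ in
/-- partial centre: `M` contains the transvection `x ↦ x + B(x,u) p` -/
def InA (Q : (Fin n → F) → F) (M : Subgroup (GL (Fin n) F)) (p u : Fin n → F) : Prop :=
  polar Q p u = 0 ∧
    ∀ g : GL (Fin n) F, (g : Matrix (Fin n) (Fin n) F) = tvMat (phi Q u) p → g ∈ M

section overgroup
variable {M : Subgroup (GL (Fin n) F)}
  (hPM : Cfsg.Geo.quadSimilarityGroup Q ⊓ Cfsg.Geo.specialLinear (Fin n) F ≤ M)

theorem inA_zero (p : Fin n → F) : InA Q M p 0 := by
  refine ⟨B_zero_right hQ p, fun g hg => ?_⟩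
  have : g = 1 := by
    apply Units.ext
    rw [hg, phi_zero hQ]
    unfold tvMat
    simp
  rw [this]
  exact one_mem M

theorem inA_add {p u u' : Fin n → F} (h1 : InA Q M p u) (h2 : InA Q M p u') :
    InA Q M p (u + u') := by
  refine ⟨by rw [B_add_right hQ, h1.1, h2.1, add_zero], fun g hg => ?_⟩
  have e1 : phi Q u ⬝ᵥ p = 0 := by rw [phi_dot hQ]; exact h1.1
  have e2 : phi Q u' ⬝ᵥ p = 0 := by rw [phi_dot hQ]; exact h2.1
  have : g = mkTv (phi Q u) p e1 * mkTv (phi Q u') p e2 := by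
    apply Units.ext
    rw [hg, Units.val_mul, mkTv_coe, mkTv_coe, tvMat_mul _ _ _ e1, phi_add hQ]
  rw [this]
  exact M.mul_mem (h1.2 _ rfl) (h2.2 _ rfl)

theorem inA_neg {p u : Fin n → F} (h : InA Q M p u) : InA Q M p (-u) := by
  refine ⟨by rw [B_neg_right hQ, h.1, neg_zero], fun g hg => ?_⟩
  have e1 : phi Q u ⬝ᵥ p = 0 := by rw [phi_dot hQ]; exact h.1
  have hmul : g * mkTv (phi Q u) p e1 = 1 := by
    apply Units.ext
    have e2 : phi Q (-u) ⬝ᵥ p = 0 := by rw [phi_dot hQ, B_neg_right hQ, h.1, neg_zero]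
    rw [Units.val_mul, hg, mkTv_coe, tvMat_mul _ _ _ e2, ← phi_add hQ, neg_add_cancel,
      phi_zero hQ]
    unfold tvMat
    simp
  have : g = (mkTv (phi Q u) p e1)⁻¹ := eq_inv_of_mul_eq_one_left hmul
  rw [this]
  exact M.inv_mem (h.2 _ rfl)

/-- conjugating by an isometry in `M` fixing `p` -/
theorem inA_conj {p u : Fin n → F} (h : InA Q M p u) (T : GL (Fin n) F) (hTM : T ∈ M)
    (hTiso : ∀ x y, polar Q ((T : Matrix (Fin n) (Fin n) F) *ᵥ x)
      ((T : Matrix (Fin n) (Fin n) F) *ᵥ y) = polar Q x y)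
    (hTp : (T : Matrix (Fin n) (Fin n) F) *ᵥ p = p) :
    InA Q M p ((T : Matrix (Fin n) (Fin n) F) *ᵥ u) := by
  refine ⟨?_, fun g hg => ?_⟩
  · have := hTiso p u
    rw [hTp] at this
    rw [this]
    exact h.1
  · have e1 : phi Q u ⬝ᵥ p = 0 := by rw [phi_dot hQ]; exact h.1
    have hconj : g = T * mkTv (phi Q u) p e1 * T⁻¹ := by
      apply Units.ext
      have hG : ((mkTv (phi Q u) p e1 : GL (Fin n) F) : Matrix (Fin n) (Fin n) F) =
          tvMat (phi Q u) p := rfl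
      rw [Units.val_mul, Units.val_mul, hG, conj_tvMat, hTp, hg]
      congr 1
      apply dotProduct_eq
      intro x
      rw [phi_dot hQ, ← dotProduct_mulVec, phi_dot hQ]
      have key := hTiso (((T⁻¹ : GL (Fin n) F) : Matrix (Fin n) (Fin n) F) *ᵥ x) u
      rw [mulVec_mulVec, ← Units.val_mul, mul_inv_cancel, Units.val_one, one_mulVec] at key
      exact key
    rw [hconj]
    exact M.mul_mem (M.mul_mem hTM (h.2 _ rfl)) (M.inv_mem hTM)

include hPM in
/-- the basic step: moving by a Siegel transformation fixing `p` -/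
theorem inA_step {p u e s : Fin n → F} (h : InA Q M p u) (he : Q e = 0)
    (hes : polar Q e s = 0) (hpe : polar Q p e = 0) (hps : polar Q p s = 0) :
    InA Q M p (polar Q u e • s - (polar Q u s + Q s * polar Q u e) • e) := by
  have hTM : sgGL hQ e s he hes ∈ M := hPM (sg_mem hQ e s he hes)
  have h1 := inA_conj hQ h _ hTM (fun x y => by
    rw [sgGL_coe, sg_polar hQ e s he hes])
    (by rw [sgGL_coe, sgMat_mulVec hQ e s he hes, hpe, hps, mul_zero, add_zero, zero_smul,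
      zero_smul, add_zero, sub_zero])
  rw [sgGL_coe, sgMat_mulVec hQ e s he hes] at h1
  have h3 := inA_add hQ h1 (inA_neg hQ h)
  have e1 : u + polar Q u e • s - (polar Q u s + Q s * polar Q u e) • e + -u =
      polar Q u e • s - (polar Q u s + Q s * polar Q u e) • e := by abel
  rw [e1] at h3
  exact h3

/-- the directions all of whose multiples are available -/
def fullDir (M : Subgroup (GL (Fin n) F)) (p : Fin n → F) : Submodule F (Fin n → F) where
  carrier := {x | ∀ μ : F, InA Q M p (μ • x)}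
  add_mem' := by
    intro a b ha hb μ
    rw [smul_add]
    exact inA_add hQ (ha μ) (hb μ)
  zero_mem' := by
    intro μ
    rw [smul_zero]
    exact inA_zero hQ p
  smul_mem' := by
    intro c x hx μ
    rw [smul_smul]
    exact hx _

theorem exists_perp_nonorth (p v : Fin n → F) (hv : ¬ ∃ a : F, v = a • p) :
    ∃ y, polar Q y p = 0 ∧ polar Q y v ≠ 0 := by
  by_contra hcon
  push Not at hcon
  exact hv (exists_smul_of_ker hQ p v hcon)

include hPM in
/-- a first full direction -/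
theorem fullDir_first (hn : 7 ≤ n) {p y₀ : Fin n → F} (hp0 : p ≠ 0) (h : InA Q M p y₀)
    (hy₀ : ¬ ∃ a : F, y₀ = a • p) :
    ∃ e, Q e = 0 ∧ polar Q p e = 0 ∧ (¬ ∃ a : F, e = a • p) ∧ e ∈ fullDir hQ M p := by
  obtain ⟨t₂, ht₂p, ht₂y⟩ := exists_perp_nonorth hQ p y₀ hy₀
  obtain ⟨t₁, ht₁⟩ := exists_pair hQ p hp0
  obtain ⟨e, he0, he, heb⟩ := exists_singular_perp hQ 4 ![p, y₀, t₁, t₂] (by omega)
  have hep : polar Q e p = 0 := heb 0
  have hey : polar Q e y₀ = 0 := heb 1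
  have het₁ : polar Q e t₁ = 0 := heb 2
  have het₂ : polar Q e t₂ = 0 := heb 3
  refine ⟨e, he, by rw [B_comm]; exact hep, ?_, ?_⟩
  · rintro ⟨a, ha⟩
    rw [ha, B_smul_left hQ, B_comm p t₁] at het₁
    rcases mul_eq_zero.mp het₁ with h1 | h1
    · rw [h1, zero_smul] at ha
      exact he0 ha
    · exact ht₁ h1
  · intro μ
    have h1 := inA_step hQ hPM h he (s := (-(μ / polar Q t₂ y₀)) • t₂)
      (by rw [B_smul_right hQ, het₂, mul_zero])
      (by rw [B_comm]; exact hep)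
      (by rw [B_smul_right hQ, B_comm p t₂, ht₂p, mul_zero])
    rw [B_comm y₀ e, hey, zero_smul, mul_zero, add_zero, zero_sub, B_smul_right hQ, B_comm y₀ t₂,
      ← neg_smul, neg_mul, neg_neg, div_mul_cancel₀ _ ht₂y] at h1
    exact h1

include hPM in
theorem fullDir_of_nonorth (h2 : (2 : F) ≠ 0) (hn : 7 ≤ n) {p x e' : Fin n → F}
    (hx : x ∈ fullDir hQ M p) (he' : Q e' = 0) (hpe' : polar Q p e' = 0)
    (hxe' : polar Q x e' ≠ 0) : e' ∈ fullDir hQ M p := by
  obtain ⟨s, hs, hsb⟩ := exists_aniso_perp hQ 3 ![e', p, x] (by omega)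
  have hse' : polar Q s e' = 0 := hsb 0
  have hsp : polar Q s p = 0 := hsb 1
  have hsx : polar Q s x = 0 := hsb 2
  have key : ∀ s' : Fin n → F, polar Q s' e' = 0 → polar Q s' p = 0 → polar Q s' x = 0 →
      s' - Q s' • e' ∈ fullDir hQ M p := by
    intro s' h1 h2' h3 ν
    have h4 := inA_step hQ hPM (hx (ν / polar Q x e')) he' (s := s')
      (by rw [B_comm]; exact h1) hpe' (by rw [B_comm]; exact h2')
    rw [B_smul_left hQ, B_smul_left hQ, div_mul_cancel₀ _ hxe', B_comm x s', h3, mul_zero,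
      zero_add] at h4
    have e1 : ν • s' - (Q s' * ν) • e' = ν • (s' - Q s' • e') := by
      rw [smul_sub, smul_smul, mul_comm]
    rw [e1] at h4
    exact h4
  have h3 := key s hse' hsp hsx
  have h4 := key (-s) (by rw [B_neg_left hQ, hse', neg_zero])
    (by rw [B_neg_left hQ, hsp, neg_zero]) (by rw [B_neg_left hQ, hsx, neg_zero])
  have hQneg : Q (-s) = Q s := by
    have := hQ.smul (-1) s
    rw [neg_one_smul] at this
    rw [this]
    ring
  rw [hQneg] at h4
  have h5 := (fullDir hQ M p).add_mem h3 h4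
  have e2 : s - Q s • e' + (-s - Q s • e') = (-(2 * Q s)) • e' := by
    rw [neg_smul, two_mul, add_smul]
    abel
  rw [e2] at h5
  have h6 := (fullDir hQ M p).smul_mem (-(2 * Q s))⁻¹ h5
  rw [smul_smul, inv_mul_cancel₀ (neg_ne_zero.mpr (mul_ne_zero h2 hs)), one_smul] at h6
  exact h6

include hPM in
theorem fullDir_singular (h2 : (2 : F) ≠ 0) (hn : 7 ≤ n) {p e e' : Fin n → F}
    (heF : e ∈ fullDir hQ M p) (he : Q e = 0) (hpe : polar Q p e = 0)
    (hep : ¬ ∃ a : F, e = a • p) (he' : Q e' = 0) (hpe' : polar Q p e' = 0)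
    (he'p : ¬ ∃ a : F, e' = a • p) : e' ∈ fullDir hQ M p := by
  by_cases hee' : polar Q e e' = 0
  · obtain ⟨x₁, hx₁p, hx₁e⟩ := exists_perp_nonorth hQ p e hep
    obtain ⟨x₂, hx₂p, hx₂e'⟩ := exists_perp_nonorth hQ p e' he'p
    obtain ⟨y, hyp, hye, hye'⟩ : ∃ y, polar Q y p = 0 ∧ polar Q y e ≠ 0 ∧ polar Q y e' ≠ 0 := by
      by_cases h3 : polar Q x₁ e' = 0
      · by_cases h4 : polar Q x₂ e = 0
        · refine ⟨x₁ + x₂, ?_, ?_, ?_⟩
          · rw [B_add_left hQ, hx₁p, hx₂p, add_zero]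
          · rw [B_add_left hQ, h4, add_zero]; exact hx₁e
          · rw [B_add_left hQ, h3, zero_add]; exact hx₂e'
        · exact ⟨x₂, hx₂p, h4, hx₂e'⟩
      · exact ⟨x₁, hx₁p, hx₁e, h3⟩
    set w := y + (-(Q y) / polar Q y e) • e with hw
    have hQw : Q w = 0 := Q_make_singular hQ y e he hye
    have hpw : polar Q p w = 0 := by
      rw [hw, B_add_right hQ, B_smul_right hQ, hpe, mul_zero, add_zero, B_comm]
      exact hyp
    have hew : polar Q e w ≠ 0 := by
      rw [hw, B_add_right hQ, B_smul_right hQ, B_self hQ e, he, mul_zero, mul_zero, add_zero,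
        B_comm]
      exact hye
    have hwe' : polar Q w e' ≠ 0 := by
      rw [hw, B_add_left hQ, B_smul_left hQ, hee', mul_zero, add_zero]
      exact hye'
    have hwF := fullDir_of_nonorth hQ hPM h2 hn heF hQw hpw hew
    exact fullDir_of_nonorth hQ hPM h2 hn hwF he' hpe' hwe'
  · exact fullDir_of_nonorth hQ hPM h2 hn heF he' hpe' hee'

include hPM in
/-- one transvection with centre `p` gives all of them -/
theorem inA_all (h2 : (2 : F) ≠ 0) (hn : 7 ≤ n) {p y₀ : Fin n → F} (hp0 : p ≠ 0)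
    (h : InA Q M p y₀) (hy₀ : ¬ ∃ a : F, y₀ = a • p) (y : Fin n → F) (hy : polar Q p y = 0) :
    InA Q M p y := by
  obtain ⟨e, he, hpe, hep, heF⟩ := fullDir_first hQ hPM hn hp0 h hy₀
  obtain ⟨e₁, e₂, he₁, he₂, he₁₂, hpe₁, hpe₂⟩ := exists_hyp_pair_perp hQ (by omega) p hp0
  have he₁p : ¬ ∃ a : F, e₁ = a • p := by
    rintro ⟨a, ha⟩
    rw [ha, B_smul_left hQ, hpe₂, mul_zero] at he₁₂
    exact zero_ne_one he₁₂
  have he₁F := fullDir_singular hQ hPM h2 hn heF he hpe hep he₁ hpe₁ he₁p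
  have key : ∀ y, polar Q p y = 0 → polar Q y e₁ ≠ 0 → y ∈ fullDir hQ M p := by
    intro y hy hye₁
    set y' := y + (-(Q y) / polar Q y e₁) • e₁ with hy'
    have hQy' : Q y' = 0 := Q_make_singular hQ y e₁ he₁ hye₁
    have hpy' : polar Q p y' = 0 := by
      rw [hy', B_add_right hQ, B_smul_right hQ, hpe₁, mul_zero, add_zero]
      exact hy
    have he₁y' : polar Q e₁ y' ≠ 0 := by
      rw [hy', B_add_right hQ, B_smul_right hQ, B_self hQ e₁, he₁, mul_zero, mul_zero, add_zero,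
        B_comm]
      exact hye₁
    have hy'F := fullDir_of_nonorth hQ hPM h2 hn he₁F hQy' hpy' he₁y'
    have : y = y' - (-(Q y) / polar Q y e₁) • e₁ := by rw [hy']; abel
    rw [this]
    exact (fullDir hQ M p).sub_mem hy'F ((fullDir hQ M p).smul_mem _ he₁F)
  have hyF : y ∈ fullDir hQ M p := by
    by_cases hye₁ : polar Q y e₁ = 0
    · have he₂p : ¬ ∃ a : F, e₂ = a • p := by
        rintro ⟨a, ha⟩
        rw [ha, B_smul_right hQ, B_comm e₁ p, hpe₁, mul_zero] at he₁₂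
        exact zero_ne_one he₁₂
      have he₂F := fullDir_singular hQ hPM h2 hn heF he hpe hep he₂ hpe₂ he₂p
      have h1 := key (y + e₂) (by rw [B_add_right hQ, hy, hpe₂, add_zero])
        (by rw [B_add_left hQ, hye₁, zero_add, B_comm e₂ e₁, he₁₂]; exact one_ne_zero)
      have : y = (y + e₂) - e₂ := by abel
      rw [this]
      exact (fullDir hQ M p).sub_mem h1 he₂F
    · exact key y hy hye₁
  have := hyF 1
  rw [one_smul] at this
  exact this

theorem isCentre_of_full {p : Fin n → F} (h : ∀ w, polar Q p w = 0 → InA Q M p w) :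
    IsCentre M p := by
  intro ψ hψ g hg
  obtain ⟨u, rfl⟩ := exists_phi hQ ψ
  rw [phi_dot hQ] at hψ
  exact (h u hψ).2 g hg

include hPM in
/-- a singular vector orthogonal to a centre is a centre -/
theorem centre_step {x e : Fin n → F} (hx : IsCentre M x) (he : Q e = 0)
    (hxe : polar Q x e = 0) (hne : ¬ ∃ a : F, x = a • e) : IsCentre M e := by
  obtain ⟨s, hse, hsx⟩ := exists_perp_nonorth hQ e x hne
  have hes : polar Q e s = 0 := by rw [B_comm]; exact hse
  have hTM : sgGL hQ e s he hes ∈ M := hPM (sg_mem hQ e s he hes)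
  have h1 := isCentre_mulVec M x _ hTM hx
  rw [sgGL_coe, sgMat_mulVec hQ e s he hes, hxe, zero_smul, mul_zero, add_zero, add_zero] at h1
  have h3 := isCentre_add M _ _ h1 (isCentre_smul M x (-1) hx)
  have e1 : x - polar Q x s • e + (-1 : F) • x = (-(polar Q x s)) • e := by
    rw [neg_smul, one_smul, neg_smul]; abel
  rw [e1] at h3
  have h4 := isCentre_smul M _ (-(polar Q x s))⁻¹ h3
  rw [smul_smul, inv_mul_cancel₀ (neg_ne_zero.mpr (by rw [B_comm]; exact hsx)), one_smul] at h4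
  exact h4

include hPM in
theorem isCentre_all (hn : 7 ≤ n) {p : Fin n → F} (hp0 : p ≠ 0) (hp : IsCentre M p) :
    ∀ v, IsCentre M v := by
  -- a singular centre
  obtain ⟨t₁, ht₁⟩ := exists_pair hQ p hp0
  obtain ⟨e₀, he₀0, he₀, he₀b⟩ := exists_singular_perp hQ 2 ![p, t₁] (by omega)
  have he₀p : polar Q e₀ p = 0 := he₀b 0
  have he₀t : polar Q e₀ t₁ = 0 := he₀b 1
  have he₀C : IsCentre M e₀ := by
    apply centre_step hQ hPM hp he₀ (by rw [B_comm]; exact he₀p)
    rintro ⟨a, ha⟩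
    apply ht₁
    rw [ha, B_smul_right hQ, B_comm t₁ e₀, he₀t, mul_zero]
  have hsing : ∀ e', Q e' = 0 → IsCentre M e' := by
    intro e' he'
    by_cases he'0 : e' = 0
    · rw [he'0]; exact isCentre_zero M
    by_cases h0 : polar Q e₀ e' = 0
    · by_cases h1 : ∃ a : F, e₀ = a • e'
      · obtain ⟨a, ha⟩ := h1
        have ha0 : a ≠ 0 := by
          rintro rfl
          rw [zero_smul] at ha
          exact he₀0 ha
        have := isCentre_smul M e₀ a⁻¹ he₀C
        rw [ha, smul_smul, inv_mul_cancel₀ ha0, one_smul] at this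
        exact this
      · exact centre_step hQ hPM he₀C he' h0 h1
    · obtain ⟨e'', he''0, he'', he''b⟩ := exists_singular_perp hQ 2 ![e₀, e'] (by omega)
      have h1 : polar Q e'' e₀ = 0 := he''b 0
      have h3 : polar Q e'' e' = 0 := he''b 1
      have he''C : IsCentre M e'' := by
        apply centre_step hQ hPM he₀C he'' (by rw [B_comm]; exact h1)
        rintro ⟨a, ha⟩
        apply h0
        rw [ha, B_smul_left hQ, h3, mul_zero]
      apply centre_step hQ hPM he''C he' h3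
      rintro ⟨a, ha⟩
      rw [ha, B_smul_left hQ, B_comm e' e₀] at h1
      rcases mul_eq_zero.mp h1 with h4 | h4
      · rw [h4, zero_smul] at ha
        exact he''0 ha
      · exact h0 h4
  intro v
  obtain ⟨v₁, v₂, hv₁, hv₂, rfl⟩ := exists_singular_decomp hQ (by omega) v
  exact isCentre_add M _ _ (hsing v₁ hv₁) (hsing v₂ hv₂)

include hPM in
/-- an element of `M` fixing a singular vector but not its orthogonal complement yields a
transvection in `M` -/
theorem exists_inA_of_moved (h2 : (2 : F) ≠ 0) (hn : 5 ≤ n) {u : Fin n → F} (hu : Q u = 0)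
    (k : GL (Fin n) F) (hkM : k ∈ M) (hku : (k : Matrix (Fin n) (Fin n) F) *ᵥ u = u)
    (x₀ : Fin n → F) (hx₀ : polar Q x₀ u = 0)
    (hkx₀ : polar Q (((k⁻¹ : GL (Fin n) F) : Matrix (Fin n) (Fin n) F) *ᵥ x₀) u ≠ 0) :
    ∃ y₀, InA Q M u y₀ ∧ ¬ ∃ a : F, y₀ = a • u := by
  obtain ⟨w, hw⟩ := exists_phi hQ
    (phi Q u ᵥ* ((k⁻¹ : GL (Fin n) F) : Matrix (Fin n) (Fin n) F))
  have hw' : ∀ x, polar Q x w =
      polar Q (((k⁻¹ : GL (Fin n) F) : Matrix (Fin n) (Fin n) F) *ᵥ x) u := by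
    intro x
    rw [← phi_dot hQ, hw, ← dotProduct_mulVec, phi_dot hQ]
  have hkk : ∀ y, (k : Matrix (Fin n) (Fin n) F) *ᵥ
      (((k⁻¹ : GL (Fin n) F) : Matrix (Fin n) (Fin n) F) *ᵥ y) = y := by
    intro y
    rw [mulVec_mulVec, ← Units.val_mul, mul_inv_cancel, Units.val_one, one_mulVec]
  have hkinvu : ((k⁻¹ : GL (Fin n) F) : Matrix (Fin n) (Fin n) F) *ᵥ u = u := by
    have := congrArg (fun y => ((k⁻¹ : GL (Fin n) F) : Matrix (Fin n) (Fin n) F) *ᵥ y) hku
    simp only [mulVec_mulVec] at this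
    rw [← Units.val_mul, inv_mul_cancel, Units.val_one, one_mulVec] at this
    exact this.symm
  have huu : polar Q u u = 0 := by rw [B_self hQ, hu, mul_zero]
  have huw : polar Q u w = 0 := by rw [hw', hkinvu, huu]
  obtain ⟨z, hz, hzb⟩ := exists_aniso_perp hQ 2 ![u, w] (by omega)
  have hzu : polar Q z u = 0 := hzb 0
  have hzw : polar Q z w = 0 := hzb 1
  obtain ⟨z', hz'⟩ : ∃ z', z' = ((k⁻¹ : GL (Fin n) F) : Matrix (Fin n) (Fin n) F) *ᵥ z :=
    ⟨_, rfl⟩
  have hkz' : (k : Matrix (Fin n) (Fin n) F) *ᵥ z' = z := by rw [hz', hkk]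
  have huz : polar Q u z = 0 := by rw [B_comm]; exact hzu
  have hz'u : polar Q z' u = 0 := by rw [hz', ← hw']; exact hzw
  have huz' : polar Q u z' = 0 := by rw [B_comm]; exact hz'u
  have hzz : polar Q z z = 2 * Q z := B_self hQ z
  have hz'z' : polar Q z' z' = 2 * Q z' := B_self hQ z'
  obtain ⟨a, ha⟩ : ∃ a, a = sgGL hQ u z hu huz := ⟨_, rfl⟩
  obtain ⟨a', ha'⟩ : ∃ a', a' = sgGL hQ u z' hu huz' := ⟨_, rfl⟩
  have haM : a ∈ M := by rw [ha]; exact hPM (sg_mem hQ u z hu huz)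
  have ha'M : a' ∈ M := by rw [ha']; exact hPM (sg_mem hQ u z' hu huz')
  obtain ⟨m, hm⟩ : ∃ m, m = k * a' * k⁻¹ := ⟨_, rfl⟩
  have hmM : m ∈ M := by
    rw [hm]; exact M.mul_mem (M.mul_mem hkM ha'M) (M.inv_mem hkM)
  obtain ⟨y₀, hy₀⟩ : ∃ y₀, y₀ = (-(2 * Q z)) • w + (2 * Q z') • u := ⟨_, rfl⟩
  have hy₀B : ∀ y, polar Q y y₀ = -(2 * Q z) * polar Q y w + 2 * Q z' * polar Q y u := by
    intro y
    rw [hy₀, B_add_right hQ, B_smul_right hQ, B_smul_right hQ]
  have huy₀ : polar Q u y₀ = 0 := by rw [hy₀B, huw, huu, mul_zero, mul_zero, add_zero]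
  have e1 : phi Q y₀ ⬝ᵥ u = 0 := by rw [phi_dot hQ]; exact huy₀
  obtain ⟨T, hT⟩ : ∃ T, T = mkTv (phi Q y₀) u e1 := ⟨_, rfl⟩
  -- the actions
  have hA : ∀ y, (a : Matrix (Fin n) (Fin n) F) *ᵥ y =
      y + polar Q y u • z - (polar Q y z + Q z * polar Q y u) • u := by
    intro y
    rw [ha, sgGL_coe, sgMat_mulVec hQ u z hu huz]
  have hM : ∀ y, (m : Matrix (Fin n) (Fin n) F) *ᵥ y =
      y + polar Q y w • z - (polar Q (((k⁻¹ : GL (Fin n) F) : Matrix (Fin n) (Fin n) F) *ᵥ y) z'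
        + Q z' * polar Q y w) • u := by
    intro y
    rw [hm, Units.val_mul, Units.val_mul, ← mulVec_mulVec, ← mulVec_mulVec, ha', sgGL_coe,
      sgMat_mulVec hQ u z' hu huz', mulVec_sub, mulVec_add, mulVec_smul, mulVec_smul, hkk, hku,
      hkz', ← hw']
  have hTa : ∀ y, (T : Matrix (Fin n) (Fin n) F) *ᵥ y =
      y + (-(2 * Q z) * polar Q y w + 2 * Q z' * polar Q y u) • u := by
    intro y
    rw [hT, mkTv_coe, tvMat_mulVec, phi_dot hQ, hy₀B]
  have key : a * m = T * (m * a) := by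
    apply Units.ext
    rw [Units.val_mul, Units.val_mul, Units.val_mul, ext_iff_mulVec]
    intro x
    rw [← mulVec_mulVec, ← mulVec_mulVec, ← mulVec_mulVec, hM x, hA x, hA, hM, hTa]
    simp only [mulVec_add, mulVec_sub, mulVec_smul, B_add_left hQ, B_sub_left hQ,
      B_smul_left hQ, hkinvu, ← hz', hzu, huu, hzw, huw, hzz, hz'z', huz, huz']
    module
  have hTM : T ∈ M := by
    have : T = a * m * a⁻¹ * m⁻¹ := by
      rw [key]; group
    rw [this]
    exact M.mul_mem (M.mul_mem (M.mul_mem haM hmM) (M.inv_mem haM)) (M.inv_mem hmM)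
  refine ⟨y₀, ⟨huy₀, fun g hg => ?_⟩, ?_⟩
  · have : g = T := by
      apply Units.ext
      rw [hg, hT, mkTv_coe]
    rw [this]
    exact hTM
  · rintro ⟨c, hc⟩
    have h1 := hy₀B x₀
    rw [hc, B_smul_right hQ, hx₀, mul_zero, mul_zero, add_zero, hw'] at h1
    rcases mul_eq_zero.mp h1.symm with h3 | h3
    · rcases neg_eq_zero.mp h3 |> mul_eq_zero.mp with h4 | h4
      · exact h2 h4
      · exact hz h4
    · exact hkx₀ h3

end overgroup

/-- a matrix preserving orthogonality to singular vectors is a similarity -/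
theorem mem_quadSimilarityGroup_of_perp (h2 : (2 : F) ≠ 0) (hn : 5 ≤ n) (g : GL (Fin n) F)
    (h : ∀ x v, Q v = 0 → polar Q x v = 0 → polar Q ((g : Matrix (Fin n) (Fin n) F) *ᵥ x)
      ((g : Matrix (Fin n) (Fin n) F) *ᵥ v) = 0) : g ∈ Cfsg.Geo.quadSimilarityGroup Q := by
  have hsurj : ∀ y, ∃ x, (g : Matrix (Fin n) (Fin n) F) *ᵥ x = y := by
    intro y
    refine ⟨((g⁻¹ : GL (Fin n) F) : Matrix (Fin n) (Fin n) F) *ᵥ y, ?_⟩
    rw [mulVec_mulVec, ← Units.val_mul, mul_inv_cancel, Units.val_one, one_mulVec]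
  have hinj : ∀ x, (g : Matrix (Fin n) (Fin n) F) *ᵥ x = 0 → x = 0 := by
    intro x hx
    have := congrArg (fun y => ((g⁻¹ : GL (Fin n) F) : Matrix (Fin n) (Fin n) F) *ᵥ y) hx
    simp only [mulVec_mulVec, mulVec_zero] at this
    rwa [← Units.val_mul, inv_mul_cancel, Units.val_one, one_mulVec] at this
  have hc : ∀ v, ∃ c : F, Q v = 0 → ∀ x, polar Q ((g : Matrix (Fin n) (Fin n) F) *ᵥ x)
      ((g : Matrix (Fin n) (Fin n) F) *ᵥ v) = c * polar Q x v := by
    intro v
    by_cases hv : Q v = 0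
    · obtain ⟨u', hu'⟩ := exists_phi hQ
        (phi Q ((g : Matrix (Fin n) (Fin n) F) *ᵥ v) ᵥ* (g : Matrix (Fin n) (Fin n) F))
      have hu'' : ∀ x, polar Q x u' = polar Q ((g : Matrix (Fin n) (Fin n) F) *ᵥ x)
          ((g : Matrix (Fin n) (Fin n) F) *ᵥ v) := by
        intro x
        rw [← phi_dot hQ, hu', ← dotProduct_mulVec, phi_dot hQ]
      obtain ⟨c, hcv⟩ := exists_smul_of_ker hQ v u' (fun y hy => by
        rw [hu'']; exact h y v hv hy)
      refine ⟨c, fun _ x => ?_⟩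
      rw [← hu'', hcv, B_smul_right hQ]
    · exact ⟨0, fun h0 => absurd h0 hv⟩
  choose c hc using hc
  have hcc : ∀ v w, Q v = 0 → Q w = 0 → polar Q v w ≠ 0 → c v = c w := by
    intro v w hv hw hvw
    have h1 := hc v hv w
    have h3 := hc w hw v
    rw [B_comm ((g : Matrix (Fin n) (Fin n) F) *ᵥ w), h3, B_comm w v] at h1
    have h4 : (c w - c v) * polar Q v w = 0 := by linear_combination h1
    rcases mul_eq_zero.mp h4 with h5 | h5
    · exact (sub_eq_zero.mp h5).symm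
    · exact absurd h5 hvw
  have hconst : ∀ v w, v ≠ 0 → w ≠ 0 → Q v = 0 → Q w = 0 → c v = c w := by
    intro v w hv0 hw0 hv hw
    by_cases hvw : polar Q v w = 0
    · obtain ⟨z, hz, hzv, hzw⟩ := exists_singular_cross hQ v w hv0 hw0 hv hvw
      rw [hcc v z hv hz (by rw [B_comm]; exact hzv), hcc z w hz hw hzw]
    · exact hcc v w hv hw hvw
  obtain ⟨v₀, hv₀0, hv₀, -⟩ := exists_singular_perp hQ 0 (fun i => i.elim0) (by omega)
  have hiso : ∀ v, Q v = 0 → ∀ x, polar Q ((g : Matrix (Fin n) (Fin n) F) *ᵥ x)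
      ((g : Matrix (Fin n) (Fin n) F) *ᵥ v) = c v₀ * polar Q x v := by
    intro v hv x
    by_cases hv0 : v = 0
    · rw [hv0, mulVec_zero, B_zero_right hQ, B_zero_right hQ, mul_zero]
    · rw [hc v hv, hconst v v₀ hv0 hv₀0 hv hv₀]
  have hall : ∀ x y, polar Q ((g : Matrix (Fin n) (Fin n) F) *ᵥ x)
      ((g : Matrix (Fin n) (Fin n) F) *ᵥ y) = c v₀ * polar Q x y := by
    intro x y
    obtain ⟨v₁, v₂, h1, h3, rfl⟩ := exists_singular_decomp hQ hn y
    rw [mulVec_add, B_add_right hQ, B_add_right hQ, hiso v₁ h1, hiso v₂ h3]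
    ring
  have hc0 : c v₀ ≠ 0 := by
    intro h0
    apply hv₀0
    apply hinj
    apply eq_zero_of_forall hQ
    intro y
    obtain ⟨x, rfl⟩ := hsurj y
    rw [hall, h0, zero_mul]
  refine ⟨Units.mk0 (c v₀) hc0, fun v => ?_⟩
  rw [Units.val_mk0]
  have h1 := hall v v
  rw [B_self hQ, B_self hQ] at h1
  have h3 : 2 * (Q ((g : Matrix (Fin n) (Fin n) F) *ᵥ v) - c v₀ * Q v) = 0 := by
    linear_combination h1
  rcases mul_eq_zero.mp h3 with h4 | h4
  · exact absurd h4 h2
  · exact sub_eq_zero.mp h4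

theorem isMaximalIn (h2 : (2 : F) ≠ 0) (hn : 7 ≤ n) :
    Cfsg.Geo.IsMaximalIn (Cfsg.Geo.specialLinear (Fin n) F)
      (Cfsg.Geo.quadSimilarityGroup Q ⊓ Cfsg.Geo.specialLinear (Fin n) F) := by
  refine ⟨lt_of_le_of_ne inf_le_right ?_, ?_⟩
  · -- a transvection which is not a similarity
    intro hEq
    obtain ⟨p, hp0, hp, -⟩ := exists_singular_perp hQ 0 (fun i => i.elim0) (by omega)
    have hpp : polar Q p p = 0 := by rw [B_self hQ, hp, mul_zero]
    have e1 : phi Q p ⬝ᵥ p = 0 := by rw [phi_dot hQ]; exact hpp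
    have hmem : mkTv (phi Q p) p e1 ∈ Cfsg.Geo.quadSimilarityGroup Q ⊓
        Cfsg.Geo.specialLinear (Fin n) F := by
      rw [hEq, mem_specialLinear_iff, mkTv_coe, det_tvMat _ _ e1]
    obtain ⟨c, hc⟩ := hmem.1
    have hact : ∀ x, Q (((mkTv (phi Q p) p e1 : GL (Fin n) F) : Matrix (Fin n) (Fin n) F) *ᵥ x) =
        Q x + polar Q x p ^ 2 := by
      intro x
      rw [mkTv_coe, tvMat_mulVec, phi_dot hQ, Q_add_smul hQ, hp]
      ring
    obtain ⟨x₁, hx₁, hx₁b⟩ := exists_aniso_perp hQ 1 ![p] (by omega)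
    have hx₁p : polar Q x₁ p = 0 := hx₁b 0
    have hc1 : (c : F) = 1 := by
      have h1 := hc x₁
      rw [hact, hx₁p] at h1
      have h3 : ((c : F) - 1) * Q x₁ = 0 := by linear_combination -h1
      rcases mul_eq_zero.mp h3 with h4 | h4
      · exact sub_eq_zero.mp h4
      · exact absurd h4 hx₁
    obtain ⟨x₂, hx₂⟩ := exists_pair hQ p hp0
    have h1 := hc x₂
    rw [hact, hc1, one_mul] at h1
    have h3 : polar Q x₂ p ^ 2 = 0 := by linear_combination h1
    exact hx₂ ((pow_eq_zero_iff (by norm_num)).mp h3)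
  · intro M hPM hMS
    by_cases hMP : M ≤ Cfsg.Geo.quadSimilarityGroup Q ⊓ Cfsg.Geo.specialLinear (Fin n) F
    · left
      exact le_antisymm hMP hPM
    right
    apply le_antisymm hMS
    apply specialLinear_le (by omega)
    obtain ⟨g, hgM, hgP⟩ := SetLike.not_le_iff_exists.mp hMP
    have hgS : g ∉ Cfsg.Geo.quadSimilarityGroup Q := fun h => hgP ⟨h, hMS hgM⟩
    obtain ⟨x, v, hv, hxv, hgxv⟩ : ∃ x v, Q v = 0 ∧ polar Q x v = 0 ∧
        polar Q ((g : Matrix (Fin n) (Fin n) F) *ᵥ x)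
          ((g : Matrix (Fin n) (Fin n) F) *ᵥ v) ≠ 0 := by
      by_contra hcon
      push Not at hcon
      exact hgS (mem_quadSimilarityGroup_of_perp hQ h2 (by omega) g hcon)
    have hginv : ∀ y, ((g⁻¹ : GL (Fin n) F) : Matrix (Fin n) (Fin n) F) *ᵥ
        ((g : Matrix (Fin n) (Fin n) F) *ᵥ y) = y := by
      intro y
      rw [mulVec_mulVec, ← Units.val_mul, inv_mul_cancel, Units.val_one, one_mulVec]
    have hgg : ∀ y, (g : Matrix (Fin n) (Fin n) F) *ᵥ
        (((g⁻¹ : GL (Fin n) F) : Matrix (Fin n) (Fin n) F) *ᵥ y) = y := by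
      intro y
      rw [mulVec_mulVec, ← Units.val_mul, mul_inv_cancel, Units.val_one, one_mulVec]
    obtain ⟨p, hp⟩ : ∃ p, p = (g : Matrix (Fin n) (Fin n) F) *ᵥ v := ⟨_, rfl⟩
    obtain ⟨w, hw⟩ := exists_phi hQ
      (phi Q v ᵥ* ((g⁻¹ : GL (Fin n) F) : Matrix (Fin n) (Fin n) F))
    have hw' : ∀ y, polar Q y w =
        polar Q (((g⁻¹ : GL (Fin n) F) : Matrix (Fin n) (Fin n) F) *ᵥ y) v := by
      intro y
      rw [← phi_dot hQ, hw, ← dotProduct_mulVec, phi_dot hQ]
    have hvv : polar Q v v = 0 := by rw [B_self hQ, hv, mul_zero]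
    have hpw : polar Q p w = 0 := by rw [hw', hp, hginv, hvv]
    have hp0 : p ≠ 0 := by
      intro h0
      apply hgxv
      rw [← hp, h0, B_zero_right hQ]
    have hv0 : v ≠ 0 := by
      intro h0
      apply hgxv
      rw [h0, mulVec_zero, B_zero_right hQ]
    have hwnot : ¬ ∃ a : F, w = a • p := by
      rintro ⟨a, ha⟩
      have h1 := hw' ((g : Matrix (Fin n) (Fin n) F) *ᵥ x)
      rw [hginv, hxv, ha, B_smul_right hQ, hp] at h1
      rcases mul_eq_zero.mp h1 with h3 | h3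
      · rw [h3, zero_smul] at ha
        apply hv0
        apply eq_zero_of_forall hQ
        intro y
        have h4 := hw' ((g : Matrix (Fin n) (Fin n) F) *ᵥ y)
        rw [hginv, ha, B_zero_right hQ] at h4
        exact h4.symm
      · exact hgxv h3
    obtain ⟨e, he, hpe, hew⟩ := exists_singular_perp_not_perp hQ (by omega) p w hp0 hwnot
    obtain ⟨s, hs, hsb⟩ := exists_aniso_perp hQ 3 ![e, p, w] (by omega)
    have hse : polar Q s e = 0 := hsb 0
    have hsp : polar Q s p = 0 := hsb 1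
    have hsw : polar Q s w = 0 := hsb 2
    have hes : polar Q e s = 0 := by rw [B_comm]; exact hse
    obtain ⟨l, hl⟩ : ∃ l, l = sgGL hQ e s he hes := ⟨_, rfl⟩
    have hlM : l ∈ M := by rw [hl]; exact hPM (sg_mem hQ e s he hes)
    have hlact : ∀ y, (l : Matrix (Fin n) (Fin n) F) *ᵥ y =
        y + polar Q y e • s - (polar Q y s + Q s * polar Q y e) • e := by
      intro y
      rw [hl, sgGL_coe, sgMat_mulVec hQ e s he hes]
    have hlp : (l : Matrix (Fin n) (Fin n) F) *ᵥ p = p := by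
      rw [hlact, hpe, B_comm p s, hsp, mul_zero, add_zero, zero_smul, zero_smul, add_zero,
        sub_zero]
    have hliso : ∀ y y', polar Q ((l : Matrix (Fin n) (Fin n) F) *ᵥ y)
        ((l : Matrix (Fin n) (Fin n) F) *ᵥ y') = polar Q y y' := by
      intro y y'
      rw [hl, sgGL_coe, sg_polar hQ e s he hes]
    have hll : ∀ y, (l : Matrix (Fin n) (Fin n) F) *ᵥ
        (((l⁻¹ : GL (Fin n) F) : Matrix (Fin n) (Fin n) F) *ᵥ y) = y := by
      intro y
      rw [mulVec_mulVec, ← Units.val_mul, mul_inv_cancel, Units.val_one, one_mulVec]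
    obtain ⟨k, hk⟩ : ∃ k, k = g⁻¹ * l * g := ⟨_, rfl⟩
    have hkM : k ∈ M := by
      rw [hk]; exact M.mul_mem (M.mul_mem (M.inv_mem hgM) hlM) hgM
    have hkv : (k : Matrix (Fin n) (Fin n) F) *ᵥ v = v := by
      rw [hk, Units.val_mul, Units.val_mul, ← mulVec_mulVec, ← mulVec_mulVec, ← hp, hlp, hp,
        hginv]
    have hkinv : k⁻¹ = g⁻¹ * l⁻¹ * g := by rw [hk]; group
    have hx₀ : polar Q (((g⁻¹ : GL (Fin n) F) : Matrix (Fin n) (Fin n) F) *ᵥ s) v = 0 := by
      rw [← hw']; exact hsw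
    have hkx₀ : polar Q (((k⁻¹ : GL (Fin n) F) : Matrix (Fin n) (Fin n) F) *ᵥ
        (((g⁻¹ : GL (Fin n) F) : Matrix (Fin n) (Fin n) F) *ᵥ s)) v ≠ 0 := by
      rw [hkinv, Units.val_mul, Units.val_mul, ← mulVec_mulVec, ← mulVec_mulVec, hgg, ← hw']
      have h1 := hliso (((l⁻¹ : GL (Fin n) F) : Matrix (Fin n) (Fin n) F) *ᵥ s) w
      rw [hll] at h1
      rw [← h1, hlact w, B_sub_right hQ, B_add_right hQ, B_smul_right hQ, B_smul_right hQ, hsw,
        hse, B_self hQ s, mul_zero, sub_zero, zero_add, B_comm w e]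
      exact mul_ne_zero hew (mul_ne_zero h2 hs)
    obtain ⟨y₀, hy₀A, hy₀not⟩ := exists_inA_of_moved hQ hPM h2 (by omega) hv k hkM hkv _ hx₀ hkx₀
    have hC := isCentre_of_full hQ (fun y hy => inA_all hQ hPM h2 hn hv0 hy₀A hy₀not y hy)
    exact isCentre_all hQ hPM hn hv0 hC

end Cfsg.Agent.Lib.Helper5.OInSLMax
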