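import Mathlib
import Cfsg.Agent.S2573

set_option autoImplicit false

namespace Cfsg.Agent.Lib.Helper5

open Module

section
variable {F : Type*} [Field F] {V : Type*} [AddCommGroup V] [Module F V] [FiniteDimensional F V]

/-- for a nilpotent endomorphism with one-dimensional kernel, `dim ker f^k = k` for `k ≤ n` -/
theorem finrank_ker_pow_eq (f : Module.End F V) (hf : finrank F (LinearMap.ker f) ≤ 1)
    (hn : f ^ finrank F V = 0) (k : ℕ) (hk : k ≤ finrank F V) :
    finrank F (LinearMap.ker (f ^ k)) = k := by
  have hle := Cfsg.Agent.S2573.finrank_ker_pow_le f hf k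
  have hstep : ∀ j : ℕ, finrank F (LinearMap.ker (f ^ (k + j))) ≤
      finrank F (LinearMap.ker (f ^ k)) + j := by
    intro j
    induction j with
    | zero => simp
    | succ j ih =>
      have := Cfsg.Agent.S2573.finrank_ker_pow_succ_le f (k + j)
      rw [← add_assoc]
      omega
  obtain ⟨j, hj⟩ : ∃ j, finrank F V = k + j := ⟨finrank F V - k, by omega⟩
  have h1 := hstep j
  rw [← hj, hn, LinearMap.ker_zero, finrank_top] at h1
  omega

/-- existence of a cyclic vector -/
theorem exists_cyclic (f : Module.End F V) (hf : finrank F (LinearMap.ker f) ≤ 1)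
    (hn : f ^ finrank F V = 0) (hpos : 1 ≤ finrank F V) :
    ∃ v : V, (f ^ (finrank F V - 1)) v ≠ 0 := by
  by_contra hcon
  push Not at hcon
  have h1 : LinearMap.ker (f ^ (finrank F V - 1)) = ⊤ := by
    rw [eq_top_iff]
    intro v _
    exact hcon v
  have h2 := finrank_ker_pow_eq f hf hn (finrank F V - 1) (by omega)
  rw [h1, finrank_top] at h2
  omega

/-- powers of `f` applied to a cyclic vector are linearly independent -/
theorem linearIndependent_pow (f : Module.End F V) (n : ℕ) (hn : f ^ n = 0) (w : V)
    (hw : (f ^ (n - 1)) w ≠ 0) :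
    LinearIndependent F (fun i : Fin n => (f ^ (i : ℕ)) w) := by
  rw [Fintype.linearIndependent_iff]
  intro a ha
  have key : ∀ j : ℕ, ∀ hj : j < n, a ⟨j, hj⟩ = 0 := by
    intro j
    induction j using Nat.strong_induction_on with
    | _ j ih =>
      intro hj
      have h1 := congrArg (fun x => (f ^ (n - 1 - j)) x) ha
      simp only [map_sum, map_smul, map_zero] at h1
      rw [Finset.sum_eq_single (⟨j, hj⟩ : Fin n)] at h1
      · have h2 : (f ^ (n - 1 - j)) ((f ^ j) w) = (f ^ (n - 1)) w := by
          rw [← Module.End.mul_apply, ← pow_add]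
          congr 2
          omega
        simp only at h1
        rw [h2] at h1
        exact (smul_eq_zero.mp h1).resolve_right hw
      · intro i _ hij
        by_cases hlt : (i : ℕ) < j
        · have : a i = 0 := ih i hlt i.isLt
          rw [this, zero_smul]
        · have hgt : j < (i : ℕ) := by
            rcases lt_or_eq_of_le (not_lt.mp hlt) with h | h
            · exact h
            · exact absurd (Fin.ext h.symm) hij
          have h3 : (f ^ (n - 1 - j)) ((f ^ (i : ℕ)) w) = 0 := by
            rw [← Module.End.mul_apply, ← pow_add]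
            obtain ⟨e, he⟩ : ∃ e, n - 1 - j + (i : ℕ) = n + e := ⟨n - 1 - j + i - n, by omega⟩
            rw [he, pow_add, hn, zero_mul]
            rfl
          rw [h3, smul_zero]
      · intro h
        exact absurd (Finset.mem_univ _) h
  intro i
  exact key i i.isLt

theorem finrank_pos_of_cyclic (f : Module.End F V) (w : V)
    (hw : (f ^ (finrank F V - 1)) w ≠ 0) : 0 < finrank F V := by
  rw [Module.finrank_pos_iff_exists_ne_zero]
  refine ⟨w, ?_⟩
  rintro rfl
  exact hw (map_zero _)

/-- the basis `w, f w, …, f^(n-1) w` attached to a cyclic vector -/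
noncomputable def cyclicBasis (f : Module.End F V) (hn : f ^ finrank F V = 0) (w : V)
    (hw : (f ^ (finrank F V - 1)) w ≠ 0) : Basis (Fin (finrank F V)) F V :=
  haveI : Nonempty (Fin (finrank F V)) := ⟨⟨0, finrank_pos_of_cyclic f w hw⟩⟩
  basisOfLinearIndependentOfCardEqFinrank (linearIndependent_pow f (finrank F V) hn w hw)
    (Fintype.card_fin _)

theorem cyclicBasis_apply (f : Module.End F V) (hn : f ^ finrank F V = 0) (w : V)
    (hw : (f ^ (finrank F V - 1)) w ≠ 0) (i : Fin (finrank F V)) :
    cyclicBasis f hn w hw i = (f ^ (i : ℕ)) w := by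
  simp [cyclicBasis]

/-- two linear maps commuting with `f` and agreeing on a cyclic vector are equal -/
theorem eq_of_commute_of_apply_eq (f : Module.End F V) (hn : f ^ finrank F V = 0) (v : V)
    (hv : (f ^ (finrank F V - 1)) v ≠ 0) (e e' : V →ₗ[F] V)
    (he : ∀ x, e (f x) = f (e x)) (he' : ∀ x, e' (f x) = f (e' x)) (h : e v = e' v) : e = e' := by
  apply (cyclicBasis f hn v hv).ext
  intro i
  rw [cyclicBasis_apply]
  have hpow : ∀ (g : V →ₗ[F] V), (∀ x, g (f x) = f (g x)) →
      ∀ k : ℕ, ∀ x, g ((f ^ k) x) = (f ^ k) (g x) := by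
    intro g hg k
    induction k with
    | zero => intro x; simp
    | succ k ih =>
      intro x
      rw [pow_succ, Module.End.mul_apply, ih, hg]
      rfl
  rw [hpow e he, hpow e' he', h]

/-- any two cyclic vectors are related by an automorphism commuting with `f` -/
theorem exists_equiv_of_cyclic (f : Module.End F V) (hn : f ^ finrank F V = 0) (v w : V)
    (hv : (f ^ (finrank F V - 1)) v ≠ 0) (hw : (f ^ (finrank F V - 1)) w ≠ 0) :
    ∃ e : V ≃ₗ[F] V, (∀ x, e (f x) = f (e x)) ∧ e v = w := by
  set bv := cyclicBasis f hn v hv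
  set bw := cyclicBasis f hn w hw
  refine ⟨bv.equiv bw (Equiv.refl _), ?_, ?_⟩
  · have hfb : ∀ (z : V) (hz : (f ^ (finrank F V - 1)) z ≠ 0) (i : Fin (finrank F V)),
        f (cyclicBasis f hn z hz i) =
          if h : (i : ℕ) + 1 < finrank F V then cyclicBasis f hn z hz ⟨(i : ℕ) + 1, h⟩ else 0 := by
      intro z hz i
      rw [cyclicBasis_apply]
      split_ifs with h
      · rw [cyclicBasis_apply, pow_succ', Module.End.mul_apply]
      · have : (i : ℕ) + 1 = finrank F V := by have := i.isLt; omega
        rw [← Module.End.mul_apply, ← pow_succ', this, hn]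
        rfl
    have : (bv.equiv bw (Equiv.refl _)).toLinearMap ∘ₗ f =
        f ∘ₗ (bv.equiv bw (Equiv.refl _)).toLinearMap := by
      apply bv.ext
      intro i
      simp only [LinearMap.coe_comp, LinearEquiv.coe_coe, Function.comp_apply, Basis.equiv_apply,
        Equiv.refl_apply]
      rw [show f (bv i) = _ from hfb v hv i, show f (bw i) = _ from hfb w hw i]
      split_ifs with h
      · rw [Basis.equiv_apply]; rfl
      · rw [map_zero]
    intro x
    exact congrArg (fun φ => φ x) this
  · have hpos : 0 < finrank F V := finrank_pos_of_cyclic f v hv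
    have h1 : bv ⟨0, hpos⟩ = v := by
      rw [cyclicBasis_apply]; simp
    have h2 : bw ⟨0, hpos⟩ = w := by
      rw [cyclicBasis_apply]; simp
    rw [← h1, Basis.equiv_apply, Equiv.refl_apply, h2]

end

end Cfsg.Agent.Lib.Helper5
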