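import Mathlib
set_option autoImplicit false
namespace Cfsg.Agent.Lib.Helper5.NA8

variable {G : Type*} [Group G]

/-- `H` contains an abelian, noncyclic subgroup of order exactly `8`
(the triple occurring in the frozen statement S4409). -/
def CalA (H : Subgroup G) : Prop :=
  ∃ A : Subgroup G, A ≤ H ∧ IsMulCommutative ↥A ∧ ¬ IsCyclic ↥A ∧ Nat.card ↥A = 8

theorem CalA.mono {H H' : Subgroup G} (h : H ≤ H') (hH : CalA H) : CalA H' := by
  obtain ⟨A, hA, h1, h2, h3⟩ := hH
  exact ⟨A, hA.trans h, h1, h2, h3⟩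

/-- The conclusion of the key lemma (F1), weak form: `Y` is a four-group, or nonabelian of order `8`. -/
def SmallType (Y : Subgroup G) : Prop :=
  (Nat.card ↥Y = 4 ∧ ¬ IsCyclic ↥Y) ∨ (Nat.card ↥Y = 8 ∧ ¬ IsMulCommutative ↥Y)

end Cfsg.Agent.Lib.Helper5.NA8
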