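import Mathlib
import Cfsg.Agent.Lib.Helper5.NA8Defs
import Cfsg.Agent.Lib.Helper1.GlaubermanRepl3
set_option autoImplicit false
open scoped commutatorElement
namespace Cfsg.Agent.Lib.Helper5.NA8

variable {G : Type*} [Group G]

/-- POW lemma: a 2-element `y ∉ W` has a power `y' ∉ W` with `y'^2 ∈ W`. -/
theorem exists_pow_not_mem_sq_mem {W : Subgroup G} {y : G} (hyW : y ∉ W)
    (hy2 : ∃ n : ℕ, y ^ 2 ^ n = 1) : ∃ m : ℕ, y ^ 2 ^ m ∉ W ∧ (y ^ 2 ^ m) ^ 2 ∈ W := by
  classical
  have hex : ∃ n : ℕ, y ^ 2 ^ n ∈ W := by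
    obtain ⟨n, hn⟩ := hy2
    exact ⟨n, hn ▸ W.one_mem⟩
  have hfind := Nat.find_spec hex
  have hmin := fun m => Nat.find_min hex (m := m)
  have hpos : Nat.find hex ≠ 0 := by
    intro h0
    rw [h0] at hfind
    simp at hfind
    exact hyW hfind
  obtain ⟨m, hm⟩ := Nat.exists_eq_succ_of_ne_zero hpos
  refine ⟨m, hmin m (by omega), ?_⟩
  rw [← pow_mul, ← pow_succ, ← Nat.succ_eq_add_one, ← hm]
  exact hfind

/-- a subgroup containing a noncyclic subgroup is not cyclic -/
theorem not_isCyclic_of_le {W A : Subgroup G} (hWA : W ≤ A) (hWnc : ¬ IsCyclic ↥W) : ¬ IsCyclic ↥A := by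
  intro h
  haveI : IsCyclic ↥A := h
  have h1 : IsCyclic ↥(W.subgroupOf A) := inferInstance
  exact hWnc (isCyclic_of_surjective (Subgroup.subgroupOfEquivOfLe hWA).toMonoidHom
    (Subgroup.subgroupOfEquivOfLe hWA).surjective)

/-- the core of U1: `y ∉ W`, `y^2 ∈ W`, `y` centralizes the four-group `W`. -/
theorem calA_of_four_group_sq [Finite G] {W H : Subgroup G} (hW4 : Nat.card ↥W = 4)
    (hWnc : ¬ IsCyclic ↥W) (hWH : W ≤ H) {y : G} (hyH : y ∈ H) (hyW : y ∉ W)
    (hyc : y ∈ Subgroup.centralizer (W : Set G)) (hy2 : y ^ 2 ∈ W) (hy2' : ∃ n : ℕ, y ^ 2 ^ n = 1) :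
    CalA H := by
  haveI : Fact (Nat.Prime 2) := ⟨Nat.prime_two⟩
  obtain ⟨Z, hZ⟩ : ∃ Z : Subgroup G, Z = Subgroup.zpowers y := ⟨_, rfl⟩
  have hWc : IsMulCommutative ↥W :=
    IsPGroup.isMulCommutative_of_card_eq_prime_sq (p := 2) (by rw [hW4]; norm_num)
  have hWcent : W ≤ Subgroup.centralizer (W : Set G) :=
    Subgroup.le_centralizer_iff_isMulCommutative.mpr hWc
  have hZW : Z ≤ Subgroup.centralizer (W : Set G) := by
    rw [hZ, Subgroup.zpowers_le]; exact hyc
  have hWZ : W ≤ Subgroup.centralizer (Z : Set G) := Subgroup.le_centralizer_iff.mp hZW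
  have hZZ : Z ≤ Subgroup.centralizer (Z : Set G) := by
    rw [hZ, Subgroup.zpowers_le, Subgroup.mem_centralizer_iff]
    intro g hg
    obtain ⟨k, rfl⟩ := Subgroup.mem_zpowers_iff.mp hg
    exact ((Commute.refl y).zpow_left k).eq
  refine ⟨W ⊔ Z, sup_le hWH (by rw [hZ, Subgroup.zpowers_le]; exact hyH), ?_, ?_, ?_⟩
  · rw [← Subgroup.le_centralizer_iff_isMulCommutative]
    have hc : Subgroup.centralizer ((W ⊔ Z : Subgroup G) : Set G) =
        Subgroup.centralizer (W : Set G) ⊓ Subgroup.centralizer (Z : Set G) := by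
      ext g
      simp only [Subgroup.mem_inf, Subgroup.mem_centralizer_iff]
      constructor
      · intro h
        exact ⟨fun w hw => h w (Subgroup.mem_sup_left hw), fun z hz => h z (Subgroup.mem_sup_right hz)⟩
      · rintro ⟨h1, h2⟩ x hx
        have hx' : x ∈ Subgroup.centralizer ({g} : Set G) := by
          have : W ⊔ Z ≤ Subgroup.centralizer ({g} : Set G) := by
            apply sup_le
            · intro w hw
              rw [Subgroup.mem_centralizer_iff]
              intro a ha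
              rw [Set.mem_singleton_iff.mp ha]
              exact (h1 w hw).symm
            · intro z hz
              rw [Subgroup.mem_centralizer_iff]
              intro a ha
              rw [Set.mem_singleton_iff.mp ha]
              exact (h2 z hz).symm
          exact this hx
        exact (Subgroup.mem_centralizer_iff.mp hx' g rfl).symm
    rw [hc]
    exact sup_le (le_inf hWcent hWZ) (le_inf hZW hZZ)
  · exact not_isCyclic_of_le le_sup_left hWnc
  · -- cardinality
    have hn : Z ≤ Subgroup.normalizer (W : Set G) := hZW.trans (Subgroup.centralizer_le_normalizer _)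
    have h1 := Cfsg.Agent.Lib.Helper1.GlaubermanRepl.card_sup_mul_card_inf_of_le_normalizer Z W hn
    rw [sup_comm] at h1
    have hZcard : Nat.card ↥Z = orderOf y := by rw [hZ]; exact Nat.card_zpowers y
    have hy1 : y ≠ 1 := fun h => hyW (h ▸ W.one_mem)
    obtain ⟨n, hn2⟩ := hy2'
    have ho : orderOf y ∣ 2 ^ n := orderOf_dvd_of_pow_eq_one hn2
    obtain ⟨j, -, hj⟩ := (Nat.dvd_prime_pow Nat.prime_two).mp ho
    have hj1 : j ≠ 0 := by
      intro h0
      rw [h0, pow_zero, orderOf_eq_one_iff] at hj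
      exact hy1 hj
    obtain ⟨i, rfl⟩ := Nat.exists_eq_succ_of_ne_zero hj1
    have h2o : 2 ∣ orderOf y := by rw [hj, pow_succ]; exact Dvd.intro_left _ rfl
    have ho2 : orderOf (y ^ 2) = 2 ^ i := by
      rw [orderOf_pow_of_dvd (by norm_num) h2o, hj, pow_succ]; simp
    have hle : Subgroup.zpowers (y ^ 2) ≤ Z ⊓ W := by
      rw [Subgroup.zpowers_le]
      exact ⟨by rw [hZ]; exact Subgroup.pow_mem _ (Subgroup.mem_zpowers y) 2, hy2⟩
    have hd1 : 2 ^ i ∣ Nat.card ↥(Z ⊓ W : Subgroup G) := by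
      have := Subgroup.card_dvd_of_le hle
      rwa [Nat.card_zpowers, ho2] at this
    have hd2 : Nat.card ↥(Z ⊓ W : Subgroup G) ∣ 2 ^ (i + 1) := by
      have := Subgroup.card_dvd_of_le (inf_le_left : Z ⊓ W ≤ Z)
      rwa [hZcard, hj] at this
    have hne : Nat.card ↥(Z ⊓ W : Subgroup G) ≠ 2 ^ (i + 1) := by
      intro he
      have : Z ⊓ W = Z := Subgroup.eq_of_le_of_card_ge inf_le_left (by rw [he, hZcard, hj])
      have hyZ : y ∈ Z := by rw [hZ]; exact Subgroup.mem_zpowers y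
      rw [← this] at hyZ
      exact hyW hyZ.2
    obtain ⟨c, hc⟩ := hd1
    have hc2 : c ∣ 2 := by
      rw [hc, pow_succ] at hd2
      exact Nat.dvd_of_mul_dvd_mul_left (by positivity) hd2
    have hc1 : c = 1 := by
      rcases (Nat.dvd_prime Nat.prime_two).mp hc2 with h | h
      · exact h
      · exfalso; apply hne; rw [hc, h, pow_succ]
    rw [hc, hc1, mul_one, hZcard, hj, hW4, pow_succ] at h1
    have hpos : 0 < 2 ^ i := by positivity
    nlinarith [h1]

/-- U1 (L0a'). -/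
theorem calA_of_four_group [Finite G] {W H : Subgroup G} (hW4 : Nat.card ↥W = 4) (hWnc : ¬ IsCyclic ↥W)
    (hWH : W ≤ H) {y : G} (hyH : y ∈ H) (hyW : y ∉ W) (hyc : y ∈ Subgroup.centralizer (W : Set G))
    (hy2 : ∃ n : ℕ, y ^ 2 ^ n = 1) : CalA H := by
  obtain ⟨m, hm1, hm2⟩ := exists_pow_not_mem_sq_mem hyW hy2
  refine calA_of_four_group_sq hW4 hWnc hWH (Subgroup.pow_mem _ hyH _) hm1
    (Subgroup.pow_mem _ hyc _) hm2 ?_
  obtain ⟨n, hn⟩ := hy2
  exact ⟨n, by rw [← pow_mul, mul_comm, pow_mul, hn, one_pow]⟩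

end Cfsg.Agent.Lib.Helper5.NA8
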