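import Mathlib
import Cfsg.Agent.Lib.Helper5.NA8Defs
import Cfsg.Agent.Lib.Helper1.Coprime
import Cfsg.Agent.Lib.Helper1.PL1
import Cfsg.Agent.Lib.Helper1.ThompsonPQ
import Cfsg.Agent.Lib.Helper8.Ext1
set_option autoImplicit false
open scoped commutatorElement
namespace Cfsg.Agent.Lib.Helper5.NA8

variable {G : Type*} [Group G]

theorem coprime_of_odd_of_isPGroup [Finite G] {Y K : Subgroup G} (hY : IsPGroup 2 ↥Y)
    (hK : Odd (Nat.card ↥K)) : (Nat.card ↥K).Coprime (Nat.card ↥Y) := by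
  haveI : Fact (Nat.Prime 2) := ⟨Nat.prime_two⟩
  obtain ⟨n, hn⟩ := IsPGroup.iff_card.mp hY
  rw [hn]
  exact Nat.Coprime.pow_right n (Nat.coprime_two_right.mpr hK)

theorem isSolvable_of_isPGroup_two [Finite G] {Y : Subgroup G} (hY : IsPGroup 2 ↥Y) :
    Group.IsSolvable ↥Y := by
  haveI : Fact (Nat.Prime 2) := ⟨Nat.prime_two⟩
  haveI : Group.IsNilpotent ↥Y := hY.isNilpotent
  infer_instance

/-- coprime action: `[[Y,K],K] = [Y,K]` for a 2-group `Y` and `K` of odd order. -/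
theorem commutator_commutator_eq [Finite G] {Y K : Subgroup G} (hY : IsPGroup 2 ↥Y)
    (hK : Odd (Nat.card ↥K)) (hKY : K ≤ Subgroup.normalizer (Y : Set G)) : ⁅⁅Y, K⁆, K⁆ = ⁅Y, K⁆ :=
  Cfsg.Agent.Lib.Helper1.coprime_commutator_commutator K Y hKY (coprime_of_odd_of_isPGroup hY hK)
    (Or.inr (isSolvable_of_isPGroup_two hY))

/-- U3a. -/
theorem commutator_eq_bot_of_card_two {U K : Subgroup G} (hU : Nat.card ↥U = 2)
    (hK : K ≤ Subgroup.normalizer (U : Set G)) : ⁅U, K⁆ = ⊥ := by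
  rw [Subgroup.commutator_eq_bot_iff_le_centralizer]
  intro u hu
  rw [Subgroup.mem_centralizer_iff]
  intro k hk
  have hku : k * u * k⁻¹ ∈ U := (Subgroup.mem_normalizer_iff.mp (hK hk) u).mp hu
  obtain ⟨x, y, hxy, huniv⟩ := Nat.card_eq_two_iff.mp hU
  have hall : ∀ a : ↥U, a = x ∨ a = y := by
    intro a
    have : a ∈ ({x, y} : Set ↥U) := by rw [huniv]; exact Set.mem_univ a
    simpa using this
  by_cases hu1 : u = 1
  · rw [hu1]; simp
  have hku1 : k * u * k⁻¹ ≠ 1 := by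
    intro h
    apply hu1
    have : u = k⁻¹ * (k * u * k⁻¹) * k := by group
    rw [this, h]; group
  have key : k * u * k⁻¹ = u := by
    have h1 := hall ⟨u, hu⟩
    have h2 := hall ⟨k * u * k⁻¹, hku⟩
    have h3 := hall 1
    have e1 : (⟨u, hu⟩ : ↥U) ≠ 1 := fun h => hu1 (congrArg Subtype.val h)
    have e2 : (⟨k * u * k⁻¹, hku⟩ : ↥U) ≠ 1 := fun h => hku1 (congrArg Subtype.val h)
    have : (⟨k * u * k⁻¹, hku⟩ : ↥U) = ⟨u, hu⟩ := by
      rcases h3 with h3 | h3
      · rcases h1 with h1 | h1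
        · exact absurd (h1.trans h3.symm) e1
        · rcases h2 with h2 | h2
          · exact absurd (h2.trans h3.symm) e2
          · exact h2.trans h1.symm
      · rcases h1 with h1 | h1
        · rcases h2 with h2 | h2
          · exact h2.trans h1.symm
          · exact absurd (h2.trans h3.symm) e2
        · exact absurd (h1.trans h3.symm) e1
    exact congrArg Subtype.val this
  calc k * u = k * u * k⁻¹ * k := by group
    _ = u * k := by rw [key]

/-- U3b. -/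
theorem commutator_le_of_index_two [Finite G] {U Y K : Subgroup G} (hUY : U ≤ Y)
    (hcard : Nat.card ↥Y = 2 * Nat.card ↥U) (hKU : K ≤ Subgroup.normalizer (U : Set G))
    (hKY : K ≤ Subgroup.normalizer (Y : Set G)) : ⁅Y, K⁆ ≤ U := by
  have hidx : (U.subgroupOf Y).index = 2 := by
    have h1 := (U.subgroupOf Y).card_mul_index
    rw [Nat.card_congr (Subgroup.subgroupOfEquivOfLe hUY).toEquiv, hcard] at h1
    have hpos : 0 < Nat.card ↥U := Nat.card_pos
    have : Nat.card ↥U * (U.subgroupOf Y).index = Nat.card ↥U * 2 := by rw [h1]; ring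
    exact Nat.eq_of_mul_eq_mul_left hpos this
  rw [Subgroup.commutator_le]
  intro y hy k hk
  have hky : k * y⁻¹ * k⁻¹ ∈ Y := (Subgroup.mem_normalizer_iff.mp (hKY hk) _).mp (Y.inv_mem hy)
  have e : ⁅y, k⁆ = y * (k * y⁻¹ * k⁻¹) := by rw [commutatorElement_def]; group
  rw [e]
  have h := Subgroup.mul_mem_iff_of_index_two hidx (a := (⟨y, hy⟩ : ↥Y))
    (b := (⟨k * y⁻¹ * k⁻¹, hky⟩ : ↥Y))
  simp only [Subgroup.mem_subgroupOf, Subgroup.coe_mul] at h
  rw [h]
  constructor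
  · intro h1
    exact (Subgroup.mem_normalizer_iff.mp (hKU hk) _).mp (U.inv_mem h1)
  · intro h1
    have := (Subgroup.mem_normalizer_iff.mp (hKU hk) _).mpr h1
    exact (U.inv_mem_iff).mp this

/-- U3c. -/
theorem commutator_eq_bot_of_le [Finite G] {Y K U : Subgroup G} (hY : IsPGroup 2 ↥Y)
    (hK : Odd (Nat.card ↥K)) (hKY : K ≤ Subgroup.normalizer (Y : Set G))
    (h1 : ⁅Y, K⁆ ≤ U) (h2 : ⁅U, K⁆ = ⊥) : ⁅Y, K⁆ = ⊥ := by
  rw [← commutator_commutator_eq hY hK hKY, eq_bot_iff, ← h2]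
  exact Subgroup.commutator_mono h1 le_rfl

theorem isPGroup_two_of_card {Y : Subgroup G} {n : ℕ} (h : Nat.card ↥Y = 2 ^ n) : IsPGroup 2 ↥Y := by
  haveI : Fact (Nat.Prime 2) := ⟨Nat.prime_two⟩
  exact IsPGroup.of_card h

/-- U3d (IRR4). -/
theorem irr_four [Finite G] {W K U : Subgroup G} (hW4 : Nat.card ↥W = 4) (hK : Odd (Nat.card ↥K))
    (hKW : K ≤ Subgroup.normalizer (W : Set G)) (hne : ⁅W, K⁆ ≠ ⊥) (hUW : U ≤ W)
    (hKU : K ≤ Subgroup.normalizer (U : Set G)) : U = ⊥ ∨ U = W := by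
  have hWp : IsPGroup 2 ↥W := isPGroup_two_of_card (n := 2) (by rw [hW4]; norm_num)
  have hd : Nat.card ↥U ∣ 4 := hW4 ▸ Subgroup.card_dvd_of_le hUW
  have hle : Nat.card ↥U ≤ 4 := Nat.le_of_dvd (by norm_num) hd
  have hpos : 0 < Nat.card ↥U := Nat.card_pos
  have hcases : Nat.card ↥U = 1 ∨ Nat.card ↥U = 2 ∨ Nat.card ↥U = 4 := by
    interval_cases h : Nat.card ↥U <;> simp_all
  rcases hcases with h | h | h
  · left; exact Subgroup.card_eq_one.mp h
  · exfalso
    apply hne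
    exact commutator_eq_bot_of_le hWp hK hKW
      (commutator_le_of_index_two hUW (by rw [hW4, h]) hKU hKW)
      (commutator_eq_bot_of_card_two h hKU)
  · right; exact Subgroup.eq_of_le_of_card_ge hUW (by rw [h, hW4])

/-- IRR4, corollary: `[W,K] = W`. -/
theorem irr_four_commutator [Finite G] {W K : Subgroup G} (hW4 : Nat.card ↥W = 4)
    (hK : Odd (Nat.card ↥K)) (hKW : K ≤ Subgroup.normalizer (W : Set G)) (hne : ⁅W, K⁆ ≠ ⊥) :
    ⁅W, K⁆ = W := by
  rcases irr_four hW4 hK hKW hne (Subgroup.le_normalizer_iff_commutator_le_left.mp hKW)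
    (Subgroup.normalizer_commutator_ge_right W K) with h | h
  · exact absurd h hne
  · exact h

/-- a central subgroup of index 2 forces commutativity -/
theorem comm_of_central_index_two [Finite G] {U Q : Subgroup G} (hUQ : U ≤ Q)
    (hcard : Nat.card ↥Q = 2 * Nat.card ↥U) (hc : U ≤ Subgroup.centralizer (Q : Set G)) :
    IsMulCommutative ↥Q := by
  have hidx : (U.subgroupOf Q).index = 2 := by
    have h1 := (U.subgroupOf Q).card_mul_index
    rw [Nat.card_congr (Subgroup.subgroupOfEquivOfLe hUQ).toEquiv, hcard] at h1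
    have hpos : 0 < Nat.card ↥U := Nat.card_pos
    have : Nat.card ↥U * (U.subgroupOf Q).index = Nat.card ↥U * 2 := by rw [h1]; ring
    exact Nat.eq_of_mul_eq_mul_left hpos this
  apply Cfsg.Agent.Lib.Helper1.PL.isMulCommutative_of_comm
  intro x hx y hy
  by_cases hxU : x ∈ U
  · exact (Subgroup.mem_centralizer_iff.mp (hc hxU) y hy).symm
  by_cases hyU : y ∈ U
  · exact Subgroup.mem_centralizer_iff.mp (hc hyU) x hx
  have h := Subgroup.mul_mem_iff_of_index_two hidx (a := (⟨x⁻¹, Q.inv_mem hx⟩ : ↥Q))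
    (b := (⟨y, hy⟩ : ↥Q))
  simp only [Subgroup.mem_subgroupOf, Subgroup.coe_mul] at h
  have hu : x⁻¹ * y ∈ U := by
    rw [h]
    constructor
    · intro h1; exact absurd (U.inv_mem_iff.mp h1) hxU
    · intro h1; exact absurd h1 hyU
  have hux := Subgroup.mem_centralizer_iff.mp (hc hu) x hx
  -- y = x * u
  have ey : y = x * (x⁻¹ * y) := by group
  rw [ey]
  calc x * (x * (x⁻¹ * y)) = x * ((x⁻¹ * y) * x) := by rw [← hux]
    _ = x * (x⁻¹ * y) * x := by group

/-- U3e (IRR8). -/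
theorem irr_eight [Finite G] {Q K U : Subgroup G} (hQ8 : Nat.card ↥Q = 8)
    (hna : ¬ IsMulCommutative ↥Q) (hK : Odd (Nat.card ↥K))
    (hKQ : K ≤ Subgroup.normalizer (Q : Set G)) (hne : ⁅Q, K⁆ ≠ ⊥)
    (hUQ : U ≤ Q) (hKU : K ≤ Subgroup.normalizer (U : Set G)) (hU : U ≠ Q) :
    Nat.card ↥U ≤ 2 ∧ ⁅U, K⁆ = ⊥ := by
  haveI : Fact (Nat.Prime 2) := ⟨Nat.prime_two⟩
  have hQp : IsPGroup 2 ↥Q := isPGroup_two_of_card (n := 3) (by rw [hQ8]; norm_num)
  have hd : Nat.card ↥U ∣ 8 := hQ8 ▸ Subgroup.card_dvd_of_le hUQ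
  have hle : Nat.card ↥U ≤ 8 := Nat.le_of_dvd (by norm_num) hd
  have hpos : 0 < Nat.card ↥U := Nat.card_pos
  have hne8 : Nat.card ↥U ≠ 8 := fun h =>
    hU (Subgroup.eq_of_le_of_card_ge hUQ (by rw [h, hQ8]))
  have hcases : Nat.card ↥U = 1 ∨ Nat.card ↥U = 2 ∨ Nat.card ↥U = 4 := by
    interval_cases h : Nat.card ↥U <;> simp_all
  rcases hcases with h | h | h
  · refine ⟨by omega, ?_⟩
    rw [Subgroup.card_eq_one.mp h]
    exact Subgroup.commutator_bot_left K
  · exact ⟨by omega, commutator_eq_bot_of_card_two h hKU⟩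
  · exfalso
    have hQU : ⁅Q, K⁆ ≤ U := commutator_le_of_index_two hUQ (by rw [hQ8, h]) hKU hKQ
    have hUK : ⁅U, K⁆ ≠ ⊥ := fun h0 => hne (commutator_eq_bot_of_le hQp hK hKQ hQU h0)
    -- `U` is normal in `Q`
    have hidx : (U.subgroupOf Q).index = 2 := by
      have h1 := (U.subgroupOf Q).card_mul_index
      rw [Nat.card_congr (Subgroup.subgroupOfEquivOfLe hUQ).toEquiv, hQ8, h] at h1
      omega
    haveI : (U.subgroupOf Q).Normal := Subgroup.normal_of_index_eq_two hidx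
    have hne' : U.subgroupOf Q ≠ ⊥ := by
      intro h0
      have : Nat.card ↥(U.subgroupOf Q) = 1 := by rw [h0]; exact Subgroup.card_bot
      rw [Nat.card_congr (Subgroup.subgroupOfEquivOfLe hUQ).toEquiv, h] at this
      omega
    obtain ⟨x, hxU, hxZ, hx1⟩ := Cfsg.Agent.Lib.Helper8.Ext.normal_inf_center hQp (U.subgroupOf Q) hne'
    -- V := U ⊓ C(Q) is K-invariant and nontrivial
    have hV : U ⊓ Subgroup.centralizer (Q : Set G) ≠ ⊥ := by
      intro h0
      have hmem : (x : G) ∈ U ⊓ Subgroup.centralizer (Q : Set G) := by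
        refine Subgroup.mem_inf.mpr ⟨hxU, ?_⟩
        rw [Subgroup.mem_centralizer_iff]
        intro q hq
        have := Subgroup.mem_center_iff.mp hxZ ⟨q, hq⟩
        exact congrArg Subtype.val this
      rw [h0, Subgroup.mem_bot] at hmem
      exact hx1 (Subtype.ext hmem)
    have hKV : K ≤ Subgroup.normalizer ((U ⊓ Subgroup.centralizer (Q : Set G) : Subgroup G) : Set G) :=
      fun k hk => Cfsg.Agent.Lib.Helper1.PL.mem_normalizer_inf (hKU hk)
        (Cfsg.Agent.Lib.Helper1.PL.mem_normalizer_centralizer (hKQ hk))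
    rcases irr_four h hK hKU hUK inf_le_left hKV with h0 | h0
    · exact hV h0
    · apply hna
      exact comm_of_central_index_two hUQ (by rw [hQ8, h]) (by rw [← h0]; exact inf_le_right)

/-- IRR8, corollary: `[Q,K] = Q`. -/
theorem irr_eight_commutator [Finite G] {Q K : Subgroup G} (hQ8 : Nat.card ↥Q = 8)
    (hna : ¬ IsMulCommutative ↥Q) (hK : Odd (Nat.card ↥K))
    (hKQ : K ≤ Subgroup.normalizer (Q : Set G)) (hne : ⁅Q, K⁆ ≠ ⊥) : ⁅Q, K⁆ = Q := by
  by_contra hcon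
  have hQp : IsPGroup 2 ↥Q := isPGroup_two_of_card (n := 3) (by rw [hQ8]; norm_num)
  have h := (irr_eight hQ8 hna hK hKQ hne (Subgroup.le_normalizer_iff_commutator_le_left.mp hKQ)
    (Subgroup.normalizer_commutator_ge_right Q K) hcon).2
  rw [commutator_commutator_eq hQp hK hKQ] at h
  exact hne h

end Cfsg.Agent.Lib.Helper5.NA8
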