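import Mathlib
import Cfsg.Prelude
import Cfsg.Agent.Lib.Helper5.Siegel
import Cfsg.Agent.Lib.Helper5.Eichler
import Cfsg.Agent.Lib.Helper5.QuadIsom
import Cfsg.Agent.Lib.Helper5.OrthCard

set_option autoImplicit false
set_option linter.unusedSectionVars false
set_option linter.unusedVariables false
open Cfsg

/-!
Farm OMP (statement S2345), unit I3, part b (general quadratic forms): the long root elements
(Siegel transformations of totally singular independent pairs) form one class under the isometry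
group, and `(a, b) ↦ siegel a b` has the `SL_2`-orbits as fibres:
`|class| * |SL_2(F)| = |{totally singular independent pairs}|`.
-/

namespace Cfsg.Agent.Lib.Helper5.OMP

open Matrix QuadraticMap Cfsg.Agent.Lib.Helper5.CartanDieudonne Cfsg.Agent.Lib.Helper5.Refl
  Cfsg.Agent.Lib.Helper5.Siegel Cfsg.Agent.Lib.Helper5.Eichler Cfsg.Agent.Lib.Helper5.OrthCard

variable {ι : Type} [Fintype ι] [DecidableEq ι] {F : Type*} [Field F]
variable (Q : QuadraticForm F (ι → F))

/-- totally singular, linearly independent pair -/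
def IsTS (a b : ι → F) : Prop :=
  Q a = 0 ∧ Q b = 0 ∧ polar ⇑Q a b = 0 ∧ ∀ s t : F, s • a + t • b = 0 → s = 0 ∧ t = 0

variable {Q}

theorem IsTS.li {a b : ι → F} (h : IsTS Q a b) : LinearIndependent F ![a, b] := by
  rw [LinearIndependent.pair_iff]
  exact h.2.2.2

theorem IsTS.ne_zero_right {a b : ι → F} (h : IsTS Q a b) : b ≠ 0 := by
  intro hb
  have := h.2.2.2 0 1 (by rw [hb]; simp)
  exact one_ne_zero this.2

theorem IsTS.swap {a b : ι → F} (h : IsTS Q a b) : IsTS Q b a :=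
  ⟨h.2.1, h.1, by rw [polar_comm]; exact h.2.2.1, fun s t hst => by
    have := h.2.2.2 t s (by rw [add_comm]; exact hst)
    exact ⟨this.2, this.1⟩⟩

/-- the Siegel element of a totally singular pair -/
noncomputable def sg (a b : ι → F) (h : IsTS Q a b) : ↥(isometryGroup F ⇑Q) :=
  siegel Q a b h.1 h.2.1 h.2.2.1 1

theorem act_sg (a b : ι → F) (h : IsTS Q a b) (x : ι → F) :
    act Q (sg a b h) x = x + polar ⇑Q a x • b - polar ⇑Q b x • a := by
  unfold sg
  rw [act_siegel, one_mul, one_mul]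

/-- the pair `(a, b) h` for a `2 × 2` matrix `h` -/
def mvL (h : Matrix (Fin 2) (Fin 2) F) (a b : ι → F) : ι → F := h 0 0 • a + h 1 0 • b

def mvR (h : Matrix (Fin 2) (Fin 2) F) (a b : ι → F) : ι → F := h 0 1 • a + h 1 1 • b

theorem wedge_mv (h : Matrix (Fin 2) (Fin 2) F) (a b x : ι → F) :
    polar ⇑Q (mvL h a b) x • mvR h a b - polar ⇑Q (mvR h a b) x • mvL h a b =
      h.det • (polar ⇑Q a x • b - polar ⇑Q b x • a) := by
  unfold mvL mvR
  rw [polar_add_left, polar_add_left, polar_smul_left, polar_smul_left, polar_smul_left,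
    polar_smul_left, Matrix.det_fin_two]
  simp only [smul_eq_mul]
  ext i
  simp only [Pi.add_apply, Pi.sub_apply, Pi.smul_apply, smul_eq_mul]
  ring

theorem isTS_mv (h : Matrix.SpecialLinearGroup (Fin 2) F) {a b : ι → F} (hab : IsTS Q a b) :
    IsTS Q (mvL h.1 a b) (mvR h.1 a b) := by
  have hdet : h.1 0 0 * h.1 1 1 - h.1 0 1 * h.1 1 0 = 1 := by
    rw [← Matrix.det_fin_two]; exact h.2
  obtain ⟨ha, hb, hpol, hli⟩ := hab
  have hpol' : polar ⇑Q b a = 0 := by rw [polar_comm]; exact hpol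
  have hq : ∀ s t : F, Q (s • a + t • b) = 0 := by
    intro s t
    have h1 : Q (s • a + t • b) = Q (s • a) + Q (t • b) + polar ⇑Q (s • a) (t • b) := by
      unfold polar; ring
    rw [h1, QuadraticMap.map_smul, QuadraticMap.map_smul, ha, hb, polar_smul_left,
      polar_smul_right, hpol]
    simp
  refine ⟨hq _ _, hq _ _, ?_, ?_⟩
  · unfold mvL mvR
    simp only [polar_add_left, polar_add_right, polar_smul_left, polar_smul_right, polar_self,
      ha, hb, hpol, hpol']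
    simp
  · intro s t hst
    unfold mvL mvR at hst
    have e : (s * h.1 0 0 + t * h.1 0 1) • a + (s * h.1 1 0 + t * h.1 1 1) • b = 0 := by
      rw [← hst]
      simp only [smul_add, add_smul, mul_smul]
      abel
    obtain ⟨e1, e2⟩ := hli _ _ e
    constructor
    · linear_combination h.1 1 1 * e1 - h.1 0 1 * e2 - s * hdet
    · linear_combination h.1 0 0 * e2 - h.1 1 0 * e1 - t * hdet

theorem sg_mv (h : Matrix.SpecialLinearGroup (Fin 2) F) {a b : ι → F} (hab : IsTS Q a b) :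
    sg (mvL h.1 a b) (mvR h.1 a b) (isTS_mv h hab) = sg a b hab := by
  apply ext_act
  intro x
  rw [act_sg, act_sg, add_sub_assoc, add_sub_assoc, wedge_mv, h.2, one_smul]

/-- `(a, b) h = (a, b) h'` forces `h = h'` -/
theorem mv_injective {a b : ι → F} (hab : IsTS Q a b) (h h' : Matrix.SpecialLinearGroup (Fin 2) F)
    (hL : mvL h.1 a b = mvL h'.1 a b) (hR : mvR h.1 a b = mvR h'.1 a b) : h = h' := by
  unfold mvL at hL
  unfold mvR at hR
  have e1 : (h.1 0 0 - h'.1 0 0) • a + (h.1 1 0 - h'.1 1 0) • b = 0 := by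
    rw [sub_smul, sub_smul]
    have := sub_eq_zero.2 hL
    rw [← this]
    abel
  have e2 : (h.1 0 1 - h'.1 0 1) • a + (h.1 1 1 - h'.1 1 1) • b = 0 := by
    rw [sub_smul, sub_smul]
    have := sub_eq_zero.2 hR
    rw [← this]
    abel
  obtain ⟨f1, f2⟩ := hab.2.2.2 _ _ e1
  obtain ⟨f3, f4⟩ := hab.2.2.2 _ _ e2
  apply Subtype.ext
  ext i j
  fin_cases i <;> fin_cases j
  · exact sub_eq_zero.1 f1
  · exact sub_eq_zero.1 f3
  · exact sub_eq_zero.1 f2
  · exact sub_eq_zero.1 f4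

/-- a vector dual to `a` modulo `b` -/
theorem exists_dual (hQ : (polarBilin Q).Nondegenerate) {a b : ι → F} (hab : IsTS Q a b) :
    ∃ x : ι → F, polar ⇑Q a x = 1 ∧ polar ⇑Q b x = 0 := by
  have hnot : a ∉ Submodule.span F {b} := by
    intro hmem
    obtain ⟨c, hc⟩ := Submodule.mem_span_singleton.1 hmem
    have := hab.2.2.2 1 (-c) (by rw [one_smul, neg_smul, hc, add_neg_cancel])
    exact one_ne_zero this.1
  obtain ⟨z, hz1, hz2⟩ := QuadIsom.exists_perp_not_perp Q hQ (Submodule.span F {b}) a hnot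
  refine ⟨(polar ⇑Q z a)⁻¹ • z, ?_, ?_⟩
  · rw [polar_smul_right, polar_comm (⇑Q) a z, smul_eq_mul, inv_mul_cancel₀ hz2]
  · rw [polar_smul_right, hz1 b (Submodule.mem_span_singleton_self b), smul_zero]

/-- the fibres of `sg` are the `SL_2`-orbits -/
theorem exists_mv_of_sg_eq (hQ : (polarBilin Q).Nondegenerate) {a b a' b' : ι → F}
    (hab : IsTS Q a b) (hab' : IsTS Q a' b') (h : sg a b hab = sg a' b' hab') :
    ∃ g : Matrix.SpecialLinearGroup (Fin 2) F, mvL g.1 a b = a' ∧ mvR g.1 a b = b' := by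
  have hE : ∀ x, polar ⇑Q a x • b - polar ⇑Q b x • a = polar ⇑Q a' x • b' - polar ⇑Q b' x • a' := by
    intro x
    have h1 : act Q (sg a b hab) x = act Q (sg a' b' hab') x := by rw [h]
    rw [act_sg, act_sg] at h1
    have h2 : polar ⇑Q a x • b - polar ⇑Q b x • a =
        (x + polar ⇑Q a x • b - polar ⇑Q b x • a) - x := by abel
    rw [h2, h1]
    abel
  obtain ⟨x₁, hx₁a, hx₁b⟩ := exists_dual hQ hab'
  obtain ⟨x₂, hx₂b, hx₂a⟩ := exists_dual hQ hab'.swap
  obtain ⟨x₃, hx₃a, hx₃b⟩ := exists_dual hQ hab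
  have e1 := hE x₁
  rw [hx₁a, hx₁b, one_smul, zero_smul, sub_zero] at e1
  have e2 := hE x₂
  rw [hx₂a, hx₂b, one_smul, zero_smul, zero_sub] at e2
  -- the matrix
  set M : Matrix (Fin 2) (Fin 2) F :=
    !![polar ⇑Q b x₂, -polar ⇑Q b x₁; -polar ⇑Q a x₂, polar ⇑Q a x₁] with hM
  have hL : mvL M a b = a' := by
    unfold mvL
    simp only [hM, Matrix.of_apply, Matrix.cons_val', Matrix.cons_val_zero, Matrix.cons_val_one,
      Matrix.empty_val', Matrix.cons_val_fin_one]
    have : a' = -(polar ⇑Q a x₂ • b - polar ⇑Q b x₂ • a) := by rw [e2, neg_neg]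
    rw [this, neg_smul]
    abel
  have hR : mvR M a b = b' := by
    unfold mvR
    simp only [hM, Matrix.of_apply, Matrix.cons_val', Matrix.cons_val_zero, Matrix.cons_val_one,
      Matrix.empty_val', Matrix.cons_val_fin_one]
    rw [← e1, neg_smul]
    abel
  have hdet : M.det = 1 := by
    have hw := wedge_mv (Q := Q) M a b x₃
    rw [hL, hR, ← hE x₃, hx₃a, hx₃b, one_smul, zero_smul, sub_zero] at hw
    have h3 : (1 - M.det) • b = 0 := by
      rw [sub_smul, one_smul]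
      exact sub_eq_zero.2 hw
    rcases smul_eq_zero.1 h3 with h4 | h4
    · exact (sub_eq_zero.1 h4).symm
    · exact absurd h4 hab.ne_zero_right
  exact ⟨⟨M, hdet⟩, hL, hR⟩

/-- the class of the long root elements -/
def rootClass (a₀ b₀ : ι → F) (h₀ : IsTS Q a₀ b₀) : Set ↥(isometryGroup F ⇑Q) :=
  {x | ∃ (o : ↥(isometryGroup F ⇑Q)) (s : F), s ≠ 0 ∧
    x = o * siegel Q a₀ b₀ h₀.1 h₀.2.1 h₀.2.2.1 s * o⁻¹}

theorem isTS_smul_left {a b : ι → F} (hab : IsTS Q a b) (s : F) (hs : s ≠ 0) :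
    IsTS Q (s • a) b := by
  obtain ⟨ha, hb, hpol, hli⟩ := hab
  refine ⟨by rw [QuadraticMap.map_smul, ha, smul_zero], hb,
    by rw [polar_smul_left, hpol, smul_zero], ?_⟩
  intro u t hut
  rw [smul_smul] at hut
  obtain ⟨h1, h2⟩ := hli _ _ hut
  exact ⟨(mul_eq_zero.1 h1).resolve_right hs, h2⟩

theorem isTS_act (o : ↥(isometryGroup F ⇑Q)) {a b : ι → F} (hab : IsTS Q a b) :
    IsTS Q (act Q o a) (act Q o b) := by
  obtain ⟨ha, hb, hpol, hli⟩ := hab
  refine ⟨by rw [quad_act, ha], by rw [quad_act, hb], by rw [polar_act, hpol], ?_⟩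
  intro s t hst
  apply hli
  have h1 : act Q o (s • a + t • b) = 0 := by
    rw [act_add, act_smul, act_smul, hst]
  have h2 := congrArg (act Q o⁻¹) h1
  rw [show act Q o⁻¹ (act Q o (s • a + t • b)) = s • a + t • b from by
    have := act_inv_act Q o⁻¹ (s • a + t • b)
    rw [inv_inv] at this
    exact this] at h2
  rw [h2]
  have : act Q o⁻¹ (0 : ι → F) = 0 := by
    have := act_smul Q o⁻¹ (0 : F) (0 : ι → F)
    rw [zero_smul, zero_smul] at this
    exact this
  exact this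

theorem siegel_eq_sg {a b : ι → F} (hab : IsTS Q a b) (s : F) (hs : s ≠ 0) :
    siegel Q a b hab.1 hab.2.1 hab.2.2.1 s = sg (s • a) b (isTS_smul_left hab s hs) := by
  apply ext_act
  intro x
  rw [act_sg, act_siegel, polar_smul_left, smul_smul, smul_eq_mul, mul_smul, mul_comm s]

theorem mem_rootClass_iff [FiniteDimensional F (ι → F)] (hQ : (polarBilin Q).Nondegenerate)
    (a₀ b₀ : ι → F) (h₀ : IsTS Q a₀ b₀) (x : ↥(isometryGroup F ⇑Q)) :
    x ∈ rootClass a₀ b₀ h₀ ↔ ∃ (a b : ι → F) (hab : IsTS Q a b), x = sg a b hab := by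
  constructor
  · rintro ⟨o, s, hs, rfl⟩
    rw [conj_siegel]
    have hts := isTS_act o h₀
    refine ⟨s • act Q o a₀, act Q o b₀, isTS_smul_left hts s hs, ?_⟩
    rw [← siegel_eq_sg hts s hs]
  · rintro ⟨a, b, hab, rfl⟩
    obtain ⟨φ, hφ, hφx⟩ := QuadIsom.witt_family Q hQ 2 ![a₀, b₀] ![a, b] h₀.li hab.li
      (by
        intro j
        fin_cases j
        · simp [h₀.1, hab.1]
        · simp [h₀.2.1, hab.2.1])
      (by
        intro j k
        fin_cases j <;> fin_cases k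
        · simp [polar_self, h₀.1, hab.1]
        · simpa using h₀.2.2.1.trans hab.2.2.1.symm
        · simp only [Fin.mk_one, Fin.isValue, Matrix.cons_val_one, Matrix.cons_val_zero,
            Fin.zero_eta]
          rw [polar_comm, h₀.2.2.1, polar_comm, hab.2.2.1]
        · simp [polar_self, h₀.2.1, hab.2.1])
    obtain ⟨o, ho⟩ := exists_isom_of_linearEquiv Q φ hφ
    have hoa : act Q o a₀ = a := by rw [ho]; exact hφx 0
    have hob : act Q o b₀ = b := by rw [ho]; exact hφx 1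
    refine ⟨o, 1, one_ne_zero, ?_⟩
    rw [conj_siegel]
    apply ext_act
    intro x
    rw [act_sg, act_siegel, hoa, hob, one_mul, one_mul]

/-- `|class| * |SL_2(F)| = |{totally singular independent pairs}|` -/
theorem card_rootClass_mul [FiniteDimensional F (ι → F)] (hQ : (polarBilin Q).Nondegenerate)
    (a₀ b₀ : ι → F) (h₀ : IsTS Q a₀ b₀) :
    Nat.card {x : ↥(isometryGroup F ⇑Q) // x ∈ rootClass a₀ b₀ h₀} *
        Nat.card (Matrix.SpecialLinearGroup (Fin 2) F) =
      Nat.card {p : (ι → F) × (ι → F) // IsTS Q p.1 p.2} := by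
  classical
  rw [← Nat.card_prod]
  -- representatives
  have hrep : ∀ x : {x : ↥(isometryGroup F ⇑Q) // x ∈ rootClass a₀ b₀ h₀},
      ∃ p : {p : (ι → F) × (ι → F) // IsTS Q p.1 p.2}, x.1 = sg p.1.1 p.1.2 p.2 := by
    intro x
    obtain ⟨a, b, hab, hx⟩ := (mem_rootClass_iff hQ a₀ b₀ h₀ x.1).1 x.2
    exact ⟨⟨(a, b), hab⟩, hx⟩
  choose rep hrep' using hrep
  let Φ : {x : ↥(isometryGroup F ⇑Q) // x ∈ rootClass a₀ b₀ h₀} ×
      Matrix.SpecialLinearGroup (Fin 2) F → {p : (ι → F) × (ι → F) // IsTS Q p.1 p.2} :=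
    fun xh => ⟨(mvL xh.2.1 (rep xh.1).1.1 (rep xh.1).1.2, mvR xh.2.1 (rep xh.1).1.1 (rep xh.1).1.2),
      isTS_mv xh.2 (rep xh.1).2⟩
  have hΦsg : ∀ xh, sg (Φ xh).1.1 (Φ xh).1.2 (Φ xh).2 = xh.1.1 := by
    intro xh
    rw [hrep' xh.1]
    exact sg_mv xh.2 (rep xh.1).2
  apply Nat.card_congr
  refine Equiv.ofBijective Φ ⟨?_, ?_⟩
  · rintro ⟨x, h⟩ ⟨x', h'⟩ hxx
    have e1 : x = x' := by
      apply Subtype.ext
      rw [← hΦsg (x, h), ← hΦsg (x', h')]
      congr 1 <;> rw [hxx]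
    subst e1
    have e2 := congrArg Subtype.val hxx
    have e3 : mvL h.1 (rep x).1.1 (rep x).1.2 = mvL h'.1 (rep x).1.1 (rep x).1.2 :=
      congrArg Prod.fst e2
    have e4 : mvR h.1 (rep x).1.1 (rep x).1.2 = mvR h'.1 (rep x).1.1 (rep x).1.2 :=
      congrArg Prod.snd e2
    rw [mv_injective (rep x).2 h h' e3 e4]
  · rintro ⟨⟨a', b'⟩, hab'⟩
    have hmem : sg a' b' hab' ∈ rootClass a₀ b₀ h₀ :=
      (mem_rootClass_iff hQ a₀ b₀ h₀ _).2 ⟨a', b', hab', rfl⟩
    set x : {x : ↥(isometryGroup F ⇑Q) // x ∈ rootClass a₀ b₀ h₀} := ⟨sg a' b' hab', hmem⟩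
    have hx : sg (rep x).1.1 (rep x).1.2 (rep x).2 = sg a' b' hab' := (hrep' x).symm
    obtain ⟨g, hgL, hgR⟩ := exists_mv_of_sg_eq hQ (rep x).2 hab' hx
    refine ⟨(x, g), ?_⟩
    apply Subtype.ext
    exact Prod.ext hgL hgR

end Cfsg.Agent.Lib.Helper5.OMP
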