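import Mathlib
import Cfsg.Prelude
import Cfsg.Agent.Lib.Helper2.OMMDefs

set_option autoImplicit false
set_option linter.unusedSectionVars false
set_option linter.unusedVariables false
open Cfsg

/-! Farm OMM (S2346), unit TOWER: the isomorphisms `Ω(genForm Q₀ (i+2)) ≃* Ω(hypExt² (genForm Q₀ i))`
and `Ω(genForm Q₀ (i+3)) ≃* Ω(hypExt³ (genForm Q₀ i))`, the standing hypotheses `Hyp` for the tower
forms, and the existence of pairs `z, z' ⊥ b` with `polar z z' = 1` in the core. -/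

namespace Cfsg.Agent.Lib.Helper5.OMMTower

open Matrix QuadraticMap Cfsg.Agent.Lib.Helper5.CartanDieudonne
  Cfsg.Agent.Lib.Helper5.OrthCard Cfsg.Agent.Lib.Helper5.OrthPlane
  Cfsg.Agent.Lib.Helper5.Eichler Cfsg.Agent.Lib.Helper5.OmegaSimple
  Cfsg.Agent.Lib.Helper5.SpinorHyp Cfsg.Agent.Lib.Helper5.SpinorHyp2
  Cfsg.Agent.Lib.Helper5.IsomReindex Cfsg.Agent.Lib.Helper5.IsoTools
  Cfsg.Agent.Lib.Helper5.OMMLevi Cfsg.Agent.Lib.Helper2.OMM

section reindex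
variable {F : Type*} [Field F] {ι ι' : Type} [Fintype ι] [DecidableEq ι] [Fintype ι']
  [DecidableEq ι']

/-- `hypExt` is compatible with reindexing -/
theorem hypExt_reindex (σ : ι ≃ ι') (Qa : QuadraticForm F (ι → F)) (Qb : QuadraticForm F (ι' → F))
    (h : ∀ v : ι' → F, Qb v = Qa (v ∘ σ)) (u : Fin 2 ⊕ ι' → F) :
    hypExt Qb u = hypExt Qa (u ∘ Equiv.sumCongr (Equiv.refl (Fin 2)) σ) := by
  rw [hypExt_apply, hypExt_apply, h]
  rfl

end reindex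

section tower
variable {F : Type*} [Field F] {κ₀ : Type} [Fintype κ₀] [DecidableEq κ₀]
  (Q₀ : QuadraticForm F (κ₀ → F))

/-- index equivalence, one step -/
def t1 (i : ℕ) (κ₀ : Type) : (Fin (i + 1) ⊕ Fin (i + 1)) ⊕ κ₀ ≃ K1 ((Fin i ⊕ Fin i) ⊕ κ₀) :=
  (stepEquiv i κ₀).symm

/-- index equivalence, two steps -/
def t2 (i : ℕ) (κ₀ : Type) : (Fin (i + 2) ⊕ Fin (i + 2)) ⊕ κ₀ ≃ K2 ((Fin i ⊕ Fin i) ⊕ κ₀) :=
  (t1 (i + 1) κ₀).trans (Equiv.sumCongr (Equiv.refl (Fin 2)) (t1 i κ₀))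

/-- index equivalence, three steps -/
def t3 (i : ℕ) (κ₀ : Type) : (Fin (i + 3) ⊕ Fin (i + 3)) ⊕ κ₀ ≃ K3 ((Fin i ⊕ Fin i) ⊕ κ₀) :=
  (t1 (i + 2) κ₀).trans (Equiv.sumCongr (Equiv.refl (Fin 2)) (t2 i κ₀))

theorem form1 (i : ℕ) (v : K1 ((Fin i ⊕ Fin i) ⊕ κ₀) → F) :
    Q1 (genForm Q₀ i) v = genForm Q₀ (i + 1) (v ∘ t1 i κ₀) := by
  rw [genForm_succ]
  congr 1
  funext x
  simp [t1]

theorem form2 (i : ℕ) (v : K2 ((Fin i ⊕ Fin i) ⊕ κ₀) → F) :
    Q2 (genForm Q₀ i) v = genForm Q₀ (i + 2) (v ∘ t2 i κ₀) := by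
  show hypExt (hypExt (genForm Q₀ i)) v = _
  rw [hypExt_reindex (t1 i κ₀) (genForm Q₀ (i + 1)) (hypExt (genForm Q₀ i)) (form1 Q₀ i),
    form1 Q₀ (i + 1)]
  rfl

theorem form3 (i : ℕ) (v : K3 ((Fin i ⊕ Fin i) ⊕ κ₀) → F) :
    Q3 (genForm Q₀ i) v = genForm Q₀ (i + 3) (v ∘ t3 i κ₀) := by
  show hypExt (hypExt (hypExt (genForm Q₀ i))) v = _
  rw [hypExt_reindex (t2 i κ₀) (genForm Q₀ (i + 2)) (hypExt (hypExt (genForm Q₀ i)))
    (form2 Q₀ i), form1 Q₀ (i + 2)]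
  rfl

/-- `O(genForm Q₀ (i+2)) ≃* O(hypExt² (genForm Q₀ i))` -/
noncomputable def isomTower2 (i : ℕ) :
    ↥(isometryGroup F ⇑(genForm Q₀ (i + 2))) ≃* ↥(isometryGroup F ⇑(Q2 (genForm Q₀ i))) :=
  isometryGroupReindexMul (t2 i κ₀) ⇑(genForm Q₀ (i + 2)) ⇑(Q2 (genForm Q₀ i)) (form2 Q₀ i)

/-- `O(genForm Q₀ (i+3)) ≃* O(hypExt³ (genForm Q₀ i))` -/
noncomputable def isomTower3 (i : ℕ) :
    ↥(isometryGroup F ⇑(genForm Q₀ (i + 3))) ≃* ↥(isometryGroup F ⇑(Q3 (genForm Q₀ i))) :=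
  isometryGroupReindexMul (t3 i κ₀) ⇑(genForm Q₀ (i + 3)) ⇑(Q3 (genForm Q₀ i)) (form3 Q₀ i)

/-- `Ω(genForm Q₀ (i+2)) ≃* Ω(hypExt² (genForm Q₀ i))` -/
noncomputable def omegaTower2 (i : ℕ) :
    ↥(Omega F ⇑(genForm Q₀ (i + 2))) ≃* ↥(Omega F ⇑(Q2 (genForm Q₀ i))) :=
  commEquiv (isomTower2 Q₀ i)

/-- `Ω(genForm Q₀ (i+3)) ≃* Ω(hypExt³ (genForm Q₀ i))` -/
noncomputable def omegaTower3 (i : ℕ) :
    ↥(Omega F ⇑(genForm Q₀ (i + 3))) ≃* ↥(Omega F ⇑(Q3 (genForm Q₀ i))) :=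
  commEquiv (isomTower3 Q₀ i)

end tower

section hyp
variable {F : Type*} [Field F] [Fintype F] {κ : Type} [Fintype κ] [DecidableEq κ]
  (Qc : QuadraticForm F (κ → F))

/-- the empty hyperbolic family -/
theorem hypFamily_empty : IsHypFamily Qc (Fin.elim0 : Fin 0 → κ) (Fin.elim0 : Fin 0 → κ) where
  inj_α := fun s => s.elim0
  inj_β := fun s => s.elim0
  disj := fun s => s.elim0
  polar_α := fun s => s.elim0
  polar_β := fun s => s.elim0
  sing_α := fun s => s.elim0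
  sing_β := fun s => s.elim0

/-- `Hyp` for the top of the tower, for every nondegenerate core -/
theorem hyp_Q3 (hnd : (polarBilin Qc).Nondegenerate) : Hyp (Q3 Qc) :=
  Hyp.of_hypFamily
    (hypExt_nondegenerate _ (hypExt_nondegenerate _ (hypExt_nondegenerate Qc hnd)))
    (hypFamily_hypExt (Q2 Qc) _ _ (hypFamily_hypExt (Q1 Qc) _ _
      (hypFamily_hypExt Qc _ _ (hypFamily_empty Qc)))) (le_refl 3)
    (by simp only [Fintype.card_sum, Fintype.card_fin]; omega)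

/-- `Hyp` for the middle of the tower, when the core contains a standard hyperbolic pair -/
theorem hyp_Q2 (hnd : (polarBilin Qc).Nondegenerate) {i : ℕ} (α β : Fin i → κ)
    (h : IsHypFamily Qc α β) (hi : 1 ≤ i) : Hyp (Q2 Qc) :=
  Hyp.of_hypFamily (hypExt_nondegenerate _ (hypExt_nondegenerate Qc hnd))
    (hypFamily_hypExt (Q1 Qc) _ _ (hypFamily_hypExt Qc α β h)) (by omega)
    (by
      have h1 : i ≤ Fintype.card κ := by
        have := Fintype.card_le_of_injective α h.inj_α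
        simpa using this
      simp only [Fintype.card_sum, Fintype.card_fin]; omega)

variable (a b : F)

/-- `Hyp (Q3 (genForm (binForm a b) i))` for all `i` -/
theorem hyp_Q3_genForm
    (hab : ∀ z₁ z₂ : F, z₁ ^ 2 + a * z₁ * z₂ + b * z₂ ^ 2 = 0 → z₁ = 0 ∧ z₂ = 0) (i : ℕ) :
    Hyp (Q3 (genForm (binForm a b) i)) :=
  hyp_Q3 _ (genForm_nondegenerate (binForm a b)
    (binForm_nondegenerate a b (anisotropic_of a b hab)) i)

/-- `Hyp (Q2 (genForm (binForm a b) i))` for `i ≥ 1` -/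
theorem hyp_Q2_genForm
    (hab : ∀ z₁ z₂ : F, z₁ ^ 2 + a * z₁ * z₂ + b * z₂ ^ 2 = 0 → z₁ = 0 ∧ z₂ = 0) (i : ℕ)
    (hi : 1 ≤ i) : Hyp (Q2 (genForm (binForm a b) i)) :=
  hyp_Q2 _ (genForm_nondegenerate (binForm a b)
    (binForm_nondegenerate a b (anisotropic_of a b hab)) i) _ _
    (genForm_hypFamily (binForm a b) (le_refl i)) hi

end hyp

section pair
variable {F : Type*} [Field F] {ι : Type} [Fintype ι] [DecidableEq ι]
  (Q : QuadraticForm F (ι → F))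

theorem polar_self_sing (e : ι → F) (he : Q e = 0) : polar ⇑Q e e = 0 := by
  unfold polar
  rw [← two_smul F e, QuadraticMap.map_smul, he]
  simp

/-- a hyperbolic pair `e, f` and a pair `s, s'` orthogonal to it with `polar s s' = 1` give, for every
`b`, vectors `z, z' ⊥ b` with `polar z z' = 1` -/
theorem pair_of_frame (e f s s' : ι → F) (he : Q e = 0) (hf : Q f = 0)
    (hef : polar ⇑Q e f = 1) (hes : polar ⇑Q e s = 0) (hes' : polar ⇑Q e s' = 0)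
    (hfs : polar ⇑Q f s = 0) (hfs' : polar ⇑Q f s' = 0) (hss' : polar ⇑Q s s' = 1)
    (b : ι → F) :
    ∃ z z' : ι → F, polar ⇑Q z b = 0 ∧ polar ⇑Q z' b = 0 ∧ polar ⇑Q z z' = 1 := by
  have hee := polar_self_sing Q e he
  have hff := polar_self_sing Q f hf
  by_cases hp : polar ⇑Q e b = 0
  · by_cases hr : polar ⇑Q f b = 0
    · exact ⟨e, f, hp, hr, hef⟩
    · refine ⟨s - (polar ⇑Q s b * (polar ⇑Q f b)⁻¹) • f, s' - (polar ⇑Q s' b * (polar ⇑Q f b)⁻¹) • f,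
        ?_, ?_, ?_⟩
      · rw [polar_sub_left, polar_smul_left, smul_eq_mul, mul_assoc, inv_mul_cancel₀ hr, mul_one,
          sub_self]
      · rw [polar_sub_left, polar_smul_left, smul_eq_mul, mul_assoc, inv_mul_cancel₀ hr, mul_one,
          sub_self]
      · rw [polar_sub_left, polar_sub_right, polar_sub_right, polar_smul_left, polar_smul_left,
          polar_smul_right, polar_smul_right, hff, hfs', polar_comm (⇑Q) s f, hfs, hss']
        simp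
  · refine ⟨s - (polar ⇑Q s b * (polar ⇑Q e b)⁻¹) • e, s' - (polar ⇑Q s' b * (polar ⇑Q e b)⁻¹) • e,
      ?_, ?_, ?_⟩
    · rw [polar_sub_left, polar_smul_left, smul_eq_mul, mul_assoc, inv_mul_cancel₀ hp, mul_one,
        sub_self]
    · rw [polar_sub_left, polar_smul_left, smul_eq_mul, mul_assoc, inv_mul_cancel₀ hp, mul_one,
        sub_self]
    · rw [polar_sub_left, polar_sub_right, polar_sub_right, polar_smul_left, polar_smul_left,
        polar_smul_right, polar_smul_right, hee, hes', polar_comm (⇑Q) s e, hes, hss']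
      simp

end pair

section pairgen
variable {F : Type*} [Field F] [Fintype F] (a b : F)

/-- a pair in the anisotropic plane with `polar = 1` -/
theorem exists_pair_binForm
    (hab : ∀ z₁ z₂ : F, z₁ ^ 2 + a * z₁ * z₂ + b * z₂ ^ 2 = 0 → z₁ = 0 ∧ z₂ = 0) :
    ∃ s s' : Fin 2 → F, polar ⇑(binForm a b) s s' = 1 := by
  have hnd := binForm_nondegenerate a b (anisotropic_of a b hab)
  have hs : (![1, 0] : Fin 2 → F) ≠ 0 := by
    intro h
    have := congrFun h 0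
    simp at this
  obtain ⟨w, hw⟩ := exists_polar_eq (binForm a b) hnd _ hs 1
  exact ⟨_, w, hw⟩

/-- PAIR for the core `genForm (binForm a b) 0`, `b = 0` -/
theorem pair_zero
    (hab : ∀ z₁ z₂ : F, z₁ ^ 2 + a * z₁ * z₂ + b * z₂ ^ 2 = 0 → z₁ = 0 ∧ z₂ = 0) (i : ℕ) :
    ∃ z z' : (Fin i ⊕ Fin i) ⊕ Fin 2 → F, polar ⇑(genForm (binForm a b) i) z 0 = 0 ∧
      polar ⇑(genForm (binForm a b) i) z' 0 = 0 ∧ polar ⇑(genForm (binForm a b) i) z z' = 1 := by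
  obtain ⟨s, s', hss'⟩ := exists_pair_binForm a b hab
  refine ⟨Sum.elim 0 s, Sum.elim 0 s', by simp [polar], by simp [polar], ?_⟩
  rw [polar_genForm]
  simp only [Sum.elim_inl, Pi.zero_apply, mul_zero, add_zero, Finset.sum_const_zero, zero_add]
  exact hss'

/-- PAIR for the core `genForm (binForm a b) i`, `i ≥ 1` -/
theorem pair_genForm
    (hab : ∀ z₁ z₂ : F, z₁ ^ 2 + a * z₁ * z₂ + b * z₂ ^ 2 = 0 → z₁ = 0 ∧ z₂ = 0) (i : ℕ)
    (hi : 1 ≤ i) (v : (Fin i ⊕ Fin i) ⊕ Fin 2 → F) :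
    ∃ z z' : (Fin i ⊕ Fin i) ⊕ Fin 2 → F, polar ⇑(genForm (binForm a b) i) z v = 0 ∧
      polar ⇑(genForm (binForm a b) i) z' v = 0 ∧ polar ⇑(genForm (binForm a b) i) z z' = 1 := by
  obtain ⟨s, s', hss'⟩ := exists_pair_binForm a b hab
  have hfam := genForm_hypFamily (binForm a b) (le_refl i)
  have h0 : 0 < i := hi
  refine pair_of_frame (genForm (binForm a b) i)
    (Pi.single (Sum.inl (Sum.inl (Fin.castLE (le_refl i) ⟨0, h0⟩))) 1)
    (Pi.single (Sum.inl (Sum.inr (Fin.castLE (le_refl i) ⟨0, h0⟩))) 1)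
    (Sum.elim 0 s) (Sum.elim 0 s')
    (hfam.sing_α ⟨0, h0⟩) (hfam.sing_β ⟨0, h0⟩) ?_ ?_ ?_ ?_ ?_ ?_ v
  · rw [hfam.polar_α ⟨0, h0⟩]; simp
  · rw [hfam.polar_α ⟨0, h0⟩]; simp
  · rw [hfam.polar_α ⟨0, h0⟩]; simp
  · rw [hfam.polar_β ⟨0, h0⟩]; simp
  · rw [hfam.polar_β ⟨0, h0⟩]; simp
  · rw [polar_genForm]
    simp only [Sum.elim_inl, Pi.zero_apply, mul_zero, add_zero, Finset.sum_const_zero, zero_add]
    exact hss'

end pairgen

end Cfsg.Agent.Lib.Helper5.OMMTower
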