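import Mathlib
import Cfsg.Prelude

set_option autoImplicit false
set_option linter.unusedSectionVars false

/-!
Farm OMP (statement S2345), unit I3 (the number of long root elements): definitions.
-/

namespace Cfsg.Agent.Lib.Helper5.OMP

open Cfsg

variable (F : Type*) [Field F] [Fintype F]

open Classical in
/-- the totally singular, linearly independent ordered pairs of the plus form `∑ x_i y_i` -/
noncomputable def tsPairs (n : ℕ) :
    Finset ((Fin n ⊕ Fin n → F) × (Fin n ⊕ Fin n → F)) :=
  Finset.univ.filter (fun p =>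
    Cfsg.quadFormPlus n F p.1 = 0 ∧ Cfsg.quadFormPlus n F p.2 = 0 ∧
    QuadraticMap.polar (Cfsg.quadFormPlus n F) p.1 p.2 = 0 ∧
    ∀ s t : F, s • p.1 + t • p.2 = 0 → s = 0 ∧ t = 0)

end Cfsg.Agent.Lib.Helper5.OMP
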