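import Mathlib
import Cfsg.Prelude
import Cfsg.Agent.Lib.Helper5.OrthPairMax

set_option autoImplicit false
set_option linter.unusedSectionVars false
set_option linter.unusedVariables false
open Cfsg

/-! The stabiliser of a non-degenerate subspace `A` with `A` and `A^⊥` of dimension at least seven
and not isometric is a maximal subgroup of `Ω(Q)`. -/

namespace Cfsg.Agent.Lib.Helper5.OrthNondegMax

open Matrix QuadraticMap Module Cfsg.Agent.Lib.Helper5.CartanDieudonne Cfsg.Agent.Lib.Helper5.Refl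
  Cfsg.Agent.Lib.Helper5.OrthCard Cfsg.Agent.Lib.Helper5.Siegel Cfsg.Agent.Lib.Helper5.QuadIsom
  Cfsg.Agent.Lib.Helper5.ReflGen Cfsg.Agent.Lib.Helper5.Eichler Cfsg.Agent.Lib.Helper5.SingGeom
  Cfsg.Agent.Lib.Helper5.OmegaGen Cfsg.Agent.Lib.Helper5.OmegaSimple Cfsg.Agent.Lib.Helper5.MaxTS
  Cfsg.Agent.Lib.Helper5.SpSingularMax Cfsg.Agent.Lib.Helper5.OrthSingularMax
  Cfsg.Agent.Lib.Helper5.OrthPairMax

variable {ι : Type} [Fintype ι] [DecidableEq ι] {F : Type*} [Field F] [Fintype F]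
  {Q : QuadraticForm F (ι → F)} {M : Subgroup (Matrix.GeneralLinearGroup ι F)}

/-- an orthogonal decomposition of the space into two subspaces -/
structure OPair (Q : QuadraticForm F (ι → F)) (A B : Submodule F (ι → F)) : Prop where
  orth : ∀ a ∈ A, ∀ b ∈ B, polar ⇑Q a b = 0
  split : ∀ z : ι → F, ∃ a ∈ A, ∃ b ∈ B, a + b = z

theorem OPair.symm {A B : Submodule F (ι → F)} (h : OPair Q A B) : OPair Q B A where
  orth b hb a ha := by rw [polar_comm]; exact h.orth a ha b hb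
  split z := by
    obtain ⟨a, ha, b, hb, rfl⟩ := h.split z
    exact ⟨b, hb, a, ha, add_comm _ _⟩

theorem OPair.orth' {A B : Submodule F (ι → F)} (h : OPair Q A B) {a b : ι → F} (ha : a ∈ A)
    (hb : b ∈ B) : polar ⇑Q b a = 0 := by rw [polar_comm]; exact h.orth a ha b hb

theorem OPair.inter {A B : Submodule F (ι → F)} (h : OPair Q A B)
    (hQ : (polarBilin Q).Nondegenerate) {x : ι → F} (hA : x ∈ A) (hB : x ∈ B) : x = 0 := by
  apply hQ.1 x
  intro v
  obtain ⟨a, ha, b, hb, rfl⟩ := h.split v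
  rw [polarBilin_apply_apply, polar_add_right, h.orth' ha hB, h.orth x hA b hb, add_zero]

/-- dual vectors inside the first summand -/
theorem OPair.dual_vec {A B : Submodule F (ι → F)} (h : OPair Q A B)
    (hQ : (polarBilin Q).Nondegenerate) (p : Submodule F (ι → F)) {x : ι → F}
    (hxA : x ∈ A) (hpA : p ≤ A) (hx : x ∉ p) :
    ∃ z ∈ A, polar ⇑Q x z ≠ 0 ∧ ∀ y ∈ p, polar ⇑Q y z = 0 := by
  obtain ⟨z, hxz, hpz⟩ := OrthPairMax.dual_vec hQ p hx
  obtain ⟨a, ha, b, hb, rfl⟩ := h.split z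
  refine ⟨a, ha, ?_, ?_⟩
  · rwa [polar_add_right, h.orth x hxA b hb, add_zero] at hxz
  · intro y hy
    have := hpz y hy
    rwa [polar_add_right, h.orth y (hpA hy) b hb, add_zero] at this

/-- a hyperbolic pair inside a summand of dimension at least three -/
theorem OPair.exists_hyp_pair {A B : Submodule F (ι → F)} (h : OPair Q A B)
    (hQ : (polarBilin Q).Nondegenerate) (hdim : 3 ≤ finrank F A) :
    ∃ e ∈ A, ∃ f ∈ A, Q e = 0 ∧ Q f = 0 ∧ polar ⇑Q e f = 1 := by
  obtain ⟨e, heA, he0, hQe⟩ := exists_singular_in Q A hdim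
  have hnot : e ∉ (⊥ : Submodule F (ι → F)) := by
    rw [Submodule.mem_bot]; exact he0
  obtain ⟨y, hyA, hey, -⟩ := h.dual_vec hQ ⊥ heA bot_le hnot
  have hye : polar ⇑Q y e ≠ 0 := by rw [polar_comm]; exact hey
  refine ⟨e, heA, (polar ⇑Q e y)⁻¹ • (y + (-(Q y) / polar ⇑Q y e) • e),
    A.smul_mem _ (A.add_mem hyA (A.smul_mem _ heA)), hQe, ?_, ?_⟩
  · rw [QuadraticMap.map_smul, QuadIsom.quad_add_smul, hQe, mul_zero, add_zero,
      div_mul_cancel₀ _ hye]
    simp
  · rw [polar_smul_right, polar_add_right, polar_smul_right, polar_self_of_sing Q e hQe,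
      smul_zero, add_zero, smul_eq_mul, inv_mul_cancel₀ hey]

/-- a singular vector of the summand not orthogonal to a given non-zero vector of it -/
theorem OPair.exists_sing_not_perp {A B : Submodule F (ι → F)} (h : OPair Q A B)
    (hQ : (polarBilin Q).Nondegenerate) (hdim : 3 ≤ finrank F A) {x : ι → F} (hxA : x ∈ A)
    (hx0 : x ≠ 0) : ∃ s ∈ A, Q s = 0 ∧ polar ⇑Q s x ≠ 0 := by
  by_contra hcon
  push Not at hcon
  obtain ⟨e, heA, f, hfA, hQe, hQf, hef⟩ := h.exists_hyp_pair hQ hdim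
  have hall := perp_of_perp_singular Q A e f heA hfA hQe hQf hef x hcon
  apply hx0
  apply hQ.1 x
  intro v
  obtain ⟨a, ha, b, hb, rfl⟩ := h.split v
  rw [polarBilin_apply_apply, polar_add_right, polar_comm, hall a ha, h.orth x hxA b hb, add_zero]

/-- the summand is spanned by its singular vectors -/
theorem OPair.span_singular {A B : Submodule F (ι → F)} (h : OPair Q A B)
    (hQ : (polarBilin Q).Nondegenerate) (hdim : 3 ≤ finrank F A) :
    A ≤ Submodule.span F {s | s ∈ A ∧ Q s = 0} := by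
  by_contra hcon
  obtain ⟨v, hvA, hv⟩ := SetLike.not_le_iff_exists.mp hcon
  have hle : Submodule.span F {s | s ∈ A ∧ Q s = 0} ≤ A := by
    rw [Submodule.span_le]
    intro s hs
    exact hs.1
  obtain ⟨z, hzA, hvz, hz⟩ := h.dual_vec hQ _ hvA hle hv
  have hz0 : z ≠ 0 := by
    rintro rfl
    exact hvz (polar_zero_right _ _)
  obtain ⟨s, hsA, hQs, hsz⟩ := h.exists_sing_not_perp hQ hdim hzA hz0
  exact hsz (hz s (Submodule.subset_span ⟨hsA, hQs⟩))

section steps
variable {A B : Submodule F (ι → F)} (h : OPair Q A B) (hQ : (polarBilin Q).Nondegenerate)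
  (hKA : ∀ u ∈ A, Q u = 0 → ∀ z ∈ A, polar ⇑Q u z = 0 → InE Q M u z)
  (hKB : ∀ u ∈ B, Q u = 0 → ∀ z ∈ B, polar ⇑Q u z = 0 → InE Q M u z)

include h hQ hKA in
/-- the main step: a root subgroup of `M` with independent `A`-components produces a root
subgroup joining a singular vector of `A` to a vector of `B` -/
theorem OPair.step1 (hdim : 7 ≤ finrank F A) {x y xA xB yA yB : ι → F} (hxA : xA ∈ A)
    (hxB : xB ∈ B) (hx : xA + xB = x) (hyA : yA ∈ A) (hyB : yB ∈ B) (hy : yA + yB = y)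
    (hE : InE Q M x y) (hyx : yA ∉ Submodule.span F ({xA} : Set (ι → F))) :
    ∃ a ∈ A, a ≠ 0 ∧ Q a = 0 ∧ InE Q M a xB := by
  obtain ⟨P, hPdef⟩ : ∃ P, P = Submodule.span F ({xA, yA} : Set (ι → F)) := ⟨_, rfl⟩
  have hPA : P ≤ A := by rw [hPdef]; exact span_pair_le hxA hyA
  have hP2 : finrank F P ≤ 2 := by rw [hPdef]; exact finrank_span_pair_le xA yA
  obtain ⟨C₀, hC₀⟩ := Submodule.exists_isCompl P
  have hsum := Submodule.finrank_add_eq_of_isCompl hC₀
  have h1 := finrank_inf_orth hQ A P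
  have h2 := Submodule.finrank_sup_add_finrank_inf_eq (A ⊓ MaxTS.orth Q P) C₀
  have h3 : finrank F ↥((A ⊓ MaxTS.orth Q P) ⊔ C₀) ≤ finrank F (ι → F) := Submodule.finrank_le _
  obtain ⟨a, haS, ha0, hQa⟩ := exists_singular_in Q ((A ⊓ MaxTS.orth Q P) ⊓ C₀) (by omega)
  have haA : a ∈ A := haS.1.1
  have haP := (mem_orth Q P a).mp haS.1.2
  have hxa : polar ⇑Q xA a = 0 := haP xA (by rw [hPdef]; exact Submodule.subset_span (by simp))
  have hya : polar ⇑Q yA a = 0 := haP yA (by rw [hPdef]; exact Submodule.subset_span (by simp))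
  have haxA : polar ⇑Q a xA = 0 := by rw [polar_comm]; exact hxa
  have hayA : polar ⇑Q a yA = 0 := by rw [polar_comm]; exact hya
  have hanP : a ∉ P := by
    intro hmem
    have : a ∈ P ⊓ C₀ := ⟨hmem, haS.2⟩
    rw [hC₀.inf_eq_bot, Submodule.mem_bot] at this
    exact ha0 this
  have hxAP : xA ∈ P := by rw [hPdef]; exact Submodule.subset_span (by simp)
  have hyAP : yA ∈ P := by rw [hPdef]; exact Submodule.subset_span (by simp)
  have hy_ax : yA ∉ Submodule.span F ({a, xA} : Set (ι → F)) := by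
    intro hmem
    obtain ⟨c, d, hcd⟩ := Submodule.mem_span_pair.mp hmem
    by_cases hc0 : c = 0
    · rw [hc0, zero_smul, zero_add] at hcd
      exact hyx (Submodule.mem_span_singleton.mpr ⟨d, hcd⟩)
    · apply hanP
      have : a = c⁻¹ • (yA - d • xA) := by
        rw [← hcd, add_sub_cancel_right, smul_smul, inv_mul_cancel₀ hc0, one_smul]
      rw [this]
      exact Submodule.smul_mem _ _ (Submodule.sub_mem _ hyAP (Submodule.smul_mem _ _ hxAP))
  obtain ⟨a', ha'A, hya', ha'⟩ := h.dual_vec hQ _ hyA (span_pair_le haA hxA) hy_ax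
  have haa' : polar ⇑Q a a' = 0 := ha' a (Submodule.subset_span (by simp))
  have hxAa' : polar ⇑Q xA a' = 0 := ha' xA (Submodule.subset_span (by simp))
  have hax : polar ⇑Q a x = 0 := by
    rw [← hx, polar_add_right, haxA, h.orth a haA xB hxB, add_zero]
  have hay : polar ⇑Q a y = 0 := by
    rw [← hy, polar_add_right, hayA, h.orth a haA yB hyB, add_zero]
  have ha'x : polar ⇑Q a' x = 0 := by
    rw [← hx, polar_add_right, polar_comm, hxAa', h.orth a' ha'A xB hxB, add_zero]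
  have ha'y : polar ⇑Q a' y ≠ 0 := by
    rw [← hy, polar_add_right, h.orth a' ha'A yB hyB, add_zero, polar_comm]; exact hya'
  have hk := EG_mem_of_inE (hKA a haA hQa a' ha'A haa')
  have h3 := inE_conj (EG Q a a') hk hE
  rw [act_EG Q a a' hQa haa', act_EG Q a a' hQa haa', hax, hay, ha'x] at h3
  simp only [zero_smul, add_zero, mul_zero, neg_zero] at h3
  have h4 := inE_sub h3 hE
  rw [add_sub_cancel_left] at h4
  have h5 : InE Q M x a := by
    have := inE_smul_right (-(polar ⇑Q a' y))⁻¹ h4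
    rwa [smul_smul, inv_mul_cancel₀ (neg_ne_zero.mpr ha'y), one_smul] at this
  have h6 : InE Q M a x := inE_symm h5 hQa
  have h7 : InE Q M a xB := by
    have := inE_sub h6 (hKA a haA hQa xA hxA haxA)
    rwa [← hx, add_sub_cancel_left] at this
  exact ⟨a, haA, ha0, hQa, h7⟩

include h hQ hKB in
/-- irreducibility: a root subgroup joining `a` to one non-zero vector of `B` gives all of `B` -/
theorem OPair.all_B_of_one (hdim : 3 ≤ finrank F B) {a : ι → F} (haA : a ∈ A) (hQa : Q a = 0)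
    {x₀ : ι → F} (hx₀ : x₀ ∈ B) (hx₀0 : x₀ ≠ 0) (hE : InE Q M a x₀) :
    ∀ b ∈ B, InE Q M a b := by
  have hs := h.symm
  -- moving along root elements of `B`
  have hmove : ∀ b₁ ∈ B, Q b₁ = 0 → ∀ b₂ ∈ B, polar ⇑Q b₁ b₂ = 0 → ∀ b ∈ B, InE Q M a b →
      InE Q M a (b + polar ⇑Q b₁ b • b₂ + (-(polar ⇑Q b₂ b + Q b₂ * polar ⇑Q b₁ b)) • b₁) := by
    intro b₁ hb₁ hQb₁ b₂ hb₂ hb₁₂ b hb hEb
    have hk := EG_mem_of_inE (hKB b₁ hb₁ hQb₁ b₂ hb₂ hb₁₂)
    have h3 := inE_conj (EG Q b₁ b₂) hk hEb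
    rw [act_EG Q b₁ b₂ hQb₁ hb₁₂, act_EG Q b₁ b₂ hQb₁ hb₁₂, h.orth' haA hb₁, h.orth' haA hb₂]
      at h3
    simp only [zero_smul, add_zero, mul_zero, neg_zero] at h3
    exact h3
  obtain ⟨b₁', hb₁'B, hQb₁', hb₁'x⟩ := hs.exists_sing_not_perp hQ hdim hx₀ hx₀0
  obtain ⟨b₁, hb₁def⟩ : ∃ b₁, b₁ = (polar ⇑Q b₁' x₀)⁻¹ • b₁' := ⟨_, rfl⟩
  have hb₁B : b₁ ∈ B := by rw [hb₁def]; exact B.smul_mem _ hb₁'B
  have hQb₁ : Q b₁ = 0 := by rw [hb₁def, QuadraticMap.map_smul, hQb₁', smul_zero]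
  have hb₁x : polar ⇑Q b₁ x₀ = 1 := by
    rw [hb₁def, polar_smul_left, smul_eq_mul, inv_mul_cancel₀ hb₁'x]
  have hb₁0 : b₁ ≠ 0 := by
    rintro rfl
    rw [polar_zero_left] at hb₁x
    exact zero_ne_one hb₁x
  -- the elements `d b₂`
  have hd : ∀ b₂ ∈ B, polar ⇑Q b₁ b₂ = 0 →
      InE Q M a (b₂ + (-(polar ⇑Q b₂ x₀ + Q b₂)) • b₁) := by
    intro b₂ hb₂ hb₁₂
    have h1 := hmove b₁ hb₁B hQb₁ b₂ hb₂ hb₁₂ x₀ hx₀ hE
    rw [hb₁x, one_smul, mul_one] at h1
    have h2 := inE_sub h1 hE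
    have e : x₀ + b₂ + (-(polar ⇑Q b₂ x₀ + Q b₂)) • b₁ - x₀ =
        b₂ + (-(polar ⇑Q b₂ x₀ + Q b₂)) • b₁ := by abel
    rwa [e] at h2
  -- `b₁` itself
  have hlt : ¬ (B ⊓ MaxTS.orth Q (Submodule.span F ({b₁} : Set (ι → F))) ≤
      Submodule.span F ({b₁} : Set (ι → F))) := by
    intro hle
    have h1 := Submodule.finrank_mono hle
    have h2 := finrank_inf_orth hQ B (Submodule.span F ({b₁} : Set (ι → F)))
    have h3 : finrank F (Submodule.span F ({b₁} : Set (ι → F))) ≤ 1 := by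
      have := finrank_span_le_card (R := F) ({b₁} : Set (ι → F))
      simpa using this
    omega
  obtain ⟨b₂, hb₂S, hb₂n'⟩ := SetLike.not_le_iff_exists.mp hlt
  have hb₂B : b₂ ∈ B := hb₂S.1
  have hb₁₂ : polar ⇑Q b₁ b₂ = 0 :=
    (mem_orth Q _ b₂).mp hb₂S.2 b₁ (Submodule.subset_span (by simp))
  obtain ⟨b₃, hb₃B, hb₂₃, hb₃⟩ := hs.dual_vec hQ _ hb₂B (span_singleton_le hb₁B) hb₂n'
  have hb₁₃ : polar ⇑Q b₁ b₃ = 0 := hb₃ b₁ (Submodule.subset_span (by simp))
  have hInb₁ : InE Q M a b₁ := by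
    have h1 := hd b₂ hb₂B hb₁₂
    have h2 := hd b₃ hb₃B hb₁₃
    have h3 := hd (b₂ + b₃) (B.add_mem hb₂B hb₃B) (by rw [polar_add_right, hb₁₂, hb₁₃, add_zero])
    have h4 := inE_sub (inE_add h1 h2) h3
    have e : b₂ + (-(polar ⇑Q b₂ x₀ + Q b₂)) • b₁ + (b₃ + (-(polar ⇑Q b₃ x₀ + Q b₃)) • b₁) -
        (b₂ + b₃ + (-(polar ⇑Q (b₂ + b₃) x₀ + Q (b₂ + b₃))) • b₁) = polar ⇑Q b₂ b₃ • b₁ := by
      rw [polar_add_left, quad_add']
      module
    rw [e] at h4
    have h5 := inE_smul_right (polar ⇑Q b₂ b₃)⁻¹ h4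
    rwa [smul_smul, inv_mul_cancel₀ hb₂₃, one_smul] at h5
  -- all vectors of `B` orthogonal to `b₁`
  have hperp : ∀ b ∈ B, polar ⇑Q b₁ b = 0 → InE Q M a b := by
    intro b hb hb₁b
    have h1 := inE_add (hd b hb hb₁b) (inE_smul_right (polar ⇑Q b x₀ + Q b) hInb₁)
    have e : b + (-(polar ⇑Q b x₀ + Q b)) • b₁ + (polar ⇑Q b x₀ + Q b) • b₁ = b := by module
    rwa [e] at h1
  intro b hb
  have h1 := hperp (b - polar ⇑Q b₁ b • x₀) (B.sub_mem hb (B.smul_mem _ hx₀)) (by
    rw [polar_sub_right, polar_smul_right, hb₁x, smul_eq_mul, mul_one, sub_self])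
  have h2 := inE_add h1 (inE_smul_right (polar ⇑Q b₁ b) hE)
  rwa [sub_add_cancel] at h2

include h hKA in
/-- a singular vector of `A` joined to all of `B` is a centre -/
theorem OPair.isCentre_of_all_B {a : ι → F} (haA : a ∈ A) (hQa : Q a = 0)
    (hall : ∀ b ∈ B, InE Q M a b) : IsCentre Q M a := by
  apply isCentre_of_inE_all hQa
  intro z haz
  obtain ⟨zA, hzA, zB, hzB, rfl⟩ := h.split z
  have hazA : polar ⇑Q a zA = 0 := by
    rwa [polar_add_right, h.orth a haA zB hzB, add_zero] at haz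
  exact inE_add (hKA a haA hQa zA hzA hazA) (hall zB hzB)

end steps

section spread
variable (H : Hyp Q) (W : Submodule F (ι → F)) (hW : ∀ w ∈ W, Q w = 0)
  (hWc : ∀ w ∈ W, IsCentre Q M w)

include hW hWc in
/-- moving a centre along root elements with centre in `W` -/
theorem step' (s w y : ι → F) (hs : IsCentre Q M s) (hw : w ∈ W) (hws : polar ⇑Q w s = 1)
    (hwy : polar ⇑Q w y = 0) (hQ : Q (s + y) = 0) : IsCentre Q M (s + y) := by
  have h1 := isCentre_act _ ((hWc w hw).2 (hW w hw) y hwy) hs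
  have e : act Q (eich Q w y (hW w hw) hwy) s = s + y := by
    rw [act_eich, eichlerMap_apply, hws, one_smul, mul_one]
    have h2 : Q y + polar ⇑Q y s = 0 := by
      rw [quad_add', hs.1, zero_add, polar_comm] at hQ
      exact hQ
    rw [add_comm (polar ⇑Q y s), h2, neg_zero, zero_smul, add_zero]
  rw [e] at h1
  exact h1

include hW hWc in
theorem all_outside' (s : ι → F) (hs : IsCentre Q M s) (hsW : s ∉ MaxTS.orth Q W) :
    ∀ x, Q x = 0 → x ∉ MaxTS.orth Q W → IsCentre Q M x := by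
  intro x hx hxW
  rw [mem_orth] at hsW hxW
  push Not at hsW hxW
  obtain ⟨w₁, hw₁, h₁⟩ := hsW
  obtain ⟨w₂, hw₂, h₂⟩ := hxW
  obtain ⟨w, hw, hws, hwx⟩ : ∃ w ∈ W, polar ⇑Q w s ≠ 0 ∧ polar ⇑Q w x ≠ 0 := by
    by_cases h3 : polar ⇑Q w₁ x = 0
    · by_cases h4 : polar ⇑Q w₂ s = 0
      · refine ⟨w₁ + w₂, W.add_mem hw₁ hw₂, ?_, ?_⟩
        · rw [polar_add_left, h4, add_zero]; exact h₁
        · rw [polar_add_left, h3, zero_add]; exact h₂
      · exact ⟨w₂, hw₂, h4, h₂⟩
    · exact ⟨w₁, hw₁, h₁, h3⟩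
  have hs' := isCentre_smul (polar ⇑Q w s)⁻¹ hs
  have h5 : polar ⇑Q w ((polar ⇑Q w s)⁻¹ • s) = 1 := by
    rw [polar_smul_right, smul_eq_mul, inv_mul_cancel₀ hws]
  have h6 := step' W hW hWc _ w ((polar ⇑Q w x)⁻¹ • x - (polar ⇑Q w s)⁻¹ • s) hs' hw h5
    (by
      rw [polar_sub_right, polar_smul_right, polar_smul_right, smul_eq_mul, smul_eq_mul,
        inv_mul_cancel₀ hws, inv_mul_cancel₀ hwx, sub_self])
    (by
      rw [add_sub_cancel, QuadraticMap.map_smul, hx, smul_zero])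
  rw [add_sub_cancel] at h6
  have h7 := isCentre_smul (polar ⇑Q w x) h6
  rw [smul_smul, mul_inv_cancel₀ hwx, one_smul] at h7
  exact h7

include H hW hWc in
theorem all_inside' (hW0 : W ≠ ⊥)
    (hout : ∀ x, Q x = 0 → x ∉ MaxTS.orth Q W → IsCentre Q M x) :
    ∀ x, Q x = 0 → x ∈ MaxTS.orth Q W → IsCentre Q M x := by
  intro x hx hxW
  by_cases hx0 : x = 0
  · rw [hx0]; exact isCentre_zero M
  by_cases hxmem : x ∈ W
  · exact hWc x hxmem
  obtain ⟨w, hw, hw0⟩ := (Submodule.ne_bot_iff W).1 hW0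
  have hwx : w ∉ Submodule.span F {x} := by
    intro hmem
    obtain ⟨c, rfl⟩ := Submodule.mem_span_singleton.mp hmem
    have hc : c ≠ 0 := by
      rintro rfl
      exact hw0 (zero_smul F x)
    apply hxmem
    have := W.smul_mem c⁻¹ hw
    rwa [smul_smul, inv_mul_cancel₀ hc, one_smul] at this
  obtain ⟨s, hQs, hxs, hsw⟩ := exists_singular_perp_not_perp Q H.nondeg H.finrank5 x w hx0 hwx
  have hsW : s ∉ MaxTS.orth Q W := by
    intro hmem
    apply hsw
    rw [polar_comm]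
    exact (mem_orth Q W s).mp hmem w hw
  have hsC := hout s hQs hsW
  have hs0 : s ≠ 0 := by
    rintro rfl
    exact hsw (polar_zero_left _ _)
  have hxs' : x ∉ Submodule.span F {s} := by
    intro hmem
    obtain ⟨c, rfl⟩ := Submodule.mem_span_singleton.mp hmem
    have hc : c ≠ 0 := by
      rintro rfl
      exact hx0 (zero_smul F s)
    have h1 := (mem_orth Q W _).mp hxW w hw
    rw [polar_smul_right, smul_eq_mul] at h1
    rcases mul_eq_zero.mp h1 with h2 | h2
    · exact hc h2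
    · apply hsw
      rw [polar_comm]
      exact h2
  obtain ⟨z, hQz, hsz, hzx⟩ := exists_singular_perp_not_perp Q H.nondeg H.finrank5 s x hs0 hxs'
  have hg := hsC.2 hQs z hsz
  have hsx : polar ⇑Q s x = 0 := by rw [polar_comm]; exact hxs
  have e : act Q (eich Q s z hQs hsz) x = x + (-(polar ⇑Q z x)) • s := by
    rw [act_eich, eichlerMap_apply, hsx, zero_smul, add_zero, mul_zero, add_zero]
  have hout' : act Q (eich Q s z hQs hsz) x ∉ MaxTS.orth Q W := by
    rw [e, mem_orth]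
    push Not
    refine ⟨w, hw, ?_⟩
    rw [polar_add_right, (mem_orth Q W x).mp hxW w hw, zero_add, polar_smul_right, smul_eq_mul]
    apply mul_ne_zero (neg_ne_zero.mpr hzx)
    rw [polar_comm]
    exact hsw
  have h1 := hout _ (by rw [quad_act, hx]) hout'
  have h2 := isCentre_act (eich Q s z hQs hsz)⁻¹ (M.inv_mem hg) h1
  rw [act_inv_act'] at h2
  exact h2

include H in
/-- two non-orthogonal singular centres make every singular vector a centre -/
theorem all_of_two {a s : ι → F} (ha : IsCentre Q M a) (hs : IsCentre Q M s)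
    (has : polar ⇑Q a s ≠ 0) : ∀ x, Q x = 0 → IsCentre Q M x := by
  have ha0 : a ≠ 0 := by
    rintro rfl
    exact has (polar_zero_left _ _)
  have hW : ∀ w ∈ Submodule.span F ({a} : Set (ι → F)), Q w = 0 := by
    intro w hw
    obtain ⟨c, rfl⟩ := Submodule.mem_span_singleton.mp hw
    rw [QuadraticMap.map_smul, ha.1, smul_zero]
  have hWc : ∀ w ∈ Submodule.span F ({a} : Set (ι → F)), IsCentre Q M w := by
    intro w hw
    obtain ⟨c, rfl⟩ := Submodule.mem_span_singleton.mp hw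
    exact isCentre_smul c ha
  have hsW : s ∉ MaxTS.orth Q (Submodule.span F ({a} : Set (ι → F))) := by
    intro hmem
    exact has ((mem_orth Q _ s).mp hmem a (Submodule.mem_span_singleton_self a))
  have hW0 : Submodule.span F ({a} : Set (ι → F)) ≠ ⊥ := by
    intro h0
    have := Submodule.mem_span_singleton_self (R := F) a
    rw [h0, Submodule.mem_bot] at this
    exact ha0 this
  have hout := all_outside' _ hW hWc s hs hsW
  have hin := all_inside' H _ hW hWc hW0 hout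
  intro x hx
  by_cases hxW : x ∈ MaxTS.orth Q (Submodule.span F ({a} : Set (ι → F)))
  · exact hin x hx hxW
  · exact hout x hx hxW

end spread

section main
variable {A B : Submodule F (ι → F)} (h : OPair Q A B) (hQ : (polarBilin Q).Nondegenerate)
  (hKA : ∀ u ∈ A, Q u = 0 → ∀ z ∈ A, polar ⇑Q u z = 0 → InE Q M u z)

include h hQ hKA in
/-- a second centre, not orthogonal to a given singular centre of `A` -/
theorem OPair.second_centre (hdim : 3 ≤ finrank F A) {a : ι → F} (haA : a ∈ A) (ha0 : a ≠ 0)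
    (hC : IsCentre Q M a) : ∃ s, IsCentre Q M s ∧ polar ⇑Q a s ≠ 0 := by
  have hQa := hC.1
  have hnot : a ∉ (⊥ : Submodule F (ι → F)) := by
    rw [Submodule.mem_bot]; exact ha0
  obtain ⟨y₀, hy₀A, hay₀, -⟩ := h.dual_vec hQ ⊥ haA bot_le hnot
  have hy₀a : polar ⇑Q y₀ a ≠ 0 := by rw [polar_comm]; exact hay₀
  obtain ⟨f, hfdef⟩ : ∃ f, f = (polar ⇑Q a y₀)⁻¹ • (y₀ + (-(Q y₀) / polar ⇑Q y₀ a) • a) :=
    ⟨_, rfl⟩
  have hfA : f ∈ A := by
    rw [hfdef]
    exact A.smul_mem _ (A.add_mem hy₀A (A.smul_mem _ haA))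
  have hQf : Q f = 0 := by
    rw [hfdef, QuadraticMap.map_smul, QuadIsom.quad_add_smul, hQa, mul_zero, add_zero,
      div_mul_cancel₀ _ hy₀a]
    simp
  have haf : polar ⇑Q a f = 1 := by
    rw [hfdef, polar_smul_right, polar_add_right, polar_smul_right, polar_self_of_sing Q a hQa,
      smul_zero, add_zero, smul_eq_mul, inv_mul_cancel₀ hay₀]
  have hfa : polar ⇑Q f a = 1 := by rw [polar_comm]; exact haf
  -- an anisotropic vector of `A` orthogonal to `f`
  have hlt : ¬ (A ⊓ MaxTS.orth Q (Submodule.span F ({f} : Set (ι → F))) ≤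
      Submodule.span F ({f} : Set (ι → F))) := by
    intro hle
    have h1 := Submodule.finrank_mono hle
    have h2 := finrank_inf_orth hQ A (Submodule.span F ({f} : Set (ι → F)))
    have h3 : finrank F (Submodule.span F ({f} : Set (ι → F))) ≤ 1 := by
      have := finrank_span_le_card (R := F) ({f} : Set (ι → F))
      simpa using this
    omega
  obtain ⟨t, htS, htn⟩ := SetLike.not_le_iff_exists.mp hlt
  have htA : t ∈ A := htS.1
  have hft : polar ⇑Q f t = 0 :=
    (mem_orth Q _ t).mp htS.2 f (Submodule.subset_span (by simp))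
  obtain ⟨z, hzA, htz, hz⟩ := h.dual_vec hQ _ htA (span_singleton_le hfA) htn
  have hfz : polar ⇑Q f z = 0 := hz f (Submodule.subset_span (by simp))
  obtain ⟨y, hyA, hfy, hQy⟩ : ∃ y ∈ A, polar ⇑Q f y = 0 ∧ Q y ≠ 0 := by
    by_cases h1 : Q t = 0
    · by_cases h2 : Q z = 0
      · refine ⟨t + z, A.add_mem htA hzA, by rw [polar_add_right, hft, hfz, add_zero], ?_⟩
        rw [quad_add', h1, h2, zero_add, zero_add]
        exact htz
      · exact ⟨z, hzA, hfz, h2⟩
    · exact ⟨t, htA, hft, h1⟩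
  have hk := EG_mem_of_inE (hKA f hfA hQf y hyA hfy)
  have h4 := isCentre_act _ hk hC
  refine ⟨_, h4, ?_⟩
  rw [act_EG Q f y hQf hfy, hfa, one_smul, mul_one, polar_add_right, polar_add_right,
    polar_smul_right, polar_self_of_sing Q a hQa, haf, polar_comm Q y a]
  simp only [smul_eq_mul, mul_one, zero_add]
  intro hcon
  apply hQy
  have : polar ⇑Q a y + -(polar ⇑Q a y + Q y) = -(Q y) := by ring
  rw [this] at hcon
  exact neg_eq_zero.mp hcon

end main

section final
variable {A B : Submodule F (ι → F)}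

/-- the root elements inside one summand stabilise it -/
theorem EG_mem_stabA (H : Hyp Q) (h : OPair Q A B) {u z : ι → F} (hu : u ∈ A) (hQu : Q u = 0)
    (hz : z ∈ A) (huz : polar ⇑Q u z = 0) :
    ((EG Q u z : ↥(isometryGroup F ⇑Q)) : Matrix.GeneralLinearGroup ι F) ∈
      Cfsg.Geo.subspaceStabilizer A ⊓ Cfsg.Geo.omegaGL ⇑Q := by
  rw [Subgroup.mem_inf]
  refine ⟨mem_stab_of_map_le A _ ?_, ?_⟩
  · intro x hx
    have e : (((EG Q u z : ↥(isometryGroup F ⇑Q)) : Matrix.GeneralLinearGroup ι F) :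
        Matrix ι ι F) *ᵥ x = act Q (EG Q u z) x := rfl
    rw [e, act_EG Q u z hQu huz]
    exact A.add_mem (A.add_mem hx (A.smul_mem _ hz)) (A.smul_mem _ hu)
  · rw [EG_eq Q u z hQu huz]
    exact eich_mem_omegaGL H u z hQu huz

/-- the root elements inside the other summand fix the first one pointwise -/
theorem EG_mem_stabB (H : Hyp Q) (h : OPair Q A B) {u z : ι → F} (hu : u ∈ B) (hQu : Q u = 0)
    (hz : z ∈ B) (huz : polar ⇑Q u z = 0) :
    ((EG Q u z : ↥(isometryGroup F ⇑Q)) : Matrix.GeneralLinearGroup ι F) ∈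
      Cfsg.Geo.subspaceStabilizer A ⊓ Cfsg.Geo.omegaGL ⇑Q := by
  rw [Subgroup.mem_inf]
  refine ⟨mem_stab_of_map_le A _ ?_, ?_⟩
  · intro x hx
    have e : (((EG Q u z : ↥(isometryGroup F ⇑Q)) : Matrix.GeneralLinearGroup ι F) :
        Matrix ι ι F) *ᵥ x = act Q (EG Q u z) x := rfl
    rw [e, act_EG Q u z hQu huz, h.orth' hx hu, h.orth' hx hz]
    simp only [zero_smul, add_zero, mul_zero, neg_zero]
    exact hx
  · rw [EG_eq Q u z hQu huz]
    exact eich_mem_omegaGL H u z hQu huz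

theorem act_eq_zero (g : ↥(isometryGroup F ⇑Q)) {x : ι → F} (hx : act Q g x = 0) : x = 0 := by
  have := act_inv_act' g x
  rw [hx] at this
  rw [← this]
  exact Matrix.mulVec_zero _

/-- from an element of `M` outside the stabiliser to all centres -/
theorem all_centres (H : Hyp Q) (h : OPair Q A B) (hA : 7 ≤ finrank F A) (hB : 7 ≤ finrank F B)
    (hni : ∀ g : ↥(isometryGroup F ⇑Q), ¬ ∀ a ∈ A, act Q g a ∈ B)
    (hKM : Cfsg.Geo.subspaceStabilizer A ⊓ Cfsg.Geo.omegaGL ⇑Q ≤ M)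
    (g : ↥(isometryGroup F ⇑Q)) (hgM : (g : Matrix.GeneralLinearGroup ι F) ∈ M)
    (hg : (g : Matrix.GeneralLinearGroup ι F) ∉ Cfsg.Geo.subspaceStabilizer A) :
    ∀ x, Q x = 0 → IsCentre Q M x := by
  have hQ := H.nondeg
  have hs := h.symm
  have hKA : ∀ u ∈ A, Q u = 0 → ∀ z ∈ A, polar ⇑Q u z = 0 → InE Q M u z := by
    intro u hu hQu z hz huz
    refine ⟨hQu, huz, fun s => hKM (EG_mem_stabA H h hu hQu (A.smul_mem s hz) ?_)⟩
    rw [polar_smul_right, huz, smul_zero]
  have hKB : ∀ u ∈ B, Q u = 0 → ∀ z ∈ B, polar ⇑Q u z = 0 → InE Q M u z := by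
    intro u hu hQu z hz huz
    refine ⟨hQu, huz, fun s => hKM (EG_mem_stabB H h hu hQu (B.smul_mem s hz) ?_)⟩
    rw [polar_smul_right, huz, smul_zero]
  by_cases hcase : ∃ u₀ ∈ A, Q u₀ = 0 ∧ act Q g u₀ ∉ A ∧ act Q g u₀ ∉ B
  · obtain ⟨u₀, hu₀, hQu₀, hgA, hgB⟩ := hcase
    obtain ⟨xA, hxA, xB, hxB, hx⟩ := h.split (act Q g u₀)
    have hxA0 : xA ≠ 0 := by
      rintro rfl
      rw [zero_add] at hx
      exact hgB (hx ▸ hxB)
    have hxB0 : xB ≠ 0 := by
      rintro rfl
      rw [add_zero] at hx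
      exact hgA (hx ▸ hxA)
    -- a second vector
    have hex : ∃ z ∈ A ⊓ MaxTS.orth Q (Submodule.span F ({u₀} : Set (ι → F))),
        act Q g z ∉ Submodule.span F ({xA, xB} : Set (ι → F)) := by
      by_contra hcon
      push Not at hcon
      have hle : (A ⊓ MaxTS.orth Q (Submodule.span F ({u₀} : Set (ι → F)))).map
          (Matrix.toLin' ((g : Matrix.GeneralLinearGroup ι F) : Matrix ι ι F)) ≤
          Submodule.span F ({xA, xB} : Set (ι → F)) := by
        rintro _ ⟨b, hb, rfl⟩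
        rw [Matrix.toLin'_apply]
        exact hcon b hb
      have h1 := Submodule.finrank_mono hle
      rw [← (Submodule.equivMapOfInjective _ (gl_injective (g : Matrix.GeneralLinearGroup ι F))
        _).finrank_eq] at h1
      have h2 := finrank_inf_orth hQ A (Submodule.span F ({u₀} : Set (ι → F)))
      have h3 : finrank F (Submodule.span F ({u₀} : Set (ι → F))) ≤ 1 := by
        have := finrank_span_le_card (R := F) ({u₀} : Set (ι → F))
        simpa using this
      have h4 := finrank_span_pair_le (F := F) xA xB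
      omega
    obtain ⟨z, hz, hgz⟩ := hex
    have hu₀z : polar ⇑Q u₀ z = 0 :=
      (mem_orth Q _ z).mp hz.2 u₀ (Submodule.subset_span (by simp))
    obtain ⟨yA, hyA, yB, hyB, hy⟩ := h.split (act Q g z)
    have hE : InE Q M (act Q g u₀) (act Q g z) := inE_conj g hgM (hKA u₀ hu₀ hQu₀ z hz.1 hu₀z)
    have hor : yA ∉ Submodule.span F ({xA} : Set (ι → F)) ∨
        yB ∉ Submodule.span F ({xB} : Set (ι → F)) := by
      by_contra hcon
      push Not at hcon
      obtain ⟨c, hc⟩ := Submodule.mem_span_singleton.mp hcon.1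
      obtain ⟨d, hd⟩ := Submodule.mem_span_singleton.mp hcon.2
      apply hgz
      rw [← hy, ← hc, ← hd]
      exact Submodule.add_mem _ (Submodule.smul_mem _ _ (Submodule.subset_span (by simp)))
        (Submodule.smul_mem _ _ (Submodule.subset_span (by simp)))
    rcases hor with h1 | h1
    · obtain ⟨a, haA, ha0, hQa, hIn⟩ := h.step1 hQ hKA hA hxA hxB hx hyA hyB hy hE h1
      have hall := h.all_B_of_one hQ hKB (by omega) haA hQa hxB hxB0 hIn
      have hC := h.isCentre_of_all_B hKA haA hQa hall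
      obtain ⟨s, hsC, has⟩ := h.second_centre hQ hKA (by omega) haA ha0 hC
      exact all_of_two H hC hsC has
    · obtain ⟨b, hbB, hb0, hQb, hIn⟩ := hs.step1 hQ hKB hB hxB hxA
        (by rw [add_comm]; exact hx) hyB hyA (by rw [add_comm]; exact hy) hE h1
      have hall := hs.all_B_of_one hQ hKA (by omega) hbB hQb hxA hxA0 hIn
      have hC := hs.isCentre_of_all_B hKB hbB hQb hall
      obtain ⟨s, hsC, hbs⟩ := hs.second_centre hQ hKB (by omega) hbB hb0 hC
      exact all_of_two H hC hsC hbs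
  · exfalso
    push Not at hcase
    have hcase' : ∀ u ∈ A, Q u = 0 → act Q g u ∈ A ∨ act Q g u ∈ B := by
      intro u hu hQu
      by_cases h1 : act Q g u ∈ A
      · exact Or.inl h1
      · exact Or.inr (hcase u hu hQu h1)
    have hdich : (∀ u ∈ A, Q u = 0 → act Q g u ∈ A) ∨ (∀ u ∈ A, Q u = 0 → act Q g u ∈ B) := by
      by_contra hcon
      push Not at hcon
      obtain ⟨⟨u₁, hu₁, hQu₁, hg₁⟩, ⟨u₂, hu₂, hQu₂, hg₂⟩⟩ := hcon
      have hg₁B : act Q g u₁ ∈ B := (hcase' u₁ hu₁ hQu₁).resolve_left hg₁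
      have hg₂A : act Q g u₂ ∈ A := (hcase' u₂ hu₂ hQu₂).resolve_right hg₂
      have h2 := finrank_inf_orth hQ A (Submodule.span F ({u₁, u₂} : Set (ι → F)))
      have h3 := finrank_span_pair_le (F := F) u₁ u₂
      obtain ⟨u₃, hu₃S, hu₃0, hQu₃⟩ := exists_singular_in Q
        (A ⊓ MaxTS.orth Q (Submodule.span F ({u₁, u₂} : Set (ι → F)))) (by omega)
      have hu₃A : u₃ ∈ A := hu₃S.1
      have h13 : polar ⇑Q u₁ u₃ = 0 :=
        (mem_orth Q _ u₃).mp hu₃S.2 u₁ (Submodule.subset_span (by simp))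
      have h23 : polar ⇑Q u₂ u₃ = 0 :=
        (mem_orth Q _ u₃).mp hu₃S.2 u₂ (Submodule.subset_span (by simp))
      have hgu₃0 : act Q g u₃ ≠ 0 := fun h0 => hu₃0 (act_eq_zero g h0)
      rcases hcase' u₃ hu₃A hQu₃ with h3A | h3B
      · have hsum := hcase' (u₁ + u₃) (A.add_mem hu₁ hu₃A) (by rw [quad_add', hQu₁, hQu₃, h13]; ring)
        rw [act_add] at hsum
        rcases hsum with h4 | h4
        · exact hg₁ ((Submodule.add_mem_iff_left _ h3A).mp h4)
        · have h5 : act Q g u₃ ∈ B := (Submodule.add_mem_iff_right _ hg₁B).mp h4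
          exact hgu₃0 (h.inter hQ h3A h5)
      · have hsum := hcase' (u₂ + u₃) (A.add_mem hu₂ hu₃A) (by rw [quad_add', hQu₂, hQu₃, h23]; ring)
        rw [act_add] at hsum
        rcases hsum with h4 | h4
        · have h5 : act Q g u₃ ∈ A := (Submodule.add_mem_iff_right _ hg₂A).mp h4
          exact hgu₃0 (h.inter hQ h5 h3B)
        · exact hg₂ ((Submodule.add_mem_iff_left _ h3B).mp h4)
    have hspan := h.span_singular hQ (by omega : 3 ≤ finrank F A)
    rcases hdich with hd | hd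
    · apply hg
      apply mem_stab_of_map_le
      intro x hx
      have hle : Submodule.span F {s | s ∈ A ∧ Q s = 0} ≤
          Submodule.comap (Matrix.mulVecLin ((g : Matrix.GeneralLinearGroup ι F) : Matrix ι ι F))
            A := by
        rw [Submodule.span_le]
        intro s hs
        exact hd s hs.1 hs.2
      exact hle (hspan hx)
    · apply hni g
      intro x hx
      have hle : Submodule.span F {s | s ∈ A ∧ Q s = 0} ≤
          Submodule.comap (Matrix.mulVecLin ((g : Matrix.GeneralLinearGroup ι F) : Matrix ι ι F))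
            B := by
        rw [Submodule.span_le]
        intro s hs
        exact hd s hs.1 hs.2
      exact hle (hspan hx)

/-- The stabiliser of a non-degenerate subspace `A`, with `A` and its orthogonal complement `B` of
dimension at least seven and no isometry mapping `A` into `B`, is maximal in `Ω(Q)`. -/
theorem isMaximalIn (H : Hyp Q) (h : OPair Q A B) (hA : 7 ≤ finrank F A) (hB : 7 ≤ finrank F B)
    (hni : ∀ g : ↥(isometryGroup F ⇑Q), ¬ ∀ a ∈ A, act Q g a ∈ B) :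
    Cfsg.Geo.IsMaximalIn (Cfsg.Geo.omegaGL ⇑Q)
      (Cfsg.Geo.subspaceStabilizer A ⊓ Cfsg.Geo.omegaGL ⇑Q) := by
  have hQ := H.nondeg
  refine ⟨lt_of_le_of_ne inf_le_right ?_, ?_⟩
  · intro heq
    obtain ⟨e, heA, f, hfA, hQe, hQf, hef⟩ := h.exists_hyp_pair hQ (by omega : 3 ≤ finrank F A)
    have hB0 : B ≠ ⊥ := by
      intro h0
      rw [h0, finrank_bot] at hB
      omega
    obtain ⟨b, hb, hb0⟩ := (Submodule.ne_bot_iff B).1 hB0
    have heb : polar ⇑Q e b = 0 := h.orth e heA b hb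
    have hmem : ((eich Q e b hQe heb : ↥(isometryGroup F ⇑Q)) : Matrix.GeneralLinearGroup ι F) ∈
        Cfsg.Geo.subspaceStabilizer A ⊓ Cfsg.Geo.omegaGL ⇑Q := by
      rw [heq]
      exact eich_mem_omegaGL H e b hQe heb
    have h1 := ((mem_stab_iff A _).mp hmem.1 f).mp hfA
    have e1 : (((eich Q e b hQe heb : ↥(isometryGroup F ⇑Q)) : Matrix.GeneralLinearGroup ι F) :
        Matrix ι ι F) *ᵥ f = eichlerMap Q e b f := act_eich Q e b hQe heb f
    rw [e1, eichlerMap_apply, hef, one_smul, h.orth' hfA hb, zero_add, mul_one] at h1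
    have h2 : f + (-(Q b)) • e ∈ A := A.add_mem hfA (A.smul_mem _ heA)
    have h3 : b ∈ A := by
      have := A.sub_mem h1 h2
      have e2 : f + b + (-(Q b)) • e - (f + (-(Q b)) • e) = b := by abel
      rwa [e2] at this
    exact hb0 (h.inter hQ h3 hb)
  · intro M hKM hMS
    by_cases hMK : M ≤ Cfsg.Geo.subspaceStabilizer A ⊓ Cfsg.Geo.omegaGL ⇑Q
    · left
      exact le_antisymm hMK hKM
    right
    apply le_antisymm hMS
    apply omegaGL_le H
    obtain ⟨g₀, hgM, hgK⟩ := SetLike.not_le_iff_exists.mp hMK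
    obtain ⟨g, -, rfl⟩ := (mem_omegaGL_iff Q g₀).mp (hMS hgM)
    have hg : (g : Matrix.GeneralLinearGroup ι F) ∉ Cfsg.Geo.subspaceStabilizer A :=
      fun h' => hgK ⟨h', hMS hgM⟩
    exact all_centres H h hA hB hni hKM g hgM hg

end final

section concrete
variable {D : Fin 2 → Submodule F (ι → F)} {k : ℕ}

theorem oPair (hD : Cfsg.Geo.IsNondegenerateMDecomposition (polar ⇑Q) k D) :
    OPair Q (D 0) (D 1) where
  orth := hD.orthogonal 0 1 (by decide)
  split z := by
    have hle : (⊤ : Submodule F (ι → F)) ≤ D 0 ⊔ D 1 := by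
      rw [← hD.decomp.iSup_eq_top]
      apply iSup_le
      intro i
      fin_cases i
      · exact le_sup_left
      · exact le_sup_right
    exact Submodule.mem_sup.mp (hle (Submodule.mem_top : z ∈ ⊤))

theorem not_into (hD : Cfsg.Geo.IsNondegenerateMDecomposition (polar ⇑Q) k D)
    (hni : ¬ Cfsg.Geo.AreIsometricFor ⇑Q (D 0) (D 1)) (g : ↥(isometryGroup F ⇑Q)) :
    ¬ ∀ a ∈ D 0, act Q g a ∈ D 1 := by
  intro hmap
  apply hni
  let L : (ι → F) →ₗ[F] (ι → F) :=
    Matrix.mulVecLin ((g : Matrix.GeneralLinearGroup ι F) : Matrix ι ι F)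
  have hL : ∀ x, L x = act Q g x := fun x => rfl
  let R : (D 0) →ₗ[F] (D 1) := L.restrict (fun x hx => hmap x hx)
  have hR : ∀ w : D 0, ((R w : D 1) : ι → F) = act Q g (w : ι → F) := fun w => rfl
  have hinj : Function.Injective R := by
    intro x y hxy
    apply Subtype.ext
    have h1 : act Q g (x : ι → F) = act Q g (y : ι → F) := by
      rw [← hR, ← hR, hxy]
    have h2 : act Q g ((x : ι → F) - (y : ι → F)) = 0 := by
      rw [act_sub, h1, sub_self]
    exact sub_eq_zero.mp (act_eq_zero g h2)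
  have hfin : finrank F (D 0) = finrank F (D 1) := by
    rw [hD.decomp.finrank_eq, hD.decomp.finrank_eq]
  have hsurj : Function.Surjective R :=
    (LinearMap.injective_iff_surjective_of_finrank_eq_finrank hfin).mp hinj
  refine ⟨LinearEquiv.ofBijective R ⟨hinj, hsurj⟩, fun w => ?_⟩
  have e : ((LinearEquiv.ofBijective R ⟨hinj, hsurj⟩ w : D 1) : ι → F) = act Q g (w : ι → F) :=
    hR w
  rw [e]
  exact quad_act Q g _

theorem stab_eq (hQ : (polarBilin Q).Nondegenerate)
    (hD : Cfsg.Geo.IsNondegenerateMDecomposition (polar ⇑Q) k D)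
    (hni : ¬ Cfsg.Geo.AreIsometricFor ⇑Q (D 0) (D 1)) :
    Cfsg.Geo.decompositionStabilizer D ⊓ Cfsg.Geo.omegaGL ⇑Q =
      Cfsg.Geo.subspaceStabilizer (D 0) ⊓ Cfsg.Geo.omegaGL ⇑Q := by
  have h := oPair hD
  ext g₀
  constructor
  · rintro ⟨hS, hΩ⟩
    refine ⟨?_, hΩ⟩
    obtain ⟨g, -, rfl⟩ := (mem_omegaGL_iff Q g₀).mp hΩ
    obtain ⟨σ, hσ⟩ := hS
    have h01 : ∀ i : Fin 2, i = 0 ∨ i = 1 := by decide
    have hmem : ∀ x ∈ D 0, act Q g x ∈ D (σ 0) := by
      intro x hx
      have : Matrix.toLin' ((g : Matrix.GeneralLinearGroup ι F) : Matrix ι ι F) x ∈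
          (D 0).map (Matrix.toLin' ((g : Matrix.GeneralLinearGroup ι F) : Matrix ι ι F)) :=
        ⟨x, hx, rfl⟩
      rw [hσ 0, Matrix.toLin'_apply] at this
      exact this
    rcases h01 (σ 0) with h0 | h0
    · apply mem_stab_of_map_le
      intro x hx
      have := hmem x hx
      rwa [h0] at this
    · exfalso
      apply not_into hD hni g
      intro a ha
      have := hmem a ha
      rwa [h0] at this
  · rintro ⟨hS, hΩ⟩
    refine ⟨?_, hΩ⟩
    obtain ⟨g, -, rfl⟩ := (mem_omegaGL_iff Q g₀).mp hΩ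
    apply OrthPairMax.mem_stab_of_fix hD.decomp
    · intro u hu
      exact ((mem_stab_iff (D 0) _).mp hS u).mp hu
    · intro w hw
      have hperp : ∀ a ∈ D 0, polar ⇑Q a (act Q g w) = 0 := by
        intro a ha
        have ha' : act Q g⁻¹ a ∈ D 0 := by
          apply ((mem_stab_iff (D 0) _).mp hS (act Q g⁻¹ a)).mpr
          have : act Q g (act Q g⁻¹ a) = a := act_inv_act Q g a
          show act Q g (act Q g⁻¹ a) ∈ D 0
          rw [this]
          exact ha
        have h1 : polar ⇑Q (act Q g (act Q g⁻¹ a)) (act Q g w) = polar ⇑Q (act Q g⁻¹ a) w :=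
          polar_act Q g _ _
        rw [act_inv_act] at h1
        rw [h1]
        exact h.orth _ ha' w hw
      obtain ⟨zA, hzA, zB, hzB, hz⟩ := h.split (act Q g w)
      have hzA0 : zA = 0 := by
        apply hQ.1 zA
        intro v
        obtain ⟨a, ha, b, hb, rfl⟩ := h.split v
        have h2 := hperp a ha
        rw [← hz, polar_add_right, h.orth a ha zB hzB, add_zero] at h2
        rw [polarBilin_apply_apply, polar_add_right, polar_comm, h2, h.orth zA hzA b hb, add_zero]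
      show act Q g w ∈ D 1
      rw [← hz, hzA0, zero_add]
      exact hzB

/-- The stabiliser of an orthogonal decomposition into two non-isometric non-degenerate halves is
maximal in `Ω(Q)`. -/
theorem decomp_isMaximalIn (H : Hyp Q) (hk : 7 ≤ k)
    (hD : Cfsg.Geo.IsNondegenerateMDecomposition (polar ⇑Q) k D)
    (hni : ¬ Cfsg.Geo.AreIsometricFor ⇑Q (D 0) (D 1)) :
    Cfsg.Geo.IsMaximalIn (Cfsg.Geo.omegaGL ⇑Q)
      (Cfsg.Geo.decompositionStabilizer D ⊓ Cfsg.Geo.omegaGL ⇑Q) := by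
  rw [stab_eq H.nondeg hD hni]
  exact isMaximalIn H (oPair hD) (by rw [hD.decomp.finrank_eq]; exact hk)
    (by rw [hD.decomp.finrank_eq]; exact hk) (not_into hD hni)

end concrete

end Cfsg.Agent.Lib.Helper5.OrthNondegMax
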