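import Mathlib
import Cfsg.Prelude
import Cfsg.Agent.Lib.Helper5.OrthSingularMax

set_option autoImplicit false
set_option linter.unusedSectionVars false
set_option linter.unusedVariables false
open Cfsg

/-! Over a field with at most three elements the stabiliser of a hyperbolic plane in `Ω(Q)` fixes
a nonsingular point of the plane, hence is not maximal. -/

namespace Cfsg.Agent.Lib.Helper5.OrthPlusPlane

open Matrix QuadraticMap Module Cfsg.Agent.Lib.Helper5.CartanDieudonne Cfsg.Agent.Lib.Helper5.Refl
  Cfsg.Agent.Lib.Helper5.OrthCard Cfsg.Agent.Lib.Helper5.Siegel Cfsg.Agent.Lib.Helper5.QuadIsom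
  Cfsg.Agent.Lib.Helper5.ReflGen Cfsg.Agent.Lib.Helper5.Eichler Cfsg.Agent.Lib.Helper5.SingGeom
  Cfsg.Agent.Lib.Helper5.OmegaGen Cfsg.Agent.Lib.Helper5.OmegaSimple Cfsg.Agent.Lib.Helper5.MaxTS
  Cfsg.Agent.Lib.Helper5.SpSingularMax Cfsg.Agent.Lib.Helper5.OrthSingularMax

theorem finrank_span_pair_eq {F V : Type*} [Field F] [AddCommGroup V] [Module F V] (e f : V)
    (hli : LinearIndependent F ![e, f]) : finrank F (Submodule.span F ({e, f} : Set V)) = 2 := by
  have h := finrank_span_eq_card hli
  have hr : Set.range ![e, f] = ({e, f} : Set V) := by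
    simp [Matrix.range_cons, Set.pair_comm]
  rw [hr] at h
  simpa using h

variable {ι : Type} [Fintype ι] [DecidableEq ι] {F : Type*} [Field F] [Fintype F]
  {Q : QuadraticForm F (ι → F)}

theorem mul_self_eq_one_of_card_le (hq : Fintype.card F ≤ 3) (a : F) (ha : a ≠ 0) :
    a * a = 1 := by
  have h1 := FiniteField.pow_card_sub_one_eq_one a ha
  have h2 : 1 < Fintype.card F := Fintype.one_lt_card
  have h3 : Fintype.card F = 2 ∨ Fintype.card F = 3 := by omega
  rcases h3 with h | h
  · rw [h] at h1
    have : a = 1 := by simpa using h1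
    rw [this, one_mul]
  · rw [h] at h1
    have : a ^ 2 = 1 := by simpa using h1
    rw [← this, _root_.sq]

/-- The stabiliser of a hyperbolic plane over a field with at most three elements is not
maximal in `Ω(Q)`. -/
theorem not_maximal (H : Hyp Q) (hn : 7 ≤ Fintype.card ι) (hq : Fintype.card F ≤ 3)
    (W : Submodule F (ι → F)) (hdim : finrank F W = 2)
    (hW : Cfsg.Geo.IsNondegenerateOn (polar ⇑Q) W) (hplus : Cfsg.Geo.IsPlusTypeOn ⇑Q W) :
    ∃ K : Subgroup (Matrix.GeneralLinearGroup ι F),
      Cfsg.Geo.subspaceStabilizer W ⊓ Cfsg.Geo.omegaGL ⇑Q < K ∧ K < Cfsg.Geo.omegaGL ⇑Q := by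
  have hQ := H.nondeg
  obtain ⟨U, hUW, hUts, hUdim⟩ := hplus
  have hU1 : finrank F U = 1 := by omega
  have hU0 : U ≠ ⊥ := by
    intro h
    rw [h, finrank_bot] at hU1
    omega
  obtain ⟨e, heU, he0⟩ := (Submodule.ne_bot_iff U).1 hU0
  have hQe : Q e = 0 := hUts e heU
  have heW : e ∈ W := hUW heU
  obtain ⟨y, hyW, hey⟩ := (hW e heW he0).2
  have hye : polar ⇑Q y e ≠ 0 := by rw [polar_comm]; exact hey
  obtain ⟨y', hy'def⟩ : ∃ y', y' = y + (-(Q y) / polar ⇑Q y e) • e := ⟨_, rfl⟩
  have hQy' : Q y' = 0 := by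
    rw [hy'def, QuadIsom.quad_add_smul, hQe, mul_zero, add_zero, div_mul_cancel₀ _ hye]
    ring
  have hey' : polar ⇑Q e y' = polar ⇑Q e y := by
    rw [hy'def, polar_add_right, polar_smul_right, polar_self_of_sing Q e hQe, smul_zero,
      add_zero]
  have hy'W : y' ∈ W := by
    rw [hy'def]
    exact W.add_mem hyW (W.smul_mem _ heW)
  obtain ⟨f, hfdef⟩ : ∃ f, f = (polar ⇑Q e y)⁻¹ • y' := ⟨_, rfl⟩
  have hQf : Q f = 0 := by rw [hfdef, QuadraticMap.map_smul, hQy', smul_zero]
  have hef : polar ⇑Q e f = 1 := by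
    rw [hfdef, polar_smul_right, hey', smul_eq_mul, inv_mul_cancel₀ hey]
  have hfe : polar ⇑Q f e = 1 := by rw [polar_comm]; exact hef
  have hfW : f ∈ W := by
    rw [hfdef]
    exact W.smul_mem _ hy'W
  have hee : polar ⇑Q e e = 0 := polar_self_of_sing Q e hQe
  have hff : polar ⇑Q f f = 0 := polar_self_of_sing Q f hQf
  -- `W` is spanned by `e` and `f`
  have hli : LinearIndependent F ![e, f] := by
    rw [LinearIndependent.pair_iff]
    intro s t hst
    have e1 := congrArg (fun x => polar ⇑Q x f) hst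
    have e2 := congrArg (fun x => polar ⇑Q x e) hst
    simp only [polar_add_left, polar_smul_left, hef, hfe, hee, hff, polar_zero_left,
      smul_eq_mul, mul_one, mul_zero, add_zero, zero_add] at e1 e2
    exact ⟨e1, e2⟩
  have hspan : Submodule.span F ({e, f} : Set (ι → F)) = W := by
    apply Submodule.eq_of_le_of_finrank_eq
    · rw [Submodule.span_le]
      intro z hz
      rcases hz with rfl | hz
      · exact heW
      · rw [Set.mem_singleton_iff] at hz
        rw [hz]; exact hfW
    · rw [finrank_span_pair_eq e f hli, hdim]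
  have hWmem : ∀ x ∈ W, ∃ a b : F, a • e + b • f = x := by
    intro x hx
    rw [← hspan] at hx
    exact Submodule.mem_span_pair.mp hx
  -- a singular vector orthogonal to the plane
  have hfin := finrank_perp2 Q e f
  rw [Module.finrank_fintype_fun_eq_card] at hfin
  obtain ⟨u, huP, hu0, hQu⟩ := exists_singular_in Q (perp2 Q e f) (by omega)
  rw [mem_perp2] at huP
  have heu : polar ⇑Q e u = 0 := huP.1
  have hfu : polar ⇑Q f u = 0 := huP.2
  have hue : polar ⇑Q u e = 0 := by rw [polar_comm]; exact heu
  have huf : polar ⇑Q u f = 0 := by rw [polar_comm]; exact hfu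
  have huW : u ∉ W := by
    intro hmem
    obtain ⟨a, b, hab⟩ := hWmem u hmem
    have e1 := congrArg (fun x => polar ⇑Q x f) hab
    have e2 := congrArg (fun x => polar ⇑Q x e) hab
    simp only [polar_add_left, polar_smul_left, hef, hfe, hee, hff, huf, hue,
      smul_eq_mul, mul_one, mul_zero, add_zero, zero_add] at e1 e2
    apply hu0
    rw [← hab, e1, e2, zero_smul, zero_smul, add_zero]
  -- the nonsingular vector
  obtain ⟨v, hvdef⟩ : ∃ v, v = e + f := ⟨_, rfl⟩
  have hQv : Q v = 1 := by rw [hvdef, quad_add', hQe, hQf, hef]; ring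
  have hvW : v ∈ W := by rw [hvdef]; exact W.add_mem heW hfW
  have huv : polar ⇑Q u v = 0 := by rw [hvdef, polar_add_right, hue, huf, add_zero]
  have hev : polar ⇑Q e v = 1 := by rw [hvdef, polar_add_right, hee, hef, zero_add]
  have huspan : u ∉ Submodule.span F ({v} : Set (ι → F)) := by
    intro hmem
    apply huW
    obtain ⟨c, rfl⟩ := Submodule.mem_span_singleton.mp hmem
    exact W.smul_mem c hvW
  refine ⟨Cfsg.Geo.subspaceStabilizer (Submodule.span F ({v} : Set (ι → F))) ⊓
    Cfsg.Geo.omegaGL ⇑Q, ?_, ?_⟩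
  · apply lt_of_le_of_ne
    · rintro g ⟨hgS, hgΩ⟩
      refine ⟨?_, hgΩ⟩
      obtain ⟨a₀, -, rfl⟩ := (mem_omegaGL_iff Q g).mp hgΩ
      have hgv : act Q a₀ v ∈ W := ((mem_stab_iff W _).mp hgS v).mp hvW
      obtain ⟨a, b, hab⟩ := hWmem _ hgv
      have hQab : Q (a • e + b • f) = a * b := by
        rw [quad_add', QuadraticMap.map_smul, QuadraticMap.map_smul, hQe, hQf, polar_smul_left,
          polar_smul_right, hef]
        simp only [smul_eq_mul, mul_zero, mul_one, zero_add]
      have h1 : a * b = 1 := by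
        rw [← hQab, hab, quad_act, hQv]
      have ha0 : a ≠ 0 := by
        rintro rfl
        rw [zero_mul] at h1
        exact zero_ne_one h1
      have h2 := mul_self_eq_one_of_card_le hq a ha0
      have hba : b = a := by
        have : a * b = a * a := by rw [h1, h2]
        exact mul_left_cancel₀ ha0 this
      have hgv' : act Q a₀ v = a • v := by
        rw [← hab, hba, hvdef, smul_add]
      apply mem_stab_of_map_le
      intro x hx
      obtain ⟨c, rfl⟩ := Submodule.mem_span_singleton.mp hx
      have : ((a₀ : Matrix.GeneralLinearGroup ι F) : Matrix ι ι F) *ᵥ (c • v) =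
          c • act Q a₀ v := Matrix.mulVec_smul _ _ _
      rw [this, hgv', smul_smul]
      exact Submodule.smul_mem _ _ (Submodule.mem_span_singleton_self v)
    · intro heq
      have huz : polar ⇑Q u (e - f) = 0 := by rw [polar_sub_right, hue, huf, sub_zero]
      have hmem : ((eich Q u (e - f) hQu huz : ↥(isometryGroup F ⇑Q)) :
          Matrix.GeneralLinearGroup ι F) ∈
          Cfsg.Geo.subspaceStabilizer (Submodule.span F ({v} : Set (ι → F))) ⊓
            Cfsg.Geo.omegaGL ⇑Q := by
        refine ⟨?_, eich_mem_omegaGL H u (e - f) hQu huz⟩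
        apply mem_stab_of_map_le
        intro x hx
        obtain ⟨c, rfl⟩ := Submodule.mem_span_singleton.mp hx
        have e1 : (((eich Q u (e - f) hQu huz : ↥(isometryGroup F ⇑Q)) :
            Matrix.GeneralLinearGroup ι F) : Matrix ι ι F) *ᵥ (c • v) =
            eichlerMap Q u (e - f) (c • v) := act_eich Q u (e - f) hQu huz (c • v)
        have hzv : polar ⇑Q (e - f) v = 0 := by
          rw [hvdef, polar_sub_left, polar_add_right, polar_add_right, hee, hef, hfe, hff]
          ring
        rw [e1, eichlerMap_apply, polar_smul_right, polar_smul_right, huv, hzv]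
        simp only [smul_zero, zero_smul, add_zero, mul_zero, neg_zero]
        exact Submodule.smul_mem _ _ (Submodule.mem_span_singleton_self v)
      rw [← heq] at hmem
      have h1 := ((mem_stab_iff W _).mp hmem.1 e).mp heW
      have e1 : (((eich Q u (e - f) hQu huz : ↥(isometryGroup F ⇑Q)) :
          Matrix.GeneralLinearGroup ι F) : Matrix ι ι F) *ᵥ e =
          eichlerMap Q u (e - f) e := act_eich Q u (e - f) hQu huz e
      have hze : polar ⇑Q (e - f) e = -1 := by
        rw [polar_sub_left, hee, hfe, zero_sub]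
      rw [e1, eichlerMap_apply, hue, hze] at h1
      simp only [zero_smul, add_zero, mul_zero, neg_neg, one_smul] at h1
      exact huW ((Submodule.add_mem_iff_right _ heW).mp h1)
  · apply lt_of_le_of_ne inf_le_right
    intro heq
    have hmem : ((eich Q e u hQe heu : ↥(isometryGroup F ⇑Q)) :
        Matrix.GeneralLinearGroup ι F) ∈
        Cfsg.Geo.subspaceStabilizer (Submodule.span F ({v} : Set (ι → F))) ⊓
          Cfsg.Geo.omegaGL ⇑Q := by
      rw [heq]
      exact eich_mem_omegaGL H e u hQe heu
    have h1 := ((mem_stab_iff _ _).mp hmem.1 v).mp (Submodule.mem_span_singleton_self v)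
    have e1 : (((eich Q e u hQe heu : ↥(isometryGroup F ⇑Q)) :
        Matrix.GeneralLinearGroup ι F) : Matrix ι ι F) *ᵥ v =
        eichlerMap Q e u v := act_eich Q e u hQe heu v
    rw [e1, eichlerMap_apply, hev, huv, hQu] at h1
    simp only [one_smul, zero_mul, add_zero, neg_zero, zero_smul] at h1
    exact huspan ((Submodule.add_mem_iff_right _ (Submodule.mem_span_singleton_self v)).mp h1)

end Cfsg.Agent.Lib.Helper5.OrthPlusPlane
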