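import Mathlib
import Cfsg.Prelude
import Cfsg.Agent.Lib.Helper5.OrthNondegMax
import Cfsg.Agent.Lib.Helper5.OmegaCrit
import Cfsg.Agent.Lib.Helper5.OrthPlusPlane

set_option autoImplicit false
set_option linter.unusedSectionVars false
set_option linter.unusedVariables false
open Cfsg

/-! The stabiliser of a non-degenerate subspace `A` of dimension at least seven whose orthogonal
complement `B` is arbitrary (non-zero, not isometrically containing `A`, and not a hyperbolic plane
over a field with at most three elements) is a maximal subgroup of `Ω(Q)`. -/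

namespace Cfsg.Agent.Lib.Helper5.OrthNondegGen

open Matrix QuadraticMap Module Cfsg.Agent.Lib.Helper5.CartanDieudonne Cfsg.Agent.Lib.Helper5.Refl
  Cfsg.Agent.Lib.Helper5.OrthCard Cfsg.Agent.Lib.Helper5.Siegel Cfsg.Agent.Lib.Helper5.QuadIsom
  Cfsg.Agent.Lib.Helper5.ReflGen Cfsg.Agent.Lib.Helper5.Eichler Cfsg.Agent.Lib.Helper5.SingGeom
  Cfsg.Agent.Lib.Helper5.OmegaGen Cfsg.Agent.Lib.Helper5.OmegaSimple Cfsg.Agent.Lib.Helper5.MaxTS
  Cfsg.Agent.Lib.Helper5.SpSingularMax Cfsg.Agent.Lib.Helper5.OrthSingularMax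
  Cfsg.Agent.Lib.Helper5.OrthPairMax Cfsg.Agent.Lib.Helper5.OrthNondegMax
  Cfsg.Agent.Lib.Helper5.SpinorNorm

variable {ι : Type} [Fintype ι] [DecidableEq ι] {F : Type*} [Field F] [Fintype F]
  {Q : QuadraticForm F (ι → F)} {M : Subgroup (Matrix.GeneralLinearGroup ι F)}

section steps
variable {A B : Submodule F (ι → F)} (h : OPair Q A B) (hQ : (polarBilin Q).Nondegenerate)
  (hKA : ∀ u ∈ A, Q u = 0 → ∀ z ∈ A, polar ⇑Q u z = 0 → InE Q M u z)

include h hQ hKA in
/-- the main step with the singular vector chosen in advance -/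
theorem stepG {x y xA xB yA yB a : ι → F} (hxA : xA ∈ A)
    (hxB : xB ∈ B) (hx : xA + xB = x) (hyA : yA ∈ A) (hyB : yB ∈ B) (hy : yA + yB = y)
    (hE : InE Q M x y) (haA : a ∈ A) (hQa : Q a = 0) (haxA : polar ⇑Q a xA = 0)
    (hayA : polar ⇑Q a yA = 0) (hy_ax : yA ∉ Submodule.span F ({a, xA} : Set (ι → F))) :
    InE Q M a xB := by
  obtain ⟨a', ha'A, hya', ha'⟩ := h.dual_vec hQ _ hyA (span_pair_le haA hxA) hy_ax
  have haa' : polar ⇑Q a a' = 0 := ha' a (Submodule.subset_span (by simp))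
  have hxAa' : polar ⇑Q xA a' = 0 := ha' xA (Submodule.subset_span (by simp))
  have hax : polar ⇑Q a x = 0 := by
    rw [← hx, polar_add_right, haxA, h.orth a haA xB hxB, add_zero]
  have hay : polar ⇑Q a y = 0 := by
    rw [← hy, polar_add_right, hayA, h.orth a haA yB hyB, add_zero]
  have ha'x : polar ⇑Q a' x = 0 := by
    rw [← hx, polar_add_right, polar_comm, hxAa', h.orth a' ha'A xB hxB, add_zero]
  have ha'y : polar ⇑Q a' y ≠ 0 := by
    rw [← hy, polar_add_right, h.orth a' ha'A yB hyB, add_zero, polar_comm]; exact hya'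
  have hk := EG_mem_of_inE (hKA a haA hQa a' ha'A haa')
  have h3 := inE_conj (EG Q a a') hk hE
  rw [act_EG Q a a' hQa haa', act_EG Q a a' hQa haa', hax, hay, ha'x] at h3
  simp only [zero_smul, add_zero, mul_zero, neg_zero] at h3
  have h4 := inE_sub h3 hE
  rw [add_sub_cancel_left] at h4
  have h5 : InE Q M x a := by
    have := inE_smul_right (-(polar ⇑Q a' y))⁻¹ h4
    rwa [smul_smul, inv_mul_cancel₀ (neg_ne_zero.mpr ha'y), one_smul] at this
  have h6 : InE Q M a x := inE_symm h5 hQa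
  have := inE_sub h6 (hKA a haA hQa xA hxA haxA)
  rwa [← hx, add_sub_cancel_left] at this

end steps

section plane
variable {A B : Submodule F (ι → F)}

/-- In a non-degenerate plane which is not a hyperbolic plane over a field with at most three
elements, every non-zero vector is moved off its line by some reflection of the plane. -/
theorem exists_refl_vec (h : OPair Q A B) (hQ : (polarBilin Q).Nondegenerate)
    (hdim : finrank F A = 2)
    (hex : ¬ (Fintype.card F ≤ 3 ∧ ∃ s ∈ A, s ≠ 0 ∧ Q s = 0)) {x : ι → F} (hxA : x ∈ A)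
    (hx0 : x ≠ 0) :
    ∃ b ∈ A, Q b ≠ 0 ∧ polar ⇑Q b x ≠ 0 ∧ b ∉ Submodule.span F ({x} : Set (ι → F)) := by
  have hnot : x ∉ (⊥ : Submodule F (ι → F)) := by
    rw [Submodule.mem_bot]; exact hx0
  obtain ⟨w₀, hw₀A, hxw₀, -⟩ := h.dual_vec hQ ⊥ hxA bot_le hnot
  obtain ⟨w, hwdef⟩ : ∃ w, w = (polar ⇑Q x w₀)⁻¹ • w₀ := ⟨_, rfl⟩
  have hwA : w ∈ A := by rw [hwdef]; exact A.smul_mem _ hw₀A
  have hxw : polar ⇑Q x w = 1 := by
    rw [hwdef, polar_smul_right, smul_eq_mul, inv_mul_cancel₀ hxw₀]
  have hwx : polar ⇑Q w x = 1 := by rw [polar_comm]; exact hxw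
  by_cases hQx : Q x = 0
  · -- `x` singular
    have hxx : polar ⇑Q x x = 0 := polar_self_of_sing Q x hQx
    refine ⟨w + (1 - Q w) • x, A.add_mem hwA (A.smul_mem _ hxA), ?_, ?_, ?_⟩
    · rw [QuadIsom.quad_add_smul, hQx, mul_zero, add_zero, hwx]
      intro h0
      have : Q w + (1 - Q w) * 1 = 1 := by ring
      rw [this] at h0
      exact one_ne_zero h0
    · rw [polar_add_left, polar_smul_left, hxx, smul_zero, add_zero, hwx]
      exact one_ne_zero
    · intro hmem
      obtain ⟨c, hc⟩ := Submodule.mem_span_singleton.mp hmem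
      have e1 := congrArg (fun v => polar ⇑Q v x) hc
      simp only [polar_add_left, polar_smul_left, hxx, hwx, smul_zero, add_zero] at e1
      exact zero_ne_one e1
  by_cases h2 : (2 : F) = 0
  · -- characteristic two, `x` non-singular
    have hxx : polar ⇑Q x x = 0 := by
      rw [polar_self, two_smul]
      have : Q x + Q x = 2 * Q x := by ring
      rw [this, h2, zero_mul]
    by_contra hcon
    push Not at hcon
    have hkey : ∀ s : F, Q (w + s • x) = 0 := by
      intro s
      by_contra hne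
      have h1 := hcon (w + s • x) (A.add_mem hwA (A.smul_mem _ hxA)) hne (by
        rw [polar_add_left, polar_smul_left, hxx, smul_zero, add_zero, hwx]
        exact one_ne_zero)
      obtain ⟨c, hc⟩ := Submodule.mem_span_singleton.mp h1
      have e1 := congrArg (fun v => polar ⇑Q v x) hc
      simp only [polar_add_left, polar_smul_left, hxx, hwx, smul_zero, add_zero] at e1
      exact zero_ne_one e1
    have hkey' : ∀ s : F, Q w + s + s * s * Q x = 0 := by
      intro s
      have := hkey s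
      rw [QuadIsom.quad_add_smul, hwx] at this
      rw [← this]; ring
    have hQw : Q w = 0 := by
      have := hkey' 0
      simpa using this
    have hQx1 : Q x = 1 := by
      have := hkey' 1
      rw [hQw] at this
      have h3 : Q x = -1 := by linear_combination this
      rw [h3]
      have : (-1 : F) = 1 - 2 := by ring
      rw [this, h2, sub_zero]
    apply hex
    refine ⟨?_, w, hwA, ?_, hQw⟩
    · by_contra hlt
      push Not at hlt
      classical
      have hcard : ({0, 1} : Finset F).card < (Finset.univ : Finset F).card := by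
        rw [Finset.card_univ]
        have : ({0, 1} : Finset F).card ≤ 2 := Finset.card_le_two
        omega
      obtain ⟨s, -, hs⟩ := Finset.exists_mem_notMem_of_card_lt_card hcard
      simp only [Finset.mem_insert, Finset.mem_singleton, not_or] at hs
      have := hkey' s
      rw [hQw, hQx1] at this
      have h3 : s * (s + 1) = 0 := by linear_combination this
      rcases mul_eq_zero.mp h3 with h4 | h4
      · exact hs.1 h4
      · apply hs.2
        have : s = -1 := by linear_combination h4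
        rw [this]
        have : (-1 : F) = 1 - 2 := by ring
        rw [this, h2, sub_zero]
    · rintro rfl
      rw [polar_zero_left] at hwx
      exact zero_ne_one hwx
  · -- odd characteristic, `x` non-singular
    have hxx : polar ⇑Q x x ≠ 0 := by
      rw [polar_self, two_smul]
      have : Q x + Q x = 2 * Q x := by ring
      rw [this]
      exact mul_ne_zero h2 hQx
    -- a non-zero vector of `A` orthogonal to `x`
    have hne : A ⊓ MaxTS.orth Q (Submodule.span F ({x} : Set (ι → F))) ≠ ⊥ := by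
      intro h0
      have h1 := finrank_inf_orth hQ A (Submodule.span F ({x} : Set (ι → F)))
      have h3 : finrank F (Submodule.span F ({x} : Set (ι → F))) ≤ 1 := by
        have := finrank_span_le_card (R := F) ({x} : Set (ι → F))
        simpa using this
      rw [h0, finrank_bot] at h1
      omega
    obtain ⟨v, hvS, hv0⟩ := (Submodule.ne_bot_iff _).1 hne
    have hvA : v ∈ A := hvS.1
    have hxv : polar ⇑Q x v = 0 :=
      (mem_orth Q _ v).mp hvS.2 x (Submodule.mem_span_singleton_self x)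
    have hvx : polar ⇑Q v x = 0 := by rw [polar_comm]; exact hxv
    have hvnot : ∀ s : F, s ≠ 0 → x + s • v ∉ Submodule.span F ({x} : Set (ι → F)) := by
      intro s hs hmem
      obtain ⟨c, hc⟩ := Submodule.mem_span_singleton.mp hmem
      have e1 := congrArg (fun u => polar ⇑Q u x) hc
      simp only [polar_smul_left, polar_add_left, hvx, smul_zero, add_zero, smul_eq_mul] at e1
      have hc1 : c = 1 := by
        have : (c - 1) * polar ⇑Q x x = 0 := by linear_combination e1
        rcases mul_eq_zero.mp this with h3 | h3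
        · linear_combination h3
        · exact absurd h3 hxx
      rw [hc1, one_smul] at hc
      have : s • v = 0 := by
        have := congrArg (fun u => u - x) hc
        simp only [sub_self, add_sub_cancel_left] at this
        exact this.symm
      rcases smul_eq_zero.mp this with h3 | h3
      · exact hs h3
      · exact hv0 h3
    by_contra hcon
    push Not at hcon
    have hkey : ∀ s : F, s ≠ 0 → Q x + s * s * Q v = 0 := by
      intro s hs
      by_contra hne'
      have hQb : Q (x + s • v) ≠ 0 := by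
        rw [QuadIsom.quad_add_smul, hxv, mul_zero, add_zero]
        exact hne'
      exact hvnot s hs (hcon (x + s • v) (A.add_mem hxA (A.smul_mem _ hvA)) hQb (by
        rw [polar_add_left, polar_smul_left, hvx, smul_zero, add_zero]
        exact hxx))
    have hQv : Q v = -Q x := by
      have := hkey 1 one_ne_zero
      linear_combination this
    apply hex
    refine ⟨?_, x + v, A.add_mem hxA hvA, ?_, ?_⟩
    · by_contra hlt
      push Not at hlt
      classical
      have hcard : ({0, 1, -1} : Finset F).card < (Finset.univ : Finset F).card := by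
        rw [Finset.card_univ]
        have : ({0, 1, -1} : Finset F).card ≤ 3 := Finset.card_le_three
        omega
      obtain ⟨s, -, hs⟩ := Finset.exists_mem_notMem_of_card_lt_card hcard
      simp only [Finset.mem_insert, Finset.mem_singleton, not_or] at hs
      have := hkey s hs.1
      rw [hQv] at this
      have h3 : (s - 1) * (s + 1) * Q x = 0 := by linear_combination -this
      rcases mul_eq_zero.mp h3 with h4 | h4
      · rcases mul_eq_zero.mp h4 with h5 | h5
        · exact hs.2.1 (by linear_combination h5)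
        · exact hs.2.2 (by linear_combination h5)
      · exact hQx h4
    · intro h0
      have := hvnot 1 one_ne_zero
      rw [one_smul, h0] at this
      exact this (Submodule.zero_mem _)
    · rw [quad_add', hxv, hQv]; ring

end plane

section refl
variable {A B : Submodule F (ι → F)}

/-- a product of a reflection of `B` and a reflection of `A` with equal norms lies in the
stabiliser of `A` in `Ω` -/
theorem refl_pair_mem (H : Hyp Q) (h : OPair Q A B) {a₁ b₁ : ι → F} (ha₁ : a₁ ∈ A) (hb₁ : b₁ ∈ B)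
    (hQb : Q b₁ ≠ 0) (hQa : Q a₁ ≠ 0) (heq : Q a₁ = Q b₁) :
    ((reflection Q b₁ hQb * reflection Q a₁ hQa : ↥(isometryGroup F ⇑Q)) :
      Matrix.GeneralLinearGroup ι F) ∈
      Cfsg.Geo.subspaceStabilizer A ⊓ Cfsg.Geo.omegaGL ⇑Q := by
  rw [Subgroup.mem_inf]
  refine ⟨mem_stab_of_map_le A _ ?_, ?_⟩
  · intro x hx
    have e : (((reflection Q b₁ hQb * reflection Q a₁ hQa : ↥(isometryGroup F ⇑Q)) :
        Matrix.GeneralLinearGroup ι F) : Matrix ι ι F) *ᵥ x =
        act Q (reflection Q b₁ hQb * reflection Q a₁ hQa) x := rfl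
    rw [e, act_mul, act_reflection Q a₁ hQa x]
    have h1 : x - ((Q a₁)⁻¹ * polar ⇑Q a₁ x) • a₁ ∈ A := A.sub_mem hx (A.smul_mem _ ha₁)
    rw [act_reflection Q b₁ hQb, h.orth' h1 hb₁, mul_zero, zero_smul, sub_zero]
    exact h1
  · rw [mem_omegaGL_iff]
    refine ⟨_, ?_, rfl⟩
    have hrep : IsRep Q (reflection Q b₁ hQb * reflection Q a₁ hQa) ([b₁] ++ [a₁]) :=
      isRep_mul Q (isRep_reflection Q b₁ hQb) (isRep_reflection Q a₁ hQa)
    rw [OmegaCrit.mem_Omega_iff Q H.nondeg (fun h4 => by have := H.card5; omega)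
      (by have := H.card5; omega) _ _ hrep]
    refine ⟨⟨1, rfl⟩, ⟨Q b₁, ?_⟩⟩
    simp [heq]

/-- a vector of prescribed norm in `A` orthogonal to a given singular vector of `A` -/
theorem exists_norm_perp (h : OPair Q A B) (hQ : (polarBilin Q).Nondegenerate)
    (hdim : 5 ≤ finrank F A) {a : ι → F} (haA : a ∈ A) (c : F) :
    ∃ a₁ ∈ A, polar ⇑Q a₁ a = 0 ∧ Q a₁ = c := by
  have h1 := finrank_inf_orth hQ A (Submodule.span F ({a} : Set (ι → F)))
  have h3 : finrank F (Submodule.span F ({a} : Set (ι → F))) ≤ 1 := by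
    have := finrank_span_le_card (R := F) ({a} : Set (ι → F))
    simpa using this
  obtain ⟨C₀, hC₀⟩ := Submodule.exists_isCompl (Submodule.span F ({a} : Set (ι → F)))
  have hsum := Submodule.finrank_add_eq_of_isCompl hC₀
  have h2 := Submodule.finrank_sup_add_finrank_inf_eq
    (A ⊓ MaxTS.orth Q (Submodule.span F ({a} : Set (ι → F)))) C₀
  have h4 : finrank F ↥((A ⊓ MaxTS.orth Q (Submodule.span F ({a} : Set (ι → F)))) ⊔ C₀) ≤
      finrank F (ι → F) := Submodule.finrank_le _
  obtain ⟨e, heS, he0, hQe⟩ := exists_singular_in Q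
    ((A ⊓ MaxTS.orth Q (Submodule.span F ({a} : Set (ι → F)))) ⊓ C₀) (by omega)
  have heA : e ∈ A := heS.1.1
  have hae : polar ⇑Q a e = 0 :=
    (mem_orth Q _ e).mp heS.1.2 a (Submodule.mem_span_singleton_self a)
  have hea : polar ⇑Q e a = 0 := by rw [polar_comm]; exact hae
  have hspan : e ∉ Submodule.span F ({a} : Set (ι → F)) := by
    intro hmem
    have : e ∈ Submodule.span F ({a} : Set (ι → F)) ⊓ C₀ := ⟨hmem, heS.2⟩
    rw [hC₀.inf_eq_bot, Submodule.mem_bot] at this
    exact he0 this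
  obtain ⟨z, hzA, hez, hz⟩ := h.dual_vec hQ _ heA (span_singleton_le haA) hspan
  have haz : polar ⇑Q a z = 0 := hz a (Submodule.mem_span_singleton_self a)
  have hza : polar ⇑Q z a = 0 := by rw [polar_comm]; exact haz
  have hze : polar ⇑Q z e ≠ 0 := by rw [polar_comm]; exact hez
  refine ⟨z + ((c - Q z) / polar ⇑Q z e) • e, A.add_mem hzA (A.smul_mem _ heA), ?_, ?_⟩
  · rw [polar_add_left, polar_smul_left, hza, hea, smul_zero, add_zero]
  · rw [QuadIsom.quad_add_smul, hQe, mul_zero, add_zero, div_mul_cancel₀ _ hze]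
    ring

end refl

section small
variable {A B : Submodule F (ι → F)}

/-- the plane case of irreducibility -/
theorem all_B_plane (H : Hyp Q) (h : OPair Q A B)
    (hKM : Cfsg.Geo.subspaceStabilizer A ⊓ Cfsg.Geo.omegaGL ⇑Q ≤ M)
    (hA : 5 ≤ finrank F A) (hB : finrank F B = 2)
    (hplane : ∀ x ∈ B, x ≠ 0 → ∃ b ∈ B, Q b ≠ 0 ∧ polar ⇑Q b x ≠ 0 ∧
      b ∉ Submodule.span F ({x} : Set (ι → F)))
    {a : ι → F} (haA : a ∈ A) (hQa : Q a = 0) {x₀ : ι → F} (hx₀ : x₀ ∈ B) (hx₀0 : x₀ ≠ 0)
    (hE : InE Q M a x₀) : ∀ b ∈ B, InE Q M a b := by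
  have hQ := H.nondeg
  obtain ⟨b₁, hb₁B, hQb₁, hb₁x, hb₁n⟩ := hplane x₀ hx₀ hx₀0
  obtain ⟨a₁, ha₁A, ha₁a, hQa₁⟩ := exists_norm_perp h hQ hA haA (Q b₁)
  have hQa₁' : Q a₁ ≠ 0 := by rw [hQa₁]; exact hQb₁
  have hk := hKM (refl_pair_mem H h ha₁A hb₁B hQb₁ hQa₁' hQa₁)
  have h1 := inE_conj _ hk hE
  have e1 : act Q (reflection Q b₁ hQb₁ * reflection Q a₁ hQa₁') a = a := by
    rw [act_mul, act_reflection Q a₁ hQa₁' a, ha₁a, mul_zero, zero_smul, sub_zero,
      act_reflection Q b₁ hQb₁ a, h.orth' haA hb₁B, mul_zero, zero_smul, sub_zero]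
  have e2 : act Q (reflection Q b₁ hQb₁ * reflection Q a₁ hQa₁') x₀ =
      x₀ - ((Q b₁)⁻¹ * polar ⇑Q b₁ x₀) • b₁ := by
    rw [act_mul, act_reflection Q a₁ hQa₁' x₀, h.orth a₁ ha₁A x₀ hx₀, mul_zero, zero_smul,
      sub_zero, act_reflection Q b₁ hQb₁ x₀]
  rw [e1, e2] at h1
  have h2 := inE_sub hE h1
  rw [sub_sub_cancel] at h2
  have hc : (Q b₁)⁻¹ * polar ⇑Q b₁ x₀ ≠ 0 := mul_ne_zero (inv_ne_zero hQb₁) hb₁x
  have h3 : InE Q M a b₁ := by
    have := inE_smul_right ((Q b₁)⁻¹ * polar ⇑Q b₁ x₀)⁻¹ h2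
    rwa [smul_smul, inv_mul_cancel₀ hc, one_smul] at this
  have hli : LinearIndependent F ![x₀, b₁] := by
    rw [LinearIndependent.pair_iff]
    intro s t hst
    have ht : t = 0 := by
      by_contra ht
      apply hb₁n
      rw [Submodule.mem_span_singleton]
      refine ⟨-(t⁻¹ * s), ?_⟩
      have h4 : t • b₁ = -(s • x₀) := by
        rw [eq_neg_iff_add_eq_zero, add_comm]; exact hst
      have h5 : b₁ = t⁻¹ • (t • b₁) := by rw [smul_smul, inv_mul_cancel₀ ht, one_smul]
      rw [h5, h4, smul_neg, smul_smul, neg_smul]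
    rw [ht, zero_smul, add_zero] at hst
    rcases smul_eq_zero.mp hst with h4 | h4
    · exact ⟨h4, ht⟩
    · exact absurd h4 hx₀0
  have hspan : Submodule.span F ({x₀, b₁} : Set (ι → F)) = B := by
    apply Submodule.eq_of_le_of_finrank_eq (span_pair_le hx₀ hb₁B)
    rw [OrthPlusPlane.finrank_span_pair_eq x₀ b₁ hli, hB]
  intro b hb
  rw [← hspan] at hb
  obtain ⟨s, t, rfl⟩ := Submodule.mem_span_pair.mp hb
  exact inE_add (inE_smul_right s hE) (inE_smul_right t h3)

/-- the line case of irreducibility -/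
theorem all_B_line (hB : finrank F B = 1)
    {a : ι → F} {x₀ : ι → F} (hx₀ : x₀ ∈ B) (hx₀0 : x₀ ≠ 0)
    (hE : InE Q M a x₀) : ∀ b ∈ B, InE Q M a b := by
  intro b hb
  have h0 : (⟨x₀, hx₀⟩ : B) ≠ 0 := by
    intro h1
    exact hx₀0 (congrArg Subtype.val h1)
  obtain ⟨c, hc⟩ := (finrank_eq_one_iff_of_nonzero' (⟨x₀, hx₀⟩ : B) h0).mp hB ⟨b, hb⟩
  have hc' : c • x₀ = b := congrArg Subtype.val hc
  rw [← hc']
  exact inE_smul_right c hE

end small

section final
variable {A B : Submodule F (ι → F)}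

/-- from an element of `M` outside the stabiliser to all centres -/
theorem all_centres' (H : Hyp Q) (h : OPair Q A B) (hA : 7 ≤ finrank F A)
    (hni : ∀ g : ↥(isometryGroup F ⇑Q), ¬ ∀ a ∈ A, act Q g a ∈ B)
    (hplane : finrank F B = 2 → ∀ x ∈ B, x ≠ 0 → ∃ b ∈ B, Q b ≠ 0 ∧ polar ⇑Q b x ≠ 0 ∧
      b ∉ Submodule.span F ({x} : Set (ι → F)))
    (hKM : Cfsg.Geo.subspaceStabilizer A ⊓ Cfsg.Geo.omegaGL ⇑Q ≤ M)
    (g : ↥(isometryGroup F ⇑Q)) (hgM : (g : Matrix.GeneralLinearGroup ι F) ∈ M)
    (hg : (g : Matrix.GeneralLinearGroup ι F) ∉ Cfsg.Geo.subspaceStabilizer A) :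
    ∀ x, Q x = 0 → IsCentre Q M x := by
  have hQ := H.nondeg
  have hs := h.symm
  have hKA : ∀ u ∈ A, Q u = 0 → ∀ z ∈ A, polar ⇑Q u z = 0 → InE Q M u z := by
    intro u hu hQu z hz huz
    refine ⟨hQu, huz, fun s => hKM (EG_mem_stabA H h hu hQu (A.smul_mem s hz) ?_)⟩
    rw [polar_smul_right, huz, smul_zero]
  have hKB : ∀ u ∈ B, Q u = 0 → ∀ z ∈ B, polar ⇑Q u z = 0 → InE Q M u z := by
    intro u hu hQu z hz huz
    refine ⟨hQu, huz, fun s => hKM (EG_mem_stabB H h hu hQu (B.smul_mem s hz) ?_)⟩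
    rw [polar_smul_right, huz, smul_zero]
  by_cases hcase : ∃ u₀ ∈ A, Q u₀ = 0 ∧ act Q g u₀ ∉ A ∧ act Q g u₀ ∉ B
  · obtain ⟨u₀, hu₀, hQu₀, hgA, hgB⟩ := hcase
    obtain ⟨xA, hxA, xB, hxB, hx⟩ := h.split (act Q g u₀)
    have hxA0 : xA ≠ 0 := by
      rintro rfl
      rw [zero_add] at hx
      exact hgB (hx ▸ hxB)
    have hxB0 : xB ≠ 0 := by
      rintro rfl
      rw [add_zero] at hx
      exact hgA (hx ▸ hxA)
    have hu₀u₀ : polar ⇑Q u₀ u₀ = 0 := polar_self_of_sing Q u₀ hQu₀
    have h2 := finrank_inf_orth hQ A (Submodule.span F ({u₀} : Set (ι → F)))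
    have h3 : finrank F (Submodule.span F ({u₀} : Set (ι → F))) ≤ 1 := by
      have := finrank_span_le_card (R := F) ({u₀} : Set (ι → F))
      simpa using this
    by_cases hi : ∃ z ∈ A ⊓ MaxTS.orth Q (Submodule.span F ({u₀} : Set (ι → F))),
        ∃ yA ∈ A, ∃ yB ∈ B, yA + yB = act Q g z ∧ yA ∉ Submodule.span F ({xA} : Set (ι → F))
    · obtain ⟨z, hz, yA, hyA, yB, hyB, hy, h1⟩ := hi
      have hu₀z : polar ⇑Q u₀ z = 0 :=
        (mem_orth Q _ z).mp hz.2 u₀ (Submodule.subset_span (by simp))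
      have hE : InE Q M (act Q g u₀) (act Q g z) :=
        inE_conj g hgM (hKA u₀ hu₀ hQu₀ z hz.1 hu₀z)
      obtain ⟨a, haA, ha0, hQa, hIn⟩ := h.step1 hQ hKA hA hxA hxB hx hyA hyB hy hE h1
      have hall : ∀ b ∈ B, InE Q M a b := by
        have hB0 : finrank F B ≠ 0 := by
          intro h0
          rw [Submodule.finrank_eq_zero] at h0
          rw [h0, Submodule.mem_bot] at hxB
          exact hxB0 hxB
        by_cases hB1 : finrank F B = 1
        · exact all_B_line hB1 hxB hxB0 hIn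
        by_cases hB2 : finrank F B = 2
        · exact all_B_plane H h hKM (by omega) hB2 (hplane hB2) haA hQa hxB hxB0 hIn
        exact h.all_B_of_one hQ hKB (by omega) haA hQa hxB hxB0 hIn
      have hC := h.isCentre_of_all_B hKA haA hQa hall
      obtain ⟨s, hsC, has⟩ := h.second_centre hQ hKA (by omega) haA ha0 hC
      exact all_of_two H hC hsC has
    · push Not at hi
      -- the vectors of `A ∩ u₀^⊥` mapped into `B`
      obtain ⟨Z, hZdef⟩ : ∃ Z, Z = (A ⊓ MaxTS.orth Q (Submodule.span F ({u₀} : Set (ι → F)))) ⊓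
          Submodule.comap
            (Matrix.mulVecLin ((g : Matrix.GeneralLinearGroup ι F) : Matrix ι ι F)) B := ⟨_, rfl⟩
      have hZmem : ∀ z, z ∈ Z ↔ (z ∈ A ∧ polar ⇑Q u₀ z = 0) ∧ act Q g z ∈ B := by
        intro z
        rw [hZdef, Submodule.mem_inf, Submodule.mem_inf, mem_orth, Submodule.mem_comap]
        constructor
        · rintro ⟨⟨h4, h5⟩, h6⟩
          exact ⟨⟨h4, h5 u₀ (Submodule.mem_span_singleton_self u₀)⟩, h6⟩
        · rintro ⟨⟨h4, h5⟩, h6⟩
          refine ⟨⟨h4, ?_⟩, h6⟩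
          intro w hw
          obtain ⟨c, rfl⟩ := Submodule.mem_span_singleton.mp hw
          rw [polar_smul_left, h5, smul_zero]
      have hle : A ⊓ MaxTS.orth Q (Submodule.span F ({u₀} : Set (ι → F))) ≤
          Z ⊔ Submodule.span F ({u₀} : Set (ι → F)) := by
        intro z hz
        obtain ⟨yA, hyA, yB, hyB, hy⟩ := h.split (act Q g z)
        obtain ⟨c, hc⟩ := Submodule.mem_span_singleton.mp (hi z hz yA hyA yB hyB hy)
        have hu₀z : polar ⇑Q u₀ z = 0 :=
          (mem_orth Q _ z).mp hz.2 u₀ (Submodule.subset_span (by simp))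
        have hmem : z - c • u₀ ∈ Z := by
          rw [hZmem]
          refine ⟨⟨A.sub_mem hz.1 (A.smul_mem _ hu₀), ?_⟩, ?_⟩
          · rw [polar_sub_right, polar_smul_right, hu₀z, hu₀u₀, smul_zero, sub_zero]
          · rw [act_sub, act_smul, ← hy, ← hx, ← hc]
            have : c • xA + yB - c • (xA + xB) = yB - c • xB := by
              rw [smul_add]; abel
            rw [this]
            exact B.sub_mem hyB (B.smul_mem _ hxB)
        have : z = (z - c • u₀) + c • u₀ := by abel
        rw [this]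
        exact Submodule.add_mem _ (Submodule.mem_sup_left hmem)
          (Submodule.mem_sup_right (Submodule.smul_mem _ _ (Submodule.mem_span_singleton_self u₀)))
      have h4 := Submodule.finrank_mono hle
      have h5 := Submodule.finrank_add_le_finrank_add_finrank Z
        (Submodule.span F ({u₀} : Set (ι → F)))
      have hZ5 : 5 ≤ finrank F Z := by omega
      obtain ⟨z₀, hz₀Z, hz₀0, hQz₀⟩ := exists_singular_in Q Z (by omega)
      obtain ⟨⟨hz₀A, hu₀z₀⟩, hb₀B⟩ := (hZmem z₀).mp hz₀Z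
      have hQb₀ : Q (act Q g z₀) = 0 := by rw [quad_act, hQz₀]
      have hb₀0 : act Q g z₀ ≠ 0 := fun h0 => hz₀0 (act_eq_zero g h0)
      have hb₀xB : polar ⇑Q (act Q g z₀) xB = 0 := by
        have h6 : polar ⇑Q (act Q g z₀) (act Q g u₀) = 0 := by
          rw [polar_act, polar_comm]; exact hu₀z₀
        rw [← hx, polar_add_right, h.orth' hxA hb₀B, zero_add] at h6
        exact h6
      -- the image of `Z` lies in `B`
      have hB5 : 5 ≤ finrank F B := by
        have hle' : Z.map
            (Matrix.toLin' ((g : Matrix.GeneralLinearGroup ι F) : Matrix ι ι F)) ≤ B := by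
          rintro _ ⟨b, hb, rfl⟩
          rw [Matrix.toLin'_apply]
          exact ((hZmem b).mp hb).2
        have h6 := Submodule.finrank_mono hle'
        rw [← (Submodule.equivMapOfInjective _ (gl_injective (g : Matrix.GeneralLinearGroup ι F))
          _).finrank_eq] at h6
        omega
      -- a second vector
      have hex : ∃ z₁ ∈ Z ⊓ MaxTS.orth Q (Submodule.span F ({z₀} : Set (ι → F))),
          act Q g z₁ ∉ Submodule.span F ({act Q g z₀, xB} : Set (ι → F)) := by
        by_contra hcon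
        push Not at hcon
        have hle' : (Z ⊓ MaxTS.orth Q (Submodule.span F ({z₀} : Set (ι → F)))).map
            (Matrix.toLin' ((g : Matrix.GeneralLinearGroup ι F) : Matrix ι ι F)) ≤
            Submodule.span F ({act Q g z₀, xB} : Set (ι → F)) := by
          rintro _ ⟨b, hb, rfl⟩
          rw [Matrix.toLin'_apply]
          exact hcon b hb
        have h6 := Submodule.finrank_mono hle'
        rw [← (Submodule.equivMapOfInjective _ (gl_injective (g : Matrix.GeneralLinearGroup ι F))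
          _).finrank_eq] at h6
        have h7 := finrank_inf_orth hQ Z (Submodule.span F ({z₀} : Set (ι → F)))
        have h8 : finrank F (Submodule.span F ({z₀} : Set (ι → F))) ≤ 1 := by
          have := finrank_span_le_card (R := F) ({z₀} : Set (ι → F))
          simpa using this
        have h9 := finrank_span_pair_le (F := F) (act Q g z₀) xB
        omega
      obtain ⟨z₁, hz₁, hgz₁⟩ := hex
      obtain ⟨⟨hz₁A, hu₀z₁⟩, hyB⟩ := (hZmem z₁).mp hz₁.1
      have hz₀z₁ : polar ⇑Q z₀ z₁ = 0 :=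
        (mem_orth Q _ z₁).mp hz₁.2 z₀ (Submodule.mem_span_singleton_self z₀)
      have hE : InE Q M (act Q g u₀) (act Q g z₁) :=
        inE_conj g hgM (hKA u₀ hu₀ hQu₀ z₁ hz₁A hu₀z₁)
      have hIn : InE Q M (act Q g z₀) xA :=
        stepG hs hQ hKB hxB hxA (by rw [add_comm]; exact hx) hyB A.zero_mem (add_zero _) hE
          hb₀B hQb₀ hb₀xB (by rw [polar_act]; exact hz₀z₁) hgz₁
      have hall := hs.all_B_of_one hQ hKA (by omega) hb₀B hQb₀ hxA hxA0 hIn
      have hC := hs.isCentre_of_all_B hKB hb₀B hQb₀ hall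
      obtain ⟨s, hsC, hbs⟩ := hs.second_centre hQ hKB (by omega) hb₀B hb₀0 hC
      exact all_of_two H hC hsC hbs
  · exfalso
    push Not at hcase
    have hcase' : ∀ u ∈ A, Q u = 0 → act Q g u ∈ A ∨ act Q g u ∈ B := by
      intro u hu hQu
      by_cases h1 : act Q g u ∈ A
      · exact Or.inl h1
      · exact Or.inr (hcase u hu hQu h1)
    have hdich : (∀ u ∈ A, Q u = 0 → act Q g u ∈ A) ∨ (∀ u ∈ A, Q u = 0 → act Q g u ∈ B) := by
      by_contra hcon
      push Not at hcon
      obtain ⟨⟨u₁, hu₁, hQu₁, hg₁⟩, ⟨u₂, hu₂, hQu₂, hg₂⟩⟩ := hcon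
      have hg₁B : act Q g u₁ ∈ B := (hcase' u₁ hu₁ hQu₁).resolve_left hg₁
      have hg₂A : act Q g u₂ ∈ A := (hcase' u₂ hu₂ hQu₂).resolve_right hg₂
      have h2 := finrank_inf_orth hQ A (Submodule.span F ({u₁, u₂} : Set (ι → F)))
      have h3 := finrank_span_pair_le (F := F) u₁ u₂
      obtain ⟨u₃, hu₃S, hu₃0, hQu₃⟩ := exists_singular_in Q
        (A ⊓ MaxTS.orth Q (Submodule.span F ({u₁, u₂} : Set (ι → F)))) (by omega)
      have hu₃A : u₃ ∈ A := hu₃S.1
      have h13 : polar ⇑Q u₁ u₃ = 0 :=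
        (mem_orth Q _ u₃).mp hu₃S.2 u₁ (Submodule.subset_span (by simp))
      have h23 : polar ⇑Q u₂ u₃ = 0 :=
        (mem_orth Q _ u₃).mp hu₃S.2 u₂ (Submodule.subset_span (by simp))
      have hgu₃0 : act Q g u₃ ≠ 0 := fun h0 => hu₃0 (act_eq_zero g h0)
      rcases hcase' u₃ hu₃A hQu₃ with h3A | h3B
      · have hsum := hcase' (u₁ + u₃) (A.add_mem hu₁ hu₃A) (by rw [quad_add', hQu₁, hQu₃, h13]; ring)
        rw [act_add] at hsum
        rcases hsum with h4 | h4
        · exact hg₁ ((Submodule.add_mem_iff_left _ h3A).mp h4)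
        · have h5 : act Q g u₃ ∈ B := (Submodule.add_mem_iff_right _ hg₁B).mp h4
          exact hgu₃0 (h.inter hQ h3A h5)
      · have hsum := hcase' (u₂ + u₃) (A.add_mem hu₂ hu₃A) (by rw [quad_add', hQu₂, hQu₃, h23]; ring)
        rw [act_add] at hsum
        rcases hsum with h4 | h4
        · have h5 : act Q g u₃ ∈ A := (Submodule.add_mem_iff_right _ hg₂A).mp h4
          exact hgu₃0 (h.inter hQ h5 h3B)
        · exact hg₂ ((Submodule.add_mem_iff_left _ h3B).mp h4)
    have hspan := h.span_singular hQ (by omega : 3 ≤ finrank F A)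
    rcases hdich with hd | hd
    · apply hg
      apply mem_stab_of_map_le
      intro x hx
      have hle : Submodule.span F {s | s ∈ A ∧ Q s = 0} ≤
          Submodule.comap (Matrix.mulVecLin ((g : Matrix.GeneralLinearGroup ι F) : Matrix ι ι F))
            A := by
        rw [Submodule.span_le]
        intro s hs
        exact hd s hs.1 hs.2
      exact hle (hspan hx)
    · apply hni g
      intro x hx
      have hle : Submodule.span F {s | s ∈ A ∧ Q s = 0} ≤
          Submodule.comap (Matrix.mulVecLin ((g : Matrix.GeneralLinearGroup ι F) : Matrix ι ι F))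
            B := by
        rw [Submodule.span_le]
        intro s hs
        exact hd s hs.1 hs.2
      exact hle (hspan hx)

/-- The stabiliser of a non-degenerate subspace `A` of dimension at least seven is maximal in
`Ω(Q)` provided the complement `B` is non-zero, no isometry maps `A` into `B`, and `B` is not an
exceptional plane. -/
theorem isMaximalIn' (H : Hyp Q) (h : OPair Q A B) (hA : 7 ≤ finrank F A) (hB0 : B ≠ ⊥)
    (hni : ∀ g : ↥(isometryGroup F ⇑Q), ¬ ∀ a ∈ A, act Q g a ∈ B)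
    (hplane : finrank F B = 2 → ∀ x ∈ B, x ≠ 0 → ∃ b ∈ B, Q b ≠ 0 ∧ polar ⇑Q b x ≠ 0 ∧
      b ∉ Submodule.span F ({x} : Set (ι → F))) :
    Cfsg.Geo.IsMaximalIn (Cfsg.Geo.omegaGL ⇑Q)
      (Cfsg.Geo.subspaceStabilizer A ⊓ Cfsg.Geo.omegaGL ⇑Q) := by
  have hQ := H.nondeg
  refine ⟨lt_of_le_of_ne inf_le_right ?_, ?_⟩
  · intro heq
    obtain ⟨e, heA, f, hfA, hQe, hQf, hef⟩ := h.exists_hyp_pair hQ (by omega : 3 ≤ finrank F A)
    obtain ⟨b, hb, hb0⟩ := (Submodule.ne_bot_iff B).1 hB0
    have heb : polar ⇑Q e b = 0 := h.orth e heA b hb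
    have hmem : ((eich Q e b hQe heb : ↥(isometryGroup F ⇑Q)) : Matrix.GeneralLinearGroup ι F) ∈
        Cfsg.Geo.subspaceStabilizer A ⊓ Cfsg.Geo.omegaGL ⇑Q := by
      rw [heq]
      exact eich_mem_omegaGL H e b hQe heb
    have h1 := ((mem_stab_iff A _).mp hmem.1 f).mp hfA
    have e1 : (((eich Q e b hQe heb : ↥(isometryGroup F ⇑Q)) : Matrix.GeneralLinearGroup ι F) :
        Matrix ι ι F) *ᵥ f = eichlerMap Q e b f := act_eich Q e b hQe heb f
    rw [e1, eichlerMap_apply, hef, one_smul, h.orth' hfA hb, zero_add, mul_one] at h1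
    have h2 : f + (-(Q b)) • e ∈ A := A.add_mem hfA (A.smul_mem _ heA)
    have h3 : b ∈ A := by
      have := A.sub_mem h1 h2
      have e2 : f + b + (-(Q b)) • e - (f + (-(Q b)) • e) = b := by abel
      rwa [e2] at this
    exact hb0 (h.inter hQ h3 hb)
  · intro M hKM hMS
    by_cases hMK : M ≤ Cfsg.Geo.subspaceStabilizer A ⊓ Cfsg.Geo.omegaGL ⇑Q
    · left
      exact le_antisymm hMK hKM
    right
    apply le_antisymm hMS
    apply omegaGL_le H
    obtain ⟨g₀, hgM, hgK⟩ := SetLike.not_le_iff_exists.mp hMK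
    obtain ⟨g, -, rfl⟩ := (mem_omegaGL_iff Q g₀).mp (hMS hgM)
    have hg : (g : Matrix.GeneralLinearGroup ι F) ∉ Cfsg.Geo.subspaceStabilizer A :=
      fun h' => hgK ⟨h', hMS hgM⟩
    exact all_centres' H h hA hni hplane hKM g hgM hg

end final

section swap
variable {A B : Submodule F (ι → F)}

theorem stab_le (h : OPair Q A B) (hQ : (polarBilin Q).Nondegenerate) :
    Cfsg.Geo.subspaceStabilizer A ⊓ Cfsg.Geo.omegaGL ⇑Q ≤
      Cfsg.Geo.subspaceStabilizer B ⊓ Cfsg.Geo.omegaGL ⇑Q := by
  rintro g₀ ⟨hS, hΩ⟩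
  refine ⟨?_, hΩ⟩
  obtain ⟨g, -, rfl⟩ := (mem_omegaGL_iff Q g₀).mp hΩ
  apply mem_stab_of_map_le
  intro w hw
  have hperp : ∀ a ∈ A, polar ⇑Q a (act Q g w) = 0 := by
    intro a ha
    have ha' : act Q g⁻¹ a ∈ A := by
      apply ((mem_stab_iff A _).mp hS (act Q g⁻¹ a)).mpr
      have : act Q g (act Q g⁻¹ a) = a := act_inv_act Q g a
      show act Q g (act Q g⁻¹ a) ∈ A
      rw [this]
      exact ha
    have h1 : polar ⇑Q (act Q g (act Q g⁻¹ a)) (act Q g w) = polar ⇑Q (act Q g⁻¹ a) w :=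
      polar_act Q g _ _
    rw [act_inv_act] at h1
    rw [h1]
    exact h.orth _ ha' w hw
  obtain ⟨zA, hzA, zB, hzB, hz⟩ := h.split (act Q g w)
  have hzA0 : zA = 0 := by
    apply hQ.1 zA
    intro v
    obtain ⟨a, ha, b, hb, rfl⟩ := h.split v
    have h2 := hperp a ha
    rw [← hz, polar_add_right, h.orth a ha zB hzB, add_zero] at h2
    rw [polarBilin_apply_apply, polar_add_right, polar_comm, h2, h.orth zA hzA b hb, add_zero]
  show act Q g w ∈ B
  rw [← hz, hzA0, zero_add]
  exact hzB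

/-- the stabilisers in `Ω` of the two summands coincide -/
theorem stab_inf_eq (h : OPair Q A B) (hQ : (polarBilin Q).Nondegenerate) :
    Cfsg.Geo.subspaceStabilizer A ⊓ Cfsg.Geo.omegaGL ⇑Q =
      Cfsg.Geo.subspaceStabilizer B ⊓ Cfsg.Geo.omegaGL ⇑Q :=
  le_antisymm (stab_le h hQ) (stab_le h.symm hQ)

end swap

end Cfsg.Agent.Lib.Helper5.OrthNondegGen
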