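import Mathlib
import Cfsg.Prelude
import Cfsg.Agent.Lib.Helper5.OrthNondegGen
import Cfsg.Agent.Lib.Helper5.OmegaCrit
import Cfsg.Agent.Lib.Helper5.OmegaGen

set_option autoImplicit false
set_option linter.unusedSectionVars false
set_option linter.unusedVariables false
open Cfsg

/-! Orthogonal decompositions whose blocks carry a canonical frame of vectors of a fixed norm:
the stabiliser of the decomposition in `Ω(Q)` permutes the frame, hence is not maximal. -/

namespace Cfsg.Agent.Lib.Helper5.OrthFrameThree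

open Matrix QuadraticMap Module Cfsg.Agent.Lib.Helper5.CartanDieudonne Cfsg.Agent.Lib.Helper5.Refl
  Cfsg.Agent.Lib.Helper5.Siegel Cfsg.Agent.Lib.Helper5.QuadIsom
  Cfsg.Agent.Lib.Helper5.ReflGen Cfsg.Agent.Lib.Helper5.OmegaSimple
  Cfsg.Agent.Lib.Helper5.SpSingularMax Cfsg.Agent.Lib.Helper5.OrthSingularMax
  Cfsg.Agent.Lib.Helper5.SpinorNorm

variable {ι : Type} [Fintype ι] [DecidableEq ι] {F : Type*} [Field F] [Fintype F]
  {Q : QuadraticForm F (ι → F)} {t k : ℕ} {D : Fin t → Submodule F (ι → F)}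

/-- the norm-`c` vectors lying in a block -/
def S (Q : QuadraticForm F (ι → F)) (D : Fin t → Submodule F (ι → F)) (c : F) : Set (ι → F) :=
  {w | ∃ i, w ∈ D i ∧ Q w = c}

/-- the local frame property of a block vector -/
def Fr (Q : QuadraticForm F (ι → F)) (D : Fin t → Submodule F (ι → F)) (c : F) (i : Fin t)
    (v : ι → F) : Prop :=
  v ∈ D i ∧ Q v = c ∧ ∀ w ∈ D i, Q w = c → (w = v ∨ w = -v ∨ polar ⇑Q v w = 0)

/-- the intermediate subgroup -/
def midGroup (Q : QuadraticForm F (ι → F)) (D : Fin t → Submodule F (ι → F)) (c : F) :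
    Subgroup (Matrix.GeneralLinearGroup ι F) where
  carrier := {g | g ∈ Cfsg.Geo.omegaGL ⇑Q ∧
    ∀ v, (g : Matrix ι ι F) *ᵥ v ∈ S Q D c ↔ v ∈ S Q D c}
  mul_mem' {a b} ha hb := by
    refine ⟨Subgroup.mul_mem _ ha.1 hb.1, fun v => ?_⟩
    rw [Units.val_mul, ← Matrix.mulVec_mulVec, ha.2, hb.2]
  one_mem' := ⟨Subgroup.one_mem _, fun v => by simp⟩
  inv_mem' {a} ha := by
    refine ⟨Subgroup.inv_mem _ ha.1, fun v => ?_⟩
    have h1 := ha.2 (((a⁻¹ : Matrix.GeneralLinearGroup ι F) : Matrix _ _ F) *ᵥ v)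
    rw [Matrix.mulVec_mulVec, ← Units.val_mul, mul_inv_cancel, Units.val_one, Matrix.one_mulVec]
      at h1
    exact h1.symm

theorem stab_le_mid (c : F) :
    Cfsg.Geo.decompositionStabilizer D ⊓ Cfsg.Geo.omegaGL ⇑Q ≤ midGroup Q D c := by
  rintro g₀ ⟨⟨σ, hσ⟩, hΩ⟩
  refine ⟨hΩ, fun v => ?_⟩
  obtain ⟨g, -, rfl⟩ := (mem_omegaGL_iff Q g₀).mp hΩ
  have hQ : ∀ x, Q (((g : Matrix.GeneralLinearGroup ι F) : Matrix ι ι F) *ᵥ x) = Q x :=
    fun x => quad_act Q g x
  constructor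
  · rintro ⟨j, hj, hne⟩
    rw [hQ] at hne
    obtain ⟨i, rfl⟩ := σ.surjective j
    rw [← hσ i] at hj
    obtain ⟨v', hv', heq⟩ := hj
    rw [Matrix.toLin'_apply] at heq
    have : v' = v := by
      have h1 : act Q g (v' - v) = 0 := by
        rw [act_sub]
        exact sub_eq_zero.mpr heq
      exact sub_eq_zero.mp (OrthNondegMax.act_eq_zero g h1)
    exact ⟨i, this ▸ hv', hne⟩
  · rintro ⟨i, hi, hne⟩
    refine ⟨σ i, ?_, ?_⟩
    · rw [← hσ i]
      exact ⟨v, hi, by rw [Matrix.toLin'_apply]⟩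
    · rw [hQ]; exact hne

section blocks
variable (hD : Cfsg.Geo.IsNondegenerateMDecomposition (polar ⇑Q) k D)

include hD in
theorem orth' {i j : Fin t} (hij : i ≠ j) {u v : ι → F} (hu : u ∈ D i) (hv : v ∈ D j) :
    polar ⇑Q u v = 0 := hD.orthogonal i j hij u hu v hv

include hD in
theorem inter_eq_zero {i j : Fin t} (hij : i ≠ j) {x : ι → F} (hi : x ∈ D i)
    (hj : x ∈ D j) : x = 0 := by
  by_contra hx
  obtain ⟨y, hy, hxy⟩ := (hD.nondegenerate i x hi hx).2
  exact hxy (orth' hD hij.symm hj hy)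

include hD in
/-- the reflection swapping two frame vectors of different blocks maps `S` into itself -/
theorem refl_pres {c : F} (hc : c ≠ 0) (h2 : (2 : F) ≠ 0) {i i' : Fin t} (hii' : i ≠ i')
    {v v' : ι → F} (hv : Fr Q D c i v) (hv' : Fr Q D c i' v') (ha : Q (v - v') ≠ 0) :
    ∀ w ∈ S Q D c, act Q (reflection Q (v - v') ha) w ∈ S Q D c := by
  have hvv' : polar ⇑Q v v' = 0 := orth' hD hii' hv.1 hv'.1
  have hv'v : polar ⇑Q v' v = 0 := orth' hD hii'.symm hv'.1 hv.1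
  have hQa : Q (v - v') = 2 * c := by
    rw [quad_sub', hv.2.1, hv'.2.1, hvv']; ring
  have h2c : (2 : F) * c ≠ 0 := mul_ne_zero h2 hc
  have hpv : polar ⇑Q (v - v') v = 2 * c := by
    rw [polar_sub_left, polar_self, hv.2.1, hv'v, two_smul]; ring
  have hpv' : polar ⇑Q (v - v') v' = -(2 * c) := by
    rw [polar_sub_left, polar_self, hv'.2.1, hvv', two_smul]; ring
  have hact_v : act Q (reflection Q (v - v') ha) v = v' := by
    rw [act_reflection, hpv, hQa, inv_mul_cancel₀ h2c, one_smul]; abel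
  have hact_v' : act Q (reflection Q (v - v') ha) v' = v := by
    rw [act_reflection, hpv', hQa, mul_neg, inv_mul_cancel₀ h2c, neg_one_smul]; abel
  have hfix : ∀ w, polar ⇑Q (v - v') w = 0 → act Q (reflection Q (v - v') ha) w = w := by
    intro w hw
    rw [act_reflection, hw, mul_zero, zero_smul, sub_zero]
  have hneg : ∀ w, act Q (reflection Q (v - v') ha) (-w) =
      -(act Q (reflection Q (v - v') ha) w) := fun w => act_neg Q _ w
  rintro w ⟨j, hj, hQw⟩
  by_cases hji : j = i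
  · subst hji
    rcases hv.2.2 w hj hQw with rfl | rfl | hperp
    · rw [hact_v]
      exact ⟨i', hv'.1, hv'.2.1⟩
    · rw [hneg, hact_v]
      exact ⟨i', (D i').neg_mem hv'.1, by rw [QuadraticMap.map_neg, hv'.2.1]⟩
    · rw [hfix w (by rw [polar_sub_left, hperp, orth' hD hii'.symm hv'.1 hj, sub_zero])]
      exact ⟨j, hj, hQw⟩
  · by_cases hji' : j = i'
    · subst hji'
      rcases hv'.2.2 w hj hQw with rfl | rfl | hperp
      · rw [hact_v']
        exact ⟨i, hv.1, hv.2.1⟩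
      · rw [hneg, hact_v']
        exact ⟨i, (D i).neg_mem hv.1, by rw [QuadraticMap.map_neg, hv.2.1]⟩
      · rw [hfix w (by rw [polar_sub_left, hperp, orth' hD hii' hv.1 hj, sub_zero])]
        exact ⟨j, hj, hQw⟩
    · rw [hfix w (by
        rw [polar_sub_left, orth' hD (Ne.symm hji) hv.1 hj, orth' hD (Ne.symm hji') hv'.1 hj,
          sub_zero])]
      exact ⟨j, hj, hQw⟩

end blocks

section main
variable (hD : Cfsg.Geo.IsNondegenerateMDecomposition (polar ⇑Q) k D)

/-- a product of two reflections with the same norm lies in `Ω` -/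
theorem refl_pair_mem_omega (H : Hyp Q) {a b : ι → F} (ha : Q a ≠ 0) (hb : Q b ≠ 0)
    (hsq : IsSquare (Q a * Q b)) :
    ((reflection Q a ha * reflection Q b hb : ↥(isometryGroup F ⇑Q)) :
      Matrix.GeneralLinearGroup ι F) ∈ Cfsg.Geo.omegaGL ⇑Q := by
  rw [mem_omegaGL_iff]
  refine ⟨_, ?_, rfl⟩
  have hrep : IsRep Q (reflection Q a ha * reflection Q b hb) ([a] ++ [b]) :=
    isRep_mul Q (isRep_reflection Q a ha) (isRep_reflection Q b hb)
  rw [OmegaCrit.mem_Omega_iff Q H.nondeg (fun h4 => by have := H.card5; omega)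
    (by have := H.card5; omega) _ _ hrep]
  refine ⟨⟨1, rfl⟩, ?_⟩
  simpa using hsq

include hD in
/-- A decomposition with frame vectors in four blocks has a non-maximal stabiliser. -/
theorem not_maximal_of_frames (H : Hyp Q) (h2 : (2 : F) ≠ 0) {c : F} (hc : c ≠ 0)
    {i₁ i₂ i₃ i₄ : Fin t} (h12 : i₁ ≠ i₂) (h13 : i₁ ≠ i₃) (h14 : i₁ ≠ i₄) (h23 : i₂ ≠ i₃)
    (h24 : i₂ ≠ i₄) (h34 : i₃ ≠ i₄) {v₁ v₂ v₃ v₄ v₁' : ι → F} (hv₁ : Fr Q D c i₁ v₁)
    (hv₂ : Fr Q D c i₂ v₂) (hv₃ : Fr Q D c i₃ v₃) (hv₄ : Fr Q D c i₄ v₄) (hv₁' : v₁' ∈ D i₁)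
    (hQv₁' : Q v₁' = c) (hperp : polar ⇑Q v₁ v₁' = 0) :
    ∃ K : Subgroup (Matrix.GeneralLinearGroup ι F),
      Cfsg.Geo.decompositionStabilizer D ⊓ Cfsg.Geo.omegaGL ⇑Q < K ∧
        K < Cfsg.Geo.omegaGL ⇑Q := by
  have h2c : (2 : F) * c ≠ 0 := mul_ne_zero h2 hc
  have hQa : Q (v₁ - v₂) = 2 * c := by
    rw [quad_sub', hv₁.2.1, hv₂.2.1, orth' hD h12 hv₁.1 hv₂.1]; ring
  have hQb : Q (v₃ - v₄) = 2 * c := by
    rw [quad_sub', hv₃.2.1, hv₄.2.1, orth' hD h34 hv₃.1 hv₄.1]; ring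
  have ha : Q (v₁ - v₂) ≠ 0 := by rw [hQa]; exact h2c
  have hb : Q (v₃ - v₄) ≠ 0 := by rw [hQb]; exact h2c
  have hpa := refl_pres hD hc h2 h12 hv₁ hv₂ ha
  have hpb := refl_pres hD hc h2 h34 hv₃ hv₄ hb
  have hinva : ∀ x, act Q (reflection Q (v₁ - v₂) ha) (act Q (reflection Q (v₁ - v₂) ha) x) = x := by
    intro x
    rw [← act_mul, Cfsg.Agent.Lib.Helper5.OmegaGen.reflection_mul_self']
    exact Matrix.one_mulVec x
  have hinvb : ∀ x, act Q (reflection Q (v₃ - v₄) hb) (act Q (reflection Q (v₃ - v₄) hb) x) = x := by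
    intro x
    rw [← act_mul, Cfsg.Agent.Lib.Helper5.OmegaGen.reflection_mul_self']
    exact Matrix.one_mulVec x
  have hv₁'0 : v₁' ≠ 0 := by
    rintro rfl
    rw [map_zero] at hQv₁'
    exact hc hQv₁'.symm
  have hv₂0 : v₂ ≠ 0 := by
    intro h0
    have := hv₂.2.1
    rw [h0, map_zero] at this
    exact hc this.symm
  -- the first element
  have hmem2 : ((reflection Q (v₁ - v₂) ha * reflection Q (v₃ - v₄) hb :
      ↥(isometryGroup F ⇑Q)) : Matrix.GeneralLinearGroup ι F) ∈ midGroup Q D c := by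
    refine ⟨refl_pair_mem_omega H ha hb ⟨2 * c, by rw [hQa, hQb]⟩, fun v => ?_⟩
    have e : (((reflection Q (v₁ - v₂) ha * reflection Q (v₃ - v₄) hb :
        ↥(isometryGroup F ⇑Q)) : Matrix.GeneralLinearGroup ι F) : Matrix ι ι F) *ᵥ v =
        act Q (reflection Q (v₁ - v₂) ha) (act Q (reflection Q (v₃ - v₄) hb) v) := by
      rw [← act_mul]
    rw [e]
    constructor
    · intro h
      have h3 := hpa _ h
      rw [hinva] at h3
      have h4 := hpb _ h3
      rwa [hinvb] at h4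
    · intro h
      exact hpa _ (hpb _ h)
  refine ⟨midGroup Q D c, lt_of_le_of_ne (stab_le_mid c) ?_,
    lt_of_le_of_ne (fun g hg => hg.1) ?_⟩
  · intro heq
    rw [← heq] at hmem2
    obtain ⟨⟨σ, hσ⟩, -⟩ := hmem2
    have e : ∀ v, (((reflection Q (v₁ - v₂) ha * reflection Q (v₃ - v₄) hb :
        ↥(isometryGroup F ⇑Q)) : Matrix.GeneralLinearGroup ι F) : Matrix ι ι F) *ᵥ v =
        act Q (reflection Q (v₁ - v₂) ha) (act Q (reflection Q (v₃ - v₄) hb) v) := by
      intro v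
      rw [← act_mul]
    have hfix1 : act Q (reflection Q (v₁ - v₂) ha) (act Q (reflection Q (v₃ - v₄) hb) v₁') =
        v₁' := by
      rw [act_reflection Q (v₃ - v₄), polar_sub_left, orth' hD h13.symm hv₃.1 hv₁',
        orth' hD h14.symm hv₄.1 hv₁', sub_zero, mul_zero, zero_smul, sub_zero,
        act_reflection, polar_sub_left, hperp, orth' hD h12.symm hv₂.1 hv₁', sub_zero, mul_zero,
        zero_smul, sub_zero]
    have hσ1 : σ i₁ = i₁ := by
      by_contra hne
      have h3 : v₁' ∈ D (σ i₁) := by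
        rw [← hσ i₁]
        exact ⟨v₁', hv₁', by rw [Matrix.toLin'_apply, e, hfix1]⟩
      exact hv₁'0 (inter_eq_zero hD (Ne.symm hne) hv₁' h3)
    have hmove : act Q (reflection Q (v₁ - v₂) ha) (act Q (reflection Q (v₃ - v₄) hb) v₁) =
        v₂ := by
      rw [act_reflection Q (v₃ - v₄), polar_sub_left, orth' hD h13.symm hv₃.1 hv₁.1,
        orth' hD h14.symm hv₄.1 hv₁.1, sub_zero, mul_zero, zero_smul, sub_zero,
        act_reflection, polar_sub_left, polar_self, hv₁.2.1, orth' hD h12.symm hv₂.1 hv₁.1,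
        hQa, two_smul, sub_zero]
      have : (2 * c)⁻¹ * (c + c) = 1 := by
        rw [← two_mul, inv_mul_cancel₀ h2c]
      rw [this, one_smul]
      abel
    have h4 : v₂ ∈ D i₁ := by
      have : (((reflection Q (v₁ - v₂) ha * reflection Q (v₃ - v₄) hb :
          ↥(isometryGroup F ⇑Q)) : Matrix.GeneralLinearGroup ι F) : Matrix ι ι F) *ᵥ v₁ ∈
          D (σ i₁) := by
        rw [← hσ i₁]
        exact ⟨v₁, hv₁.1, by rw [Matrix.toLin'_apply]⟩
      rwa [e, hmove, hσ1] at this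
    exact hv₂0 (inter_eq_zero hD h12 h4 hv₂.1)
  · intro heq
    -- the second element
    obtain ⟨a', ha'def⟩ : ∃ a', a' = v₁ + v₂ + v₃ + v₄ := ⟨_, rfl⟩
    have hQa' : Q a' = 4 * c := by
      rw [ha'def, quad_add', quad_add', quad_add', hv₁.2.1, hv₂.2.1, hv₃.2.1, hv₄.2.1,
        polar_add_left, polar_add_left, polar_add_left, orth' hD h12 hv₁.1 hv₂.1,
        orth' hD h13 hv₁.1 hv₃.1, orth' hD h14 hv₁.1 hv₄.1, orth' hD h23 hv₂.1 hv₃.1,
        orth' hD h24 hv₂.1 hv₄.1, orth' hD h34 hv₃.1 hv₄.1]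
      ring
    have h4c : (4 : F) * c ≠ 0 := by
      have : (4 : F) = 2 * 2 := by norm_num
      rw [this]
      exact mul_ne_zero (mul_ne_zero h2 h2) hc
    have ha' : Q a' ≠ 0 := by rw [hQa']; exact h4c
    have hb' : Q v₁' ≠ 0 := by rw [hQv₁']; exact hc
    have hmem3 : ((reflection Q a' ha' * reflection Q v₁' hb' :
        ↥(isometryGroup F ⇑Q)) : Matrix.GeneralLinearGroup ι F) ∈ midGroup Q D c := by
      rw [heq]
      exact refl_pair_mem_omega H ha' hb' ⟨2 * c, by rw [hQa', hQv₁']; ring⟩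
    have h3 := (hmem3.2 v₁).mpr ⟨i₁, hv₁.1, hv₁.2.1⟩
    have e : (((reflection Q a' ha' * reflection Q v₁' hb' :
        ↥(isometryGroup F ⇑Q)) : Matrix.GeneralLinearGroup ι F) : Matrix ι ι F) *ᵥ v₁ =
        act Q (reflection Q a' ha') (act Q (reflection Q v₁' hb') v₁) := by
      rw [← act_mul]
    have hpa' : polar ⇑Q a' v₁ = 2 * c := by
      rw [ha'def, polar_add_left, polar_add_left, polar_add_left, polar_self, hv₁.2.1,
        orth' hD h12.symm hv₂.1 hv₁.1, orth' hD h13.symm hv₃.1 hv₁.1,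
        orth' hD h14.symm hv₄.1 hv₁.1, two_smul]
      ring
    rw [e, act_reflection Q v₁', polar_comm, hperp, mul_zero, zero_smul, sub_zero,
      act_reflection, hpa', hQa'] at h3
    obtain ⟨j, hj, -⟩ := h3
    have hcoef : (4 * c)⁻¹ * (2 * c) ≠ 0 := mul_ne_zero (inv_ne_zero h4c) h2c
    have hj2 : j = i₂ := by
      by_contra hne
      have h5 := orth' hD hne hj hv₂.1
      rw [polar_sub_left, orth' hD h12 hv₁.1 hv₂.1, polar_smul_left, ha'def, polar_add_left,
        polar_add_left, polar_add_left, orth' hD h12 hv₁.1 hv₂.1, polar_self, hv₂.2.1,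
        orth' hD h23.symm hv₃.1 hv₂.1, orth' hD h24.symm hv₄.1 hv₂.1, two_smul, zero_sub,
        neg_eq_zero, smul_eq_mul] at h5
      have : c + c = 2 * c := by ring
      rw [zero_add, add_zero, add_zero, this] at h5
      exact mul_ne_zero hcoef h2c h5
    have hj3 : j = i₃ := by
      by_contra hne
      have h5 := orth' hD hne hj hv₃.1
      rw [polar_sub_left, orth' hD h13 hv₁.1 hv₃.1, polar_smul_left, ha'def, polar_add_left,
        polar_add_left, polar_add_left, orth' hD h13 hv₁.1 hv₃.1, polar_self, hv₃.2.1,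
        orth' hD h23 hv₂.1 hv₃.1, orth' hD h34.symm hv₄.1 hv₃.1, two_smul, zero_sub,
        neg_eq_zero, smul_eq_mul] at h5
      have : c + c = 2 * c := by ring
      rw [zero_add, zero_add, add_zero, this] at h5
      exact mul_ne_zero hcoef h2c h5
    exact h23 (hj2.symm.trans hj3)

end main


section good

/-- a block with a frame -/
def Good (Q : QuadraticForm F (ι → F)) (W : Submodule F (ι → F)) (c : F) : Prop :=
  ∃ v v', v ∈ W ∧ v' ∈ W ∧ Q v = c ∧ Q v' = c ∧ polar ⇑Q v v' = 0 ∧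
    ∀ w ∈ W, Q w = c → (w = v ∨ w = -v ∨ polar ⇑Q v w = 0)

theorem Good.transport {W W' : Submodule F (ι → F)} {c : F} (h : Good Q W c)
    (e : Cfsg.Geo.AreIsometricFor ⇑Q W W') : Good Q W' c := by
  obtain ⟨e, he⟩ := e
  obtain ⟨v, v', hv, hv', hQv, hQv', hvv', hfr⟩ := h
  have hpol : ∀ a b : W, polar ⇑Q ((e a : W') : ι → F) ((e b : W') : ι → F) =
      polar ⇑Q (a : ι → F) (b : ι → F) := by
    intro a b
    have h2 := he (a + b)
    rw [map_add, Submodule.coe_add, Submodule.coe_add] at h2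
    unfold polar
    rw [h2, he a, he b]
  refine ⟨(e ⟨v, hv⟩ : W'), (e ⟨v', hv'⟩ : W'), (e ⟨v, hv⟩).2, (e ⟨v', hv'⟩).2, ?_, ?_, ?_, ?_⟩
  · rw [he]; exact hQv
  · rw [he]; exact hQv'
  · rw [hpol]; exact hvv'
  · intro w hw hQw
    have h1 : ((e (e.symm ⟨w, hw⟩) : W') : ι → F) = w := by
      rw [LinearEquiv.apply_symm_apply]
    have h2 : Q ((e.symm ⟨w, hw⟩ : W) : ι → F) = c := by
      rw [← he, h1]; exact hQw
    rcases hfr _ (e.symm ⟨w, hw⟩).2 h2 with h3 | h3 | h3
    · left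
      rw [← h1]
      congr 2
      exact Subtype.ext h3
    · right; left
      rw [← h1]
      have : e.symm ⟨w, hw⟩ = -⟨v, hv⟩ := Subtype.ext h3
      rw [this, map_neg, Submodule.coe_neg]
    · right; right
      rw [← h1, hpol]
      exact h3

/-- orthogonal bases of non-degenerate subspaces -/
theorem exists_orth_basis (h2 : (2 : F) ≠ 0) (W : Submodule F (ι → F)) {d : ℕ}
    (hd : finrank F W = d) (hW : Cfsg.Geo.IsNondegenerateOn (polar ⇑Q) W) :
    ∃ b : Fin d → (ι → F), (∀ j, b j ∈ W) ∧ (∀ i j, i ≠ j → polar ⇑Q (b i) (b j) = 0) ∧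
      (∀ j, Q (b j) ≠ 0) ∧ (∀ w ∈ W, ∃ x : Fin d → F, w = ∑ j, x j • b j) := by
  subst hd
  have : Invertible (2 : F) := invertibleOfNonzero h2
  have hB : LinearMap.IsSymm ((polarBilin Q).domRestrict₁₂ W W) := by
    constructor
    intro x y
    show polar ⇑Q (x : ι → F) (y : ι → F) = polar ⇑Q (y : ι → F) (x : ι → F)
    exact polar_comm _ _ _
  obtain ⟨v, hv⟩ := LinearMap.BilinForm.exists_orthogonal_basis hB
  have horth : ∀ i j, i ≠ j → polar ⇑Q ((v i : W) : ι → F) ((v j : W) : ι → F) = 0 := by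
    intro i j hij
    exact hv hij
  have hspan : ∀ w ∈ W, ∃ x : Fin (finrank F W) → F, w = ∑ j, x j • ((v j : W) : ι → F) := by
    intro w hw
    refine ⟨fun j => v.repr ⟨w, hw⟩ j, ?_⟩
    have := v.sum_repr ⟨w, hw⟩
    have h3 := congrArg (fun z : W => (z : ι → F)) this
    simp only [Submodule.coe_sum, Submodule.coe_smul] at h3
    exact h3.symm
  refine ⟨fun j => ((v j : W) : ι → F), fun j => (v j).2, horth, ?_, hspan⟩
  intro j hQ0
  have hne : ((v j : W) : ι → F) ≠ 0 := by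
    intro h0
    exact v.ne_zero j (Subtype.ext h0)
  obtain ⟨x, hx, hpx⟩ := (hW _ (v j).2 hne).2
  apply hpx
  obtain ⟨c, rfl⟩ := hspan x hx
  rw [polar_sum_right]
  apply Finset.sum_eq_zero
  intro i _
  by_cases hij : j = i
  · subst hij
    rw [polar_self, hQ0, smul_zero, mul_zero]
  · rw [horth j i hij, mul_zero]

end good

section three
variable (hq : Fintype.card F = 3)

include hq in
theorem three_eq_zero : (3 : F) = 0 := by
  have := FiniteField.cast_card_eq_zero F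
  rw [hq] at this
  exact_mod_cast this

include hq in
theorem two_ne_zero' : (2 : F) ≠ 0 := by
  intro h
  have h3 := three_eq_zero hq
  have : (1 : F) = 0 := by linear_combination h3 - h
  exact one_ne_zero this

include hq in
theorem cases3 (x : F) : x = 0 ∨ x = 1 ∨ x = -1 := by
  classical
  by_contra hcon
  push Not at hcon
  obtain ⟨h0, h1, h2⟩ := hcon
  have hne : (1 : F) ≠ -1 := by
    intro h
    have : (2 : F) = 0 := by linear_combination h
    exact two_ne_zero' hq this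
  have hcard : ({0, 1, -1, x} : Finset F).card = 4 := by
    rw [Finset.card_insert_of_notMem, Finset.card_insert_of_notMem, Finset.card_insert_of_notMem,
      Finset.card_singleton]
    · simp only [Finset.mem_singleton]; exact fun h => h2 h.symm
    · simp only [Finset.mem_insert, Finset.mem_singleton, not_or]
      exact ⟨hne, fun h => h1 h.symm⟩
    · simp only [Finset.mem_insert, Finset.mem_singleton, not_or]
      refine ⟨zero_ne_one, ?_, fun h => h0 h.symm⟩
      intro h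
      exact one_ne_zero (neg_eq_zero.mp h.symm)
  have := Finset.card_le_univ ({0, 1, -1, x} : Finset F)
  omega

include hq in
theorem sq_sum3 (x y z : F) (h : x * x + y * y + z * z = 1) :
    (x ≠ 0 ∧ y = 0 ∧ z = 0) ∨ (x = 0 ∧ y ≠ 0 ∧ z = 0) ∨ (x = 0 ∧ y = 0 ∧ z ≠ 0) := by
  have h3 := three_eq_zero hq
  have h10 : (1 : F) ≠ 0 := one_ne_zero
  have hm10 : (-1 : F) ≠ 0 := neg_ne_zero.mpr one_ne_zero
  rcases cases3 hq x with rfl | rfl | rfl <;> rcases cases3 hq y with rfl | rfl | rfl <;>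
    rcases cases3 hq z with rfl | rfl | rfl <;>
    first
    | (left; exact ⟨by assumption, rfl, rfl⟩)
    | (right; left; exact ⟨rfl, by assumption, rfl⟩)
    | (right; right; exact ⟨rfl, rfl, by assumption⟩)
    | (exfalso; apply h10; linear_combination -h)
    | (exfalso; apply h10; linear_combination h)
    | (exfalso; apply h10; linear_combination h - h3)
    | (exfalso; apply h10; linear_combination -h + h3)

include hq in
theorem sq_sum2 (x y : F) (h : x * x + y * y = 1) :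
    (x ≠ 0 ∧ y = 0) ∨ (x = 0 ∧ y ≠ 0) := by
  rcases sq_sum3 hq x y 0 (by rw [mul_zero, add_zero]; exact h) with h1 | h1 | h1
  · exact Or.inl ⟨h1.1, h1.2.1⟩
  · exact Or.inr ⟨h1.1, h1.2.1⟩
  · exact absurd rfl h1.2.2

include hq in
theorem eq_or_neg_of_ne_zero {a b : F} (ha : a ≠ 0) (hb : b ≠ 0) : b = a ∨ b = -a := by
  rcases cases3 hq a with rfl | rfl | rfl
  · exact absurd rfl ha
  · rcases cases3 hq b with rfl | rfl | rfl
    · exact absurd rfl hb
    · exact Or.inl rfl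
    · exact Or.inr rfl
  · rcases cases3 hq b with rfl | rfl | rfl
    · exact absurd rfl hb
    · exact Or.inr (neg_neg 1).symm
    · exact Or.inl rfl

theorem quad_comb3 (x y z : F) {v₁ v₂ v₃ : ι → F} (h12 : polar ⇑Q v₁ v₂ = 0)
    (h13 : polar ⇑Q v₁ v₃ = 0) (h23 : polar ⇑Q v₂ v₃ = 0) :
    Q (x • v₁ + y • v₂ + z • v₃) = x * x * Q v₁ + y * y * Q v₂ + z * z * Q v₃ := by
  rw [quad_add', quad_add', polar_add_left, QuadraticMap.map_smul, QuadraticMap.map_smul,
    QuadraticMap.map_smul, polar_smul_left, polar_smul_left, polar_smul_left, polar_smul_right,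
    polar_smul_right, polar_smul_right, h12, h13, h23]
  simp only [smul_eq_mul]
  ring

include hq in
/-- a constant-norm orthogonal basis of a 3-dimensional block gives a frame -/
theorem good_of_triple {W : Submodule F (ι → F)} {c : F} (hc : c ≠ 0) {v₁ v₂ v₃ : ι → F}
    (h1 : v₁ ∈ W) (h2 : v₂ ∈ W) (hQ1 : Q v₁ = c) (hQ2 : Q v₂ = c) (hQ3 : Q v₃ = c)
    (h12 : polar ⇑Q v₁ v₂ = 0) (h13 : polar ⇑Q v₁ v₃ = 0) (h23 : polar ⇑Q v₂ v₃ = 0)
    (hspan : ∀ w ∈ W, ∃ x y z : F, w = x • v₁ + y • v₂ + z • v₃) : Good Q W c := by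
  refine ⟨v₁, v₂, h1, h2, hQ1, hQ2, h12, ?_⟩
  intro w hw hQw
  obtain ⟨x, y, z, rfl⟩ := hspan w hw
  rw [quad_comb3 x y z h12 h13 h23, hQ1, hQ2, hQ3] at hQw
  have hsum : x * x + y * y + z * z = 1 := by
    have : (x * x + y * y + z * z) * c = 1 * c := by linear_combination hQw
    exact mul_right_cancel₀ hc this
  have hp : polar ⇑Q v₁ (x • v₁ + y • v₂ + z • v₃) = x * (2 * c) := by
    rw [polar_add_right, polar_add_right, polar_smul_right, polar_smul_right, polar_smul_right,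
      h12, h13, polar_self, hQ1]
    simp only [smul_eq_mul, two_smul]
    ring
  rcases sq_sum3 hq x y z hsum with ⟨hx, rfl, rfl⟩ | ⟨rfl, -, -⟩ | ⟨rfl, -, -⟩
  · rcases cases3 hq x with rfl | rfl | rfl
    · exact absurd rfl hx
    · left; simp
    · right; left; simp
  · right; right; rw [hp, zero_mul]
  · right; right; rw [hp, zero_mul]

include hq in
/-- norms `(a, a, ±a)` -/
theorem good_of_orth3 {W : Submodule F (ι → F)} {u₁ u₂ u₃ : ι → F}
    (h1 : u₁ ∈ W) (h2 : u₂ ∈ W) (h3 : u₃ ∈ W) (hQ1 : Q u₁ ≠ 0) (hQ3 : Q u₃ ≠ 0)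
    (hQ12 : Q u₂ = Q u₁)
    (h12 : polar ⇑Q u₁ u₂ = 0) (h13 : polar ⇑Q u₁ u₃ = 0) (h23 : polar ⇑Q u₂ u₃ = 0)
    (hspan : ∀ w ∈ W, ∃ x y z : F, w = x • u₁ + y • u₂ + z • u₃) : ∃ c, c ≠ 0 ∧ Good Q W c := by
  have h3z := three_eq_zero hq
  rcases eq_or_neg_of_ne_zero hq hQ1 hQ3 with h | h
  · exact ⟨Q u₁, hQ1, good_of_triple hq hQ1 h1 h2 rfl hQ12 h h12 h13 h23 hspan⟩
  · refine ⟨-Q u₁, neg_ne_zero.mpr hQ1, ?_⟩
    have h21 : polar ⇑Q u₂ u₁ = 0 := by rw [polar_comm]; exact h12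
    refine good_of_triple hq (neg_ne_zero.mpr hQ1) (W.add_mem h1 h2) (W.sub_mem h1 h2) ?_ ?_ h
      ?_ ?_ ?_ ?_
    · rw [quad_add', hQ12, h12]
      linear_combination (Q u₁) * h3z
    · rw [quad_sub', hQ12, h12]
      linear_combination (Q u₁) * h3z
    · rw [polar_add_left, polar_sub_right, polar_sub_right, polar_self, polar_self, h12, h21,
        hQ12]
      simp
    · rw [polar_add_left, h13, h23, add_zero]
    · rw [polar_sub_left, h13, h23, sub_zero]
    · intro w hw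
      obtain ⟨x, y, z, rfl⟩ := hspan w hw
      refine ⟨-(x + y), -(x - y), z, ?_⟩
      have e1 : x • u₁ = (-(x + y)) • u₁ + (-(x - y)) • u₁ := by
        rw [← add_smul]
        congr 1
        linear_combination x * h3z
      have e2 : y • u₂ = (-(x + y)) • u₂ - (-(x - y)) • u₂ := by
        rw [← sub_smul]
        congr 1
        linear_combination y * h3z
      rw [smul_add, smul_sub, e1, e2]
      abel

include hq in
/-- 3-dimensional non-degenerate blocks over the field of order 3 have a frame -/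
theorem good_three (W : Submodule F (ι → F)) (hd : finrank F W = 3)
    (hW : Cfsg.Geo.IsNondegenerateOn (polar ⇑Q) W) : ∃ c, c ≠ 0 ∧ Good Q W c := by
  obtain ⟨b, hbW, horth, hne, hspan⟩ := exists_orth_basis (two_ne_zero' hq) W hd hW
  have hspan' : ∀ w ∈ W, ∃ x y z : F, w = x • b 0 + y • b 1 + z • b 2 := by
    intro w hw
    obtain ⟨x, rfl⟩ := hspan w hw
    exact ⟨x 0, x 1, x 2, by rw [Fin.sum_univ_three]⟩
  have h01 := horth 0 1 (by decide)
  have h02 := horth 0 2 (by decide)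
  have h12 := horth 1 2 (by decide)
  have h10 := horth 1 0 (by decide)
  have h20 := horth 2 0 (by decide)
  have h21 := horth 2 1 (by decide)
  by_cases hA : Q (b 1) = Q (b 0)
  · exact good_of_orth3 hq (hbW 0) (hbW 1) (hbW 2) (hne 0) (hne 2) hA h01 h02 h12 hspan'
  · by_cases hB : Q (b 2) = Q (b 0)
    · refine good_of_orth3 hq (hbW 0) (hbW 2) (hbW 1) (hne 0) (hne 1) hB h02 h01 h21 ?_
      intro w hw
      obtain ⟨x, y, z, rfl⟩ := hspan' w hw
      exact ⟨x, z, y, by abel⟩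
    · have hC : Q (b 2) = Q (b 1) := by
        rcases eq_or_neg_of_ne_zero hq (hne 0) (hne 1) with h | h
        · exact absurd h hA
        · rcases eq_or_neg_of_ne_zero hq (hne 0) (hne 2) with h' | h'
          · exact absurd h' hB
          · rw [h, h']
      refine good_of_orth3 hq (hbW 1) (hbW 2) (hbW 0) (hne 1) (hne 0) hC h12 h10 h20 ?_
      intro w hw
      obtain ⟨x, y, z, rfl⟩ := hspan' w hw
      exact ⟨y, z, x, by abel⟩

include hq in
/-- anisotropic planes over the field of order 3 have a frame -/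
theorem good_two (W : Submodule F (ι → F)) (hd : finrank F W = 2)
    (hW : Cfsg.Geo.IsNondegenerateOn (polar ⇑Q) W) (han : ∀ w ∈ W, Q w = 0 → w = 0) :
    ∃ c, c ≠ 0 ∧ Good Q W c := by
  obtain ⟨b, hbW, horth, hne, hspan⟩ := exists_orth_basis (two_ne_zero' hq) W hd hW
  have h3z := three_eq_zero hq
  have hspan' : ∀ w ∈ W, ∃ x y : F, w = x • b 0 + y • b 1 := by
    intro w hw
    obtain ⟨x, rfl⟩ := hspan w hw
    exact ⟨x 0, x 1, by rw [Fin.sum_univ_two]⟩
  have h01 := horth 0 1 (by decide)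
  have hQ : Q (b 1) = Q (b 0) := by
    rcases eq_or_neg_of_ne_zero hq (hne 0) (hne 1) with h | h
    · exact h
    · exfalso
      have h0 : Q (b 0 + b 1) = 0 := by rw [quad_add', h, h01]; ring
      have h1 := han _ (W.add_mem (hbW 0) (hbW 1)) h0
      have h2 : b 1 = -b 0 := (neg_eq_of_add_eq_zero_right h1).symm
      rw [h2, polar_neg_right, polar_self, neg_eq_zero] at h01
      have : (2 : F) * Q (b 0) = 0 := by rw [← h01, two_smul]; ring
      rcases mul_eq_zero.mp this with h5 | h5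
      · exact two_ne_zero' hq h5
      · exact hne 0 h5
  refine ⟨Q (b 0), hne 0, b 0, b 1, hbW 0, hbW 1, rfl, hQ, h01, ?_⟩
  intro w hw hQw
  obtain ⟨x, y, rfl⟩ := hspan' w hw
  have hq3 := quad_comb3 x y 0 h01 (polar_zero_right Q (b 0)) (polar_zero_right Q (b 1))
    (Q := Q) (v₃ := 0)
  rw [zero_smul, add_zero, map_zero, mul_zero, add_zero, hQ] at hq3
  rw [hq3] at hQw
  have hsum : x * x + y * y = 1 := by
    have : (x * x + y * y) * Q (b 0) = 1 * Q (b 0) := by linear_combination hQw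
    exact mul_right_cancel₀ (hne 0) this
  have hp : polar ⇑Q (b 0) (x • b 0 + y • b 1) = x * (2 * Q (b 0)) := by
    rw [polar_add_right, polar_smul_right, polar_smul_right, h01, polar_self]
    simp only [smul_eq_mul, two_smul]
    ring
  rcases sq_sum2 hq x y hsum with ⟨hx, rfl⟩ | ⟨rfl, -⟩
  · rcases cases3 hq x with rfl | rfl | rfl
    · exact absurd rfl hx
    · left; simp
    · right; left; simp
  · right; right; rw [hp, zero_mul]

end three

section final

/-- the number of blocks -/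
theorem card_blocks' {k : ℕ} (hD : Cfsg.Geo.IsMDecomposition k D) :
    t * k = Fintype.card ι := by
  have hInt : DirectSum.IsInternal D :=
    DirectSum.isInternal_submodule_of_iSupIndep_of_iSup_eq_top hD.indep hD.iSup_eq_top
  have hb := hInt.collectedBasis (fun i => Module.finBasis F (D i))
  have h1 := Module.finrank_eq_card_basis hb
  rw [Module.finrank_fintype_fun_eq_card, Fintype.card_sigma] at h1
  simp only [Fintype.card_fin, hD.finrank_eq, Finset.sum_const, Finset.card_univ,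
    smul_eq_mul] at h1
  omega

/-- the main theorem -/
theorem not_maximal_main (H : Hyp Q) (hq : Fintype.card F = 3)
    (hD : Cfsg.Geo.IsOrthogonalMDecomposition ⇑Q k D) (ht : 4 ≤ t) {c : F} (hc : c ≠ 0)
    (hgood : Good Q (D ⟨0, by omega⟩) c) :
    ∃ K : Subgroup (Matrix.GeneralLinearGroup ι F),
      Cfsg.Geo.decompositionStabilizer D ⊓ Cfsg.Geo.omegaGL ⇑Q < K ∧
        K < Cfsg.Geo.omegaGL ⇑Q := by
  have hg : ∀ j, Good Q (D j) c := fun j => hgood.transport (hD.isometric _ j)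
  obtain ⟨v₁, v₁', hv₁, hv₁', hQ₁, hQ₁', hp₁, hf₁⟩ := hg ⟨0, by omega⟩
  obtain ⟨v₂, v₂', hv₂, hv₂', hQ₂, hQ₂', hp₂, hf₂⟩ := hg ⟨1, by omega⟩
  obtain ⟨v₃, v₃', hv₃, hv₃', hQ₃, hQ₃', hp₃, hf₃⟩ := hg ⟨2, by omega⟩
  obtain ⟨v₄, v₄', hv₄, hv₄', hQ₄, hQ₄', hp₄, hf₄⟩ := hg ⟨3, by omega⟩
  have hne : ∀ a b : ℕ, a ≠ b → ∀ (ha : a < t) (hb : b < t), (⟨a, ha⟩ : Fin t) ≠ ⟨b, hb⟩ := by
    intro a b hab ha hb h
    exact hab (Fin.mk.inj_iff.mp h)
  exact not_maximal_of_frames hD.decomp H (two_ne_zero' hq) hc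
    (hne 0 1 (by omega) _ _) (hne 0 2 (by omega) _ _) (hne 0 3 (by omega) _ _)
    (hne 1 2 (by omega) _ _) (hne 1 3 (by omega) _ _) (hne 2 3 (by omega) _ _)
    ⟨hv₁, hQ₁, hf₁⟩ ⟨hv₂, hQ₂, hf₂⟩ ⟨hv₃, hQ₃, hf₃⟩ ⟨hv₄, hQ₄, hf₄⟩ hv₁' hQ₁' hp₁

end final

end Cfsg.Agent.Lib.Helper5.OrthFrameThree
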