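import Mathlib
import Cfsg.Prelude
import Cfsg.Agent.Lib.Helper5.OrthFrameThree

set_option autoImplicit false
set_option linter.unusedSectionVars false
set_option linter.unusedVariables false
open Cfsg

/-! Siegel transformations and the set of block vectors of a fixed norm of an orthogonal
decomposition. -/

namespace Cfsg.Agent.Lib.Helper5.OrthDecompSiegel

open Matrix QuadraticMap Module Cfsg.Agent.Lib.Helper5.CartanDieudonne Cfsg.Agent.Lib.Helper5.Refl
  Cfsg.Agent.Lib.Helper5.Siegel Cfsg.Agent.Lib.Helper5.QuadIsom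
  Cfsg.Agent.Lib.Helper5.ReflGen Cfsg.Agent.Lib.Helper5.OmegaSimple
  Cfsg.Agent.Lib.Helper5.SpSingularMax Cfsg.Agent.Lib.Helper5.OrthSingularMax
  Cfsg.Agent.Lib.Helper5.SpinorNorm Cfsg.Agent.Lib.Helper5.OrthFrameThree

variable {ι : Type} [Fintype ι] [DecidableEq ι] {F : Type*} [Field F] [Fintype F]
  {Q : QuadraticForm F (ι → F)} {t k : ℕ} {D : Fin t → Submodule F (ι → F)}

theorem siegel_mem_omegaGL (H : Hyp Q) (u v : ι → F) (hu : Q u = 0) (hv : Q v = 0)
    (huv : polar ⇑Q u v = 0) (c : F) :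
    ((siegel Q u v hu hv huv c : ↥(isometryGroup F ⇑Q)) : Matrix.GeneralLinearGroup ι F) ∈
      Cfsg.Geo.omegaGL ⇑Q := by
  rw [mem_omegaGL_iff]
  exact ⟨_, H.siegel_mem u v hu hv huv c, rfl⟩

theorem siegel_mulVec (u v : ι → F) (hu : Q u = 0) (hv : Q v = 0)
    (huv : polar ⇑Q u v = 0) (c : F) (x : ι → F) :
    (((siegel Q u v hu hv huv c : ↥(isometryGroup F ⇑Q)) : Matrix.GeneralLinearGroup ι F) :
      Matrix ι ι F) *ᵥ x = x + (c * polar ⇑Q u x) • v - (c * polar ⇑Q v x) • u :=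
  act_siegel Q u v hu hv huv c x

section blocks
variable (hD : Cfsg.Geo.IsNondegenerateMDecomposition (polar ⇑Q) k D)

include hD in
/-- a vector with a non-zero component in a block and a non-zero component orthogonal to that
block lies in no block -/
theorem not_mem_block {i : Fin t} {a b : ι → F} (ha : a ∈ D i) (ha0 : a ≠ 0) (hb0 : b ≠ 0)
    (hb : ∀ y ∈ D i, polar ⇑Q b y = 0) (j : Fin t) : a + b ∉ D j := by
  intro hmem
  by_cases hji : j = i
  · subst hji
    have hbm : b ∈ D j := by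
      have : b = (a + b) - a := by abel
      rw [this]
      exact Submodule.sub_mem _ hmem ha
    obtain ⟨y, hy, hby⟩ := (hD.nondegenerate j b hbm hb0).2
    exact hby (hb y hy)
  · obtain ⟨y, hy, hay⟩ := (hD.nondegenerate i a ha ha0).2
    apply hay
    have h1 := orth' hD hji hmem hy
    rw [polar_add_left, hb y hy, add_zero] at h1
    exact h1

include hD in
/-- the group of the set of block vectors of norm `c` is a proper subgroup of `Ω` -/
theorem mid_ne_omega (H : Hyp Q) {c : F} {i j : Fin t} (hij : i ≠ j) {e e' w : ι → F}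
    (he : e ∈ D i) (hQe : Q e = 0) (he' : e' ∈ D j) (hQe' : Q e' = 0) (he'0 : e' ≠ 0)
    (hw : w ∈ D i) (hQw : Q w = c) (hc : c ≠ 0) (hew : polar ⇑Q e w ≠ 0) :
    midGroup Q D c ≠ Cfsg.Geo.omegaGL ⇑Q := by
  intro heq
  have hee' : polar ⇑Q e e' = 0 := orth' hD hij he he'
  have hmem := siegel_mem_omegaGL H e e' hQe hQe' hee' 1
  rw [← heq] at hmem
  have h1 := (hmem.2 w).mpr ⟨i, hw, hQw⟩
  rw [siegel_mulVec, orth' hD hij.symm he' hw, mul_zero, zero_smul, sub_zero, one_mul] at h1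
  obtain ⟨l, hl, -⟩ := h1
  have hw0 : w ≠ 0 := by
    rintro rfl
    rw [map_zero] at hQw
    exact hc hQw.symm
  refine not_mem_block hD hw hw0 (smul_ne_zero hew he'0) ?_ l hl
  intro y hy
  rw [polar_smul_left, orth' hD hij.symm he' hy, smul_zero]

/-- a Siegel transformation whose two vectors are orthogonal to all block vectors of norm `c`
preserves the set of these vectors -/
theorem siegel_mem_mid (H : Hyp Q) {c : F} {u v : ι → F} (hu : Q u = 0) (hv : Q v = 0)
    (huv : polar ⇑Q u v = 0)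
    (hfix : ∀ w ∈ S Q D c, polar ⇑Q u w = 0 ∧ polar ⇑Q v w = 0) :
    ((siegel Q u v hu hv huv 1 : ↥(isometryGroup F ⇑Q)) : Matrix.GeneralLinearGroup ι F) ∈
      midGroup Q D c := by
  refine ⟨siegel_mem_omegaGL H u v hu hv huv 1, fun w => ?_⟩
  have hfix' : ∀ w ∈ S Q D c, ∀ a : F,
      (((siegel Q u v hu hv huv a : ↥(isometryGroup F ⇑Q)) : Matrix.GeneralLinearGroup ι F) :
        Matrix ι ι F) *ᵥ w = w := by
    intro w hw a
    rw [siegel_mulVec, (hfix w hw).1, (hfix w hw).2, mul_zero, zero_smul, zero_smul, add_zero,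
      sub_zero]
  constructor
  · intro h
    have h1 := hfix' _ h (-1)
    rw [Matrix.mulVec_mulVec, ← Units.val_mul, ← Subgroup.coe_mul, siegel_mul_siegel] at h1
    have h2 : (-1 : F) + 1 = 0 := by ring
    rw [h2] at h1
    have h3 : (((siegel Q u v hu hv huv 0 : ↥(isometryGroup F ⇑Q)) :
        Matrix.GeneralLinearGroup ι F) : Matrix ι ι F) *ᵥ w = w := by
      rw [siegel_mulVec]; simp
    rw [h3] at h1
    rw [h1]; exact h
  · intro h
    rw [hfix' w h 1]; exact h

theorem not_stab_of_image (g : Matrix.GeneralLinearGroup ι F) {i : Fin t} {y : ι → F}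
    (hy : y ∈ D i) (h : ∀ j, (g : Matrix ι ι F) *ᵥ y ∉ D j) :
    g ∉ Cfsg.Geo.decompositionStabilizer D := by
  rintro ⟨σ, hσ⟩
  apply h (σ i)
  rw [← hσ i]
  exact ⟨y, hy, by rw [Matrix.toLin'_apply]⟩

include hD in
/-- a Siegel transformation fixing all block vectors of norm `c` and moving a block gives an
intermediate subgroup -/
theorem not_maximal_of_siegel (H : Hyp Q) {c : F} (hc : c ≠ 0) {u v : ι → F} (hu : Q u = 0)
    (hv : Q v = 0) (huv : polar ⇑Q u v = 0)
    (hfix : ∀ w ∈ S Q D c, polar ⇑Q u w = 0 ∧ polar ⇑Q v w = 0)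
    {i₀ : Fin t} {y : ι → F} (hy : y ∈ D i₀) (hy0 : y ≠ 0) (huy : polar ⇑Q u y ≠ 0)
    (hvy : ∀ y' ∈ D i₀, polar ⇑Q v y' = 0) (hv0 : v ≠ 0)
    {i j : Fin t} (hij : i ≠ j) {e e' w : ι → F}
    (he : e ∈ D i) (hQe : Q e = 0) (he' : e' ∈ D j) (hQe' : Q e' = 0) (he'0 : e' ≠ 0)
    (hw : w ∈ D i) (hQw : Q w = c) (hew : polar ⇑Q e w ≠ 0) :
    ∃ K : Subgroup (Matrix.GeneralLinearGroup ι F),
      Cfsg.Geo.decompositionStabilizer D ⊓ Cfsg.Geo.omegaGL ⇑Q < K ∧
        K < Cfsg.Geo.omegaGL ⇑Q := by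
  refine ⟨midGroup Q D c, lt_of_le_of_ne (stab_le_mid c) ?_,
    lt_of_le_of_ne (fun g hg => hg.1) (mid_ne_omega hD H hij he hQe he' hQe' he'0 hw hQw hc hew)⟩
  intro heq
  have hmem := siegel_mem_mid (D := D) H hu hv huv hfix
  rw [← heq] at hmem
  refine not_stab_of_image _ hy ?_ (Subgroup.mem_inf.mp hmem).1
  intro l
  rw [siegel_mulVec, hvy y hy, mul_zero, zero_smul, sub_zero, one_mul]
  refine not_mem_block hD hy hy0 (smul_ne_zero huy hv0) ?_ l
  intro y' hy'
  rw [polar_smul_left, hvy y' hy', smul_zero]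

end blocks

end Cfsg.Agent.Lib.Helper5.OrthDecompSiegel
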