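import Mathlib
import Cfsg.Prelude
import Cfsg.Agent.Lib.Helper5.OrthNondegMax
import Cfsg.Agent.Lib.Helper5.OmegaTrans
import Cfsg.Agent.Lib.Helper5.OrthPlusPlane

set_option autoImplicit false
set_option linter.unusedSectionVars false
set_option linter.unusedVariables false
open Cfsg

/-! If an isometry maps a non-degenerate subspace `W` into its orthogonal complement, then
`W ⊕ gW` contains a totally singular subspace of dimension `2k` whenever `2k ≤ dim W`. -/

namespace Cfsg.Agent.Lib.Helper5.OrthHalfIsom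

open Matrix QuadraticMap Module Cfsg.Agent.Lib.Helper5.CartanDieudonne Cfsg.Agent.Lib.Helper5.Refl
  Cfsg.Agent.Lib.Helper5.Siegel Cfsg.Agent.Lib.Helper5.QuadIsom
  Cfsg.Agent.Lib.Helper5.ReflGen Cfsg.Agent.Lib.Helper5.SingGeom
  Cfsg.Agent.Lib.Helper5.MaxTS Cfsg.Agent.Lib.Helper5.OrthPairMax

variable {ι : Type} [Fintype ι] [DecidableEq ι] {F : Type*} [Field F] [Fintype F]
  (Q : QuadraticForm F (ι → F))

/-- `W` is non-degenerate -/
def ND (W : Submodule F (ι → F)) : Prop := ∀ w ∈ W, (∀ w' ∈ W, polar ⇑Q w w' = 0) → w = 0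

/-- `W` and `gW` are orthogonal -/
def Perp (g : ↥(isometryGroup F ⇑Q)) (W : Submodule F (ι → F)) : Prop :=
  ∀ w ∈ W, ∀ w' ∈ W, polar ⇑Q w (act Q g w') = 0

omit [Fintype ι] [DecidableEq ι] [Fintype F] in
theorem quad_lin2 (p p' : ι → F) (s t : F) :
    Q (s • p + t • p') = s * s * Q p + t * t * Q p' + s * t * polar ⇑Q p p' := by
  rw [QuadIsom.quad_add_smul, QuadraticMap.map_smul, polar_smul_left, smul_eq_mul, smul_eq_mul]
  ring

variable {Q}

theorem inter_zero {g : ↥(isometryGroup F ⇑Q)} {W : Submodule F (ι → F)} (hW : ND Q W)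
    (hg : Perp Q g W) {z w' : ι → F} (hz : z ∈ W) (hw' : w' ∈ W) (h : z = act Q g w') :
    z = 0 := by
  apply hW z hz
  intro w hw
  rw [polar_comm, h]
  exact hg w hw w' hw'

theorem act_ne_zero (g : ↥(isometryGroup F ⇑Q)) {x : ι → F} (hx : x ≠ 0) : act Q g x ≠ 0 :=
  fun h => hx (OrthNondegMax.act_eq_zero g h)

/-- the case of an anisotropic plane -/
theorem plane_case (g : ↥(isometryGroup F ⇑Q)) (W : Submodule F (ι → F))
    (hdim : finrank F W = 2) (hW : ND Q W) (hg : Perp Q g W)
    (hns : ∀ w ∈ W, Q w = 0 → w = 0) :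
    ∃ U : Submodule F (ι → F), (∀ u ∈ U, Q u = 0) ∧ finrank F U = 2 ∧
      ∀ u ∈ U, ∃ w ∈ W, ∃ w' ∈ W, u = w + act Q g w' := by
  have hW0 : W ≠ ⊥ := by
    intro h0
    rw [h0, finrank_bot] at hdim
    omega
  obtain ⟨p₁, hp₁, hp₁0⟩ := (Submodule.ne_bot_iff W).1 hW0
  have hα : Q p₁ ≠ 0 := fun h0 => hp₁0 (hns p₁ hp₁ h0)
  have hnle : ¬ W ≤ Submodule.span F ({p₁} : Set (ι → F)) := by
    intro hle
    have h1 := Submodule.finrank_mono hle
    have h3 : finrank F (Submodule.span F ({p₁} : Set (ι → F))) ≤ 1 := by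
      have := finrank_span_le_card (R := F) ({p₁} : Set (ι → F))
      simpa using this
    omega
  obtain ⟨p₂, hp₂, hp₂n⟩ := SetLike.not_le_iff_exists.mp hnle
  have hli : LinearIndependent F ![p₁, p₂] := by
    rw [LinearIndependent.pair_iff]
    intro s t hst
    have ht : t = 0 := by
      by_contra ht
      apply hp₂n
      rw [Submodule.mem_span_singleton]
      refine ⟨-(t⁻¹ * s), ?_⟩
      have h4 : t • p₂ = -(s • p₁) := by
        rw [eq_neg_iff_add_eq_zero, add_comm]; exact hst
      have h5 : p₂ = t⁻¹ • (t • p₂) := by rw [smul_smul, inv_mul_cancel₀ ht, one_smul]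
      rw [h5, h4, smul_neg, smul_smul, neg_smul]
    rw [ht, zero_smul, add_zero] at hst
    rcases smul_eq_zero.mp hst with h4 | h4
    · exact ⟨h4, ht⟩
    · exact absurd h4 hp₁0
  have hspan : Submodule.span F ({p₁, p₂} : Set (ι → F)) = W := by
    apply Submodule.eq_of_le_of_finrank_eq (span_pair_le hp₁ hp₂)
    rw [OrthPlusPlane.finrank_span_pair_eq p₁ p₂ hli, hdim]
  have hWW : W ⊓ MaxTS.orth Q W = ⊥ := by
    rw [eq_bot_iff]
    rintro z ⟨hz1, hz2⟩
    rw [Submodule.mem_bot]
    apply hW z hz1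
    intro w hw
    rw [polar_comm]
    exact (mem_orth Q W z).mp hz2 w hw
  obtain ⟨u, huW, hQu⟩ := OmegaTrans.exists_quad_eq_in Q W hWW (by omega) (-(Q p₁))
    (neg_ne_zero.mpr hα)
  have hu' := huW
  rw [← hspan] at hu'
  obtain ⟨s, t, hst⟩ := Submodule.mem_span_pair.mp hu'
  obtain ⟨α, hαdef⟩ : ∃ α, α = Q p₁ := ⟨_, rfl⟩
  obtain ⟨γ, hγdef⟩ : ∃ γ, γ = Q p₂ := ⟨_, rfl⟩
  obtain ⟨β, hβdef⟩ : ∃ β, β = polar ⇑Q p₁ p₂ := ⟨_, rfl⟩
  have hβ' : polar ⇑Q p₂ p₁ = β := by rw [polar_comm, hβdef]
  have h11 : polar ⇑Q p₁ p₁ = 2 * α := by rw [polar_self, hαdef, two_smul]; ring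
  have h22 : polar ⇑Q p₂ p₂ = 2 * γ := by rw [polar_self, hγdef, two_smul]; ring
  have hN : s * s * α + t * t * γ + s * t * β = -α := by
    rw [hαdef, hγdef, hβdef, ← quad_lin2, hst, hQu]
  obtain ⟨u', hu'def⟩ : ∃ u', u' = (-(γ * t)) • p₁ + (α * s + β * t) • p₂ := ⟨_, rfl⟩
  have hu'W : u' ∈ W := by
    rw [hu'def]
    exact W.add_mem (W.smul_mem _ hp₁) (W.smul_mem _ hp₂)
  have hQu' : Q u' = -(α * α * γ) := by
    rw [hu'def, quad_lin2, ← hαdef, ← hγdef, ← hβdef]
    linear_combination (α * γ) * hN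
  have huu' : polar ⇑Q u u' = -(α * β) := by
    rw [← hst, hu'def]
    simp only [polar_add_left, polar_add_right, polar_smul_left, polar_smul_right, h11, h22,
      hβ', ← hβdef, smul_eq_mul]
    linear_combination β * hN
  obtain ⟨v₁, hv₁def⟩ : ∃ v₁, v₁ = α • p₁ + act Q g (α • u) := ⟨_, rfl⟩
  obtain ⟨v₂, hv₂def⟩ : ∃ v₂, v₂ = α • p₂ + act Q g u' := ⟨_, rfl⟩
  have hQv₁ : Q v₁ = 0 := by
    rw [hv₁def, quad_add', quad_act, QuadraticMap.map_smul, QuadraticMap.map_smul, hQu,
      hg _ (W.smul_mem _ hp₁) _ (W.smul_mem _ huW), ← hαdef]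
    simp only [smul_eq_mul]
    ring
  have hQv₂ : Q v₂ = 0 := by
    rw [hv₂def, quad_add', quad_act, QuadraticMap.map_smul, hQu',
      hg _ (W.smul_mem _ hp₂) _ hu'W, ← hγdef]
    simp only [smul_eq_mul]
    ring
  have hv₁₂ : polar ⇑Q v₁ v₂ = 0 := by
    rw [hv₁def, hv₂def, polar_add_left, polar_add_right, polar_add_right, polar_act,
      hg _ (W.smul_mem _ hp₁) _ hu'W, polar_comm ⇑Q (act Q g (α • u)) (α • p₂),
      hg _ (W.smul_mem _ hp₂) _ (W.smul_mem _ huW), polar_smul_left, polar_smul_right,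
      polar_smul_left, huu', ← hβdef]
    simp only [smul_eq_mul]
    ring
  have hmem : ∀ x y : F, x • v₁ + y • v₂ =
      α • (x • p₁ + y • p₂) + act Q g (x • α • u + y • u') := by
    intro x y
    rw [hv₁def, hv₂def, act_add, act_smul, act_smul, act_smul, act_smul]
    module
  have hinW : ∀ x y : F, x • α • u + y • u' ∈ W := fun x y =>
    W.add_mem (W.smul_mem _ (W.smul_mem _ huW)) (W.smul_mem _ hu'W)
  have hliv : LinearIndependent F ![v₁, v₂] := by
    rw [LinearIndependent.pair_iff]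
    intro x y hxy
    rw [hmem] at hxy
    have h1 : α • (x • p₁ + y • p₂) = act Q g (-(x • α • u + y • u')) := by
      rw [act_neg, eq_neg_iff_add_eq_zero]; exact hxy
    have h2 := inter_zero hW hg
      (W.smul_mem _ (W.add_mem (W.smul_mem _ hp₁) (W.smul_mem _ hp₂))) (W.neg_mem (hinW x y)) h1
    have hα' : α ≠ 0 := by rw [hαdef]; exact hα
    have h3 : x • p₁ + y • p₂ = 0 := by
      rcases smul_eq_zero.mp h2 with h4 | h4
      · exact absurd h4 hα'
      · exact h4
    exact (LinearIndependent.pair_iff.mp hli) x y h3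
  refine ⟨Submodule.span F ({v₁, v₂} : Set (ι → F)), ?_, ?_, ?_⟩
  · intro z hz
    obtain ⟨x, y, rfl⟩ := Submodule.mem_span_pair.mp hz
    rw [quad_lin2, hQv₁, hQv₂, hv₁₂]
    ring
  · exact OrthPlusPlane.finrank_span_pair_eq v₁ v₂ hliv
  · intro z hz
    obtain ⟨x, y, rfl⟩ := Submodule.mem_span_pair.mp hz
    exact ⟨_, W.smul_mem _ (W.add_mem (W.smul_mem _ hp₁) (W.smul_mem _ hp₂)), _, hinW x y,
      hmem x y⟩

/-- the totally singular subspace of `W ⊕ gW` -/
theorem exists_ts (hQ : (polarBilin Q).Nondegenerate) (g : ↥(isometryGroup F ⇑Q)) :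
    ∀ (k : ℕ) (W : Submodule F (ι → F)), 2 * k ≤ finrank F W → ND Q W → Perp Q g W →
    ∃ U : Submodule F (ι → F), (∀ u ∈ U, Q u = 0) ∧ finrank F U = 2 * k ∧
      ∀ u ∈ U, ∃ w ∈ W, ∃ w' ∈ W, u = w + act Q g w' := by
  intro k
  induction k with
  | zero =>
    intro W _ _ _
    refine ⟨⊥, ?_, by simp, ?_⟩
    · intro u hu
      rw [Submodule.mem_bot] at hu
      rw [hu, map_zero]
    · intro u hu
      rw [Submodule.mem_bot] at hu
      refine ⟨0, W.zero_mem, 0, W.zero_mem, ?_⟩
      rw [hu, act, Matrix.mulVec_zero, add_zero]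
  | succ k ih =>
    intro W hdim hW hg
    by_cases hsing : ∃ e ∈ W, e ≠ 0 ∧ Q e = 0
    · obtain ⟨e, heW, he0, hQe⟩ := hsing
      have hz : ∃ z ∈ W, polar ⇑Q e z ≠ 0 := by
        by_contra hcon
        push Not at hcon
        exact he0 (hW e heW hcon)
      obtain ⟨z, hzW, hez⟩ := hz
      have hze : polar ⇑Q z e ≠ 0 := by rw [polar_comm]; exact hez
      obtain ⟨f, hfdef⟩ : ∃ f, f = (polar ⇑Q e z)⁻¹ • (z + (-(Q z) / polar ⇑Q z e) • e) :=
        ⟨_, rfl⟩
      have hfW : f ∈ W := by
        rw [hfdef]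
        exact W.smul_mem _ (W.add_mem hzW (W.smul_mem _ heW))
      have hQf : Q f = 0 := by
        rw [hfdef, QuadraticMap.map_smul, QuadIsom.quad_add_smul, hQe, mul_zero, add_zero,
          div_mul_cancel₀ _ hze]
        simp
      have hee : polar ⇑Q e e = 0 := polar_self_of_sing Q e hQe
      have hff : polar ⇑Q f f = 0 := polar_self_of_sing Q f hQf
      have hef : polar ⇑Q e f = 1 := by
        rw [hfdef, polar_smul_right, polar_add_right, polar_smul_right, hee,
          smul_zero, add_zero, smul_eq_mul, inv_mul_cancel₀ hez]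
      have hfe : polar ⇑Q f e = 1 := by rw [polar_comm]; exact hef
      obtain ⟨W₁, hW₁def⟩ : ∃ W₁, W₁ = W ⊓ MaxTS.orth Q (Submodule.span F ({e, f} : Set (ι → F))) :=
        ⟨_, rfl⟩
      have hW₁W : W₁ ≤ W := by rw [hW₁def]; exact inf_le_left
      have hW₁e : ∀ w ∈ W₁, polar ⇑Q e w = 0 := by
        intro w hw
        rw [hW₁def] at hw
        exact (mem_orth Q _ w).mp hw.2 e (Submodule.subset_span (by simp))
      have hW₁f : ∀ w ∈ W₁, polar ⇑Q f w = 0 := by
        intro w hw
        rw [hW₁def] at hw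
        exact (mem_orth Q _ w).mp hw.2 f (Submodule.subset_span (by simp))
      have hW₁dim : 2 * k ≤ finrank F W₁ := by
        have h1 := finrank_inf_orth hQ W (Submodule.span F ({e, f} : Set (ι → F)))
        have h2 := finrank_span_pair_le (F := F) e f
        rw [hW₁def]
        omega
      have hproj : ∀ w' ∈ W, w' - polar ⇑Q f w' • e - polar ⇑Q e w' • f ∈ W₁ := by
        intro w' hw'
        rw [hW₁def]
        refine ⟨W.sub_mem (W.sub_mem hw' (W.smul_mem _ heW)) (W.smul_mem _ hfW), ?_⟩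
        apply (mem_orth Q _ _).mpr
        intro v hv
        obtain ⟨a, b, rfl⟩ := Submodule.mem_span_pair.mp hv
        simp only [polar_add_left, polar_smul_left, polar_sub_right, polar_smul_right, hee, hff,
          hef, hfe, smul_eq_mul]
        ring
      have hW₁ : ND Q W₁ := by
        intro w hw hperp
        apply hW w (hW₁W hw)
        intro w' hw'
        have h1 := hperp _ (hproj w' hw')
        rw [polar_sub_right, polar_sub_right, polar_smul_right, polar_smul_right,
          polar_comm ⇑Q w e, polar_comm ⇑Q w f, hW₁e w hw, hW₁f w hw, smul_zero, smul_zero,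
          sub_zero, sub_zero] at h1
        exact h1
      have hg₁ : Perp Q g W₁ := fun w hw w' hw' => hg w (hW₁W hw) w' (hW₁W hw')
      obtain ⟨U₁, hU₁ts, hU₁dim, hU₁mem⟩ := ih W₁ hW₁dim hW₁ hg₁
      have hge0 : act Q g e ≠ 0 := act_ne_zero g he0
      have hQge : Q (act Q g e) = 0 := by rw [quad_act, hQe]
      have hege : polar ⇑Q e (act Q g e) = 0 := hg e heW e heW
      have hU₁e : ∀ u ∈ U₁, polar ⇑Q u e = 0 ∧ polar ⇑Q u (act Q g e) = 0 := by
        intro u hu
        obtain ⟨w, hw, w', hw', rfl⟩ := hU₁mem u hu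
        constructor
        · rw [polar_add_left, polar_comm ⇑Q w e, hW₁e w hw, polar_comm ⇑Q (act Q g w') e,
            hg e heW w' (hW₁W hw'), add_zero]
        · rw [polar_add_left, hg w (hW₁W hw) e heW, polar_act, polar_comm ⇑Q w' e, hW₁e w' hw',
            add_zero]
      have hliS : LinearIndependent F ![e, act Q g e] := by
        rw [LinearIndependent.pair_iff]
        intro a b hab
        have h1 : a • e = act Q g (-(b • e)) := by
          rw [act_neg, act_smul, eq_neg_iff_add_eq_zero]; exact hab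
        have h2 := inter_zero hW hg (W.smul_mem _ heW) (W.neg_mem (W.smul_mem _ heW)) h1
        have ha : a = 0 := by
          rcases smul_eq_zero.mp h2 with h3 | h3
          · exact h3
          · exact absurd h3 he0
        rw [ha, zero_smul, zero_add] at hab
        rcases smul_eq_zero.mp hab with h3 | h3
        · exact ⟨ha, h3⟩
        · exact absurd h3 hge0
      have hSdim := OrthPlusPlane.finrank_span_pair_eq e (act Q g e) hliS
      have hinf : U₁ ⊓ Submodule.span F ({e, act Q g e} : Set (ι → F)) = ⊥ := by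
        rw [eq_bot_iff]
        rintro z ⟨hz1, hz2⟩
        rw [Submodule.mem_bot]
        obtain ⟨a, b, hab⟩ := Submodule.mem_span_pair.mp hz2
        obtain ⟨w, hw, w', hw', hz⟩ := hU₁mem z hz1
        have h1 : a • e - w = act Q g (w' - b • e) := by
          rw [act_sub, act_smul]
          have : a • e + b • act Q g e = w + act Q g w' := by rw [hab, hz]
          rw [sub_eq_sub_iff_add_eq_add, add_comm (act Q g w') w, ← this]
        have h2 := inter_zero hW hg (W.sub_mem (W.smul_mem _ heW) (hW₁W hw))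
          (W.sub_mem (hW₁W hw') (W.smul_mem _ heW)) h1
        have ha : a = 0 := by
          have h3 := congrArg (fun v => polar ⇑Q f v) h2
          simp only [polar_sub_right, polar_smul_right, hfe, hW₁f w hw, polar_zero_right,
            smul_eq_mul, mul_one, sub_zero] at h3
          exact h3
        have h4 : w' - b • e = 0 := by
          rw [h2] at h1
          exact OrthNondegMax.act_eq_zero g h1.symm
        have hb : b = 0 := by
          have h3 := congrArg (fun v => polar ⇑Q f v) h4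
          simp only [polar_sub_right, polar_smul_right, hfe, hW₁f w' hw', polar_zero_right,
            smul_eq_mul, mul_one, zero_sub, neg_eq_zero] at h3
          exact h3
        rw [← hab, ha, hb, zero_smul, zero_smul, add_zero]
      refine ⟨U₁ ⊔ Submodule.span F ({e, act Q g e} : Set (ι → F)), ?_, ?_, ?_⟩
      · intro u hu
        obtain ⟨u₁, hu₁, s', hs', rfl⟩ := Submodule.mem_sup.mp hu
        obtain ⟨a, b, rfl⟩ := Submodule.mem_span_pair.mp hs'
        rw [quad_add', hU₁ts u₁ hu₁, quad_lin2, hQe, hQge, hege, polar_add_right,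
          polar_smul_right, polar_smul_right, (hU₁e u₁ hu₁).1, (hU₁e u₁ hu₁).2]
        simp
      · have h1 := Submodule.finrank_sup_add_finrank_inf_eq U₁
          (Submodule.span F ({e, act Q g e} : Set (ι → F)))
        rw [hinf, finrank_bot, hSdim, hU₁dim] at h1
        omega
      · intro u hu
        obtain ⟨u₁, hu₁, s', hs', rfl⟩ := Submodule.mem_sup.mp hu
        obtain ⟨a, b, rfl⟩ := Submodule.mem_span_pair.mp hs'
        obtain ⟨w, hw, w', hw', rfl⟩ := hU₁mem u₁ hu₁
        refine ⟨w + a • e, W.add_mem (hW₁W hw) (W.smul_mem _ heW), w' + b • e,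
          W.add_mem (hW₁W hw') (W.smul_mem _ heW), ?_⟩
        rw [act_add, act_smul]
        abel
    · push Not at hsing
      have h2 : finrank F W ≤ 2 := by
        by_contra hlt
        obtain ⟨e, heW, he0, hQe⟩ := exists_singular_in Q W (by omega)
        exact hsing e heW he0 hQe
      have hk : k = 0 := by omega
      subst hk
      refine plane_case g W (by omega) hW hg ?_
      intro w hw hQw
      by_contra h0
      exact hsing w hw h0 hQw

end Cfsg.Agent.Lib.Helper5.OrthHalfIsom
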