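import Mathlib
import Cfsg.Prelude
import Cfsg.Agent.Lib.Helper5.OrthNondegGen
import Cfsg.Agent.Lib.Helper5.OrthHalfIsom

set_option autoImplicit false
set_option linter.unusedSectionVars false
set_option linter.unusedVariables false
open Cfsg

/-! The stabiliser in `Ω(Q)` of a non-degenerate subspace is maximal (dimension at least 13). -/

namespace Cfsg.Agent.Lib.Helper5.OrthNondegSub

open Matrix QuadraticMap Module Cfsg.Agent.Lib.Helper5.CartanDieudonne Cfsg.Agent.Lib.Helper5.Refl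
  Cfsg.Agent.Lib.Helper5.Siegel Cfsg.Agent.Lib.Helper5.QuadIsom
  Cfsg.Agent.Lib.Helper5.ReflGen Cfsg.Agent.Lib.Helper5.SingGeom
  Cfsg.Agent.Lib.Helper5.OmegaSimple Cfsg.Agent.Lib.Helper5.MaxTS
  Cfsg.Agent.Lib.Helper5.OrthPairMax Cfsg.Agent.Lib.Helper5.OrthNondegMax
  Cfsg.Agent.Lib.Helper5.OrthNondegGen

variable {ι : Type} [Fintype ι] [DecidableEq ι] {F : Type*} [Field F] [Fintype F]
  {Q : QuadraticForm F (ι → F)}

theorem inf_orth_eq_bot {W : Submodule F (ι → F)}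
    (hW : Cfsg.Geo.IsNondegenerateOn (polar ⇑Q) W) : W ⊓ MaxTS.orth Q W = ⊥ := by
  rw [eq_bot_iff]
  rintro z ⟨hz1, hz2⟩
  rw [Submodule.mem_bot]
  by_contra hz0
  obtain ⟨x, hx, hxz⟩ := (hW z hz1 hz0).1
  exact hxz ((mem_orth Q W z).mp hz2 x hx)

theorem finrank_add_orth (hQ : (polarBilin Q).Nondegenerate) (W : Submodule F (ι → F)) :
    finrank F W + finrank F (MaxTS.orth Q W) = Fintype.card ι := by
  have h1 := finrank_orth Q hQ W
  have h2 : finrank F W ≤ finrank F (ι → F) := Submodule.finrank_le W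
  rw [Module.finrank_fintype_fun_eq_card] at h1 h2
  omega

/-- the orthogonal decomposition defined by a non-degenerate subspace -/
theorem oPair_of_nondeg (hQ : (polarBilin Q).Nondegenerate) {W : Submodule F (ι → F)}
    (hW : Cfsg.Geo.IsNondegenerateOn (polar ⇑Q) W) : OPair Q W (MaxTS.orth Q W) where
  orth a ha b hb := (mem_orth Q W b).mp hb a ha
  split z := by
    have h1 := Submodule.finrank_sup_add_finrank_inf_eq W (MaxTS.orth Q W)
    rw [inf_orth_eq_bot hW, finrank_bot, add_zero, finrank_add_orth hQ W] at h1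
    have h2 : W ⊔ MaxTS.orth Q W = ⊤ := by
      apply Submodule.eq_top_of_finrank_eq
      rw [h1, Module.finrank_fintype_fun_eq_card]
    exact Submodule.mem_sup.mp (h2 ▸ (Submodule.mem_top : z ∈ ⊤))

theorem nd_of_nondeg {W : Submodule F (ι → F)}
    (hW : Cfsg.Geo.IsNondegenerateOn (polar ⇑Q) W) : OrthHalfIsom.ND Q W := by
  intro w hw hperp
  by_contra hw0
  obtain ⟨x, hx, hwx⟩ := (hW w hw hw0).2
  exact hwx (hperp x hx)

/-- the plane condition -/
theorem plane_cond {A B : Submodule F (ι → F)} (h : OPair Q A B)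
    (hQ : (polarBilin Q).Nondegenerate)
    (hex : ¬ (Fintype.card F ≤ 3 ∧ finrank F A = 2 ∧ Cfsg.Geo.IsPlusTypeOn ⇑Q A))
    (hdim : finrank F A = 2) :
    ∀ x ∈ A, x ≠ 0 → ∃ b ∈ A, Q b ≠ 0 ∧ polar ⇑Q b x ≠ 0 ∧
      b ∉ Submodule.span F ({x} : Set (ι → F)) := by
  intro x hx hx0
  apply exists_refl_vec h hQ hdim _ hx hx0
  rintro ⟨hq, s, hsA, hs0, hQs⟩
  apply hex
  refine ⟨hq, hdim, Submodule.span F ({s} : Set (ι → F)), span_singleton_le hsA, ?_, ?_⟩
  · intro w hw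
    obtain ⟨c, rfl⟩ := Submodule.mem_span_singleton.mp hw
    rw [QuadraticMap.map_smul, hQs, smul_zero]
  · rw [finrank_span_singleton hs0, hdim]

/-- no isometry maps a subspace into a smaller one -/
theorem not_into_of_lt {A B : Submodule F (ι → F)} (hlt : finrank F B < finrank F A)
    (g : ↥(isometryGroup F ⇑Q)) : ¬ ∀ a ∈ A, act Q g a ∈ B := by
  intro hmap
  have hle' : A.map
      (Matrix.toLin' ((g : Matrix.GeneralLinearGroup ι F) : Matrix ι ι F)) ≤ B := by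
    rintro _ ⟨b, hb, rfl⟩
    rw [Matrix.toLin'_apply]
    exact hmap b hb
  have h6 := Submodule.finrank_mono hle'
  rw [← (Submodule.equivMapOfInjective _ (gl_injective (g : Matrix.GeneralLinearGroup ι F))
    _).finrank_eq] at h6
  omega

/-- The stabiliser of a non-degenerate subspace is maximal in `Ω(Q)`. -/
theorem main (H : Hyp Q) (hn : 13 ≤ Fintype.card ι) (W : Submodule F (ι → F)) (hW0 : W ≠ ⊥)
    (hW1 : W ≠ ⊤) (hW : Cfsg.Geo.IsNondegenerateOn (polar ⇑Q) W)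
    (hhalf : 2 * finrank F W = Fintype.card ι →
      Even (finrank F W) ∧ ¬ Cfsg.Geo.IsPlusTypeOn ⇑Q ⊤)
    (hexW : ¬ (Fintype.card F ≤ 3 ∧ finrank F W = 2 ∧ Cfsg.Geo.IsPlusTypeOn ⇑Q W))
    (hexW' : ¬ (Fintype.card F ≤ 3 ∧ finrank F (MaxTS.orth Q W) = 2 ∧
      Cfsg.Geo.IsPlusTypeOn ⇑Q (MaxTS.orth Q W))) :
    Cfsg.Geo.IsMaximalIn (Cfsg.Geo.omegaGL ⇑Q)
      (Cfsg.Geo.subspaceStabilizer W ⊓ Cfsg.Geo.omegaGL ⇑Q) := by
  have hQ := H.nondeg
  have h := oPair_of_nondeg hQ hW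
  have hsum := finrank_add_orth hQ W
  have hlt : finrank F W < Fintype.card ι := by
    have := Submodule.finrank_lt hW1
    rwa [Module.finrank_fintype_fun_eq_card] at this
  have hpos : 0 < finrank F W := by
    rw [Nat.pos_iff_ne_zero]
    intro h0
    exact hW0 (Submodule.finrank_eq_zero.mp h0)
  have hB0 : MaxTS.orth Q W ≠ ⊥ := by
    intro h0
    rw [h0, finrank_bot] at hsum
    omega
  by_cases hcmp : finrank F (MaxTS.orth Q W) ≤ finrank F W
  · refine isMaximalIn' H h (by omega) hB0 ?_ (plane_cond h.symm hQ hexW')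
    intro g hmap
    rcases Nat.lt_or_ge (finrank F (MaxTS.orth Q W)) (finrank F W) with h1 | h1
    · exact not_into_of_lt h1 g hmap
    · have heq : 2 * finrank F W = Fintype.card ι := by omega
      obtain ⟨⟨k, hk⟩, hminus⟩ := hhalf heq
      have hperp : OrthHalfIsom.Perp Q g W := by
        intro w hw w' hw'
        exact (mem_orth Q W _).mp (hmap w' hw') w hw
      obtain ⟨U, hUts, hUdim, -⟩ := OrthHalfIsom.exists_ts hQ g k W (by omega) (nd_of_nondeg hW)
        hperp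
      apply hminus
      refine ⟨U, le_top, hUts, ?_⟩
      rw [finrank_top, Module.finrank_fintype_fun_eq_card, hUdim]
      omega
  · push Not at hcmp
    rw [stab_inf_eq h hQ]
    exact isMaximalIn' H h.symm (by omega) hW0 (fun g => not_into_of_lt hcmp g)
      (plane_cond h hQ hexW)

/-- the orthogonal complement of a non-degenerate subspace is non-degenerate -/
theorem nondeg_orth (hQ : (polarBilin Q).Nondegenerate) {W : Submodule F (ι → F)}
    (hW : Cfsg.Geo.IsNondegenerateOn (polar ⇑Q) W) :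
    Cfsg.Geo.IsNondegenerateOn (polar ⇑Q) (MaxTS.orth Q W) := by
  have h := (oPair_of_nondeg hQ hW).symm
  intro w hw hw0
  have hnot : w ∉ (⊥ : Submodule F (ι → F)) := by
    rw [Submodule.mem_bot]; exact hw0
  obtain ⟨z, hz, hwz, -⟩ := h.dual_vec hQ ⊥ hw bot_le hnot
  exact ⟨⟨z, hz, by rw [polar_comm]; exact hwz⟩, ⟨z, hz, hwz⟩⟩

/-- the statement with the exceptional planes described as in the classification -/
theorem main' (H : Hyp Q) (hn : 13 ≤ Fintype.card ι) (W : Submodule F (ι → F)) (hW0 : W ≠ ⊥)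
    (hW1 : W ≠ ⊤) (hW : Cfsg.Geo.IsNondegenerateOn (polar ⇑Q) W)
    (hhalf : 2 * finrank F W = Fintype.card ι →
      Even (finrank F W) ∧ ¬ Cfsg.Geo.IsPlusTypeOn ⇑Q ⊤)
    (hex : ¬ (Fintype.card F ≤ 3 ∧ (∃ U : Submodule F (ι → F), finrank F U = 2 ∧
      Cfsg.Geo.IsNondegenerateOn (polar ⇑Q) U ∧ Cfsg.Geo.IsPlusTypeOn ⇑Q U ∧
      (U = W ∨ (Cfsg.Geo.AreOrthogonalFor (polar ⇑Q) U W ∧
        finrank F U + finrank F W = Fintype.card ι))))) :
    Cfsg.Geo.IsMaximalIn (Cfsg.Geo.omegaGL ⇑Q)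
      (Cfsg.Geo.subspaceStabilizer W ⊓ Cfsg.Geo.omegaGL ⇑Q) := by
  have hQ := H.nondeg
  apply main H hn W hW0 hW1 hW hhalf
  · rintro ⟨hq, hd, hp⟩
    exact hex ⟨hq, W, hd, hW, hp, Or.inl rfl⟩
  · rintro ⟨hq, hd, hp⟩
    refine hex ⟨hq, MaxTS.orth Q W, hd, nondeg_orth hQ hW, hp, Or.inr ⟨?_, ?_⟩⟩
    · intro u hu v hv
      rw [polar_comm]
      exact (mem_orth Q W u).mp hu v hv
    · rw [add_comm]
      exact finrank_add_orth hQ W

/-- the odd-dimensional case -/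
theorem main_odd (H : Hyp Q) (hn : 13 ≤ Fintype.card ι) (hodd : Odd (Fintype.card ι))
    (hq : Odd (Fintype.card F)) (W : Submodule F (ι → F)) (hW0 : W ≠ ⊥)
    (hev : Even (finrank F W)) (hW : Cfsg.Geo.IsNondegenerateOn (polar ⇑Q) W)
    (hex : ¬ (Fintype.card F = 3 ∧ finrank F W = 2 ∧ Cfsg.Geo.IsPlusTypeOn ⇑Q W)) :
    Cfsg.Geo.IsMaximalIn (Cfsg.Geo.omegaGL ⇑Q)
      (Cfsg.Geo.subspaceStabilizer W ⊓ Cfsg.Geo.omegaGL ⇑Q) := by
  have hQ := H.nondeg
  obtain ⟨k, hk⟩ := hev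
  obtain ⟨l, hl⟩ := hodd
  have hsum := finrank_add_orth hQ W
  apply main H hn W hW0 _ hW
  · intro h2
    omega
  · rintro ⟨hq3, hd, hp⟩
    apply hex
    refine ⟨?_, hd, hp⟩
    obtain ⟨r, hr⟩ := hq
    have h1 : 1 < Fintype.card F := Fintype.one_lt_card
    omega
  · rintro ⟨-, hd, -⟩
    omega
  · intro htop
    have h1 : finrank F W = Fintype.card ι := by
      rw [htop, finrank_top, Module.finrank_fintype_fun_eq_card]
    omega

end Cfsg.Agent.Lib.Helper5.OrthNondegSub
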