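import Mathlib
import Cfsg.Prelude
import Cfsg.Agent.Lib.Helper5.OrthFrameThree
import Cfsg.Agent.Lib.Helper5.OrthBridge
import Cfsg.Agent.Lib.Helper5.TensorFormSub

set_option autoImplicit false
set_option linter.unusedSectionVars false
set_option linter.unusedVariables false
open Cfsg

/-! Symmetric bilinear forms in dimension three over the field with three elements: the
canonical frame and its invariance under similitudes. -/

namespace Cfsg.Agent.Lib.Helper5.FrameThreeForm

open Matrix QuadraticMap Module Cfsg.Agent.Lib.Helper5.OrthFrameThree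
  Cfsg.Agent.Lib.Helper5.TensorFormSub

variable {F : Type*} [Field F] [Fintype F] {f : (Fin 3 → F) → (Fin 3 → F) → F}

theorem polar_eq (hf : Cfsg.Geo.IsSymmetricForm f) (x y : Fin 3 → F) :
    polar (fun v => f v v) x y = 2 * f x y := by
  unfold polar
  show f (x + y) (x + y) - f x x - f y y = 2 * f x y
  rw [hf.bilinear.add_left, hf.bilinear.add_right, hf.bilinear.add_right, hf.symm y x]
  ring

theorem isQuad (hf : Cfsg.Geo.IsSymmetricForm f) (h2 : (2 : F) ≠ 0) :
    Cfsg.Geo.IsNondegenerateQuadraticForm (fun v : Fin 3 → F => f v v) where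
  smul c v := by
    show f (c • v) (c • v) = c ^ 2 * f v v
    rw [hf.bilinear.smul_left, hf.bilinear.smul_right]; ring
  polar_bilinear := by
    have e : polar (fun v : Fin 3 → F => f v v) = fun x y => 2 * f x y := by
      funext x y; exact polar_eq hf x y
    rw [e]
    refine ⟨?_, ?_, ?_, ?_⟩
    · intro x y v; rw [hf.bilinear.add_left]; ring
    · intro c x v; rw [hf.bilinear.smul_left]; ring
    · intro v x y; rw [hf.bilinear.add_right]; ring
    · intro c v x; rw [hf.bilinear.smul_right]; ring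
  nondegenerate := by
    intro v hv
    obtain ⟨⟨x, hx⟩, ⟨y, hy⟩⟩ := hf.nondegenerate v hv
    exact ⟨⟨x, by rw [polar_eq hf]; exact mul_ne_zero h2 hx⟩,
      ⟨y, by rw [polar_eq hf]; exact mul_ne_zero h2 hy⟩⟩

/-- an orthogonal basis of constant norm -/
theorem exists_frame (hq : Fintype.card F = 3) (hf : Cfsg.Geo.IsSymmetricForm f) :
    ∃ c : F, c ≠ 0 ∧ ∃ v₀ v₁ v₂ : Fin 3 → F, f v₀ v₀ = c ∧ f v₁ v₁ = c ∧ f v₂ v₂ = c ∧
      f v₀ v₁ = 0 ∧ f v₀ v₂ = 0 ∧ f v₁ v₂ = 0 ∧
      ∀ w : Fin 3 → F, ∃ x y z : F, w = x • v₀ + y • v₁ + z • v₂ := by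
  have h2 := two_ne_zero' hq
  have h3z := three_eq_zero hq
  have hQ := isQuad hf h2
  have hfin : finrank F (⊤ : Submodule F (Fin 3 → F)) = 3 := by
    rw [finrank_top, Module.finrank_fintype_fun_eq_card, Fintype.card_fin]
  have hnd : Cfsg.Geo.IsNondegenerateOn
      (polar ⇑(Cfsg.Agent.Lib.Helper5.OrthBridge.toQF _ hQ)) (⊤ : Submodule F (Fin 3 → F)) := by
    intro w _ hw
    obtain ⟨⟨x, hx⟩, ⟨y, hy⟩⟩ := hQ.nondegenerate w hw
    exact ⟨⟨x, trivial, hx⟩, ⟨y, trivial, hy⟩⟩
  obtain ⟨b, -, horth, hne, hspan⟩ := exists_orth_basis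
    (Q := Cfsg.Agent.Lib.Helper5.OrthBridge.toQF _ hQ) h2 ⊤ hfin hnd
  have hspan' : ∀ w : Fin 3 → F, ∃ x y z : F, w = x • b 0 + y • b 1 + z • b 2 := by
    intro w
    obtain ⟨x, rfl⟩ := hspan w trivial
    exact ⟨x 0, x 1, x 2, by rw [Fin.sum_univ_three]⟩
  have horth' : ∀ i j, i ≠ j → f (b i) (b j) = 0 := by
    intro i j hij
    have := horth i j hij
    rw [Cfsg.Agent.Lib.Helper5.OrthBridge.coe_toQF, polar_eq hf] at this
    exact (mul_eq_zero.mp this).resolve_left h2
  have hne' : ∀ j, f (b j) (b j) ≠ 0 := hne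
  -- the general adjustment
  have adjust : ∀ u₁ u₂ u₃ : Fin 3 → F, f u₁ u₁ ≠ 0 → f u₃ u₃ ≠ 0 → f u₂ u₂ = f u₁ u₁ →
      f u₁ u₂ = 0 → f u₁ u₃ = 0 → f u₂ u₃ = 0 →
      (∀ w : Fin 3 → F, ∃ x y z : F, w = x • u₁ + y • u₂ + z • u₃) →
      ∃ c : F, c ≠ 0 ∧ ∃ v₀ v₁ v₂ : Fin 3 → F, f v₀ v₀ = c ∧ f v₁ v₁ = c ∧ f v₂ v₂ = c ∧
        f v₀ v₁ = 0 ∧ f v₀ v₂ = 0 ∧ f v₁ v₂ = 0 ∧
        ∀ w : Fin 3 → F, ∃ x y z : F, w = x • v₀ + y • v₁ + z • v₂ := by
    intro u₁ u₂ u₃ hQ1 hQ3 hQ12 h12 h13 h23 hsp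
    rcases eq_or_neg_of_ne_zero hq hQ1 hQ3 with h | h
    · exact ⟨f u₁ u₁, hQ1, u₁, u₂, u₃, rfl, hQ12, h, h12, h13, h23, hsp⟩
    · have h21 : f u₂ u₁ = 0 := by rw [hf.symm]; exact h12
      refine ⟨-f u₁ u₁, neg_ne_zero.mpr hQ1, u₁ + u₂, u₁ - u₂, u₃, ?_, ?_, h, ?_, ?_, ?_, ?_⟩
      · rw [hf.bilinear.add_left, hf.bilinear.add_right, hf.bilinear.add_right, h12, h21, hQ12]
        linear_combination (f u₁ u₁) * h3z
      · rw [sub_left hf.bilinear, sub_right hf.bilinear, sub_right hf.bilinear, h12, h21, hQ12]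
        linear_combination (f u₁ u₁) * h3z
      · rw [hf.bilinear.add_left, sub_right hf.bilinear, sub_right hf.bilinear, h12, h21, hQ12]
        ring
      · rw [hf.bilinear.add_left, h13, h23, add_zero]
      · rw [sub_left hf.bilinear, h13, h23, sub_zero]
      · intro w
        obtain ⟨x, y, z, rfl⟩ := hsp w
        refine ⟨-(x + y), -(x - y), z, ?_⟩
        have e1 : x • u₁ = (-(x + y)) • u₁ + (-(x - y)) • u₁ := by
          rw [← add_smul]
          congr 1
          linear_combination x * h3z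
        have e2 : y • u₂ = (-(x + y)) • u₂ - (-(x - y)) • u₂ := by
          rw [← sub_smul]
          congr 1
          linear_combination y * h3z
        rw [smul_add, smul_sub, e1, e2]
        abel
  have h01 := horth' 0 1 (by decide)
  have h02 := horth' 0 2 (by decide)
  have h12 := horth' 1 2 (by decide)
  have h10 := horth' 1 0 (by decide)
  have h20 := horth' 2 0 (by decide)
  have h21 := horth' 2 1 (by decide)
  by_cases hA : f (b 1) (b 1) = f (b 0) (b 0)
  · exact adjust (b 0) (b 1) (b 2) (hne' 0) (hne' 2) hA h01 h02 h12 hspan'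
  · by_cases hB : f (b 2) (b 2) = f (b 0) (b 0)
    · refine adjust (b 0) (b 2) (b 1) (hne' 0) (hne' 1) hB h02 h01 h21 ?_
      intro w
      obtain ⟨x, y, z, rfl⟩ := hspan' w
      exact ⟨x, z, y, by abel⟩
    · have hC : f (b 2) (b 2) = f (b 1) (b 1) := by
        rcases eq_or_neg_of_ne_zero hq (hne' 0) (hne' 1) with h | h
        · exact absurd h hA
        · rcases eq_or_neg_of_ne_zero hq (hne' 0) (hne' 2) with h' | h'
          · exact absurd h' hB
          · rw [h, h']
      refine adjust (b 1) (b 2) (b 0) (hne' 1) (hne' 0) hC h12 h10 h20 ?_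
      intro w
      obtain ⟨x, y, z, rfl⟩ := hspan' w
      exact ⟨y, z, x, by abel⟩


/-- frame data -/
structure IsFrame (f : (Fin 3 → F) → (Fin 3 → F) → F) (c : F) (v : Fin 3 → (Fin 3 → F)) :
    Prop where
  c_ne : c ≠ 0
  gram : ∀ i j, f (v i) (v j) = if i = j then c else 0
  span : ∀ w : Fin 3 → F, ∃ x : Fin 3 → F, w = ∑ j, x j • v j

theorem exists_isFrame (hq : Fintype.card F = 3) (hf : Cfsg.Geo.IsSymmetricForm f) :
    ∃ (c : F) (v : Fin 3 → (Fin 3 → F)), IsFrame f c v := by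
  obtain ⟨c, hc, v₀, v₁, v₂, h00, h11, h22, h01, h02, h12, hsp⟩ := exists_frame hq hf
  refine ⟨c, ![v₀, v₁, v₂], hc, ?_, ?_⟩
  · intro i j
    fin_cases i <;> fin_cases j <;> simp <;>
      first | assumption | (rw [hf.symm]; assumption)
  · intro w
    obtain ⟨x, y, z, rfl⟩ := hsp w
    exact ⟨![x, y, z], by rw [Fin.sum_univ_three]; simp⟩

variable {c : F} {v : Fin 3 → (Fin 3 → F)}

theorem IsFrame.form_sum (h : IsFrame f c v) (hb : Cfsg.Geo.IsBilinearForm f) (x y : Fin 3 → F) :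
    f (∑ i, x i • v i) (∑ j, y j • v j) = c * ∑ i, x i * y i := by
  rw [sum_left hb, Finset.mul_sum]
  refine Finset.sum_congr rfl fun i _ => ?_
  rw [hb.smul_left, sum_right hb]
  have : ∀ j ∈ Finset.univ, f (v i) (y j • v j) = if i = j then y j * c else 0 := by
    intro j _
    rw [hb.smul_right, h.gram]
    split_ifs <;> simp
  rw [Finset.sum_congr rfl this, Finset.sum_ite_eq, if_pos (Finset.mem_univ i)]
  ring

theorem IsFrame.ne_zero (h : IsFrame f c v) (hb : Cfsg.Geo.IsBilinearForm f) (j : Fin 3) :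
    v j ≠ 0 := by
  intro h0
  have := h.gram j j
  rw [if_pos rfl, h0, zero_left hb] at this
  exact h.c_ne this.symm

/-- the vectors of norm `c` are the frame vectors and their negatives -/
theorem IsFrame.norm_eq (h : IsFrame f c v) (hq : Fintype.card F = 3)
    (hb : Cfsg.Geo.IsBilinearForm f) (w : Fin 3 → F) (hw : f w w = c) :
    ∃ j, w = v j ∨ w = -v j := by
  obtain ⟨x, rfl⟩ := h.span w
  rw [h.form_sum hb, Fin.sum_univ_three] at hw
  have hsum : x 0 * x 0 + x 1 * x 1 + x 2 * x 2 = 1 := by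
    have : c * (x 0 * x 0 + x 1 * x 1 + x 2 * x 2) = c * 1 := by rw [hw, mul_one]
    exact mul_left_cancel₀ h.c_ne this
  rw [Fin.sum_univ_three]
  rcases sq_sum3 hq _ _ _ hsum with ⟨hx, h1, h2⟩ | ⟨h0, hx, h2⟩ | ⟨h0, h1, hx⟩
  · refine ⟨0, ?_⟩
    rw [h1, h2, zero_smul, zero_smul, add_zero, add_zero]
    rcases cases3 hq (x 0) with h' | h' | h'
    · exact absurd h' hx
    · left; rw [h', one_smul]
    · right; rw [h', neg_one_smul]
  · refine ⟨1, ?_⟩
    rw [h0, h2, zero_smul, zero_smul, add_zero, zero_add]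
    rcases cases3 hq (x 1) with h' | h' | h'
    · exact absurd h' hx
    · left; rw [h', one_smul]
    · right; rw [h', neg_one_smul]
  · refine ⟨2, ?_⟩
    rw [h0, h1, zero_smul, zero_smul, zero_add, zero_add]
    rcases cases3 hq (x 2) with h' | h' | h'
    · exact absurd h' hx
    · left; rw [h', one_smul]
    · right; rw [h', neg_one_smul]

/-- the form in terms of its Gram matrix -/
theorem form_eq_gram (hb : Cfsg.Geo.IsBilinearForm f) (x y : Fin 3 → F) :
    f x y = x ⬝ᵥ (Cfsg.Geo.gramMatrix f *ᵥ y) := by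
  rw [← formOfGram_gram hb]
  unfold Cfsg.Geo.formOfGram
  simp only [dotProduct, Matrix.mulVec, id, Finset.mul_sum]
  refine Finset.sum_congr rfl fun a _ => ?_
  refine Finset.sum_congr rfl fun b _ => ?_
  ring

theorem det_gram_ne_zero (hf : Cfsg.Geo.IsSymmetricForm f) :
    (Cfsg.Geo.gramMatrix f).det ≠ 0 := by
  intro h0
  obtain ⟨y, hy, hGy⟩ := Matrix.exists_mulVec_eq_zero_iff.mpr h0
  obtain ⟨⟨x, hx⟩, -⟩ := hf.nondegenerate y hy
  apply hx
  rw [form_eq_gram hf.bilinear, hGy, dotProduct_zero]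

/-- in odd dimension over the field of order three every similitude is an isometry -/
theorem mult_eq_one (hq : Fintype.card F = 3) (hf : Cfsg.Geo.IsSymmetricForm f)
    (a : Matrix (Fin 3) (Fin 3) F) (l : F) (hl : l ≠ 0)
    (ha : ∀ x y, f (a *ᵥ x) (a *ᵥ y) = l * f x y) : l = 1 := by
  have hmat : aᵀ * Cfsg.Geo.gramMatrix f * a = l • Cfsg.Geo.gramMatrix f := by
    ext i j
    have h1 := ha (Pi.single i 1) (Pi.single j 1)
    rw [form_eq_gram hf.bilinear, Matrix.mulVec_single_one, Matrix.mulVec_single_one] at h1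
    rw [Matrix.smul_apply, smul_eq_mul]
    show _ = l * f (Pi.single i 1) (Pi.single j 1)
    rw [← h1, Matrix.mul_assoc, Matrix.mul_apply]
    simp only [dotProduct, Matrix.mulVec, Matrix.col_apply, Matrix.transpose_apply,
      Matrix.mul_apply]
  have hdet := congrArg Matrix.det hmat
  rw [Matrix.det_mul, Matrix.det_mul, Matrix.det_transpose, Matrix.det_smul, Fintype.card_fin]
    at hdet
  have hG := det_gram_ne_zero hf
  have h2 : a.det * a.det = l ^ 3 := by
    apply mul_right_cancel₀ hG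
    linear_combination hdet
  have h3z := three_eq_zero hq
  rcases cases3 hq l with h | h | h
  · exact absurd h hl
  · exact h
  · exfalso
    rw [h] at h2
    have h10 : (1 : F) ≠ 0 := one_ne_zero
    rcases cases3 hq a.det with h' | h' | h' <;> rw [h'] at h2
    · apply h10; linear_combination h2
    · apply h10; linear_combination -h2 + h3z
    · apply h10; linear_combination -h2 + h3z

/-- similitudes permute the frame up to signs -/
theorem IsFrame.perm (h : IsFrame f c v) (hq : Fintype.card F = 3)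
    (hf : Cfsg.Geo.IsSymmetricForm f) (a : Matrix (Fin 3) (Fin 3) F) (l : F) (hl : l ≠ 0)
    (ha : ∀ x y, f (a *ᵥ x) (a *ᵥ y) = l * f x y) :
    ∃ σ : Equiv.Perm (Fin 3), ∀ j, a *ᵥ v j = v (σ j) ∨ a *ᵥ v j = -v (σ j) := by
  have hl1 := mult_eq_one hq hf a l hl ha
  rw [hl1] at ha
  have h1 : ∀ j, ∃ k, a *ᵥ v j = v k ∨ a *ᵥ v j = -v k := by
    intro j
    apply h.norm_eq hq hf.bilinear
    rw [ha, one_mul, h.gram, if_pos rfl]
  choose σ hσ using h1
  have hinj : Function.Injective σ := by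
    intro i j hij
    by_contra hne
    have h2 := ha (v i) (v j)
    rw [one_mul, h.gram, if_neg hne] at h2
    have hcc : f (v (σ j)) (v (σ j)) = c := by rw [h.gram, if_pos rfl]
    rcases hσ i with h3 | h3 <;> rcases hσ j with h4 | h4 <;> rw [h3, h4, hij] at h2
    · rw [hcc] at h2; exact h.c_ne h2
    · rw [neg_right hf.bilinear, hcc, neg_eq_zero] at h2; exact h.c_ne h2
    · rw [neg_left hf.bilinear, hcc, neg_eq_zero] at h2; exact h.c_ne h2
    · rw [neg_left hf.bilinear, neg_right hf.bilinear, neg_neg, hcc] at h2; exact h.c_ne h2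
  exact ⟨Equiv.ofBijective σ (Finite.injective_iff_bijective.mp hinj), hσ⟩

end Cfsg.Agent.Lib.Helper5.FrameThreeForm
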