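import Mathlib
import Cfsg.Prelude
import Cfsg.Agent.Lib.Helper5.FrameThreeForm

set_option autoImplicit false
set_option linter.unusedSectionVars false
set_option linter.unusedVariables false
open Cfsg

/-! A tensor decomposition whose first factor is a three-dimensional orthogonal space over the
field with three elements: the frame of the first factor gives an orthogonal decomposition
into three blocks, stabilised by the stabiliser of the tensor decomposition. -/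

namespace Cfsg.Agent.Lib.Helper5.TensorFrameDecomp

open Matrix Kronecker Cfsg.Agent.Lib.Helper5.TensorSub Cfsg.Agent.Lib.Helper5.TensorFormSub
  Cfsg.Agent.Lib.Helper5.FrameThreeForm

variable {F : Type*} [Field F] {n₂ : ℕ} {ι : Type} [Fintype ι] [DecidableEq ι]
  (e : ι ≃ Fin 3 × Fin n₂) (P : Matrix.GeneralLinearGroup ι F)

/-- the embedding as a linear map -/
def embL : (Fin 3 × Fin n₂ → F) →ₗ[F] (ι → F) where
  toFun := emb e P
  map_add' := emb_add e P
  map_smul' := emb_smul e P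

theorem embL_apply (x : Fin 3 × Fin n₂ → F) : embL e P x = emb e P x := rfl

/-- the block maps -/
def blockMap (w : Fin 3 → F) : (Fin n₂ → F) →ₗ[F] (ι → F) where
  toFun y := emb e P (pt w y)
  map_add' y y' := by rw [pt_add_right, emb_add]
  map_smul' c y := by rw [pt_smul_right, emb_smul]; rfl

theorem blockMap_apply (w : Fin 3 → F) (y : Fin n₂ → F) :
    blockMap e P w y = emb e P (pt w y) := rfl

theorem blockMap_injective {w : Fin 3 → F} (hw : w ≠ 0) :
    Function.Injective (blockMap e P w) := by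
  intro y y' h
  have h1 := emb_injective e P h
  obtain ⟨i, hi⟩ := Function.ne_iff.mp hw
  ext k
  have h2 := congrFun h1 (i, k)
  rw [pt_apply, pt_apply] at h2
  exact mul_left_cancel₀ hi h2

theorem blockMap_neg_left (w : Fin 3 → F) (y : Fin n₂ → F) :
    blockMap e P (-w) y = blockMap e P w (-y) := by
  rw [blockMap_apply, blockMap_apply, pt_neg_left, pt_neg_right]

/-- the blocks -/
def blocks (v : Fin 3 → (Fin 3 → F)) (j : Fin 3) : Submodule F (ι → F) :=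
  LinearMap.range (blockMap e P (v j))

theorem mem_blocks (v : Fin 3 → (Fin 3 → F)) (j : Fin 3) (y : Fin n₂ → F) :
    blockMap e P (v j) y ∈ blocks e P v j := ⟨y, rfl⟩

section form
variable [Fintype F] {f : (ι → F) → (ι → F) → F} {f₁ : (Fin 3 → F) → (Fin 3 → F) → F}
  {f₂ : (Fin n₂ → F) → (Fin n₂ → F) → F} (hfb : Cfsg.Geo.IsBilinearForm f)
  (hf₁ : Cfsg.Geo.IsSymmetricForm f₁) (hf₂ : Cfsg.Geo.IsBilinearForm f₂)
  (hnd₂ : Cfsg.Geo.IsNondegenerateForm f₂) {c : F} (hc0 : c ≠ 0)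
  (hc : ∀ x y : Fin 3 × Fin n₂ → F,
      f ((P : Matrix ι ι F) *ᵥ (x ∘ e)) ((P : Matrix ι ι F) *ᵥ (y ∘ e)) =
        c * Cfsg.Geo.formOfGram id (Cfsg.Geo.gramMatrix f₁ ⊗ₖ Cfsg.Geo.gramMatrix f₂) x y)
  {c₀ : F} {v : Fin 3 → (Fin 3 → F)} (hv : IsFrame f₁ c₀ v)

include hf₁ hf₂ hc in
theorem form_block (w w' : Fin 3 → F) (y y' : Fin n₂ → F) :
    f (blockMap e P w y) (blockMap e P w' y') = c * (f₁ w w' * f₂ y y') :=
  form_pt e P hf₁.bilinear hf₂ hc w w' y y'

include hf₁ hf₂ hc hv in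
theorem orth {i j : Fin 3} (hij : i ≠ j) {x y : ι → F} (hx : x ∈ blocks e P v i)
    (hy : y ∈ blocks e P v j) : f x y = 0 := by
  obtain ⟨x', rfl⟩ := hx
  obtain ⟨y', rfl⟩ := hy
  rw [form_block e P hf₁ hf₂ hc, hv.gram, if_neg hij, zero_mul, mul_zero]

include hf₁ hf₂ hnd₂ hc0 hc hv in
theorem nd (j : Fin 3) : Cfsg.Geo.IsNondegenerateOn f (blocks e P v j) := by
  rintro _ ⟨y, rfl⟩ hne
  have hy : y ≠ 0 := by
    rintro rfl
    exact hne (map_zero _)
  obtain ⟨⟨x, hx⟩, ⟨x', hx'⟩⟩ := hnd₂ y hy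
  refine ⟨⟨blockMap e P (v j) x, mem_blocks e P v j x, ?_⟩,
    ⟨blockMap e P (v j) x', mem_blocks e P v j x', ?_⟩⟩
  · rw [form_block e P hf₁ hf₂ hc, hv.gram, if_pos rfl]
    exact mul_ne_zero hc0 (mul_ne_zero hv.c_ne hx)
  · rw [form_block e P hf₁ hf₂ hc, hv.gram, if_pos rfl]
    exact mul_ne_zero hc0 (mul_ne_zero hv.c_ne hx')

include hf₁ hf₂ hnd₂ hc0 hc hv in
theorem inter_eq_zero {i j : Fin 3} (hij : i ≠ j) {x : ι → F} (hi : x ∈ blocks e P v i)
    (hj : x ∈ blocks e P v j) : x = 0 := by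
  by_contra hx
  obtain ⟨y, hy, hxy⟩ := (nd e P hf₁ hf₂ hnd₂ hc0 hc hv i x hi hx).2
  exact hxy (orth e P hf₁ hf₂ hc hv hij.symm hj hy)

include hfb hf₁ hf₂ hnd₂ hc0 hc hv in
theorem indep : iSupIndep (blocks e P v) := by
  intro i
  rw [disjoint_iff, eq_bot_iff]
  rintro x ⟨hxi, hxs⟩
  rw [Submodule.mem_bot]
  by_contra hx
  obtain ⟨y, hy, hxy⟩ := (nd e P hf₁ hf₂ hnd₂ hc0 hc hv i x hxi hx).1
  apply hxy
  -- the orthogonal of `y`
  let N : Submodule F (ι → F) :=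
    { carrier := {z | f y z = 0}
      add_mem' := fun {a b} ha hb => by
        show f y (a + b) = 0
        rw [hfb.add_right, ha, hb, add_zero]
      zero_mem' := zero_right hfb y
      smul_mem' := fun r a ha => by
        show f y (r • a) = 0
        rw [hfb.smul_right, ha, mul_zero] }
  have hle : (⨆ (j : Fin 3) (_ : j ≠ i), blocks e P v j) ≤ N := by
    refine iSup₂_le fun j hj => ?_
    intro z hz
    exact orth e P hf₁ hf₂ hc hv hj.symm hy hz
  exact hle hxs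

include hv in
theorem mem_iSup_pt (w : Fin 3 → F) (y : Fin n₂ → F) :
    emb e P (pt w y) ∈ ⨆ j, blocks e P v j := by
  obtain ⟨x, rfl⟩ := hv.span w
  rw [Fin.sum_univ_three, pt_add_left, pt_add_left, pt_smul_left, pt_smul_left, pt_smul_left,
    emb_add, emb_add, emb_smul, emb_smul, emb_smul]
  refine Submodule.add_mem _ (Submodule.add_mem _ ?_ ?_) ?_
  · exact Submodule.smul_mem _ _ (Submodule.mem_iSup_of_mem 0 (mem_blocks e P v 0 y))
  · exact Submodule.smul_mem _ _ (Submodule.mem_iSup_of_mem 1 (mem_blocks e P v 1 y))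
  · exact Submodule.smul_mem _ _ (Submodule.mem_iSup_of_mem 2 (mem_blocks e P v 2 y))

include hv in
theorem iSup_eq_top : (⨆ j, blocks e P v j) = ⊤ := by
  rw [eq_top_iff]
  intro u _
  obtain ⟨X, rfl⟩ := emb_surjective e P u
  rw [← embL_apply, pi_eq_sum_univ' X, map_sum]
  refine Submodule.sum_mem _ fun p _ => ?_
  rw [map_smul]
  refine Submodule.smul_mem _ _ ?_
  have : (Pi.single p 1 : Fin 3 × Fin n₂ → F) = pt (Pi.single p.1 1) (Pi.single p.2 1) := by
    ext ⟨a, b⟩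
    obtain ⟨p1, p2⟩ := p
    simp only [pt_apply, Pi.single_apply, Prod.mk.injEq]
    by_cases h1 : a = p1 <;> by_cases h2 : b = p2 <;> simp [h1, h2]
  rw [this, embL_apply]
  exact mem_iSup_pt e P hv _ _

include hf₁ hv in
theorem finrank_blocks (j : Fin 3) : Module.finrank F (blocks e P v j) = n₂ := by
  unfold blocks
  rw [LinearMap.finrank_range_of_inj (blockMap_injective e P (hv.ne_zero hf₁.bilinear j)),
    Module.finrank_fintype_fun_eq_card, Fintype.card_fin]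

include hfb hf₁ hf₂ hnd₂ hc0 hc hv in
theorem isMDecomp (hn₂ : 0 < n₂) : Cfsg.Geo.IsMDecomposition n₂ (blocks e P v) where
  two_le := by norm_num
  pos := hn₂
  finrank_eq := finrank_blocks e P hf₁ hv
  indep := indep e P hfb hf₁ hf₂ hnd₂ hc0 hc hv
  iSup_eq_top := iSup_eq_top e P hv

include hfb hf₁ hf₂ hnd₂ hc0 hc hv in
theorem isNondegDecomp (hn₂ : 0 < n₂) :
    Cfsg.Geo.IsNondegenerateMDecomposition f n₂ (blocks e P v) where
  decomp := isMDecomp e P hfb hf₁ hf₂ hnd₂ hc0 hc hv hn₂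
  nondegenerate := nd e P hf₁ hf₂ hnd₂ hc0 hc hv
  orthogonal := fun i j hij x hx y hy => orth e P hf₁ hf₂ hc hv hij hx hy

end form


section stab

theorem gl_injective (g : Matrix.GeneralLinearGroup ι F) :
    Function.Injective (Matrix.toLin' (g : Matrix ι ι F)) := by
  intro x y h
  rw [Matrix.toLin'_apply, Matrix.toLin'_apply] at h
  have h1 := congrArg (fun z => ((g⁻¹ : Matrix.GeneralLinearGroup ι F) : Matrix ι ι F) *ᵥ z) h
  simpa only [Matrix.mulVec_mulVec, ← Units.val_mul, inv_mul_cancel, Units.val_one,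
    Matrix.one_mulVec] using h1

/-- membership in the stabiliser of a decomposition -/
theorem stab_of_perm {t k : ℕ} {D : Fin t → Submodule F (ι → F)}
    (hfin : ∀ i, Module.finrank F (D i) = k) (g : Matrix.GeneralLinearGroup ι F)
    (σ : Equiv.Perm (Fin t))
    (h : ∀ i, ∀ x ∈ D i, (g : Matrix ι ι F) *ᵥ x ∈ D (σ i)) :
    g ∈ Cfsg.Geo.decompositionStabilizer D := by
  refine ⟨σ, fun i => ?_⟩
  apply Submodule.eq_of_le_of_finrank_eq
  · rintro _ ⟨x, hx, rfl⟩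
    rw [Matrix.toLin'_apply]
    exact h i x hx
  · rw [← (Submodule.equivMapOfInjective _ (gl_injective g) (D i)).finrank_eq, hfin, hfin]

variable [Fintype F] {f : (ι → F) → (ι → F) → F} {f₁ : (Fin 3 → F) → (Fin 3 → F) → F}
  {f₂ : (Fin n₂ → F) → (Fin n₂ → F) → F}
  (hf₁ : Cfsg.Geo.IsSymmetricForm f₁) (hf₂ : Cfsg.Geo.IsBilinearForm f₂)
  (hnd₂ : Cfsg.Geo.IsNondegenerateForm f₂)
  {c₀ : F} {v : Fin 3 → (Fin 3 → F)} (hv : IsFrame f₁ c₀ v)

include hf₁ hf₂ hnd₂ hv in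
/-- the stabiliser of the tensor decomposition stabilises the block decomposition -/
theorem tensor_le_stab (hq : Fintype.card F = 3) (hn₂ : 0 < n₂)
    (hT : Cfsg.Geo.IsTensorFormStructure id f f₁ f₂ e P)
    (g : Matrix.GeneralLinearGroup ι F) (hg : g ∈ Cfsg.Geo.tensorProductSubgroup 3 n₂ e P)
    (hgf : ∀ u w : ι → F, f ((g : Matrix ι ι F) *ᵥ u) ((g : Matrix ι ι F) *ᵥ w) = f u w) :
    g ∈ Cfsg.Geo.decompositionStabilizer (blocks e P v) := by
  obtain ⟨a, b, rfl⟩ := (mem_tensor e P g).mp hg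
  have hne₁ : ∃ x y, f₁ x y ≠ 0 := ⟨v 0, v 0, by rw [hv.gram, if_pos rfl]; exact hv.c_ne⟩
  have hne₂ : ∃ x y, f₂ x y ≠ 0 := by
    have h1 : (Pi.single (⟨0, hn₂⟩ : Fin n₂) (1 : F) : Fin n₂ → F) ≠ 0 := by
      intro h
      have := congrFun h ⟨0, hn₂⟩
      simp at this
    obtain ⟨⟨x, hx⟩, -⟩ := hnd₂ _ h1
    exact ⟨x, _, hx⟩
  obtain ⟨l, hl, ha, -⟩ := exists_mult e P hf₁.bilinear hf₂ hne₁ hne₂ hT a b hgf
  obtain ⟨σ, hσ⟩ := hv.perm hq hf₁ _ l hl ha
  refine stab_of_perm (finrank_blocks e P hf₁ hv) _ σ ?_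
  rintro i _ ⟨y, rfl⟩
  rw [blockMap_apply, Phi_kron_emb_pt]
  rcases hσ i with h | h
  · rw [h]
    exact mem_blocks e P v (σ i) _
  · rw [h, ← blockMap_apply, blockMap_neg_left]
    exact mem_blocks e P v (σ i) _

/-- an element of the tensor stabiliser fixing one block pointwise acts as a scalar on the
second factor of every other block it stabilises -/
theorem scalar_of_kron (hn₂ : 0 < n₂) (a : Matrix.GeneralLinearGroup (Fin 3) F)
    (b : Matrix.GeneralLinearGroup (Fin n₂) F) {w₁ w₀ : Fin 3 → F} (hw₁ : w₁ ≠ 0)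
    (hw₀ : w₀ ≠ 0) (ρ : (Fin n₂ → F) → (Fin n₂ → F))
    (h1 : ∀ y, ((Phi e P (kron a b) : Matrix.GeneralLinearGroup ι F) : Matrix ι ι F) *ᵥ
      blockMap e P w₁ y = blockMap e P w₁ y)
    (h0 : ∀ y, ((Phi e P (kron a b) : Matrix.GeneralLinearGroup ι F) : Matrix ι ι F) *ᵥ
      blockMap e P w₀ y = blockMap e P w₀ (ρ y)) :
    ∃ ν : F, ∀ y, ρ y = ν • y := by
  obtain ⟨i₁, hi₁⟩ := Function.ne_iff.mp hw₁
  obtain ⟨i₀, hi₀⟩ := Function.ne_iff.mp hw₀
  have e1 : ∀ y k, ((a : Matrix (Fin 3) (Fin 3) F) *ᵥ w₁) i₁ *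
      ((b : Matrix (Fin n₂) (Fin n₂) F) *ᵥ y) k = w₁ i₁ * y k := by
    intro y k
    have := h1 y
    rw [blockMap_apply, Phi_kron_emb_pt] at this
    exact congrFun (emb_injective e P this) (i₁, k)
  have hα : ((a : Matrix (Fin 3) (Fin 3) F) *ᵥ w₁) i₁ ≠ 0 := by
    intro h
    have := e1 (Pi.single ⟨0, hn₂⟩ 1) ⟨0, hn₂⟩
    rw [h, zero_mul, Pi.single_eq_same, mul_one] at this
    exact hi₁ this.symm
  have hb : ∀ y, (b : Matrix (Fin n₂) (Fin n₂) F) *ᵥ y =
      (w₁ i₁ / ((a : Matrix (Fin 3) (Fin 3) F) *ᵥ w₁) i₁) • y := by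
    intro y
    ext k
    rw [Pi.smul_apply, smul_eq_mul, div_mul_eq_mul_div, eq_div_iff hα, mul_comm]
    exact e1 y k
  have e0 : ∀ y k, ((a : Matrix (Fin 3) (Fin 3) F) *ᵥ w₀) i₀ *
      ((b : Matrix (Fin n₂) (Fin n₂) F) *ᵥ y) k = w₀ i₀ * ρ y k := by
    intro y k
    have := h0 y
    rw [blockMap_apply, blockMap_apply, Phi_kron_emb_pt] at this
    exact congrFun (emb_injective e P this) (i₀, k)
  refine ⟨((a : Matrix (Fin 3) (Fin 3) F) *ᵥ w₀) i₀ *
    (w₁ i₁ / ((a : Matrix (Fin 3) (Fin 3) F) *ᵥ w₁) i₁) / w₀ i₀, fun y => ?_⟩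
  ext k
  have := e0 y k
  rw [hb, Pi.smul_apply, smul_eq_mul] at this
  rw [Pi.smul_apply, smul_eq_mul, div_mul_eq_mul_div, eq_div_iff hi₀]
  linear_combination -this

end stab

end Cfsg.Agent.Lib.Helper5.TensorFrameDecomp
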