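import Mathlib
import Cfsg.Prelude
import Cfsg.Agent.Lib.Helper5.TensorFormSub
import Cfsg.Agent.Lib.Helper5.TensorFrameDecomp

set_option autoImplicit false
set_option linter.unusedSectionVars false
set_option linter.unusedVariables false
open Cfsg

/-! Blocks `w ⊗ F^(n₂)` of a tensor decomposition with a first factor of arbitrary dimension. -/

namespace Cfsg.Agent.Lib.Helper5.TensorBlocksGen

open Matrix Kronecker Cfsg.Agent.Lib.Helper5.TensorSub Cfsg.Agent.Lib.Helper5.TensorFormSub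

variable {F : Type*} [Field F] {n₁ n₂ : ℕ} {ι : Type} [Fintype ι] [DecidableEq ι]
  (e : ι ≃ Fin n₁ × Fin n₂) (P : Matrix.GeneralLinearGroup ι F)

/-- the block maps -/
def blockMap (w : Fin n₁ → F) : (Fin n₂ → F) →ₗ[F] (ι → F) where
  toFun y := emb e P (pt w y)
  map_add' y y' := by rw [pt_add_right, emb_add]
  map_smul' c y := by rw [pt_smul_right, emb_smul]; rfl

theorem blockMap_apply (w : Fin n₁ → F) (y : Fin n₂ → F) :
    blockMap e P w y = emb e P (pt w y) := rfl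

theorem blockMap_injective {w : Fin n₁ → F} (hw : w ≠ 0) :
    Function.Injective (blockMap e P w) := by
  intro y y' h
  have h1 := emb_injective e P h
  obtain ⟨i, hi⟩ := Function.ne_iff.mp hw
  ext k
  have h2 := congrFun h1 (i, k)
  rw [pt_apply, pt_apply] at h2
  exact mul_left_cancel₀ hi h2

theorem blockMap_smul_left (μ : F) (w : Fin n₁ → F) (y : Fin n₂ → F) :
    blockMap e P (μ • w) y = blockMap e P w (μ • y) := by
  rw [blockMap_apply, blockMap_apply, pt_smul_left, pt_smul_right]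

theorem blockMap_add_left (w w' : Fin n₁ → F) (y : Fin n₂ → F) :
    blockMap e P (w + w') y = blockMap e P w y + blockMap e P w' y := by
  rw [blockMap_apply, blockMap_apply, blockMap_apply, pt_add_left, emb_add]

/-- the blocks -/
def blocks {t : ℕ} (v : Fin t → (Fin n₁ → F)) (j : Fin t) : Submodule F (ι → F) :=
  LinearMap.range (blockMap e P (v j))

theorem mem_blocks {t : ℕ} (v : Fin t → (Fin n₁ → F)) (j : Fin t) (y : Fin n₂ → F) :
    blockMap e P (v j) y ∈ blocks e P v j := ⟨y, rfl⟩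

theorem finrank_blocks {t : ℕ} (v : Fin t → (Fin n₁ → F)) (hv : ∀ j, v j ≠ 0) (j : Fin t) :
    Module.finrank F (blocks e P v j) = n₂ := by
  unfold blocks
  rw [LinearMap.finrank_range_of_inj (blockMap_injective e P (hv j)),
    Module.finrank_fintype_fun_eq_card, Fintype.card_fin]

theorem Phi_kron_blockMap (a : Matrix.GeneralLinearGroup (Fin n₁) F)
    (b : Matrix.GeneralLinearGroup (Fin n₂) F) (w : Fin n₁ → F) (y : Fin n₂ → F) :
    ((Phi e P (kron a b) : Matrix.GeneralLinearGroup ι F) : Matrix ι ι F) *ᵥ blockMap e P w y =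
      blockMap e P ((a : Matrix (Fin n₁) (Fin n₁) F) *ᵥ w)
        ((b : Matrix (Fin n₂) (Fin n₂) F) *ᵥ y) := by
  rw [blockMap_apply, Phi_kron_emb_pt, blockMap_apply]

/-- an element of the tensor stabiliser fixing one block pointwise acts as a scalar on the
second factor of every other block it stabilises -/
theorem scalar_of_kron (hn₂ : 0 < n₂) (a : Matrix.GeneralLinearGroup (Fin n₁) F)
    (b : Matrix.GeneralLinearGroup (Fin n₂) F) {w₁ w₀ : Fin n₁ → F} (hw₁ : w₁ ≠ 0)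
    (hw₀ : w₀ ≠ 0) (ρ : (Fin n₂ → F) → (Fin n₂ → F))
    (h1 : ∀ y, ((Phi e P (kron a b) : Matrix.GeneralLinearGroup ι F) : Matrix ι ι F) *ᵥ
      blockMap e P w₁ y = blockMap e P w₁ y)
    (h0 : ∀ y, ((Phi e P (kron a b) : Matrix.GeneralLinearGroup ι F) : Matrix ι ι F) *ᵥ
      blockMap e P w₀ y = blockMap e P w₀ (ρ y)) :
    ∃ ν : F, ∀ y, ρ y = ν • y := by
  obtain ⟨i₁, hi₁⟩ := Function.ne_iff.mp hw₁
  obtain ⟨i₀, hi₀⟩ := Function.ne_iff.mp hw₀
  have e1 : ∀ y k, ((a : Matrix (Fin n₁) (Fin n₁) F) *ᵥ w₁) i₁ *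
      ((b : Matrix (Fin n₂) (Fin n₂) F) *ᵥ y) k = w₁ i₁ * y k := by
    intro y k
    have := h1 y
    rw [blockMap_apply, Phi_kron_emb_pt] at this
    exact congrFun (emb_injective e P this) (i₁, k)
  have hα : ((a : Matrix (Fin n₁) (Fin n₁) F) *ᵥ w₁) i₁ ≠ 0 := by
    intro h
    have := e1 (Pi.single ⟨0, hn₂⟩ 1) ⟨0, hn₂⟩
    rw [h, zero_mul, Pi.single_eq_same, mul_one] at this
    exact hi₁ this.symm
  have hb : ∀ y, (b : Matrix (Fin n₂) (Fin n₂) F) *ᵥ y =
      (w₁ i₁ / ((a : Matrix (Fin n₁) (Fin n₁) F) *ᵥ w₁) i₁) • y := by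
    intro y
    ext k
    rw [Pi.smul_apply, smul_eq_mul, div_mul_eq_mul_div, eq_div_iff hα, mul_comm]
    exact e1 y k
  have e0 : ∀ y k, ((a : Matrix (Fin n₁) (Fin n₁) F) *ᵥ w₀) i₀ *
      ((b : Matrix (Fin n₂) (Fin n₂) F) *ᵥ y) k = w₀ i₀ * ρ y k := by
    intro y k
    have := h0 y
    rw [blockMap_apply, blockMap_apply, Phi_kron_emb_pt] at this
    exact congrFun (emb_injective e P this) (i₀, k)
  refine ⟨((a : Matrix (Fin n₁) (Fin n₁) F) *ᵥ w₀) i₀ *
    (w₁ i₁ / ((a : Matrix (Fin n₁) (Fin n₁) F) *ᵥ w₁) i₁) / w₀ i₀, fun y => ?_⟩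
  ext k
  have := e0 y k
  rw [hb, Pi.smul_apply, smul_eq_mul] at this
  rw [Pi.smul_apply, smul_eq_mul, div_mul_eq_mul_div, eq_div_iff hi₀]
  linear_combination -this

end Cfsg.Agent.Lib.Helper5.TensorBlocksGen
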