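import Mathlib
import Cfsg.Prelude
import Cfsg.Agent.Lib.Helper5.OrthDecompSiegel
import Cfsg.Agent.Lib.Helper5.OrthPlusPlane

set_option autoImplicit false
set_option linter.unusedSectionVars false
set_option linter.unusedVariables false
open Cfsg

/-! Orthogonal decompositions into hyperbolic planes over small fields. -/

namespace Cfsg.Agent.Lib.Helper5.OrthDecompPlanes

open Matrix QuadraticMap Module Cfsg.Agent.Lib.Helper5.CartanDieudonne Cfsg.Agent.Lib.Helper5.Refl
  Cfsg.Agent.Lib.Helper5.Siegel Cfsg.Agent.Lib.Helper5.QuadIsom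
  Cfsg.Agent.Lib.Helper5.ReflGen Cfsg.Agent.Lib.Helper5.OmegaSimple
  Cfsg.Agent.Lib.Helper5.SpSingularMax Cfsg.Agent.Lib.Helper5.OrthSingularMax
  Cfsg.Agent.Lib.Helper5.SpinorNorm Cfsg.Agent.Lib.Helper5.OrthFrameThree
  Cfsg.Agent.Lib.Helper5.OrthDecompSiegel

variable {ι : Type} [Fintype ι] [DecidableEq ι] {F : Type*} [Field F] [Fintype F]
  {Q : QuadraticForm F (ι → F)} {t k : ℕ} {D : Fin t → Submodule F (ι → F)}

/-- a hyperbolic pair spanning a non-degenerate plane with a singular vector -/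
theorem exists_hyp_pair (W : Submodule F (ι → F)) (hdim : finrank F W = 2)
    (hW : Cfsg.Geo.IsNondegenerateOn (polar ⇑Q) W) {e : ι → F} (heW : e ∈ W) (he0 : e ≠ 0)
    (hQe : Q e = 0) :
    ∃ f, f ∈ W ∧ Q f = 0 ∧ polar ⇑Q e f = 1 ∧ ∀ x ∈ W, ∃ a b : F, x = a • e + b • f := by
  obtain ⟨y, hyW, hey⟩ := (hW e heW he0).2
  have hye : polar ⇑Q y e ≠ 0 := by rw [polar_comm]; exact hey
  obtain ⟨y', hy'def⟩ : ∃ y', y' = y + (-(Q y) / polar ⇑Q y e) • e := ⟨_, rfl⟩
  have hQy' : Q y' = 0 := by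
    rw [hy'def, QuadIsom.quad_add_smul, hQe, mul_zero, add_zero, div_mul_cancel₀ _ hye]
    ring
  have hey' : polar ⇑Q e y' = polar ⇑Q e y := by
    rw [hy'def, polar_add_right, polar_smul_right, polar_self_of_sing Q e hQe, smul_zero,
      add_zero]
  have hy'W : y' ∈ W := by
    rw [hy'def]
    exact W.add_mem hyW (W.smul_mem _ heW)
  obtain ⟨f, hfdef⟩ : ∃ f, f = (polar ⇑Q e y)⁻¹ • y' := ⟨_, rfl⟩
  have hQf : Q f = 0 := by rw [hfdef, QuadraticMap.map_smul, hQy', smul_zero]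
  have hef : polar ⇑Q e f = 1 := by
    rw [hfdef, polar_smul_right, hey', smul_eq_mul, inv_mul_cancel₀ hey]
  have hfe : polar ⇑Q f e = 1 := by rw [polar_comm]; exact hef
  have hfW : f ∈ W := by
    rw [hfdef]
    exact W.smul_mem _ hy'W
  have hee : polar ⇑Q e e = 0 := polar_self_of_sing Q e hQe
  have hff : polar ⇑Q f f = 0 := polar_self_of_sing Q f hQf
  have hli : LinearIndependent F ![e, f] := by
    rw [LinearIndependent.pair_iff]
    intro s t hst
    have e1 := congrArg (fun x => polar ⇑Q x f) hst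
    have e2 := congrArg (fun x => polar ⇑Q x e) hst
    simp only [polar_add_left, polar_smul_left, hef, hfe, hee, hff, polar_zero_left,
      smul_eq_mul, mul_one, mul_zero, add_zero, zero_add] at e1 e2
    exact ⟨e1, e2⟩
  have hspan : Submodule.span F ({e, f} : Set (ι → F)) = W := by
    apply Submodule.eq_of_le_of_finrank_eq
    · rw [Submodule.span_le]
      intro z hz
      rcases hz with rfl | hz
      · exact heW
      · rw [Set.mem_singleton_iff] at hz
        rw [hz]; exact hfW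
    · rw [OrthPlusPlane.finrank_span_pair_eq e f hli, hdim]
  refine ⟨f, hfW, hQf, hef, ?_⟩
  intro x hx
  rw [← hspan] at hx
  obtain ⟨a, b, hab⟩ := Submodule.mem_span_pair.mp hx
  exact ⟨a, b, hab.symm⟩

theorem quad_hyp {e f : ι → F} (hQe : Q e = 0) (hQf : Q f = 0) (hef : polar ⇑Q e f = 1)
    (a b : F) : Q (a • e + b • f) = a * b := by
  rw [quad_add', QuadraticMap.map_smul, QuadraticMap.map_smul, hQe, hQf, polar_smul_left,
    polar_smul_right, hef]
  simp only [smul_eq_mul]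
  ring

theorem polar_hyp {e f : ι → F} (hQe : Q e = 0) (hQf : Q f = 0) (hef : polar ⇑Q e f = 1)
    (a b a' b' : F) : polar ⇑Q (a • e + b • f) (a' • e + b' • f) = a * b' + b * a' := by
  have hfe : polar ⇑Q f e = 1 := by rw [polar_comm]; exact hef
  simp only [polar_add_left, polar_add_right, polar_smul_left, polar_smul_right, hef, hfe,
    polar_self_of_sing Q e hQe, polar_self_of_sing Q f hQf, smul_eq_mul]
  ring

/-- a vector of a block orthogonal to the norm-`c` vectors of its block is orthogonal to all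
block vectors of norm `c` -/
theorem perp_S (hD : Cfsg.Geo.IsNondegenerateMDecomposition (polar ⇑Q) k D) {c : F} {i : Fin t}
    {w₀ : ι → F} (hw₀ : w₀ ∈ D i) (hP : ∀ s' ∈ D i, Q s' = c → polar ⇑Q w₀ s' = 0) :
    ∀ w ∈ S Q D c, polar ⇑Q w₀ w = 0 := by
  rintro w ⟨l, hl, hQw⟩
  by_cases hli : l = i
  · subst hli
    exact hP w hl hQw
  · exact orth' hD (Ne.symm hli) hw₀ hl

/-- the data of a hyperbolic plane over a field with at most three elements -/
theorem block_data_le3 (hq : Fintype.card F ≤ 3) (W : Submodule F (ι → F))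
    (hdim : finrank F W = 2) (hW : Cfsg.Geo.IsNondegenerateOn (polar ⇑Q) W)
    (hsing : ∃ e ∈ W, e ≠ 0 ∧ Q e = 0) :
    ∃ w₀ s e, w₀ ∈ W ∧ s ∈ W ∧ e ∈ W ∧ Q w₀ = -1 ∧ Q s = 1 ∧ Q e = 0 ∧ e ≠ 0 ∧
      polar ⇑Q e s ≠ 0 ∧ ∀ s' ∈ W, Q s' = 1 → polar ⇑Q w₀ s' = 0 := by
  obtain ⟨e, heW, he0, hQe⟩ := hsing
  obtain ⟨f, hfW, hQf, hef, hspan⟩ := exists_hyp_pair W hdim hW heW he0 hQe
  refine ⟨e - f, e + f, e, W.sub_mem heW hfW, W.add_mem heW hfW, heW, ?_, ?_, hQe, he0, ?_, ?_⟩
  · rw [quad_sub', hQe, hQf, hef]; ring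
  · rw [quad_add', hQe, hQf, hef]; ring
  · rw [polar_add_right, polar_self_of_sing Q e hQe, hef, zero_add]
    exact one_ne_zero
  · intro s' hs' hQs'
    obtain ⟨a, b, rfl⟩ := hspan s' hs'
    rw [quad_hyp hQe hQf hef] at hQs'
    have h1 : e - f = (1 : F) • e + (-1 : F) • f := by
      rw [one_smul, neg_one_smul, sub_eq_add_neg]
    rw [h1, polar_hyp hQe hQf hef]
    have ha0 : a ≠ 0 := by
      rintro rfl
      rw [zero_mul] at hQs'
      exact zero_ne_one hQs'
    have haa := OrthPlusPlane.mul_self_eq_one_of_card_le hq a ha0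
    have hab : b = a := by
      have : a * b = a * a := by rw [hQs', haa]
      exact mul_left_cancel₀ ha0 this
    rw [hab]; ring

theorem polar_fsum_left {α : Type*} (I : Finset α) (f : α → ι → F) (x : ι → F) :
    polar ⇑Q (∑ a ∈ I, f a) x = ∑ a ∈ I, polar ⇑Q (f a) x := by
  have : polar ⇑Q (∑ a ∈ I, f a) x = (polarBilin Q).flip x (∑ a ∈ I, f a) := rfl
  rw [this, map_sum]
  rfl

theorem polar_fsum_right {α : Type*} (I : Finset α) (f : α → ι → F) (x : ι → F) :
    polar ⇑Q x (∑ a ∈ I, f a) = ∑ a ∈ I, polar ⇑Q x (f a) := by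
  have : polar ⇑Q x (∑ a ∈ I, f a) = polarBilin Q x (∑ a ∈ I, f a) := rfl
  rw [this, map_sum]
  rfl

/-- the norm of a sum of pairwise orthogonal vectors -/
theorem quad_fsum {α : Type*} (I : Finset α) (f : α → ι → F)
    (h : ∀ a ∈ I, ∀ b ∈ I, a ≠ b → polar ⇑Q (f a) (f b) = 0) :
    Q (∑ a ∈ I, f a) = ∑ a ∈ I, Q (f a) := by
  classical
  induction I using Finset.induction_on with
  | empty => simp
  | insert a I ha ih =>
    rw [Finset.sum_insert ha, Finset.sum_insert ha, quad_add', polar_fsum_right,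
      ih (fun b hb c hc hbc => h b (Finset.mem_insert_of_mem hb) c (Finset.mem_insert_of_mem hc)
        hbc)]
    have hz : ∑ b ∈ I, polar ⇑Q (f a) (f b) = 0 := by
      refine Finset.sum_eq_zero fun b hb => ?_
      exact h a (Finset.mem_insert_self a I) b (Finset.mem_insert_of_mem hb) (by
        rintro rfl
        exact ha hb)
    rw [hz, add_zero]

/-- hyperbolic planes over a field with at most three elements -/
theorem not_maximal_plane_le3 (H : Hyp Q) (hq : Fintype.card F ≤ 3)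
    (hD : Cfsg.Geo.IsNondegenerateMDecomposition (polar ⇑Q) 2 D) (ht : 7 ≤ t)
    (hsing : ∀ i, ∃ e ∈ D i, e ≠ 0 ∧ Q e = 0) :
    ∃ K : Subgroup (Matrix.GeneralLinearGroup ι F),
      Cfsg.Geo.decompositionStabilizer D ⊓ Cfsg.Geo.omegaGL ⇑Q < K ∧
        K < Cfsg.Geo.omegaGL ⇑Q := by
  have hdata := fun i => block_data_le3 hq (D i) (hD.decomp.finrank_eq i) (hD.nondegenerate i)
    (hsing i)
  choose w₀ s e hw₀ hs he hQw₀ hQs hQe he0 hes hP using hdata
  have hq1 : 1 < Fintype.card F := Fintype.one_lt_card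
  obtain ⟨q, hqdef⟩ : ∃ q, q = Fintype.card F := ⟨_, rfl⟩
  have hq3 : q ≤ 3 := by omega
  have hq0 : (q : F) = 0 := by rw [hqdef]; exact Nat.cast_card_eq_zero F
  -- the two index maps
  let σ : Fin q → Fin t := fun a => ⟨a.val, by omega⟩
  let τ : Fin q → Fin t := fun a => ⟨q + a.val, by omega⟩
  have hσ : Function.Injective σ := fun a b h => Fin.ext (by simpa [σ] using h)
  have hτ : Function.Injective τ := fun a b h => Fin.ext (by simpa [τ] using h)
  have hστ : ∀ a b, σ a ≠ τ b := by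
    intro a b h
    have := congrArg Fin.val h
    simp only [σ, τ] at this
    omega
  have horth : ∀ i j, i ≠ j → polar ⇑Q (w₀ i) (w₀ j) = 0 :=
    fun i j hij => orth' hD hij (hw₀ i) (hw₀ j)
  obtain ⟨u, hudef⟩ : ∃ u, u = ∑ a : Fin q, w₀ (σ a) := ⟨_, rfl⟩
  obtain ⟨v, hvdef⟩ : ∃ v, v = ∑ a : Fin q, w₀ (τ a) := ⟨_, rfl⟩
  have hQu : Q u = 0 := by
    rw [hudef, quad_fsum _ _ (fun a _ b _ hab => horth _ _ (fun h => hab (hσ h)))]
    simp only [hQw₀, Finset.sum_const, Finset.card_univ, Fintype.card_fin, nsmul_eq_mul, mul_neg,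
      mul_one, hq0, neg_zero]
  have hQv : Q v = 0 := by
    rw [hvdef, quad_fsum _ _ (fun a _ b _ hab => horth _ _ (fun h => hab (hτ h)))]
    simp only [hQw₀, Finset.sum_const, Finset.card_univ, Fintype.card_fin, nsmul_eq_mul, mul_neg,
      mul_one, hq0, neg_zero]
  have huv : polar ⇑Q u v = 0 := by
    rw [hudef, hvdef, polar_fsum_left]
    refine Finset.sum_eq_zero fun a _ => ?_
    rw [polar_fsum_right]
    exact Finset.sum_eq_zero fun b _ => horth _ _ (hστ a b)
  have hfix : ∀ w ∈ S Q D (1 : F), polar ⇑Q u w = 0 ∧ polar ⇑Q v w = 0 := by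
    intro w hw
    constructor
    · rw [hudef, polar_fsum_left]
      exact Finset.sum_eq_zero fun a _ => perp_S hD (hw₀ _) (hP _) w hw
    · rw [hvdef, polar_fsum_left]
      exact Finset.sum_eq_zero fun a _ => perp_S hD (hw₀ _) (hP _) w hw
  have hq_pos : 0 < q := by omega
  have hw₀0 : ∀ i, w₀ i ≠ 0 := by
    intro i h
    have := hQw₀ i
    rw [h, map_zero] at this
    exact one_ne_zero (neg_eq_zero.mp this.symm)
  -- a vector of the first block not orthogonal to `u`
  obtain ⟨y, hy, hwy⟩ := (hD.nondegenerate _ (w₀ (σ ⟨0, hq_pos⟩)) (hw₀ _) (hw₀0 _)).2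
  have huy : polar ⇑Q u y ≠ 0 := by
    rw [hudef, polar_fsum_left, Finset.sum_eq_single (⟨0, hq_pos⟩ : Fin q)]
    · exact hwy
    · intro b _ hb
      exact orth' hD (fun h => hb (hσ h)) (hw₀ _) hy
    · intro h
      exact absurd (Finset.mem_univ _) h
  have hy0 : y ≠ 0 := by
    rintro rfl
    exact hwy (polar_zero_right Q _)
  have hvy : ∀ y' ∈ D (σ ⟨0, hq_pos⟩), polar ⇑Q v y' = 0 := by
    intro y' hy'
    rw [hvdef, polar_fsum_left]
    exact Finset.sum_eq_zero fun b _ => orth' hD (fun h => hστ _ _ h.symm) (hw₀ _) hy'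
  have hv0 : v ≠ 0 := by
    intro hv0
    obtain ⟨y₂, hy₂, hwy₂⟩ := (hD.nondegenerate _ (w₀ (τ ⟨0, hq_pos⟩)) (hw₀ _) (hw₀0 _)).2
    apply hwy₂
    have h1 : polar ⇑Q v y₂ = 0 := by rw [hv0]; exact polar_zero_left Q _
    rw [hvdef, polar_fsum_left, Finset.sum_eq_single (⟨0, hq_pos⟩ : Fin q)] at h1
    · exact h1
    · intro b _ hb
      exact orth' hD (fun h => hb (hτ h)) (hw₀ _) hy₂
    · intro h
      exact absurd (Finset.mem_univ _) h
  have h01 : (⟨0, by omega⟩ : Fin t) ≠ ⟨1, by omega⟩ := by simp [Fin.ext_iff]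
  exact not_maximal_of_siegel hD H one_ne_zero hQu hQv huv hfix hy hy0 huy hvy hv0 h01
    (he _) (hQe _) (he _) (hQe _) (he0 _) (hs _) (hQs _) (hes _)

end Cfsg.Agent.Lib.Helper5.OrthDecompPlanes
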