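import Mathlib
import Cfsg.Prelude
import Cfsg.Agent.Lib.Helper5.OrthDecompPlanes

set_option autoImplicit false
set_option linter.unusedSectionVars false
set_option linter.unusedVariables false
open Cfsg

/-! Orthogonal decompositions into hyperbolic planes over the field with five elements. -/

namespace Cfsg.Agent.Lib.Helper5.OrthDecompFive

open Matrix QuadraticMap Module Cfsg.Agent.Lib.Helper5.CartanDieudonne Cfsg.Agent.Lib.Helper5.Refl
  Cfsg.Agent.Lib.Helper5.Siegel Cfsg.Agent.Lib.Helper5.QuadIsom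
  Cfsg.Agent.Lib.Helper5.ReflGen Cfsg.Agent.Lib.Helper5.OmegaSimple
  Cfsg.Agent.Lib.Helper5.SpSingularMax Cfsg.Agent.Lib.Helper5.OrthSingularMax
  Cfsg.Agent.Lib.Helper5.SpinorNorm Cfsg.Agent.Lib.Helper5.OrthFrameThree
  Cfsg.Agent.Lib.Helper5.OrthDecompSiegel Cfsg.Agent.Lib.Helper5.OrthDecompPlanes

variable {ι : Type} [Fintype ι] [DecidableEq ι] {F : Type*} [Field F] [Fintype F]
  {Q : QuadraticForm F (ι → F)} {t k : ℕ} {D : Fin t → Submodule F (ι → F)}

/-- the frame version of the main theorem in odd characteristic -/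
theorem not_maximal_good (H : Hyp Q) (h2 : (2 : F) ≠ 0)
    (hD : Cfsg.Geo.IsOrthogonalMDecomposition ⇑Q k D) (ht : 4 ≤ t) {c : F} (hc : c ≠ 0)
    (hgood : Good Q (D ⟨0, by omega⟩) c) :
    ∃ K : Subgroup (Matrix.GeneralLinearGroup ι F),
      Cfsg.Geo.decompositionStabilizer D ⊓ Cfsg.Geo.omegaGL ⇑Q < K ∧
        K < Cfsg.Geo.omegaGL ⇑Q := by
  have hg : ∀ j, Good Q (D j) c := fun j => hgood.transport (hD.isometric _ j)
  obtain ⟨v₁, v₁', hv₁, hv₁', hQ₁, hQ₁', hp₁, hf₁⟩ := hg ⟨0, by omega⟩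
  obtain ⟨v₂, v₂', hv₂, hv₂', hQ₂, hQ₂', hp₂, hf₂⟩ := hg ⟨1, by omega⟩
  obtain ⟨v₃, v₃', hv₃, hv₃', hQ₃, hQ₃', hp₃, hf₃⟩ := hg ⟨2, by omega⟩
  obtain ⟨v₄, v₄', hv₄, hv₄', hQ₄, hQ₄', hp₄, hf₄⟩ := hg ⟨3, by omega⟩
  have hne : ∀ a b : ℕ, a ≠ b → ∀ (ha : a < t) (hb : b < t), (⟨a, ha⟩ : Fin t) ≠ ⟨b, hb⟩ := by
    intro a b hab ha hb h
    exact hab (Fin.mk.inj_iff.mp h)
  exact not_maximal_of_frames hD.decomp H h2 hc
    (hne 0 1 (by omega) _ _) (hne 0 2 (by omega) _ _) (hne 0 3 (by omega) _ _)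
    (hne 1 2 (by omega) _ _) (hne 1 3 (by omega) _ _) (hne 2 3 (by omega) _ _)
    ⟨hv₁, hQ₁, hf₁⟩ ⟨hv₂, hQ₂, hf₂⟩ ⟨hv₃, hQ₃, hf₃⟩ ⟨hv₄, hQ₄, hf₄⟩ hv₁' hQ₁' hp₁

section five
variable (hq : Fintype.card F = 5)

include hq in
theorem five_eq_zero : (5 : F) = 0 := by
  have := Nat.cast_card_eq_zero F
  rw [hq] at this
  exact_mod_cast this

include hq in
theorem two_ne_zero5 : (2 : F) ≠ 0 := by
  intro h
  have h5 := five_eq_zero hq
  have : (1 : F) = 0 := by linear_combination h5 - 2 * h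
  exact one_ne_zero this

include hq in
/-- hyperbolic planes over the field with five elements have a frame of norm-one vectors -/
theorem good_plane_five (W : Submodule F (ι → F)) (hdim : finrank F W = 2)
    (hW : Cfsg.Geo.IsNondegenerateOn (polar ⇑Q) W) (hsing : ∃ e ∈ W, e ≠ 0 ∧ Q e = 0) :
    Good Q W 1 := by
  obtain ⟨e, heW, he0, hQe⟩ := hsing
  obtain ⟨f, hfW, hQf, hef, hspan⟩ := exists_hyp_pair W hdim hW heW he0 hQe
  have h5 := five_eq_zero hq
  have hv : e + f = (1 : F) • e + (1 : F) • f := by rw [one_smul, one_smul]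
  refine ⟨e + f, (2 : F) • e + (3 : F) • f, W.add_mem heW hfW,
    W.add_mem (W.smul_mem _ heW) (W.smul_mem _ hfW), ?_, ?_, ?_, ?_⟩
  · rw [hv, quad_hyp hQe hQf hef]; ring
  · rw [quad_hyp hQe hQf hef]; linear_combination h5
  · rw [hv, polar_hyp hQe hQf hef]; linear_combination h5
  · intro w hw hQw
    obtain ⟨a, b, rfl⟩ := hspan w hw
    rw [quad_hyp hQe hQf hef] at hQw
    have ha0 : a ≠ 0 := by
      rintro rfl
      rw [zero_mul] at hQw
      exact zero_ne_one hQw
    have ha4 : a ^ 4 = 1 := by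
      have := FiniteField.pow_card_sub_one_eq_one a ha0
      rw [hq] at this
      exact this
    have hfac : (a * a - 1) * (a * a + 1) = 0 := by linear_combination ha4
    rcases mul_eq_zero.mp hfac with h1 | h1
    · have h2 : (a - 1) * (a + 1) = 0 := by linear_combination h1
      rcases mul_eq_zero.mp h2 with h3 | h3
      · left
        have ha : a = 1 := by linear_combination h3
        have hb : b = 1 := by rw [ha, one_mul] at hQw; exact hQw
        rw [ha, hb, one_smul, one_smul]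
      · right; left
        have ha : a = -1 := by linear_combination h3
        have hb : b = -1 := by rw [ha] at hQw; linear_combination -hQw
        rw [ha, hb, neg_one_smul, neg_one_smul, neg_add]
    · right; right
      rw [hv, polar_hyp hQe hQf hef]
      have hb : b = -a := by
        have : a * b = a * (-a) := by rw [hQw]; linear_combination h1
        exact mul_left_cancel₀ ha0 this
      rw [hb]; ring

include hq in
theorem not_maximal_plane_five (H : Hyp Q)
    (hD : Cfsg.Geo.IsOrthogonalMDecomposition ⇑Q 2 D) (ht : 4 ≤ t)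
    (hsing : ∃ e ∈ D ⟨0, by omega⟩, e ≠ 0 ∧ Q e = 0) :
    ∃ K : Subgroup (Matrix.GeneralLinearGroup ι F),
      Cfsg.Geo.decompositionStabilizer D ⊓ Cfsg.Geo.omegaGL ⇑Q < K ∧
        K < Cfsg.Geo.omegaGL ⇑Q :=
  not_maximal_good H (two_ne_zero5 hq) hD ht one_ne_zero
    (good_plane_five hq _ (hD.decomp.decomp.finrank_eq _) (hD.decomp.nondegenerate _) hsing)

end five

end Cfsg.Agent.Lib.Helper5.OrthDecompFive
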