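import Mathlib
import Cfsg.Prelude
import Cfsg.Agent.Lib.Helper5.OrthDecompPlanes

set_option autoImplicit false
set_option linter.unusedSectionVars false
set_option linter.unusedVariables false
open Cfsg

/-! Orthogonal decompositions into hyperbolic planes over the field with four elements: the
norm-one vectors of the blocks span a structure over the prime field. -/

namespace Cfsg.Agent.Lib.Helper5.OrthDecompFour

open Matrix QuadraticMap Module Cfsg.Agent.Lib.Helper5.CartanDieudonne Cfsg.Agent.Lib.Helper5.Refl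
  Cfsg.Agent.Lib.Helper5.Siegel Cfsg.Agent.Lib.Helper5.QuadIsom
  Cfsg.Agent.Lib.Helper5.ReflGen Cfsg.Agent.Lib.Helper5.OmegaSimple
  Cfsg.Agent.Lib.Helper5.SpSingularMax Cfsg.Agent.Lib.Helper5.OrthSingularMax
  Cfsg.Agent.Lib.Helper5.SpinorNorm Cfsg.Agent.Lib.Helper5.OrthFrameThree
  Cfsg.Agent.Lib.Helper5.OrthDecompSiegel Cfsg.Agent.Lib.Helper5.OrthDecompPlanes

variable {ι : Type} [Fintype ι] [DecidableEq ι] {F : Type*} [Field F] [Fintype F]
  {Q : QuadraticForm F (ι → F)} {t k : ℕ} {D : Fin t → Submodule F (ι → F)}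

/-- membership in the prime field of a field of characteristic two -/
def InF2 (a : F) : Prop := a = 0 ∨ a = 1

theorem inF2_zero : InF2 (0 : F) := Or.inl rfl

theorem inF2_one : InF2 (1 : F) := Or.inr rfl

theorem InF2.mul {a b : F} (ha : InF2 a) (hb : InF2 b) : InF2 (a * b) := by
  rcases ha with rfl | rfl
  · left; rw [zero_mul]
  · rw [one_mul]; exact hb

theorem InF2.add (h2 : (2 : F) = 0) {a b : F} (ha : InF2 a) (hb : InF2 b) : InF2 (a + b) := by
  rcases ha with rfl | rfl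
  · rw [zero_add]; exact hb
  · rcases hb with rfl | rfl
    · right; rw [add_zero]
    · left; linear_combination h2

theorem InF2.neg (h2 : (2 : F) = 0) {a : F} (ha : InF2 a) : InF2 (-a) := by
  rcases ha with rfl | rfl
  · left; rw [neg_zero]
  · right; linear_combination -h2

theorem InF2.sum (h2 : (2 : F) = 0) {α : Type*} (I : Finset α) (f : α → F)
    (h : ∀ a ∈ I, InF2 (f a)) : InF2 (∑ a ∈ I, f a) := by
  classical
  induction I using Finset.induction_on with
  | empty => simp [inF2_zero]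
  | insert a I ha ih =>
    rw [Finset.sum_insert ha]
    exact (h a (Finset.mem_insert_self a I)).add h2
      (ih fun b hb => h b (Finset.mem_insert_of_mem hb))

/-- the vectors whose products with the norm-one block vectors lie in the prime field -/
def Lset (Q : QuadraticForm F (ι → F)) (D : Fin t → Submodule F (ι → F)) : Set (ι → F) :=
  {x | ∀ s ∈ S Q D (1 : F), InF2 (polar ⇑Q x s)}

/-- the intermediate subgroup -/
def lGroup (Q : QuadraticForm F (ι → F)) (D : Fin t → Submodule F (ι → F)) :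
    Subgroup (Matrix.GeneralLinearGroup ι F) where
  carrier := {g | g ∈ Cfsg.Geo.omegaGL ⇑Q ∧
    ∀ v, (g : Matrix ι ι F) *ᵥ v ∈ Lset Q D ↔ v ∈ Lset Q D}
  mul_mem' {a b} ha hb := by
    refine ⟨Subgroup.mul_mem _ ha.1 hb.1, fun v => ?_⟩
    rw [Units.val_mul, ← Matrix.mulVec_mulVec, ha.2, hb.2]
  one_mem' := ⟨Subgroup.one_mem _, fun v => by simp⟩
  inv_mem' {a} ha := by
    refine ⟨Subgroup.inv_mem _ ha.1, fun v => ?_⟩
    have h1 := ha.2 (((a⁻¹ : Matrix.GeneralLinearGroup ι F) : Matrix _ _ F) *ᵥ v)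
    rw [Matrix.mulVec_mulVec, ← Units.val_mul, mul_inv_cancel, Units.val_one, Matrix.one_mulVec]
      at h1
    exact h1.symm

theorem mid_le_l : midGroup Q D (1 : F) ≤ lGroup Q D := by
  rintro g₀ ⟨hΩ, hS⟩
  refine ⟨hΩ, fun x => ?_⟩
  obtain ⟨g, -, rfl⟩ := (mem_omegaGL_iff Q g₀).mp hΩ
  have hact : ∀ y, ((g : Matrix.GeneralLinearGroup ι F) : Matrix ι ι F) *ᵥ y = act Q g y :=
    fun y => rfl
  constructor
  · intro h s hs
    have h1 := h _ ((hS s).mpr hs)
    rwa [hact, hact, polar_act] at h1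
  · intro h s hs
    have e1 : act Q g (act Q g⁻¹ s) = s := act_inv_act Q g s
    have h2 : act Q g⁻¹ s ∈ S Q D (1 : F) := by
      apply (hS _).mp
      rw [hact, e1]; exact hs
    have h1 := h _ h2
    rw [hact, ← e1, polar_act]
    exact h1

section four
variable (hq : Fintype.card F = 4)

include hq in
theorem two_eq_zero4 : (2 : F) = 0 := by
  have h4 : (4 : F) = 0 := by
    have := Nat.cast_card_eq_zero F
    rw [hq] at this
    exact_mod_cast this
  have : (2 : F) * 2 = 0 := by linear_combination h4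
  exact mul_self_eq_zero.mp this

include hq in
theorem cube_eq_one4 {a : F} (ha : a ≠ 0) : a ^ 3 = 1 := by
  have h1 := FiniteField.pow_card_sub_one_eq_one a ha
  rw [hq] at h1
  exact h1

include hq in
theorem exists_ne01 : ∃ c : F, c ≠ 0 ∧ c ≠ 1 := by
  classical
  by_contra hcon
  push Not at hcon
  have h1 : ∀ x : F, x ∈ ({0, 1} : Finset F) := by
    intro x
    by_cases hx : x = 0
    · simp [hx]
    · simp [hcon x hx]
  have h2 : Fintype.card F ≤ ({0, 1} : Finset F).card :=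
    Finset.card_le_card_of_surjOn (fun x => x) (fun x _ => by simpa using h1 x) |>.trans' (by
      rw [Finset.card_univ])
  have h3 : ({0, 1} : Finset F).card ≤ 2 := Finset.card_le_two
  rw [hq] at h2
  omega

include hq in
/-- `r + r⁻¹` lies in the prime field -/
theorem inF2_add_inv {r r' : F} (h : r * r' = 1) : InF2 (r + r') := by
  have h2 := two_eq_zero4 hq
  have hr0 : r ≠ 0 := by
    rintro rfl
    rw [zero_mul] at h
    exact zero_ne_one h
  have h3 := cube_eq_one4 hq hr0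
  have hr' : r' = r ^ 2 := by
    have : r * r' = r * r ^ 2 := by rw [h]; linear_combination -h3
    exact mul_left_cancel₀ hr0 this
  have hfac : (r + r') * (r + r' - 1) = 0 := by
    rw [hr']
    linear_combination r * h3 + r ^ 3 * h2
  rcases mul_eq_zero.mp hfac with h4 | h4
  · exact Or.inl h4
  · exact Or.inr (by linear_combination h4)

include hq in
/-- the data of a hyperbolic plane over the field with four elements -/
theorem block_data_four (W : Submodule F (ι → F)) (hdim : finrank F W = 2)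
    (hW : Cfsg.Geo.IsNondegenerateOn (polar ⇑Q) W) (hsing : ∃ e ∈ W, e ≠ 0 ∧ Q e = 0) :
    ∃ s s', s ∈ W ∧ s' ∈ W ∧ Q s = 1 ∧ Q s' = 1 ∧ polar ⇑Q s s' = 1 ∧
      ∀ a ∈ W, ∀ b ∈ W, Q a = 1 → Q b = 1 → InF2 (polar ⇑Q a b) := by
  obtain ⟨e, heW, he0, hQe⟩ := hsing
  obtain ⟨f, hfW, hQf, hef, hspan⟩ := exists_hyp_pair W hdim hW heW he0 hQe
  have h2 := two_eq_zero4 hq
  obtain ⟨l, hl0, hl1⟩ := exists_ne01 hq
  have hl3 := cube_eq_one4 hq hl0
  have hv : e + f = (1 : F) • e + (1 : F) • f := by rw [one_smul, one_smul]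
  have hl2 : l ^ 2 + l + 1 = 0 := by
    have : (l - 1) * (l ^ 2 + l + 1) = 0 := by linear_combination hl3
    exact (mul_eq_zero.mp this).resolve_left (sub_ne_zero.mpr hl1)
  refine ⟨e + f, l • e + (l ^ 2) • f, W.add_mem heW hfW,
    W.add_mem (W.smul_mem _ heW) (W.smul_mem _ hfW), ?_, ?_, ?_, ?_⟩
  · rw [hv, quad_hyp hQe hQf hef]; ring
  · rw [quad_hyp hQe hQf hef]; linear_combination hl3
  · rw [hv, polar_hyp hQe hQf hef]
    linear_combination hl2 - h2
  · intro a ha b hb hQa hQb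
    obtain ⟨x, x', rfl⟩ := hspan a ha
    obtain ⟨y, y', rfl⟩ := hspan b hb
    rw [quad_hyp hQe hQf hef] at hQa hQb
    rw [polar_hyp hQe hQf hef]
    refine inF2_add_inv hq ?_
    linear_combination (y * y') * hQa + hQb

include hq in
/-- hyperbolic planes over the field with four elements -/
theorem not_maximal_plane_four (H : Hyp Q)
    (hD : Cfsg.Geo.IsNondegenerateMDecomposition (polar ⇑Q) 2 D) (ht : 4 ≤ t)
    (hsing : ∀ i, ∃ e ∈ D i, e ≠ 0 ∧ Q e = 0) :
    ∃ K : Subgroup (Matrix.GeneralLinearGroup ι F),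
      Cfsg.Geo.decompositionStabilizer D ⊓ Cfsg.Geo.omegaGL ⇑Q < K ∧
        K < Cfsg.Geo.omegaGL ⇑Q := by
  have h2 := two_eq_zero4 hq
  have hdata := fun i => block_data_four hq (D i) (hD.decomp.finrank_eq i) (hD.nondegenerate i)
    (hsing i)
  choose s s' hs hs' hQs hQs' hss' hF using hdata
  have hSS : ∀ a ∈ S Q D (1 : F), ∀ b ∈ S Q D (1 : F), InF2 (polar ⇑Q a b) := by
    rintro a ⟨i, hai, hQa⟩ b ⟨j, hbj, hQb⟩
    by_cases hij : i = j
    · subst hij
      exact hF i a hai b hbj hQa hQb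
    · rw [orth' hD hij hai hbj]; exact inF2_zero
  have hsS : ∀ i, s i ∈ S Q D (1 : F) := fun i => ⟨i, hs i, hQs i⟩
  have hs'S : ∀ i, s' i ∈ S Q D (1 : F) := fun i => ⟨i, hs' i, hQs' i⟩
  have hne : ∀ a b : ℕ, a ≠ b → ∀ (ha : a < t) (hb : b < t), (⟨a, ha⟩ : Fin t) ≠ ⟨b, hb⟩ := by
    intro a b hab ha hb h
    exact hab (Fin.mk.inj_iff.mp h)
  obtain ⟨i₁, hi₁⟩ : ∃ i : Fin t, i = ⟨0, by omega⟩ := ⟨_, rfl⟩
  obtain ⟨i₂, hi₂⟩ : ∃ i : Fin t, i = ⟨1, by omega⟩ := ⟨_, rfl⟩
  obtain ⟨i₃, hi₃⟩ : ∃ i : Fin t, i = ⟨2, by omega⟩ := ⟨_, rfl⟩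
  obtain ⟨i₄, hi₄⟩ : ∃ i : Fin t, i = ⟨3, by omega⟩ := ⟨_, rfl⟩
  have h12 : i₁ ≠ i₂ := by rw [hi₁, hi₂]; exact hne 0 1 (by omega) _ _
  have h13 : i₁ ≠ i₃ := by rw [hi₁, hi₃]; exact hne 0 2 (by omega) _ _
  have h14 : i₁ ≠ i₄ := by rw [hi₁, hi₄]; exact hne 0 3 (by omega) _ _
  have h23 : i₂ ≠ i₃ := by rw [hi₂, hi₃]; exact hne 1 2 (by omega) _ _
  have h24 : i₂ ≠ i₄ := by rw [hi₂, hi₄]; exact hne 1 3 (by omega) _ _
  have h34 : i₃ ≠ i₄ := by rw [hi₃, hi₄]; exact hne 2 3 (by omega) _ _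
  obtain ⟨u, hudef⟩ : ∃ u, u = s i₁ + s i₂ := ⟨_, rfl⟩
  obtain ⟨v, hvdef⟩ : ∃ v, v = s i₃ + s i₄ := ⟨_, rfl⟩
  have hQu : Q u = 0 := by
    rw [hudef, quad_add', hQs, hQs, orth' hD h12 (hs _) (hs _)]
    linear_combination h2
  have hQv : Q v = 0 := by
    rw [hvdef, quad_add', hQs, hQs, orth' hD h34 (hs _) (hs _)]
    linear_combination h2
  have huv : polar ⇑Q u v = 0 := by
    rw [hudef, hvdef, polar_add_left, polar_add_right, polar_add_right,
      orth' hD h13 (hs _) (hs _), orth' hD h14 (hs _) (hs _), orth' hD h23 (hs _) (hs _),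
      orth' hD h24 (hs _) (hs _)]
    ring
  have huS : ∀ w ∈ S Q D (1 : F), InF2 (polar ⇑Q u w) := by
    intro w hw
    rw [hudef, polar_add_left]
    exact (hSS _ (hsS _) w hw).add h2 (hSS _ (hsS _) w hw)
  have hvS : ∀ w ∈ S Q D (1 : F), InF2 (polar ⇑Q v w) := by
    intro w hw
    rw [hvdef, polar_add_left]
    exact (hSS _ (hsS _) w hw).add h2 (hSS _ (hsS _) w hw)
  have huL : ∀ x ∈ Lset Q D, InF2 (polar ⇑Q u x) := by
    intro x hx
    rw [polar_comm, hudef, polar_add_right]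
    exact (hx _ (hsS _)).add h2 (hx _ (hsS _))
  have hvL : ∀ x ∈ Lset Q D, InF2 (polar ⇑Q v x) := by
    intro x hx
    rw [polar_comm, hvdef, polar_add_right]
    exact (hx _ (hsS _)).add h2 (hx _ (hsS _))
  have hpres : ∀ x ∈ Lset Q D,
      (((siegel Q u v hQu hQv huv 1 : ↥(isometryGroup F ⇑Q)) : Matrix.GeneralLinearGroup ι F) :
        Matrix ι ι F) *ᵥ x ∈ Lset Q D := by
    intro x hx w hw
    rw [siegel_mulVec, polar_sub_left, polar_add_left, polar_smul_left, polar_smul_left, one_mul,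
      one_mul, smul_eq_mul, smul_eq_mul, sub_eq_add_neg]
    exact ((hx w hw).add h2 ((huL x hx).mul (hvS w hw))).add h2
      (((hvL x hx).mul (huS w hw)).neg h2)
  have hinv : ∀ x, (((siegel Q u v hQu hQv huv 1 : ↥(isometryGroup F ⇑Q)) :
      Matrix.GeneralLinearGroup ι F) : Matrix ι ι F) *ᵥ
      ((((siegel Q u v hQu hQv huv 1 : ↥(isometryGroup F ⇑Q)) :
      Matrix.GeneralLinearGroup ι F) : Matrix ι ι F) *ᵥ x) = x := by
    intro x
    rw [Matrix.mulVec_mulVec, ← Units.val_mul, ← Subgroup.coe_mul, siegel_mul_siegel]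
    have h11 : (1 : F) + 1 = 0 := by linear_combination h2
    rw [h11, siegel_mulVec]
    simp
  have hmem : ((siegel Q u v hQu hQv huv 1 : ↥(isometryGroup F ⇑Q)) :
      Matrix.GeneralLinearGroup ι F) ∈ lGroup Q D := by
    refine ⟨siegel_mem_omegaGL H u v hQu hQv huv 1, fun x => ⟨fun h => ?_, hpres x⟩⟩
    have := hpres _ h
    rwa [hinv] at this
  have hs'L : ∀ i, s' i ∈ Lset Q D := fun i w hw => hSS _ (hs'S i) w hw
  refine ⟨lGroup Q D, lt_of_le_of_ne ((stab_le_mid (1 : F)).trans mid_le_l) ?_,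
    lt_of_le_of_ne (fun g hg => hg.1) ?_⟩
  · intro heq
    rw [← heq] at hmem
    refine not_stab_of_image _ (hs' i₁) ?_ (Subgroup.mem_inf.mp hmem).1
    intro l
    have hvy : ∀ y' ∈ D i₁, polar ⇑Q v y' = 0 := by
      intro y' hy'
      rw [hvdef, polar_add_left, orth' hD h13.symm (hs _) hy', orth' hD h14.symm (hs _) hy',
        add_zero]
    have huy : polar ⇑Q u (s' i₁) = 1 := by
      rw [hudef, polar_add_left, hss', orth' hD h12.symm (hs _) (hs' _), add_zero]
    rw [siegel_mulVec, hvy _ (hs' i₁), mul_zero, zero_smul, sub_zero, one_mul, huy, one_smul]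
    have hs'0 : s' i₁ ≠ 0 := by
      intro h0
      have := hQs' i₁
      rw [h0, map_zero] at this
      exact zero_ne_one this
    have hv0 : v ≠ 0 := by
      intro h0
      have h1 : polar ⇑Q v (s' i₃) = 0 := by rw [h0]; exact polar_zero_left Q _
      rw [hvdef, polar_add_left, hss', orth' hD h34.symm (hs _) (hs' _), add_zero] at h1
      exact one_ne_zero h1
    exact not_mem_block hD (hs' i₁) hs'0 hv0 hvy l
  · intro heq
    obtain ⟨l, hl0, hl1⟩ := exists_ne01 hq
    have hmem2 := siegel_mem_omegaGL H u v hQu hQv huv l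
    rw [← heq] at hmem2
    have h1 := (hmem2.2 (s' i₁)).mpr (hs'L i₁) (s' i₃) (hs'S i₃)
    rw [siegel_mulVec, polar_sub_left, polar_add_left, polar_smul_left, polar_smul_left] at h1
    have e1 : polar ⇑Q u (s' i₁) = 1 := by
      rw [hudef, polar_add_left, hss', orth' hD h12.symm (hs _) (hs' _), add_zero]
    have e2 : polar ⇑Q v (s' i₁) = 0 := by
      rw [hvdef, polar_add_left, orth' hD h13.symm (hs _) (hs' _),
        orth' hD h14.symm (hs _) (hs' _), add_zero]
    have e3 : polar ⇑Q v (s' i₃) = 1 := by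
      rw [hvdef, polar_add_left, hss', orth' hD h34.symm (hs _) (hs' _), add_zero]
    have e4 : polar ⇑Q (s' i₁) (s' i₃) = 0 := orth' hD h13 (hs' _) (hs' _)
    rw [e1, e2, e3, e4] at h1
    simp only [smul_eq_mul, mul_one, mul_zero, zero_mul, zero_add, sub_zero] at h1
    rcases h1 with h1 | h1
    · exact hl0 h1
    · exact hl1 h1

end four

end Cfsg.Agent.Lib.Helper5.OrthDecompFour
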