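import Mathlib
import Cfsg.Prelude
import Cfsg.Agent.Lib.Helper5.OrthDecompPlanes
import Cfsg.Agent.Lib.Helper5.PlusGeom

set_option autoImplicit false
set_option linter.unusedSectionVars false
set_option linter.unusedVariables false
open Cfsg

/-! Orthogonal decompositions into four-dimensional spaces of plus type over the field with two
elements. -/

namespace Cfsg.Agent.Lib.Helper5.OrthDecompQuad

open Matrix QuadraticMap Module Cfsg.Agent.Lib.Helper5.CartanDieudonne Cfsg.Agent.Lib.Helper5.Refl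
  Cfsg.Agent.Lib.Helper5.Siegel Cfsg.Agent.Lib.Helper5.QuadIsom
  Cfsg.Agent.Lib.Helper5.ReflGen Cfsg.Agent.Lib.Helper5.OmegaSimple
  Cfsg.Agent.Lib.Helper5.SpSingularMax Cfsg.Agent.Lib.Helper5.OrthSingularMax
  Cfsg.Agent.Lib.Helper5.SpinorNorm Cfsg.Agent.Lib.Helper5.OrthFrameThree
  Cfsg.Agent.Lib.Helper5.OrthDecompSiegel Cfsg.Agent.Lib.Helper5.OrthDecompPlanes

variable {ι : Type} [Fintype ι] [DecidableEq ι] {F : Type*} [Field F] [Fintype F]
  {Q : QuadraticForm F (ι → F)} {t k : ℕ} {D : Fin t → Submodule F (ι → F)}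

/-- a singular partner of a singular vector, orthogonal to a given hyperbolic pair -/
theorem exists_partner (W : Submodule F (ι → F))
    (hW : Cfsg.Geo.IsNondegenerateOn (polar ⇑Q) W) {e : ι → F} (heW : e ∈ W) (he0 : e ≠ 0)
    (hQe : Q e = 0) {e₁ f₁ : ι → F} (he₁W : e₁ ∈ W) (hf₁W : f₁ ∈ W)
    (h11 : polar ⇑Q e₁ f₁ = 1) (hee₁ : polar ⇑Q e e₁ = 0) (hef₁ : polar ⇑Q e f₁ = 0)
    (hQe₁ : Q e₁ = 0) (hQf₁ : Q f₁ = 0) :
    ∃ f, f ∈ W ∧ Q f = 0 ∧ polar ⇑Q e f = 1 ∧ polar ⇑Q f e₁ = 0 ∧ polar ⇑Q f f₁ = 0 := by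
  obtain ⟨y₀, hy₀W, hey₀⟩ := (hW e heW he0).2
  have hf₁e₁ : polar ⇑Q f₁ e₁ = 1 := by rw [polar_comm]; exact h11
  have he₁e₁ : polar ⇑Q e₁ e₁ = 0 := polar_self_of_sing Q e₁ hQe₁
  have hf₁f₁ : polar ⇑Q f₁ f₁ = 0 := polar_self_of_sing Q f₁ hQf₁
  obtain ⟨y, hydef⟩ : ∃ y, y = y₀ - polar ⇑Q y₀ f₁ • e₁ - polar ⇑Q y₀ e₁ • f₁ := ⟨_, rfl⟩
  have hyW : y ∈ W := by
    rw [hydef]
    exact W.sub_mem (W.sub_mem hy₀W (W.smul_mem _ he₁W)) (W.smul_mem _ hf₁W)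
  have hye₁ : polar ⇑Q y e₁ = 0 := by
    rw [hydef, polar_sub_left, polar_sub_left, polar_smul_left, polar_smul_left, he₁e₁, hf₁e₁]
    simp
  have hyf₁ : polar ⇑Q y f₁ = 0 := by
    rw [hydef, polar_sub_left, polar_sub_left, polar_smul_left, polar_smul_left, h11, hf₁f₁]
    simp
  have hey : polar ⇑Q e y ≠ 0 := by
    rw [hydef, polar_sub_right, polar_sub_right, polar_smul_right, polar_smul_right, hee₁, hef₁]
    simpa using hey₀
  have hye : polar ⇑Q y e ≠ 0 := by rw [polar_comm]; exact hey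
  obtain ⟨y', hy'def⟩ : ∃ y', y' = y + (-(Q y) / polar ⇑Q y e) • e := ⟨_, rfl⟩
  have hQy' : Q y' = 0 := by
    rw [hy'def, QuadIsom.quad_add_smul, hQe, mul_zero, add_zero, div_mul_cancel₀ _ hye]
    ring
  have hey' : polar ⇑Q e y' = polar ⇑Q e y := by
    rw [hy'def, polar_add_right, polar_smul_right, polar_self_of_sing Q e hQe, smul_zero,
      add_zero]
  have hy'W : y' ∈ W := by
    rw [hy'def]
    exact W.add_mem hyW (W.smul_mem _ heW)
  have hy'e₁ : polar ⇑Q y' e₁ = 0 := by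
    rw [hy'def, polar_add_left, polar_smul_left, hye₁, hee₁, smul_zero, add_zero]
  have hy'f₁ : polar ⇑Q y' f₁ = 0 := by
    rw [hy'def, polar_add_left, polar_smul_left, hyf₁, hef₁, smul_zero, add_zero]
  refine ⟨(polar ⇑Q e y)⁻¹ • y', W.smul_mem _ hy'W, ?_, ?_, ?_, ?_⟩
  · rw [QuadraticMap.map_smul, hQy', smul_zero]
  · rw [polar_smul_right, hey', smul_eq_mul, inv_mul_cancel₀ hey]
  · rw [polar_smul_left, hy'e₁, smul_zero]
  · rw [polar_smul_left, hy'f₁, smul_zero]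

/-- a singular partner of a singular vector -/
theorem exists_partner0 (W : Submodule F (ι → F))
    (hW : Cfsg.Geo.IsNondegenerateOn (polar ⇑Q) W) {e : ι → F} (heW : e ∈ W) (he0 : e ≠ 0)
    (hQe : Q e = 0) : ∃ f, f ∈ W ∧ Q f = 0 ∧ polar ⇑Q e f = 1 := by
  obtain ⟨y, hyW, hey⟩ := (hW e heW he0).2
  have hye : polar ⇑Q y e ≠ 0 := by rw [polar_comm]; exact hey
  obtain ⟨y', hy'def⟩ : ∃ y', y' = y + (-(Q y) / polar ⇑Q y e) • e := ⟨_, rfl⟩
  have hQy' : Q y' = 0 := by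
    rw [hy'def, QuadIsom.quad_add_smul, hQe, mul_zero, add_zero, div_mul_cancel₀ _ hye]
    ring
  have hey' : polar ⇑Q e y' = polar ⇑Q e y := by
    rw [hy'def, polar_add_right, polar_smul_right, polar_self_of_sing Q e hQe, smul_zero,
      add_zero]
  have hy'W : y' ∈ W := by
    rw [hy'def]
    exact W.add_mem hyW (W.smul_mem _ heW)
  refine ⟨(polar ⇑Q e y)⁻¹ • y', W.smul_mem _ hy'W, ?_, ?_⟩
  · rw [QuadraticMap.map_smul, hQy', smul_zero]
  · rw [polar_smul_right, hey', smul_eq_mul, inv_mul_cancel₀ hey]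

/-- a hyperbolic basis of a four-dimensional non-degenerate space of plus type -/
theorem exists_hyp_basis (W : Submodule F (ι → F)) (hdim : finrank F W = 4)
    (hW : Cfsg.Geo.IsNondegenerateOn (polar ⇑Q) W) (hplus : Cfsg.Geo.IsPlusTypeOn ⇑Q W) :
    ∃ e₁ f₁ e₂ f₂ : ι → F, e₁ ∈ W ∧ f₁ ∈ W ∧ e₂ ∈ W ∧ f₂ ∈ W ∧ Q e₁ = 0 ∧ Q f₁ = 0 ∧ Q e₂ = 0 ∧
      Q f₂ = 0 ∧ polar ⇑Q e₁ f₁ = 1 ∧ polar ⇑Q e₂ f₂ = 1 ∧ polar ⇑Q e₁ e₂ = 0 ∧
      polar ⇑Q e₁ f₂ = 0 ∧ polar ⇑Q f₁ e₂ = 0 ∧ polar ⇑Q f₁ f₂ = 0 ∧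
      ∀ x ∈ W, ∃ x₁ y₁ x₂ y₂ : F, x = x₁ • e₁ + y₁ • f₁ + x₂ • e₂ + y₂ • f₂ := by
  obtain ⟨U, hUW, hUts, hUdim⟩ := hplus
  have hU2 : finrank F U = 2 := by omega
  have hU0 : U ≠ ⊥ := by
    intro h
    rw [h, finrank_bot] at hU2
    omega
  obtain ⟨e₁, he₁U, he₁0⟩ := (Submodule.ne_bot_iff U).1 hU0
  have hQe₁ : Q e₁ = 0 := hUts e₁ he₁U
  have he₁W : e₁ ∈ W := hUW he₁U
  obtain ⟨f₁, hf₁W, hQf₁, h11⟩ := exists_partner0 W hW he₁W he₁0 hQe₁
  -- a second vector of `U`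
  obtain ⟨e', he'U, he'span⟩ : ∃ e' ∈ U, e' ∉ Submodule.span F ({e₁} : Set (ι → F)) := by
    by_contra hcon
    push Not at hcon
    have hle : U ≤ Submodule.span F ({e₁} : Set (ι → F)) := fun x hx => hcon x hx
    have h1 := Submodule.finrank_mono hle
    rw [hU2, finrank_span_singleton he₁0] at h1
    omega
  obtain ⟨e₂, he₂def⟩ : ∃ e₂, e₂ = e' - polar ⇑Q e' f₁ • e₁ := ⟨_, rfl⟩
  have he₂U : e₂ ∈ U := by
    rw [he₂def]
    exact U.sub_mem he'U (U.smul_mem _ he₁U)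
  have he₂0 : e₂ ≠ 0 := by
    intro h
    apply he'span
    rw [he₂def, sub_eq_zero] at h
    rw [h]
    exact Submodule.smul_mem _ _ (Submodule.mem_span_singleton_self e₁)
  have hQe₂ : Q e₂ = 0 := hUts e₂ he₂U
  have he₂W : e₂ ∈ W := hUW he₂U
  have h12 : polar ⇑Q e₁ e₂ = 0 := PlusGeom.polar_eq_zero_of_ts Q U hUts he₁U he₂U
  have h21 : polar ⇑Q e₂ e₁ = 0 := by rw [polar_comm]; exact h12
  have he₂f₁ : polar ⇑Q e₂ f₁ = 0 := by
    rw [he₂def, polar_sub_left, polar_smul_left, h11]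
    simp
  obtain ⟨f₂, hf₂W, hQf₂, h22, hf₂e₁, hf₂f₁⟩ := exists_partner W hW he₂W he₂0 hQe₂ he₁W hf₁W h11
    h21 he₂f₁ hQe₁ hQf₁
  have hf₁e₁ : polar ⇑Q f₁ e₁ = 1 := by rw [polar_comm]; exact h11
  have hf₂e₂ : polar ⇑Q f₂ e₂ = 1 := by rw [polar_comm]; exact h22
  have he₁f₂ : polar ⇑Q e₁ f₂ = 0 := by rw [polar_comm]; exact hf₂e₁
  have hf₁e₂ : polar ⇑Q f₁ e₂ = 0 := by rw [polar_comm]; exact he₂f₁
  have hf₁f₂ : polar ⇑Q f₁ f₂ = 0 := by rw [polar_comm]; exact hf₂f₁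
  have s1 := polar_self_of_sing Q e₁ hQe₁
  have s2 := polar_self_of_sing Q f₁ hQf₁
  have s3 := polar_self_of_sing Q e₂ hQe₂
  have s4 := polar_self_of_sing Q f₂ hQf₂
  have hli : LinearIndependent F ![e₁, f₁, e₂, f₂] := by
    rw [Fintype.linearIndependent_iff]
    intro g hg
    have hg' : g 0 • e₁ + g 1 • f₁ + g 2 • e₂ + g 3 • f₂ = 0 := by
      simpa [Fin.sum_univ_four] using hg
    clear hg
    have hg := hg'
    have c1 := congrArg (fun x => polar ⇑Q x f₁) hg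
    have c2 := congrArg (fun x => polar ⇑Q x e₁) hg
    have c3 := congrArg (fun x => polar ⇑Q x f₂) hg
    have c4 := congrArg (fun x => polar ⇑Q x e₂) hg
    simp only [polar_add_left, polar_smul_left, h11, hf₁e₁, h22, hf₂e₂, h12, h21, he₂f₁, hf₁e₂,
      hf₂e₁, he₁f₂, hf₂f₁, hf₁f₂, s1, s2, s3, s4, polar_zero_left, smul_eq_mul, mul_one,
      mul_zero, add_zero, zero_add] at c1 c2 c3 c4
    intro i
    fin_cases i
    · exact c1
    · exact c2
    · exact c3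
    · exact c4
  have hspan : Submodule.span F (Set.range ![e₁, f₁, e₂, f₂]) = W := by
    apply Submodule.eq_of_le_of_finrank_eq
    · rw [Submodule.span_le]
      rintro z ⟨i, rfl⟩
      fin_cases i
      · exact he₁W
      · exact hf₁W
      · exact he₂W
      · exact hf₂W
    · rw [finrank_span_eq_card hli, hdim, Fintype.card_fin]
  refine ⟨e₁, f₁, e₂, f₂, he₁W, hf₁W, he₂W, hf₂W, hQe₁, hQf₁, hQe₂, hQf₂, h11, h22, h12, he₁f₂,
    hf₁e₂, hf₁f₂, ?_⟩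
  intro x hx
  rw [← hspan] at hx
  obtain ⟨c, hc⟩ := (Submodule.mem_span_range_iff_exists_fun F).mp hx
  have hc' : c 0 • e₁ + c 1 • f₁ + c 2 • e₂ + c 3 • f₂ = x := by
    simpa [Fin.sum_univ_four] using hc
  exact ⟨c 0, c 1, c 2, c 3, hc'.symm⟩

section hyp4
variable {e₁ f₁ e₂ f₂ : ι → F} (hQe₁ : Q e₁ = 0) (hQf₁ : Q f₁ = 0) (hQe₂ : Q e₂ = 0)
  (hQf₂ : Q f₂ = 0) (h11 : polar ⇑Q e₁ f₁ = 1) (h22 : polar ⇑Q e₂ f₂ = 1)
  (h12 : polar ⇑Q e₁ e₂ = 0) (he₁f₂ : polar ⇑Q e₁ f₂ = 0) (hf₁e₂ : polar ⇑Q f₁ e₂ = 0)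
  (hf₁f₂ : polar ⇑Q f₁ f₂ = 0)

include hQe₁ hQf₁ hQe₂ hQf₂ h11 h22 h12 he₁f₂ hf₁e₂ hf₁f₂ in
theorem polar_hyp4 (x₁ y₁ x₂ y₂ x₁' y₁' x₂' y₂' : F) :
    polar ⇑Q (x₁ • e₁ + y₁ • f₁ + x₂ • e₂ + y₂ • f₂) (x₁' • e₁ + y₁' • f₁ + x₂' • e₂ + y₂' • f₂) =
      x₁ * y₁' + y₁ * x₁' + x₂ * y₂' + y₂ * x₂' := by
  have hf₁e₁ : polar ⇑Q f₁ e₁ = 1 := by rw [polar_comm]; exact h11
  have hf₂e₂ : polar ⇑Q f₂ e₂ = 1 := by rw [polar_comm]; exact h22
  have h21 : polar ⇑Q e₂ e₁ = 0 := by rw [polar_comm]; exact h12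
  have hf₂e₁ : polar ⇑Q f₂ e₁ = 0 := by rw [polar_comm]; exact he₁f₂
  have he₂f₁ : polar ⇑Q e₂ f₁ = 0 := by rw [polar_comm]; exact hf₁e₂
  have hf₂f₁ : polar ⇑Q f₂ f₁ = 0 := by rw [polar_comm]; exact hf₁f₂
  simp only [polar_add_left, polar_add_right, polar_smul_left, polar_smul_right, h11, hf₁e₁, h22,
    hf₂e₂, h12, h21, he₁f₂, hf₂e₁, hf₁e₂, he₂f₁, hf₁f₂, hf₂f₁, polar_self_of_sing Q e₁ hQe₁,
    polar_self_of_sing Q f₁ hQf₁, polar_self_of_sing Q e₂ hQe₂, polar_self_of_sing Q f₂ hQf₂,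
    smul_eq_mul]
  ring

include hQe₁ hQf₁ hQe₂ hQf₂ h11 h22 h12 he₁f₂ hf₁e₂ hf₁f₂ in
theorem quad_hyp4 (x₁ y₁ x₂ y₂ : F) :
    Q (x₁ • e₁ + y₁ • f₁ + x₂ • e₂ + y₂ • f₂) = x₁ * y₁ + x₂ * y₂ := by
  have hf₂e₁ : polar ⇑Q f₂ e₁ = 0 := by rw [polar_comm]; exact he₁f₂
  have he₂f₁ : polar ⇑Q e₂ f₁ = 0 := by rw [polar_comm]; exact hf₁e₂
  rw [quad_add', quad_add', quad_add']
  simp only [QuadraticMap.map_smul, hQe₁, hQf₁, hQe₂, hQf₂, polar_add_left, polar_smul_left,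
    polar_smul_right, h11, h22, h12, he₁f₂, hf₁e₂, hf₁f₂, smul_eq_mul]
  ring

end hyp4

section two
variable (hq : Fintype.card F = 2)

include hq in
theorem eq_zero_or_one (a : F) : a = 0 ∨ a = 1 := by
  by_cases ha : a = 0
  · exact Or.inl ha
  · right
    have h1 := FiniteField.pow_card_sub_one_eq_one a ha
    rw [hq] at h1
    simpa using h1

include hq in
theorem two_eq_zero2 : (2 : F) = 0 := by
  have := Nat.cast_card_eq_zero F
  rw [hq] at this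
  exact_mod_cast this

include hq in
/-- the data of a four-dimensional space of plus type over the field with two elements -/
theorem block_data_quad (W : Submodule F (ι → F)) (hdim : finrank F W = 4)
    (hW : Cfsg.Geo.IsNondegenerateOn (polar ⇑Q) W) (hplus : Cfsg.Geo.IsPlusTypeOn ⇑Q W) :
    ∃ a b c e, a ∈ W ∧ b ∈ W ∧ c ∈ W ∧ e ∈ W ∧ Q a = 1 ∧ Q b = 1 ∧ polar ⇑Q a b = 1 ∧
      Q c = 1 ∧ polar ⇑Q a c = 0 ∧ polar ⇑Q b c = 0 ∧ Q e = 0 ∧ e ≠ 0 ∧ polar ⇑Q e c ≠ 0 ∧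
      ∀ w ∈ W, Q w = 1 → (polar ⇑Q a w = 0 ∧ polar ⇑Q b w = 0) ∨ w = a ∨ w = b ∨ w = a + b := by
  obtain ⟨e₁, f₁, e₂, f₂, he₁W, hf₁W, he₂W, hf₂W, hQe₁, hQf₁, hQe₂, hQf₂, h11, h22, h12, he₁f₂,
    hf₁e₂, hf₁f₂, hspan⟩ := exists_hyp_basis W hdim hW hplus
  have h2 := two_eq_zero2 hq
  have P := polar_hyp4 hQe₁ hQf₁ hQe₂ hQf₂ h11 h22 h12 he₁f₂ hf₁e₂ hf₁f₂
  have Qf := quad_hyp4 hQe₁ hQf₁ hQe₂ hQf₂ h11 h22 h12 he₁f₂ hf₁e₂ hf₁f₂
  have hmem : ∀ x₁ y₁ x₂ y₂ : F, x₁ • e₁ + y₁ • f₁ + x₂ • e₂ + y₂ • f₂ ∈ W := fun x₁ y₁ x₂ y₂ =>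
    W.add_mem (W.add_mem (W.add_mem (W.smul_mem _ he₁W) (W.smul_mem _ hf₁W))
      (W.smul_mem _ he₂W)) (W.smul_mem _ hf₂W)
  have hab : ((1 : F) • e₁ + (1 : F) • f₁ + (1 : F) • e₂ + (0 : F) • f₂) +
      ((1 : F) • e₁ + (1 : F) • f₁ + (0 : F) • e₂ + (1 : F) • f₂) =
      (0 : F) • e₁ + (0 : F) • f₁ + (1 : F) • e₂ + (1 : F) • f₂ := by
    have h3 : ((1 : F) • e₁ + (1 : F) • f₁ + (1 : F) • e₂ + (0 : F) • f₂) +
      ((1 : F) • e₁ + (1 : F) • f₁ + (0 : F) • e₂ + (1 : F) • f₂) =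
      (2 : F) • e₁ + (2 : F) • f₁ + (1 : F) • e₂ + (1 : F) • f₂ := by module
    rw [h3, h2]
  refine ⟨(1 : F) • e₁ + (1 : F) • f₁ + (1 : F) • e₂ + (0 : F) • f₂,
    (1 : F) • e₁ + (1 : F) • f₁ + (0 : F) • e₂ + (1 : F) • f₂,
    (1 : F) • e₁ + (1 : F) • f₁ + (0 : F) • e₂ + (0 : F) • f₂,
    (1 : F) • e₁ + (0 : F) • f₁ + (0 : F) • e₂ + (0 : F) • f₂,
    hmem _ _ _ _, hmem _ _ _ _, hmem _ _ _ _, hmem _ _ _ _, ?_, ?_, ?_, ?_, ?_, ?_, ?_, ?_, ?_, ?_⟩
  · rw [Qf]; ring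
  · rw [Qf]; ring
  · rw [P]; linear_combination h2
  · rw [Qf]; ring
  · rw [P]; linear_combination h2
  · rw [P]; linear_combination h2
  · rw [Qf]; ring
  · intro h0
    have h1 : polar ⇑Q ((1 : F) • e₁ + (0 : F) • f₁ + (0 : F) • e₂ + (0 : F) • f₂)
        ((0 : F) • e₁ + (1 : F) • f₁ + (0 : F) • e₂ + (0 : F) • f₂) = 0 := by
      rw [h0]; exact polar_zero_left Q _
    rw [P] at h1
    simp at h1
  · rw [P]; simp
  · intro w hw hQw
    obtain ⟨x₁, y₁, x₂, y₂, rfl⟩ := hspan w hw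
    rw [Qf] at hQw
    rw [hab, P, P]
    rcases eq_zero_or_one hq x₁ with rfl | rfl <;>
    rcases eq_zero_or_one hq y₁ with rfl | rfl <;>
    rcases eq_zero_or_one hq x₂ with rfl | rfl <;>
    rcases eq_zero_or_one hq y₂ with rfl | rfl <;>
    first
    | (exfalso; exact absurd (show (1 : F) = 0 by linear_combination -hQw) one_ne_zero)
    | (exfalso; exact absurd (show (1 : F) = 0 by linear_combination h2 - hQw) one_ne_zero)
    | (right; left; rfl)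
    | (right; right; left; rfl)
    | (right; right; right; rfl)
    | (left; constructor <;> linear_combination h2)

include hq in
/-- four-dimensional blocks of plus type over the field with two elements -/
theorem not_maximal_quad (H : Hyp Q)
    (hD : Cfsg.Geo.IsNondegenerateMDecomposition (polar ⇑Q) 4 D) (ht : 2 ≤ t)
    (hplus : ∀ i, Cfsg.Geo.IsPlusTypeOn ⇑Q (D i)) :
    ∃ K : Subgroup (Matrix.GeneralLinearGroup ι F),
      Cfsg.Geo.decompositionStabilizer D ⊓ Cfsg.Geo.omegaGL ⇑Q < K ∧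
        K < Cfsg.Geo.omegaGL ⇑Q := by
  have h2 := two_eq_zero2 hq
  have hdata := fun i => block_data_quad hq (D i) (hD.decomp.finrank_eq i) (hD.nondegenerate i)
    (hplus i)
  choose a b c e ha hb hc he hQa hQb hab hQc hac hbc hQe he0 hec hFr using hdata
  obtain ⟨i₁, hi₁⟩ : ∃ i : Fin t, i = ⟨0, by omega⟩ := ⟨_, rfl⟩
  obtain ⟨i₂, hi₂⟩ : ∃ i : Fin t, i = ⟨1, by omega⟩ := ⟨_, rfl⟩
  have h12 : i₁ ≠ i₂ := by
    rw [hi₁, hi₂]
    intro h
    exact absurd (Fin.mk.inj_iff.mp h) (by omega)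
  have hba : ∀ i, polar ⇑Q (b i) (a i) = 1 := fun i => by rw [polar_comm]; exact hab i
  have hself : ∀ x : ι → F, polar ⇑Q x x = 0 := by
    intro x
    rw [polar_self, two_smul]
    linear_combination Q x * h2
  have htwo : ∀ x : ι → F, x + x = 0 := by
    intro x
    rw [← two_smul F x, h2, zero_smul]
  obtain ⟨u, hudef⟩ : ∃ u, u = a i₁ + a i₂ := ⟨_, rfl⟩
  obtain ⟨v, hvdef⟩ : ∃ v, v = b i₁ + b i₂ := ⟨_, rfl⟩
  have hQu : Q u = 0 := by
    rw [hudef, quad_add', hQa, hQa, orth' hD h12 (ha _) (ha _)]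
    linear_combination h2
  have hQv : Q v = 0 := by
    rw [hvdef, quad_add', hQb, hQb, orth' hD h12 (hb _) (hb _)]
    linear_combination h2
  have huv : polar ⇑Q u v = 0 := by
    rw [hudef, hvdef, polar_add_left, polar_add_right, polar_add_right, hab, hab,
      orth' hD h12 (ha _) (hb _), orth' hD h12.symm (ha _) (hb _)]
    linear_combination h2
  have hτ : ∀ x, (((siegel Q u v hQu hQv huv 1 : ↥(isometryGroup F ⇑Q)) :
      Matrix.GeneralLinearGroup ι F) : Matrix ι ι F) *ᵥ x =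
      x + polar ⇑Q u x • v - polar ⇑Q v x • u := by
    intro x
    rw [siegel_mulVec, one_mul, one_mul]
  -- polar products of `u` and `v` with the two blocks
  have pu1 : ∀ w ∈ D i₁, polar ⇑Q u w = polar ⇑Q (a i₁) w := by
    intro w hw
    rw [hudef, polar_add_left, orth' hD h12.symm (ha _) hw, add_zero]
  have pv1 : ∀ w ∈ D i₁, polar ⇑Q v w = polar ⇑Q (b i₁) w := by
    intro w hw
    rw [hvdef, polar_add_left, orth' hD h12.symm (hb _) hw, add_zero]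
  have pu2 : ∀ w ∈ D i₂, polar ⇑Q u w = polar ⇑Q (a i₂) w := by
    intro w hw
    rw [hudef, polar_add_left, orth' hD h12 (ha _) hw, zero_add]
  have pv2 : ∀ w ∈ D i₂, polar ⇑Q v w = polar ⇑Q (b i₂) w := by
    intro w hw
    rw [hvdef, polar_add_left, orth' hD h12 (hb _) hw, zero_add]
  have hQab : ∀ i, Q (b i - a i) = 1 := by
    intro i
    rw [quad_sub', hQa, hQb, hba]
    ring
  have hpres : ∀ w ∈ S Q D (1 : F),
      (((siegel Q u v hQu hQv huv 1 : ↥(isometryGroup F ⇑Q)) : Matrix.GeneralLinearGroup ι F) :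
        Matrix ι ι F) *ᵥ w ∈ S Q D (1 : F) := by
    rintro w ⟨l, hl, hQw⟩
    rw [hτ]
    by_cases hl1 : l = i₁
    · subst hl1
      rw [pu1 w hl, pv1 w hl]
      rcases hFr l w hl hQw with ⟨h1, h3⟩ | rfl | rfl | rfl
      · rw [h1, h3, zero_smul, zero_smul, add_zero, sub_zero]
        exact ⟨l, hl, hQw⟩
      · rw [hself, hba, zero_smul, add_zero, one_smul, hudef]
        refine ⟨i₂, ?_, ?_⟩
        · have : a l - (a l + a i₂) = -a i₂ := by abel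
          rw [this]; exact (D i₂).neg_mem (ha _)
        · have : a l - (a l + a i₂) = -a i₂ := by abel
          rw [this, QuadraticMap.map_neg, hQa]
      · rw [hself, hab, zero_smul, sub_zero, one_smul, hvdef]
        have : b l + (b l + b i₂) = b i₂ := by
          rw [← add_assoc, htwo, zero_add]
        rw [this]
        exact ⟨i₂, hb _, hQb _⟩
      · rw [polar_add_right, polar_add_right, hself, hself, hab, hba, zero_add, add_zero,
          one_smul, one_smul, hudef, hvdef]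
        have : a l + b l + (b l + b i₂) - (a l + a i₂) = b i₂ - a i₂ := by
          have h5 := htwo (b l)
          have : a l + b l + (b l + b i₂) - (a l + a i₂) = (b l + b l) + (b i₂ - a i₂) := by abel
          rw [this, h5, zero_add]
        rw [this]
        exact ⟨i₂, (D i₂).sub_mem (hb _) (ha _), hQab _⟩
    · by_cases hl2 : l = i₂
      · subst hl2
        rw [pu2 w hl, pv2 w hl]
        rcases hFr l w hl hQw with ⟨h1, h3⟩ | rfl | rfl | rfl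
        · rw [h1, h3, zero_smul, zero_smul, add_zero, sub_zero]
          exact ⟨l, hl, hQw⟩
        · rw [hself, hba, zero_smul, add_zero, one_smul, hudef]
          refine ⟨i₁, ?_, ?_⟩
          · have : a l - (a i₁ + a l) = -a i₁ := by abel
            rw [this]; exact (D i₁).neg_mem (ha _)
          · have : a l - (a i₁ + a l) = -a i₁ := by abel
            rw [this, QuadraticMap.map_neg, hQa]
        · rw [hself, hab, zero_smul, sub_zero, one_smul, hvdef]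
          have : b l + (b i₁ + b l) = b i₁ := by
            have h5 := htwo (b l)
            have : b l + (b i₁ + b l) = (b l + b l) + b i₁ := by abel
            rw [this, h5, zero_add]
          rw [this]
          exact ⟨i₁, hb _, hQb _⟩
        · rw [polar_add_right, polar_add_right, hself, hself, hab, hba, zero_add, add_zero,
            one_smul, one_smul, hudef, hvdef]
          have : a l + b l + (b i₁ + b l) - (a i₁ + a l) = b i₁ - a i₁ := by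
            have h5 := htwo (b l)
            have : a l + b l + (b i₁ + b l) - (a i₁ + a l) = (b l + b l) + (b i₁ - a i₁) := by
              abel
            rw [this, h5, zero_add]
          rw [this]
          exact ⟨i₁, (D i₁).sub_mem (hb _) (ha _), hQab _⟩
      · have e1 : polar ⇑Q u w = 0 := by
          rw [hudef, polar_add_left, orth' hD (Ne.symm hl1) (ha _) hl,
            orth' hD (Ne.symm hl2) (ha _) hl, add_zero]
        have e2 : polar ⇑Q v w = 0 := by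
          rw [hvdef, polar_add_left, orth' hD (Ne.symm hl1) (hb _) hl,
            orth' hD (Ne.symm hl2) (hb _) hl, add_zero]
        rw [e1, e2, zero_smul, zero_smul, add_zero, sub_zero]
        exact ⟨l, hl, hQw⟩
  have hinv : ∀ x, (((siegel Q u v hQu hQv huv 1 : ↥(isometryGroup F ⇑Q)) :
      Matrix.GeneralLinearGroup ι F) : Matrix ι ι F) *ᵥ
      ((((siegel Q u v hQu hQv huv 1 : ↥(isometryGroup F ⇑Q)) :
      Matrix.GeneralLinearGroup ι F) : Matrix ι ι F) *ᵥ x) = x := by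
    intro x
    rw [Matrix.mulVec_mulVec, ← Units.val_mul, ← Subgroup.coe_mul, siegel_mul_siegel]
    have h11 : (1 : F) + 1 = 0 := by linear_combination h2
    rw [h11, siegel_mulVec]
    simp
  have hmem : ((siegel Q u v hQu hQv huv 1 : ↥(isometryGroup F ⇑Q)) :
      Matrix.GeneralLinearGroup ι F) ∈ midGroup Q D (1 : F) := by
    refine ⟨siegel_mem_omegaGL H u v hQu hQv huv 1, fun x => ⟨fun h => ?_, hpres x⟩⟩
    have := hpres _ h
    rwa [hinv] at this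
  refine ⟨midGroup Q D (1 : F), lt_of_le_of_ne (stab_le_mid (1 : F)) ?_,
    lt_of_le_of_ne (fun g hg => hg.1) (mid_ne_omega hD H h12 (he i₁) (hQe i₁) (he i₂) (hQe i₂)
      (he0 i₂) (hc i₁) (hQc i₁) one_ne_zero (hec i₁))⟩
  intro heq
  rw [← heq] at hmem
  obtain ⟨⟨σ, hσ⟩, -⟩ := hmem
  have hc0 : c i₁ ≠ 0 := by
    intro h0
    have := hQc i₁
    rw [h0, map_zero] at this
    exact zero_ne_one this
  have hfix : (((siegel Q u v hQu hQv huv 1 : ↥(isometryGroup F ⇑Q)) :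
      Matrix.GeneralLinearGroup ι F) : Matrix ι ι F) *ᵥ c i₁ = c i₁ := by
    rw [hτ, pu1 _ (hc _), pv1 _ (hc _), hac, hbc, zero_smul, zero_smul, add_zero, sub_zero]
  have hσ1 : σ i₁ = i₁ := by
    by_contra hne
    have h3 : c i₁ ∈ D (σ i₁) := by
      rw [← hσ i₁]
      exact ⟨c i₁, hc _, by rw [Matrix.toLin'_apply, hfix]⟩
    exact hc0 (inter_eq_zero hD (Ne.symm hne) (hc _) h3)
  have hmove : (((siegel Q u v hQu hQv huv 1 : ↥(isometryGroup F ⇑Q)) :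
      Matrix.GeneralLinearGroup ι F) : Matrix ι ι F) *ᵥ a i₁ = -a i₂ := by
    rw [hτ, pu1 _ (ha _), pv1 _ (ha _), hself, hba, zero_smul, add_zero, one_smul, hudef]
    abel
  have h4 : -a i₂ ∈ D i₁ := by
    have : (((siegel Q u v hQu hQv huv 1 : ↥(isometryGroup F ⇑Q)) :
        Matrix.GeneralLinearGroup ι F) : Matrix ι ι F) *ᵥ a i₁ ∈ D (σ i₁) := by
      rw [← hσ i₁]
      exact ⟨a i₁, ha _, by rw [Matrix.toLin'_apply]⟩
    rwa [hmove, hσ1] at this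
  have h5 : a i₂ = 0 := by
    have h6 := inter_eq_zero hD h12 h4 ((D i₂).neg_mem (ha _))
    exact neg_eq_zero.mp h6
  have := hQa i₂
  rw [h5, map_zero] at this
  exact zero_ne_one this

end two

end Cfsg.Agent.Lib.Helper5.OrthDecompQuad
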