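import Mathlib
import Cfsg.Prelude
import Cfsg.Agent.Lib.Helper5.TensorSub

set_option autoImplicit false
set_option linter.unusedSectionVars false
set_option linter.unusedVariables false
open Cfsg

/-! Over the field with two elements, the stabiliser of a tensor decomposition with a factor of
dimension two normalises a cyclic group of order three, so it is not maximal. -/

namespace Cfsg.Agent.Lib.Helper5.TensorTwoF2

open Matrix Kronecker Cfsg.Agent.Lib.Helper5.TensorSub

variable {F : Type*} [Field F]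

/-- an element of order three -/
def omega : Matrix.GeneralLinearGroup (Fin 2) F :=
  ⟨!![0, 1; 1, 1], !![-1, 1; 1, 0],
    by ext i j; fin_cases i <;> fin_cases j <;> simp [Matrix.mul_apply, Fin.sum_univ_two],
    by ext i j; fin_cases i <;> fin_cases j <;> simp [Matrix.mul_apply, Fin.sum_univ_two]⟩

theorem coe_omega : ((omega : Matrix.GeneralLinearGroup (Fin 2) F) : Matrix (Fin 2) (Fin 2) F) =
    !![0, 1; 1, 1] := rfl

theorem omega_ne_one : (omega : Matrix.GeneralLinearGroup (Fin 2) F) ≠ 1 := by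
  intro h
  have h1 := congrArg (fun g : Matrix.GeneralLinearGroup (Fin 2) F =>
    (g : Matrix (Fin 2) (Fin 2) F) 0 0) h
  simp [coe_omega] at h1

theorem omega_pow_three (h2 : (2 : F) = 0) :
    (omega : Matrix.GeneralLinearGroup (Fin 2) F) ^ 3 = 1 := by
  apply Units.ext
  rw [Units.val_pow_eq_pow_val, coe_omega, Units.val_one]
  have h11 : (1 : F) + 1 = 0 := by rw [one_add_one_eq_two]; exact h2
  ext i j
  fin_cases i <;> fin_cases j <;>
    simp [pow_succ, Matrix.mul_apply, Fin.sum_univ_two, h11]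

variable [Fintype F]

theorem card_gl2 (hq : Fintype.card F = 2) :
    Nat.card (Matrix.GeneralLinearGroup (Fin 2) F) = 6 := by
  rw [Matrix.card_GL_field, hq]
  simp [Fin.prod_univ_two]

theorem two_eq_zero (hq : Fintype.card F = 2) : (2 : F) = 0 := by
  have := FiniteField.cast_card_eq_zero F
  rw [hq] at this
  exact_mod_cast this

/-- the cyclic group of order three is normal -/
theorem zpowers_normal (hq : Fintype.card F = 2) :
    (Subgroup.zpowers (omega : Matrix.GeneralLinearGroup (Fin 2) F)).Normal := by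
  apply Subgroup.normal_of_index_eq_two
  have h3 : orderOf (omega : Matrix.GeneralLinearGroup (Fin 2) F) = 3 :=
    orderOf_eq_prime (omega_pow_three (two_eq_zero hq)) omega_ne_one
  have h1 := Subgroup.card_mul_index
    (Subgroup.zpowers (omega : Matrix.GeneralLinearGroup (Fin 2) F))
  rw [Nat.card_zpowers, h3, card_gl2 hq] at h1
  omega

theorem special_eq_top (hq : Fintype.card F = 2) {ι : Type} [Fintype ι] [DecidableEq ι] :
    Cfsg.Geo.specialLinear ι F = ⊤ := by
  rw [eq_top_iff]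
  intro g _
  classical
  have hc : Fintype.card Fˣ = 1 := by rw [Fintype.card_units, hq]
  have : Subsingleton Fˣ := Fintype.card_le_one_iff_subsingleton.mp hc.le
  exact MonoidHom.mem_ker.mpr (Subsingleton.elim _ _)


section main
variable {n₂ : ℕ}

/-- the embedding of the first factor -/
def kronLeft (n₂ : ℕ) : Matrix.GeneralLinearGroup (Fin 2) F →*
    Matrix.GeneralLinearGroup (Fin 2 × Fin n₂) F where
  toFun a := kron a 1
  map_one' := kron_one
  map_mul' a c := by
    have := kron_mul a c (1 : Matrix.GeneralLinearGroup (Fin n₂) F) 1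
    rwa [mul_one] at this

/-- the cyclic group of order three inside the Kronecker subgroup -/
def Z (n₂ : ℕ) : Subgroup (Matrix.GeneralLinearGroup (Fin 2 × Fin n₂) F) :=
  (Subgroup.zpowers (omega : Matrix.GeneralLinearGroup (Fin 2) F)).map (kronLeft n₂)

theorem conj_mem_Z (hq : Fintype.card F = 2) (a : Matrix.GeneralLinearGroup (Fin 2) F)
    (b : Matrix.GeneralLinearGroup (Fin n₂) F)
    (h : Matrix.GeneralLinearGroup (Fin 2 × Fin n₂) F) (hh : h ∈ Z (F := F) n₂) :
    kron a b * h * (kron a b)⁻¹ ∈ Z (F := F) n₂ := by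
  obtain ⟨c, hc, rfl⟩ := hh
  have hn := zpowers_normal (F := F) hq
  refine ⟨a * c * a⁻¹, hn.conj_mem c hc a, ?_⟩
  show kron (a * c * a⁻¹) 1 = kron a b * kron c 1 * (kron a b)⁻¹
  rw [kron_inv, ← kron_mul, ← kron_mul, mul_one, mul_inv_cancel]

theorem kron_mem_normalizer (hq : Fintype.card F = 2) (a : Matrix.GeneralLinearGroup (Fin 2) F)
    (b : Matrix.GeneralLinearGroup (Fin n₂) F) :
    kron a b ∈ Subgroup.normalizer ((Z (F := F) n₂ : Subgroup _) : Set _) := by
  rw [Subgroup.mem_normalizer_iff]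
  intro h
  constructor
  · exact conj_mem_Z hq a b h
  · intro hh
    have := conj_mem_Z hq a⁻¹ b⁻¹ _ hh
    rw [← kron_inv] at this
    have e : (kron a b)⁻¹ * (kron a b * h * (kron a b)⁻¹) * (kron a b)⁻¹⁻¹ = h := by group
    rwa [e] at this

/-- the diagonal idempotent -/
def d₀ (j₀ : Fin n₂) : Matrix (Fin n₂) (Fin n₂) F := Matrix.single j₀ j₀ 1

theorem d₀_mul (j₀ : Fin n₂) : d₀ (F := F) j₀ * d₀ j₀ = d₀ j₀ := by
  unfold d₀
  rw [Matrix.single_mul_single_same, mul_one]

/-- an element acting on one slot only -/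
def slotMat (a : Matrix (Fin 2) (Fin 2) F) (j₀ : Fin n₂) :
    Matrix (Fin 2 × Fin n₂) (Fin 2 × Fin n₂) F :=
  a ⊗ₖ d₀ j₀ + (1 : Matrix (Fin 2) (Fin 2) F) ⊗ₖ (1 - d₀ j₀)

theorem slotMat_mul (a c : Matrix (Fin 2) (Fin 2) F) (j₀ : Fin n₂) :
    slotMat a j₀ * slotMat c j₀ = slotMat (a * c) j₀ := by
  have hDE : d₀ (F := F) j₀ * (1 - d₀ j₀) = 0 := by
    rw [Matrix.mul_sub, Matrix.mul_one, d₀_mul, sub_self]
  have hED : (1 - d₀ (F := F) j₀) * d₀ j₀ = 0 := by
    rw [Matrix.sub_mul, Matrix.one_mul, d₀_mul, sub_self]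
  have hEE : (1 - d₀ (F := F) j₀) * (1 - d₀ j₀) = 1 - d₀ j₀ := by
    rw [Matrix.mul_sub, Matrix.mul_one, hED, sub_zero]
  unfold slotMat
  rw [Matrix.add_mul, Matrix.mul_add, Matrix.mul_add, ← Matrix.mul_kronecker_mul,
    ← Matrix.mul_kronecker_mul, ← Matrix.mul_kronecker_mul, ← Matrix.mul_kronecker_mul,
    d₀_mul, hDE, hED, hEE, Matrix.kroneckerMap_zero_right, Matrix.kroneckerMap_zero_right,
    add_zero, zero_add, Matrix.one_mul]
  · intro x; exact mul_zero x
  · intro x; exact mul_zero x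

theorem slotMat_one (j₀ : Fin n₂) : slotMat (1 : Matrix (Fin 2) (Fin 2) F) j₀ = 1 := by
  unfold slotMat
  rw [← Matrix.kroneckerMap_add_right]
  · rw [add_sub_cancel, Matrix.one_kronecker_one]
  · intro a b c; exact mul_add a b c

/-- the slot element as an invertible matrix -/
def slot (a : Matrix.GeneralLinearGroup (Fin 2) F) (j₀ : Fin n₂) :
    Matrix.GeneralLinearGroup (Fin 2 × Fin n₂) F :=
  ⟨slotMat (a : Matrix (Fin 2) (Fin 2) F) j₀,
    slotMat ((a⁻¹ : Matrix.GeneralLinearGroup (Fin 2) F) : Matrix (Fin 2) (Fin 2) F) j₀,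
    by rw [slotMat_mul, ← Units.val_mul, mul_inv_cancel, Units.val_one, slotMat_one],
    by rw [slotMat_mul, ← Units.val_mul, inv_mul_cancel, Units.val_one, slotMat_one]⟩

theorem slot_comm (a c : Matrix.GeneralLinearGroup (Fin 2) F) (hac : a * c = c * a)
    (j₀ : Fin n₂) : slot a j₀ * kron c 1 = kron c 1 * slot a j₀ := by
  apply Units.ext
  rw [Units.val_mul, Units.val_mul, coe_kron, Units.val_one]
  show slotMat (a : Matrix (Fin 2) (Fin 2) F) j₀ * _ = _ * slotMat (a : Matrix (Fin 2) (Fin 2) F) j₀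
  unfold slotMat
  rw [Matrix.add_mul, Matrix.mul_add, ← Matrix.mul_kronecker_mul, ← Matrix.mul_kronecker_mul,
    ← Matrix.mul_kronecker_mul, ← Matrix.mul_kronecker_mul, Matrix.mul_one, Matrix.one_mul,
    Matrix.mul_one, Matrix.one_mul, Matrix.mul_one, Matrix.one_mul, ← Units.val_mul,
    ← Units.val_mul, hac]

theorem slot_mem_normalizer (j₀ : Fin n₂) :
    slot (omega : Matrix.GeneralLinearGroup (Fin 2) F) j₀ ∈
      Subgroup.normalizer ((Z (F := F) n₂ : Subgroup _) : Set _) := by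
  rw [Subgroup.mem_normalizer_iff]
  have key : ∀ h ∈ Z (F := F) n₂, slot omega j₀ * h * (slot omega j₀)⁻¹ = h := by
    rintro h ⟨c, hc, rfl⟩
    obtain ⟨k, rfl⟩ := Subgroup.mem_zpowers_iff.mp hc
    have hcomm : (omega : Matrix.GeneralLinearGroup (Fin 2) F) * omega ^ k = omega ^ k * omega :=
      (Commute.refl _).zpow_right k
    show slot omega j₀ * kron (omega ^ k) 1 * (slot omega j₀)⁻¹ = kron (omega ^ k) 1
    rw [slot_comm _ _ hcomm, mul_inv_cancel_right]
  intro h
  constructor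
  · intro hh
    rw [key h hh]; exact hh
  · intro hh
    obtain ⟨h', hh'⟩ : ∃ h', h' = slot (omega : Matrix.GeneralLinearGroup (Fin 2) F) j₀ * h *
        (slot omega j₀)⁻¹ := ⟨_, rfl⟩
    rw [← hh'] at hh
    have c1 : slot (omega : Matrix.GeneralLinearGroup (Fin 2) F) j₀ * h' = h' * slot omega j₀ :=
      mul_inv_eq_iff_eq_mul.mp (key h' hh)
    have c2 : h = (slot (omega : Matrix.GeneralLinearGroup (Fin 2) F) j₀)⁻¹ *
        (h' * slot omega j₀) := by
      rw [hh']; group
    rw [← c1, inv_mul_cancel_left] at c2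
    rw [c2]; exact hh

theorem slot_not_kron (j₀ j₁ : Fin n₂) (hj : j₀ ≠ j₁) (a : Matrix.GeneralLinearGroup (Fin 2) F)
    (b : Matrix.GeneralLinearGroup (Fin n₂) F) :
    slot (omega : Matrix.GeneralLinearGroup (Fin 2) F) j₀ ≠ kron a b := by
  intro h
  have hm : slotMat ((omega : Matrix.GeneralLinearGroup (Fin 2) F) : Matrix (Fin 2) (Fin 2) F) j₀ =
      (a : Matrix (Fin 2) (Fin 2) F) ⊗ₖ (b : Matrix (Fin n₂) (Fin n₂) F) :=
    congrArg (fun g : Matrix.GeneralLinearGroup (Fin 2 × Fin n₂) F =>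
      (g : Matrix (Fin 2 × Fin n₂) (Fin 2 × Fin n₂) F)) h
  have e1 := congrFun (congrFun hm (0, j₁)) (1, j₁)
  have e2 := congrFun (congrFun hm (0, j₁)) (0, j₁)
  have e3 := congrFun (congrFun hm (0, j₀)) (1, j₀)
  simp only [slotMat, d₀, coe_omega, Matrix.add_apply, Matrix.kroneckerMap_apply,
    Matrix.sub_apply, Matrix.one_apply, Matrix.single_apply] at e1 e2 e3
  simp [hj, hj.symm] at e1 e2 e3
  rcases e1 with e1 | e1
  · rw [e1, zero_mul] at e3
    exact one_ne_zero e3
  · rw [e1, mul_zero] at e2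
    exact one_ne_zero e2


/-- a transvection -/
def tv (i j : Fin 2 × Fin n₂) (hij : i ≠ j) : Matrix.GeneralLinearGroup (Fin 2 × Fin n₂) F :=
  ⟨Matrix.transvection i j 1, Matrix.transvection i j (-1),
    by rw [Matrix.transvection_mul_transvection_same _ _ hij, add_neg_cancel,
      Matrix.transvection_zero],
    by rw [Matrix.transvection_mul_transvection_same _ _ hij, neg_add_cancel,
      Matrix.transvection_zero]⟩

theorem tv_not_mem_normalizer (j₀ j₁ : Fin n₂) (hj : j₀ ≠ j₁) :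
    tv (F := F) ((1 : Fin 2), j₁) ((1 : Fin 2), j₀) (by
      intro h; exact hj (Prod.mk.inj h).2.symm) ∉
      Subgroup.normalizer ((Z (F := F) n₂ : Subgroup _) : Set _) := by
  intro hmem
  rw [Subgroup.mem_normalizer_iff] at hmem
  have hω : kron (omega : Matrix.GeneralLinearGroup (Fin 2) F) 1 ∈ Z (F := F) n₂ :=
    ⟨omega, Subgroup.mem_zpowers _, rfl⟩
  obtain ⟨c, -, hc⟩ := (hmem _).mp hω
  have hc' : kron c (1 : Matrix.GeneralLinearGroup (Fin n₂) F) *
      tv ((1 : Fin 2), j₁) ((1 : Fin 2), j₀) (by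
      intro h; exact hj (Prod.mk.inj h).2.symm) =
      tv ((1 : Fin 2), j₁) ((1 : Fin 2), j₀) (by
      intro h; exact hj (Prod.mk.inj h).2.symm) * kron omega 1 := by
    have : (kronLeft n₂) c = kron c 1 := rfl
    rw [← this, hc]; group
  have hm := congrArg (fun g : Matrix.GeneralLinearGroup (Fin 2 × Fin n₂) F =>
    (g : Matrix (Fin 2 × Fin n₂) (Fin 2 × Fin n₂) F) ((1 : Fin 2), j₁) ((0 : Fin 2), j₀)) hc'
  simp only [Units.val_mul, coe_kron, tv, Matrix.transvection, Matrix.mul_add, Matrix.add_mul,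
    Matrix.mul_one, Matrix.one_mul, Matrix.add_apply, Matrix.single_mul_apply_same,
    Matrix.kroneckerMap_apply, Units.val_one, coe_omega] at hm
  rw [Matrix.mul_single_apply_of_ne] at hm
  · simp [hj.symm] at hm
  · intro h
    have := (Prod.mk.inj h).1
    exact absurd this (by decide)

end main

section final
variable {n n₂ : ℕ}

theorem not_maximal (hq : Fintype.card F = 2) (hn₂ : 2 ≤ n₂) (e : Fin n ≃ Fin 2 × Fin n₂)
    (P : Matrix.GeneralLinearGroup (Fin n) F) :
    ∃ K : Subgroup (Matrix.GeneralLinearGroup (Fin n) F),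
      Cfsg.Geo.tensorProductSubgroup 2 n₂ e P ⊓ Cfsg.Geo.specialLinear (Fin n) F < K ∧
        K < Cfsg.Geo.specialLinear (Fin n) F := by
  have hnorm := Subgroup.map_equiv_normalizer_eq (Z (F := F) n₂) (Phi e P)
  refine ⟨Subgroup.normalizer (((Z (F := F) n₂).map (Phi e P).toMonoidHom : Subgroup _) : Set _) ⊓
    Cfsg.Geo.specialLinear (Fin n) F, lt_of_le_of_ne ?_ ?_, lt_of_le_of_ne inf_le_right ?_⟩
  · apply inf_le_inf_right
    intro g hg
    obtain ⟨a, b, rfl⟩ := (mem_tensor e P g).mp hg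
    rw [← hnorm]
    exact ⟨kron a b, kron_mem_normalizer hq a b, rfl⟩
  · intro heq
    have h1 : Phi e P (slot (omega : Matrix.GeneralLinearGroup (Fin 2) F) ⟨0, by omega⟩) ∈
        Subgroup.normalizer (((Z (F := F) n₂).map (Phi e P).toMonoidHom : Subgroup _) : Set _) ⊓
          Cfsg.Geo.specialLinear (Fin n) F := by
      refine ⟨?_, ?_⟩
      · rw [← hnorm]
        exact ⟨_, slot_mem_normalizer _, rfl⟩
      · rw [special_eq_top hq]; trivial
    rw [← heq] at h1
    obtain ⟨a, b, hab⟩ := (mem_tensor e P _).mp h1.1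
    exact slot_not_kron (⟨0, by omega⟩ : Fin n₂) ⟨1, by omega⟩ (by
      intro h; exact absurd (Fin.mk.inj_iff.mp h) (by decide)) a b ((Phi e P).injective hab)
  · intro heq
    have h1 : Phi e P (tv (F := F) ((1 : Fin 2), (⟨1, by omega⟩ : Fin n₂))
        ((1 : Fin 2), (⟨0, by omega⟩ : Fin n₂)) (by
          intro h
          exact absurd (Fin.mk.inj_iff.mp (Prod.mk.inj h).2) (by decide))) ∈
        Cfsg.Geo.specialLinear (Fin n) F := by
      rw [special_eq_top hq]; trivial
    rw [← heq] at h1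
    have h2 := h1.1
    rw [← hnorm] at h2
    obtain ⟨x, hx, hxe⟩ := h2
    have hxe' := (Phi e P).injective hxe
    rw [hxe'] at hx
    exact tv_not_mem_normalizer (⟨0, by omega⟩ : Fin n₂) ⟨1, by omega⟩ (by
      intro h; exact absurd (Fin.mk.inj_iff.mp h) (by decide)) hx

end final

end Cfsg.Agent.Lib.Helper5.TensorTwoF2
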