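import Mathlib
import Cfsg.Prelude
import Cfsg.Agent.Lib.Helper5.TensorTwoF2
import Cfsg.Agent.Lib.Helper5.TensorFormSub
import Cfsg.Agent.Lib.Helper5.OrthFrameThree

set_option autoImplicit false
set_option linter.unusedSectionVars false
set_option linter.unusedVariables false
open Cfsg

/-! Over the field with two elements, the stabiliser in `Ω(Q)` of a tensor decomposition
`Sp_2 ⊗ Sp_n` normalises a cyclic group of order three and is not maximal. -/

namespace Cfsg.Agent.Lib.Helper5.TensorOmegaTwoF2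

open Matrix Kronecker QuadraticMap Cfsg.Agent.Lib.Helper5.TensorSub
  Cfsg.Agent.Lib.Helper5.TensorFormSub Cfsg.Agent.Lib.Helper5.TensorTwoF2
  Cfsg.Agent.Lib.Helper5.CartanDieudonne Cfsg.Agent.Lib.Helper5.Refl
  Cfsg.Agent.Lib.Helper5.OrthSingularMax

variable {F : Type*} [Field F] [Fintype F] {ι : Type} [Fintype ι] [DecidableEq ι] {n₂ : ℕ}
  {Q : QuadraticForm F (ι → F)} (e : ι ≃ Fin 2 × Fin n₂) (P : Matrix.GeneralLinearGroup ι F)

/-- the first basis vector of the plane -/
def E₀ : Fin 2 → F := Pi.single 0 1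
/-- the second basis vector of the plane -/
def E₁ : Fin 2 → F := Pi.single 1 1

/-- general vectors -/
def vec (y y' : Fin n₂ → F) : ι → F := emb e P (pt E₀ y) + emb e P (pt E₁ y')

theorem vec_add (y y' z z' : Fin n₂ → F) :
    vec e P y y' + vec e P z z' = vec e P (y + z) (y' + z') := by
  unfold vec
  rw [pt_add_right, pt_add_right, emb_add, emb_add]
  abel

theorem vec_smul (r : F) (y y' : Fin n₂ → F) : r • vec e P y y' = vec e P (r • y) (r • y') := by
  unfold vec
  rw [pt_smul_right, pt_smul_right, emb_smul, emb_smul, smul_add]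

theorem vec_surj (u : ι → F) : ∃ y y', u = vec e P y y' := by
  obtain ⟨X, rfl⟩ := emb_surjective e P u
  refine ⟨fun k => X (0, k), fun k => X (1, k), ?_⟩
  unfold vec
  rw [← emb_add]
  congr 1
  ext ⟨i, k⟩
  fin_cases i <;> simp [pt, E₀, E₁]

theorem vec_injective {y y' z z' : Fin n₂ → F} (h : vec e P y y' = vec e P z z') :
    y = z ∧ y' = z' := by
  unfold vec at h
  rw [← emb_add, ← emb_add] at h
  have h1 := emb_injective e P h
  constructor
  · ext k
    have := congrFun h1 (0, k)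
    simpa [pt, E₀, E₁] using this
  · ext k
    have := congrFun h1 (1, k)
    simpa [pt, E₀, E₁] using this

section form
variable (hq : Fintype.card F = 2) {f₁ : (Fin 2 → F) → (Fin 2 → F) → F}
  {f₂ : (Fin n₂ → F) → (Fin n₂ → F) → F} (hf₁ : Cfsg.Geo.IsSymplecticForm f₁)
  (hf₂ : Cfsg.Geo.IsSymplecticForm f₂) {c : F} (hc0 : c ≠ 0)
  (hc : ∀ x y : Fin 2 × Fin n₂ → F,
      polar ⇑Q ((P : Matrix ι ι F) *ᵥ (x ∘ e)) ((P : Matrix ι ι F) *ᵥ (y ∘ e)) =
        c * Cfsg.Geo.formOfGram id (Cfsg.Geo.gramMatrix f₁ ⊗ₖ Cfsg.Geo.gramMatrix f₂) x y)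
  (hpure : ∀ (x₁ : Fin 2 → F) (x₂ : Fin n₂ → F), Q (emb e P (pt x₁ x₂)) = 0)

include hq in
theorem neg_eq (x : F) : -x = x := by
  have h2 := two_eq_zero hq
  linear_combination (-x) * h2

include hq in
theorem eq_one_of_ne_zero {x : F} (hx : x ≠ 0) : x = 1 := by
  have h1 := FiniteField.pow_card_sub_one_eq_one x hx
  rw [hq] at h1
  simpa using h1

include hq hf₁ hc0 in
theorem kappa : c * f₁ E₀ E₁ = 1 := by
  apply eq_one_of_ne_zero hq
  apply mul_ne_zero hc0
  have h0 : (E₀ : Fin 2 → F) ≠ 0 := by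
    intro h
    have := congrFun h 0
    simp [E₀] at this
  obtain ⟨-, ⟨x, hx⟩⟩ := hf₁.nondegenerate E₀ h0
  intro h
  apply hx
  have hxe : x = x 0 • E₀ + x 1 • E₁ := by
    ext i
    fin_cases i <;> simp [E₀, E₁]
  rw [hxe, hf₁.bilinear.add_right, hf₁.bilinear.smul_right, hf₁.bilinear.smul_right,
    hf₁.alternating, h, mul_zero, mul_zero, add_zero]

include hq hf₁ hf₂ hc0 hc in
theorem polar_vec (y y' z z' : Fin n₂ → F) :
    polar ⇑Q (vec e P y y') (vec e P z z') = f₂ y z' + f₂ y' z := by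
  have hk := kappa hq hf₁ hc0
  have hk' : c * f₁ E₁ E₀ = 1 := by
    rw [hf₁.skew, mul_neg, neg_eq hq]; exact hk
  unfold vec
  rw [polar_add_left, polar_add_right, polar_add_right,
    form_pt e P hf₁.bilinear hf₂.bilinear hc, form_pt e P hf₁.bilinear hf₂.bilinear hc,
    form_pt e P hf₁.bilinear hf₂.bilinear hc, form_pt e P hf₁.bilinear hf₂.bilinear hc,
    hf₁.alternating, hf₁.alternating, zero_mul, mul_zero, zero_mul, mul_zero, zero_add, add_zero,
    ← mul_assoc, ← mul_assoc, hk, hk', one_mul, one_mul]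

include hq hf₁ hf₂ hc0 hc hpure in
theorem quad_vec (y y' : Fin n₂ → F) : Q (vec e P y y') = f₂ y y' := by
  have hk := kappa hq hf₁ hc0
  unfold vec
  rw [quad_add', hpure, hpure, zero_add, zero_add, form_pt e P hf₁.bilinear hf₂.bilinear hc,
    ← mul_assoc, hk, one_mul]

theorem omega_E₀ : ((omega : Matrix.GeneralLinearGroup (Fin 2) F) : Matrix (Fin 2) (Fin 2) F) *ᵥ
    E₀ = E₁ := by
  ext i
  fin_cases i <;> simp [coe_omega, E₀, E₁, Matrix.mulVec, dotProduct, Fin.sum_univ_two]

theorem omega_E₁ : ((omega : Matrix.GeneralLinearGroup (Fin 2) F) : Matrix (Fin 2) (Fin 2) F) *ᵥ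
    E₁ = E₀ + E₁ := by
  ext i
  fin_cases i <;> simp [coe_omega, E₀, E₁, Matrix.mulVec, dotProduct, Fin.sum_univ_two]

/-- the action of the element of order three -/
theorem W_vec (y y' : Fin n₂ → F) :
    ((Phi e P (kron (omega : Matrix.GeneralLinearGroup (Fin 2) F) 1) :
      Matrix.GeneralLinearGroup ι F) : Matrix ι ι F) *ᵥ vec e P y y' =
      vec e P y' (y + y') := by
  unfold vec
  rw [Matrix.mulVec_add, Phi_kron_emb_pt, Phi_kron_emb_pt, omega_E₀, omega_E₁, Units.val_one,
    Matrix.one_mulVec, Matrix.one_mulVec, pt_add_left, emb_add, pt_add_right, emb_add]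
  abel

include hq hf₁ hf₂ hc0 hc hpure in
/-- reflections -/
theorem refl_vec {s t : Fin n₂ → F} (hst : f₂ s t = 1) (ha : Q (vec e P s t) ≠ 0)
    (z z' : Fin n₂ → F) :
    act Q (reflection Q (vec e P s t) ha) (vec e P z z') =
      vec e P z z' + (f₂ s z' + f₂ t z) • vec e P s t := by
  rw [act_reflection, quad_vec e P hq hf₁ hf₂ hc0 hc hpure, hst, inv_one, one_mul,
    polar_vec e P hq hf₁ hf₂ hc0 hc, sub_eq_add_neg, ← neg_smul, neg_eq hq]

end form


section geometry
variable (hq : Fintype.card F = 2) {f₂ : (Fin n₂ → F) → (Fin n₂ → F) → F}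
  (hf₂ : Cfsg.Geo.IsSymplecticForm f₂)

include hq hf₂ in
theorem symm₂ (x y : Fin n₂ → F) : f₂ x y = f₂ y x := by
  rw [hf₂.skew, neg_eq hq]

include hq hf₂ in
/-- two orthogonal hyperbolic pairs -/
theorem exists_pairs (hn₂ : 3 ≤ n₂) :
    ∃ s t s' t' : Fin n₂ → F, f₂ s t = 1 ∧ f₂ s' t' = 1 ∧ f₂ s s' = 0 ∧ f₂ s t' = 0 ∧
      f₂ t s' = 0 ∧ f₂ t t' = 0 := by
  have hb := hf₂.bilinear
  have h2 := two_eq_zero hq
  have hs : (Pi.single (⟨0, by omega⟩ : Fin n₂) (1 : F) : Fin n₂ → F) ≠ 0 := by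
    intro h
    have := congrFun h ⟨0, by omega⟩
    simp at this
  obtain ⟨s, hs⟩ : ∃ s : Fin n₂ → F, s ≠ 0 := ⟨_, hs⟩
  obtain ⟨-, ⟨t, ht⟩⟩ := hf₂.nondegenerate s hs
  have hst : f₂ s t = 1 := eq_one_of_ne_zero hq ht
  have hts : f₂ t s = 1 := by rw [symm₂ hq hf₂]; exact hst
  -- the projection to the orthogonal complement of the pair
  have hproj : ∀ z : Fin n₂ → F, f₂ s (z + f₂ z t • s + f₂ z s • t) = 0 ∧
      f₂ t (z + f₂ z t • s + f₂ z s • t) = 0 := by
    intro z
    constructor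
    · rw [hb.add_right, hb.add_right, hb.smul_right, hb.smul_right, hf₂.alternating, hst,
        symm₂ hq hf₂ s z]
      linear_combination (f₂ z s) * h2
    · rw [hb.add_right, hb.add_right, hb.smul_right, hb.smul_right, hf₂.alternating, hts,
        symm₂ hq hf₂ t z]
      linear_combination (f₂ z t) * h2
  -- a vector outside the span
  obtain ⟨z, hz⟩ : ∃ z : Fin n₂ → F, z ∉ Submodule.span F ({s, t} : Set (Fin n₂ → F)) := by
    by_contra hcon
    push Not at hcon
    have htop : Submodule.span F ({s, t} : Set (Fin n₂ → F)) = ⊤ := by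
      rw [eq_top_iff]; intro z _; exact hcon z
    have h1 : Module.finrank F (Submodule.span F ({s, t} : Set (Fin n₂ → F))) ≤ 2 := by
      classical
      have := finrank_span_finset_le_card (R := F) ({s, t} : Finset (Fin n₂ → F))
      have h3 : (({s, t} : Finset (Fin n₂ → F)) : Set (Fin n₂ → F)) = {s, t} := by simp
      rw [h3] at this
      exact this.trans Finset.card_le_two
    rw [htop, finrank_top, Module.finrank_fintype_fun_eq_card, Fintype.card_fin] at h1
    omega
  set s' := z + f₂ z t • s + f₂ z s • t with hs'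
  have hs'0 : s' ≠ 0 := by
    intro h
    apply hz
    have : z = -(f₂ z t • s + f₂ z s • t) := by
      rw [eq_neg_iff_add_eq_zero, ← add_assoc]; exact h
    rw [this]
    refine Submodule.neg_mem _ (Submodule.add_mem _ (Submodule.smul_mem _ _ ?_)
      (Submodule.smul_mem _ _ ?_))
    · exact Submodule.subset_span (by simp)
    · exact Submodule.subset_span (by simp)
  obtain ⟨-, ⟨t'', ht''⟩⟩ := hf₂.nondegenerate s' hs'0
  have hs't'' : f₂ s' t'' = 1 := eq_one_of_ne_zero hq ht''
  refine ⟨s, t, s', t'' + f₂ t'' t • s + f₂ t'' s • t, hst, ?_, (hproj z).1, (hproj t'').1,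
    (hproj z).2, (hproj t'').2⟩
  rw [hb.add_right, hb.add_right, hb.smul_right, hb.smul_right, symm₂ hq hf₂ s' s,
    symm₂ hq hf₂ s' t, (hproj z).1, (hproj z).2, mul_zero, mul_zero, add_zero, add_zero]
  exact hs't''

end geometry

section main
variable (hq : Fintype.card F = 2) {f₁ : (Fin 2 → F) → (Fin 2 → F) → F}
  {f₂ : (Fin n₂ → F) → (Fin n₂ → F) → F}

theorem vec_zero_left (y : Fin n₂ → F) : vec e P 0 y = emb e P (pt E₁ y) := by
  unfold vec
  rw [pt_zero_right, emb_zero, zero_add]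

theorem vec_zero_right (y : Fin n₂ → F) : vec e P y 0 = emb e P (pt E₀ y) := by
  unfold vec
  rw [pt_zero_right, emb_zero, add_zero]

include hq in
/-- the main theorem -/
theorem not_maximal (H : Cfsg.Agent.Lib.Helper5.OmegaSimple.Hyp Q) (hn₂ : 3 ≤ n₂)
    (hf₁ : Cfsg.Geo.IsSymplecticForm f₁) (hf₂ : Cfsg.Geo.IsSymplecticForm f₂)
    (hT : Cfsg.Geo.IsTensorFormStructure id (polar ⇑Q) f₁ f₂ e P)
    (hpure : ∀ (x₁ : Fin 2 → F) (x₂ : Fin n₂ → F), Q (emb e P (pt x₁ x₂)) = 0) :
    ∃ K : Subgroup (Matrix.GeneralLinearGroup ι F),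
      Cfsg.Geo.tensorProductSubgroup 2 n₂ e P ⊓ Cfsg.Geo.omegaGL ⇑Q < K ∧
        K < Cfsg.Geo.omegaGL ⇑Q := by
  obtain ⟨c, hc0, hc⟩ := hT
  have h2 := two_eq_zero hq
  obtain ⟨s, t, s', t', hst, hs't', hss', hst', hts', htt'⟩ := exists_pairs hq hf₂ hn₂
  have hb := hf₂.bilinear
  have hsym := symm₂ hq hf₂
  have hts : f₂ t s = 1 := by rw [hsym]; exact hst
  have hQv := quad_vec e P hq hf₁ hf₂ hc0 hc hpure
  have hrefl := fun {s t : Fin n₂ → F} (hst : f₂ s t = 1) (ha : Q (vec e P s t) ≠ 0) =>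
    refl_vec e P hq hf₁ hf₂ hc0 hc hpure hst ha
  have hnorm := Subgroup.map_equiv_normalizer_eq (Z (F := F) n₂) (Phi e P)
  -- the group of order three
  set W' : Matrix.GeneralLinearGroup ι F :=
    Phi e P (kron (omega : Matrix.GeneralLinearGroup (Fin 2) F) 1) with hW'
  have hW'mem : W' ∈ (Z (F := F) n₂).map (Phi e P).toMonoidHom :=
    ⟨_, ⟨omega, Subgroup.mem_zpowers _, rfl⟩, rfl⟩
  have hZ' : ∀ z ∈ (Z (F := F) n₂).map (Phi e P).toMonoidHom, ∃ j : ℤ, z = W' ^ j := by
    rintro _ ⟨_, ⟨c', hc', rfl⟩, rfl⟩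
    obtain ⟨j, rfl⟩ := Subgroup.mem_zpowers_iff.mp hc'
    refine ⟨j, ?_⟩
    rw [hW']
    have : kron (omega : Matrix.GeneralLinearGroup (Fin 2) F)
        (1 : Matrix.GeneralLinearGroup (Fin n₂) F) = kronLeft n₂ omega := rfl
    rw [this, ← map_zpow, ← map_zpow]
    rfl
  have hZ'c : ∀ z ∈ (Z (F := F) n₂).map (Phi e P).toMonoidHom,
      ∃ c' : Matrix.GeneralLinearGroup (Fin 2) F, z = Phi e P (kron c' 1) := by
    rintro _ ⟨_, ⟨c', hc', rfl⟩, rfl⟩
    exact ⟨c', rfl⟩
  -- the basic reflections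
  have ha1 : Q (vec e P s t) = 1 := by rw [hQv]; exact hst
  have ha : Q (vec e P s t) ≠ 0 := by rw [ha1]; exact one_ne_zero
  refine ⟨Subgroup.normalizer (((Z (F := F) n₂).map (Phi e P).toMonoidHom : Subgroup _) : Set _) ⊓
    Cfsg.Geo.omegaGL ⇑Q, lt_of_le_of_ne ?_ ?_, lt_of_le_of_ne inf_le_right ?_⟩
  · apply inf_le_inf_right
    intro g hg
    obtain ⟨a, b, rfl⟩ := (mem_tensor e P g).mp hg
    rw [← hnorm]
    exact ⟨kron a b, kron_mem_normalizer hq a b, rfl⟩
  · intro heq
    -- the quasi-reflection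
    have hbst : f₂ t (s + t) = 1 := by
      rw [hb.add_right, hf₂.alternating, add_zero]; exact hts
    have hb1 : Q (vec e P t (s + t)) = 1 := by rw [hQv]; exact hbst
    have hbne : Q (vec e P t (s + t)) ≠ 0 := by rw [hb1]; exact one_ne_zero
    set k : ↥(isometryGroup F ⇑Q) := reflection Q _ ha * reflection Q _ hbne with hk
    have hkvec : ∀ z z' : Fin n₂ → F, act Q k (vec e P z z') =
        vec e P (z + (f₂ t z' + f₂ s z + f₂ t z) • t + (f₂ s z' + f₂ t z' + f₂ s z) • s)
          (z' + (f₂ t z' + f₂ s z + f₂ t z) • (s + t) + (f₂ s z' + f₂ t z' + f₂ s z) • t) := by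
      intro z z'
      rw [hk, act_mul, hrefl hbst hbne, vec_smul, vec_add, hrefl hst ha, vec_smul, vec_add]
      have e1 : f₂ s (z' + (f₂ t z' + f₂ (s + t) z) • (s + t)) +
          f₂ t (z + (f₂ t z' + f₂ (s + t) z) • t) = f₂ s z' + f₂ t z' + f₂ s z := by
        rw [hb.add_right, hb.add_right, hb.smul_right, hb.smul_right, hb.add_right,
          hb.add_left, hf₂.alternating, hf₂.alternating, hst]
        linear_combination (f₂ t z) * h2
      have e2 : f₂ t z' + f₂ (s + t) z = f₂ t z' + f₂ s z + f₂ t z := by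
        rw [hb.add_left]; ring
      rw [e1, e2]
    have hkΩ : (k : Matrix.GeneralLinearGroup ι F) ∈ Cfsg.Geo.omegaGL ⇑Q :=
      Cfsg.Agent.Lib.Helper5.OrthFrameThree.refl_pair_mem_omega H ha hbne
        ⟨1, by rw [ha1, hb1]⟩
    have hcomm : W' * (k : Matrix.GeneralLinearGroup ι F) =
        (k : Matrix.GeneralLinearGroup ι F) * W' := by
      apply Units.ext
      rw [Units.val_mul, Units.val_mul, Matrix.ext_iff_mulVec]
      intro x
      obtain ⟨z, z', rfl⟩ := vec_surj e P x
      rw [← Matrix.mulVec_mulVec, ← Matrix.mulVec_mulVec]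
      have e1 : ((k : Matrix.GeneralLinearGroup ι F) : Matrix ι ι F) *ᵥ vec e P z z' =
          act Q k (vec e P z z') := rfl
      rw [e1, hkvec, hW', W_vec, W_vec]
      have e2 : ((k : Matrix.GeneralLinearGroup ι F) : Matrix ι ι F) *ᵥ vec e P z' (z + z') =
          act Q k (vec e P z' (z + z')) := rfl
      rw [e2, hkvec]
      have c1 : f₂ t (z + z') + f₂ s z' + f₂ t z' =
          (f₂ t z' + f₂ s z + f₂ t z) + (f₂ s z' + f₂ t z' + f₂ s z) := by
        rw [hb.add_right]
        linear_combination (-(f₂ s z)) * h2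
      have c2 : f₂ s (z + z') + f₂ t (z + z') + f₂ s z' = f₂ t z' + f₂ s z + f₂ t z := by
        rw [hb.add_right, hb.add_right]
        linear_combination (f₂ s z') * h2
      rw [c1, c2]
      congr 1 <;> module
    have hkN : (k : Matrix.GeneralLinearGroup ι F) ∈
        Subgroup.normalizer (((Z (F := F) n₂).map (Phi e P).toMonoidHom : Subgroup _) : Set _) := by
      apply Subgroup.centralizer_le_normalizer
      rw [Subgroup.mem_centralizer_iff]
      intro z hz
      obtain ⟨j, rfl⟩ := hZ' z hz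
      have hc1 : Commute W' (k : Matrix.GeneralLinearGroup ι F) := hcomm
      exact (hc1.zpow_left j).eq
    have hkK : (k : Matrix.GeneralLinearGroup ι F) ∈
        Subgroup.normalizer (((Z (F := F) n₂).map (Phi e P).toMonoidHom : Subgroup _) : Set _) ⊓
          Cfsg.Geo.omegaGL ⇑Q := ⟨hkN, hkΩ⟩
    rw [← heq] at hkK
    obtain ⟨a, b, hab⟩ := (mem_tensor e P _).mp (Subgroup.mem_inf.mp hkK).1
    have e1 : ∀ y, emb e P (pt ((a : Matrix (Fin 2) (Fin 2) F) *ᵥ E₁)
        ((b : Matrix (Fin n₂) (Fin n₂) F) *ᵥ y)) = act Q k (vec e P 0 y) := by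
      intro y
      rw [← Phi_kron_emb_pt, ← hab, vec_zero_left]
    have hs'0 : s' ≠ 0 := by
      rintro rfl
      rw [zero_left hb] at hs't'
      exact zero_ne_one hs't'
    have h1 := e1 s'
    rw [hkvec] at h1
    simp only [zero_right hb, hts', hss', add_zero, zero_smul, zero_add] at h1
    rw [vec_zero_left] at h1
    have h1' := emb_injective e P h1
    have hbs' : (b : Matrix (Fin n₂) (Fin n₂) F) *ᵥ s' ≠ 0 := by
      intro h0
      apply hs'0
      have := congrArg (fun z => ((b⁻¹ : Matrix.GeneralLinearGroup (Fin n₂) F) :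
        Matrix (Fin n₂) (Fin n₂) F) *ᵥ z) h0
      simpa only [Matrix.mulVec_mulVec, ← Units.val_mul, inv_mul_cancel, Units.val_one,
        Matrix.one_mulVec, Matrix.mulVec_zero] using this
    obtain ⟨k₀, hk₀⟩ := Function.ne_iff.mp hbs'
    have ha0 : ((a : Matrix (Fin 2) (Fin 2) F) *ᵥ E₁) 0 = 0 := by
      have := congrFun h1' (0, k₀)
      rw [pt_apply, pt_apply] at this
      have hE : (E₁ : Fin 2 → F) 0 = 0 := by simp [E₁]
      rw [hE, zero_mul] at this
      exact (mul_eq_zero.mp this).resolve_right hk₀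
    have h3 := e1 s
    rw [hkvec] at h3
    simp only [zero_right hb, hts, hf₂.alternating, add_zero, zero_add, one_smul] at h3
    have e4 : s + (s + t) + t = 0 := by
      have : s + (s + t) + t = (2 : F) • s + (2 : F) • t := by module
      rw [this, h2, zero_smul, zero_smul, add_zero]
    rw [e4, vec_zero_right] at h3
    have h3' := emb_injective e P h3
    have hst0 : t + s = 0 := by
      ext k₁
      have := congrFun h3' (0, k₁)
      rw [pt_apply, pt_apply, ha0, zero_mul] at this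
      have hE : (E₀ : Fin 2 → F) 0 = 1 := by simp [E₀]
      rw [hE, one_mul] at this
      exact this.symm
    have : f₂ s (t + s) = 1 := by
      rw [hb.add_right, hf₂.alternating, add_zero]; exact hst
    rw [hst0, zero_right hb] at this
    exact zero_ne_one this
  · intro heq
    have hb'1 : Q (vec e P s' t') = 1 := by rw [hQv]; exact hs't'
    have hb'ne : Q (vec e P s' t') ≠ 0 := by rw [hb'1]; exact one_ne_zero
    set h : ↥(isometryGroup F ⇑Q) := reflection Q _ ha * reflection Q _ hb'ne with hh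
    have hhΩ : (h : Matrix.GeneralLinearGroup ι F) ∈ Cfsg.Geo.omegaGL ⇑Q :=
      Cfsg.Agent.Lib.Helper5.OrthFrameThree.refl_pair_mem_omega H ha hb'ne
        ⟨1, by rw [ha1, hb'1]⟩
    rw [← heq] at hhΩ
    have hhN := (Subgroup.mem_inf.mp hhΩ).1
    rw [Subgroup.mem_normalizer_iff] at hhN
    obtain ⟨c', hc'⟩ := hZ'c _ ((hhN W').mp hW'mem)
    have hs's : f₂ s' s = 0 := by rw [hsym]; exact hss'
    have ht's : f₂ t' s = 0 := by rw [hsym]; exact hst'
    have hx : act Q h (vec e P 0 s) = vec e P 0 s := by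
      rw [hh, act_mul, hrefl hs't' hb'ne, zero_right hb, hs's, add_zero, zero_smul, add_zero,
        hrefl hst ha, zero_right hb, hf₂.alternating, add_zero, zero_smul, add_zero]
    have hx' : (((h : Matrix.GeneralLinearGroup ι F)⁻¹ : Matrix.GeneralLinearGroup ι F) :
        Matrix ι ι F) *ᵥ vec e P 0 s = vec e P 0 s := by
      have := congrArg (fun z => (((h : Matrix.GeneralLinearGroup ι F)⁻¹ :
        Matrix.GeneralLinearGroup ι F) : Matrix ι ι F) *ᵥ z) hx
      simp only [act, Matrix.mulVec_mulVec, ← Units.val_mul, inv_mul_cancel, Units.val_one,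
        Matrix.one_mulVec] at this
      exact this.symm
    have hy : act Q h (vec e P s s) = vec e P 0 (s + t) := by
      rw [hh, act_mul, hrefl hs't' hb'ne, hs's, ht's, add_zero, zero_smul, add_zero,
        hrefl hst ha, hf₂.alternating, hts, zero_add, one_smul, vec_add]
      have : s + s = 0 := by rw [← two_smul F s, h2, zero_smul]
      rw [this]
    have h5 := congrArg (fun g : Matrix.GeneralLinearGroup ι F =>
      (g : Matrix ι ι F) *ᵥ vec e P 0 s) hc'
    simp only [Units.val_mul, ← Matrix.mulVec_mulVec] at h5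
    rw [hx', hW', W_vec, zero_add, vec_zero_left, Phi_kron_emb_pt, Units.val_one,
      Matrix.one_mulVec] at h5
    have h6 : ((h : Matrix.GeneralLinearGroup ι F) : Matrix ι ι F) *ᵥ vec e P s s =
        act Q h (vec e P s s) := rfl
    rw [h6, hy, vec_zero_left] at h5
    have h5' := emb_injective e P h5
    have hst1 : s + t = (((c' : Matrix (Fin 2) (Fin 2) F) *ᵥ E₁) 1) • s := by
      ext k₁
      have := congrFun h5' (1, k₁)
      rw [pt_apply, pt_apply] at this
      have hE : (E₁ : Fin 2 → F) 1 = 1 := by simp [E₁]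
      rw [hE, one_mul] at this
      rw [Pi.smul_apply, smul_eq_mul]
      exact this
    have : f₂ s (s + t) = 1 := by
      rw [hb.add_right, hf₂.alternating, zero_add]; exact hst
    rw [hst1, hb.smul_right, hf₂.alternating, mul_zero] at this
    exact zero_ne_one this

end main

end Cfsg.Agent.Lib.Helper5.TensorOmegaTwoF2
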