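import Mathlib
import Cfsg.Agent.Lib.Helper5.Discriminant

set_option autoImplicit false

namespace Cfsg.Agent.Lib.Helper5.HypDisc

open Module

section
variable {F : Type*} [Field F] {V : Type*} [AddCommGroup V] [Module F V]

/-- Dual family to a linearly independent family with respect to a nondegenerate form. -/
theorem exists_dual_family [FiniteDimensional F V] (B : LinearMap.BilinForm F V)
    (hB : B.Nondegenerate) {m : ℕ} (w : Fin m → V) (hw : LinearIndependent F w) :
    ∃ u : Fin m → V, ∀ i j, B (w i) (u j) = if i = j then 1 else 0 := by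
  classical
  set Φ : V →ₗ[F] (Fin m → F) := LinearMap.pi (fun i => B (w i)) with hΦ
  have hΦa : ∀ x i, Φ x i = B (w i) x := fun x i => rfl
  have hker : LinearMap.ker Φ = B.orthogonal (Submodule.span F (Set.range w)) := by
    ext x
    rw [LinearMap.mem_ker, LinearMap.BilinForm.mem_orthogonal_iff]
    constructor
    · intro hx n hn
      have : Submodule.span F (Set.range w) ≤ LinearMap.ker (B.flip x) := by
        rw [Submodule.span_le]
        rintro _ ⟨i, rfl⟩
        rw [SetLike.mem_coe, LinearMap.mem_ker]
        show B (w i) x = 0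
        rw [← hΦa, hx]
        rfl
      have h1 := this hn
      rw [LinearMap.mem_ker] at h1
      exact h1
    · intro hx
      funext i
      rw [hΦa]
      exact hx (w i) (Submodule.subset_span ⟨i, rfl⟩)
  have hrange : LinearMap.range Φ = ⊤ := by
    apply Submodule.eq_top_of_finrank_eq
    have h1 := LinearMap.finrank_range_add_finrank_ker Φ
    have h2 := LinearMap.BilinForm.finrank_orthogonal hB (Submodule.span F (Set.range w))
    rw [finrank_span_eq_card hw, Fintype.card_fin] at h2
    rw [hker, h2] at h1
    have h3 : m ≤ finrank F V := by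
      have := hw.fintype_card_le_finrank
      simpa using this
    rw [Module.finrank_fintype_fun_eq_card, Fintype.card_fin]
    omega
  have hsurj : Function.Surjective Φ := LinearMap.range_eq_top.mp hrange
  choose u hu using fun j : Fin m => hsurj (Pi.single j 1)
  refine ⟨u, fun i j => ?_⟩
  rw [← hΦa, hu j, Pi.single_apply]

end

/-- A nondegenerate symmetric bilinear form on `κ → F` admitting a totally isotropic subspace of
half the dimension has discriminant `(-1)^m` up to squares. -/
theorem neg_one_pow_eq {F : Type*} [Field F] {κ : Type*} [Fintype κ] [DecidableEq κ]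
    (B : LinearMap.BilinForm F (κ → F)) (hB : B.Nondegenerate) (hS : B.IsSymm)
    (W : Submodule F (κ → F)) (m : ℕ) (hW : finrank F W = m) (hκ : Fintype.card κ = 2 * m)
    (hiso : ∀ u ∈ W, ∀ v ∈ W, B u v = 0) :
    ∃ d : F, d ≠ 0 ∧ (-1) ^ m = d * d * (LinearMap.BilinForm.toMatrix' B).det := by
  classical
  let bW : Module.Basis (Fin m) F W := Module.finBasisOfFinrankEq F W hW
  set w : Fin m → (κ → F) := fun i => (bW i : κ → F) with hw
  have hwli : LinearIndependent F w :=
    bW.linearIndependent.map' W.subtype (Submodule.ker_subtype _)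
  obtain ⟨u, hu⟩ := exists_dual_family B hB w hwli
  have hww : ∀ i j, B (w i) (w j) = 0 := fun i j => hiso _ (bW i).2 _ (bW j).2
  have huw : ∀ i j, B (u i) (w j) = if i = j then 1 else 0 := by
    intro i j
    rw [hS.eq, hu j i]
    simp [eq_comm]
  have hli : LinearIndependent F (Sum.elim w u) := by
    rw [Fintype.linearIndependent_iff]
    intro c hc
    rw [Fintype.sum_sum_type] at hc
    simp only [Sum.elim_inl, Sum.elim_inr] at hc
    have hb0 : ∀ k, c (Sum.inr k) = 0 := by
      intro k
      have := congrArg (fun x => B (w k) x) hc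
      simp only [map_add, map_sum, map_smul, smul_eq_mul, hww, hu, mul_zero, Finset.sum_const_zero,
        zero_add, mul_ite, mul_one, Finset.sum_ite_eq, Finset.mem_univ, if_true, map_zero] at this
      exact this
    have ha0 : ∑ i, c (Sum.inl i) • w i = 0 := by
      simpa [hb0] using hc
    have := Fintype.linearIndependent_iff.mp hwli (fun i => c (Sum.inl i)) ha0
    rintro (i | i)
    · exact this i
    · exact hb0 i
  have hcard : Fintype.card (Fin m ⊕ Fin m) = finrank F (κ → F) := by
    rw [Module.finrank_fintype_fun_eq_card, hκ]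
    simp; ring
  let b : Module.Basis (Fin m ⊕ Fin m) F (κ → F) :=
    basisOfLinearIndependentOfCardEqFinrank' _ hli hcard
  obtain ⟨d, hd0, hd⟩ := Cfsg.Agent.Lib.Helper5.gram_det_basis B b
  refine ⟨d, hd0, ?_⟩
  rw [← hd]
  have hgram : Matrix.of (fun i j : Fin m ⊕ Fin m => B (b i) (b j)) =
      Matrix.fromBlocks (1 : Matrix (Fin m) (Fin m) F) 0
        (Matrix.of fun i j : Fin m => B (u i) (u j)) 1 *
      Matrix.fromBlocks (0 : Matrix (Fin m) (Fin m) F) 1 1 0 := by
    rw [Matrix.fromBlocks_multiply]
    ext (i | i) (j | j) <;>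
      simp [b, coe_basisOfLinearIndependentOfCardEqFinrank', hww, hu, huw, Matrix.one_apply]
  rw [hgram, Matrix.det_mul, Matrix.det_fromBlocks_zero₁₂, Matrix.det_one,
    Cfsg.Agent.Lib.Helper5.det_hyp]
  ring

end Cfsg.Agent.Lib.Helper5.HypDisc
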