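import Mathlib
import Cfsg.Agent.Lib.Helper2.SLkDefs
import Cfsg.Agent.Lib.Helper2.SLkIndex

/-!
# S2479 piece C3 (`torus_count`)
-/

set_option autoImplicit false
set_option linter.unusedVariables false
set_option linter.unusedSectionVars false
set_option linter.style.longLine false
set_option linter.style.haveILetI false

namespace Cfsg.Agent.Lib.Helper2.GLk

open Polynomial

universe u v

variable {F : Type u} [Field F]

/-- the torus character -/
noncomputable def h5_chi {n : ℕ} (s : Finset (Fin n)) : (Fin n → Fˣ) →* Fˣ where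
  toFun := fun c => ∏ j ∈ s, c j ^ (j.val + 1)
  map_one' := by simp
  map_mul' := by
    intro x y
    simp [mul_pow, Finset.prod_mul_distrib]

theorem h5_chi_apply {n : ℕ} (s : Finset (Fin n)) (c : Fin n → Fˣ) :
    h5_chi s c = ∏ j ∈ s, c j ^ (j.val + 1) := rfl

theorem h5_chi_coe {n : ℕ} (s : Finset (Fin n)) (c : Fin n → Fˣ) :
    ((h5_chi s c : Fˣ) : F) = ∏ j ∈ s, ((c j : Fˣ) : F) ^ (j.val + 1) := by
  rw [h5_chi_apply]
  simp [Units.coe_prod]

theorem h5_fiber_le_ker {G H : Type*} [Group G] [Group H] [Finite G] (χ : G →* H) (u : H) :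
    Nat.card {c : G // χ c = u} ≤ Nat.card χ.ker := by
  by_cases hne : Nonempty {c : G // χ c = u}
  · obtain ⟨⟨c0, hc0⟩⟩ := hne
    refine Nat.card_le_card_of_injective
      (fun c : {c : G // χ c = u} => (⟨c0⁻¹ * c.1, by
        rw [MonoidHom.mem_ker, map_mul, map_inv, hc0, c.2, inv_mul_cancel]⟩ : χ.ker)) ?_
    intro a b hab
    have h1 : c0⁻¹ * a.1 = c0⁻¹ * b.1 := congrArg Subtype.val hab
    exact Subtype.ext (mul_left_cancel h1)
  · rw [not_nonempty_iff] at hne
    rw [Nat.card_of_isEmpty]
    exact Nat.zero_le _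

/-- C3 -/
theorem torus_count [Fintype F] {n : ℕ} (s : Finset (Fin n)) (b : F) :
    (Fintype.card F - 1) * Nat.card {c : Fin n → Fˣ // ∏ j ∈ s, ((c j : Fˣ) : F) ^ (j.val + 1) = b} ≤
      (Fintype.card F - 1) ^ n * Nat.gcd (s.gcd (fun j => j.val + 1)) (Fintype.card F - 1) := by
  classical
  have hcardU : Nat.card Fˣ = Fintype.card F - 1 := by
    rw [Nat.card_eq_fintype_card, Fintype.card_units]
  have hcardG : Nat.card (Fin n → Fˣ) = (Fintype.card F - 1) ^ n := by
    rw [Nat.card_fun, hcardU, Nat.card_eq_fintype_card, Fintype.card_fin]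
  by_cases hb : b = 0
  · have hempty : IsEmpty {c : Fin n → Fˣ // ∏ j ∈ s, ((c j : Fˣ) : F) ^ (j.val + 1) = b} := by
      constructor
      rintro ⟨c, hc⟩
      rw [← h5_chi_coe, hb] at hc
      exact (Units.ne_zero _) hc
    rw [Nat.card_of_isEmpty]
    simp
  · set u : Fˣ := Units.mk0 b hb with hu
    set χ : (Fin n → Fˣ) →* Fˣ := h5_chi s with hχ
    have hset : Nat.card {c : Fin n → Fˣ // ∏ j ∈ s, ((c j : Fˣ) : F) ^ (j.val + 1) = b} =
        Nat.card {c : Fin n → Fˣ // χ c = u} := by
      apply Nat.card_congr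
      refine Equiv.subtypeEquivRight ?_
      intro c
      rw [← h5_chi_coe]
      constructor
      · intro h
        apply Units.ext
        rw [hu, Units.val_mk0]
        exact h
      · intro h
        rw [← hχ, h, hu, Units.val_mk0]
    rw [hset]
    have h1 : Nat.card {c : Fin n → Fˣ // χ c = u} ≤ Nat.card χ.ker := h5_fiber_le_ker χ u
    have h2 : Nat.card χ.ker * Nat.card χ.range = (Fintype.card F - 1) ^ n := by
      rw [← Subgroup.index_ker, Subgroup.card_mul_index, hcardG]
    have h3 : Nat.card χ.range * χ.range.index = Fintype.card F - 1 := by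
      rw [Subgroup.card_mul_index, hcardU]
    have h4 : χ.range.index ≤ Nat.gcd (s.gcd (fun j => j.val + 1)) (Fintype.card F - 1) := by
      apply index_le_gcd χ.range s (fun j => j.val + 1)
      intro j hj a
      refine ⟨Pi.mulSingle j a, ?_⟩
      rw [hχ, h5_chi_apply]
      rw [Finset.prod_eq_single j]
      · simp
      · intro i _ hij
        rw [Pi.mulSingle_eq_of_ne hij, one_pow]
      · intro hjs
        exact absurd hj hjs
    calc (Fintype.card F - 1) * Nat.card {c : Fin n → Fˣ // χ c = u}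
        ≤ (Fintype.card F - 1) * Nat.card χ.ker := Nat.mul_le_mul_left _ h1
      _ = (Nat.card χ.ker * Nat.card χ.range) * χ.range.index := by rw [← h3]; ring
      _ = (Fintype.card F - 1) ^ n * χ.range.index := by rw [h2]
      _ ≤ (Fintype.card F - 1) ^ n * Nat.gcd (s.gcd (fun j => j.val + 1)) (Fintype.card F - 1) :=
          Nat.mul_le_mul_left _ h4

end Cfsg.Agent.Lib.Helper2.GLk
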