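import Mathlib
import Cfsg.Agent.Lib.Helper2.SLkDefs

/-!
# S2479 pieces G2a (`exists_mulBy_det`) and G4b (`det_mulBy_X`)

`F[X]/(f)` is `AdjoinRoot f`; multiplication by `h` is left multiplication by `mk f h`, whose
determinant is the algebra norm.
-/

set_option autoImplicit false
set_option linter.unusedVariables false
set_option linter.unusedSectionVars false
set_option linter.style.longLine false
set_option linter.style.haveILetI false

namespace Cfsg.Agent.Lib.Helper2.GLk

open Polynomial

universe u v

variable {F : Type u} [Field F]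

/-- the identity map `F[X]/(f) → AdjoinRoot f` as an `F`-linear equivalence -/
noncomputable def h5_qmEquiv (f : F[X]) : Qm f ≃ₗ[F] AdjoinRoot f where
  toFun := fun x => x
  invFun := fun x => x
  left_inv := fun _ => rfl
  right_inv := fun _ => rfl
  map_add' := fun _ _ => rfl
  map_smul' := by
    intro a x
    induction x using Submodule.Quotient.induction_on with
    | H p =>
      change (AdjoinRoot.mk f (a • p) : AdjoinRoot f) = a • (AdjoinRoot.mk f p)
      exact (AdjoinRoot.smul_mk (f := f) a p).symm

theorem h5_mulBy_conj (f h : F[X]) :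
    ((h5_qmEquiv f).symm.toLinearMap ∘ₗ (Algebra.lmul F (AdjoinRoot f) (AdjoinRoot.mk f h)) ∘ₗ
      (h5_qmEquiv f).toLinearMap) = mulBy f h := by
  apply LinearMap.ext
  intro x
  induction x using Submodule.Quotient.induction_on with
  | H p =>
    change (AdjoinRoot.mk f h * AdjoinRoot.mk f p : AdjoinRoot f) = h • (Submodule.Quotient.mk p : Qm f)
    rw [← map_mul]
    rfl

theorem h5_det_mulBy (f h : F[X]) :
    LinearMap.det (mulBy f h) = Algebra.norm F (AdjoinRoot.mk f h) := by
  rw [← h5_mulBy_conj, Algebra.norm_apply]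
  exact LinearMap.det_conj _ (h5_qmEquiv f).symm

/-- G4b -/
theorem det_mulBy_X (f : F[X]) (hf : f.Monic) :
    LinearMap.det (mulBy f X) = (-1) ^ f.natDegree * f.coeff 0 := by
  rw [h5_det_mulBy]
  have h1 := Algebra.PowerBasis.norm_gen_eq_coeff_zero_minpoly (AdjoinRoot.powerBasis hf.ne_zero)
  rw [AdjoinRoot.minpoly_powerBasis_gen_of_monic hf] at h1
  simpa using h1

/-- G2a -/
theorem exists_mulBy_det [Fintype F] (p : F[X]) (hp : p.Monic) (hirr : Irreducible p) (a : Fˣ) :
    ∃ h : F[X], LinearMap.det (mulBy p h) = (a : F) := by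
  haveI : Fact (Irreducible p) := ⟨hirr⟩
  haveI : Module.Finite F (AdjoinRoot p) := (AdjoinRoot.powerBasis' hp).finite
  haveI : Finite (AdjoinRoot p) := Module.finite_of_finite F
  obtain ⟨x, hx⟩ := FiniteField.norm_surjective F (AdjoinRoot p) (a : F)
  obtain ⟨h, rfl⟩ := AdjoinRoot.mk_surjective x
  exact ⟨h, by rw [h5_det_mulBy]; exact hx⟩

end Cfsg.Agent.Lib.Helper2.GLk
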