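import Mathlib
import Cfsg.Agent.Lib.Helper2.PSLkDefs

/-!
# S2480 pieces S1 S2 S3: root scaling
-/

set_option autoImplicit false
set_option linter.unusedVariables false
set_option linter.unusedSectionVars false
set_option linter.style.longLine false
set_option linter.style.haveILetI false

namespace Cfsg.Agent.Lib.Helper2.GLk

open Polynomial

universe u v

variable {F : Type u} [Field F]

/-! ### S1 root scaling -/

theorem scl_coeff (ζ : Fˣ) (g : F[X]) (i : ℕ) :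
    (scl ζ g).coeff i = (ζ : F) ^ g.natDegree * ((ζ⁻¹ : Fˣ) : F) ^ i * g.coeff i := by
  unfold scl
  rw [coeff_C_mul, comp_C_mul_X_coeff]
  ring

theorem h5_units_mul_inv_pow (ζ : Fˣ) (d : ℕ) : (ζ : F) ^ d * ((ζ⁻¹ : Fˣ) : F) ^ d = 1 := by
  rw [← mul_pow, Units.mul_inv, one_pow]

theorem h5_units_inv_mul_pow (ζ : Fˣ) (d : ℕ) : ((ζ⁻¹ : Fˣ) : F) ^ d * (ζ : F) ^ d = 1 := by
  rw [← mul_pow, Units.inv_mul, one_pow]

theorem scl_natDegree (ζ : Fˣ) (g : F[X]) : (scl ζ g).natDegree = g.natDegree := by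
  unfold scl
  rw [natDegree_C_mul (pow_ne_zero _ (Units.ne_zero ζ)), natDegree_comp,
    natDegree_C_mul_X _ (Units.ne_zero _), mul_one]

theorem scl_monic (ζ : Fˣ) (g : F[X]) (hg : g.Monic) : (scl ζ g).Monic := by
  unfold Monic leadingCoeff
  rw [scl_natDegree, scl_coeff, h5_units_mul_inv_pow, one_mul]
  exact hg

theorem scl_one (ζ : Fˣ) : scl ζ (1 : F[X]) = 1 := by
  unfold scl
  simp

theorem h5_scl_zero (ζ : Fˣ) : scl ζ (0 : F[X]) = 0 := by
  unfold scl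
  simp

theorem scl_mul (ζ : Fˣ) (g h : F[X]) : scl ζ (g * h) = scl ζ g * scl ζ h := by
  by_cases hg : g = 0
  · rw [hg, zero_mul, h5_scl_zero, zero_mul]
  by_cases hh : h = 0
  · rw [hh, mul_zero, h5_scl_zero, mul_zero]
  unfold scl
  rw [natDegree_mul hg hh, mul_comp, pow_add, C_mul]
  ring

theorem scl_pow (ζ : Fˣ) (g : F[X]) (j : ℕ) : scl ζ (g ^ j) = scl ζ g ^ j := by
  induction j with
  | zero => rw [pow_zero, pow_zero, scl_one]
  | succ j ih => rw [pow_succ, pow_succ, scl_mul, ih]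

theorem scl_prod (ζ : Fˣ) {ι : Type*} (s : Finset ι) (g : ι → F[X]) :
    scl ζ (∏ i ∈ s, g i) = ∏ i ∈ s, scl ζ (g i) := by
  classical
  induction s using Finset.induction_on with
  | empty => rw [Finset.prod_empty, Finset.prod_empty, scl_one]
  | insert a s ha ih => rw [Finset.prod_insert ha, Finset.prod_insert ha, scl_mul, ih]

theorem scl_inv_scl (ζ : Fˣ) (g : F[X]) : scl ζ⁻¹ (scl ζ g) = g := by
  ext i
  rw [scl_coeff, scl_coeff, scl_natDegree, inv_inv]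
  have h1 := h5_units_inv_mul_pow ζ g.natDegree
  have h2 := h5_units_mul_inv_pow ζ i
  calc ((ζ⁻¹ : Fˣ) : F) ^ g.natDegree * (ζ : F) ^ i *
        ((ζ : F) ^ g.natDegree * ((ζ⁻¹ : Fˣ) : F) ^ i * g.coeff i)
      = (((ζ⁻¹ : Fˣ) : F) ^ g.natDegree * (ζ : F) ^ g.natDegree) *
          ((ζ : F) ^ i * ((ζ⁻¹ : Fˣ) : F) ^ i) * g.coeff i := by ring
    _ = g.coeff i := by rw [h1, h2, one_mul, one_mul]

theorem scl_coeff_zero_ne (ζ : Fˣ) (g : F[X]) (h : g.coeff 0 ≠ 0) : (scl ζ g).coeff 0 ≠ 0 := by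
  rw [scl_coeff, pow_zero, mul_one]
  exact mul_ne_zero (pow_ne_zero _ (Units.ne_zero ζ)) h

/-! ### S2 -/

theorem h5_scl_eq_zero_iff (ζ : Fˣ) (g : F[X]) : scl ζ g = 0 ↔ g = 0 := by
  constructor
  · intro h
    have := scl_inv_scl ζ g
    rw [h, h5_scl_zero] at this
    exact this.symm
  · intro h
    rw [h, h5_scl_zero]

theorem h5_scl_isUnit_iff (ζ : Fˣ) (g : F[X]) : IsUnit (scl ζ g) ↔ IsUnit g := by
  by_cases hg : g = 0
  · rw [hg, h5_scl_zero]
  · have hs : scl ζ g ≠ 0 := fun h => hg ((h5_scl_eq_zero_iff ζ g).mp h)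
    rw [isUnit_iff_degree_eq_zero, isUnit_iff_degree_eq_zero, degree_eq_natDegree hs,
      degree_eq_natDegree hg, scl_natDegree]

theorem scl_irreducible (ζ : Fˣ) (g : F[X]) (hg : Irreducible g) : Irreducible (scl ζ g) := by
  rw [irreducible_iff]
  refine ⟨fun h => hg.not_isUnit ((h5_scl_isUnit_iff ζ g).mp h), ?_⟩
  intro a b hab
  have h1 : g = scl ζ⁻¹ a * scl ζ⁻¹ b := by
    rw [← scl_mul, ← hab, scl_inv_scl]
  rcases hg.isUnit_or_isUnit h1 with h | h
  · exact Or.inl ((h5_scl_isUnit_iff ζ⁻¹ a).mp h)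
  · exact Or.inr ((h5_scl_isUnit_iff ζ⁻¹ b).mp h)

/-! ### S3 -/

theorem expand_contract_of_scl_fixed (ζ : Fˣ) (ht : orderOf ζ ≠ 0) (g : F[X]) (h0 : g.coeff 0 ≠ 0)
    (hfix : scl ζ g = g) :
    expand F (orderOf ζ) (contract (orderOf ζ) g) = g := by
  have hc : ∀ i, g.coeff i = (ζ : F) ^ g.natDegree * ((ζ⁻¹ : Fˣ) : F) ^ i * g.coeff i := by
    intro i
    have := scl_coeff ζ g i
    rw [hfix] at this
    exact this
  have hd : (ζ : F) ^ g.natDegree = 1 := by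
    have h1 := hc 0
    rw [pow_zero, mul_one] at h1
    have h2 : ((ζ : F) ^ g.natDegree - 1) * g.coeff 0 = 0 := by
      rw [sub_mul, one_mul, ← h1, sub_self]
    rcases mul_eq_zero.mp h2 with h | h
    · exact sub_eq_zero.mp h
    · exact absurd h h0
  have hdvd : ∀ i, g.coeff i ≠ 0 → orderOf ζ ∣ i := by
    intro i hi
    have h1 := hc i
    rw [hd, one_mul] at h1
    have h2 : (((ζ⁻¹ : Fˣ) : F) ^ i - 1) * g.coeff i = 0 := by
      rw [sub_mul, one_mul, ← h1, sub_self]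
    rcases mul_eq_zero.mp h2 with h | h
    · have h3 : ((ζ⁻¹ : Fˣ) : F) ^ i = 1 := sub_eq_zero.mp h
      have h4 : (ζ⁻¹ : Fˣ) ^ i = 1 := by
        apply Units.ext
        rw [Units.val_pow_eq_pow_val, h3, Units.val_one]
      rw [inv_pow, inv_eq_one] at h4
      exact orderOf_dvd_of_pow_eq_one h4
    · exact absurd h hi
  ext i
  rw [coeff_expand (Nat.pos_of_ne_zero ht)]
  split_ifs with hdi
  · rw [coeff_contract ht, Nat.div_mul_cancel hdi]
  · by_contra hne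
    exact hdi (hdvd i (fun h => hne h.symm))

end Cfsg.Agent.Lib.Helper2.GLk
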