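import Mathlib
import Cfsg.Agent.Lib.Helper2.PSLkDefs
import Cfsg.Agent.Lib.Helper5.PSLkScl

/-!
# S2480 piece P6a: contraction of scaling-invariant data (`ctr_props`)
-/

set_option autoImplicit false
set_option linter.unusedVariables false
set_option linter.unusedSectionVars false
set_option linter.style.longLine false
set_option linter.style.haveILetI false

namespace Cfsg.Agent.Lib.Helper2.GLk

open Polynomial

universe u v

variable {F : Type u} [Field F]

theorem h5_contract_one' (t : ℕ) : contract t (1 : F[X]) = 1 := by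
  rw [← C_1, contract_C]

theorem h5_ctr_apply {n t n' : ℕ} (f : Fin n → F[X]) (j' : Fin n') (h : j'.val < n) :
    ctr t n' f j' = contract t (f ⟨j'.val, h⟩) := by
  unfold ctr
  rw [dif_pos h]

theorem h5_sum_fin_eq_range {n n' : ℕ} (hle : n' ≤ n) (G : ℕ → ℕ) (hG : ∀ m, n' ≤ m → G m = 0) :
    ∑ j : Fin n, G j.val = ∑ j' : Fin n', G j'.val := by
  rw [Fin.sum_univ_eq_sum_range G n, Fin.sum_univ_eq_sum_range G n']
  symm
  apply Finset.sum_subset (Finset.range_subset_range.mpr hle)
  intro m _ hm
  rw [Finset.mem_range, not_lt] at hm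
  exact hG m hm

theorem h5_prod_fin_eq_range {n n' : ℕ} (hle : n' ≤ n) (G : ℕ → F) (hG : ∀ m, n' ≤ m → G m = 1) :
    ∏ j : Fin n, G j.val = ∏ j' : Fin n', G j'.val := by
  rw [Fin.prod_univ_eq_prod_range G n, Fin.prod_univ_eq_prod_range G n']
  symm
  apply Finset.prod_subset (Finset.range_subset_range.mpr hle)
  intro m _ hm
  rw [Finset.mem_range, not_lt] at hm
  exact hG m hm

theorem ctr_props {n t n' : ℕ} (ht : 1 ≤ t) (hn : n = t * n') (ζ : Fˣ) (hζ : orderOf ζ = t)
    (f : Fin n → F[X]) (hf : f ∈ T F n n) (hinv : ∀ j, scl ζ (f j) = f j) :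
    ctr t n' f ∈ T F n' n' ∧ gsz (ctr t n' f) = gsz f ∧
      ddet f = (-1) ^ ((t - 1) * n') * ddet (ctr t n' f) ∧
      (∀ j : Fin n, f j = if h : j.val < n' then expand F t (ctr t n' f ⟨j.val, h⟩) else 1) := by
  classical
  have ht0 : t ≠ 0 := by omega
  have htpos : 0 < t := by omega
  have hle : n' ≤ n := by
    rw [hn]; exact Nat.le_mul_of_pos_left n' htpos
  -- extension to ℕ
  set fe : ℕ → F[X] := fun m => if h : m < n then f ⟨m, h⟩ else 1 with hfe
  have hfe_fin : ∀ j : Fin n, fe j.val = f j := by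
    intro j
    simp only [hfe]
    rw [dif_pos j.2]
  have hfe_mon : ∀ m, (fe m).Monic ∧ (fe m).coeff 0 ≠ 0 := by
    intro m
    simp only [hfe]
    split_ifs with h
    · exact hf.1 ⟨m, h⟩
    · exact ⟨monic_one, by simp⟩
  have hfe_exp : ∀ m, expand F t (contract t (fe m)) = fe m := by
    intro m
    simp only [hfe]
    split_ifs with h
    · have := expand_contract_of_scl_fixed ζ (by rw [hζ]; exact ht0) (f ⟨m, h⟩) (hf.1 ⟨m, h⟩).2
        (hinv ⟨m, h⟩)
      rw [hζ] at this
      exact this
    · rw [h5_contract_one', map_one]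
  set G : ℕ → F[X] := fun m => contract t (fe m) with hG
  have hGexp : ∀ m, expand F t (G m) = fe m := hfe_exp
  have hGmon : ∀ m, (G m).Monic := by
    intro m
    rw [← monic_expand_iff htpos, hGexp]
    exact (hfe_mon m).1
  have hGc0 : ∀ m, (G m).coeff 0 = (fe m).coeff 0 := by
    intro m
    simp only [hG]
    rw [coeff_contract ht0, zero_mul]
  have hdeg : ∀ m, (fe m).natDegree = (G m).natDegree * t := by
    intro m
    rw [← hGexp m, natDegree_expand]
  -- the degree sum
  have hsum : ∑ j : Fin n, (j.val + 1) * (fe j.val).natDegree = n := by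
    refine Eq.trans ?_ hf.2
    apply Finset.sum_congr rfl
    intro j _
    rw [hfe_fin]
  have hsumG : ∑ j : Fin n, (j.val + 1) * (G j.val).natDegree = n' := by
    have h1 : t * ∑ j : Fin n, (j.val + 1) * (G j.val).natDegree = t * n' := by
      rw [← hn, Finset.mul_sum]
      conv_rhs => rw [← hsum]
      apply Finset.sum_congr rfl
      intro j _
      rw [hdeg]; ring
    exact Nat.eq_of_mul_eq_mul_left htpos h1
  -- vanishing beyond n'
  have hG1 : ∀ m, n' ≤ m → G m = 1 := by
    intro m hm
    by_cases hmn : m < n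
    · have hterm : (m + 1) * (G m).natDegree ≤ n' := by
        rw [← hsumG]
        exact Finset.single_le_sum (f := fun j : Fin n => (j.val + 1) * (G j.val).natDegree)
          (fun _ _ => Nat.zero_le _) (Finset.mem_univ (⟨m, hmn⟩ : Fin n))
      have hd0 : (G m).natDegree = 0 := by
        by_contra hne
        have : m + 1 ≤ (m + 1) * (G m).natDegree := Nat.le_mul_of_pos_right _ (Nat.pos_of_ne_zero hne)
        omega
      exact eq_one_of_monic_natDegree_zero (hGmon m) hd0
    · simp only [hG, hfe]
      rw [dif_neg hmn, h5_contract_one']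
  have hfe1 : ∀ m, n' ≤ m → fe m = 1 := by
    intro m hm
    rw [← hGexp m, hG1 m hm, map_one]
  have hctr : ∀ j' : Fin n', ctr t n' f j' = G j'.val := by
    intro j'
    have h : j'.val < n := lt_of_lt_of_le j'.2 hle
    rw [h5_ctr_apply f j' h]
    simp only [hG, hfe]
    rw [dif_pos h]
  have hG_one_iff : ∀ m, G m = 1 ↔ fe m = 1 := by
    intro m
    constructor
    · intro h
      rw [← hGexp m, h, map_one]
    · intro h
      have : expand F t (G m) = expand F t 1 := by rw [hGexp m, h, map_one]
      exact (expand_inj htpos).mp this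
  refine ⟨⟨?_, ?_⟩, ?_, ?_, ?_⟩
  · intro j'
    rw [hctr]
    exact ⟨hGmon _, by rw [hGc0]; exact (hfe_mon _).2⟩
  · have h2 : ∑ j : Fin n, (j.val + 1) * (G j.val).natDegree =
        ∑ j' : Fin n', (j'.val + 1) * (G j'.val).natDegree :=
      h5_sum_fin_eq_range hle (fun m => (m + 1) * (G m).natDegree)
        (fun m hm => by
          show (m + 1) * (G m).natDegree = 0
          rw [hG1 m hm, natDegree_one, mul_zero])
    refine Eq.trans ?_ (h2.symm.trans hsumG)
    apply Finset.sum_congr rfl
    intro j' _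
    rw [hctr]
  · apply Nat.dvd_antisymm
    · rw [dvd_gsz_iff]
      intro j hj
      have hjn' : j.val < n' := by
        by_contra hge
        rw [not_lt] at hge
        exact hj (by rw [← hfe_fin]; exact hfe1 _ hge)
      have hne : ctr t n' f ⟨j.val, hjn'⟩ ≠ 1 := by
        rw [hctr]
        intro h
        exact hj (by rw [← hfe_fin]; exact (hG_one_iff _).mp h)
      exact (dvd_gsz_iff (ctr t n' f) _).mp dvd_rfl ⟨j.val, hjn'⟩ hne
    · rw [dvd_gsz_iff]
      intro j' hj'
      have h : j'.val < n := lt_of_lt_of_le j'.2 hle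
      have hne : f ⟨j'.val, h⟩ ≠ 1 := by
        intro hh
        apply hj'
        rw [hctr]
        apply (hG_one_iff _).mpr
        rw [← hh]
        exact hfe_fin ⟨j'.val, h⟩
      exact (dvd_gsz_iff f _).mp dvd_rfl ⟨j'.val, h⟩ hne
  · -- ddet
    unfold ddet
    have h1 : ∏ j : Fin n, ((-1 : F) ^ (f j).natDegree * (f j).coeff 0) ^ (j.val + 1) =
        ∏ j : Fin n, (fun m => ((-1 : F) ^ (fe m).natDegree * (fe m).coeff 0) ^ (m + 1)) j.val := by
      apply Finset.prod_congr rfl
      intro j _
      simp only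
      rw [hfe_fin]
    rw [h1, h5_prod_fin_eq_range hle
      (fun m => ((-1 : F) ^ (fe m).natDegree * (fe m).coeff 0) ^ (m + 1))
      (fun m hm => by
        show ((-1 : F) ^ (fe m).natDegree * (fe m).coeff 0) ^ (m + 1) = 1
        rw [hfe1 m hm]; simp)]
    have h2 : ∀ j' : Fin n', ((-1 : F) ^ (fe j'.val).natDegree * (fe j'.val).coeff 0) ^ (j'.val + 1) =
        (-1 : F) ^ ((t - 1) * ((j'.val + 1) * (G j'.val).natDegree)) *
          ((-1 : F) ^ (ctr t n' f j').natDegree * (ctr t n' f j').coeff 0) ^ (j'.val + 1) := by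
      intro j'
      rw [hctr, hGc0, hdeg]
      have ht1 : (G j'.val).natDegree * t = (t - 1) * (G j'.val).natDegree + (G j'.val).natDegree := by
        have : t = (t - 1) + 1 := by omega
        conv_lhs => rw [this]
        ring
      have hsign : (-1 : F) ^ ((G j'.val).natDegree * t) =
          (-1 : F) ^ ((t - 1) * (G j'.val).natDegree) * (-1 : F) ^ (G j'.val).natDegree := by
        rw [← pow_add, ← ht1]
      rw [hsign, mul_assoc, mul_pow, ← pow_mul]
      congr 2
      ring
    rw [Finset.prod_congr rfl (fun j' _ => h2 j'), Finset.prod_mul_distrib, Finset.prod_pow_eq_pow_sum,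
      ← Finset.mul_sum]
    congr 3
    have h3 : ∑ j : Fin n, (j.val + 1) * (G j.val).natDegree =
        ∑ j' : Fin n', (j'.val + 1) * (G j'.val).natDegree :=
      h5_sum_fin_eq_range hle (fun m => (m + 1) * (G m).natDegree)
        (fun m hm => by
          show (m + 1) * (G m).natDegree = 0
          rw [hG1 m hm, natDegree_one, mul_zero])
    rw [← h3, hsumG]
  · intro j
    split_ifs with h
    · rw [hctr, hGexp, hfe_fin]
    · rw [not_lt] at h
      rw [← hfe_fin]
      exact hfe1 _ h

end Cfsg.Agent.Lib.Helper2.GLk
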