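import Mathlib
import Cfsg.Prelude.Def_Solvable
import Cfsg.Prelude.Def_CaseTheorems
import Cfsg.Agent.Lib.Helper2.Cores
import Cfsg.Agent.Lib.Helper1.PConstrainedLocal2

/-! Farm D2N (S4385), GEN units `OC` and `QUOT` (stub statements verbatim). -/
set_option autoImplicit false

namespace Cfsg.Agent.Lib.Helper5.D2N

/-- OC. A finite group with a self-centralizing normal 2-subgroup has trivial odd core. -/
theorem OC {X : Type*} [Group X] [Finite X] (Q : Subgroup X) [Q.Normal] (hQ : IsPGroup 2 Q)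
    (hself : ∀ g : X, (∀ q ∈ Q, g * q = q * g) → g ∈ Q) : Cfsg.pPrimeCore 2 X = ⊥ := by
  classical
  obtain ⟨hOn, hOc⟩ := Cfsg.Agent.Lib.Helper2.pPrimeCore_mem (G := X) 2
  have hdisj : Cfsg.pPrimeCore 2 X ⊓ Q = ⊥ := by
    apply Disjoint.eq_bot
    apply Subgroup.disjoint_of_coprime_natCard
    obtain ⟨n, hn⟩ := (IsPGroup.iff_card.mp hQ)
    rw [hn]
    exact Nat.Coprime.pow_right n hOc
  rw [eq_bot_iff]
  intro o ho
  have hoQ : o ∈ Q := by
    apply hself
    intro q hq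
    have hc : o * q * o⁻¹ * q⁻¹ ∈ Cfsg.pPrimeCore 2 X ⊓ Q := by
      refine ⟨?_, ?_⟩
      · have h1 : q * o⁻¹ * q⁻¹ ∈ Cfsg.pPrimeCore 2 X := hOn.conj_mem _ ((Cfsg.pPrimeCore 2 X).inv_mem ho) q
        have h2 := (Cfsg.pPrimeCore 2 X).mul_mem ho h1
        have e : o * q * o⁻¹ * q⁻¹ = o * (q * o⁻¹ * q⁻¹) := by group
        rw [e]
        exact h2
      · have h1 : o * q * o⁻¹ ∈ Q := Subgroup.Normal.conj_mem inferInstance q hq o
        exact Q.mul_mem h1 (Q.inv_mem hq)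
    rw [hdisj, Subgroup.mem_bot] at hc
    calc o * q = (o * q * o⁻¹ * q⁻¹) * (q * o) := by group
      _ = q * o := by rw [hc, one_mul]
  have h3 : o ∈ Cfsg.pPrimeCore 2 X ⊓ Q := ⟨ho, hoQ⟩
  rw [hdisj] at h3
  exact h3

/-- QUOT. A surjection with odd kernel onto a group with trivial odd core identifies the target
with the quotient by the odd core. -/
theorem QUOT {A X : Type*} [Group A] [Finite A] [Group X] (f : A →* X)
    (hf : Function.Surjective f) (hker : (Nat.card f.ker).Coprime 2)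
    (hX : Cfsg.pPrimeCore 2 X = ⊥) : Nonempty (A ⧸ Cfsg.oddCore A ≃* X) := by
  have h1 : Cfsg.oddCore A = f.ker := by
    show Cfsg.pPrimeCore 2 A = f.ker
    rw [Cfsg.Agent.Lib.Helper1.pPrimeCore_eq_comap_of_coprime_ker f hf hker, hX]
    rfl
  exact ⟨(QuotientGroup.quotientMulEquivOfEq h1).trans
    (QuotientGroup.quotientKerEquivOfSurjective f hf)⟩

end Cfsg.Agent.Lib.Helper5.D2N
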