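import Mathlib
import Cfsg.Agent.Lib.Helper5.D2NOC
import Cfsg.Agent.Lib.Helper9.J2Da

/-! Farm D2N (S4385), GEN unit `FIN4` (stub statement verbatim). -/
set_option autoImplicit false
set_option linter.style.haveILetI false

namespace Cfsg.Agent.Lib.Helper5.D2N

variable {G : Type*} [Group G]

/-- the subgroup `N.subgroupOf H` is normal when `H` normalizes `N` (elementwise form) -/
theorem subgroupOf_normal_of_conj {H N : Subgroup G}
    (hNn : ∀ a ∈ H, ∀ x ∈ N, a * x * a⁻¹ ∈ N) : (N.subgroupOf H).Normal := by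
  constructor
  intro x hx a
  rw [Subgroup.mem_subgroupOf] at hx ⊢
  exact hNn a a.2 x hx

/-- order of the quotient `H / N` -/
theorem card_quot_subgroupOf [Finite G] {H N : Subgroup G} (hNH : N ≤ H) [(N.subgroupOf H).Normal]
    (k : ℕ) (hH : Nat.card H = k * Nat.card N) : Nat.card (↥H ⧸ N.subgroupOf H) = k := by
  have hcardN' : Nat.card (N.subgroupOf H) = Nat.card N :=
    Nat.card_congr (Subgroup.subgroupOfEquivOfLe hNH).toEquiv
  have h1 := Subgroup.card_eq_card_quotient_mul_card_subgroup (N.subgroupOf H)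
  rw [hcardN', hH] at h1
  have hpos : 0 < Nat.card N := Nat.card_pos
  exact (Nat.eq_of_mul_eq_mul_right hpos h1).symm

/-- odd kernel for the quotient map -/
theorem ker_mk_coprime [Finite G] {H N : Subgroup G} (hNH : N ≤ H) [(N.subgroupOf H).Normal]
    (hNodd : Odd (Nat.card N)) :
    (Nat.card (QuotientGroup.mk' (N.subgroupOf H)).ker).Coprime 2 := by
  rw [QuotientGroup.ker_mk']
  have hcardN' : Nat.card (N.subgroupOf H) = Nat.card N :=
    Nat.card_congr (Subgroup.subgroupOfEquivOfLe hNH).toEquiv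
  rw [hcardN']
  exact Nat.coprime_two_right.mpr hNodd

theorem FIN4 [Finite G] {H N : Subgroup G} (hNH : N ≤ H)
    (hNn : ∀ a ∈ H, ∀ x ∈ N, a * x * a⁻¹ ∈ N) (hNodd : Odd (Nat.card N))
    (hH : Nat.card H = 4 * Nat.card N) (hsq : ∀ g ∈ H, g * g ∈ N) :
    Nonempty (↥H ⧸ Cfsg.oddCore ↥H ≃* Multiplicative (ZMod 2) × Multiplicative (ZMod 2)) := by
  classical
  haveI hN' : (N.subgroupOf H).Normal := subgroupOf_normal_of_conj hNn
  have hX4 : Nat.card (↥H ⧸ N.subgroupOf H) = 4 := card_quot_subgroupOf hNH 4 hH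
  have hX2 : ∀ v : ↥H ⧸ N.subgroupOf H, v * v = 1 := by
    intro v
    induction v using QuotientGroup.induction_on with
    | H g =>
      rw [← QuotientGroup.mk_mul, QuotientGroup.eq_one_iff, Subgroup.mem_subgroupOf]
      exact hsq g g.2
  obtain ⟨e⟩ := Cfsg.Agent.Lib.Helper9.J2D.klein_iso hX4 hX2
  have hXO : Cfsg.pPrimeCore 2 (↥H ⧸ N.subgroupOf H) = ⊥ := by
    apply OC (⊤ : Subgroup (↥H ⧸ N.subgroupOf H))
    · have h2 : IsPGroup 2 (↥H ⧸ N.subgroupOf H) :=
        IsPGroup.of_card (n := 2) (by rw [hX4]; norm_num)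
      exact h2.to_subgroup ⊤
    · intro g _
      exact Subgroup.mem_top g
  obtain ⟨e'⟩ := QUOT (QuotientGroup.mk' (N.subgroupOf H)) (QuotientGroup.mk'_surjective _)
    (ker_mk_coprime hNH hNodd) hXO
  exact ⟨e'.trans e⟩

end Cfsg.Agent.Lib.Helper5.D2N
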