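import Cfsg.Agent.Lib.Helper2.PUBasic3
import Cfsg.Agent.Lib.Helper5.D2NFin4

/-! Farm D2N (S4385), block I: `caseI_norm`, `caseI_fin` (stub statements verbatim). -/
set_option autoImplicit false
set_option linter.style.haveILetI false
set_option linter.unusedVariables false
set_option linter.unusedSectionVars false

namespace Cfsg.Agent.Lib.Helper5.D2N

open Cfsg.Agent.Lib.Helper2.PU

variable {G : Type*} [Group G]

variable {H P T K V Z W T0 : Subgroup G} {y ρ w0 : G} {n : ℕ}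

/-- an element of `T` killed by the odd number `n` is trivial -/
theorem eq_one_of_mem_T_of_pow (s : Setup H P T K y ρ n) {x : G} (hx : x ∈ T) (h : x ^ n = 1) :
    x = 1 := by
  obtain ⟨k, hk⟩ := s.hT2 ⟨x, hx⟩
  have h1 : x ^ (2 ^ k) = 1 := by
    have := congrArg Subtype.val hk
    simpa using this
  have hcop : Nat.Coprime (2 ^ k) n := (Nat.coprime_two_left.mpr s.hnodd).pow_left k
  have hd1 := orderOf_dvd_of_pow_eq_one h1
  have hd2 := orderOf_dvd_of_pow_eq_one h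
  have : orderOf x = 1 := Nat.eq_one_of_dvd_coprimes hcop hd1 hd2
  exact orderOf_eq_one_iff.mp this

theorem rho_pow_n (s : Setup H P T K y ρ n) : ρ ^ n = 1 := by
  rw [← s.hρn]; exact pow_orderOf_eq_one ρ

/-- `ρ ^ i` centralizes `T` -/
theorem rho_pow_comm (hρT : ∀ x ∈ T, ρ * x = x * ρ) (i : ℕ) {x : G} (hx : x ∈ T) :
    ρ ^ i * x = x * ρ ^ i := by
  have hc : Commute ρ x := hρT x hx
  exact (hc.pow_left i)

theorem caseI_norm_P (s : Setup H P T K y ρ n) (hρT : ∀ x ∈ T, ρ * x = x * ρ) :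
    ∀ p ∈ P, ∃ i : ℕ, p * ρ * p⁻¹ = ρ ^ i := by
  intro p hp
  have hK : p * ρ * p⁻¹ ∈ K := s.hKn p (s.hPH hp) ρ s.hρK
  obtain ⟨i, x, hx, e⟩ := s.hKρ _ hK
  refine ⟨i, ?_⟩
  have hc : Commute x (ρ ^ i) := (rho_pow_comm hρT i hx).symm
  have h1 : (p * ρ * p⁻¹) ^ n = 1 := by
    rw [conj_pow, rho_pow_n s]; group
  rw [e, hc.mul_pow] at h1
  have h2 : (ρ ^ i) ^ n = 1 := by
    rw [← pow_mul, mul_comm, pow_mul, rho_pow_n s, one_pow]
  rw [h2, mul_one] at h1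
  have hx1 : x = 1 := eq_one_of_mem_T_of_pow s hx h1
  rw [e, hx1, one_mul]

theorem caseI_norm [Finite G] (s : Setup H P T K y ρ n) (hρT : ∀ x ∈ T, ρ * x = x * ρ) :
    ∀ a ∈ H, ∃ i : ℕ, a * ρ * a⁻¹ = ρ ^ i := by
  intro a ha
  obtain ⟨k, hk, p, hp, rfl⟩ := s.hHK a ha
  obtain ⟨j, x', hx', rfl⟩ := s.hKρ k hk
  obtain ⟨i, hi⟩ := caseI_norm_P s hρT p hp
  refine ⟨i, ?_⟩
  have e : x' * ρ ^ j * p * ρ * (x' * ρ ^ j * p)⁻¹
      = x' * (ρ ^ j * (p * ρ * p⁻¹) * (ρ ^ j)⁻¹) * x'⁻¹ := by group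
  rw [e, hi]
  have e2 : ρ ^ j * ρ ^ i * (ρ ^ j)⁻¹ = ρ ^ i := by
    rw [← pow_add, add_comm, pow_add, mul_assoc, mul_inv_cancel, mul_one]
  rw [e2, ← rho_pow_comm hρT i hx', mul_assoc, mul_inv_cancel, mul_one]

/-- `zpowers ρ` is `H`-invariant in Case I -/
theorem zpowers_rho_conj (hnorm : ∀ a ∈ H, ∃ i : ℕ, a * ρ * a⁻¹ = ρ ^ i) :
    ∀ a ∈ H, ∀ x ∈ Subgroup.zpowers ρ, a * x * a⁻¹ ∈ Subgroup.zpowers ρ := by
  intro a ha x hx
  obtain ⟨z, rfl⟩ := Subgroup.mem_zpowers_iff.mp hx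
  obtain ⟨i, hi⟩ := hnorm a ha
  have e : a * ρ ^ z * a⁻¹ = (a * ρ * a⁻¹) ^ z := (conj_zpow).symm
  rw [e, hi]
  exact Subgroup.zpow_mem _ (Subgroup.pow_mem _ (Subgroup.mem_zpowers ρ) i) z

theorem caseI_fin [Finite G] (s : Setup H P T K y ρ n) (hρT : ∀ x ∈ T, ρ * x = x * ρ)
    (hnorm : ∀ a ∈ H, ∃ i : ℕ, a * ρ * a⁻¹ = ρ ^ i) (hT2 : Nat.card T = 2)
    (hP2 : ∀ p ∈ P, p * p = 1) :
    Nonempty (↥H ⧸ Cfsg.oddCore ↥H ≃* Multiplicative (ZMod 2) × Multiplicative (ZMod 2)) := by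
  have hρH : ρ ∈ H := s.hKH s.hρK
  have hNH : Subgroup.zpowers ρ ≤ H := by
    rw [Subgroup.zpowers_le]; exact hρH
  have hNn := zpowers_rho_conj hnorm
  have hcardN : Nat.card (Subgroup.zpowers ρ) = n := by
    rw [Nat.card_zpowers, s.hρn]
  apply FIN4 hNH hNn
  · rw [hcardN]; exact s.hnodd
  · rw [hcardN, s.hcardH, hT2]; ring
  · intro g hg
    obtain ⟨k, hk, p, hp, rfl⟩ := s.hHK g hg
    obtain ⟨j, x, hx, rfl⟩ := s.hKρ k hk
    have hp' : x * p ∈ P := P.mul_mem (s.hTP hx) hp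
    have e : x * ρ ^ j * p * (x * ρ ^ j * p)
        = ρ ^ j * ((x * p) * ρ ^ j * (x * p)⁻¹) * ((x * p) * (x * p)) := by
      rw [← rho_pow_comm hρT j hx]; group
    rw [e, hP2 _ hp', mul_one]
    have h1 : ρ ^ j ∈ Subgroup.zpowers ρ := Subgroup.pow_mem _ (Subgroup.mem_zpowers ρ) j
    exact Subgroup.mul_mem _ h1 (hNn _ (s.hPH hp') _ h1)

end Cfsg.Agent.Lib.Helper5.D2N
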