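import Cfsg.Agent.Lib.Helper2.PUBasic3
import Cfsg.Agent.Lib.Helper5.D2NCaseI

/-! Farm D2N (S4385), units `rechoose` (R1) and `caseI_rho` (I1) (stub statements verbatim). -/
set_option autoImplicit false
set_option linter.style.haveILetI false
set_option linter.unusedVariables false
set_option linter.unusedSectionVars false

namespace Cfsg.Agent.Lib.Helper5.D2N

open Cfsg.Agent.Lib.Helper2.PU

variable {G : Type*} [Group G]

variable {H P T K V Z W T0 : Subgroup G} {y ρ w0 : G} {n : ℕ}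

/-- powers of an element `x ρ^e` of `K` -/
theorem pow_decomp (s : Setup H P T K y ρ n) {x : G} (hx : x ∈ T) (e j : ℕ) :
    ∃ x' ∈ T, (x * ρ ^ e) ^ j = x' * ρ ^ (e * j) := by
  induction j with
  | zero => exact ⟨1, T.one_mem, by simp⟩
  | succ j ih =>
    obtain ⟨x', hx', h⟩ := ih
    refine ⟨x' * (ρ ^ (e * j) * x * (ρ ^ (e * j))⁻¹),
      T.mul_mem hx' (s.hTn _ (s.rho_pow_mem_H _) x hx), ?_⟩
    rw [pow_succ, h, Nat.mul_succ, pow_add]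
    group

theorem rechoose [Finite G] (s : Setup H P T K y ρ n) (N : Subgroup G)
    (hN : ∀ a ∈ H, ∀ x ∈ N, a * x * a⁻¹ ∈ N) (z : G) (hzP : z ∈ P) (hzT : z ∉ T)
    (hzN : z ∈ N) : ∃ ρ' : G, ρ' ∈ N ∧ Setup H P T K y ρ' n := by
  have hρH : ρ ∈ H := s.hKH s.hρK
  obtain ⟨x, hx, hc⟩ := s.comm_decomp s.hρK hzP hzT
  have hcN : ρ * z * ρ⁻¹ * z⁻¹ ∈ N := N.mul_mem (hN ρ hρH z hzN) (N.inv_mem hzN)
  have hcK : ρ * z * ρ⁻¹ * z⁻¹ ∈ K := by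
    have h1 : z * ρ⁻¹ * z⁻¹ ∈ K := s.hKn z (s.hPH hzP) _ (K.inv_mem s.hρK)
    have h2 := K.mul_mem s.hρK h1
    have e : ρ * z * ρ⁻¹ * z⁻¹ = ρ * (z * ρ⁻¹ * z⁻¹) := by group
    rw [e]; exact h2
  obtain ⟨q, hq⟩ : ∃ q, q = Nat.card T := ⟨_, rfl⟩
  have hc' : ρ * z * ρ⁻¹ * z⁻¹ = x * ρ ^ 2 := by rw [hc, pow_two]
  obtain ⟨ρ', hρ'⟩ : ∃ ρ', ρ' = (ρ * z * ρ⁻¹ * z⁻¹) ^ q := ⟨_, rfl⟩
  have hpow : ∀ j : ℕ, ∃ x' ∈ T, ρ' ^ j = x' * ρ ^ (2 * (q * j)) := by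
    intro j
    obtain ⟨x', hx', h⟩ := pow_decomp s hx 2 (q * j)
    refine ⟨x', hx', ?_⟩
    rw [hρ', ← pow_mul, hc', h]
  have hqcop : Nat.Coprime (2 * q) n := by
    obtain ⟨k, hk⟩ := IsPGroup.iff_card.mp s.hT2
    rw [← hq] at hk
    rw [hk, ← pow_succ']
    exact (Nat.coprime_two_left.mpr s.hnodd).pow_left _
  have hTq : ∀ t ∈ T, t ^ q = 1 := by
    intro t ht
    have h1 : (⟨t, ht⟩ : ↥T) ^ Nat.card ↥T = 1 := pow_card_eq_one'
    have h2 : ((⟨t, ht⟩ : ↥T) ^ Nat.card ↥T : ↥T).1 = 1 := by rw [h1]; rfl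
    rw [Subgroup.coe_pow] at h2
    rw [hq]
    exact h2
  have hρ'n : ρ' ^ n = 1 := by
    obtain ⟨x', hx', h⟩ := pow_decomp s hx 2 n
    have h2 : ρ ^ (2 * n) = 1 := by rw [mul_comm, pow_mul, rho_pow_n s, one_pow]
    rw [h2, mul_one, ← hc'] at h
    rw [hρ', ← pow_mul, mul_comm, pow_mul, h]
    exact hTq x' hx'
  have hord : orderOf ρ' = n := by
    apply Nat.dvd_antisymm (orderOf_dvd_of_pow_eq_one hρ'n)
    obtain ⟨x', hx', h⟩ := hpow (orderOf ρ')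
    rw [pow_orderOf_eq_one] at h
    have h3 : ρ ^ (2 * (q * orderOf ρ')) ∈ T := by
      have h6 : ρ ^ (2 * (q * orderOf ρ')) = x'⁻¹ := eq_inv_of_mul_eq_one_right h.symm
      rw [h6]; exact T.inv_mem hx'
    have h4 := s.rho_pow_eq_one h3
    have h5 : n ∣ 2 * (q * orderOf ρ') := by
      rw [← s.hρn]; exact orderOf_dvd_of_pow_eq_one h4
    rw [← mul_assoc] at h5
    exact Nat.Coprime.dvd_of_dvd_mul_left hqcop.symm h5
  have hKρ' : ∀ k ∈ K, ∃ i : ℕ, ∃ x ∈ T, k = x * ρ' ^ i := by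
    intro k hk
    obtain ⟨i, x₀, hx₀, rfl⟩ := s.hKρ k hk
    have hn1 : 1 < n := by have := s.hn3; omega
    obtain ⟨m, -, hm⟩ := Nat.exists_mul_mod_eq_one_of_coprime hqcop hn1
    obtain ⟨x', hx', h⟩ := hpow (m * i)
    have hmod : 2 * (q * (m * i)) ≡ i [MOD orderOf ρ] := by
      rw [s.hρn]
      have h1 : 2 * q * m ≡ 1 [MOD n] := by
        unfold Nat.ModEq
        rw [hm, Nat.mod_eq_of_lt hn1]
      have h2 := h1.mul_right i
      rw [one_mul] at h2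
      have e : 2 * (q * (m * i)) = 2 * q * m * i := by ring
      rw [e]; exact h2
    have hpw : ρ ^ (2 * (q * (m * i))) = ρ ^ i := pow_eq_pow_iff_modEq.mpr hmod
    rw [hpw] at h
    refine ⟨m * i, x₀ * x'⁻¹, T.mul_mem hx₀ (T.inv_mem hx'), ?_⟩
    rw [h]; group
  refine ⟨ρ', ?_, ?_⟩
  · rw [hρ']; exact N.pow_mem hcN q
  · exact { s with
      hρK := by rw [hρ']; exact K.pow_mem hcK q
      hρn := hord
      hKρ := hKρ' }

theorem caseI_rho [Finite G] (s : Setup H P T K y ρ n)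
    (hI : ∃ z ∈ P, z ∉ T ∧ ∀ x ∈ T, z * x = x * z) :
    ∃ ρ' : G, Setup H P T K y ρ' n ∧ ∀ x ∈ T, ρ' * x = x * ρ' := by
  obtain ⟨z, hzP, hzT, hzc⟩ := hI
  have hN : ∀ a ∈ H, ∀ g ∈ H ⊓ Subgroup.centralizer (T : Set G),
      a * g * a⁻¹ ∈ H ⊓ Subgroup.centralizer (T : Set G) := by
    intro a ha g hg
    obtain ⟨hgH, hgC⟩ := Subgroup.mem_inf.mp hg
    refine Subgroup.mem_inf.mpr ⟨H.mul_mem (H.mul_mem ha hgH) (H.inv_mem ha), ?_⟩
    rw [Subgroup.mem_centralizer_iff] at hgC ⊢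
    intro x hx
    have hx' : a⁻¹ * x * a ∈ T := s.inv_conj_T ha hx
    have h1 := hgC _ hx'
    calc x * (a * g * a⁻¹) = a * ((a⁻¹ * x * a) * g) * a⁻¹ := by group
      _ = a * (g * (a⁻¹ * x * a)) * a⁻¹ := by rw [h1]
      _ = a * g * a⁻¹ * x := by group
  have hzN : z ∈ H ⊓ Subgroup.centralizer (T : Set G) := by
    refine Subgroup.mem_inf.mpr ⟨s.hPH hzP, ?_⟩
    rw [Subgroup.mem_centralizer_iff]
    intro x hx
    exact (hzc x hx).symm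
  obtain ⟨ρ', hρ'N, s'⟩ := rechoose s _ hN z hzP hzT hzN
  refine ⟨ρ', s', ?_⟩
  intro x hx
  have h1 := (Subgroup.mem_centralizer_iff.mp (Subgroup.mem_inf.mp hρ'N).2) x hx
  exact h1.symm

end Cfsg.Agent.Lib.Helper5.D2N
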