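import Cfsg.Agent.Lib.Helper2.PUBasic3
import Cfsg.Agent.Lib.Helper1.PCore
import Cfsg.Agent.Lib.Helper5.D2NFin4

/-! Farm D2N (S4385), block D: `dih_core`, `dih_odd` (stub statements verbatim), and the
homomorphism `↥H →* DihedralGroup n` with kernel `T`. -/
set_option autoImplicit false
set_option linter.style.haveILetI false
set_option linter.unusedVariables false
set_option linter.unusedSectionVars false

namespace Cfsg.Agent.Lib.Helper5.D2N

open Cfsg.Agent.Lib.Helper2.PU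

variable {G : Type*} [Group G]

variable {H P T K V Z W T0 : Subgroup G} {y ρ w0 : G} {n : ℕ}

theorem dih_core [Finite G] (c : Ctx H P n y) (hT : T = (Cfsg.pCore 2 ↥H).map H.subtype) :
    T ≤ P ∧ (∀ a ∈ H, ∀ x ∈ T, a * x * a⁻¹ ∈ T) ∧ IsPGroup 2 T ∧
    (∀ N : Subgroup G, N ≤ H → IsPGroup 2 N → (∀ a ∈ H, ∀ x ∈ N, a * x * a⁻¹ ∈ N) → N ≤ T) ∧
    T ≠ ⊥ := by
  haveI : Fact (Nat.Prime 2) := ⟨Nat.prime_two⟩
  have hOn : (Cfsg.pCore 2 ↥H).Normal := Cfsg.Agent.Lib.Helper1.pCore_normal 2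
  refine ⟨?_, ?_, ?_, ?_, ?_⟩
  · have hP' : IsPGroup 2 (P.subgroupOf H) := c.hP.comap_subtype
    have hidx : ¬ 2 ∣ (P.subgroupOf H).index := c.hPsyl
    have h1 : Cfsg.pCore 2 ↥H ≤ P.subgroupOf H :=
      Cfsg.Agent.Lib.Helper1.pCore_le_sylow 2 (hP'.toSylow hidx)
    rw [hT]
    intro x hx
    obtain ⟨x', hx', rfl⟩ := Subgroup.mem_map.mp hx
    exact Subgroup.mem_subgroupOf.mp (h1 hx')
  · intro a ha x hx
    rw [hT] at hx ⊢
    obtain ⟨x', hx', rfl⟩ := Subgroup.mem_map.mp hx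
    exact Subgroup.mem_map.mpr ⟨⟨a, ha⟩ * x' * ⟨a, ha⟩⁻¹, hOn.conj_mem x' hx' ⟨a, ha⟩, rfl⟩
  · rw [hT]; exact (Cfsg.Agent.Lib.Helper1.pCore_isPGroup 2).map _
  · intro N hNH hN2 hNn
    have hN'n : (N.subgroupOf H).Normal := subgroupOf_normal_of_conj hNn
    have hN'2 : IsPGroup 2 (N.subgroupOf H) := hN2.comap_subtype
    have h1 := Cfsg.Agent.Lib.Helper1.le_pCore hN'n hN'2
    intro x hx
    rw [hT]
    exact Subgroup.mem_map.mpr ⟨⟨x, hNH hx⟩, h1 (Subgroup.mem_subgroupOf.mpr hx), rfl⟩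
  · rw [hT]
    intro h
    exact c.hO ((Subgroup.map_eq_bot_iff_of_injective _ H.subtype_injective).mp h)

/-- the homomorphism onto the dihedral group, with kernel `T` -/
theorem exists_hom [Finite G] (c : Ctx H P n y) (hT : T = (Cfsg.pCore 2 ↥H).map H.subtype) :
    ∃ f : ↥H →* DihedralGroup n, Function.Surjective f ∧ (∀ g : ↥H, f g = 1 ↔ (g : G) ∈ T) ∧
      f.ker = Cfsg.pCore 2 ↥H := by
  haveI hOn : (Cfsg.pCore 2 ↥H).Normal := Cfsg.Agent.Lib.Helper1.pCore_normal 2
  obtain ⟨e⟩ := c.hdih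
  refine ⟨e.toMonoidHom.comp (QuotientGroup.mk' (Cfsg.pCore 2 ↥H)), ?_, ?_, ?_⟩
  · exact e.surjective.comp (QuotientGroup.mk'_surjective _)
  · intro g
    rw [MonoidHom.comp_apply, MulEquiv.coe_toMonoidHom, MulEquiv.map_eq_one_iff,
      QuotientGroup.mk'_apply, QuotientGroup.eq_one_iff, hT]
    constructor
    · intro h
      exact Subgroup.mem_map.mpr ⟨g, h, rfl⟩
    · intro h
      obtain ⟨g', hg', e'⟩ := Subgroup.mem_map.mp h
      have : g' = g := Subtype.ext e'
      rw [← this]; exact hg'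
  · ext g
    rw [MonoidHom.mem_ker, MonoidHom.comp_apply, MulEquiv.coe_toMonoidHom,
      MulEquiv.map_eq_one_iff, QuotientGroup.mk'_apply, QuotientGroup.eq_one_iff]

theorem dih_odd [Finite G] (c : Ctx H P n y) : Odd n ∧ 3 ≤ n := by
  have hodd : Odd n := by
    by_contra hne
    have heven : Even n := Nat.not_odd_iff_even.mp hne
    obtain ⟨m, hm⟩ := heven
    have hn := c.hn
    have hm0 : 0 < m := by omega
    have hmn : m < n := by omega
    haveI : NeZero n := ⟨by omega⟩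
    obtain ⟨f, hf, -, hker⟩ := exists_hom c (T := (Cfsg.pCore 2 ↥H).map H.subtype) rfl
    haveI hOn : (Cfsg.pCore 2 ↥H).Normal := Cfsg.Agent.Lib.Helper1.pCore_normal 2
    -- the central involution `r m`
    have hmm : ((m : ℕ) : ZMod n) + ((m : ℕ) : ZMod n) = 0 := by
      rw [← Nat.cast_add, ← hm, ZMod.natCast_self]
    have hm_ne : ((m : ℕ) : ZMod n) ≠ 0 := by
      intro h
      rw [ZMod.natCast_eq_zero_iff] at h
      have := Nat.le_of_dvd hm0 h
      omega
    have hz1 : (DihedralGroup.r (m : ZMod n) : DihedralGroup n) ≠ 1 := by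
      intro h
      rw [DihedralGroup.one_def] at h
      exact hm_ne (DihedralGroup.r.inj h)
    have hz2 : (DihedralGroup.r (m : ZMod n) : DihedralGroup n) * DihedralGroup.r (m : ZMod n)
        = 1 := by
      rw [DihedralGroup.r_mul_r, hmm, DihedralGroup.r_zero]
    have hzc : ∀ w : DihedralGroup n, w * DihedralGroup.r (m : ZMod n) * w⁻¹
        = DihedralGroup.r (m : ZMod n) := by
      intro w
      cases w with
      | r i =>
        rw [DihedralGroup.inv_r, DihedralGroup.r_mul_r, DihedralGroup.r_mul_r]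
        congr 1; ring
      | sr i =>
        rw [DihedralGroup.inv_sr, DihedralGroup.sr_mul_r, DihedralGroup.sr_mul_sr]
        congr 1
        have : -((m : ℕ) : ZMod n) = ((m : ℕ) : ZMod n) := neg_eq_of_add_eq_zero_left hmm
        rw [sub_add_eq_sub_sub, sub_self, zero_sub, this]
    -- the preimage of `{1, r m}`
    obtain ⟨M, hM⟩ : ∃ M : Subgroup ↥H, M = (Subgroup.zpowers
      (DihedralGroup.r (m : ZMod n) : DihedralGroup n)).comap f := ⟨_, rfl⟩
    have hZn : (Subgroup.zpowers (DihedralGroup.r (m : ZMod n) : DihedralGroup n)).Normal := by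
      constructor
      intro x hx w
      obtain ⟨k, rfl⟩ := Subgroup.mem_zpowers_iff.mp hx
      have e : w * DihedralGroup.r (m : ZMod n) ^ k * w⁻¹
          = (w * DihedralGroup.r (m : ZMod n) * w⁻¹) ^ k := (conj_zpow).symm
      rw [e, hzc w]
      exact Subgroup.zpow_mem_zpowers _ k
    have hMn : M.Normal := by
      rw [hM]; exact hZn.comap f
    have hM2 : IsPGroup 2 M := by
      haveI : Fact (Nat.Prime 2) := ⟨Nat.prime_two⟩
      have hO2 : IsPGroup 2 (Cfsg.pCore 2 ↥H) := Cfsg.Agent.Lib.Helper1.pCore_isPGroup 2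
      have hMmem : ∀ x ∈ M, f x ∈ Subgroup.zpowers
          (DihedralGroup.r (m : ZMod n) : DihedralGroup n) := by
        intro x hx
        rw [hM] at hx
        exact hx
      intro g
      have hg := hMmem (g : ↥H) g.2
      obtain ⟨k, hk⟩ := Subgroup.mem_zpowers_iff.mp hg
      have hsq : f ((g : ↥H) * (g : ↥H)) = 1 := by
        rw [map_mul, ← hk, ← zpow_add, ← two_mul, zpow_mul, zpow_two, hz2, one_zpow]
      have hgk : (g : ↥H) * (g : ↥H) ∈ Cfsg.pCore 2 ↥H := by
        rw [← hker]; exact hsq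
      obtain ⟨j, hj⟩ := hO2 ⟨_, hgk⟩
      refine ⟨j + 1, ?_⟩
      apply Subtype.ext
      have hj' := congrArg Subtype.val hj
      simp only [Subgroup.coe_pow, Subgroup.coe_one] at hj' ⊢
      rw [pow_succ', pow_mul, pow_two]
      exact hj'
    have hle := Cfsg.Agent.Lib.Helper1.le_pCore hMn hM2
    obtain ⟨g, hg⟩ := hf (DihedralGroup.r (m : ZMod n))
    have hgM : g ∈ M := by
      rw [hM, Subgroup.mem_comap, hg]
      exact Subgroup.mem_zpowers _
    have hgk : g ∈ f.ker := by rw [hker]; exact hle hgM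
    rw [MonoidHom.mem_ker, hg] at hgk
    exact hz1 hgk
  refine ⟨hodd, ?_⟩
  have hn := c.hn
  obtain ⟨k, hk⟩ := hodd
  omega

end Cfsg.Agent.Lib.Helper5.D2N
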