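import Cfsg.Agent.Lib.Helper2.PUBasic3
import Cfsg.Agent.Lib.Helper5.D2NDihCore

/-! Farm D2N (S4385), block D: `dih_struct` (stub statement verbatim). -/
set_option autoImplicit false
set_option maxHeartbeats 1000000
set_option linter.style.haveILetI false
set_option linter.unusedVariables false
set_option linter.unusedSectionVars false

namespace Cfsg.Agent.Lib.Helper5.D2N

open Cfsg.Agent.Lib.Helper2.PU

variable {G : Type*} [Group G]

variable {H P T K V Z W T0 : Subgroup G} {y ρ w0 : G} {n : ℕ}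

theorem dih_cases (w : DihedralGroup n) :
    (∃ i, w = DihedralGroup.r i) ∨ (∃ i, w = DihedralGroup.sr i) := by
  cases w with
  | r i => exact Or.inl ⟨i, rfl⟩
  | sr i => exact Or.inr ⟨i, rfl⟩

/-- the rotation subgroup -/
def rot (n : ℕ) : Subgroup (DihedralGroup n) where
  carrier := {w | ∃ i, w = DihedralGroup.r i}
  mul_mem' := by
    rintro _ _ ⟨i, rfl⟩ ⟨j, rfl⟩
    exact ⟨i + j, DihedralGroup.r_mul_r i j⟩
  one_mem' := ⟨0, DihedralGroup.one_def⟩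
  inv_mem' := by
    rintro _ ⟨i, rfl⟩
    exact ⟨-i, DihedralGroup.inv_r i⟩

theorem mem_rot {w : DihedralGroup n} : w ∈ rot n ↔ ∃ i, w = DihedralGroup.r i := Iff.rfl

theorem rot_conj (w : DihedralGroup n) (i : ZMod n) :
    ∃ j, w * DihedralGroup.r i * w⁻¹ = DihedralGroup.r j := by
  cases w with
  | r j =>
    exact ⟨j + i + -j, by rw [DihedralGroup.inv_r, DihedralGroup.r_mul_r, DihedralGroup.r_mul_r]⟩
  | sr j =>
    exact ⟨j - (j + i), by
      rw [DihedralGroup.inv_sr, DihedralGroup.sr_mul_r, DihedralGroup.sr_mul_sr]⟩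

theorem r_pow_n [NeZero n] (i : ZMod n) : (DihedralGroup.r i : DihedralGroup n) ^ n = 1 := by
  have h : (DihedralGroup.r i : DihedralGroup n) = (DihedralGroup.r 1) ^ (i.val) := by
    rw [DihedralGroup.r_one_pow, ZMod.natCast_zmod_val]
  rw [h, ← pow_mul, mul_comm, pow_mul, DihedralGroup.r_one_pow_n, one_pow]

theorem setupA_of_hom [Finite G] (c : Ctx H P n y) (hodd : Odd n) (h3 : 3 ≤ n)
    (hT : T = (Cfsg.pCore 2 ↥H).map H.subtype) (hTP : T ≤ P)
    (hTn : ∀ a ∈ H, ∀ x ∈ T, a * x * a⁻¹ ∈ T) (hT2 : IsPGroup 2 T)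
    (hTmax : ∀ N : Subgroup G, N ≤ H → IsPGroup 2 N →
      (∀ a ∈ H, ∀ x ∈ N, a * x * a⁻¹ ∈ N) → N ≤ T) (hTne : T ≠ ⊥)
    (f : ↥H →* DihedralGroup n) (hf : Function.Surjective f)
    (hker : ∀ g : ↥H, f g = 1 ↔ (g : G) ∈ T) (hkerO : f.ker = Cfsg.pCore 2 ↥H) :
    ∃ K : Subgroup G, ∃ ρ : G, SetupA H P T K ρ n := by
  classical
  haveI : NeZero n := ⟨by omega⟩
  have hn1 : 1 < n := by omega
  have hTH : T ≤ H := hTP.trans c.hPH
  obtain ⟨K, hKdef⟩ : ∃ K : Subgroup G, K = ((rot n).comap f).map H.subtype := ⟨_, rfl⟩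
  have hKmem : ∀ g : ↥H, (g : G) ∈ K ↔ ∃ i, f g = DihedralGroup.r i := by
    intro g
    rw [hKdef]
    constructor
    · intro h
      obtain ⟨g', hg', e⟩ := Subgroup.mem_map.mp h
      have h1 : g' = g := Subtype.ext e
      rw [← h1]; exact hg'
    · intro h
      exact Subgroup.mem_map.mpr ⟨g, h, rfl⟩
  have hKH : K ≤ H := by rw [hKdef]; exact Subgroup.map_subtype_le _
  have hcardT : Nat.card T = Nat.card (Cfsg.pCore 2 ↥H) := by
    rw [hT]; exact Subgroup.card_map_of_injective H.subtype_injective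
  have hcardH : Nat.card H = Nat.card T * (2 * n) := by
    have h1 := Subgroup.card_eq_card_quotient_mul_card_subgroup f.ker
    have h2 : Nat.card (↥H ⧸ f.ker) = 2 * n := by
      rw [Nat.card_congr (QuotientGroup.quotientKerEquivOfSurjective f hf).toEquiv,
        DihedralGroup.nat_card]
    rw [h2, hkerO, ← hcardT] at h1
    rw [h1]; ring
  obtain ⟨q, hq⟩ : ∃ q, q = Nat.card T := ⟨_, rfl⟩
  have hqcop : Nat.Coprime q n := by
    obtain ⟨k, hk⟩ := IsPGroup.iff_card.mp hT2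
    rw [hq, hk]
    exact (Nat.coprime_two_left.mpr hodd).pow_left _
  have hTq : ∀ t ∈ T, t ^ q = 1 := by
    intro t ht
    have h1 : (⟨t, ht⟩ : ↥T) ^ Nat.card ↥T = 1 := pow_card_eq_one'
    have h2 : ((⟨t, ht⟩ : ↥T) ^ Nat.card ↥T : ↥T).1 = 1 := by rw [h1]; rfl
    rw [Subgroup.coe_pow] at h2
    rw [hq]
    exact h2
  obtain ⟨m, -, hm⟩ := Nat.exists_mul_mod_eq_one_of_coprime hqcop hn1
  obtain ⟨a₀, ha₀⟩ := hf (DihedralGroup.r 1)
  obtain ⟨ρ₀, hρ₀⟩ : ∃ ρ₀ : ↥H, ρ₀ = a₀ ^ (q * m) := ⟨_, rfl⟩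
  have hfρ : f ρ₀ = DihedralGroup.r 1 := by
    rw [hρ₀, map_pow, ha₀, DihedralGroup.r_one_pow]
    congr 1
    have h1 : ((q * m : ℕ) : ZMod n) = ((1 : ℕ) : ZMod n) := by
      rw [ZMod.natCast_eq_natCast_iff']
      rw [hm, Nat.mod_eq_of_lt hn1]
    rw [h1, Nat.cast_one]
  have hfρpow : ∀ j : ℕ, f (ρ₀ ^ j) = DihedralGroup.r (j : ZMod n) := by
    intro j; rw [map_pow, hfρ, DihedralGroup.r_one_pow]
  have hρn1 : (ρ₀ : G) ^ n = 1 := by
    have h1 : f (a₀ ^ n) = 1 := by rw [map_pow, ha₀, DihedralGroup.r_one_pow_n]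
    have h2 : ((a₀ ^ n : ↥H) : G) ∈ T := (hker _).mp h1
    have h3 := hTq _ h2
    rw [hρ₀]
    have e : ((a₀ ^ (q * m) : ↥H) : G) ^ n = (((a₀ ^ n : ↥H) : G) ^ q) ^ m := by
      simp only [Subgroup.coe_pow]
      rw [← pow_mul, ← pow_mul, ← pow_mul]
      congr 1; ring
    rw [e, h3, one_pow]
  have hord : orderOf (ρ₀ : G) = n := by
    apply Nat.dvd_antisymm (orderOf_dvd_of_pow_eq_one hρn1)
    have h1 : orderOf (f ρ₀) ∣ orderOf ρ₀ := orderOf_map_dvd f ρ₀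
    rw [hfρ, DihedralGroup.orderOf_r_one] at h1
    rwa [Subgroup.orderOf_coe]
  refine ⟨K, (ρ₀ : G), ?_⟩
  have hPK : ∀ p ∈ P, p ∈ K → p ∈ T := by
    intro p hpP hpK
    have hpH := c.hPH hpP
    obtain ⟨i, hi⟩ := (hKmem ⟨p, hpH⟩).mp hpK
    obtain ⟨k, hk⟩ := c.hP ⟨p, hpP⟩
    have hk' : p ^ (2 ^ k) = 1 := by
      have h0 := congrArg Subtype.val hk
      simpa using h0
    have h1 : (DihedralGroup.r i : DihedralGroup n) ^ (2 ^ k) = 1 := by
      rw [← hi, ← map_pow]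
      have h0 : (⟨p, hpH⟩ : ↥H) ^ (2 ^ k) = 1 := Subtype.ext (by simpa using hk')
      rw [h0, map_one]
    have h2 := r_pow_n i
    have hcop : Nat.Coprime (2 ^ k) n := (Nat.coprime_two_left.mpr hodd).pow_left k
    have h3' : orderOf (DihedralGroup.r i : DihedralGroup n) = 1 :=
      Nat.eq_one_of_dvd_coprimes hcop (orderOf_dvd_of_pow_eq_one h1)
        (orderOf_dvd_of_pow_eq_one h2)
    have h4 : (DihedralGroup.r i : DihedralGroup n) = 1 := orderOf_eq_one_iff.mp h3'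
    rw [h4] at hi
    exact (hker ⟨p, hpH⟩).mp hi
  have hrefl : ∀ p (hpP : p ∈ P), p ∉ T →
      ∃ i, f ⟨p, c.hPH hpP⟩ = DihedralGroup.sr i := by
    intro p hpP hpT
    rcases dih_cases (f ⟨p, c.hPH hpP⟩) with ⟨i, hi⟩ | ⟨i, hi⟩
    · exact absurd (hPK p hpP ((hKmem ⟨p, c.hPH hpP⟩).mpr ⟨i, hi⟩)) hpT
    · exact ⟨i, hi⟩
  have hPT : ∃ t ∈ P, t ∉ T := by
    by_contra hcon
    have hcon' : ∀ t ∈ P, t ∈ T := fun t ht => by
      by_contra h
      exact hcon ⟨t, ht, h⟩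
    have hPeq : P = T := le_antisymm hcon' hTP
    have h1 := card_mul_relIndex' hTH
    rw [hcardH] at h1
    have hpos : 0 < Nat.card T := Nat.card_pos
    have h2 : T.relIndex H = 2 * n := Nat.eq_of_mul_eq_mul_left hpos h1
    apply c.hPsyl
    rw [hPeq, h2]
    exact dvd_mul_right 2 n
  exact
    { hTdef := hT
      hTP := hTP
      hPH := c.hPH
      hTK := by
        intro x hx
        have hxH := hTH hx
        exact (hKmem ⟨x, hxH⟩).mpr ⟨0, by rw [(hker ⟨x, hxH⟩).mpr hx, DihedralGroup.one_def]⟩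
      hKH := hKH
      hTn := hTn
      hKn := by
        intro a ha k hk
        have hkH := hKH hk
        obtain ⟨i, hi⟩ := (hKmem ⟨k, hkH⟩).mp hk
        obtain ⟨j, hj⟩ := rot_conj (f ⟨a, ha⟩) i
        have h := (hKmem (⟨a, ha⟩ * ⟨k, hkH⟩ * ⟨a, ha⟩⁻¹)).mpr
          ⟨j, by rw [map_mul, map_mul, map_inv, hi, hj]⟩
        exact h
      hT2 := hT2
      hP2 := c.hP
      hPsyl := c.hPsyl
      hTmax := hTmax
      hTne := hTne
      hnodd := hodd
      hn3 := h3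
      hρK := (hKmem ρ₀).mpr ⟨1, hfρ⟩
      hρn := hord
      hKρ := by
        intro k hk
        have hkH := hKH hk
        obtain ⟨i, hi⟩ := (hKmem ⟨k, hkH⟩).mp hk
        refine ⟨i.val, k * ((ρ₀ : G) ^ i.val)⁻¹, ?_, by group⟩
        have h := (hker (⟨k, hkH⟩ * (ρ₀ ^ i.val)⁻¹)).mp
          (by rw [map_mul, map_inv, hi, hfρpow, ZMod.natCast_zmod_val, mul_inv_cancel])
        exact h
      hPK := hPK
      hPT := hPT
      hidx := by
        intro p hp q hq hpT hqT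
        obtain ⟨i, hi⟩ := hrefl p hp hpT
        obtain ⟨j, hj⟩ := hrefl q hq hqT
        apply hPK _ (P.mul_mem hp hq)
        have h := (hKmem (⟨p, c.hPH hp⟩ * ⟨q, c.hPH hq⟩)).mpr
          ⟨j - i, by rw [map_mul, hi, hj, DihedralGroup.sr_mul_sr]⟩
        exact h
      hHK := by
        intro a ha
        rcases dih_cases (f ⟨a, ha⟩) with ⟨i, hi⟩ | ⟨i, hi⟩
        · exact ⟨a, (hKmem ⟨a, ha⟩).mpr ⟨i, hi⟩, 1, P.one_mem, (mul_one a).symm⟩
        · obtain ⟨t, htP, htT⟩ := hPT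
          obtain ⟨j, hj⟩ := hrefl t htP htT
          refine ⟨a * t⁻¹, ?_, t, htP, by group⟩
          have h := (hKmem (⟨a, ha⟩ * ⟨t, c.hPH htP⟩⁻¹)).mpr
            ⟨j - i, by rw [map_mul, map_inv, hi, hj, DihedralGroup.inv_sr,
              DihedralGroup.sr_mul_sr]⟩
          exact h
      hinv := by
        intro t htP htT k hk
        have hkH := hKH hk
        obtain ⟨i, hi⟩ := (hKmem ⟨k, hkH⟩).mp hk
        obtain ⟨j, hj⟩ := hrefl t htP htT
        have h := (hker (⟨t, c.hPH htP⟩ * ⟨k, hkH⟩ * ⟨t, c.hPH htP⟩⁻¹ * ⟨k, hkH⟩)).mp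
          (by
            rw [map_mul, map_mul, map_mul, map_inv, hi, hj, DihedralGroup.inv_sr,
              DihedralGroup.sr_mul_r, DihedralGroup.sr_mul_sr, DihedralGroup.r_mul_r,
              DihedralGroup.one_def]
            congr 1; ring)
        exact h
      hcardH := hcardH }

theorem dih_struct [Finite G] (c : Ctx H P n y) (hodd : Odd n) (h3 : 3 ≤ n)
    (hT : T = (Cfsg.pCore 2 ↥H).map H.subtype) (hTP : T ≤ P)
    (hTn : ∀ a ∈ H, ∀ x ∈ T, a * x * a⁻¹ ∈ T) (hT2 : IsPGroup 2 T)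
    (hTmax : ∀ N : Subgroup G, N ≤ H → IsPGroup 2 N →
      (∀ a ∈ H, ∀ x ∈ N, a * x * a⁻¹ ∈ N) → N ≤ T) (hTne : T ≠ ⊥) :
    ∃ K : Subgroup G, ∃ ρ : G, SetupA H P T K ρ n := by
  obtain ⟨f, hf, hker, hkerO⟩ := exists_hom c hT
  exact setupA_of_hom c hodd h3 hT hTP hTn hT2 hTmax hTne f hf hker hkerO

end Cfsg.Agent.Lib.Helper5.D2N
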