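import Cfsg.Agent.Lib.Helper2.R4A1
import Cfsg.Agent.Lib.Helper2.R4A3
import Cfsg.Agent.Lib.Helper2.R4A5
import Cfsg.Agent.Lib.Helper1.CoprimeGenCentralizers
import Cfsg.Agent.Lib.Helper1.CoprimeSylow

/-! S3814 farm piece C3d: an `E_{r^2}` acting on a `q`-group `S` with `C_E(S) = 1 = C_S(E)`, `E2 q S`
and no proper `E`-invariant subgroup of `S` having `E2 q`. -/

set_option autoImplicit false
set_option linter.style.haveILetI false

namespace Cfsg.Agent.Lib.Helper2.R4

open scoped Pointwise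

variable {G : Type*} [Group G]

/-- elements commuting with `e` are sent by conjugation with an element commuting with `e` to
elements commuting with `e`. -/
theorem h5_r4_conj_mem_cent {S : Subgroup G} {e z x : G}
    (he : e ∈ Subgroup.normalizer (S : Set G)) (hez : e * z = z * e)
    (hx : x ∈ S ⊓ Subgroup.centralizer {z}) : e * x * e⁻¹ ∈ S ⊓ Subgroup.centralizer {z} := by
  obtain ⟨hxS, hxz⟩ := Subgroup.mem_inf.1 hx
  refine Subgroup.mem_inf.2 ⟨(Subgroup.mem_normalizer_iff.1 he x).1 hxS, ?_⟩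
  rw [Subgroup.mem_centralizer_iff] at hxz ⊢
  intro y hy
  rw [Set.mem_singleton_iff] at hy
  subst hy
  have h1 : y * x = x * y := hxz y rfl
  have hez' : e⁻¹ * y = y * e⁻¹ := by
    have : e⁻¹ * (e * y) * e⁻¹ = e⁻¹ * (y * e) * e⁻¹ := by rw [hez]
    simpa [mul_assoc] using this.symm
  calc y * (e * x * e⁻¹) = (y * e) * x * e⁻¹ := by group
    _ = (e * y) * x * e⁻¹ := by rw [hez]
    _ = e * (y * x) * e⁻¹ := by group
    _ = e * (x * y) * e⁻¹ := by rw [h1]
    _ = e * x * (y * e⁻¹) := by group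
    _ = e * x * (e⁻¹ * y) := by rw [hez']
    _ = e * x * e⁻¹ * y := by group

theorem h5_r4_mem_cent_iff {S : Subgroup G} {z x : G} :
    x ∈ S ⊓ Subgroup.centralizer {z} ↔ x ∈ S ∧ z * x = x * z := by
  rw [Subgroup.mem_inf, Subgroup.mem_centralizer_iff]
  constructor
  · rintro ⟨h1, h2⟩; exact ⟨h1, h2 z rfl⟩
  · rintro ⟨h1, h2⟩
    refine ⟨h1, ?_⟩
    intro y hy
    rw [Set.mem_singleton_iff] at hy
    subst hy; exact h2

/-- a subgroup of prime order is generated by each of its nonidentity elements -/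
theorem h5_r4_zpowers_eq_of_card [Finite G] {q : ℕ} (hq : q.Prime) {Y : Subgroup G}
    (hY : Nat.card Y = q) {y : G} (hy : y ∈ Y) (hy1 : y ≠ 1) : Subgroup.zpowers y = Y := by
  have hle : Subgroup.zpowers y ≤ Y := by rwa [Subgroup.zpowers_le]
  apply Subgroup.eq_of_le_of_card_ge hle
  rw [Nat.card_zpowers, hY]
  have hdvd : orderOf y ∣ q := by
    have h1 : orderOf (⟨y, hy⟩ : Y) ∣ Nat.card Y := orderOf_dvd_natCard _
    rwa [Subgroup.orderOf_mk, hY] at h1
  rcases (Nat.dvd_prime hq).1 hdvd with h | h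
  · exact absurd (orderOf_eq_one_iff.1 h) hy1
  · exact h.ge

theorem sq_on_pgroup_structure [Finite G] {q r : ℕ} (hq : q.Prime) (hr : r.Prime) (hqr : q ≠ r)
    {S E : Subgroup G} (hS : IsPGroup q S) (hSE : E2 q S) (hE : IsSq r E)
    (hES : E ≤ Subgroup.normalizer (S : Set G))
    (h1 : ∀ e ∈ E, e ≠ 1 → ∃ s ∈ S, e * s ≠ s * e)
    (h2 : ∀ s ∈ S, (∀ e ∈ E, e * s = s * e) → s = 1)
    (h3 : ∀ Y : Subgroup G, Y ≤ S → E ≤ Subgroup.normalizer (Y : Set G) → E2 q Y → Y = S) :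
    ∃ y₁ ∈ S, ∃ y₂ ∈ S, ∃ z₁ ∈ E, ∃ z₂ ∈ E, orderOf y₁ = q ∧ orderOf y₂ = q ∧ orderOf z₁ = r ∧
      orderOf z₂ = r ∧ y₁ * y₂ = y₂ * y₁ ∧ z₁ * z₂ = z₂ * z₁ ∧ z₁ * y₂ = y₂ * z₁ ∧
      z₂ * y₁ = y₁ * z₂ ∧ z₁ * y₁ ≠ y₁ * z₁ ∧ z₂ * y₂ ≠ y₂ * z₂ ∧
      z₁ ∈ Subgroup.normalizer ((Subgroup.zpowers y₁ : Subgroup G) : Set G) ∧
      z₂ ∈ Subgroup.normalizer ((Subgroup.zpowers y₂ : Subgroup G) : Set G) := by
  classical
  haveI : Fact q.Prime := ⟨hq⟩
  have hEcomm := hE.commute hr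
  -- notation: `C z = S ⊓ centralizer {z}`
  -- (F1) `E` normalizes each `C z`, `z ∈ E`
  have F1 : ∀ z ∈ E, E ≤ Subgroup.normalizer ((S ⊓ Subgroup.centralizer {z} : Subgroup G) : Set G) := by
    intro z hz
    apply Cfsg.Agent.Lib.Helper1.le_normalizer_of_conj_mem
    intro e he x hx
    exact h5_r4_conj_mem_cent (hES he) (hEcomm e he z hz) hx
  -- (F2) no `E2` in `C z`
  have F2 : ∀ z ∈ E, z ≠ 1 → ¬ E2 q (S ⊓ Subgroup.centralizer {z}) := by
    intro z hz hz1 hE2
    have := h3 _ inf_le_left (F1 z hz) hE2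
    obtain ⟨s, hs, hne⟩ := h1 z hz hz1
    apply hne
    have hs' : s ∈ S ⊓ Subgroup.centralizer {z} := by rw [this]; exact hs
    exact (h5_r4_mem_cent_iff.1 hs').2
  have hCq : ∀ z : G, IsPGroup q (S ⊓ Subgroup.centralizer {z} : Subgroup G) :=
    fun z => hS.to_le inf_le_left
  -- (F4) generation
  haveI : IsMulCommutative E := ⟨⟨fun a b => Subtype.ext (hEcomm a a.2 b b.2)⟩⟩
  have hcop : (Nat.card E).Coprime (Nat.card S) := by
    obtain ⟨k, hk⟩ := IsPGroup.iff_card.1 hS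
    rw [hE.1, hk]
    exact Nat.Coprime.pow _ _ ((Nat.coprime_primes hr hq).2 (Ne.symm hqr))
  have F4 := Cfsg.Agent.Lib.Helper1.coprime_generated_by_centralizers E S (hE.not_isCyclic hr) hES hcop
  have hSle : ∀ T : Subgroup G, (∀ a ∈ E, a ≠ 1 → S ⊓ Subgroup.centralizer {a} ≤ T) → S ≤ T := by
    intro T hT
    rw [← F4]
    apply iSup₂_le
    intro a ha
    exact hT a ha.1 ha.2
  have hS1 : S ≠ ⊥ := by
    intro hb
    have := hSE.sq_dvd_card
    rw [hb, Subgroup.card_bot] at this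
    have h4 : q ^ 2 ≤ 1 := Nat.le_of_dvd one_pos this
    have : 2 ≤ q := hq.two_le
    nlinarith
  -- `A₀ = Ω₁(Z(S))`
  let A₀ : Subgroup G :=
    { carrier := {s | s ∈ S ∧ (∀ t ∈ S, s * t = t * s) ∧ s ^ q = 1}
      one_mem' := ⟨S.one_mem, fun t _ => by simp, one_pow q⟩
      mul_mem' := by
        rintro a b ⟨haS, hac, haq⟩ ⟨hbS, hbc, hbq⟩
        refine ⟨S.mul_mem haS hbS, ?_, ?_⟩
        · intro t ht
          calc a * b * t = a * (b * t) := by group
            _ = a * (t * b) := by rw [hbc t ht]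
            _ = (a * t) * b := by group
            _ = (t * a) * b := by rw [hac t ht]
            _ = t * (a * b) := by group
        · have hab : Commute a b := hac b hbS
          rw [hab.mul_pow, haq, hbq, one_mul]
      inv_mem' := by
        rintro a ⟨haS, hac, haq⟩
        refine ⟨S.inv_mem haS, ?_, by rw [inv_pow, haq, inv_one]⟩
        intro t ht
        have := hac t ht
        calc a⁻¹ * t = a⁻¹ * (t * a) * a⁻¹ := by group
          _ = a⁻¹ * (a * t) * a⁻¹ := by rw [this]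
          _ = t * a⁻¹ := by group }
  have hA₀mem : ∀ s : G, s ∈ A₀ ↔ s ∈ S ∧ (∀ t ∈ S, s * t = t * s) ∧ s ^ q = 1 := fun s => Iff.rfl
  have hA₀S : A₀ ≤ S := fun s hs => hs.1
  have hA₀q : IsPGroup q A₀ := hS.to_le hA₀S
  have hA₀exp : ∀ v ∈ A₀, v ^ q = 1 := fun v hv => hv.2.2
  obtain ⟨n, hnS, hno, hnc⟩ := h2_r4_exists_central hq hS hS1
  have hnA₀ : n ∈ A₀ := ⟨hnS, hnc, by rw [← hno]; exact pow_orderOf_eq_one n⟩
  have hn1 : n ≠ 1 := by
    intro h; rw [h, orderOf_one] at hno; exact hq.one_lt.ne' hno.symm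
  have hA₀1 : A₀ ≠ ⊥ := by
    intro hb; rw [hb, Subgroup.mem_bot] at hnA₀; exact hn1 hnA₀
  have hEA₀ : E ≤ Subgroup.normalizer (A₀ : Set G) := by
    apply Cfsg.Agent.Lib.Helper1.le_normalizer_of_conj_mem
    intro e he x hx
    obtain ⟨hxS, hxc, hxq⟩ := hx
    have heN := hES he
    refine ⟨(Subgroup.mem_normalizer_iff.1 heN x).1 hxS, ?_, ?_⟩
    · intro t ht
      have ht' : e⁻¹ * t * e ∈ S := by
        have := (Subgroup.mem_normalizer_iff.1 (Subgroup.inv_mem _ heN) t).1 ht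
        simpa using this
      have := hxc _ ht'
      calc e * x * e⁻¹ * t = e * (x * (e⁻¹ * t * e)) * e⁻¹ := by group
        _ = e * ((e⁻¹ * t * e) * x) * e⁻¹ := by rw [this]
        _ = t * (e * x * e⁻¹) := by group
    · rw [conj_pow, hxq]; group
  -- the key dichotomy: `A₀ = S`
  have hA₀eq : A₀ = S := by
    by_cases hE2 : E2 q A₀
    · exact h3 A₀ hA₀S hEA₀ hE2
    exfalso
    have hcard : Nat.card A₀ = q := card_eq_of_not_E2_of_exp hq hA₀1 hA₀exp hE2
    have hzn : Subgroup.zpowers n = A₀ := h5_r4_zpowers_eq_of_card hq hcard hnA₀ hn1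
    -- some `a ∈ E#` centralizes `n`
    obtain ⟨a, haE, hao, w, hwA, hwo, haw⟩ := exists_commute_of_sq' hr hq hE hA₀1 hA₀q hEA₀
    have ha1 : a ≠ 1 := by
      intro h; rw [h, orderOf_one] at hao; exact hr.one_lt.ne' hao.symm
    have hw1 : w ≠ 1 := by
      intro h; rw [h, orderOf_one] at hwo; exact hq.one_lt.ne' hwo.symm
    have hzw : Subgroup.zpowers w = A₀ := h5_r4_zpowers_eq_of_card hq hcard hwA hw1
    have han : a * n = n * a := by
      have hn' : n ∈ Subgroup.zpowers w := by rw [hzw]; exact hnA₀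
      obtain ⟨k, rfl⟩ := Subgroup.mem_zpowers_iff.1 hn'
      exact ((Commute.zpow_right (show Commute a w from haw) k)).eq
    -- not all of `E` centralizes `n`
    have hnotall : ∃ e ∈ E, e * n ≠ n * e := by
      by_contra hcon
      push Not at hcon
      exact hn1 (h2 n hnS hcon)
    -- elements of `E` not centralizing `n` have trivial fixed points on `S`
    have hfix : ∀ z' ∈ E, z' * n ≠ n * z' → S ⊓ Subgroup.centralizer {z'} = ⊥ := by
      intro z' hz'E hz'n
      by_contra hne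
      have hz'1 : z' ≠ 1 := by
        intro h; apply hz'n; rw [h]; simp
      obtain ⟨x, hxC, hxo, -⟩ := h2_r4_exists_central hq (hCq z') hne
      obtain ⟨hxS, hxz⟩ := h5_r4_mem_cent_iff.1 hxC
      have hx1 : x ≠ 1 := by
        intro h; rw [h, orderOf_one] at hxo; exact hq.one_lt.ne' hxo.symm
      have hxn : x ∉ Subgroup.zpowers n := by
        intro hmem
        have hx' : x ∈ A₀ := by rw [← hzn]; exact hmem
        have hzx : Subgroup.zpowers x = A₀ := h5_r4_zpowers_eq_of_card hq hcard hx' hx1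
        have hn' : n ∈ Subgroup.zpowers x := by rw [hzx]; exact hnA₀
        obtain ⟨k, rfl⟩ := Subgroup.mem_zpowers_iff.1 hn'
        exact hz'n ((Commute.zpow_right (show Commute z' x from hxz) k)).eq
      have hnx : n * x = x * n := hnc x hxS
      have hY := isSq_closure_pair hq hno hxo hnx hxn
      have hYS : Subgroup.closure {n, x} ≤ S := by
        rw [Subgroup.closure_le]
        intro y hy
        rcases hy with rfl | rfl
        · exact hnS
        · exact hxS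
      have hEY : E ≤ Subgroup.normalizer ((Subgroup.closure {n, x} : Subgroup G) : Set G) := by
        apply Cfsg.Agent.Lib.Helper1.le_normalizer_of_conj_mem
        intro e he y hy
        obtain ⟨i, j, rfl⟩ := (mem_closure_pair_iff hnx y).1 hy
        have e1 : e * (n ^ i * x ^ j) * e⁻¹ = (e * n * e⁻¹) ^ i * (e * x * e⁻¹) ^ j := by
          rw [conj_zpow, conj_zpow]; group
        rw [e1]
        have hn2 : e * n * e⁻¹ ∈ Subgroup.closure {n, x} := by
          have : e * n * e⁻¹ ∈ A₀ := (Subgroup.mem_normalizer_iff.1 (hEA₀ he) n).1 hnA₀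
          rw [← hzn] at this
          exact (Subgroup.zpowers_le.2 (Subgroup.subset_closure (by simp))) this
        have hx2 : e * x * e⁻¹ ∈ Subgroup.closure {n, x} := by
          have hmem : e * x * e⁻¹ ∈ S ⊓ Subgroup.centralizer {z'} :=
            h5_r4_conj_mem_cent (hES he) (hEcomm e he z' hz'E) hxC
          have ho : orderOf (e * x * e⁻¹) = q := by
            rw [← hxo]
            have hsc : SemiconjBy e x (e * x * e⁻¹) := by
              unfold SemiconjBy; group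
            exact (hsc.orderOf_eq e).symm
          have := zpowers_eq_of_not_E2 hq (hCq z') (F2 z' hz'E hz'1) hmem hxC ho hxo
          have h5 : e * x * e⁻¹ ∈ Subgroup.zpowers x := by
            rw [← this]; exact Subgroup.mem_zpowers _
          exact (Subgroup.zpowers_le.2 (Subgroup.subset_closure (by simp))) h5
        exact Subgroup.mul_mem _ (Subgroup.zpow_mem _ hn2 i) (Subgroup.zpow_mem _ hx2 j)
      have hYeq := h3 _ hYS hEY ⟨_, le_rfl, hY⟩
      -- then `x ∈ A₀`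
      have hx' : x ∈ A₀ := by
        refine ⟨hxS, ?_, by rw [← hxo]; exact pow_orderOf_eq_one x⟩
        intro t ht
        rw [← hYeq] at ht
        exact hY.commute hq x (Subgroup.subset_closure (by simp)) t ht
      apply hxn
      rw [hzn]; exact hx'
    -- `C_E(n)` is generated by `a`
    have hCEn : ∀ e ∈ E, e ≠ 1 → e * n = n * e → a ∈ Subgroup.zpowers e := by
      intro e heE he1 hen
      -- the subgroup `E ⊓ centralizer {n}` has order `r`
      have hlt : (E ⊓ Subgroup.centralizer {n} : Subgroup G) ≠ E := by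
        intro heq
        obtain ⟨e', he', hne'⟩ := hnotall
        apply hne'
        have : e' ∈ E ⊓ Subgroup.centralizer {n} := by rw [heq]; exact he'
        have := (Subgroup.mem_inf.1 this).2
        rw [Subgroup.mem_centralizer_iff] at this
        exact (this n rfl).symm
      have hle : (E ⊓ Subgroup.centralizer {n} : Subgroup G) ≤ E := inf_le_left
      have hdvd : Nat.card (E ⊓ Subgroup.centralizer {n} : Subgroup G) ∣ r ^ 2 := by
        rw [← hE.1]; exact Subgroup.card_dvd_of_le hle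
      have hemem : e ∈ E ⊓ Subgroup.centralizer {n} := by
        refine Subgroup.mem_inf.2 ⟨heE, ?_⟩
        rw [Subgroup.mem_centralizer_iff]
        intro y hy; rw [Set.mem_singleton_iff] at hy; subst hy; exact hen.symm
      have hamem : a ∈ E ⊓ Subgroup.centralizer {n} := by
        refine Subgroup.mem_inf.2 ⟨haE, ?_⟩
        rw [Subgroup.mem_centralizer_iff]
        intro y hy; rw [Set.mem_singleton_iff] at hy; subst hy; exact han.symm
      have hcardC : Nat.card (E ⊓ Subgroup.centralizer {n} : Subgroup G) = r := by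
        obtain ⟨k, hk, hk2⟩ := (Nat.dvd_prime_pow hr).1 hdvd
        interval_cases k
        · exfalso
          rw [pow_zero] at hk2
          have := Subgroup.card_eq_one.1 hk2
          rw [this, Subgroup.mem_bot] at hemem
          exact he1 hemem
        · simpa using hk2
        · exfalso
          apply hlt
          apply Subgroup.eq_of_le_of_card_ge hle
          rw [hk2, hE.1]
      have := h5_r4_zpowers_eq_of_card hr hcardC hemem he1
      rw [this]; exact hamem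
    -- so `S ≤ C a`
    have hSa : S ≤ S ⊓ Subgroup.centralizer {a} := by
      apply hSle
      intro e heE he1
      by_cases hen : e * n = n * e
      · have hae := hCEn e heE he1 hen
        obtain ⟨k, rfl⟩ := Subgroup.mem_zpowers_iff.1 hae
        intro x hx
        obtain ⟨hxS, hxe⟩ := h5_r4_mem_cent_iff.1 hx
        exact h5_r4_mem_cent_iff.2 ⟨hxS, ((Commute.zpow_left (show Commute e x from hxe) k)).eq⟩
      · rw [hfix e heE hen]; exact bot_le
    obtain ⟨s, hs, hne⟩ := h1 a haE ha1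
    exact hne (h5_r4_mem_cent_iff.1 (hSa hs)).2
  -- `S` is abelian of exponent `q`
  have hSab : ∀ s ∈ S, ∀ t ∈ S, s * t = t * s := by
    intro s hs t ht
    rw [← hA₀eq] at hs
    exact hs.2.1 t ht
  have hSexp : ∀ s ∈ S, s ^ q = 1 := by
    intro s hs
    rw [← hA₀eq] at hs
    exact hs.2.2
  have hCcard : ∀ z ∈ E, z ≠ 1 → S ⊓ Subgroup.centralizer {z} ≠ ⊥ →
      Nat.card (S ⊓ Subgroup.centralizer {z} : Subgroup G) = q := by
    intro z hz hz1 hne
    exact card_eq_of_not_E2_of_exp hq hne (fun v hv => hSexp v (Subgroup.mem_inf.1 hv).1) (F2 z hz hz1)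
  -- two different nontrivial centralizers
  have htwo : ∃ z₁ ∈ E, ∃ z₂ ∈ E, z₁ ≠ 1 ∧ z₂ ≠ 1 ∧ S ⊓ Subgroup.centralizer {z₁} ≠ ⊥ ∧
      S ⊓ Subgroup.centralizer {z₂} ≠ ⊥ ∧
      S ⊓ Subgroup.centralizer {z₁} ≠ S ⊓ Subgroup.centralizer {z₂} := by
    by_contra hcon
    push Not at hcon
    have hex : ∃ z₀ ∈ E, z₀ ≠ 1 ∧ S ⊓ Subgroup.centralizer {z₀} ≠ ⊥ := by
      by_contra hno
      push Not at hno
      apply hS1
      rw [eq_bot_iff]
      apply hSle
      intro a ha ha1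
      rw [hno a ha ha1]
    obtain ⟨z₀, hz₀, hz₀1, hz₀ne⟩ := hex
    have hSz : S ≤ S ⊓ Subgroup.centralizer {z₀} := by
      apply hSle
      intro e he he1
      by_cases hb : S ⊓ Subgroup.centralizer {e} = ⊥
      · rw [hb]; exact bot_le
      · rw [hcon e he z₀ hz₀ he1 hz₀1 hb hz₀ne]
    obtain ⟨s, hs, hne⟩ := h1 z₀ hz₀ hz₀1
    exact hne (h5_r4_mem_cent_iff.1 (hSz hs)).2
  obtain ⟨z₁, hz₁, z₂, hz₂, hz₁1, hz₂1, hC₁, hC₂, hC₁₂⟩ := htwo
  have hc₁ := hCcard z₁ hz₁ hz₁1 hC₁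
  have hc₂ := hCcard z₂ hz₂ hz₂1 hC₂
  obtain ⟨y₂, hy₂1⟩ := (Subgroup.ne_bot_iff_exists_ne_one).1 hC₁
  obtain ⟨y₁, hy₁1⟩ := (Subgroup.ne_bot_iff_exists_ne_one).1 hC₂
  have hy₂' : (y₂ : G) ≠ 1 := fun h => hy₂1 (Subtype.ext h)
  have hy₁' : (y₁ : G) ≠ 1 := fun h => hy₁1 (Subtype.ext h)
  have hzp₂ : Subgroup.zpowers (y₂ : G) = S ⊓ Subgroup.centralizer {z₁} :=
    h5_r4_zpowers_eq_of_card hq hc₁ y₂.2 hy₂'
  have hzp₁ : Subgroup.zpowers (y₁ : G) = S ⊓ Subgroup.centralizer {z₂} :=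
    h5_r4_zpowers_eq_of_card hq hc₂ y₁.2 hy₁'
  obtain ⟨hy₂S, hy₂z⟩ := h5_r4_mem_cent_iff.1 y₂.2
  obtain ⟨hy₁S, hy₁z⟩ := h5_r4_mem_cent_iff.1 y₁.2
  have ho : ∀ y : G, y ∈ S → y ≠ 1 → orderOf y = q := by
    intro y hy hy1
    have hdvd : orderOf y ∣ q := orderOf_dvd_of_pow_eq_one (hSexp y hy)
    rcases (Nat.dvd_prime hq).1 hdvd with h | h
    · exact absurd (orderOf_eq_one_iff.1 h) hy1
    · exact h
  refine ⟨y₁, hy₁S, y₂, hy₂S, z₁, hz₁, z₂, hz₂, ho _ hy₁S hy₁', ho _ hy₂S hy₂',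
    hE.orderOf_eq hr hz₁ hz₁1, hE.orderOf_eq hr hz₂ hz₂1, hSab _ hy₁S _ hy₂S,
    hEcomm z₁ hz₁ z₂ hz₂, hy₂z, hy₁z, ?_, ?_, ?_, ?_⟩
  · intro hcomm
    apply hC₁₂
    have hmem : (y₁ : G) ∈ S ⊓ Subgroup.centralizer {z₁} := h5_r4_mem_cent_iff.2 ⟨hy₁S, hcomm⟩
    have := h5_r4_zpowers_eq_of_card hq hc₁ hmem hy₁'
    rw [← this, hzp₁]
  · intro hcomm
    apply hC₁₂
    have hmem : (y₂ : G) ∈ S ⊓ Subgroup.centralizer {z₂} := h5_r4_mem_cent_iff.2 ⟨hy₂S, hcomm⟩
    have := h5_r4_zpowers_eq_of_card hq hc₂ hmem hy₂'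
    rw [← hzp₂, this]
  · rw [hzp₁]; exact F1 z₂ hz₂ hz₁
  · rw [hzp₂]; exact F1 z₁ hz₁ hz₂

end Cfsg.Agent.Lib.Helper2.R4
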