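import Cfsg.Agent.Lib.Helper2.R4A1
import Cfsg.Agent.Lib.Helper2.R4A9
import Cfsg.Agent.Lib.Helper1.FittingCentralizer

/-! S3814 farm piece C2c: a finite solvable group all of whose `O_p` are cyclic and which has an
`E_{p^2}` for every `p ∈ τ` has an element of order divisible by `∏ τ`. -/

set_option autoImplicit false
set_option linter.style.haveILetI false

namespace Cfsg.Agent.Lib.Helper2.R4

open scoped Pointwise

/-- a subgroup `A ≤ F`, `F` normal nilpotent, `A` a `p`-group, lies in `O_p(X)`. -/
theorem h5_r4_le_pCore_of_le_nilpotent {X : Type*} [Group X] [Finite X] {p : ℕ} (hp : p.Prime)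
    {F A : Subgroup X} (hFn : F.Normal) (hFnil : Group.IsNilpotent F) (hAF : A ≤ F)
    (hA : IsPGroup p A) : A ≤ Cfsg.pCore p X := by
  haveI : Fact p.Prime := ⟨hp⟩
  haveI := hFn
  haveI := hFnil
  have hA' : IsPGroup p (A.subgroupOf F) := hA.comap_subtype
  obtain ⟨Q, hQ⟩ := hA'.exists_le_sylow
  have hQn : (Q : Subgroup F).Normal := inferInstance
  have hQc : (Q : Subgroup F).Characteristic := Sylow.characteristic_of_normal Q hQn
  have hQG : ((Q : Subgroup F).map F.subtype).Normal := ConjAct.normal_of_characteristic_of_normal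
  have hQp : IsPGroup p ((Q : Subgroup F).map F.subtype) := Q.isPGroup'.map _
  have h1 : (Q : Subgroup F).map F.subtype ≤ Cfsg.pCore p X :=
    Cfsg.Agent.Lib.Helper1.le_pCore hQG hQp
  intro a ha
  apply h1
  exact Subgroup.mem_map.2 ⟨⟨a, hAF ha⟩, hQ (Subgroup.mem_subgroupOf.2 ha), rfl⟩

theorem exists_prod_dvd_orderOf_of_cyclic_cores {X : Type*} [Group X] [Finite X]
    (hs : Group.IsSolvable X) (τ : Finset ℕ) (hτ : ∀ p ∈ τ, p.Prime)
    (hE : ∀ p ∈ τ, E2 p (⊤ : Subgroup X))
    (hcyc : ∀ p : ℕ, p.Prime → IsCyclic (Cfsg.pCore p X)) :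
    ∃ g : X, (∏ p ∈ τ, p) ∣ orderOf g := by
  classical
  haveI := hs
  set F := Cfsg.fittingSubgroup X with hF
  have hFn : F.Normal := Cfsg.Agent.Lib.Helper1.fittingSubgroup_normal
  have hFnil : Group.IsNilpotent F := Cfsg.Agent.Lib.Helper1.fittingSubgroup_isNilpotent
  -- Step 1: commutators lie in `F`
  have hcommF : ∀ s t : X, s⁻¹ * t⁻¹ * s * t ∈ F := by
    intro s t
    apply Cfsg.Agent.Lib.Helper1.centralizer_fittingSubgroup_le
    rw [Subgroup.mem_centralizer_iff]
    -- `F ≤ centralizer {c}`
    have hle : F ≤ Subgroup.centralizer {s⁻¹ * t⁻¹ * s * t} := by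
      rw [hF, Cfsg.Agent.Lib.Helper1.fittingSubgroup_eq_iSup_pCore]
      apply iSup_le
      intro p
      have hpn : (Cfsg.pCore (p : ℕ) X).Normal := Cfsg.Agent.Lib.Helper1.pCore_normal _
      obtain ⟨g, hg⟩ := (isCyclic_iff_exists_zpowers_eq_top).1 (hcyc p p.2)
      -- `pCore = zpowers g`
      have hz : Subgroup.zpowers (g : X) = Cfsg.pCore (p : ℕ) X := by
        apply le_antisymm
        · rw [Subgroup.zpowers_le]; exact g.2
        · intro x hx
          have : (⟨x, hx⟩ : Cfsg.pCore (p : ℕ) X) ∈ Subgroup.zpowers g := by rw [hg]; trivial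
          obtain ⟨k, hk⟩ := Subgroup.mem_zpowers_iff.1 this
          have := congrArg Subtype.val hk
          simp only [Subgroup.coe_zpow] at this
          rw [← this]; exact Subgroup.zpow_mem_zpowers _ k
      have hzn : (Subgroup.zpowers (g : X)).Normal := by rw [hz]; exact hpn
      have hnorm : ∀ u : X, u ∈ Subgroup.normalizer ((Subgroup.zpowers (g : X) : Subgroup X) : Set X) := by
        intro u
        rw [Subgroup.normalizer_eq_top_iff.2 hzn]; trivial
      have hcg := h2_r4_comm_aux (hnorm s) (hnorm t)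
      rw [← hz, Subgroup.zpowers_le, Subgroup.mem_centralizer_iff]
      intro y hy
      rw [Set.mem_singleton_iff] at hy
      subst hy
      exact hcg
    intro y hy
    have := hle hy
    rw [Subgroup.mem_centralizer_iff] at this
    exact (this _ rfl).symm
  have hcF : commutator X ≤ F := by
    rw [commutator_def, Subgroup.commutator_le]
    intro s _ t _
    have := hcommF s⁻¹ t⁻¹
    simpa [commutatorElement_def] using this
  -- Step 3: every `p ∈ τ` divides the index of `F`
  have hidx : ∀ p ∈ τ, p ∣ F.index := by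
    intro p hp
    have hpp := hτ p hp
    haveI : Fact p.Prime := ⟨hpp⟩
    by_contra hnd
    obtain ⟨A, -, hA⟩ := hE p hp
    have hAp : IsPGroup p A := hA.isPGroup hpp
    have hAF : A ≤ F := by
      intro a ha
      haveI := hFn
      rw [← QuotientGroup.eq_one_iff]
      -- the image has order a power of `p` dividing the index
      obtain ⟨k, hk⟩ := hAp ⟨a, ha⟩
      have hk' : a ^ p ^ k = 1 := by
        have := congrArg Subtype.val hk
        simpa using this
      have h1 : orderOf ((a : X) : X ⧸ F) ∣ p ^ k := by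
        apply orderOf_dvd_of_pow_eq_one
        rw [← QuotientGroup.mk_pow, hk', QuotientGroup.mk_one]
      have h2 : orderOf ((a : X) : X ⧸ F) ∣ F.index := by
        rw [Subgroup.index_eq_card]; exact orderOf_dvd_natCard _
      have hcop : Nat.Coprime (p ^ k) F.index :=
        Nat.Coprime.pow_left _ ((Nat.Prime.coprime_iff_not_dvd hpp).2 hnd)
      have h3 : orderOf ((a : X) : X ⧸ F) = 1 :=
        Nat.eq_one_of_dvd_coprimes hcop h1 h2
      exact orderOf_eq_one_iff.1 h3
    have hAcore : A ≤ Cfsg.pCore p X := h5_r4_le_pCore_of_le_nilpotent hpp hFn hFnil hAF hAp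
    haveI := hcyc p hpp
    have : IsCyclic A :=
      isCyclic_of_injective (Subgroup.inclusion hAcore) (Subgroup.inclusion_injective hAcore)
    exact hA.not_isCyclic hpp this
  -- Step 4: the abelianization has an element of order `exponent`, divisible by every `p ∈ τ`
  have hab : ∀ p ∈ τ, p ∣ Nat.card (Abelianization X) := by
    intro p hp
    have h1 : F.index ∣ (commutator X).index := Subgroup.index_dvd_of_le hcF
    have h2 : (commutator X).index = Nat.card (Abelianization X) := Subgroup.index_eq_card _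
    rw [← h2]
    exact (hidx p hp).trans h1
  have hexp : (∏ p ∈ τ, p) ∣ Monoid.exponent (Abelianization X) := by
    apply Finset.prod_primes_dvd
    · intro p hp; exact Nat.prime_iff.1 (hτ p hp)
    · intro p hp
      haveI : Fact p.Prime := ⟨hτ p hp⟩
      obtain ⟨h, hh⟩ := exists_prime_orderOf_dvd_card' p (hab p hp)
      rw [← hh]; exact Monoid.order_dvd_exponent h
  obtain ⟨gbar, hgbar⟩ := Monoid.exists_orderOf_eq_exponent
    (Monoid.ExponentExists.of_finite (G := Abelianization X))
  obtain ⟨g, rfl⟩ := QuotientGroup.mk_surjective gbar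
  refine ⟨g, ?_⟩
  have h1 : orderOf (QuotientGroup.mk' (commutator X) g) ∣ orderOf g :=
    orderOf_map_dvd (QuotientGroup.mk' (commutator X)) g
  have h2 : (∏ p ∈ τ, p) ∣ orderOf (QuotientGroup.mk' (commutator X) g) := by
    have h3 : orderOf (QuotientGroup.mk' (commutator X) g) = Monoid.exponent (Abelianization X) :=
      hgbar
    rw [h3]; exact hexp
  exact h2.trans h1

end Cfsg.Agent.Lib.Helper2.R4
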