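import Mathlib
import Cfsg.Prelude.Def_Solvable
import Cfsg.Agent.Lib.Helper1.ThreeSolvable
import Cfsg.Agent.Lib.Helper1.EPPO1
import Cfsg.Agent.Lib.Helper1.FpfCyclic
import Cfsg.Agent.Lib.Helper1.PCore

set_option autoImplicit false
set_option linter.style.haveILetI false

namespace Cfsg.Agent.Lib.Helper5.SOT4

/-- (G8) the Sylow subgroups have prime exponent. -/
theorem exponent_sylow_of_epo {G : Type*} [Group G] [Finite G] (p q : ℕ) (hp : p.Prime)
    (hq : q.Prime) (hepo : ∀ g : G, g ≠ 1 → orderOf g = p ∨ orderOf g = q)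
    (r : ℕ) [Fact r.Prime] (P : Sylow r G) (hr : r ∣ Nat.card G) :
    Monoid.exponent ↥(P : Subgroup G) = r := by
  have hrp : r.Prime := Fact.out
  have hne : (P : Subgroup G) ≠ ⊥ := P.ne_bot_of_dvd_card hr
  haveI : Nontrivial ↥(P : Subgroup G) := (Subgroup.nontrivial_iff_ne_bot _).2 hne
  rw [Monoid.exponent_eq_prime_iff hrp]
  intro g hg
  obtain ⟨k, hk⟩ := (IsPGroup.iff_orderOf.1 P.2) g
  have hg' : (g : G) ≠ 1 := fun h => hg (Subtype.ext h)
  have hord : orderOf (g : G) = r ^ k := by rw [← hk, Subgroup.orderOf_coe]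
  have hk0 : k ≠ 0 := by
    intro h0
    rw [h0, pow_zero, orderOf_eq_one_iff] at hk
    exact hg hk
  have hprime : (r ^ k).Prime := by
    rcases hepo (g : G) hg' with h | h
    · rw [← hord, h]; exact hp
    · rw [← hord, h]; exact hq
  have hk1 : k = 1 := by
    by_contra hne1
    have h2 : 2 ≤ k := by omega
    exact absurd hprime (Nat.Prime.not_prime_pow h2)
  rw [hk, hk1, pow_one]

/-- (G7) a nontrivial solvable group has a nontrivial normal abelian `r`-subgroup. -/
theorem exists_normal_abelian_pgroup {G : Type*} [Group G] [Finite G] [Nontrivial G]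
    (hs : Group.IsSolvable G) :
    ∃ (r : ℕ) (V : Subgroup G), r.Prime ∧ V.Normal ∧ (∀ u ∈ V, ∀ v ∈ V, u * v = v * u) ∧
      IsPGroup r V ∧ V ≠ ⊥ := by
  haveI := hs
  obtain ⟨r, hr, hne⟩ := Cfsg.Agent.Lib.Helper1.exists_pCore_ne_bot_of_solvable G
  haveI : Fact r.Prime := ⟨hr⟩
  haveI : (Cfsg.pCore r G).Normal := Cfsg.Agent.Lib.Helper1.pCore_normal r
  have hRp : IsPGroup r (Cfsg.pCore r G) := Cfsg.Agent.Lib.Helper1.pCore_isPGroup r
  have hRs : Group.IsSolvable (Cfsg.pCore r G) := inferInstance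
  obtain ⟨A, hAn, hA1, hAR, hAab⟩ :=
    Cfsg.Agent.Lib.Helper1.EPPO.exists_normal_abelian_of_solvable_normal (Cfsg.pCore r G) hRs hne
  exact ⟨r, A, hr, hAn, hAab, hRp.to_le hAR, hA1⟩

/-- (G6a) the Sylow `q`-subgroups have order `q`. -/
theorem not_sq_dvd_card_of_epo {G : Type*} [Group G] [Finite G] (p q : ℕ) (hp : p.Prime)
    (hq : q.Prime) (hpq : p ≠ q)
    (hepo : ∀ g : G, g ≠ 1 → orderOf g = p ∨ orderOf g = q)
    (V : Subgroup G) [V.Normal] (hVab : ∀ u ∈ V, ∀ v ∈ V, u * v = v * u) (hVp : IsPGroup p V)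
    (hV1 : V ≠ ⊥) : ¬ q ^ 2 ∣ Nat.card G := by
  intro hdvd
  haveI : Fact q.Prime := ⟨hq⟩
  haveI : Fact p.Prime := ⟨hp⟩
  obtain ⟨A, hA⟩ := Sylow.exists_subgroup_card_pow_prime q hdvd
  haveI : IsMulCommutative A := ⟨⟨IsPGroup.commutative_of_card_eq_prime_sq hA⟩⟩
  have hAV : A ≤ Subgroup.normalizer (V : Set G) := by
    intro a _
    rw [Subgroup.mem_normalizer_iff]
    intro h
    constructor
    · intro hh
      exact Subgroup.Normal.conj_mem inferInstance h hh a
    · intro hh
      have := Subgroup.Normal.conj_mem (inferInstance : V.Normal) _ hh a⁻¹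
      simpa [mul_assoc] using this
  have hordA : ∀ a ∈ A, a ≠ 1 → orderOf a = q := by
    intro a ha ha1
    have hd : orderOf a ∣ q ^ 2 := hA ▸ Subgroup.orderOf_dvd_natCard A ha
    rcases hepo a ha1 with h | h
    · exfalso
      rw [h] at hd
      have := (Nat.prime_dvd_prime_iff_eq hp hq).1 (hp.dvd_of_dvd_pow hd)
      exact hpq this
    · exact h
  have hfpf : ∀ a ∈ A, a ≠ 1 → V ⊓ Subgroup.centralizer {a} = ⊥ := by
    intro a ha ha1
    rw [eq_bot_iff]
    intro v hv
    rw [Subgroup.mem_bot]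
    by_contra hv1
    have hvV : v ∈ V := hv.1
    have hvc : a * v = v * a := by
      have h2 : v ∈ Subgroup.centralizer ({a} : Set G) := hv.2
      rw [Subgroup.mem_centralizer_iff] at h2
      exact h2 a rfl
    have hov : orderOf v = p := by
      obtain ⟨k, hk⟩ := (IsPGroup.iff_orderOf.1 hVp) ⟨v, hvV⟩
      have hk' : orderOf v = p ^ k := by rw [← hk, Subgroup.orderOf_mk]
      rcases hepo v hv1 with h | h
      · exact h
      · exfalso
        rw [h] at hk'
        have hk0 : k ≠ 0 := by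
          intro h0
          rw [h0, pow_zero] at hk'
          exact hq.one_lt.ne' hk'
        have : p ∣ q := by
          rw [hk']
          exact dvd_pow_self p hk0
        exact hpq ((Nat.prime_dvd_prime_iff_eq hp hq).1 this)
    have hoa := hordA a ha ha1
    have hcop : Nat.Coprime (orderOf v) (orderOf a) := by
      rw [hov, hoa]
      exact (Nat.coprime_primes hp hq).2 hpq
    have hcomm : Commute v a := hvc.symm
    have hmul := hcomm.orderOf_mul_eq_mul_orderOf_of_coprime hcop
    rw [hov, hoa] at hmul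
    have hne1 : v * a ≠ 1 := by
      intro h1
      rw [h1, orderOf_one] at hmul
      have := hp.one_lt
      have := hq.one_lt
      nlinarith
    rcases hepo (v * a) hne1 with h | h
    · rw [h] at hmul
      have := hp.pos
      have := hq.one_lt
      nlinarith
    · rw [h] at hmul
      have := hq.pos
      have := hp.one_lt
      nlinarith
  have hcyc : IsCyclic A := Cfsg.Agent.Lib.Helper1.isCyclic_of_fpf_of_abelian A V hV1 hAV hfpf
  obtain ⟨g, hg⟩ := hcyc.exists_generator
  have hog : orderOf g = q ^ 2 := by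
    rw [orderOf_eq_card_of_forall_mem_zpowers hg, hA]
  have hg1 : (g : G) ≠ 1 := by
    intro h
    have : g = 1 := Subtype.ext h
    rw [this, orderOf_one] at hog
    have := hq.one_lt
    nlinarith
  have hog' : orderOf (g : G) = q ^ 2 := by rw [Subgroup.orderOf_coe, hog]
  have h2 : ¬ (q ^ 2).Prime := Nat.Prime.not_prime_pow (le_refl 2)
  rcases hepo (g : G) hg1 with h | h
  · rw [hog'] at h
    rw [h] at h2
    exact h2 hp
  · rw [hog'] at h
    rw [h] at h2
    exact h2 hq

end Cfsg.Agent.Lib.Helper5.SOT4
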