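import Mathlib
import Cfsg.Agent.Lib.Helper5.PSL2Max4

set_option autoImplicit false

/-! A finite subgroup of `PGL₂` containing an upper and a lower unipotent element is wild. -/

namespace Cfsg.Agent.Lib.Helper5.SL2Gen

open Matrix Cfsg.Agent.Lib.Helper4 Cfsg.Agent.Lib.Helper5.Mob Cfsg.Agent.Lib.Helper5.MobPGL
  Cfsg.Agent.Lib.Helper5.MobWild Cfsg.Agent.Lib.Helper5.MobRat
open scoped LinearAlgebra.Projectivization MatrixGroups

section basic

variable {E : Type*} [Field E]

theorem aff_one_ne_one {c : E} (hc : c ≠ 0) : aff (1 : Eˣ) c ≠ 1 := by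
  intro h
  have h1 := aff_smul_fin (1 : Eˣ) c 0
  rw [h, one_smul] at h1
  have h2 := fin_injective h1
  apply hc
  simpa using h2.symm

theorem aff_mul_low (l : Eˣ) (b : E) : aff l 0 * low b = low (b / l) * aff l 0 := by
  unfold aff low
  rw [← map_mul, ← map_mul]
  congr 1
  apply Units.ext
  ext i j
  fin_cases i <;> fin_cases j <;> simp [affGL, lowGL, Matrix.mul_apply, Fin.sum_univ_two]

theorem aff_conj_low (l : Eˣ) (b : E) : aff l 0 * low b * (aff l 0)⁻¹ = low (b / l) := by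
  rw [mul_inv_eq_iff_eq_mul, aff_mul_low]

theorem low_eq (b : E) : low b = swapM 1 * aff 1 b * (swapM 1)⁻¹ := by
  rw [swap_conj]; simp

end basic

variable {E : Type*} [Field E] [IsAlgClosed E] (p : ℕ) [Fact p.Prime] [CharP E p]

omit [IsAlgClosed E] [Fact p.Prime] [CharP E p] in
theorem onlyFix_aff_one {c : E} (hc : c ≠ 0) :
    OnlyFix (aff (1 : Eˣ) c) (inf : ℙ E (Fin 2 → E)) := by
  rcases (aff_unipotent_iff (1 : Eˣ) c).mpr rfl with h | h
  · exact absurd h (aff_one_ne_one hc)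
  · exact h

omit [IsAlgClosed E] [Fact p.Prime] [CharP E p] in
theorem onlyFix_low {d : E} (hd : d ≠ 0) : OnlyFix (low d) (fin 0 : ℙ E (Fin 2 → E)) := by
  rw [low_eq, ← swapM_smul_inf (1 : Eˣ)]
  exact (Mob.onlyFix_conj (swapM 1) (aff 1 d) inf).mpr (onlyFix_aff_one hd)

omit [IsAlgClosed E] [Fact p.Prime] in
theorem aff_one_pow_char (c : E) : aff (1 : Eˣ) c ^ p = 1 := by
  rw [aff_one_pow, CharP.cast_eq_zero, zero_mul, aff_one]

omit [IsAlgClosed E] [Fact p.Prime] in
theorem low_pow_char (d : E) : low d ^ p = 1 := by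
  rw [low_eq, conj_pow, aff_one_pow_char, mul_one, mul_inv_cancel]

/-- an element of odd order lies in every subgroup of index two -/
theorem mem_of_index_two {G : Type*} [Group G] (S : Subgroup G) (hS : S.index = 2) (g : G)
    (n : ℕ) (hn : Odd n) (hg : g ^ n = 1) : g ∈ S := by
  obtain ⟨k, rfl⟩ := hn
  have h1 : g ^ 2 ∈ S := Subgroup.sq_mem_of_index_two hS g
  have h2 : g = (g ^ 2) ^ (k + 1) := by
    rw [← pow_mul, show 2 * (k + 1) = (2 * k + 1) + 1 by ring, pow_succ, hg, one_mul]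
  rw [h2]
  exact S.pow_mem h1 _

/-- a finite group containing an upper and a lower unipotent element is wild -/
theorem wild_of_unipotent_pair (G : Subgroup PGL(Fin 2, E)) [Finite G] (hp2 : p ≠ 2) {c d : E}
    (hc : c ≠ 0) (hd : d ≠ 0) (hu : aff 1 c ∈ G) (hv : low d ∈ G) :
    (subMob G p).WildPSL ∨ (subMob G p).WildA5 := by
  set M := subMob G p with hM
  have hodd : Odd p := (Fact.out : p.Prime).odd_of_ne_two hp2
  set u : G := ⟨aff 1 c, hu⟩ with hudef
  set v : G := ⟨low d, hv⟩ with hvdef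
  have hu1 : u ≠ 1 := fun h => aff_one_ne_one hc (congrArg Subtype.val h)
  have hufix : ∀ z : ℙ E (Fin 2 → E), u • z = z → z = inf := fun z hz =>
    (onlyFix_aff_one hc).2 z hz
  have hvfix : ∀ z : ℙ E (Fin 2 → E), v • z = z → z = fin 0 := fun z hz =>
    (onlyFix_low hd).2 z hz
  have hup : u ^ p = 1 := Subtype.ext (by
    show (aff 1 c) ^ p = 1
    exact aff_one_pow_char p c)
  have hvp : v ^ p = 1 := Subtype.ext (by
    show (low d) ^ p = 1
    exact low_pow_char p d)
  have hne : (fin 0 : ℙ E (Fin 2 → E)) ≠ inf := fin_ne_inf 0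
  have hG2 : 2 ≤ Nat.card G := by
    have : Nontrivial G := ⟨⟨u, 1, hu1⟩⟩
    exact Finite.one_lt_card
  have huQ : u ∈ M.Q (inf : ℙ E (Fin 2 → E)) := by
    rw [M.mem_Q]
    right
    exact onlyFix_aff_one hc
  have hq : M.qq (inf : ℙ E (Fin 2 → E)) ≠ 1 := by
    intro h
    have := M.Q_eq_bot _ h
    rw [this, Subgroup.mem_bot] at huQ
    exact hu1 huQ
  have hsing : (inf : ℙ E (Fin 2 → E)) ∈ sing G (ℙ E (Fin 2 → E)) :=
    ⟨u, hu1, (onlyFix_aff_one hc).1⟩
  have tame : ∀ k g : ℕ, ¬ M.Tame3 k g := by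
    rintro k g ⟨a, b, c', -, -, -, -, hqa, hqb, hqc, hcov, -⟩
    apply hq
    rcases hcov _ hsing with ⟨w, hw⟩ | ⟨w, hw⟩ | ⟨w, hw⟩
    · have hw' : w • a = inf := hw
      rw [← hw']
      exact (M.card_Q_smul w a).trans hqa
    · have hw' : w • b = inf := hw
      rw [← hw']
      exact (M.card_Q_smul w b).trans hqb
    · have hw' : w • c' = inf := hw
      rw [← hw']
      exact (M.card_Q_smul w c').trans hqc
  rcases M.cases hG2 with ⟨z, hz⟩ | ⟨x, hn, -⟩ | h | h | h | h | h
  · exact absurd ((hvfix z (hz v)).symm.trans (hufix z (hz u))) hne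
  · exfalso
    have hidx : (MulAction.stabilizer G x).index = 2 := by
      rw [MulAction.index_stabilizer, ← Nat.card_coe_set_eq]
      exact hn
    have h1 : u ∈ MulAction.stabilizer G x := mem_of_index_two _ hidx u p hodd hup
    have h2 : v ∈ MulAction.stabilizer G x := mem_of_index_two _ hidx v p hodd hvp
    exact hne ((hvfix x h2).symm.trans (hufix x h1))
  · exact absurd h (tame _ _)
  · exact absurd h (tame _ _)
  · exact absurd h (tame _ _)
  · left; exact h
  · right; exact h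

end Cfsg.Agent.Lib.Helper5.SL2Gen
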