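import Mathlib
import Cfsg.Agent.Lib.Helper5.SL2Gen1

set_option autoImplicit false

/-! Dickson's generation lemma: the subfield case. -/

namespace Cfsg.Agent.Lib.Helper5.SL2Gen

open Matrix Cfsg.Agent.Lib.Helper4 Cfsg.Agent.Lib.Helper5.Mob Cfsg.Agent.Lib.Helper5.MobPGL
  Cfsg.Agent.Lib.Helper5.MobWild Cfsg.Agent.Lib.Helper5.MobRat Cfsg.Agent.Lib.Helper5.DicksonBorel
  Cfsg.Agent.Lib.Helper5.DicksonMain Cfsg.Agent.Lib.Helper5.DicksonOrders
  Cfsg.Agent.Lib.Helper5.PSL2Tori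
open Cfsg.Agent.Lib.Helper1.SL2Three
open scoped LinearAlgebra.Projectivization MatrixGroups

variable {F E : Type*} [Field F] [Fintype F] [Field E] [IsAlgClosed E] (j : F →+* E)
  (p : ℕ) [Fact p.Prime] [CharP F p] [CharP E p]
  (Hb : Subgroup (Matrix.ProjectiveSpecialLinearGroup (Fin 2) F))

omit [Fintype F] [IsAlgClosed E] in
theorem pslHom_ymat (b : F) :
    pslHom j (QuotientGroup.mk (ymat F b) : Matrix.ProjectiveSpecialLinearGroup (Fin 2) F) =
      low (j b) := map_ymat j b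

omit [Fintype F] [IsAlgClosed E] in
/-- lower unipotent rational elements have rational parameter -/
theorem mem_range_of_low_mem_ratGroup {b : E} (h : low b ∈ ratGroup j) : b ∈ Set.range j := by
  have hw : swapM (-1 : Eˣ) ∈ ratGroup j := by
    rw [← pslHom_weyl j]; exact pslHom_mem_ratGroup j _
  have h1 : swapM (-1 : Eˣ) * aff 1 (-b) * (swapM (-1 : Eˣ))⁻¹ = low b := by
    rw [swap_conj]
    congr 1
    simp
  have h2 : aff 1 (-b) = (swapM (-1 : Eˣ))⁻¹ * low b * swapM (-1 : Eˣ) := by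
    rw [← h1]; group
  have h3 : aff 1 (-b) ∈ ratGroup j := by
    rw [h2]
    exact (ratGroup j).mul_mem ((ratGroup j).mul_mem ((ratGroup j).inv_mem hw) h) hw
  obtain ⟨a, ha⟩ := mem_range_of_aff_mem_ratGroup j h3
  exact ⟨-a, by rw [map_neg, ha, neg_neg]⟩

/-- in the subfield case the group is everything -/
theorem eq_top_of_wild (lam : F) (hlam : lam ≠ 0)
    (hgen : Subfield.closure ({lam} : Set F) = ⊤)
    (hx : (QuotientGroup.mk (xmat F lam) : Matrix.ProjectiveSpecialLinearGroup (Fin 2) F) ∈ Hb)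
    (hy : (QuotientGroup.mk (ymat F 1) : Matrix.ProjectiveSpecialLinearGroup (Fin 2) F) ∈ Hb)
    (hw : (subMob (img j Hb) p).WildPSL) : Hb = ⊤ := by
  obtain ⟨γ, K, _, _, ι, hγ, hsub, hK3, hstr⟩ := case_wild_strong j p Hb hw
  have : CharP K p := RingHom.charP ι ι.injective p
  obtain ⟨φ, -, hφ, hfix⟩ := DicksonFrob.exists_frob ι p
  set G' := conjSub (img j Hb) γ with hG'
  have hle : G' ≤ ratGroup ι := by
    rcases hstr with h | h
    · rw [h]; rintro _ ⟨g, rfl⟩; exact pslHom_mem_ratGroup ι g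
    · rw [h]; exact le_refl _
  have hge : Gam ι ≤ G' := by
    have h1 : Gam ι = (pslHom ι).range := by
      unfold Gam img; rw [← MonoidHom.range_eq_map]
    rw [h1]
    rcases hstr with h | h
    · rw [h]
    · rw [h]; rintro _ ⟨g, rfl⟩; exact pslHom_mem_ratGroup ι g
  -- the two unipotent elements
  have hu : aff 1 (j lam) ∈ img j Hb := (mem_img_iff j Hb _).mpr ⟨_, hx, pslHom_xmat j lam⟩
  have hv : low (1 : E) ∈ img j Hb :=
    (mem_img_iff j Hb _).mpr ⟨_, hy, by rw [pslHom_ymat, map_one]⟩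
  have hconj : ∀ g ∈ img j Hb, γ * g * γ⁻¹ ∈ G' := by
    intro g hg
    rw [hG', mem_conjSub_iff]
    have : γ⁻¹ * (γ * g * γ⁻¹) * γ = g := by group
    rw [this]; exact hg
  have hjl : j lam ≠ 0 := (map_ne_zero j).mpr hlam
  have hr1 : IsRat ι (γ • (inf : ℙ E (Fin 2 → E))) :=
    isRat_of_onlyFix ι φ hφ hfix (hle (hconj _ hu))
      ((Mob.onlyFix_conj γ _ inf).mpr (onlyFix_aff_one hjl))
  have hr2 : IsRat ι (γ • (fin 0 : ℙ E (Fin 2 → E))) :=
    isRat_of_onlyFix ι φ hφ hfix (hle (hconj _ hv))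
      ((Mob.onlyFix_conj γ _ (fin 0)).mpr (onlyFix_low one_ne_zero))
  have hne : γ • (inf : ℙ E (Fin 2 → E)) ≠ γ • fin 0 :=
    fun h => fin_ne_inf 0 (MulAction.injective γ h).symm
  obtain ⟨δ, hδ1, hδ2⟩ := rat_two_transitive ι hr1 hr2 hne
  set γ' : PGL(Fin 2, E) := (δ : PGL(Fin 2, E)) * γ with hγ'def
  have h1 : γ' • (inf : ℙ E (Fin 2 → E)) = inf := by rw [hγ'def, mul_smul]; exact hδ1
  have h2 : γ' • (fin 0 : ℙ E (Fin 2 → E)) = fin 0 := by rw [hγ'def, mul_smul]; exact hδ2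
  obtain ⟨μ, b', hγ'⟩ := exists_aff_of_fix γ' h1
  have hb' : b' = 0 := by
    rw [hγ', aff_smul_fin] at h2
    have := fin_injective h2
    simpa using this
  rw [hb'] at hγ'
  have hδG' : (δ : PGL(Fin 2, E)) ∈ G' := hge δ.2
  have hconj' : ∀ g ∈ img j Hb, γ' * g * γ'⁻¹ ∈ G' := by
    intro g hg
    have : γ' * g * γ'⁻¹ = (δ : PGL(Fin 2, E)) * (γ * g * γ⁻¹) * (δ : PGL(Fin 2, E))⁻¹ := by
      rw [hγ'def]; group
    rw [this]
    exact G'.mul_mem (G'.mul_mem hδG' (hconj g hg)) (G'.inv_mem hδG')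
  -- the first element
  have e1 : aff 1 ((μ : E) * j lam) ∈ ratGroup ι := by
    have := hle (hconj' _ hu)
    rwa [hγ', conj_aff] at this
  obtain ⟨k1, hk1⟩ := mem_range_of_aff_mem_ratGroup ι e1
  -- the second element
  have e2 : low (1 / (μ : E)) ∈ ratGroup ι := by
    have := hle (hconj' _ hv)
    rwa [hγ', aff_conj_low] at this
  obtain ⟨k2, hk2⟩ := mem_range_of_low_mem_ratGroup ι e2
  have hμ0 : (μ : E) ≠ 0 := μ.ne_zero
  have hlamK : j lam = ι (k1 * k2) := by
    rw [map_mul, hk1, hk2]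
    field_simp
  -- the field `K` contains the image of `F`
  have hall : ∀ x : F, j x ∈ Set.range ι := by
    have hS : Subfield.closure ({lam} : Set F) ≤ (ι.fieldRange).comap j := by
      rw [Subfield.closure_le]
      rintro _ rfl
      exact ⟨k1 * k2, hlamK.symm⟩
    rw [hgen] at hS
    intro x
    obtain ⟨k, hk⟩ := hS (Subfield.mem_top x)
    exact ⟨k, hk⟩
  obtain ⟨m, hm⟩ := exists_pow_card_eq ι j hsub
  obtain ⟨m', hm'⟩ := exists_pow_card_eq j ι hall
  have hF1 : 1 < Fintype.card F := Fintype.one_lt_card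
  have hK1 : 1 < Fintype.card K := Fintype.one_lt_card
  have hcardKF : Fintype.card K = Fintype.card F := by
    have hm0 : m ≠ 0 := by
      rintro rfl
      rw [pow_zero] at hm; omega
    have hm'0 : m' ≠ 0 := by
      rintro rfl
      rw [pow_zero] at hm'; omega
    have a1 : Fintype.card K ≤ Fintype.card F := by
      rw [← hm]; exact Nat.le_self_pow hm0 _
    have a2 : Fintype.card F ≤ Fintype.card K := by
      rw [← hm']; exact Nat.le_self_pow hm'0 _
    omega
  -- cardinalities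
  have hc1 := card_PSL2_mul (F := F)
  have hc2 := card_PSL2_mul (F := K)
  rw [hcardKF] at hc2
  have hd : 0 < Nat.gcd 2 (Fintype.card F - 1) := Nat.gcd_pos_of_pos_left _ (by norm_num)
  have hc3 : Nat.card (Matrix.ProjectiveSpecialLinearGroup (Fin 2) K) =
      Nat.card (Matrix.ProjectiveSpecialLinearGroup (Fin 2) F) :=
    Nat.eq_of_mul_eq_mul_left hd (hc2.trans hc1.symm)
  have : Finite G' := Finite.of_equiv _ (conjIso (img j Hb) γ).toEquiv
  have hc4 : Nat.card (Gam ι) ≤ Nat.card G' := Subgroup.card_le_of_le hge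
  have hc5 : Nat.card G' = Nat.card Hb :=
    (Nat.card_congr ((imgIso j Hb).trans (conjIso (img j Hb) γ)).toEquiv).symm
  rw [card_Gam, hc3, hc5] at hc4
  exact Subgroup.eq_top_of_le_card _ hc4

end Cfsg.Agent.Lib.Helper5.SL2Gen
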