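import Mathlib
import Cfsg.Agent.Lib.Helper5.SL2Gen2
import Cfsg.Agent.Lib.Helper5.PSL2A5
import Cfsg.Agent.Lib.Helper5.PSL2Pairs

set_option autoImplicit false

/-! Dickson's generation lemma: trace computations in `SL₂`. -/

namespace Cfsg.Agent.Lib.Helper5.SL2Gen

open Matrix Cfsg.Agent.Lib.Helper5.SL2Cyclic Cfsg.Agent.Lib.Helper5.SL2Quat
  Cfsg.Agent.Lib.Helper5.PSL2Pairs Cfsg.Agent.Lib.Helper5.PSL2A5
open Cfsg.Agent.Lib.Helper1.SL2Three

section sl2
variable {F : Type*} [Field F]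

local notation "SL2" => Matrix.SpecialLinearGroup (Fin 2) F
local notation "PSL2" => Matrix.ProjectiveSpecialLinearGroup (Fin 2) F

/-- the square by Cayley–Hamilton -/
theorem sq_expand (g : SL2) :
    g.1 * g.1 = g.1.trace • g.1 + (-1 : F) • (1 : Matrix (Fin 2) (Fin 2) F) := by
  have hc := cayley2 g.1
  rw [g.2, one_smul] at hc
  rw [hc, neg_smul, one_smul, sub_eq_add_neg]

/-- the cube by Cayley–Hamilton -/
theorem cube_expand (g : SL2) :
    g.1 * g.1 * g.1 = (g.1.trace ^ 2 - 1) • g.1 + (-g.1.trace) • (1 : Matrix (Fin 2) (Fin 2) F) := by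
  have hc := cayley2 g.1
  rw [g.2, one_smul] at hc
  rw [sq_expand, PSL2A5.step _ _ hc]
  congr 2
  ring

/-- the fifth power by Cayley–Hamilton -/
theorem five_expand (g : SL2) :
    g.1 * g.1 * g.1 * g.1 * g.1 = (g.1.trace ^ 4 - 3 * g.1.trace ^ 2 + 1) • g.1 +
      (-(g.1.trace ^ 3 - 2 * g.1.trace)) • (1 : Matrix (Fin 2) (Fin 2) F) := by
  have hc := cayley2 g.1
  rw [g.2, one_smul] at hc
  rw [sq_expand, PSL2A5.step _ _ hc, PSL2A5.step _ _ hc, PSL2A5.step _ _ hc]
  congr 2 <;> ring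

/-- central elements are scalar -/
theorem exists_scalar_of_mem_center (h2 : (2 : F) ≠ 0) (z : SL2) (hz : z ∈ Subgroup.center SL2) :
    ∃ s : F, z.1 = s • (1 : Matrix (Fin 2) (Fin 2) F) := by
  rcases (mem_center_iff' h2 z).mp hz with rfl | rfl
  · exact ⟨1, by simp⟩
  · exact ⟨-1, by
      show (-1 : Matrix (Fin 2) (Fin 2) F) = _
      simp⟩

/-- a non-central element is not a combination of the identity -/
theorem coeff_zero_of_scalar (g : SL2) (hg : g ∉ Subgroup.center SL2) (c d s : F)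
    (h : c • g.1 + d • (1 : Matrix (Fin 2) (Fin 2) F) = s • 1) : c = 0 := by
  by_contra hc
  apply hg
  have h1 : g.1 = ((s - d) / c) • (1 : Matrix (Fin 2) (Fin 2) F) := by
    have h3 : c • g.1 = (s - d) • (1 : Matrix (Fin 2) (Fin 2) F) := by
      rw [sub_smul, ← h]; abel
    calc g.1 = c⁻¹ • (c • g.1) := by rw [smul_smul, inv_mul_cancel₀ hc, one_smul]
      _ = ((s - d) / c) • (1 : Matrix (Fin 2) (Fin 2) F) := by
        rw [h3, smul_smul]; congr 1; field_simp
  rw [Matrix.SpecialLinearGroup.mem_center_iff]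
  refine ⟨(s - d) / c, ?_, ?_⟩
  · have h4 := g.2
    rw [h1, Matrix.det_smul, Matrix.det_one, mul_one] at h4
    exact h4
  · rw [h1]
    ext i j
    simp [Matrix.scalar_apply, Matrix.one_apply, Matrix.diagonal_apply]

/-- the trace of an element whose square, cube or fifth power is central -/
theorem trace_constraint (h2 : (2 : F) ≠ 0) (g : SL2) (hg : g ∉ Subgroup.center SL2)
    (h : g ^ 2 ∈ Subgroup.center SL2 ∨ g ^ 3 ∈ Subgroup.center SL2 ∨
      g ^ 5 ∈ Subgroup.center SL2) :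
    g.1.trace = 0 ∨ g.1.trace ^ 2 - 1 = 0 ∨ g.1.trace ^ 4 - 3 * g.1.trace ^ 2 + 1 = 0 := by
  rcases h with h | h | h
  · left
    obtain ⟨s, hs⟩ := exists_scalar_of_mem_center h2 _ h
    have e : (g ^ 2).1 = g.1 * g.1 := by rw [pow_two]; rfl
    rw [e, sq_expand] at hs
    exact coeff_zero_of_scalar g hg _ _ _ hs
  · right; left
    obtain ⟨s, hs⟩ := exists_scalar_of_mem_center h2 _ h
    have e : (g ^ 3).1 = g.1 * g.1 * g.1 := by rw [pow_succ, pow_two]; rfl
    rw [e, cube_expand] at hs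
    exact coeff_zero_of_scalar g hg _ _ _ hs
  · right; right
    obtain ⟨s, hs⟩ := exists_scalar_of_mem_center h2 _ h
    have e : (g ^ 5).1 = g.1 * g.1 * g.1 * g.1 * g.1 := by
      rw [pow_succ, pow_succ, pow_succ, pow_two]; rfl
    rw [e, five_expand] at hs
    exact coeff_zero_of_scalar g hg _ _ _ hs

end sl2

end Cfsg.Agent.Lib.Helper5.SL2Gen
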