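import Mathlib
import Cfsg.Agent.Lib.Helper5.SL2Gen3

set_option autoImplicit false

/-! Dickson's generation lemma: the exceptional case in characteristic three. -/

namespace Cfsg.Agent.Lib.Helper5.SL2Gen

open Matrix Cfsg.Agent.Lib.Helper5.SL2Cyclic Cfsg.Agent.Lib.Helper5.SL2Quat
  Cfsg.Agent.Lib.Helper5.PSL2Pairs Cfsg.Agent.Lib.Helper5.PSL2A5
open Cfsg.Agent.Lib.Helper1.SL2Three

section small
variable {F : Type*} [Field F] [Fintype F]

/-- if every element satisfies `x ^ N = x` then the field has at most `N` elements -/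
theorem card_le_of_pow_eq (N : ℕ) (hN : 2 ≤ N) (h : ∀ x : F, x ^ N = x) :
    Fintype.card F ≤ N := by
  classical
  obtain ⟨g, hg⟩ := IsCyclic.exists_generator (α := Fˣ)
  have h1 : orderOf g = Nat.card Fˣ := orderOf_eq_card_of_forall_mem_zpowers hg
  rw [Nat.card_units] at h1
  have h2 : g ^ (N - 1) = 1 := by
    apply Units.ext
    have h3 := h (g : F)
    have h4 : (g : F) ^ (N - 1) * g = 1 * g := by
      rw [← pow_succ, Nat.sub_add_cancel (by omega), one_mul]; exact h3
    have h5 := mul_right_cancel₀ g.ne_zero h4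
    rw [Units.val_pow_eq_pow_val, h5, Units.val_one]
  have h3 : orderOf g ∣ N - 1 := orderOf_dvd_of_pow_eq_one h2
  have h4 : orderOf g ≤ N - 1 := Nat.le_of_dvd (by omega) h3
  rw [h1, Nat.card_eq_fintype_card] at h4
  omega

variable (p : ℕ) [Fact p.Prime] [CharP F p]

/-- a generator fixed by a power of the Frobenius forces the whole field to be fixed -/
theorem forall_pow_eq_of_closure (lam : F) (hgen : Subfield.closure ({lam} : Set F) = ⊤) (k : ℕ)
    (h : lam ^ p ^ k = lam) : ∀ x : F, x ^ p ^ k = x := by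
  have hS : Subfield.closure ({lam} : Set F) ≤
      (iterateFrobenius F p k).eqLocusField (RingHom.id F) := by
    rw [Subfield.closure_le]
    intro y hy
    rw [Set.mem_singleton_iff] at hy
    rw [hy]
    show iterateFrobenius F p k lam = RingHom.id F lam
    rw [iterateFrobenius_def]; exact h
  rw [hgen] at hS
  intro x
  have := hS (Subfield.mem_top x)
  have h1 : iterateFrobenius F p k x = RingHom.id F x := this
  rw [iterateFrobenius_def] at h1
  exact h1

end small

section char3
variable {F : Type*} [Field F] [Fintype F] [CharP F 3]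

local notation "SL2" => Matrix.SpecialLinearGroup (Fin 2) F

omit [Fintype F] in
theorem three_eq_zero : (3 : F) = 0 := by
  have := CharP.cast_eq_zero F 3
  exact_mod_cast this

omit [Fintype F] in
theorem two_ne_zero_char3 : (2 : F) ≠ 0 := by
  intro h
  have h3 := three_eq_zero (F := F)
  have : (1 : F) = 0 := by linear_combination h3 - h
  exact one_ne_zero this

omit [Fintype F] [CharP F 3] in
theorem ymat_mul_xmat_not_central (h2 : (2 : F) ≠ 0) (c : F) :
    ymat F 1 * xmat F c ∉ Subgroup.center SL2 := by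
  intro h
  have e : (ymat F 1 * xmat F c).1 1 0 = 1 := by
    show ((!![1, 0; 1, 1] : Matrix (Fin 2) (Fin 2) F) * !![1, c; 0, 1]) 1 0 = 1
    simp [Matrix.mul_apply, Fin.sum_univ_two]
  rcases (mem_center_iff' h2 _).mp h with h | h
  · rw [h] at e
    simp at e
  · rw [h] at e
    have : (negOne F).1 1 0 = 0 := by
      show (-1 : Matrix (Fin 2) (Fin 2) F) 1 0 = 0
      simp
    rw [this] at e
    exact zero_ne_one e

omit [Fintype F] [CharP F 3] in
theorem trace_ymat_mul_xmat (c : F) : (ymat F 1 * xmat F c).1.trace = 2 + c := by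
  show ((!![1, 0; 1, 1] : Matrix (Fin 2) (Fin 2) F) * !![1, c; 0, 1]).trace = 2 + c
  rw [Matrix.trace_fin_two]
  simp [Matrix.mul_apply, Fin.sum_univ_two]
  ring

/-- the conclusion in the icosahedral case -/
theorem char3_conclusion (lam : F) (hgen : Subfield.closure ({lam} : Set F) = ⊤)
    (hbig : 3 < Fintype.card F)
    (h1 : (ymat F 1 * xmat F lam) ^ 2 ∈ Subgroup.center SL2 ∨
      (ymat F 1 * xmat F lam) ^ 3 ∈ Subgroup.center SL2 ∨
      (ymat F 1 * xmat F lam) ^ 5 ∈ Subgroup.center SL2)
    (h2 : (ymat F 1 * xmat F (-lam)) ^ 2 ∈ Subgroup.center SL2 ∨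
      (ymat F 1 * xmat F (-lam)) ^ 3 ∈ Subgroup.center SL2 ∨
      (ymat F 1 * xmat F (-lam)) ^ 5 ∈ Subgroup.center SL2) :
    Fintype.card F = 9 ∧ lam ^ 2 = -1 := by
  have : Fact (Nat.Prime 3) := ⟨Nat.prime_three⟩
  have h3 : (3 : F) = 0 := three_eq_zero
  have h2ne : (2 : F) ≠ 0 := two_ne_zero_char3
  -- `lam` is not in the prime field
  have hl3 : lam ^ 3 ≠ lam := by
    intro h
    have h4 := forall_pow_eq_of_closure 3 lam hgen 1 (by rw [pow_one]; exact h)
    rw [pow_one] at h4
    have := card_le_of_pow_eq 3 (by norm_num) h4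
    omega
  have c1 := trace_constraint h2ne _ (ymat_mul_xmat_not_central h2ne lam) h1
  have c2 := trace_constraint h2ne _ (ymat_mul_xmat_not_central h2ne (-lam)) h2
  rw [trace_ymat_mul_xmat] at c1 c2
  have k1 : (2 + lam) ^ 4 = -1 := by
    rcases c1 with c | c | c
    · exfalso; apply hl3
      have : lam = 1 := by linear_combination c - h3
      rw [this]; ring
    · exfalso; apply hl3
      have h5 : (lam + 1) * lam = 0 := by linear_combination c - (lam + 1) * h3
      rcases mul_eq_zero.mp h5 with h6 | h6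
      · have : lam = -1 := by linear_combination h6
        rw [this]; ring
      · rw [h6]; ring
    · linear_combination c + (2 + lam) ^ 2 * h3
  have k2 : (2 + -lam) ^ 4 = -1 := by
    rcases c2 with c | c | c
    · exfalso; apply hl3
      have : lam = -1 := by linear_combination h3 - c
      rw [this]; ring
    · exfalso; apply hl3
      have h5 : (lam - 1) * lam = 0 := by linear_combination c + (lam - 1) * h3
      rcases mul_eq_zero.mp h5 with h6 | h6
      · have : lam = 1 := by linear_combination h6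
        rw [this]; ring
      · rw [h6]; ring
    · linear_combination c + (2 + -lam) ^ 2 * h3
  have hl0 : lam ≠ 0 := by
    rintro rfl
    apply hl3; ring
  -- `lam ^ 2 = -1`
  have hsq : lam ^ 2 = -1 := by
    have h5 : lam * (lam ^ 2 + 1) = 0 := by
      linear_combination k1 - k2 + (-5 * lam ^ 3 - 21 * lam) * h3
    rcases mul_eq_zero.mp h5 with h6 | h6
    · exact absurd h6 hl0
    · linear_combination h6
  refine ⟨?_, hsq⟩
  -- the order of the field
  have h9 : lam ^ 3 ^ 2 = lam := by
    have : lam ^ 3 ^ 2 = lam * (lam ^ 2) ^ 4 := by ring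
    rw [this, hsq]; ring
  have h4 := forall_pow_eq_of_closure 3 lam hgen 2 h9
  have hle := card_le_of_pow_eq (3 ^ 2) (by norm_num) h4
  obtain ⟨n, -, hn⟩ := FiniteField.card F 3
  rw [hn] at hle hbig ⊢
  have hn2 : (n : ℕ) < 3 := by
    by_contra hge
    push Not at hge
    have : 3 ^ 3 ≤ 3 ^ (n : ℕ) := Nat.pow_le_pow_right (by norm_num) hge
    omega
  have hn1 : 1 < (n : ℕ) := by
    by_contra hge
    push Not at hge
    have : 3 ^ (n : ℕ) ≤ 3 ^ 1 := Nat.pow_le_pow_right (by norm_num) hge
    omega
  have : (n : ℕ) = 2 := by omega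
  rw [this]; norm_num

end char3

end Cfsg.Agent.Lib.Helper5.SL2Gen
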