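import Mathlib
import Cfsg.Agent.Lib.Helper5.SL2Gen4

set_option autoImplicit false

/-! Dickson's generation lemma: the icosahedral group in `PSL₂(9)`, and lifting to `SL₂`. -/

namespace Cfsg.Agent.Lib.Helper5.SL2Gen

open Matrix Cfsg.Agent.Lib.Helper5.SL2Cyclic Cfsg.Agent.Lib.Helper5.SL2Quat
  Cfsg.Agent.Lib.Helper5.PSL2Pairs Cfsg.Agent.Lib.Helper5.PSL2A5
  Cfsg.Agent.Lib.Helper5.DicksonOrders
open Cfsg.Agent.Lib.Helper1.SL2Three

section explicit
variable {F : Type*} [Field F]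

local notation "SL2" => Matrix.SpecialLinearGroup (Fin 2) F
local notation "PSL2" => Matrix.ProjectiveSpecialLinearGroup (Fin 2) F

theorem ymat_inv (c : F) : (ymat F c)⁻¹ = ymat F (-c) := by
  apply inv_eq_of_mul_eq_one_left
  apply Subtype.ext
  show (!![1, 0; -c, 1] : Matrix (Fin 2) (Fin 2) F) * !![1, 0; c, 1] = 1
  rw [Matrix.mul_fin_two, Matrix.one_fin_two]
  simp

theorem xmat_inv (c : F) : (xmat F c)⁻¹ = xmat F (-c) := by
  apply inv_eq_of_mul_eq_one_left
  apply Subtype.ext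
  show (!![1, -c; 0, 1] : Matrix (Fin 2) (Fin 2) F) * !![1, c; 0, 1] = 1
  rw [Matrix.mul_fin_two, Matrix.one_fin_two]
  simp

/-- the element `b a⁻¹ b` -/
def yy (lam : F) : SL2 := xmat F lam * ymat F (-1) * xmat F lam

theorem yy_val (lam : F) : (yy lam).1 = !![1 - lam, 2 * lam - lam ^ 2; -1, 1 - lam] := by
  show (!![1, lam; 0, 1] : Matrix (Fin 2) (Fin 2) F) * !![1, 0; -1, 1] * !![1, lam; 0, 1] = _
  rw [Matrix.mul_fin_two, Matrix.mul_fin_two]
  ext i j
  fin_cases i <;> fin_cases j <;> simp <;> ring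

variable [CharP F 3]

theorem ymat_one_cube : ymat F 1 ^ 3 = 1 := by
  apply Subtype.ext
  have e : (ymat F 1 ^ 3).1 = (ymat F 1).1 * (ymat F 1).1 * (ymat F 1).1 := by
    rw [pow_succ, pow_two]; rfl
  rw [e]
  show (!![1, 0; 1, 1] : Matrix (Fin 2) (Fin 2) F) * !![1, 0; 1, 1] * !![1, 0; 1, 1] = 1
  rw [Matrix.mul_fin_two, Matrix.mul_fin_two, Matrix.one_fin_two]
  have h3 : (3 : F) = 0 := three_eq_zero
  ext i j
  fin_cases i <;> fin_cases j <;> simp
  linear_combination h3

theorem yy_pow_five (lam : F) (hl : lam ^ 2 = -1) : yy lam ^ 5 = negOne F := by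
  have h3 : (3 : F) = 0 := three_eq_zero
  have hl' : lam ^ 2 + 1 = 0 := by linear_combination hl
  apply Subtype.ext
  have e : (yy lam ^ 5).1 = (yy lam).1 * (yy lam).1 * (yy lam).1 * (yy lam).1 * (yy lam).1 := by
    rw [pow_succ, pow_succ, pow_succ, pow_two]; rfl
  rw [e, five_expand]
  have ht : (yy lam).1.trace = 2 - 2 * lam := by
    rw [yy_val, Matrix.trace_fin_two]; simp; ring
  rw [ht]
  have c1 : (2 - 2 * lam) ^ 4 - 3 * (2 - 2 * lam) ^ 2 + 1 = 0 := by
    linear_combination (68 - 64 * lam + 16 * lam ^ 2) * hl' + (-21 + 8 * lam) * h3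
  have c2 : -((2 - 2 * lam) ^ 3 - 2 * (2 - 2 * lam)) = -1 := by
    linear_combination (-24 + 8 * lam) * hl' + (7 + 4 * lam) * h3
  rw [c1, c2, zero_smul, zero_add, neg_smul, one_smul]
  rfl

theorem ymat_mul_yy_sq (lam : F) (hl : lam ^ 2 = -1) : (ymat F 1 * yy lam) ^ 2 = negOne F := by
  have h3 : (3 : F) = 0 := three_eq_zero
  have hl' : lam ^ 2 + 1 = 0 := by linear_combination hl
  apply Subtype.ext
  have e : ((ymat F 1 * yy lam) ^ 2).1 = (ymat F 1 * yy lam).1 * (ymat F 1 * yy lam).1 := by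
    rw [pow_two]; rfl
  rw [e, sq_expand]
  have ht : (ymat F 1 * yy lam).1.trace = 2 - lam ^ 2 := by
    show ((ymat F 1).1 * (yy lam).1).trace = _
    rw [yy_val]
    show ((!![1, 0; 1, 1] : Matrix (Fin 2) (Fin 2) F) * _).trace = _
    rw [Matrix.mul_fin_two, Matrix.trace_fin_two]; simp; ring
  have c1 : (2 : F) - lam ^ 2 = 0 := by linear_combination (-1 : F) * hl' + h3
  rw [ht, c1, zero_smul, zero_add, neg_smul, one_smul]
  rfl

theorem xmat_eq (lam : F) (hl : lam ^ 2 = -1) :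
    ymat F (-1) * yy lam ^ 2 * ymat F (-1) = negOne F * xmat F lam := by
  have h3 : (3 : F) = 0 := three_eq_zero
  have hl' : lam ^ 2 + 1 = 0 := by linear_combination hl
  apply Subtype.ext
  have e : (yy lam ^ 2).1 = (yy lam).1 * (yy lam).1 := by rw [pow_two]; rfl
  show (ymat F (-1)).1 * (yy lam ^ 2).1 * (ymat F (-1)).1 = (negOne F).1 * (xmat F lam).1
  rw [e, yy_val]
  show (!![1, 0; -1, 1] : Matrix (Fin 2) (Fin 2) F) * _ * !![1, 0; -1, 1] =
    (-1 : Matrix (Fin 2) (Fin 2) F) * !![1, lam; 0, 1]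
  rw [Matrix.mul_fin_two, Matrix.mul_fin_two, Matrix.mul_fin_two]
  ext i j
  fin_cases i <;> fin_cases j <;> simp
  · linear_combination (8 - 2 * lam) * hl' + (-2 - 2 * lam) * h3
  · linear_combination (-6 + 2 * lam) * hl' + (2 + lam) * h3
  · linear_combination (-10 + 2 * lam) * hl' + (2 + 4 * lam) * h3
  · linear_combination (8 - 2 * lam) * hl' + (-2 - 2 * lam) * h3

end explicit

section group
variable {F : Type*} [Field F] [CharP F 3]

local notation "SL2" => Matrix.SpecialLinearGroup (Fin 2) F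
local notation "PSL2" => Matrix.ProjectiveSpecialLinearGroup (Fin 2) F

/-- for `lam ^ 2 = -1` in characteristic three the two unipotent elements generate a quotient of
the icosahedral group -/
theorem card_closure_le_sixty (lam : F) (hl : lam ^ 2 = -1) :
    Nat.card (Subgroup.closure ({(QuotientGroup.mk (ymat F 1) : PSL2),
      (QuotientGroup.mk (xmat F lam) : PSL2)} : Set PSL2)) ≤ 60 := by
  classical
  have h2 : (2 : F) ≠ 0 := two_ne_zero_char3
  set x : PSL2 := QuotientGroup.mk (ymat F 1) with hxdef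
  set b : PSL2 := QuotientGroup.mk (xmat F lam) with hbdef
  set y : PSL2 := QuotientGroup.mk (yy lam) with hydef
  have hx3 : x ^ 3 = 1 := by
    rw [hxdef, ← QuotientGroup.mk_pow, ymat_one_cube]; rfl
  have hy5 : y ^ 5 = 1 := by
    rw [hydef, ← QuotientGroup.mk_pow, yy_pow_five lam hl, mk_negOne h2]
  have hxy : (x * y) ^ 2 = 1 := by
    rw [hxdef, hydef, ← QuotientGroup.mk_mul, ← QuotientGroup.mk_pow, ymat_mul_yy_sq lam hl,
      mk_negOne h2]
  have hb : b = x⁻¹ * y ^ 2 * x⁻¹ := by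
    rw [hxdef, hydef, hbdef, ← QuotientGroup.mk_inv, ← QuotientGroup.mk_pow,
      ← QuotientGroup.mk_mul, ← QuotientGroup.mk_mul, ymat_inv, xmat_eq lam hl,
      QuotientGroup.mk_mul, mk_negOne h2, one_mul]
  obtain ⟨e⟩ := Cfsg.Agent.S3377.result
  have hrel : ∀ r ∈ ({FreeGroup.of (0 : Fin 2) ^ 3, FreeGroup.of (1 : Fin 2) ^ 5,
      (FreeGroup.of (0 : Fin 2) * FreeGroup.of 1) ^ 2} : Set (FreeGroup (Fin 2))),
      FreeGroup.lift ![x, y] r = 1 := by
    rintro r (rfl | rfl | rfl)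
    · simp [hx3]
    · simp [hy5]
    · simp [hxy]
  let ψ := PresentedGroup.toGroup hrel
  have hψ0 : ψ (PresentedGroup.of 0) = x := by
    show PresentedGroup.toGroup hrel (PresentedGroup.of 0) = x
    rw [PresentedGroup.toGroup.of]; rfl
  have hψ1 : ψ (PresentedGroup.of 1) = y := by
    show PresentedGroup.toGroup hrel (PresentedGroup.of 1) = y
    rw [PresentedGroup.toGroup.of]; rfl
  have hle : Subgroup.closure ({x, b} : Set PSL2) ≤ ψ.range := by
    rw [Subgroup.closure_le]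
    have hxr : x ∈ ψ.range := ⟨_, hψ0⟩
    have hyr : y ∈ ψ.range := ⟨_, hψ1⟩
    rintro z (rfl | rfl)
    · exact hxr
    · rw [SetLike.mem_coe, hb]
      exact ψ.range.mul_mem (ψ.range.mul_mem (ψ.range.inv_mem hxr) (ψ.range.pow_mem hyr 2))
        (ψ.range.inv_mem hxr)
  have : Finite (PresentedGroup ({FreeGroup.of (0 : Fin 2) ^ 3, FreeGroup.of (1 : Fin 2) ^ 5,
      (FreeGroup.of (0 : Fin 2) * FreeGroup.of 1) ^ 2} : Set (FreeGroup (Fin 2)))) :=
    Finite.of_equiv _ e.symm.toEquiv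
  have : Finite ψ.range := Finite.of_surjective ψ.rangeRestrict ψ.rangeRestrict_surjective
  calc Nat.card (Subgroup.closure ({x, b} : Set PSL2)) ≤ Nat.card ψ.range :=
        Subgroup.card_le_of_le hle
    _ ≤ Nat.card (PresentedGroup ({FreeGroup.of (0 : Fin 2) ^ 3, FreeGroup.of (1 : Fin 2) ^ 5,
      (FreeGroup.of (0 : Fin 2) * FreeGroup.of 1) ^ 2} : Set (FreeGroup (Fin 2)))) :=
        Nat.card_le_card_of_surjective ψ.rangeRestrict ψ.rangeRestrict_surjective
    _ = 60 := by rw [Nat.card_congr e.toEquiv, card_A5]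

end group

section lift
variable {F : Type*} [Field F] [Fintype F]

local notation "SL2" => Matrix.SpecialLinearGroup (Fin 2) F
local notation "PSL2" => Matrix.ProjectiveSpecialLinearGroup (Fin 2) F

omit [Fintype F] in
/-- the only involution of `SL₂` is `-1` -/
theorem sq_eq_negOne (h2 : (2 : F) ≠ 0) (g : SL2) (hg : g ∉ Subgroup.center SL2)
    (hg2 : g ^ 2 ∈ Subgroup.center SL2) : g ^ 2 = negOne F := by
  rcases (mem_center_iff' h2 _).mp hg2 with h | h
  · exfalso
    have e : (g ^ 2).1 = g.1 * g.1 := by rw [pow_two]; rfl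
    have h1 : g.1 * g.1 = 1 := by rw [← e, h]; rfl
    rw [sq_expand] at h1
    have h3 : g.1.trace • g.1 + (-1 : F) • (1 : Matrix (Fin 2) (Fin 2) F) =
        (1 : F) • (1 : Matrix (Fin 2) (Fin 2) F) := by rw [h1, one_smul]
    have ht := coeff_zero_of_scalar g hg _ _ _ h3
    rw [ht, zero_smul, zero_add, neg_smul, one_smul] at h1
    have := congrFun (congrFun h1 0) 0
    simp at this
    apply h2
    linear_combination -this
  · exact h

/-- a subgroup of `SL₂` with image of even order contains `-1` -/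
theorem negOne_mem_of_even (h2 : (2 : F) ≠ 0) (H : Subgroup SL2)
    (heven : 2 ∣ Nat.card (H.map (QuotientGroup.mk' (Subgroup.center SL2)))) :
    negOne F ∈ H := by
  have : Fact (Nat.Prime 2) := ⟨Nat.prime_two⟩
  obtain ⟨⟨z, hz⟩, hord⟩ := exists_prime_orderOf_dvd_card' 2 heven
  obtain ⟨g, hgH, rfl⟩ := hz
  have hord' : orderOf (QuotientGroup.mk' (Subgroup.center SL2) g) = 2 :=
    (Subgroup.orderOf_mk _ _).symm.trans hord
  have h1 : QuotientGroup.mk' (Subgroup.center SL2) g ≠ 1 := by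
    intro h
    rw [h, orderOf_one] at hord'
    omega
  have h3 : (QuotientGroup.mk' (Subgroup.center SL2) g) ^ 2 = 1 := by
    have := pow_orderOf_eq_one (QuotientGroup.mk' (Subgroup.center SL2) g)
    rw [hord'] at this
    exact this
  have hg1 : g ∉ Subgroup.center SL2 := by
    intro h
    apply h1
    exact (QuotientGroup.eq_one_iff g).mpr h
  have hg2 : g ^ 2 ∈ Subgroup.center SL2 := by
    rw [← map_pow] at h3
    exact (QuotientGroup.eq_one_iff _).mp h3
  rw [← sq_eq_negOne h2 g hg1 hg2]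
  exact H.pow_mem hgH 2

/-- the order of a subgroup containing the centre -/
theorem card_eq_two_mul (hodd : Fintype.card F % 2 = 1) (H : Subgroup SL2)
    (hneg : negOne F ∈ H) :
    Nat.card H = 2 * Nat.card (H.map (QuotientGroup.mk' (Subgroup.center SL2))) := by
  have h2 : (2 : F) ≠ 0 := Cfsg.Agent.Lib.Helper5.SumTwoSq.two_ne_zero_of_odd hodd
  set f : H →* PSL2 := (QuotientGroup.mk' (Subgroup.center SL2)).comp H.subtype with hf
  have hr : f.range = H.map (QuotientGroup.mk' (Subgroup.center SL2)) := by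
    rw [hf, MonoidHom.range_comp, Subgroup.range_subtype]
  have hk : Nat.card f.ker = 2 := by
    have hcen : Subgroup.center SL2 ≤ H := by
      intro z hz
      rcases (mem_center_iff' h2 z).mp hz with rfl | rfl
      · exact H.one_mem
      · exact hneg
    have e1 : f.ker = (Subgroup.center SL2).subgroupOf H := by
      ext z
      rw [MonoidHom.mem_ker, Subgroup.mem_subgroupOf, hf, MonoidHom.comp_apply]
      exact QuotientGroup.eq_one_iff _
    rw [e1, Nat.card_congr (Subgroup.subgroupOfEquivOfLe hcen).toEquiv]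
    exact card_center hodd
  have h1 := Subgroup.card_mul_index f.ker
  rw [Subgroup.index_ker, hk, hr] at h1
  exact h1.symm

/-- a subgroup mapping onto `PSL₂` is everything -/
theorem eq_top_of_map_eq_top (hodd : Fintype.card F % 2 = 1) (H : Subgroup SL2)
    (h : H.map (QuotientGroup.mk' (Subgroup.center SL2)) = ⊤) : H = ⊤ := by
  have h2 : (2 : F) ≠ 0 := Cfsg.Agent.Lib.Helper5.SumTwoSq.two_ne_zero_of_odd hodd
  have heven : 2 ∣ Nat.card (H.map (QuotientGroup.mk' (Subgroup.center SL2))) := by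
    rw [h, Subgroup.card_top]
    have h1 := card_PSL2_mul (F := F)
    rw [Cfsg.Agent.Lib.Helper5.DicksonMax.gcd_two_of_odd hodd] at h1
    have h3 : 2 ∣ (Fintype.card F - 1) * (Fintype.card F + 1) :=
      Dvd.dvd.mul_right ((Nat.dvd_iff_mod_eq_zero).mpr (by omega)) _
    have h4 : 2 * 2 ∣ 2 * Nat.card PSL2 := by
      rw [h1]
      obtain ⟨c, hc⟩ := h3
      obtain ⟨k, hk⟩ : 2 ∣ Fintype.card F + 1 := (Nat.dvd_iff_mod_eq_zero).mpr (by omega)
      obtain ⟨k', hk'⟩ : 2 ∣ Fintype.card F - 1 := (Nat.dvd_iff_mod_eq_zero).mpr (by omega)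
      rw [hk, hk']
      exact ⟨Fintype.card F * (k' * k), by ring⟩
    exact (Nat.mul_dvd_mul_iff_left (by norm_num)).mp h4
  have hneg := negOne_mem_of_even h2 H heven
  have h1 := card_eq_two_mul hodd H hneg
  rw [h, Subgroup.card_top] at h1
  apply Subgroup.eq_top_of_card_eq
  rw [h1]
  have h3 := Subgroup.card_eq_card_quotient_mul_card_subgroup (Subgroup.center SL2)
  rw [card_center hodd] at h3
  rw [h3, mul_comm]

end lift

end Cfsg.Agent.Lib.Helper5.SL2Gen
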