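import Mathlib
import Cfsg.Prelude.Def_LinearParabolics

/-! Shared definitions for the S2425 farm (values of the Steinberg character of `GL_n(q)` at elements of order
prime to the characteristic).  Everything is in the namespace `Cfsg.Agent.Lib.Helper5.StV`. -/

set_option autoImplicit false
set_option linter.unusedSectionVars false
set_option linter.unusedVariables false

open scoped Polynomial

namespace Cfsg.Agent.Lib.Helper5.StV

/-! ### Hessenberg sums in a (noncommutative) ring -/

/-- The "noncommutative Hessenberg determinant": the signed sum, over the permutations `κ` of `Fin n` with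
`κ i ≤ i + 1`, of the ORDERED products `z (1 + 0 - κ 0 + ..) * z (1 + 1 - κ 1 + ..) * ⋯`, the index of the factor of
the row mapped to column `0` being shifted by `s`. -/
noncomputable def hess {R : Type*} [Ring R] (z : ℕ → R) (n s : ℕ) : R :=
  ∑ κ : Equiv.Perm (Fin n),
    if ∀ i : Fin n, (κ i).val ≤ 1 + i.val then
      ((Equiv.Perm.sign κ : ℤˣ) : ℤ) •
        (List.ofFn fun i : Fin n => z (1 + i.val - (κ i).val + if (κ i).val = 0 then s else 0)).prod
    else 0

/-! ### Step matrices of a ranked poset, upper Moebius functions -/

open Classical in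
/-- `stepMat r k U U' = 1` if `U ≤ U'` and `r U' = r U + k`, else `0`. -/
noncomputable def stepMat {L : Type*} [PartialOrder L] (r : L → ℕ) (k : ℕ) : Matrix L L ℤ :=
  fun U U' => if U ≤ U' ∧ r U' = r U + k then 1 else 0

open Classical in
/-- `e` is the function `u ↦ μ(u, ⊤)`: for every `y` the sum of `e` over `{u | y ≤ u}` is `1` if `y = ⊤` and `0`
otherwise. -/
def IsUpperMu {L : Type*} [PartialOrder L] [Fintype L] [OrderTop L] (e : L → ℤ) : Prop :=
  ∀ y : L, (∑ u ∈ Finset.univ.filter (fun u : L => y ≤ u), e u) = if y = ⊤ then 1 else 0

/-! ### Invariant subspaces of an endomorphism -/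

section inv

variable {F : Type*} [Field F] {V : Type*} [AddCommGroup V] [Module F V]

/-- The lattice of `x`-invariant subspaces, as a type. -/
abbrev Inv (x : Module.End F V) : Type _ := ↥(Module.End.invtSubmodule x)

theorem finite_inv [Finite F] [FiniteDimensional F V] (x : Module.End F V) : Finite (Inv x) := by
  have : Finite V := Module.finite_of_finite F
  have : Finite (Submodule F V) := Finite.of_injective (fun W : Submodule F V => (W : Set V)) SetLike.coe_injective
  exact Subtype.finite

noncomputable instance instFintypeInv [Finite F] [FiniteDimensional F V] (x : Module.End F V) : Fintype (Inv x) :=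
  haveI := finite_inv x
  Fintype.ofFinite _

noncomputable instance instDecEqInv (x : Module.End F V) : DecidableEq (Inv x) := Classical.decEq _

/-- The rank function on the lattice of invariant subspaces. -/
noncomputable def rk (x : Module.End F V) (U : Inv x) : ℕ := Module.finrank F U.1

/-- The restriction of `x` to an invariant subspace. -/
noncomputable def restr (x : Module.End F V) (W : Inv x) : Module.End F W.1 :=
  x.restrict (fun v hv => ((Module.End.mem_invtSubmodule_iff_forall_mem_of_mem (f := x)).mp W.2) v hv)

/-- The cyclic subspace `{p(x) u}` generated by a vector `u`. -/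
noncomputable def cyc (x : Module.End F V) (u : V) : Submodule F V :=
  LinearMap.range ((LinearMap.applyₗ u : Module.End F V →ₗ[F] V) ∘ₗ (Polynomial.aeval x : F[X] →ₐ[F] Module.End F V).toLinearMap)

end inv

/-- The predicted Moebius number: `∏_f (-1)^(m_f) * (q^(deg f))^(m_f choose 2)` over the distinct members `f` of the
multiset `s`, `m_f` being the multiplicity. -/
noncomputable def tau {F : Type*} [Field F] [DecidableEq F] (q : ℕ) (s : Multiset F[X]) : ℤ :=
  ∏ f ∈ s.toFinset, (-1 : ℤ) ^ (s.count f) * ((q : ℤ) ^ f.natDegree) ^ ((s.count f).choose 2)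

/-- The standard flag of the composition `μ`: `stdFlag μ t` is the space of vectors supported on the positions of
block label `≤ t`. -/
def stdFlag {F : Type*} [Field F] {n : ℕ} (μ : Fin n → ℕ) (t : Fin n) : Submodule F (Fin n → F) where
  carrier := {v | ∀ j : Fin n, t.val < Cfsg.compLabel μ j → v j = 0}
  add_mem' := fun {a} {b} ha hb j hj => by
    change a j + b j = 0
    rw [ha j hj, hb j hj, add_zero]
  zero_mem' := fun _ _ => rfl
  smul_mem' := fun c {a} ha j hj => by
    change c * a j = 0
    rw [ha j hj, mul_zero]

/-- The partial sums `μ 0 + ⋯ + μ t`. -/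
def psum {n : ℕ} (μ : Fin n → ℕ) (t : Fin n) : ℕ := ∑ k ∈ Finset.univ.filter (fun k : Fin n => k ≤ t), μ k

end Cfsg.Agent.Lib.Helper5.StV
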