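import Mathlib
import Cfsg.Prelude
import Cfsg.Agent.Lib.Helper5.OmegaCrit

set_option autoImplicit false
set_option linter.unusedSectionVars false
set_option linter.unusedVariables false
open Cfsg

/-! Orthogonal direct sums of quadratic forms and their reflections. -/

namespace Cfsg.Agent.Lib.Helper5.OrthSum

open Matrix QuadraticMap Module Cfsg.Agent.Lib.Helper5.CartanDieudonne Cfsg.Agent.Lib.Helper5.Refl
  Cfsg.Agent.Lib.Helper5.SpinorNorm Cfsg.Agent.Lib.Helper5.OmegaGen Cfsg.Agent.Lib.Helper5.Dickson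
  Cfsg.Agent.Lib.Helper5.OrthIndexTwo Cfsg.Agent.Lib.Helper5.OmegaCrit

variable {ι₁ ι₂ : Type} [Fintype ι₁] [DecidableEq ι₁] [Fintype ι₂] [DecidableEq ι₂]
  {F : Type*} [Field F]
  (Q₁ : QuadraticForm F (ι₁ → F)) (Q₂ : QuadraticForm F (ι₂ → F))

/-- the orthogonal direct sum -/
noncomputable def sumForm : QuadraticForm F (ι₁ ⊕ ι₂ → F) :=
  Q₁.comp (LinearMap.funLeft F F Sum.inl) + Q₂.comp (LinearMap.funLeft F F Sum.inr)

theorem sumForm_apply (v : ι₁ ⊕ ι₂ → F) :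
    sumForm Q₁ Q₂ v = Q₁ (v ∘ Sum.inl) + Q₂ (v ∘ Sum.inr) := rfl

theorem coe_sumForm :
    ⇑(sumForm Q₁ Q₂) = fun v : ι₁ ⊕ ι₂ → F => Q₁ (v ∘ Sum.inl) + Q₂ (v ∘ Sum.inr) := rfl

theorem polar_sumForm (u v : ι₁ ⊕ ι₂ → F) :
    polar ⇑(sumForm Q₁ Q₂) u v =
      polar ⇑Q₁ (u ∘ Sum.inl) (v ∘ Sum.inl) + polar ⇑Q₂ (u ∘ Sum.inr) (v ∘ Sum.inr) := by
  simp only [polar, sumForm_apply]
  have e1 : (u + v) ∘ Sum.inl = u ∘ Sum.inl + v ∘ (Sum.inl : ι₁ → ι₁ ⊕ ι₂) := rfl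
  have e2 : (u + v) ∘ Sum.inr = u ∘ Sum.inr + v ∘ (Sum.inr : ι₂ → ι₁ ⊕ ι₂) := rfl
  rw [e1, e2]
  ring

theorem sumForm_elim (x : ι₁ → F) (y : ι₂ → F) :
    sumForm Q₁ Q₂ (Sum.elim x y) = Q₁ x + Q₂ y := by
  rw [sumForm_apply, Sum.elim_comp_inl, Sum.elim_comp_inr]

theorem polar_sumForm_elim (u : ι₁ ⊕ ι₂ → F) (x : ι₁ → F) (y : ι₂ → F) :
    polar ⇑(sumForm Q₁ Q₂) u (Sum.elim x y) =
      polar ⇑Q₁ (u ∘ Sum.inl) x + polar ⇑Q₂ (u ∘ Sum.inr) y := by
  rw [polar_sumForm, Sum.elim_comp_inl, Sum.elim_comp_inr]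

theorem sumForm_nondegenerate (h₁ : (polarBilin Q₁).Nondegenerate)
    (h₂ : (polarBilin Q₂).Nondegenerate) : (polarBilin (sumForm Q₁ Q₂)).Nondegenerate := by
  have key : ∀ u : ι₁ ⊕ ι₂ → F, (∀ v, polar ⇑(sumForm Q₁ Q₂) u v = 0) → u = 0 := by
    intro u hu
    have hl : u ∘ Sum.inl = 0 := by
      apply h₁.1
      intro x
      have := hu (Sum.elim x 0)
      rw [polar_sumForm_elim, polar_zero_right, add_zero] at this
      exact this
    have hr : u ∘ Sum.inr = 0 := by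
      apply h₂.1
      intro y
      have := hu (Sum.elim 0 y)
      rw [polar_sumForm_elim, polar_zero_right, zero_add] at this
      exact this
    ext i
    rcases i with i | i
    · exact congrFun hl i
    · exact congrFun hr i
  constructor
  · intro u hu
    exact key u (fun v => by simpa using hu v)
  · intro u hu
    apply key u
    intro v
    rw [polar_comm]
    simpa using hu v

/-- reflections in vectors of the first summand -/
theorem reflectionMatrix_inl (v : ι₁ → F) :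
    reflectionMatrix ⇑(sumForm Q₁ Q₂) (Sum.elim v 0) =
      Matrix.fromBlocks (reflectionMatrix ⇑Q₁ v) 0 0 1 := by
  rw [ext_iff_mulVec]
  intro x
  rw [reflectionMatrix_mulVec, Matrix.fromBlocks_mulVec, reflectionMatrix_mulVec, sumForm_elim,
    map_zero, add_zero, polar_comm, polar_sumForm_elim, polar_zero_right, add_zero,
    polar_comm ⇑Q₁]
  ext i
  rcases i with i | i
  · simp
  · simp

/-- reflections in vectors of the second summand -/
theorem reflectionMatrix_inr (w : ι₂ → F) :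
    reflectionMatrix ⇑(sumForm Q₁ Q₂) (Sum.elim 0 w) =
      Matrix.fromBlocks 1 0 0 (reflectionMatrix ⇑Q₂ w) := by
  rw [ext_iff_mulVec]
  intro x
  rw [reflectionMatrix_mulVec, Matrix.fromBlocks_mulVec, reflectionMatrix_mulVec, sumForm_elim,
    map_zero, zero_add, polar_comm, polar_sumForm_elim, polar_zero_right, zero_add,
    polar_comm ⇑Q₂]
  ext i
  rcases i with i | i
  · simp
  · simp

theorem rprod_inl (vs : List (ι₁ → F)) :
    rprod (sumForm Q₁ Q₂) (vs.map (fun v => Sum.elim v 0)) =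
      Matrix.fromBlocks (rprod Q₁ vs) 0 0 1 := by
  induction vs with
  | nil => rw [List.map_nil, rprod_nil, rprod_nil, Matrix.fromBlocks_one]
  | cons v t ih =>
    rw [List.map_cons, rprod_cons, rprod_cons, ih, reflectionMatrix_inl,
      Matrix.fromBlocks_multiply]
    simp

theorem rprod_inr (ws : List (ι₂ → F)) :
    rprod (sumForm Q₁ Q₂) (ws.map (fun w => Sum.elim 0 w)) =
      Matrix.fromBlocks 1 0 0 (rprod Q₂ ws) := by
  induction ws with
  | nil => rw [List.map_nil, rprod_nil, rprod_nil, Matrix.fromBlocks_one]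
  | cons v t ih =>
    rw [List.map_cons, rprod_cons, rprod_cons, ih, reflectionMatrix_inr,
      Matrix.fromBlocks_multiply]
    simp

theorem map_sumForm_inl (vs : List (ι₁ → F)) :
    (vs.map (fun v => Sum.elim v (0 : ι₂ → F))).map ⇑(sumForm Q₁ Q₂) = vs.map ⇑Q₁ := by
  rw [List.map_map]
  apply List.map_congr_left
  intro v _
  show sumForm Q₁ Q₂ (Sum.elim v 0) = Q₁ v
  rw [sumForm_elim, map_zero, add_zero]

theorem map_sumForm_inr (ws : List (ι₂ → F)) :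
    (ws.map (fun w => Sum.elim (0 : ι₁ → F) w)).map ⇑(sumForm Q₁ Q₂) = ws.map ⇑Q₂ := by
  rw [List.map_map]
  apply List.map_congr_left
  intro v _
  show sumForm Q₁ Q₂ (Sum.elim 0 v) = Q₂ v
  rw [sumForm_elim, map_zero, zero_add]

theorem ne_inl {vs : List (ι₁ → F)} (hvs : ∀ v ∈ vs, Q₁ v ≠ 0) :
    ∀ x ∈ vs.map (fun v => Sum.elim v (0 : ι₂ → F)), sumForm Q₁ Q₂ x ≠ 0 := by
  intro x hx
  obtain ⟨v, hv, rfl⟩ := List.mem_map.mp hx
  rw [sumForm_elim, map_zero, add_zero]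
  exact hvs v hv

theorem ne_inr {ws : List (ι₂ → F)} (hws : ∀ w ∈ ws, Q₂ w ≠ 0) :
    ∀ x ∈ ws.map (fun w => Sum.elim (0 : ι₁ → F) w), sumForm Q₁ Q₂ x ≠ 0 := by
  intro x hx
  obtain ⟨v, hv, rfl⟩ := List.mem_map.mp hx
  rw [sumForm_elim, map_zero, zero_add]
  exact hws v hv

section crit
variable {ι : Type} [Fintype ι] [DecidableEq ι] [Fintype F] (Q : QuadraticForm F (ι → F))

/-- the easy direction of the membership criterion, valid in every dimension -/
theorem crit_of_mem (hQ : (polarBilin Q).Nondegenerate)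
    (hex : Fintype.card ι = 4 → ∃ a : F, a ≠ 0 ∧ a ≠ 1) (g : ↥(isometryGroup F ⇑Q))
    (vs : List (ι → F)) (hvs : IsRep Q g vs) (hg : g ∈ Omega F ⇑Q) :
    Even vs.length ∧ IsSquare (vs.map Q).prod := by
  by_cases h2 : (2 : F) = 0
  · rw [mem_Omega_iff_par Q h2 hQ hex, par_eq Q hQ hex g vs hvs, neg_one_pow_eq_one_iff] at hg
    exact ⟨hg, isSquare_of_two_eq_zero h2 _⟩
  · have h1 : g ∈ (theta Q h2 hQ).ker := Abelianization.commutator_subset_ker _ hg
    rw [MonoidHom.mem_ker, theta_eq Q h2 hQ g vs hvs, inv2_eq_one_iff] at h1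
    exact h1

omit [Fintype F] in
/-- in dimension at most one an even product of reflections is trivial -/
theorem eq_one_of_subsingleton [Subsingleton ι] (g : ↥(isometryGroup F ⇑Q))
    (vs : List (ι → F)) (hvs : IsRep Q g vs) (he : Even vs.length) : g = 1 := by
  apply Subtype.ext
  apply Units.ext
  ext i j
  have hij : i = j := Subsingleton.elim i j
  subst hij
  have h1 := Matrix.det_eq_elem_of_subsingleton
    ((g : Matrix.GeneralLinearGroup ι F) : Matrix ι ι F) i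
  rw [hvs.2, rprod_det Q vs hvs.1, he.neg_one_pow, ← hvs.2] at h1
  rw [← h1]
  simp

end crit

/-- an isometry of the first summand, extended by the identity, lies in `Ω` of the sum iff it lies
in `Ω` of the summand -/
theorem sum_mem_iff [Fintype F] (h₁ : (polarBilin Q₁).Nondegenerate)
    (h₂ : (polarBilin Q₂).Nondegenerate)
    (hex₁ : Fintype.card ι₁ = 4 → ∃ a : F, a ≠ 0 ∧ a ≠ 1)
    (hexs : Fintype.card (ι₁ ⊕ ι₂) = 4 → ∃ a : F, a ≠ 0 ∧ a ≠ 1) :
    ∀ g₁ : ↥(isometryGroup F ⇑Q₁),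
    (∃ g : ↥(isometryGroup F ⇑(sumForm Q₁ Q₂)), g ∈ Omega F ⇑(sumForm Q₁ Q₂) ∧
      ((g : Matrix.GeneralLinearGroup (ι₁ ⊕ ι₂) F) : Matrix (ι₁ ⊕ ι₂) (ι₁ ⊕ ι₂) F) =
        Matrix.fromBlocks ((g₁ : Matrix.GeneralLinearGroup ι₁ F) : Matrix ι₁ ι₁ F) 0 0 1) ↔
      g₁ ∈ Omega F ⇑Q₁ := by
  intro g₁
  have hs := sumForm_nondegenerate Q₁ Q₂ h₁ h₂
  obtain ⟨vs, hvs⟩ := exists_rep' Q₁ h₁ hex₁ g₁
  have hne := ne_inl Q₁ Q₂ hvs.1
  have hG : IsRep (sumForm Q₁ Q₂)
      ((vs.map (fun v => Sum.elim v (0 : ι₂ → F))).map (reflE (sumForm Q₁ Q₂))).prod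
      (vs.map (fun v => Sum.elim v (0 : ι₂ → F))) :=
    ⟨hne, coe_prod_reflE (sumForm Q₁ Q₂) _ hne⟩
  have hGm : ((((vs.map (fun v => Sum.elim v (0 : ι₂ → F))).map
      (reflE (sumForm Q₁ Q₂))).prod : ↥(isometryGroup F ⇑(sumForm Q₁ Q₂))) :
        Matrix.GeneralLinearGroup (ι₁ ⊕ ι₂) F).1 =
      Matrix.fromBlocks ((g₁ : Matrix.GeneralLinearGroup ι₁ F) : Matrix ι₁ ι₁ F) 0 0 1 := by
    rw [hG.2, rprod_inl, ← hvs.2]
  by_cases hk : 2 ≤ Fintype.card ι₁
  · have hks : 2 ≤ Fintype.card (ι₁ ⊕ ι₂) := by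
      rw [Fintype.card_sum]
      omega
    constructor
    · rintro ⟨g, hg, hgm⟩
      have e : g = ((vs.map (fun v => Sum.elim v (0 : ι₂ → F))).map
          (reflE (sumForm Q₁ Q₂))).prod := Subtype.ext (Units.ext (hgm.trans hGm.symm))
      rw [e, mem_Omega_iff (sumForm Q₁ Q₂) hs hexs hks _ _ hG, List.length_map,
        map_sumForm_inl] at hg
      exact (mem_Omega_iff Q₁ h₁ hex₁ hk g₁ vs hvs).mpr hg
    · intro hg
      refine ⟨_, ?_, hGm⟩
      rw [mem_Omega_iff (sumForm Q₁ Q₂) hs hexs hks _ _ hG, List.length_map, map_sumForm_inl]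
      exact (mem_Omega_iff Q₁ h₁ hex₁ hk g₁ vs hvs).mp hg
  · have hsub : Subsingleton ι₁ := Fintype.card_le_one_iff_subsingleton.mp (by omega)
    constructor
    · rintro ⟨g, hg, hgm⟩
      have e : g = ((vs.map (fun v => Sum.elim v (0 : ι₂ → F))).map
          (reflE (sumForm Q₁ Q₂))).prod := Subtype.ext (Units.ext (hgm.trans hGm.symm))
      rw [e] at hg
      have he := (crit_of_mem (sumForm Q₁ Q₂) hs hexs _ _ hG hg).1
      rw [List.length_map] at he
      rw [eq_one_of_subsingleton Q₁ g₁ vs hvs he]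
      exact one_mem _
    · intro hg
      have he := (crit_of_mem Q₁ h₁ hex₁ g₁ vs hvs hg).1
      have h1 := eq_one_of_subsingleton Q₁ g₁ vs hvs he
      refine ⟨1, one_mem _, ?_⟩
      rw [h1]
      show (1 : Matrix (ι₁ ⊕ ι₂) (ι₁ ⊕ ι₂) F) = Matrix.fromBlocks (1 : Matrix ι₁ ι₁ F) 0 0 1
      rw [Matrix.fromBlocks_one]

end Cfsg.Agent.Lib.Helper5.OrthSum
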