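import Mathlib
import Cfsg.Prelude
import Cfsg.Agent.Lib.Helper5.OrthSum

set_option autoImplicit false
set_option linter.unusedSectionVars false
set_option linter.unusedVariables false
open Cfsg

/-! Diagonal isometries of `Q ⊕ Q` lie in `Ω`. -/

namespace Cfsg.Agent.Lib.Helper5.OrthSumDiag

open Matrix QuadraticMap Module Cfsg.Agent.Lib.Helper5.CartanDieudonne Cfsg.Agent.Lib.Helper5.Refl
  Cfsg.Agent.Lib.Helper5.SpinorNorm Cfsg.Agent.Lib.Helper5.OmegaGen Cfsg.Agent.Lib.Helper5.Dickson
  Cfsg.Agent.Lib.Helper5.OrthIndexTwo Cfsg.Agent.Lib.Helper5.OmegaCrit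
  Cfsg.Agent.Lib.Helper5.OrthSum

variable {ι : Type} [Fintype ι] [DecidableEq ι] {F : Type*} [Field F]
  (Q : QuadraticForm F (ι → F))

/-- every element of the abelianisation of a group generated by involutions has order at most
two -/
theorem ab_sq (hgen : reflSubgroup Q = ⊤) (x : ↥(isometryGroup F ⇑Q)) :
    (Abelianization.of x : Abelianization ↥(isometryGroup F ⇑Q)) * Abelianization.of x = 1 := by
  have hx : x ∈ reflSubgroup Q := by rw [hgen]; exact Subgroup.mem_top x
  unfold reflSubgroup at hx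
  induction hx using Subgroup.closure_induction with
  | mem t ht =>
    obtain ⟨v, hv, htv⟩ := ht
    have e : t = reflection Q v hv := by
      apply Subtype.ext
      apply Units.ext
      exact htv
    have hr : reflection Q v hv * reflection Q v hv = 1 := by
      apply Subtype.ext
      apply Units.ext
      exact reflection_mul_self Q v hv
    rw [e, ← map_mul, hr, map_one]
  | one => rw [map_one, one_mul]
  | mul a b _ _ ha hb =>
    rw [map_mul, mul_mul_mul_comm, ha, hb, one_mul]
  | inv a _ ha =>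
    rw [map_inv, ← mul_inv, ha, inv_one]

/-- `g ⊕ 1` -/
noncomputable def extL (g : ↥(isometryGroup F ⇑Q)) : ↥(isometryGroup F ⇑(sumForm Q Q)) :=
  ⟨⟨Matrix.fromBlocks ((g : Matrix.GeneralLinearGroup ι F) : Matrix ι ι F) 0 0 1,
    Matrix.fromBlocks (((g : Matrix.GeneralLinearGroup ι F)⁻¹ :
      Matrix.GeneralLinearGroup ι F) : Matrix ι ι F) 0 0 1,
    by
      rw [Matrix.fromBlocks_multiply]
      simp [Matrix.fromBlocks_one],
    by
      rw [Matrix.fromBlocks_multiply]
      simp [Matrix.fromBlocks_one]⟩,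
    fun u _ => by
      show sumForm Q Q (Matrix.fromBlocks ((g : Matrix.GeneralLinearGroup ι F) : Matrix ι ι F)
        0 0 1 *ᵥ u) = sumForm Q Q u
      rw [Matrix.fromBlocks_mulVec, sumForm_elim, sumForm_apply]
      simp only [Matrix.zero_mulVec, Matrix.one_mulVec, add_zero, zero_add]
      congr 1
      exact quad_act Q g _⟩

/-- the swap of the two summands -/
noncomputable def swap : ↥(isometryGroup F ⇑(sumForm Q Q)) :=
  ⟨⟨Matrix.fromBlocks 0 1 1 0, Matrix.fromBlocks 0 1 1 0,
    by
      rw [Matrix.fromBlocks_multiply]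
      simp [Matrix.fromBlocks_one],
    by
      rw [Matrix.fromBlocks_multiply]
      simp [Matrix.fromBlocks_one]⟩,
    fun u _ => by
      show sumForm Q Q (Matrix.fromBlocks (0 : Matrix ι ι F) 1 1 0 *ᵥ u) = sumForm Q Q u
      rw [Matrix.fromBlocks_mulVec, sumForm_elim, sumForm_apply]
      simp only [Matrix.zero_mulVec, Matrix.one_mulVec, add_zero, zero_add]
      exact add_comm _ _⟩

/-- diagonal isometries lie in `Ω(Q ⊕ Q)` -/
theorem diag_mem (hgen : reflSubgroup (sumForm Q Q) = ⊤) :
    ∀ g : ↥(isometryGroup F ⇑Q),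
    ∃ x : ↥(isometryGroup F ⇑(sumForm Q Q)), x ∈ Omega F ⇑(sumForm Q Q) ∧
      ((x : Matrix.GeneralLinearGroup (ι ⊕ ι) F) : Matrix (ι ⊕ ι) (ι ⊕ ι) F) =
        Matrix.fromBlocks ((g : Matrix.GeneralLinearGroup ι F) : Matrix ι ι F) 0 0
          ((g : Matrix.GeneralLinearGroup ι F) : Matrix ι ι F) := by
  intro g
  refine ⟨extL Q g * swap Q * extL Q g * swap Q, ?_, ?_⟩
  · show _ ∈ commutator _
    rw [← Abelianization.ker_of, MonoidHom.mem_ker, map_mul, map_mul, map_mul]
    rw [mul_assoc, mul_assoc, ← mul_assoc (Abelianization.of (swap Q)),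
      mul_comm (Abelianization.of (swap Q)) (Abelianization.of (extL Q g)),
      mul_assoc, ← mul_assoc, ab_sq _ hgen, ab_sq _ hgen, one_mul]
  · show Matrix.fromBlocks ((g : Matrix.GeneralLinearGroup ι F) : Matrix ι ι F) 0 0 1 *
      Matrix.fromBlocks 0 1 1 0 *
      Matrix.fromBlocks ((g : Matrix.GeneralLinearGroup ι F) : Matrix ι ι F) 0 0 1 *
      Matrix.fromBlocks 0 1 1 0 = _
    rw [Matrix.fromBlocks_multiply, Matrix.fromBlocks_multiply, Matrix.fromBlocks_multiply]
    simp

end Cfsg.Agent.Lib.Helper5.OrthSumDiag
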