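import Mathlib

set_option autoImplicit false

/-!
# S4064, Part E (the residual case): interface

`ZS Y Λ m e` : the counting data of a Zassenhaus-type action (degree `m + 1`, two-point
stabilizers of order `e`).  `ZSInv Y Λ i` : every involution fixes exactly one point, each
point is fixed by exactly `i` involutions, and every two-point stabilizer is inverted by an
involution interchanging the two points.

`Resid S T q` : the residual configuration of S4064: degree `q ^ 3 + 1`, point stabilizer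
`S α ⋊ D`, `T α = Ω₁(S α) ≤ Z(S α)` of order `q`, squares and commutators of `S α` in `T α`,
two-point stabilizers of order `q - 1`, every centralizer of a non-identity element nilpotent.
-/

namespace Cfsg.Agent.Lib.Helper5.TICE

/-- `a` is an involution. -/
def IsInv {Y : Type*} [Group Y] (a : Y) : Prop := a * a = 1 ∧ a ≠ 1

/-- `g` has no fixed point on `Λ`. -/
def Fpf {Y : Type*} [Group Y] (Λ : Type*) [MulAction Y Λ] (g : Y) : Prop :=
  ∀ α : Λ, g • α ≠ α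

/-- the involutions inverting `x` -/
def invSet {Y : Type*} [Group Y] (x : Y) : Set Y := {a | IsInv a ∧ a * x * a⁻¹ = x⁻¹}

/-- Counting data of a Zassenhaus-type action. -/
structure ZS (Y : Type*) [Group Y] (Λ : Type*) [MulAction Y Λ] (m e : ℕ) : Prop where
  card_pts : Nat.card Λ = m + 1
  two_trans : ∀ α β α' β' : Λ, α ≠ β → α' ≠ β' → ∃ g : Y, g • α = α' ∧ g • β = β'
  three_pt : ∀ (g : Y) (α β γ : Λ), α ≠ β → β ≠ γ → α ≠ γ →
    g • α = α → g • β = β → g • γ = γ → g = 1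
  card_D : ∀ α β : Λ, α ≠ β → Nat.card {g : Y // g • α = α ∧ g • β = β} = e

/-- Involution data of a Zassenhaus-type action. -/
structure ZSInv (Y : Type*) [Group Y] (Λ : Type*) [MulAction Y Λ] (i : ℕ) : Prop where
  fix_unique : ∀ a : Y, IsInv a → ∃! α : Λ, a • α = α
  card_inv : ∀ α : Λ, Nat.card {a : Y // IsInv a ∧ a • α = α} = i
  inverted : ∀ α β : Λ, α ≠ β → ∃ u : Y, u * u = 1 ∧ u • α = β ∧ u • β = α ∧
    ∀ d : Y, d • α = α → d • β = β → u * d * u⁻¹ = d⁻¹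

/-- The residual configuration of S4064. -/
structure Resid {G : Type*} [Group G] {Ω : Type*} [MulAction G Ω]
    (S T : Ω → Subgroup G) (q : ℕ) : Prop where
  q_eq : ∃ n : ℕ, 2 ≤ n ∧ q = 2 ^ n
  card_pts : Nat.card Ω = q ^ 3 + 1
  two_trans : ∀ α β α' β' : Ω, α ≠ β → α' ≠ β' → ∃ g : G, g • α = α' ∧ g • β = β'
  three_pt : ∀ (g : G) (α β γ : Ω), α ≠ β → β ≠ γ → α ≠ γ →
    g • α = α → g • β = β → g • γ = γ → g = 1
  card_D : ∀ α β : Ω, α ≠ β → Nat.card {g : G // g • α = α ∧ g • β = β} = q - 1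
  inverted : ∀ α β : Ω, α ≠ β → ∃ u : G, u * u = 1 ∧ u • α = β ∧ u • β = α ∧
    ∀ d : G, d • α = α → d • β = β → u * d * u⁻¹ = d⁻¹
  S_fix : ∀ α : Ω, ∀ s ∈ S α, s • α = α
  S_conj : ∀ (g : G) (α : Ω), ∀ s ∈ S α, g * s * g⁻¹ ∈ S (g • α)
  S_trans : ∀ α β γ : Ω, β ≠ α → γ ≠ α → ∃ s ∈ S α, s • β = γ
  S_free : ∀ α β : Ω, β ≠ α → ∀ s ∈ S α, s • β = β → s = 1
  T_le : ∀ α : Ω, T α ≤ S α
  mem_T : ∀ α : Ω, ∀ s ∈ S α, s ∈ T α ↔ s * s = 1
  T_central : ∀ α : Ω, ∀ t ∈ T α, ∀ s ∈ S α, t * s = s * t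
  sq_mem : ∀ α : Ω, ∀ s ∈ S α, s * s ∈ T α
  comm_mem : ∀ α : Ω, ∀ s ∈ S α, ∀ s' ∈ S α, s * s' * s⁻¹ * s'⁻¹ ∈ T α
  card_T : ∀ α : Ω, Nat.card (T α) = q
  invol : ∀ a : G, IsInv a → ∃ α : Ω, a ∈ T α
  cent_invol : ∀ α : Ω, ∀ t ∈ T α, t ≠ 1 → ∀ g : G, g * t = t * g → g ∈ S α
  cn : ∀ g : G, g ≠ 1 → Group.IsNilpotent (Subgroup.centralizer ({g} : Set G))

end Cfsg.Agent.Lib.Helper5.TICE
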