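import Mathlib
import Cfsg.Agent.Lib.Helper5.TICE1

set_option autoImplicit false

/-!
# S4064, Part E: hypotheses passed between the pieces
-/

namespace Cfsg.Agent.Lib.Helper5.TICE

/-- what piece `G2` (`centralizer_of_inverted`) gives in a CN-group: the centralizer of an
element `g ≠ 1` of odd order inverted by an involution `w` is abelian, of odd order, inverted
by `w`, and is the centralizer of each of its non-identity elements -/
def SRHyp (G : Type*) [Group G] : Prop :=
  ∀ w g : G, w * w = 1 → g ≠ 1 → Odd (orderOf g) → w * g * w⁻¹ = g⁻¹ →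
    (∀ c ∈ Subgroup.centralizer ({g} : Set G), w * c * w⁻¹ = c⁻¹) ∧
    (∀ c ∈ Subgroup.centralizer ({g} : Set G), ∀ c' ∈ Subgroup.centralizer ({g} : Set G),
      c * c' = c' * c) ∧
    Odd (Nat.card (Subgroup.centralizer ({g} : Set G))) ∧
    (∀ c ∈ Subgroup.centralizer ({g} : Set G), c ≠ 1 →
      Subgroup.centralizer ({c} : Set G) = Subgroup.centralizer ({g} : Set G))

/-- what piece `G3` (`card_le_eight`) gives -/
def G3Hyp (G : Type*) [Group G] : Prop :=
  ∀ (E : Subgroup G) (a : G), a ∈ E → a * a = 1 →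
    (∀ y ∈ E, y * y = 1 ∨ y * y = a) →
    (∀ y ∈ E, ∀ y' ∈ E, y * y' = y' * y ∨ y * y' = a * (y' * y)) →
    (∀ y ∈ E, y * y = 1 → y = 1 ∨ y = a) →
    (∀ y ∈ E, a * y = y * a) → Nat.card E ≤ 8

/-- `E = N_G(M) ∩ C_G(a)` for `M = C_G(x)` -/
def Esub {G : Type*} [Group G] (x a : G) : Subgroup G :=
  Subgroup.normalizer ((Subgroup.centralizer ({x} : Set G) : Subgroup G) : Set G) ⊓
    Subgroup.centralizer ({a} : Set G)

end Cfsg.Agent.Lib.Helper5.TICE
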