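import Mathlib
import Cfsg.Prelude
import Cfsg.Agent.Lib.Helper5.HermPair

set_option autoImplicit false
set_option linter.unusedSectionVars false
set_option linter.unusedVariables false
open Cfsg

/-! The stabiliser of a non-degenerate subspace of small dimension is maximal in the special
unitary group. -/

namespace Cfsg.Agent.Lib.Helper5.SUNondegMax

open Matrix Cfsg.Agent.Lib.Helper5.Herm Cfsg.Agent.Lib.Helper5.HermBridge
  Cfsg.Agent.Lib.Helper5.HermTv Cfsg.Agent.Lib.Helper5.HermGen Cfsg.Agent.Lib.Helper5.HermEich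
  Cfsg.Agent.Lib.Helper5.SUCentres Cfsg.Agent.Lib.Helper5.SpSingularMax
  Cfsg.Agent.Lib.Helper5.SUSingularMax Cfsg.Agent.Lib.Helper5.HermPair

variable {F : Type*} [Field F] [Fintype F] {q : ℕ} (hF : Fintype.card F = q ^ 2) {n : ℕ}

theorem herm_zero_left (v : Fin n → F) : hermForm n F q 0 v = 0 := by
  unfold hermForm
  simp

theorem ne_zero_of_herm {v : Fin n → F} (h : hermForm n F q v v ≠ 0) : v ≠ 0 := by
  intro h0
  apply h
  rw [h0]
  exact herm_zero_left 0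

section
variable {W Wp : Submodule F (Fin n → F)} (hOP : OrthoPair q W Wp)
  {M : Subgroup (Matrix.GeneralLinearGroup (Fin n) F)} (hPM : stabSU q W ≤ M)
  (hMS : M ≤ Cfsg.GU n F q ⊓ Cfsg.Geo.specialLinear (Fin n) F)

include hPM in
theorem isCentre_left (a : Fin n → F) (ha : a ∈ W) (hiso : hermForm n F q a a = 0) :
    IsCentre hF n M a := by
  refine ⟨hiso, fun c hc => hPM ?_⟩
  rw [Subgroup.mem_inf, mem_SU_iff]
  refine ⟨mem_stab_of_map_le W _ ?_, (qtv hF n a c hc).2, ?_⟩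
  · intro x hx
    have : (((qtv hF n a c hc : ↥(Cfsg.GU n F q)) : Matrix.GeneralLinearGroup (Fin n) F) :
        Matrix (Fin n) (Fin n) F) *ᵥ x = x + (c * hermForm n F q x a) • a := gact_qtv hF n a c hc x
    rw [this]
    exact W.add_mem hx (W.smul_mem _ ha)
  · show (unitaryTransvection n q a c).det = 1
    rw [det_tv, hiso, mul_zero, add_zero]

include hOP hPM in
theorem isCentre_right (b : Fin n → F) (hb : b ∈ Wp) (hiso : hermForm n F q b b = 0) :
    IsCentre hF n M b :=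
  isCentre_of_perp hF W M hPM b hiso (fun w hw => hOP.orth w hw b hb)

include hOP hPM hMS in
theorem transfer (h3 : 3 ≤ Module.finrank F Wp) (a₁ a₂ b₁ b₂ : Fin n → F)
    (ha₁ : a₁ ∈ W) (ha₂ : a₂ ∈ W) (hb₁ : b₁ ∈ Wp) (hb₂ : b₂ ∈ Wp)
    (ha₁0 : a₁ ≠ 0) (ha₂0 : a₂ ≠ 0) (hb₁0 : b₁ ≠ 0) (hb₂0 : b₂ ≠ 0)
    (hna : hermForm n F q a₁ a₁ = hermForm n F q a₂ a₂)
    (hnb : hermForm n F q b₁ b₁ = hermForm n F q b₂ b₂)
    (hC : IsCentre hF n M (a₁ + b₁)) : IsCentre hF n M (a₂ + b₂) := by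
  obtain ⟨g₁, hg₁P, hg₁B, hg₁a⟩ := hOP.move_left hF h3 a₁ a₂ ha₁ ha₂ ha₁0 ha₂0 hna
  have hb'0 : gact n g₁ b₁ ≠ 0 := by
    intro h0
    apply hb₁0
    have := gact_inv_gact n g₁ b₁
    rw [h0] at this
    rw [← this]
    exact mulVec_zero _
  obtain ⟨g₂, hg₂P, hg₂A, hg₂b⟩ := hOP.move_right hF h3 (gact n g₁ b₁) b₂ (hg₁B b₁ hb₁) hb₂
    hb'0 hb₂0 (by rw [herm_gact, hnb])
  have h1 := isCentre_gact hF hMS _ (hPM hg₁P) hC
  have e1 : ((g₁ : Matrix.GeneralLinearGroup (Fin n) F) : Matrix (Fin n) (Fin n) F) *ᵥ (a₁ + b₁) =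
      a₂ + gact n g₁ b₁ := by
    have := gact_add n g₁ a₁ b₁
    rw [hg₁a] at this
    exact this
  rw [e1] at h1
  have h2 := isCentre_gact hF hMS _ (hPM hg₂P) h1
  have e2 : ((g₂ : Matrix.GeneralLinearGroup (Fin n) F) : Matrix (Fin n) (Fin n) F) *ᵥ
      (a₂ + gact n g₁ b₁) = a₂ + b₂ := by
    have := gact_add n g₂ a₂ (gact n g₁ b₁)
    rw [hg₂A a₂ ha₂, hg₂b] at this
    exact this
  rw [e2] at h2
  exact h2

include hOP hPM hMS in
theorem all_N (h3 : 3 ≤ Module.finrank F Wp) (a₀ b₀ : Fin n → F) (ha₀ : a₀ ∈ W) (hb₀ : b₀ ∈ Wp)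
    (hl : hermForm n F q a₀ a₀ ≠ 0) (hs : IsCentre hF n M (a₀ + b₀)) :
    ∀ a ∈ W, ∀ b ∈ Wp, hermForm n F q a a ≠ 0 → hermForm n F q a a + hermForm n F q b b = 0 →
      IsCentre hF n M (a + b) := by
  have hsum0 : hermForm n F q a₀ a₀ + hermForm n F q b₀ b₀ = 0 := by
    have := hs.1
    rw [hermForm_add_left, hermForm_add_right hF, hermForm_add_right hF, hOP.orth a₀ ha₀ b₀ hb₀,
      herm_symm_zero hF n (hOP.orth a₀ ha₀ b₀ hb₀)] at this
    linear_combination this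
  intro a ha b hb hne hsum
  obtain ⟨μ, hμ⟩ := Cfsg.Agent.Lib.Helper5.HermCount.exists_norm_eq hF
    (hermForm n F q a a / hermForm n F q a₀ a₀) (div_ne_zero hne hl) (by
      rw [div_pow, herm_self_fixed hF, herm_self_fixed hF])
  have hμ' : μ * μ ^ q * hermForm n F q a₀ a₀ = hermForm n F q a a := by
    rw [mul_comm μ, ← pow_succ, hμ, div_mul_cancel₀ _ hl]
  have hμ0 : μ ≠ 0 := by
    rintro rfl
    rw [zero_mul, zero_mul] at hμ'
    exact hne hμ'.symm
  have hb₀n : hermForm n F q b₀ b₀ ≠ 0 := by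
    intro h0
    rw [h0, add_zero] at hsum0
    exact hl hsum0
  have hbn : hermForm n F q b b ≠ 0 := by
    intro h0
    rw [h0, add_zero] at hsum
    exact hne hsum
  have h1 := isCentre_smul hF μ hs
  rw [smul_add] at h1
  refine transfer hF hOP hPM hMS h3 (μ • a₀) a (μ • b₀) b (W.smul_mem _ ha₀) ha
    (Wp.smul_mem _ hb₀) hb (smul_ne_zero hμ0 (ne_zero_of_herm hl)) (ne_zero_of_herm hne)
    (smul_ne_zero hμ0 (ne_zero_of_herm hb₀n)) (ne_zero_of_herm hbn) ?_ ?_ h1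
  · rw [hermForm_smul_left, hermForm_smul_right, ← mul_assoc, hμ']
  · rw [hermForm_smul_left, hermForm_smul_right, ← mul_assoc]
    linear_combination (μ * μ ^ q) * hsum0 - hμ' - hsum

include hOP hPM hMS in
theorem all_I (h3 : 3 ≤ Module.finrank F Wp) (a₀ b₀ : Fin n → F) (ha₀ : a₀ ∈ W) (hb₀ : b₀ ∈ Wp)
    (ha₀0 : a₀ ≠ 0) (hb₀0 : b₀ ≠ 0) (hia : hermForm n F q a₀ a₀ = 0)
    (hib : hermForm n F q b₀ b₀ = 0) (hs : IsCentre hF n M (a₀ + b₀)) :
    ∀ a ∈ W, ∀ b ∈ Wp, hermForm n F q a a = 0 → hermForm n F q b b = 0 →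
      IsCentre hF n M (a + b) := by
  intro a ha b hb hia' hib'
  by_cases ha0 : a = 0
  · rw [ha0, zero_add]
    exact isCentre_right hF hOP hPM b hb hib'
  by_cases hb0 : b = 0
  · rw [hb0, add_zero]
    exact isCentre_left hF hPM a ha hia'
  exact transfer hF hOP hPM hMS h3 a₀ a b₀ b ha₀ ha hb₀ hb ha₀0 ha0 hb₀0 hb0
    (by rw [hia, hia']) (by rw [hib, hib']) hs

include hOP hPM hMS in
theorem N_to_I (h3 : 3 ≤ Module.finrank F Wp)
    (hN : ∀ a ∈ W, ∀ b ∈ Wp, hermForm n F q a a ≠ 0 →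
      hermForm n F q a a + hermForm n F q b b = 0 → IsCentre hF n M (a + b)) :
    ∀ a ∈ W, ∀ b ∈ Wp, hermForm n F q a a = 0 → hermForm n F q b b = 0 →
      IsCentre hF n M (a + b) := by
  intro a' ha' b' hb' hia hib
  by_cases ha'0 : a' = 0
  · rw [ha'0, zero_add]
    exact isCentre_right hF hOP hPM b' hb' hib
  obtain ⟨z, hzW, hz⟩ := hOP.nondeg hF a' ha' ha'0
  obtain ⟨μ', hμ'⟩ := exists_trace_eq hF (1 - hermForm n F q z z) (by
    rw [pow_q_sub hF, one_pow, herm_self_fixed hF])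
  obtain ⟨a₁, ha₁def⟩ : ∃ a₁ : Fin n → F, a₁ = z + (μ' / hermForm n F q a' z) • a' := ⟨_, rfl⟩
  have htη : μ' / hermForm n F q a' z * hermForm n F q a' z = μ' := div_mul_cancel₀ _ hz
  have ha₁W : a₁ ∈ W := by rw [ha₁def]; exact W.add_mem hzW (W.smul_mem _ ha')
  have ha₁n : hermForm n F q a₁ a₁ = 1 := by
    rw [ha₁def, hermForm_add_left, hermForm_add_right hF, hermForm_add_right hF,
      hermForm_smul_left, hermForm_smul_left, hermForm_smul_right, hermForm_smul_right,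
      hia, ← hermForm_conj hF n a' z, ← mul_pow, htη]
    linear_combination hμ'
  have ha'a₁ : hermForm n F q a' a₁ = hermForm n F q a' z := by
    rw [ha₁def, hermForm_add_right hF, hermForm_smul_right, hia, mul_zero, add_zero]
  have ha₁a' : hermForm n F q a₁ a' = (hermForm n F q a' z) ^ q := by
    rw [← ha'a₁, hermForm_conj hF]
  obtain ⟨b₁, hb₁, hb₁0, hb₁b', hb₁n⟩ := (hOP.symm hF).exists_norm_vec hF h3 b' hb' (-1) (by
    rw [pow_q_neg hF, one_pow])
  have hb'b₁ : hermForm n F q b' b₁ = 0 := herm_symm_zero hF n hb₁b'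
  have hs' : IsCentre hF n M (a₁ + b₁) := hN a₁ ha₁W b₁ hb₁ (by rw [ha₁n]; exact one_ne_zero)
    (by rw [ha₁n, hb₁n]; ring)
  obtain ⟨τ, hτ0, hτ⟩ := exists_trace_zero hF
  obtain ⟨α, hαdef⟩ : ∃ α : F, α = τ / hermForm n F q a' z := ⟨_, rfl⟩
  have hαη : α * hermForm n F q a' z = τ := by rw [hαdef]; exact div_mul_cancel₀ _ hz
  have hα0 : α ≠ 0 := by
    rintro rfl
    rw [zero_mul] at hαη
    exact hτ0 hαη.symm
  have ha₂W : a₁ + α • a' ∈ W := W.add_mem ha₁W (W.smul_mem _ ha')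
  have hb₂W : b₁ + α • b' ∈ Wp := Wp.add_mem hb₁ (Wp.smul_mem _ hb')
  have ha₂n : hermForm n F q (a₁ + α • a') (a₁ + α • a') = 1 := by
    rw [hermForm_add_left, hermForm_add_right hF, hermForm_add_right hF,
      hermForm_smul_left, hermForm_smul_left, hermForm_smul_right, hermForm_smul_right,
      hia, ha₁n, ha'a₁, ha₁a', ← mul_pow, hαη, hτ]
    ring
  have hb₂n : hermForm n F q (b₁ + α • b') (b₁ + α • b') = -1 := by
    rw [hermForm_add_left, hermForm_add_right hF, hermForm_add_right hF,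
      hermForm_smul_left, hermForm_smul_left, hermForm_smul_right, hermForm_smul_right,
      hib, hb₁n, hb₁b', hb'b₁]
    ring
  have hs : IsCentre hF n M ((a₁ + α • a') + (b₁ + α • b')) :=
    hN _ ha₂W _ hb₂W (by rw [ha₂n]; exact one_ne_zero) (by rw [ha₂n, hb₂n]; ring)
  have hss' : hermForm n F q ((a₁ + α • a') + (b₁ + α • b')) (a₁ + b₁) = τ := by
    rw [hermForm_add_left, hermForm_add_right hF, hermForm_add_right hF,
      hOP.orth _ ha₂W b₁ hb₁, herm_symm_zero hF n (hOP.orth a₁ ha₁W _ hb₂W),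
      hermForm_add_left, hermForm_add_left, hermForm_smul_left, hermForm_smul_left,
      ha₁n, hb₁n, ha'a₁, hb'b₁, hαη]
    ring
  have hc : (-τ⁻¹) ^ q = -(-τ⁻¹) := by
    rw [pow_q_neg hF, inv_pow, hτ, inv_neg]
  have h1 := isCentre_hyp hF hMS hs' hs (-τ⁻¹) hc
  rw [hss', neg_mul, inv_mul_cancel₀ hτ0] at h1
  have e : (a₁ + α • a') + (b₁ + α • b') + (-1 : F) • (a₁ + b₁) = α • (a' + b') := by
    rw [neg_smul, one_smul, smul_add]
    abel
  rw [e] at h1
  have h2 := isCentre_smul hF α⁻¹ h1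
  rw [smul_smul, inv_mul_cancel₀ hα0, one_smul] at h2
  exact h2

include hOP hPM hMS in
theorem I_to_N (a₀ b₀ : Fin n → F) (ha₀ : a₀ ∈ W) (hb₀ : b₀ ∈ Wp)
    (ha₀0 : a₀ ≠ 0) (hb₀0 : b₀ ≠ 0) (hia : hermForm n F q a₀ a₀ = 0)
    (hib : hermForm n F q b₀ b₀ = 0)
    (hI : ∀ a ∈ W, ∀ b ∈ Wp, hermForm n F q a a = 0 → hermForm n F q b b = 0 →
      IsCentre hF n M (a + b)) :
    ∀ a ∈ W, ∀ b ∈ Wp, hermForm n F q a a ≠ 0 → hermForm n F q a a + hermForm n F q b b = 0 →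
      IsCentre hF n M (a + b) := by
  intro a' ha' b' hb' hne hsum
  have hbn : hermForm n F q b' b' ≠ 0 := by
    intro h0
    rw [h0, add_zero] at hsum
    exact hne hsum
  have ha'0 : a' ≠ 0 := ne_zero_of_herm hne
  have hb'0 : b' ≠ 0 := ne_zero_of_herm hbn
  obtain ⟨u, huW, hu, hau⟩ := hOP.exists_iso_nonorth hF a₀ ha₀ ha₀0 hia a' ha' ha'0
  obtain ⟨ηa, hηa⟩ := exists_trace_eq hF (-(hermForm n F q a' a')) (by
    rw [pow_q_neg hF, herm_self_fixed hF])
  obtain ⟨τ, hτ0, hτ⟩ := exists_trace_zero hF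
  obtain ⟨v, hvWp, hv, hbv⟩ := (hOP.symm hF).exists_iso_nonorth hF b₀ hb₀ hb₀0 hib b' hb' hb'0
  obtain ⟨a₁, ha₁def⟩ : ∃ a₁ : Fin n → F, a₁ = ((ηa / hermForm n F q a' u) ^ q) • u := ⟨_, rfl⟩
  obtain ⟨b₁, hb₁def⟩ : ∃ b₁ : Fin n → F, b₁ = (((τ - ηa) / hermForm n F q b' v) ^ q) • v :=
    ⟨_, rfl⟩
  have ha₁W : a₁ ∈ W := by rw [ha₁def]; exact W.smul_mem _ huW
  have hb₁W : b₁ ∈ Wp := by rw [hb₁def]; exact Wp.smul_mem _ hvWp
  have ha₁n : hermForm n F q a₁ a₁ = 0 := by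
    rw [ha₁def, hermForm_smul_left, hermForm_smul_right, hu, mul_zero, mul_zero]
  have hb₁n : hermForm n F q b₁ b₁ = 0 := by
    rw [hb₁def, hermForm_smul_left, hermForm_smul_right, hv, mul_zero, mul_zero]
  have ha'a₁ : hermForm n F q a' a₁ = ηa := by
    rw [ha₁def, hermForm_smul_right, pow_q_pow_q hF, div_mul_cancel₀ _ hau]
  have hb'b₁ : hermForm n F q b' b₁ = τ - ηa := by
    rw [hb₁def, hermForm_smul_right, pow_q_pow_q hF, div_mul_cancel₀ _ hbv]
  have ha₁a' : hermForm n F q a₁ a' = ηa ^ q := by rw [← ha'a₁, hermForm_conj hF]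
  have hb₁b' : hermForm n F q b₁ b' = (τ - ηa) ^ q := by rw [← hb'b₁, hermForm_conj hF]
  have hs' : IsCentre hF n M (a₁ + b₁) := hI a₁ ha₁W b₁ hb₁W ha₁n hb₁n
  have ha₂W : a₁ + a' ∈ W := W.add_mem ha₁W ha'
  have hb₂W : b₁ + b' ∈ Wp := Wp.add_mem hb₁W hb'
  have ha₂n : hermForm n F q (a₁ + a') (a₁ + a') = 0 := by
    rw [hermForm_add_left, hermForm_add_right hF, hermForm_add_right hF, ha₁n, ha'a₁, ha₁a']
    linear_combination hηa
  have hb₂n : hermForm n F q (b₁ + b') (b₁ + b') = 0 := by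
    rw [hermForm_add_left, hermForm_add_right hF, hermForm_add_right hF, hb₁n, hb'b₁, hb₁b',
      pow_q_sub hF, hτ]
    linear_combination hsum - hηa
  have hs : IsCentre hF n M ((a₁ + a') + (b₁ + b')) := hI _ ha₂W _ hb₂W ha₂n hb₂n
  have hss' : hermForm n F q ((a₁ + a') + (b₁ + b')) (a₁ + b₁) = τ := by
    rw [hermForm_add_left, hermForm_add_right hF, hermForm_add_right hF,
      hOP.orth _ ha₂W b₁ hb₁W, herm_symm_zero hF n (hOP.orth a₁ ha₁W _ hb₂W),
      hermForm_add_left, hermForm_add_left, ha₁n, hb₁n, ha'a₁, hb'b₁]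
    ring
  have hc : (-τ⁻¹) ^ q = -(-τ⁻¹) := by
    rw [pow_q_neg hF, inv_pow, hτ, inv_neg]
  have h1 := isCentre_hyp hF hMS hs' hs (-τ⁻¹) hc
  rw [hss', neg_mul, inv_mul_cancel₀ hτ0] at h1
  have e : (a₁ + a') + (b₁ + b') + (-1 : F) • (a₁ + b₁) = a' + b' := by
    rw [neg_smul, one_smul]
    abel
  rw [e] at h1
  exact h1


include hOP hPM hMS in
/-- a centre with non-zero components in both summands -/
theorem exists_mixed (h3 : 3 ≤ Module.finrank F Wp)
    (hlt : Module.finrank F W < Module.finrank F Wp) (hMP : ¬ M ≤ stabSU q W) :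
    ∃ a ∈ W, ∃ b ∈ Wp, a ≠ 0 ∧ b ≠ 0 ∧ IsCentre hF n M (a + b) := by
  by_contra hcon
  push Not at hcon
  apply hMP
  have hpure : ∀ s, IsCentre hF n M s → s ∈ W ∨ s ∈ Wp := by
    intro s hs
    obtain ⟨a, ha, b, hb, rfl⟩ := hOP.decomp s
    by_cases ha0 : a = 0
    · right; rw [ha0, zero_add]; exact hb
    by_cases hb0 : b = 0
    · left; rw [hb0, add_zero]; exact ha
    exact absurd hs (hcon a ha b hb ha0 hb0)
  obtain ⟨e, heB, he0, he⟩ := (hOP.symm hF).exists_iso hF h3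
  obtain ⟨f, hfB, hf, hef⟩ := (hOP.symm hF).exists_partner hF e heB he0 he
  intro g hgM
  rw [Subgroup.mem_inf]
  refine ⟨?_, hMS hgM⟩
  have hgU : g ∈ Cfsg.GU n F q := (hMS hgM).1
  have hgh : ∀ u v, hermForm n F q ((g : Matrix (Fin n) (Fin n) F) *ᵥ u)
      ((g : Matrix (Fin n) (Fin n) F) *ᵥ v) = hermForm n F q u v := fun u v => hgU u v
  have hinj : ∀ a b : Fin n → F, (g : Matrix (Fin n) (Fin n) F) *ᵥ a =
      (g : Matrix (Fin n) (Fin n) F) *ᵥ b → a = b := by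
    intro a b hab
    have := congrArg (fun y => ((g⁻¹ : Matrix.GeneralLinearGroup (Fin n) F) :
      Matrix (Fin n) (Fin n) F) *ᵥ y) hab
    simp only [mulVec_mulVec] at this
    rw [← Units.val_mul, inv_mul_cancel, Units.val_one, one_mulVec, one_mulVec] at this
    exact this
  have hgC : ∀ b ∈ Wp, hermForm n F q b b = 0 →
      (g : Matrix (Fin n) (Fin n) F) *ᵥ b ∈ W ∨ (g : Matrix (Fin n) (Fin n) F) *ᵥ b ∈ Wp :=
    fun b hb hib => hpure _ (isCentre_gact hF hMS g hgM (isCentre_right hF hOP hPM b hb hib))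
  have hdich : (∀ b ∈ Wp, hermForm n F q b b = 0 → (g : Matrix (Fin n) (Fin n) F) *ᵥ b ∈ Wp) ∨
      (∀ b ∈ Wp, hermForm n F q b b = 0 → (g : Matrix (Fin n) (Fin n) F) *ᵥ b ∈ W) := by
    by_contra hno
    push Not at hno
    obtain ⟨⟨b₁, hb₁, hib₁, hgb₁⟩, ⟨b₀, hb₀, hib₀, hgb₀⟩⟩ := hno
    have hgb₁W := (hgC b₁ hb₁ hib₁).resolve_right hgb₁
    have hgb₀P := (hgC b₀ hb₀ hib₀).resolve_left hgb₀
    have h10 : hermForm n F q b₁ b₀ = 0 := by
      rw [← hgh]
      exact hOP.orth _ hgb₁W _ hgb₀P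
    have h01 : hermForm n F q b₀ b₁ = 0 := herm_symm_zero hF n h10
    have hsum : hermForm n F q (b₁ + b₀) (b₁ + b₀) = 0 := by
      rw [hermForm_add_left, hermForm_add_right hF, hermForm_add_right hF, hib₁, hib₀, h10, h01]
      ring
    rcases hgC (b₁ + b₀) (Wp.add_mem hb₁ hb₀) hsum with h | h
    · rw [mulVec_add] at h
      exact hgb₀ ((Submodule.add_mem_iff_right W hgb₁W).mp h)
    · rw [mulVec_add] at h
      exact hgb₁ ((Submodule.add_mem_iff_left Wp hgb₀P).mp h)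
  rcases hdich with hall | hall
  · -- `g` maps the second summand into itself
    have hgP : ∀ y ∈ Wp, (g : Matrix (Fin n) (Fin n) F) *ᵥ y ∈ Wp := by
      intro y hy
      obtain ⟨u₁, h₁, u₂, h₂, u₃, h₃, i₁, i₂, i₃, rfl⟩ :=
        (hOP.symm hF).span3 hF e f heB hfB he hf hef y hy
      rw [mulVec_add, mulVec_add]
      exact Wp.add_mem (Wp.add_mem (hall u₁ h₁ i₁) (hall u₂ h₂ i₂)) (hall u₃ h₃ i₃)
    have hstab := mem_stab_of_map_le Wp g hgP
    apply mem_stab_of_map_le W g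
    intro w hw
    apply hOP.mem_left_of_perp hF
    intro y' hy'
    have hx : ((g⁻¹ : Matrix.GeneralLinearGroup (Fin n) F) : Matrix (Fin n) (Fin n) F) *ᵥ y' ∈
        Wp := by
      rw [(mem_stab_iff Wp g).mp hstab, mulVec_mulVec, ← Units.val_mul, mul_inv_cancel,
        Units.val_one, one_mulVec]
      exact hy'
    have h1 := hgh w (((g⁻¹ : Matrix.GeneralLinearGroup (Fin n) F) :
      Matrix (Fin n) (Fin n) F) *ᵥ y')
    rw [mulVec_mulVec, ← Units.val_mul, mul_inv_cancel, Units.val_one, one_mulVec] at h1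
    rw [h1]
    exact hOP.orth w hw _ hx
  · -- dimension contradiction
    exfalso
    have hgP : ∀ y ∈ Wp, Matrix.mulVecLin (g : Matrix (Fin n) (Fin n) F) y ∈ W := by
      intro y hy
      obtain ⟨u₁, h₁, u₂, h₂, u₃, h₃, i₁, i₂, i₃, rfl⟩ :=
        (hOP.symm hF).span3 hF e f heB hfB he hf hef y hy
      rw [Matrix.mulVecLin_apply, mulVec_add, mulVec_add]
      exact W.add_mem (W.add_mem (hall u₁ h₁ i₁) (hall u₂ h₂ i₂)) (hall u₃ h₃ i₃)
    let φ : Wp →ₗ[F] W := (Matrix.mulVecLin (g : Matrix (Fin n) (Fin n) F)).restrict hgP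
    have hφ : Function.Injective φ := by
      intro a b hab
      have := congrArg Subtype.val hab
      exact Subtype.ext (hinj _ _ this)
    have := LinearMap.finrank_le_finrank_of_injective hφ
    omega

end

include hF in
theorem isMaximalIn (hn : 13 ≤ n) (W : Submodule F (Fin n → F)) (hW0 : W ≠ ⊥)
    (hW : Cfsg.Geo.IsNondegenerateOn (hermForm n F q) W) (hdim : 2 * Module.finrank F W < n) :
    Cfsg.Geo.IsMaximalIn (Cfsg.GU n F q ⊓ Cfsg.Geo.specialLinear (Fin n) F)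
      (Cfsg.Geo.subspaceStabilizer W ⊓
        (Cfsg.GU n F q ⊓ Cfsg.Geo.specialLinear (Fin n) F)) := by
  have hOP := orthoPair_of_nondeg hF W hW
  have hfin := hOP.finrank_le
  have h3 : 3 ≤ Module.finrank F (perpS hF W) := by omega
  have hlt : Module.finrank F W < Module.finrank F (perpS hF W) := by omega
  obtain ⟨w₀, hw₀, hw₀0⟩ := (Submodule.ne_bot_iff W).1 hW0
  refine ⟨lt_of_le_of_ne inf_le_right ?_, ?_⟩
  · -- a transvection moving `W`
    intro h
    obtain ⟨x, hxW, hx⟩ := hOP.nondeg hF w₀ hw₀ hw₀0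
    obtain ⟨b, hbP, hb0, -, hbn⟩ := (hOP.symm hF).exists_norm_vec hF h3 0 (perpS hF W).zero_mem
      (-(hermForm n F q x x)) (by rw [pow_q_neg hF, herm_self_fixed hF])
    have hviso : hermForm n F q (x + b) (x + b) = 0 := by
      rw [hermForm_add_left, hermForm_add_right hF, hermForm_add_right hF, hOP.orth x hxW b hbP,
        herm_symm_zero hF n (hOP.orth x hxW b hbP), hbn]
      ring
    obtain ⟨c, hc0, hc⟩ := exists_trace_zero hF
    have hc' : QCond n q (x + b) c := (qcond_iso n hviso c).mpr hc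
    have hmem : ((qtv hF n (x + b) c hc' : ↥(Cfsg.GU n F q)) :
        Matrix.GeneralLinearGroup (Fin n) F) ∈ Cfsg.Geo.subspaceStabilizer W ⊓
          (Cfsg.GU n F q ⊓ Cfsg.Geo.specialLinear (Fin n) F) := by
      rw [h, mem_SU_iff]
      refine ⟨(qtv hF n (x + b) c hc').2, ?_⟩
      show (unitaryTransvection n q (x + b) c).det = 1
      rw [det_tv, hviso, mul_zero, add_zero]
    have h1 := ((mem_stab_iff W _).mp hmem.1 w₀).mp hw₀
    have e : (((qtv hF n (x + b) c hc' : ↥(Cfsg.GU n F q)) :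
        Matrix.GeneralLinearGroup (Fin n) F) : Matrix (Fin n) (Fin n) F) *ᵥ w₀ =
        w₀ + (c * hermForm n F q w₀ (x + b)) • (x + b) := gact_qtv hF n (x + b) c hc' w₀
    rw [e, hermForm_add_right hF, hOP.orth w₀ hw₀ b hbP, add_zero] at h1
    have h2 : (c * hermForm n F q w₀ x) • (x + b) ∈ W := (Submodule.add_mem_iff_right W hw₀).mp h1
    have h3' : x + b ∈ W := by
      have := W.smul_mem (c * hermForm n F q w₀ x)⁻¹ h2
      rwa [smul_smul, inv_mul_cancel₀ (mul_ne_zero hc0 hx), one_smul] at this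
    have hbW : b ∈ W := (Submodule.add_mem_iff_right W hxW).mp h3'
    exact hb0 (hOP.disjoint hF b hbW hbP)
  · intro M hPM hMS
    by_cases hMP : M ≤ Cfsg.Geo.subspaceStabilizer W ⊓
        (Cfsg.GU n F q ⊓ Cfsg.Geo.specialLinear (Fin n) F)
    · left
      exact le_antisymm hMP hPM
    right
    apply le_antisymm hMS
    apply SU_le hF (by omega) (by omega)
    obtain ⟨a₀, ha₀, b₀, hb₀, ha₀0, hb₀0, hs⟩ := exists_mixed hF hOP hPM hMS h3 hlt hMP
    have hsum0 : hermForm n F q a₀ a₀ + hermForm n F q b₀ b₀ = 0 := by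
      have := hs.1
      rw [hermForm_add_left, hermForm_add_right hF, hermForm_add_right hF, hOP.orth a₀ ha₀ b₀ hb₀,
        herm_symm_zero hF n (hOP.orth a₀ ha₀ b₀ hb₀)] at this
      linear_combination this
    obtain ⟨hN, hI⟩ : (∀ a ∈ W, ∀ b ∈ perpS hF W, hermForm n F q a a ≠ 0 →
        hermForm n F q a a + hermForm n F q b b = 0 → IsCentre hF n M (a + b)) ∧
        (∀ a ∈ W, ∀ b ∈ perpS hF W, hermForm n F q a a = 0 → hermForm n F q b b = 0 →
          IsCentre hF n M (a + b)) := by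
      by_cases hl : hermForm n F q a₀ a₀ = 0
      · have hib : hermForm n F q b₀ b₀ = 0 := by rw [hl, zero_add] at hsum0; exact hsum0
        have hI := all_I hF hOP hPM hMS h3 a₀ b₀ ha₀ hb₀ ha₀0 hb₀0 hl hib hs
        exact ⟨I_to_N hF hOP hPM hMS a₀ b₀ ha₀ hb₀ ha₀0 hb₀0 hl hib hI, hI⟩
      · have hN := all_N hF hOP hPM hMS h3 a₀ b₀ ha₀ hb₀ hl hs
        exact ⟨hN, N_to_I hF hOP hPM hMS h3 hN⟩
    intro x hx
    obtain ⟨a, ha, b, hb, rfl⟩ := hOP.decomp x
    have hsum : hermForm n F q a a + hermForm n F q b b = 0 := by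
      rw [hermForm_add_left, hermForm_add_right hF, hermForm_add_right hF, hOP.orth a ha b hb,
        herm_symm_zero hF n (hOP.orth a ha b hb)] at hx
      linear_combination hx
    by_cases hl : hermForm n F q a a = 0
    · exact hI a ha b hb hl (by rw [hl, zero_add] at hsum; exact hsum)
    · exact hN a ha b hb hl hsum

end Cfsg.Agent.Lib.Helper5.SUNondegMax
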