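import Mathlib
import Cfsg.Prelude.Def_GeometricClasses
import Cfsg.Agent.Lib.Helper5.SpNondegMax
import Cfsg.Agent.Lib.Helper5.AltForm

set_option autoImplicit false

/-! The stabiliser of an orthogonal decomposition into non-degenerate subspaces is maximal
in the symplectic group. -/

namespace Cfsg.Agent.Lib.Helper5.SpDecompMax

open Matrix Cfsg Cfsg.Agent.Lib.Helper5.SympTv Cfsg.Agent.Lib.Helper5.SympGen
  Cfsg.Agent.Lib.Helper5.SympBridge Cfsg.Agent.Lib.Helper5.SpCentres
  Cfsg.Agent.Lib.Helper5.SpSingularMax Cfsg.Agent.Lib.Helper5.SpNondegMax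

variable {F : Type*} [Field F] {m : ℕ} {t : ℕ} {k : ℕ}
  {D : Fin t → Submodule F (Fin m ⊕ Fin m → F)}

/-- different blocks are orthogonal, in the other order -/
theorem orth' (hD : Cfsg.Geo.IsNondegenerateMDecomposition (sympForm m F) k D) {i j : Fin t}
    (hij : i ≠ j) {u v : Fin m ⊕ Fin m → F} (hu : u ∈ D i) (hv : v ∈ D j) :
    sympForm m F u v = 0 := hD.orthogonal i j hij u hu v hv

/-- non-degeneracy inside a block -/
theorem nd (hD : Cfsg.Geo.IsNondegenerateMDecomposition (sympForm m F) k D) (i : Fin t) :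
    ∀ a ∈ D i, a ≠ 0 → ∃ x ∈ D i, sympForm m F a x ≠ 0 :=
  fun a ha ha0 => (hD.nondegenerate i a ha ha0).2

/-- different blocks meet trivially -/
theorem inter_eq_zero (hD : Cfsg.Geo.IsNondegenerateMDecomposition (sympForm m F) k D)
    {i j : Fin t} (hij : i ≠ j) {x : Fin m ⊕ Fin m → F} (hi : x ∈ D i) (hj : x ∈ D j) :
    x = 0 := by
  by_contra hx
  obtain ⟨y, hy, hxy⟩ := nd hD i x hi hx
  exact hxy (orth' hD hij.symm hj hy)

/-- a vector orthogonal to all blocks vanishes -/
theorem eq_zero_of_orth (hD : Cfsg.Geo.IsNondegenerateMDecomposition (sympForm m F) k D)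
    (x : Fin m ⊕ Fin m → F) (h : ∀ i, ∀ w ∈ D i, sympForm m F x w = 0) : x = 0 := by
  apply eq_zero_of_sympForm_right m x
  have hle : (⊤ : Submodule F (Fin m ⊕ Fin m → F)) ≤ LinearMap.ker (sympBilin F m x) := by
    rw [← hD.decomp.iSup_eq_top]
    apply iSup_le
    intro i w hw
    rw [LinearMap.mem_ker, sympBilin_apply]
    exact h i w hw
  intro v
  have := hle (Submodule.mem_top : v ∈ ⊤)
  rwa [LinearMap.mem_ker, sympBilin_apply] at this

/-- a non-zero vector is non-orthogonal to some block -/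
theorem exists_block (hD : Cfsg.Geo.IsNondegenerateMDecomposition (sympForm m F) k D)
    (x : Fin m ⊕ Fin m → F) (hx : x ≠ 0) : ∃ i, ∃ w ∈ D i, sympForm m F x w ≠ 0 := by
  by_contra hcon
  push Not at hcon
  exact hx (eq_zero_of_orth hD x hcon)

/-- vectors of a partial sum are orthogonal to the other blocks -/
theorem sup_orth (hD : Cfsg.Geo.IsNondegenerateMDecomposition (sympForm m F) k D)
    (S : Finset (Fin t)) {l : Fin t} (hl : l ∉ S) {x w : Fin m ⊕ Fin m → F}
    (hx : x ∈ S.sup D) (hw : w ∈ D l) : sympForm m F x w = 0 := by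
  have hle : S.sup D ≤ perp m (D l) := by
    apply Finset.sup_le
    intro j hj y hy
    rw [mem_perp]
    intro z hz
    have : l ≠ j := fun h => hl (h ▸ hj)
    exact orth' hD this hz hy
  have := (mem_perp (D l) x).mp (hle hx) w hw
  rw [sympForm_swap, this, neg_zero]

/-- splitting off one block -/
theorem exists_split (S : Finset (Fin t)) {a : Fin t} (ha : a ∈ S) {x : Fin m ⊕ Fin m → F}
    (hx : x ∈ S.sup D) : ∃ y ∈ D a, ∃ e ∈ (S.erase a).sup D, y + e = x := by
  rw [← Finset.insert_erase ha, Finset.sup_insert] at hx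
  exact Submodule.mem_sup.mp hx

theorem mem_sup_univ (hD : Cfsg.Geo.IsNondegenerateMDecomposition (sympForm m F) k D)
    (x : Fin m ⊕ Fin m → F) : x ∈ (Finset.univ : Finset (Fin t)).sup D := by
  rw [Finset.sup_univ_eq_iSup, hD.decomp.iSup_eq_top]
  exact Submodule.mem_top

theorem gl_injective (g : Matrix.GeneralLinearGroup (Fin m ⊕ Fin m) F) :
    Function.Injective (Matrix.toLin' (g : Matrix (Fin m ⊕ Fin m) (Fin m ⊕ Fin m) F)) := by
  intro a b hab
  have := congrArg (fun y => ((g⁻¹ : Matrix.GeneralLinearGroup (Fin m ⊕ Fin m) F) :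
    Matrix (Fin m ⊕ Fin m) (Fin m ⊕ Fin m) F) *ᵥ y) hab
  simp only [Matrix.toLin'_apply, mulVec_mulVec] at this
  rw [← Units.val_mul, inv_mul_cancel, Units.val_one, one_mulVec, one_mulVec] at this
  exact this

/-- an invertible matrix mapping blocks into blocks according to a permutation is in the
stabiliser of the decomposition -/
theorem mem_decompStab_of_le (hD : Cfsg.Geo.IsNondegenerateMDecomposition (sympForm m F) k D)
    (g : Matrix.GeneralLinearGroup (Fin m ⊕ Fin m) F) (σ : Equiv.Perm (Fin t))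
    (h : ∀ i, ∀ x ∈ D i, (g : Matrix (Fin m ⊕ Fin m) (Fin m ⊕ Fin m) F) *ᵥ x ∈ D (σ i)) :
    g ∈ Cfsg.Geo.decompositionStabilizer D := by
  refine ⟨σ, fun i => ?_⟩
  apply Submodule.eq_of_le_of_finrank_eq
  · rintro _ ⟨x, hx, rfl⟩
    rw [Matrix.toLin'_apply]
    exact h i x hx
  · rw [← (Submodule.equivMapOfInjective _ (gl_injective g) (D i)).finrank_eq,
      hD.decomp.finrank_eq, hD.decomp.finrank_eq]

/-- vectors of the blocks are centres -/
theorem isCentre_block (hD : Cfsg.Geo.IsNondegenerateMDecomposition (sympForm m F) k D)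
    (M : Subgroup (Matrix.GeneralLinearGroup (Fin m ⊕ Fin m) F))
    (hKM : Cfsg.Geo.decompositionStabilizer D ⊓ spGL m F ≤ M) (j : Fin t)
    (v : Fin m ⊕ Fin m → F) (hv : v ∈ D j) : IsCentre m M v := by
  intro c
  apply hKM
  rw [Subgroup.mem_inf]
  refine ⟨mem_decompStab_of_le hD _ 1 ?_, tvGL_mem m v c⟩
  intro i x hx
  rw [tvGL_mulVec, Equiv.Perm.one_apply]
  by_cases hij : i = j
  · subst hij
    exact (D i).add_mem hx ((D i).smul_mem _ hv)
  · rw [orth' hD hij hx hv, mul_zero, zero_smul, add_zero]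
    exact hx

/-- a subspace inside the union of the blocks lies in one block -/
theorem sub_block_of_union (hD : Cfsg.Geo.IsNondegenerateMDecomposition (sympForm m F) k D)
    (U : Submodule F (Fin m ⊕ Fin m → F)) (h : ∀ x ∈ U, ∃ j, x ∈ D j) : ∃ j, U ≤ D j := by
  by_cases hU : U = ⊥
  · refine ⟨⟨0, by have := hD.decomp.two_le; omega⟩, ?_⟩
    rw [hU]
    exact bot_le
  obtain ⟨x, hxU, hx0⟩ := (Submodule.ne_bot_iff U).1 hU
  obtain ⟨a, hxa⟩ := h x hxU
  refine ⟨a, fun y hyU => ?_⟩
  obtain ⟨b, hyb⟩ := h y hyU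
  by_cases hba : b = a
  · rw [← hba]; exact hyb
  obtain ⟨c, hc⟩ := h (x + y) (U.add_mem hxU hyU)
  by_cases hca : c = a
  · rw [hca] at hc
    exact (Submodule.add_mem_iff_right (D a) hxa).mp hc
  · exfalso
    obtain ⟨z, hz, hxz⟩ := nd hD a x hxa hx0
    have h1 : sympForm m F (x + y) z = 0 := orth' hD hca hc hz
    rw [sympForm_add_left, orth' hD hba hyb hz, add_zero] at h1
    exact hxz h1

theorem block_ne_bot (hD : Cfsg.Geo.IsNondegenerateMDecomposition (sympForm m F) k D)
    (i : Fin t) : D i ≠ ⊥ := by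
  intro h
  have h1 := hD.decomp.finrank_eq i
  rw [h, finrank_bot] at h1
  have := hD.decomp.pos
  omega

/-- an element of `M` outside the stabiliser produces a centre outside all blocks -/
theorem exists_mixed_centre (hD : Cfsg.Geo.IsNondegenerateMDecomposition (sympForm m F) k D)
    (M : Subgroup (Matrix.GeneralLinearGroup (Fin m ⊕ Fin m) F)) (hMS : M ≤ spGL m F)
    (hKM : Cfsg.Geo.decompositionStabilizer D ⊓ spGL m F ≤ M)
    (g : Matrix.GeneralLinearGroup (Fin m ⊕ Fin m) F) (hgM : g ∈ M)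
    (hg : g ∉ Cfsg.Geo.decompositionStabilizer D) :
    ∃ p, IsCentre m M p ∧ ∀ j, p ∉ D j := by
  by_contra hcon
  push Not at hcon
  apply hg
  have h1 : ∀ i, ∃ j, (D i).map (Matrix.toLin' (g : Matrix (Fin m ⊕ Fin m) (Fin m ⊕ Fin m) F))
      ≤ D j := by
    intro i
    apply sub_block_of_union hD
    rintro _ ⟨x, hx, rfl⟩
    rw [Matrix.toLin'_apply]
    exact hcon _ (isCentre_mulVec hMS g hgM (isCentre_block hD M hKM i x hx))
  choose τ hτ using h1
  have h2 : ∀ i, (D i).map (Matrix.toLin' (g : Matrix (Fin m ⊕ Fin m) (Fin m ⊕ Fin m) F))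
      = D (τ i) := by
    intro i
    apply Submodule.eq_of_le_of_finrank_eq (hτ i)
    rw [← (Submodule.equivMapOfInjective _ (gl_injective g) (D i)).finrank_eq,
      hD.decomp.finrank_eq, hD.decomp.finrank_eq]
  have hDinj : Function.Injective D := hD.decomp.indep.injective (block_ne_bot hD)
  have hτinj : Function.Injective τ := by
    intro i i' hii
    apply hDinj
    apply Submodule.map_injective_of_injective (gl_injective g)
    rw [h2, h2, hii]
  have hτbij : Function.Bijective τ := Finite.injective_iff_bijective.mp hτinj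
  refine mem_decompStab_of_le hD g (Equiv.ofBijective τ hτbij) ?_
  intro i x hx
  rw [Equiv.ofBijective_apply, ← h2 i]
  exact ⟨x, hx, (Matrix.toLin'_apply _ _)⟩

/-- the block dimension is at least two -/
theorem two_le_k (hD : Cfsg.Geo.IsNondegenerateMDecomposition (sympForm m F) k D) : 2 ≤ k := by
  by_contra hk
  have hpos := hD.decomp.pos
  have hk1 : k = 1 := by omega
  have i : Fin t := ⟨0, by have := hD.decomp.two_le; omega⟩
  obtain ⟨x, hx, hx0⟩ := (Submodule.ne_bot_iff (D i)).1 (block_ne_bot hD i)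
  obtain ⟨w, hw, hxw⟩ := nd hD i x hx hx0
  have h1 : Module.finrank F (D i) = 1 := by rw [hD.decomp.finrank_eq, hk1]
  have hx0' : (⟨x, hx⟩ : D i) ≠ 0 := fun h => hx0 (congrArg Subtype.val h)
  obtain ⟨c, hc⟩ := (finrank_eq_one_iff_of_nonzero' (⟨x, hx⟩ : D i) hx0').mp h1 ⟨w, hw⟩
  have hc' : c • x = w := congrArg Subtype.val hc
  rw [← hc', sympForm_smul_right, sympForm_self, mul_zero] at hxw
  exact hxw rfl

/-- an auxiliary vector: orthogonal to `x`, different from `0` and `-x` -/
theorem exists_aux [Fintype F]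
    (hD : Cfsg.Geo.IsNondegenerateMDecomposition (sympForm m F) k D)
    (hex : ¬ (k = 2 ∧ Fintype.card F = 2)) (b : Fin t) (x : Fin m ⊕ Fin m → F)
    (hx : x ∈ D b) (hx0 : x ≠ 0) :
    ∃ y ∈ D b, y ≠ 0 ∧ x + y ≠ 0 ∧ sympForm m F x y = 0 := by
  by_cases hk : k = 2
  · have hq : Fintype.card F ≠ 2 := fun h => hex ⟨hk, h⟩
    have hq1 : 1 < Fintype.card F := Fintype.one_lt_card
    have hq2 : 2 < Fintype.card F := by omega
    obtain ⟨c, hc0, hc1⟩ : ∃ c : F, c ≠ 0 ∧ c ≠ -1 := by
      obtain ⟨a₁, a₂, a₃, h12, h13, h23⟩ := Fintype.two_lt_card_iff.mp hq2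
      by_cases h1 : a₁ = 0 ∨ a₁ = -1
      · by_cases h2 : a₂ = 0 ∨ a₂ = -1
        · refine ⟨a₃, ?_, ?_⟩
          · rintro rfl
            rcases h1 with h1 | h1 <;> rcases h2 with h2 | h2
            · exact h13 h1
            · exact h13 h1
            · exact h23 h2
            · exact h12 (h1.trans h2.symm)
          · rintro rfl
            rcases h1 with h1 | h1 <;> rcases h2 with h2 | h2
            · exact h12 (h1.trans h2.symm)
            · exact h23 h2
            · exact h13 h1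
            · exact h13 h1
        · push Not at h2
          exact ⟨a₂, h2.1, h2.2⟩
      · push Not at h1
        exact ⟨a₁, h1.1, h1.2⟩
    refine ⟨c • x, (D b).smul_mem c hx, smul_ne_zero hc0 hx0, ?_, ?_⟩
    · have : x + c • x = (1 + c) • x := by rw [add_smul, one_smul]
      rw [this]
      apply smul_ne_zero _ hx0
      intro h
      apply hc1
      rw [eq_neg_iff_add_eq_zero, add_comm]
      exact h
    · rw [sympForm_smul_right, sympForm_self, mul_zero]
  · classical
    have hk2 := two_le_k hD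
    have hk3 : 3 ≤ k := by omega
    obtain ⟨w, hw, hxw⟩ := nd hD b x hx hx0
    have hPle : Submodule.span F (({x, w} : Finset (Fin m ⊕ Fin m → F)) :
        Set (Fin m ⊕ Fin m → F)) ≤ D b := by
      rw [Submodule.span_le]
      intro z hz
      simp only [Finset.coe_insert, Finset.coe_singleton, Set.mem_insert_iff,
        Set.mem_singleton_iff] at hz
      rcases hz with rfl | rfl
      · exact hx
      · exact hw
    have hPfin : Module.finrank F (Submodule.span F
        (({x, w} : Finset (Fin m ⊕ Fin m → F)) : Set (Fin m ⊕ Fin m → F))) ≤ 2 :=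
      (finrank_span_finset_le_card _).trans Finset.card_le_two
    have hPlt : Submodule.span F (({x, w} : Finset (Fin m ⊕ Fin m → F)) :
        Set (Fin m ⊕ Fin m → F)) < D b := by
      apply lt_of_le_of_ne hPle
      intro h
      rw [h, hD.decomp.finrank_eq] at hPfin
      omega
    obtain ⟨z, hz, hzP⟩ := SetLike.exists_of_lt hPlt
    have hxP : x ∈ Submodule.span F (({x, w} : Finset (Fin m ⊕ Fin m → F)) :
        Set (Fin m ⊕ Fin m → F)) := Submodule.subset_span (by simp)
    have hwP : w ∈ Submodule.span F (({x, w} : Finset (Fin m ⊕ Fin m → F)) :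
        Set (Fin m ⊕ Fin m → F)) := Submodule.subset_span (by simp)
    have hyP : z - (sympForm m F x z / sympForm m F x w) • w ∉ Submodule.span F
        (({x, w} : Finset (Fin m ⊕ Fin m → F)) : Set (Fin m ⊕ Fin m → F)) := by
      intro h
      apply hzP
      have := Submodule.add_mem _ h (Submodule.smul_mem _ (sympForm m F x z / sympForm m F x w) hwP)
      rwa [sub_add_cancel] at this
    refine ⟨z - (sympForm m F x z / sympForm m F x w) • w,
      (D b).sub_mem hz ((D b).smul_mem _ hw), ?_, ?_, ?_⟩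
    · intro h
      rw [h] at hyP
      exact hyP (Submodule.zero_mem _)
    · intro h
      apply hyP
      have h2 : z - (sympForm m F x z / sympForm m F x w) • w = -x := by
        rw [eq_neg_iff_add_eq_zero, add_comm]; exact h
      rw [h2]
      exact Submodule.neg_mem _ hxP
    · rw [sympForm_sub_right, sympForm_smul_right, div_mul_cancel₀ _ hxw, sub_self]

theorem sympForm_neg_right (u v : Fin m ⊕ Fin m → F) :
    sympForm m F u (-v) = -sympForm m F u v := by
  have := sympForm_smul_right (m := m) (-1 : F) u v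
  rwa [neg_one_smul, neg_one_mul] at this

theorem sympForm_zero_of_swap {u v : Fin m ⊕ Fin m → F} (h : sympForm m F u v = 0) :
    sympForm m F v u = 0 := by rw [sympForm_swap, h, neg_zero]

/-- shrinking the support of a mixed centre to two blocks -/
theorem exists_two_centre [Fintype F]
    (hD : Cfsg.Geo.IsNondegenerateMDecomposition (sympForm m F) k D)
    (hex : ¬ (k = 2 ∧ Fintype.card F = 2))
    (M : Subgroup (Matrix.GeneralLinearGroup (Fin m ⊕ Fin m) F)) (hMS : M ≤ spGL m F)
    (hKM : Cfsg.Geo.decompositionStabilizer D ⊓ spGL m F ≤ M)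
    (p : Fin m ⊕ Fin m → F) (hp : IsCentre m M p) (hpD : ∀ j, p ∉ D j) :
    ∃ a b, a ≠ b ∧ ∃ u ∈ D a, ∃ v ∈ D b, u ≠ 0 ∧ v ≠ 0 ∧ IsCentre m M (u + v) := by
  have hp0 : p ≠ 0 := by
    rintro rfl
    exact hpD ⟨0, by have := hD.decomp.two_le; omega⟩ (Submodule.zero_mem _)
  obtain ⟨a, w, hw, hpw⟩ := exists_block hD p hp0
  obtain ⟨xa, hxa, e, he, hsum⟩ := exists_split Finset.univ (Finset.mem_univ a) (mem_sup_univ hD p)
  have hew : sympForm m F e w = 0 := sup_orth hD _ (Finset.notMem_erase a _) he hw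
  have hxaw : sympForm m F xa w ≠ 0 := by
    rw [← hsum, sympForm_add_left, hew, add_zero] at hpw
    exact hpw
  have he0 : e ≠ 0 := by
    rintro rfl
    rw [add_zero] at hsum
    exact hpD a (hsum ▸ hxa)
  obtain ⟨b, w', hw', hew'⟩ := exists_block hD e he0
  have hba : b ≠ a := by
    rintro rfl
    exact hew' (sup_orth hD _ (Finset.notMem_erase b _) he hw')
  have hbmem : b ∈ (Finset.univ : Finset (Fin t)).erase a :=
    Finset.mem_erase.mpr ⟨hba, Finset.mem_univ b⟩
  obtain ⟨xb, hxb, e', he', hsum'⟩ := exists_split _ hbmem he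
  have he'b : ∀ z ∈ D b, sympForm m F e' z = 0 := fun z hz =>
    sup_orth hD _ (Finset.notMem_erase b _) he' hz
  have he'a : ∀ z ∈ D a, sympForm m F e' z = 0 := fun z hz =>
    sup_orth hD _ (fun h => Finset.notMem_erase a _ (Finset.mem_of_mem_erase h)) he' hz
  have hxb0 : xb ≠ 0 := by
    rintro rfl
    rw [zero_add] at hsum'
    rw [← hsum'] at hew'
    exact hew' (he'b w' hw')
  obtain ⟨y, hy, hy0, hxby0, hxby⟩ := exists_aux hD hex b xb hxb hxb0
  -- the centre `-p`
  have hnp : IsCentre m M ((-1 : F) • p) := isCentre_smul _ hp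
  have e1 : (-1 : F) • p = -xa + (-xb - e') := by
    rw [← hsum, ← hsum', neg_one_smul]; abel
  rw [e1] at hnp
  have hperpa : ∀ a' ∈ D a, ∀ b' ∈ perp m (D a), sympForm m F b' a' = 0 := by
    intro a' ha' b' hb'
    exact sympForm_zero_of_swap ((mem_perp (D a) b').mp hb' a' ha')
  have hperpb : ∀ a' ∈ D b, ∀ b' ∈ perp m (D b), sympForm m F b' a' = 0 := by
    intro a' ha' b' hb'
    exact sympForm_zero_of_swap ((mem_perp (D b) b').mp hb' a' ha')
  have hxa0 : xa ≠ 0 := by
    rintro rfl
    unfold sympForm at hxaw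
    rw [zero_dotProduct] at hxaw
    exact hxaw rfl
  have hw0 : w ≠ 0 := by
    rintro rfl
    apply hxaw
    have := sympForm_smul_right (m := m) (0 : F) xa 0
    rwa [zero_smul, zero_mul] at this
  have hmem1 : -xb - e' ∈ perp m (D a) := by
    rw [mem_perp]
    intro z hz
    rw [sympForm_sub_right, sympForm_neg_right, orth' hD hba.symm hz hxb,
      sympForm_zero_of_swap (he'a z hz), neg_zero, sub_zero]
  have h1 : IsCentre m M (w + (-xb - e')) :=
    spread hMS (D a) (perp m (D a)) (isCentre_block hD M hKM a) hperpa (nd hD a) (-xa) w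
      ((D a).neg_mem hxa) hw (neg_ne_zero.mpr hxa0) hw0 _ hmem1 hnp
  have e2 : w + (-xb - e') = -xb + (w - e') := by abel
  rw [e2] at h1
  have hmem2 : w - e' ∈ perp m (D b) := by
    rw [mem_perp]
    intro z hz
    rw [sympForm_sub_right, orth' hD hba hz hw, sympForm_zero_of_swap (he'b z hz), sub_zero]
  have h2 : IsCentre m M (y + (w - e')) :=
    spread hMS (D b) (perp m (D b)) (isCentre_block hD M hKM b) hperpb (nd hD b) (-xb) y
      ((D b).neg_mem hxb) hy (neg_ne_zero.mpr hxb0) hy0 _ hmem2 h1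
  have hform : sympForm m F p (y + (w - e')) ≠ 0 := by
    rw [← hsum, ← hsum']
    simp only [sympForm_add_left, sympForm_add_right, sympForm_sub_right]
    rw [orth' hD hba.symm hxa hy, sympForm_zero_of_swap (he'a xa hxa), hxby,
      orth' hD hba hxb hw, sympForm_zero_of_swap (he'b xb hxb), he'b y hy, he'a w hw,
      sympForm_self]
    simpa using hxaw
  have h3 := isCentre_add_smul hMS h2 hp hform 1
  have e3 : p + (1 : F) • (y + (w - e')) = (xa + w) + (xb + y) := by
    rw [← hsum, ← hsum', one_smul]; abel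
  rw [e3] at h3
  refine ⟨a, b, hba.symm, xa + w, (D a).add_mem hxa hw, xb + y, (D b).add_mem hxb hy, ?_,
    hxby0, h3⟩
  intro h
  apply hxaw
  have h4 : sympForm m F xa (xa + w) = 0 := by
    rw [h]
    have := sympForm_smul_right (m := m) (0 : F) xa 0
    rwa [zero_smul, zero_mul] at this
  rwa [sympForm_add_right, sympForm_self, zero_add] at h4

/-- spreading a two-block centre to all vectors of the two blocks -/
theorem pair_centres (hD : Cfsg.Geo.IsNondegenerateMDecomposition (sympForm m F) k D)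
    (M : Subgroup (Matrix.GeneralLinearGroup (Fin m ⊕ Fin m) F)) (hMS : M ≤ spGL m F)
    (hKM : Cfsg.Geo.decompositionStabilizer D ⊓ spGL m F ≤ M) {a b : Fin t} (hab : a ≠ b)
    (u₀ v₀ : Fin m ⊕ Fin m → F) (hu₀ : u₀ ∈ D a) (hv₀ : v₀ ∈ D b) (hu₀0 : u₀ ≠ 0)
    (hv₀0 : v₀ ≠ 0) (h : IsCentre m M (u₀ + v₀)) (u v : Fin m ⊕ Fin m → F) (hu : u ∈ D a)
    (hv : v ∈ D b) (hu0 : u ≠ 0) (hv0 : v ≠ 0) : IsCentre m M (u + v) := by
  have h1 : IsCentre m M (u + v₀) :=
    spread hMS (D a) (D b) (isCentre_block hD M hKM a)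
      (fun a' ha' b' hb' => orth' hD hab.symm hb' ha') (nd hD a) u₀ u hu₀ hu hu₀0 hu0 v₀ hv₀ h
  rw [add_comm] at h1
  have h2 : IsCentre m M (v + u) :=
    spread hMS (D b) (D a) (isCentre_block hD M hKM b)
      (fun a' ha' b' hb' => orth' hD hab hb' ha') (nd hD b) v₀ v hv₀ hv hv₀0 hv0 u hu h1
  rw [add_comm]
  exact h2

/-- a Darboux basis of a block -/
theorem exists_darboux_block (hD : Cfsg.Geo.IsNondegenerateMDecomposition (sympForm m F) k D)
    (i : Fin t) : ∃ b : Module.Basis (Fin (k / 2) ⊕ Fin (k / 2)) F (D i),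
      (∀ a c, sympForm m F (b (Sum.inl a)) (b (Sum.inr c)) = if a = c then 1 else 0) ∧
      (∀ a c, sympForm m F (b (Sum.inl a)) (b (Sum.inl c)) = 0) ∧
      (∀ a c, sympForm m F (b (Sum.inr a)) (b (Sum.inr c)) = 0) := by
  have hA : ((sympBilin F m).restrict (D i)).IsAlt := fun x => sympForm_self m x.1
  obtain ⟨r, k', b, h1, h2, h3, h4, h5, h6⟩ :=
    Cfsg.Agent.Lib.Helper5.AltForm.exists_darboux_basis ((sympBilin F m).restrict (D i)) hA
  have hker : LinearMap.ker ((sympBilin F m).restrict (D i)) = ⊥ := by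
    rw [eq_bot_iff]
    intro x hx
    rw [Submodule.mem_bot]
    by_contra hx0
    have hx0' : x.1 ≠ 0 := fun h => hx0 (Subtype.ext h)
    obtain ⟨y, hy, hxy⟩ := nd hD i x.1 x.2 hx0'
    rw [LinearMap.mem_ker] at hx
    have := LinearMap.congr_fun hx ⟨y, hy⟩
    exact hxy this
  rw [hker, finrank_bot] at h6
  rw [hD.decomp.finrank_eq] at h5
  have hr : r = k / 2 := by omega
  subst h6
  subst hr
  refine ⟨b.reindex (Equiv.sumEmpty _ _), ?_, ?_, ?_⟩
  · intro a c
    rw [Module.Basis.reindex_apply, Module.Basis.reindex_apply]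
    exact h1 a c
  · intro a c
    rw [Module.Basis.reindex_apply, Module.Basis.reindex_apply]
    exact h2 a c
  · intro a c
    rw [Module.Basis.reindex_apply, Module.Basis.reindex_apply]
    exact h3 a c

/-- bases of the blocks with a common Gram matrix -/
theorem exists_uniform_bases (hD : Cfsg.Geo.IsNondegenerateMDecomposition (sympForm m F) k D) :
    ∃ v : ∀ i, Module.Basis (Fin (k / 2) ⊕ Fin (k / 2)) F (D i), ∀ i i' x y,
      sympForm m F (v i x) (v i y) = sympForm m F (v i' x) (v i' y) := by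
  choose v h1 h2 h3 using exists_darboux_block hD
  refine ⟨v, fun i i' x y => ?_⟩
  rcases x with a | a <;> rcases y with c | c
  · rw [h2, h2]
  · rw [h1, h1]
  · rw [sympForm_swap, h1, sympForm_swap (m := m) (v i' (Sum.inr a) : Fin m ⊕ Fin m → F), h1]
  · rw [h3, h3]

/-- permuting the index of a constant sigma type -/
def sigPerm {α : Type*} (σ : Equiv.Perm (Fin t)) : (Σ _ : Fin t, α) ≃ (Σ _ : Fin t, α) where
  toFun a := ⟨σ a.1, a.2⟩
  invFun a := ⟨σ.symm a.1, a.2⟩
  left_inv a := by simp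
  right_inv a := by simp

/-- every permutation of the blocks is induced by an element of the stabiliser -/
theorem exists_perm (hD : Cfsg.Geo.IsNondegenerateMDecomposition (sympForm m F) k D)
    (σ : Equiv.Perm (Fin t)) :
    ∃ h : Matrix.GeneralLinearGroup (Fin m ⊕ Fin m) F,
      h ∈ Cfsg.Geo.decompositionStabilizer D ⊓ spGL m F ∧
      ∀ i, ∀ x ∈ D i, (h : Matrix (Fin m ⊕ Fin m) (Fin m ⊕ Fin m) F) *ᵥ x ∈ D (σ i) := by
  obtain ⟨v, hv⟩ := exists_uniform_bases hD
  have hInt : DirectSum.IsInternal D :=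
    DirectSum.isInternal_submodule_of_iSupIndep_of_iSup_eq_top hD.decomp.indep
      hD.decomp.iSup_eq_top
  have hB : ∀ a, hInt.collectedBasis v a = (v a.1 a.2 : Fin m ⊕ Fin m → F) := fun a => by
    rw [DirectSum.IsInternal.collectedBasis_coe]
  have hg : ∀ a, ((hInt.collectedBasis v).equiv (hInt.collectedBasis v) (sigPerm σ))
      (hInt.collectedBasis v a) = hInt.collectedBasis v (sigPerm σ a) :=
    fun a => Module.Basis.equiv_apply ..
  have hiso : ∀ u w, sympForm m F
      (((hInt.collectedBasis v).equiv (hInt.collectedBasis v) (sigPerm σ)) u)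
      (((hInt.collectedBasis v).equiv (hInt.collectedBasis v) (sigPerm σ)) w) =
        sympForm m F u w := by
    have key : (sympBilin F m).comp
        ((hInt.collectedBasis v).equiv (hInt.collectedBasis v) (sigPerm σ)).toLinearMap
        ((hInt.collectedBasis v).equiv (hInt.collectedBasis v) (sigPerm σ)).toLinearMap =
          sympBilin F m := by
      apply LinearMap.BilinForm.ext_basis (hInt.collectedBasis v)
      intro a c
      rw [LinearMap.BilinForm.comp_apply, LinearEquiv.coe_coe, hg, hg, hB, hB, hB, hB,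
        sympBilin_apply, sympBilin_apply]
      obtain ⟨i, x⟩ := a
      obtain ⟨j, y⟩ := c
      show sympForm m F (v (σ i) x : Fin m ⊕ Fin m → F) (v (σ j) y) =
        sympForm m F (v i x : Fin m ⊕ Fin m → F) (v j y)
      by_cases hij : i = j
      · subst hij
        exact hv _ _ _ _
      · rw [orth' hD hij (v i x).2 (v j y).2,
          orth' hD (fun h => hij (σ.injective h)) (v (σ i) x).2 (v (σ j) y).2]
    intro u w
    have := LinearMap.congr_fun (LinearMap.congr_fun key u) w
    rwa [LinearMap.BilinForm.comp_apply, sympBilin_apply, sympBilin_apply] at this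
  obtain ⟨A, hA⟩ := exists_spGL_of_isometry m _ hiso
  have hmap : ∀ i, ∀ x ∈ D i,
      ((A : Matrix.GeneralLinearGroup (Fin m ⊕ Fin m) F) :
        Matrix (Fin m ⊕ Fin m) (Fin m ⊕ Fin m) F) *ᵥ x ∈ D (σ i) := by
    intro i x hx
    rw [hA]
    have hφ : ((hInt.collectedBasis v).equiv (hInt.collectedBasis v)
        (sigPerm σ)).toLinearMap ∘ₗ (D i).subtype =
        (D (σ i)).subtype ∘ₗ ((v i).equiv (v (σ i)) (Equiv.refl _)).toLinearMap := by
      apply (v i).ext
      intro y
      rw [LinearMap.comp_apply, LinearMap.comp_apply, LinearEquiv.coe_coe, LinearEquiv.coe_coe,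
        Module.Basis.equiv_apply, Submodule.subtype_apply, Submodule.subtype_apply,
        Equiv.refl_apply]
      have := hg ⟨i, y⟩
      rw [hB, hB] at this
      exact this
    have := LinearMap.congr_fun hφ ⟨x, hx⟩
    rw [LinearMap.comp_apply, LinearMap.comp_apply, Submodule.subtype_apply,
      LinearEquiv.coe_coe] at this
    rw [this]
    exact Submodule.coe_mem _
  refine ⟨A, ?_, hmap⟩
  rw [Subgroup.mem_inf]
  exact ⟨mem_decompStab_of_le hD _ σ hmap, A.2⟩

theorem sympForm_zero_right (u : Fin m ⊕ Fin m → F) : sympForm m F u 0 = 0 := by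
  have := sympForm_smul_right (m := m) (0 : F) u 0
  rwa [zero_smul, zero_mul] at this

theorem sympForm_zero_left (u : Fin m ⊕ Fin m → F) : sympForm m F 0 u = 0 := by
  rw [sympForm_swap, sympForm_zero_right, neg_zero]

/-- all two-block vectors are centres of a strictly larger group -/
theorem all_pair_centres [Fintype F]
    (hD : Cfsg.Geo.IsNondegenerateMDecomposition (sympForm m F) k D)
    (hex : ¬ (k = 2 ∧ Fintype.card F = 2))
    (M : Subgroup (Matrix.GeneralLinearGroup (Fin m ⊕ Fin m) F)) (hMS : M ≤ spGL m F)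
    (hKM : Cfsg.Geo.decompositionStabilizer D ⊓ spGL m F ≤ M)
    (hMK : ¬ M ≤ Cfsg.Geo.decompositionStabilizer D ⊓ spGL m F)
    (a b : Fin t) (hab : a ≠ b) (u v : Fin m ⊕ Fin m → F) (hu : u ∈ D a) (hv : v ∈ D b)
    (hu0 : u ≠ 0) (hv0 : v ≠ 0) : IsCentre m M (u + v) := by
  obtain ⟨g, hgM, hgK⟩ := SetLike.not_le_iff_exists.mp hMK
  have hg : g ∉ Cfsg.Geo.decompositionStabilizer D := fun h => hgK ⟨h, hMS hgM⟩
  obtain ⟨p, hp, hpD⟩ := exists_mixed_centre hD M hMS hKM g hgM hg
  obtain ⟨a₀, b₀, hab₀, u₀, hu₀, v₀, hv₀, hu₀0, hv₀0, hc⟩ :=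
    exists_two_centre hD hex M hMS hKM p hp hpD
  -- a permutation moving `(a, b)` to `(a₀, b₀)`
  obtain ⟨σ, hσa, hσb⟩ : ∃ σ : Equiv.Perm (Fin t), σ a = a₀ ∧ σ b = b₀ := by
    refine ⟨Equiv.swap (Equiv.swap a a₀ b) b₀ * Equiv.swap a a₀, ?_, ?_⟩
    · rw [Equiv.Perm.mul_apply, Equiv.swap_apply_left]
      apply Equiv.swap_apply_of_ne_of_ne
      · intro h
        have := (Equiv.swap a a₀).injective
          (show Equiv.swap a a₀ a = Equiv.swap a a₀ b by rw [Equiv.swap_apply_left]; exact h)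
        exact hab this
      · exact hab₀
    · rw [Equiv.Perm.mul_apply, Equiv.swap_apply_left]
  obtain ⟨h, hhK, hmap⟩ := exists_perm hD σ
  have hhM : h ∈ M := hKM hhK
  have hinj : ∀ x : Fin m ⊕ Fin m → F, x ≠ 0 →
      (h : Matrix (Fin m ⊕ Fin m) (Fin m ⊕ Fin m) F) *ᵥ x ≠ 0 := by
    intro x hx h0
    apply hx
    apply gl_injective h
    rw [Matrix.toLin'_apply, h0, map_zero]
  have h1 : IsCentre m M ((h : Matrix (Fin m ⊕ Fin m) (Fin m ⊕ Fin m) F) *ᵥ u +
      (h : Matrix (Fin m ⊕ Fin m) (Fin m ⊕ Fin m) F) *ᵥ v) :=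
    pair_centres hD M hMS hKM hab₀ u₀ v₀ hu₀ hv₀ hu₀0 hv₀0 hc _ _
      (hσa ▸ hmap a u hu) (hσb ▸ hmap b v hv) (hinj u hu0) (hinj v hv0)
  have h2 := isCentre_mulVec hMS h⁻¹ (M.inv_mem hhM) h1
  rw [← mulVec_add, mulVec_mulVec, ← Units.val_mul, inv_mul_cancel, Units.val_one,
    one_mulVec] at h2
  exact h2

/-- if all two-block vectors are centres, then all vectors are centres -/
theorem all_centres (hD : Cfsg.Geo.IsNondegenerateMDecomposition (sympForm m F) k D)
    (M : Subgroup (Matrix.GeneralLinearGroup (Fin m ⊕ Fin m) F)) (hMS : M ≤ spGL m F)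
    (hKM : Cfsg.Geo.decompositionStabilizer D ⊓ spGL m F ≤ M)
    (hpair : ∀ a b, a ≠ b → ∀ u v : Fin m ⊕ Fin m → F, u ∈ D a → v ∈ D b → u ≠ 0 → v ≠ 0 →
      IsCentre m M (u + v)) (x : Fin m ⊕ Fin m → F) : IsCentre m M x := by
  classical
  suffices H : ∀ S : Finset (Fin t), ∀ x ∈ S.sup D, IsCentre m M x from
    H Finset.univ x (mem_sup_univ hD x)
  intro S
  induction S using Finset.induction_on with
  | empty =>
    intro x hx
    rw [Finset.sup_empty, Submodule.mem_bot] at hx
    rw [hx]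
    exact isCentre_zero M
  | insert b S' hb ih =>
    intro x hx
    rw [Finset.sup_insert] at hx
    obtain ⟨y, hy, x', hx', rfl⟩ := Submodule.mem_sup.mp hx
    by_cases hy0 : y = 0
    · rw [hy0, zero_add]; exact ih x' hx'
    by_cases hx'0 : x' = 0
    · rw [hx'0, add_zero]; exact isCentre_block hD M hKM b y hy
    obtain ⟨a, w, hw, hx'w⟩ := exists_block hD x' hx'0
    have haS : a ∈ S' := by
      by_contra haS
      exact hx'w (sup_orth hD S' haS hx' hw)
    have hab : a ≠ b := fun h => hb (h ▸ haS)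
    have hw0 : w ≠ 0 := by
      rintro rfl
      exact hx'w (sympForm_zero_right x')
    have hwS : w ∈ S'.sup D := (Finset.le_sup (f := D) haS) hw
    have hx'' : x' - w ∈ S'.sup D := Submodule.sub_mem _ hx' hwS
    have h1 : IsCentre m M (x' - w) := ih _ hx''
    have h2 : IsCentre m M (w + y) := hpair a b hab w y hw hy hw0 hy0
    have hform : sympForm m F (x' - w) (w + y) ≠ 0 := by
      rw [sympForm_add_right, sup_orth hD S' hb hx'' hy, add_zero, sympForm_sub_left,
        sympForm_self, sub_zero]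
      exact hx'w
    have h3 := isCentre_add_smul hMS h2 h1 hform 1
    have e : x' - w + (1 : F) • (w + y) = y + x' := by rw [one_smul]; abel
    rw [e] at h3
    exact h3

/-- The stabiliser of an orthogonal decomposition into non-degenerate subspaces is a maximal
subgroup of the symplectic group, unless the blocks are planes over the field of order two. -/
theorem isMaximalIn [Fintype F]
    (hD : Cfsg.Geo.IsNondegenerateMDecomposition (sympForm m F) k D)
    (hex : ¬ (k = 2 ∧ Fintype.card F = 2)) :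
    Cfsg.Geo.IsMaximalIn (spGL m F) (Cfsg.Geo.decompositionStabilizer D ⊓ spGL m F) := by
  refine ⟨lt_of_le_of_ne inf_le_right ?_, ?_⟩
  · intro h
    have ht := hD.decomp.two_le
    set a : Fin t := ⟨0, by omega⟩ with ha
    set b : Fin t := ⟨1, by omega⟩ with hb
    have hab : a ≠ b := by
      intro h
      have := congrArg Fin.val h
      simp [ha, hb] at this
    obtain ⟨u, hu, hu0⟩ := (Submodule.ne_bot_iff (D a)).1 (block_ne_bot hD a)
    obtain ⟨v, hv, hv0⟩ := (Submodule.ne_bot_iff (D b)).1 (block_ne_bot hD b)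
    obtain ⟨w, hw, huw⟩ := nd hD a u hu hu0
    have hwu : sympForm m F w u ≠ 0 := by
      rw [sympForm_swap]; exact neg_ne_zero.mpr huw
    have hmem : tvGL m (u + v) 1 ∈ Cfsg.Geo.decompositionStabilizer D ⊓ spGL m F := by
      rw [h]; exact tvGL_mem m _ 1
    obtain ⟨σ, hσ⟩ := hmem.1
    have h1 : (tvGL m (u + v) 1 : Matrix (Fin m ⊕ Fin m) (Fin m ⊕ Fin m) F) *ᵥ w ∈ D (σ a) := by
      rw [← hσ a]
      exact ⟨w, hw, Matrix.toLin'_apply _ _⟩
    rw [tvGL_mulVec, one_mul, sympForm_add_right, orth' hD hab hw hv, add_zero] at h1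
    by_cases hσa : σ a = a
    · rw [hσa] at h1
      have h2 : sympForm m F w u • (u + v) ∈ D a := (Submodule.add_mem_iff_right _ hw).mp h1
      have h3 : u + v ∈ D a := by
        have := (D a).smul_mem (sympForm m F w u)⁻¹ h2
        rwa [smul_smul, inv_mul_cancel₀ hwu, one_smul] at this
      have h4 : v ∈ D a := (Submodule.add_mem_iff_right _ hu).mp h3
      exact hv0 (inter_eq_zero hD hab h4 hv)
    · have h2 : sympForm m F (w + sympForm m F w u • (u + v)) u = 0 := orth' hD hσa h1 hu
      rw [sympForm_add_left, sympForm_smul_left, sympForm_add_left, sympForm_self, zero_add,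
        orth' hD hab.symm hv hu, mul_zero, add_zero] at h2
      exact hwu h2
  · intro M hKM hMS
    by_cases hMK : M ≤ Cfsg.Geo.decompositionStabilizer D ⊓ spGL m F
    · left
      exact le_antisymm hMK hKM
    right
    apply le_antisymm hMS
    apply spGL_le
    exact all_centres hD M hMS hKM
      (fun a b hab u v hu hv hu0 hv0 =>
        all_pair_centres hD hex M hMS hKM hMK a b hab u v hu hv hu0 hv0)

end Cfsg.Agent.Lib.Helper5.SpDecompMax
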