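import Mathlib
import Cfsg.Prelude.Def_GeometricClasses
import Cfsg.Agent.Lib.Helper5.SpDecompMax

set_option autoImplicit false

/-! The stabiliser of a pair of complementary totally singular subspaces is maximal in the
symplectic group in odd characteristic. -/

namespace Cfsg.Agent.Lib.Helper5.SpPairMax

open Matrix Cfsg Cfsg.Agent.Lib.Helper5.SympTv Cfsg.Agent.Lib.Helper5.SympGen
  Cfsg.Agent.Lib.Helper5.SympBridge Cfsg.Agent.Lib.Helper5.SpCentres
  Cfsg.Agent.Lib.Helper5.SpSingularMax Cfsg.Agent.Lib.Helper5.SpNondegMax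
  Cfsg.Agent.Lib.Helper5.SpDecompMax

variable {F : Type*} [Field F] {m : ℕ}

local notation "V" => (Fin m ⊕ Fin m → F)
local notation "GLV" => Matrix.GeneralLinearGroup (Fin m ⊕ Fin m) F
local notation "MatV" => Matrix (Fin m ⊕ Fin m) (Fin m ⊕ Fin m) F

/-- conjugating a short root element -/
theorem conj_EE (g : GLV) (hg : g ∈ spGL m F) (u v : V) :
    g * EE u v * g⁻¹ = EE ((g : MatV) *ᵥ u) ((g : MatV) *ᵥ v) := by
  unfold EE
  rw [← conj_tvGL m g hg, ← conj_tvGL m g hg, ← mulVec_add, ← conj_tvGL m g hg]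
  group

/-- the pair `(x, y)` carries a full short root subgroup of `M` -/
def InE (M : Subgroup GLV) (x y : V) : Prop :=
  sympForm m F x y = 0 ∧ ∀ s : F, EE (s • x) y ∈ M

theorem EE_eq_of_mulVec {u v u' v' : V} (h : sympForm m F u v = 0)
    (h' : sympForm m F u' v' = 0)
    (hz : ∀ z : V, sympForm m F z v • u + sympForm m F z u • v =
      sympForm m F z v' • u' + sympForm m F z u' • v') : EE u v = EE u' v' := by
  apply Units.ext
  rw [ext_iff_mulVec]
  intro z
  rw [EE_mulVec u v h, EE_mulVec u' v' h', add_assoc, add_assoc, hz]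

theorem inE_symm {M : Subgroup GLV} {x y : V} (h : InE M x y) : InE M y x := by
  refine ⟨sympForm_zero_of_swap h.1, fun s => ?_⟩
  have e : EE (s • y) x = EE (s • x) y := by
    apply EE_eq_of_mulVec
    · rw [sympForm_smul_left, sympForm_zero_of_swap h.1, mul_zero]
    · rw [sympForm_smul_left, h.1, mul_zero]
    · intro z
      simp only [sympForm_smul_right, smul_smul]
      rw [add_comm]
      congr 1 <;> rw [mul_comm]
  rw [e]
  exact h.2 s

theorem inE_smul_right {M : Subgroup GLV} {x y : V} (c : F) (h : InE M x y) :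
    InE M x (c • y) := by
  refine ⟨by rw [sympForm_smul_right, h.1, mul_zero], fun s => ?_⟩
  have e : EE (s • x) (c • y) = EE ((s * c) • x) y := by
    apply EE_eq_of_mulVec
    · rw [sympForm_smul_left, sympForm_smul_right, h.1, mul_zero, mul_zero]
    · rw [sympForm_smul_left, h.1, mul_zero]
    · intro z
      simp only [sympForm_smul_right, smul_smul]
      congr 1
      · congr 1; ring
      · congr 1; ring
  rw [e]
  exact h.2 _

theorem inE_conj {M : Subgroup GLV} (hMS : M ≤ spGL m F) {x y : V} (g : GLV) (hg : g ∈ M)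
    (h : InE M x y) : InE M ((g : MatV) *ᵥ x) ((g : MatV) *ᵥ y) := by
  refine ⟨by rw [(mem_spGL_iff m g).mp (hMS hg), h.1], fun s => ?_⟩
  rw [← mulVec_smul, ← conj_EE g (hMS hg)]
  exact M.mul_mem (M.mul_mem hg (h.2 s)) (M.inv_mem hg)

/-- difference of two pairs with the same first entry -/
theorem inE_sub {M : Subgroup GLV} {x y y' : V} (h : InE M x y) (h' : InE M x y')
    (hyy : sympForm m F y y' = 0) : InE M x (y' - y) := by
  refine ⟨by rw [sympForm_sub_right, h.1, h'.1, sub_zero], fun s => ?_⟩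
  have hs : sympForm m F (s • x) y = 0 := by rw [sympForm_smul_left, h.1, mul_zero]
  have hs' : sympForm m F (s • x) y' = 0 := by rw [sympForm_smul_left, h'.1, mul_zero]
  have hs'' : sympForm m F (s • x) (y' - y) = 0 := by rw [sympForm_sub_right, hs, hs', sub_zero]
  have e : EE (s • x) (y' - y) * EE (s • x) y = EE (s • x) y' := by
    apply Units.ext
    rw [Units.val_mul, ext_iff_mulVec]
    intro z
    rw [← mulVec_mulVec, EE_mulVec _ _ hs, EE_mulVec _ _ hs'', EE_mulVec _ _ hs']
    simp only [sympForm_add_left, sympForm_smul_left, sympForm_sub_right, sympForm_smul_right,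
      sympForm_self, hyy, h.1, h'.1, sympForm_zero_of_swap h.1, mul_zero, add_zero]
    module
  have : EE (s • x) (y' - y) = EE (s • x) y' * (EE (s • x) y)⁻¹ := by
    rw [← e, mul_inv_cancel_right]
  rw [this]
  exact M.mul_mem (h'.2 s) (M.inv_mem (h.2 s))

/-- two short root subgroups through `a` spanning a non-isotropic space produce the
transvections with centre `a` -/
theorem isCentre_of_inE {M : Subgroup GLV} (h2 : (2 : F) ≠ 0) {a y b : V}
    (h1 : InE M a y) (h3 : InE M a b) (hyb : sympForm m F y b ≠ 0) : IsCentre m M a := by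
  intro c
  have hay := h1.1
  have hab := h3.1
  have hya := sympForm_zero_of_swap hay
  have hba := sympForm_zero_of_swap hab
  have hby : sympForm m F b y = -sympForm m F y b := sympForm_swap m b y
  obtain ⟨s, hs⟩ : ∃ s : F, 2 * s * sympForm m F y b = c :=
    ⟨c / (2 * sympForm m F y b), by field_simp⟩
  have hE : EE (s • a) b ∈ M := h3.2 s
  have hE' : EE a y ∈ M := by
    have := h1.2 1
    rwa [one_smul] at this
  have hsab : sympForm m F (s • a) b = 0 := by rw [sympForm_smul_left, hab, mul_zero]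
  have key : tvGL m a c * (EE a y * EE (s • a) b) = EE (s • a) b * EE a y := by
    apply Units.ext
    rw [Units.val_mul, Units.val_mul, Units.val_mul, ext_iff_mulVec]
    intro z
    rw [← mulVec_mulVec, ← mulVec_mulVec, ← mulVec_mulVec, tvGL_mulVec, EE_mulVec _ _ hsab,
      EE_mulVec _ _ hay, EE_mulVec _ _ hay, EE_mulVec _ _ hsab]
    simp only [sympForm_add_left, sympForm_smul_left, sympForm_smul_right, sympForm_self, hay,
      hab, hya, hba, hby, mul_zero, add_zero, mul_neg]
    rw [← hs]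
    module
  have : tvGL m a c = EE (s • a) b * EE a y * (EE a y * EE (s • a) b)⁻¹ := by
    rw [← key, mul_inv_cancel_right]
  rw [this]
  exact M.mul_mem (M.mul_mem hE hE') (M.inv_mem (M.mul_mem hE' hE))

/-- a vector non-orthogonal to `x` but orthogonal to a subspace not containing `x` -/
theorem dual_vec (p : Submodule F V) {x : V} (hx : x ∉ p) :
    ∃ z : V, sympForm m F x z ≠ 0 ∧ ∀ y ∈ p, sympForm m F y z = 0 := by
  obtain ⟨φ, hφx, hφp⟩ := Submodule.exists_dual_map_eq_bot_of_notMem hx inferInstance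
  have hz : ∀ y, sympForm m F
      (((sympBilin F m).toDual (sympBilin_nondegenerate m)).symm φ) y = φ y := fun y => by
    rw [← sympBilin_apply]
    exact LinearMap.BilinForm.apply_toDual_symm_apply φ y
  refine ⟨((sympBilin F m).toDual (sympBilin_nondegenerate m)).symm φ, ?_, ?_⟩
  · rw [sympForm_swap, hz]
    exact neg_ne_zero.mpr hφx
  · intro y hy
    rw [sympForm_swap, hz]
    have : φ y ∈ p.map φ := ⟨y, hy, rfl⟩
    rw [hφp, Submodule.mem_bot] at this
    rw [this, neg_zero]

/-- a pair of complementary totally singular subspaces -/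
structure TSPair (U W : Submodule F V) : Prop where
  tsU : ∀ u ∈ U, ∀ u' ∈ U, sympForm m F u u' = 0
  tsW : ∀ w ∈ W, ∀ w' ∈ W, sympForm m F w w' = 0
  split : ∀ z : V, ∃ u ∈ U, ∃ w ∈ W, u + w = z

theorem TSPair.symm {U W : Submodule F V} (h : TSPair U W) : TSPair W U where
  tsU := h.tsW
  tsW := h.tsU
  split z := by
    obtain ⟨u, hu, w, hw, rfl⟩ := h.split z
    exact ⟨w, hw, u, hu, add_comm _ _⟩

/-- the dual vector can be taken in the complementary subspace -/
theorem TSPair.dual_vec {U W : Submodule F V} (h : TSPair U W) (p : Submodule F V) {x : V}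
    (hxU : x ∈ U) (hpU : p ≤ U) (hx : x ∉ p) :
    ∃ w ∈ W, sympForm m F x w ≠ 0 ∧ ∀ y ∈ p, sympForm m F y w = 0 := by
  obtain ⟨z, hxz, hpz⟩ := SpPairMax.dual_vec p hx
  obtain ⟨u, hu, w, hw, rfl⟩ := h.split z
  refine ⟨w, hw, ?_, ?_⟩
  · rwa [sympForm_add_right, h.tsU x hxU u hu, zero_add] at hxz
  · intro y hy
    have := hpz y hy
    rwa [sympForm_add_right, h.tsU y (hpU hy) u hu, zero_add] at this

theorem TSPair.inter {U W : Submodule F V} (h : TSPair U W) {x : V} (hU : x ∈ U) (hW : x ∈ W) :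
    x = 0 := by
  apply eq_zero_of_sympForm_right m x
  intro v
  obtain ⟨u, hu, w, hw, rfl⟩ := h.split v
  rw [sympForm_add_right, h.tsU x hU u hu, h.tsW x hW w hw, add_zero]

theorem finrank_perp (T : Submodule F V) :
    Module.finrank F (perp m T) = 2 * m - Module.finrank F T := by
  unfold perp
  rw [LinearMap.BilinForm.finrank_orthogonal (sympBilin_nondegenerate m),
    Module.finrank_fintype_fun_eq_card, Fintype.card_sum, Fintype.card_fin, two_mul]

theorem finrank_inf_perp (S T : Submodule F V) :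
    Module.finrank F S ≤ Module.finrank F ↥(S ⊓ perp m T) + Module.finrank F T := by
  have h1 := Submodule.finrank_sup_add_finrank_inf_eq S (perp m T)
  have h2 := finrank_perp (m := m) T
  have h3 : Module.finrank F ↥(S ⊔ perp m T) ≤ 2 * m := by
    have := Submodule.finrank_le (S ⊔ perp m T)
    rwa [Module.finrank_fintype_fun_eq_card, Fintype.card_sum, Fintype.card_fin, ← two_mul]
      at this
  have h4 : Module.finrank F T ≤ 2 * m := by
    have := Submodule.finrank_le T
    rwa [Module.finrank_fintype_fun_eq_card, Fintype.card_sum, Fintype.card_fin, ← two_mul]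
      at this
  omega

theorem finrank_span_pair_le (x y : V) :
    Module.finrank F (Submodule.span F ({x, y} : Set V)) ≤ 2 := by
  classical
  have : ({x, y} : Set V) = (({x, y} : Finset V) : Set V) := by simp
  rw [this]
  exact (finrank_span_finset_le_card _).trans Finset.card_le_two

/-- the main step: a short root subgroup of `M` whose `U`-components are independent
yields a centre in `U` -/
theorem TSPair.centre_of_inE {U W : Submodule F V} (h : TSPair U W) {M : Subgroup GLV}
    (hMS : M ≤ spGL m F) (h2 : (2 : F) ≠ 0)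
    (hK : ∀ a ∈ U, ∀ b ∈ W, sympForm m F a b = 0 → InE M a b)
    (hdim : 5 ≤ Module.finrank F U) {x y xU xW yU yW : V} (hxU : xU ∈ U) (hxW : xW ∈ W)
    (hx : xU + xW = x) (hyU : yU ∈ U) (hyW : yW ∈ W) (hy : yU + yW = y) (hE : InE M x y)
    (hxU0 : xU ≠ 0) (hyUx : yU ∉ Submodule.span F {xU}) :
    ∃ a ∈ U, a ≠ 0 ∧ IsCentre m M a := by
  -- choice of `a`
  have hlt : ¬ (U ⊓ perp m (Submodule.span F ({x, y} : Set V)) ≤
      Submodule.span F ({xU, yU} : Set V)) := by
    intro hle
    have h1 := Submodule.finrank_mono hle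
    have h3 := finrank_inf_perp U (Submodule.span F ({x, y} : Set V))
    have h4 := finrank_span_pair_le x y
    have h5 := finrank_span_pair_le xU yU
    omega
  obtain ⟨a, haU₁, haP⟩ := SetLike.not_le_iff_exists.mp hlt
  have haU : a ∈ U := haU₁.1
  have hperp := (mem_perp _ a).mp haU₁.2
  have hxa : sympForm m F x a = 0 := hperp x (Submodule.subset_span (by simp))
  have hya : sympForm m F y a = 0 := hperp y (Submodule.subset_span (by simp))
  have ha0 : a ≠ 0 := by
    rintro rfl
    exact haP (Submodule.zero_mem _)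
  have hxUP : xU ∈ Submodule.span F ({xU, yU} : Set V) := Submodule.subset_span (by simp)
  have hyUP : yU ∈ Submodule.span F ({xU, yU} : Set V) := Submodule.subset_span (by simp)
  -- `xU ∉ span {a}`
  have hx_a : xU ∉ Submodule.span F ({a} : Set V) := by
    intro hmem
    obtain ⟨c, hc⟩ := Submodule.mem_span_singleton.mp hmem
    have hc0 : c ≠ 0 := by
      rintro rfl
      rw [zero_smul] at hc
      exact hxU0 hc.symm
    apply haP
    have : a = c⁻¹ • xU := by rw [← hc, smul_smul, inv_mul_cancel₀ hc0, one_smul]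
    rw [this]
    exact Submodule.smul_mem _ _ hxUP
  -- `yU ∉ span {a, xU}`
  have hy_ax : yU ∉ Submodule.span F ({a, xU} : Set V) := by
    intro hmem
    obtain ⟨c, d, hcd⟩ := Submodule.mem_span_pair.mp hmem
    by_cases hc0 : c = 0
    · rw [hc0, zero_smul, zero_add] at hcd
      exact hyUx (Submodule.mem_span_singleton.mpr ⟨d, hcd⟩)
    · apply haP
      have : a = c⁻¹ • (yU - d • xU) := by
        rw [← hcd, add_sub_cancel_right, smul_smul, inv_mul_cancel₀ hc0, one_smul]
      rw [this]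
      exact Submodule.smul_mem _ _ (Submodule.sub_mem _ hyUP (Submodule.smul_mem _ _ hxUP))
  have hspan1 : Submodule.span F ({a} : Set V) ≤ U := by
    rw [Submodule.span_le]
    intro z hz
    rw [Set.mem_singleton_iff] at hz
    rw [hz]; exact haU
  have hspan2 : Submodule.span F ({a, xU} : Set V) ≤ U := by
    rw [Submodule.span_le]
    intro z hz
    rcases hz with rfl | hz
    · exact haU
    · rw [Set.mem_singleton_iff] at hz
      rw [hz]; exact hxU
  obtain ⟨b, hbW, hyb, hb⟩ := h.dual_vec _ hyU hspan2 hy_ax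
  obtain ⟨b', hb'W, hxb', hb'⟩ := h.dual_vec _ hxU hspan1 hx_a
  have hab : sympForm m F a b = 0 := hb a (Submodule.subset_span (by simp))
  have hxUb : sympForm m F xU b = 0 := hb xU (Submodule.subset_span (by simp))
  have hab' : sympForm m F a b' = 0 := hb' a (Submodule.subset_span (by simp))
  have hxb : sympForm m F x b = 0 := by
    rw [← hx, sympForm_add_left, hxUb, h.tsW xW hxW b hbW, add_zero]
  have hyb2 : sympForm m F y b ≠ 0 := by
    rw [← hy, sympForm_add_left, h.tsW yW hyW b hbW, add_zero]; exact hyb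
  have hxb'2 : sympForm m F x b' ≠ 0 := by
    rw [← hx, sympForm_add_left, h.tsW xW hxW b' hb'W, add_zero]; exact hxb'
  -- conjugation by the element `EE a b` of the stabiliser
  have hk : EE a b ∈ M := by
    have := (hK a haU b hbW hab).2 1
    rwa [one_smul] at this
  have h3 := inE_conj hMS (EE a b) hk hE
  rw [EE_mulVec a b hab, EE_mulVec a b hab, hxb, hxa, hya] at h3
  simp only [zero_smul, add_zero] at h3
  have h4 := inE_sub hE h3 (by
    rw [sympForm_add_right, sympForm_self, sympForm_smul_right, hya, mul_zero, add_zero])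
  rw [add_sub_cancel_left] at h4
  have h5 : InE M x a := by
    have := inE_smul_right (sympForm m F y b)⁻¹ h4
    rwa [smul_smul, inv_mul_cancel₀ hyb2, one_smul] at this
  exact ⟨a, haU, ha0, isCentre_of_inE h2 (inE_symm h5) (hK a haU b' hb'W hab') hxb'2⟩

/-- one centre in `U` makes all of `U` consist of centres -/
theorem TSPair.centres_of_centre {U W : Submodule F V} (h : TSPair U W) {M : Subgroup GLV}
    (hMS : M ≤ spGL m F)
    (hK : ∀ a ∈ U, ∀ b ∈ W, sympForm m F a b = 0 → InE M a b) {u₀ : V} (hu₀ : u₀ ∈ U)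
    (hu₀0 : u₀ ≠ 0) (hC : IsCentre m M u₀) : ∀ u ∈ U, IsCentre m M u := by
  intro u hu
  by_cases hspan : u ∈ Submodule.span F ({u₀} : Set V)
  · obtain ⟨c, rfl⟩ := Submodule.mem_span_singleton.mp hspan
    exact isCentre_smul c hC
  have hnot : u₀ ∉ Submodule.span F ({u - u₀} : Set V) := by
    intro hmem
    obtain ⟨c, hc⟩ := Submodule.mem_span_singleton.mp hmem
    by_cases hc0 : c = 0
    · rw [hc0, zero_smul] at hc
      exact hu₀0 hc.symm
    · apply hspan
      rw [Submodule.mem_span_singleton]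
      refine ⟨c⁻¹ * (1 + c), ?_⟩
      rw [smul_sub] at hc
      have h3 : c • u = (1 + c) • u₀ := by
        rw [add_smul, one_smul]
        exact sub_eq_iff_eq_add.mp hc
      rw [mul_smul, ← h3, smul_smul, inv_mul_cancel₀ hc0, one_smul]
  have hsub : u - u₀ ∈ U := U.sub_mem hu hu₀
  have hle : Submodule.span F ({u - u₀} : Set V) ≤ U := by
    rw [Submodule.span_le]
    intro z hz
    rw [Set.mem_singleton_iff] at hz
    rw [hz]; exact hsub
  obtain ⟨b, hbW, hu₀b, hb⟩ := h.dual_vec _ hu₀ hle hnot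
  have hb1 : sympForm m F (u - u₀) b = 0 := hb _ (Submodule.subset_span (by simp))
  have hb2 : sympForm m F (u - u₀) ((sympForm m F u₀ b)⁻¹ • b) = 0 := by
    rw [sympForm_smul_right, hb1, mul_zero]
  have hk : EE (u - u₀) ((sympForm m F u₀ b)⁻¹ • b) ∈ M := by
    have := (hK _ hsub _ (W.smul_mem _ hbW) hb2).2 1
    rwa [one_smul] at this
  have h4 := isCentre_mulVec hMS _ hk hC
  rw [EE_mulVec _ _ hb2, sympForm_smul_right, inv_mul_cancel₀ hu₀b, one_smul,
    h.tsU u₀ hu₀ _ hsub, zero_smul, add_zero, add_sub_cancel] at h4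
  exact h4

/-- if all vectors of `U` and of `W` are centres then all vectors are -/
theorem TSPair.all_centres {U W : Submodule F V} (h : TSPair U W) {M : Subgroup GLV}
    (hMS : M ≤ spGL m F) (hU : ∀ u ∈ U, IsCentre m M u) (hW : ∀ w ∈ W, IsCentre m M w)
    (z : V) : IsCentre m M z := by
  obtain ⟨u, hu, w, hw, rfl⟩ := h.split z
  by_cases hu0 : u = 0
  · rw [hu0, zero_add]; exact hW w hw
  by_cases hwu : sympForm m F w u = 0
  · have hnot : u ∉ (⊥ : Submodule F V) := by
      rw [Submodule.mem_bot]; exact hu0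
    obtain ⟨w', hw', huw', -⟩ := h.dual_vec ⊥ hu bot_le hnot
    have hw'u : sympForm m F w' u ≠ 0 := by
      rw [sympForm_swap]; exact neg_ne_zero.mpr huw'
    have h1 : IsCentre m M (w' + (1 : F) • u) := isCentre_add_smul hMS (hU u hu) (hW w' hw') hw'u 1
    have h2 : IsCentre m M (w - w') := hW _ (W.sub_mem hw hw')
    have h3 := isCentre_add_smul hMS h2 h1 (by
      rw [one_smul, sympForm_add_left, sympForm_sub_right, sympForm_sub_right,
        h.tsW w' hw' w hw, sympForm_self, sub_zero, sympForm_swap m u w, hwu, neg_zero,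
        zero_sub, sympForm_swap m u w', zero_add, neg_neg]
      exact hw'u) 1
    have e : w' + (1 : F) • u + (1 : F) • (w - w') = u + w := by
      rw [one_smul, one_smul]; abel
    rw [e] at h3
    exact h3
  · have h1 := isCentre_add_smul hMS (hU u hu) (hW w hw) hwu 1
    rw [one_smul, add_comm] at h1
    exact h1

/-- if `g a` has non-zero components in both blocks, some `g b` with `b ⊥ a` in the other block
has a component independent of the corresponding component of `g a` -/
theorem TSPair.good_pair_aux {U W : Submodule F V} (h : TSPair U W)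
    (hdim : 5 ≤ Module.finrank F W) (g : GLV) (a p q : V) :
    ∃ b ∈ W, sympForm m F a b = 0 ∧ ∃ p' ∈ U, ∃ q' ∈ W, p' + q' = (g : MatV) *ᵥ b ∧
      (p' ∉ Submodule.span F ({p} : Set V) ∨ q' ∉ Submodule.span F ({q} : Set V)) := by
  have hex : ∃ b ∈ W ⊓ perp m (Submodule.span F ({a, a} : Set V)),
      (g : MatV) *ᵥ b ∉ Submodule.span F ({p, q} : Set V) := by
    by_contra hcon
    push Not at hcon
    have hle : (W ⊓ perp m (Submodule.span F ({a, a} : Set V))).map (Matrix.toLin' (g : MatV)) ≤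
        Submodule.span F ({p, q} : Set V) := by
      rintro _ ⟨b, hb, rfl⟩
      rw [Matrix.toLin'_apply]
      exact hcon b hb
    have h1 := Submodule.finrank_mono hle
    rw [← (Submodule.equivMapOfInjective _ (gl_injective g) _).finrank_eq] at h1
    have h2 := finrank_inf_perp W (Submodule.span F ({a, a} : Set V))
    have h3 := finrank_span_pair_le a a
    have h4 := finrank_span_pair_le p q
    omega
  obtain ⟨b, hb, hgb⟩ := hex
  have hab : sympForm m F a b = 0 :=
    (mem_perp _ b).mp hb.2 a (Submodule.subset_span (by simp))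
  obtain ⟨p', hp', q', hq', hsum⟩ := h.split ((g : MatV) *ᵥ b)
  refine ⟨b, hb.1, hab, p', hp', q', hq', hsum, ?_⟩
  by_contra hcon
  push Not at hcon
  obtain ⟨c, hc⟩ := Submodule.mem_span_singleton.mp hcon.1
  obtain ⟨d, hd⟩ := Submodule.mem_span_singleton.mp hcon.2
  apply hgb
  rw [← hsum, ← hc, ← hd]
  exact Submodule.add_mem _ (Submodule.smul_mem _ _ (Submodule.subset_span (by simp)))
    (Submodule.smul_mem _ _ (Submodule.subset_span (by simp)))

section concrete

theorem tsPair {D : Fin 2 → Submodule F V} (hD : Cfsg.Geo.IsMDecomposition m D)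
    (hts : ∀ i, Cfsg.Geo.IsTotallySingularFor (sympForm m F) (D i)) : TSPair (D 0) (D 1) where
  tsU := hts 0
  tsW := hts 1
  split z := by
    have hle : (⊤ : Submodule F V) ≤ D 0 ⊔ D 1 := by
      rw [← hD.iSup_eq_top]
      apply iSup_le
      intro i
      fin_cases i
      · exact le_sup_left
      · exact le_sup_right
    exact Submodule.mem_sup.mp (hle (Submodule.mem_top : z ∈ ⊤))

/-- an invertible matrix mapping blocks into blocks according to a permutation is in the
stabiliser of the decomposition -/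
theorem mem_decompStab_of_le' {D : Fin 2 → Submodule F V} {k : ℕ} (hD : Cfsg.Geo.IsMDecomposition k D)
    (g : GLV) (σ : Equiv.Perm (Fin 2))
    (h : ∀ i, ∀ x ∈ D i, (g : MatV) *ᵥ x ∈ D (σ i)) :
    g ∈ Cfsg.Geo.decompositionStabilizer D := by
  refine ⟨σ, fun i => ?_⟩
  apply Submodule.eq_of_le_of_finrank_eq
  · rintro _ ⟨x, hx, rfl⟩
    rw [Matrix.toLin'_apply]
    exact h i x hx
  · rw [← (Submodule.equivMapOfInjective _ (gl_injective g) (D i)).finrank_eq,
      hD.finrank_eq, hD.finrank_eq]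

theorem mem_stab_of_fix {D : Fin 2 → Submodule F V} {k : ℕ} (hD : Cfsg.Geo.IsMDecomposition k D) (g : GLV)
    (hU : ∀ u ∈ D 0, (g : MatV) *ᵥ u ∈ D 0) (hW : ∀ w ∈ D 1, (g : MatV) *ᵥ w ∈ D 1) :
    g ∈ Cfsg.Geo.decompositionStabilizer D := by
  apply mem_decompStab_of_le' hD g 1
  intro i x hx
  fin_cases i
  · exact hU x hx
  · exact hW x hx

theorem mem_stab_of_swap {D : Fin 2 → Submodule F V} {k : ℕ} (hD : Cfsg.Geo.IsMDecomposition k D) (g : GLV)
    (hU : ∀ u ∈ D 0, (g : MatV) *ᵥ u ∈ D 1) (hW : ∀ w ∈ D 1, (g : MatV) *ᵥ w ∈ D 0) :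
    g ∈ Cfsg.Geo.decompositionStabilizer D := by
  apply mem_decompStab_of_le' hD g (Equiv.swap 0 1)
  intro i x hx
  fin_cases i
  · simpa using hU x hx
  · simpa using hW x hx

/-- elements of the stabiliser map each block into a block -/
theorem stab_cases {D : Fin 2 → Submodule F V} (g : GLV) (hg : g ∈ Cfsg.Geo.decompositionStabilizer D) :
    ((∀ u ∈ D 0, (g : MatV) *ᵥ u ∈ D 0) ∧ ∀ w ∈ D 1, (g : MatV) *ᵥ w ∈ D 1) ∨
    ((∀ u ∈ D 0, (g : MatV) *ᵥ u ∈ D 1) ∧ ∀ w ∈ D 1, (g : MatV) *ᵥ w ∈ D 0) := by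
  obtain ⟨σ, hσ⟩ := hg
  have hmap : ∀ i, ∀ x ∈ D i, (g : MatV) *ᵥ x ∈ D (σ i) := by
    intro i x hx
    rw [← hσ i]
    exact ⟨x, hx, Matrix.toLin'_apply _ _⟩
  have h01 : ∀ i : Fin 2, i = 0 ∨ i = 1 := by decide
  rcases h01 (σ 0) with h0 | h0
  · have h1 : σ 1 = 1 := by
      rcases h01 (σ 1) with h1 | h1
      · exact absurd (σ.injective (h0.trans h1.symm)) (by decide)
      · exact h1
    left
    exact ⟨fun u hu => h0 ▸ hmap 0 u hu, fun w hw => h1 ▸ hmap 1 w hw⟩
  · have h1 : σ 1 = 0 := by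
      rcases h01 (σ 1) with h1 | h1
      · exact h1
      · exact absurd (σ.injective (h0.trans h1.symm)) (by decide)
    right
    exact ⟨fun u hu => h0 ▸ hmap 0 u hu, fun w hw => h1 ▸ hmap 1 w hw⟩

/-- the short root elements of the stabiliser -/
theorem EE_mem_stab {D : Fin 2 → Submodule F V} (hD : Cfsg.Geo.IsMDecomposition m D)
    (hts : ∀ i, Cfsg.Geo.IsTotallySingularFor (sympForm m F) (D i)) {a b : V} (ha : a ∈ D 0)
    (hb : b ∈ D 1) (hab : sympForm m F a b = 0) :
    EE a b ∈ Cfsg.Geo.decompositionStabilizer D ⊓ spGL m F := by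
  rw [Subgroup.mem_inf]
  refine ⟨mem_stab_of_fix hD _ ?_ ?_, EE_mem a b⟩
  · intro u hu
    rw [EE_mulVec a b hab, hts 0 u hu a ha, zero_smul, add_zero]
    exact (D 0).add_mem hu ((D 0).smul_mem _ ha)
  · intro w hw
    rw [EE_mulVec a b hab, hts 1 w hw b hb, zero_smul, add_zero]
    exact (D 1).add_mem hw ((D 1).smul_mem _ hb)

theorem inE_of_stab {D : Fin 2 → Submodule F V} (hD : Cfsg.Geo.IsMDecomposition m D)
    (hts : ∀ i, Cfsg.Geo.IsTotallySingularFor (sympForm m F) (D i)) {M : Subgroup GLV}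
    (hKM : Cfsg.Geo.decompositionStabilizer D ⊓ spGL m F ≤ M) :
    ∀ a ∈ D 0, ∀ b ∈ D 1, sympForm m F a b = 0 → InE M a b := by
  intro a ha b hb hab
  refine ⟨hab, fun s => hKM (EE_mem_stab hD hts ((D 0).smul_mem s ha) hb ?_)⟩
  rw [sympForm_smul_left, hab, mul_zero]

/-- dual bases of the two blocks -/
theorem exists_dual_bases {D : Fin 2 → Submodule F V} (hD : Cfsg.Geo.IsMDecomposition m D)
    (hts : ∀ i, Cfsg.Geo.IsTotallySingularFor (sympForm m F) (D i)) :
    ∃ (bU : Module.Basis (Fin m) F (D 0)) (bW : Module.Basis (Fin m) F (D 1)),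
      ∀ i j, sympForm m F (bU i : V) (bW j : V) = if i = j then 1 else 0 := by
  have hP := tsPair hD hts
  let bU : Module.Basis (Fin m) F (D 0) := Module.finBasisOfFinrankEq F _ (hD.finrank_eq 0)
  let Φ : (D 1) →ₗ[F] Module.Dual F (D 0) :=
    (D 0).subtype.dualMap ∘ₗ (sympBilin F m).flip ∘ₗ (D 1).subtype
  have hΦ : ∀ (w : D 1) (u : D 0), Φ w u = sympForm m F (u : V) (w : V) := fun w u => rfl
  have hinj : Function.Injective Φ := by
    rw [← LinearMap.ker_eq_bot, eq_bot_iff]
    intro w hw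
    rw [LinearMap.mem_ker] at hw
    rw [Submodule.mem_bot]
    apply Subtype.ext
    show (w : V) = 0
    apply eq_zero_of_sympForm_right m
    intro v
    obtain ⟨u, hu, w', hw', rfl⟩ := hP.split v
    have h1 : sympForm m F u (w : V) = 0 := by
      have := LinearMap.congr_fun hw ⟨u, hu⟩
      rwa [hΦ] at this
    rw [sympForm_add_right, sympForm_swap, h1, hP.tsW _ w.2 w' hw', neg_zero, add_zero]
  have hfin : Module.finrank F (D 1) = Module.finrank F (Module.Dual F (D 0)) := by
    rw [Subspace.dual_finrank_eq, hD.finrank_eq, hD.finrank_eq]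
  have hsurj : Function.Surjective Φ :=
    (LinearMap.injective_iff_surjective_of_finrank_eq_finrank hfin).mp hinj
  let Φe : (D 1) ≃ₗ[F] Module.Dual F (D 0) := LinearEquiv.ofBijective Φ ⟨hinj, hsurj⟩
  refine ⟨bU, bU.dualBasis.map Φe.symm, fun i j => ?_⟩
  rw [Module.Basis.map_apply, ← hΦ]
  have : Φ (Φe.symm (bU.dualBasis j)) = bU.dualBasis j := Φe.apply_symm_apply _
  rw [this, Module.Basis.dualBasis_apply_self]

/-- an element of the stabiliser interchanging the two blocks -/
theorem exists_swap {D : Fin 2 → Submodule F V} (hD : Cfsg.Geo.IsMDecomposition m D)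
    (hts : ∀ i, Cfsg.Geo.IsTotallySingularFor (sympForm m F) (D i)) :
    ∃ J : GLV, J ∈ Cfsg.Geo.decompositionStabilizer D ⊓ spGL m F ∧
      (∀ u ∈ D 0, (J : MatV) *ᵥ u ∈ D 1) ∧ (∀ w ∈ D 1, (J : MatV) *ᵥ w ∈ D 0) := by
  have hP := tsPair hD hts
  obtain ⟨bU, bW, hdual⟩ := exists_dual_bases hD hts
  have hcompl : IsCompl (D 0) (D 1) := by
    constructor
    · rw [Submodule.disjoint_def]
      intro x h0 h1
      exact hP.inter h0 h1
    · rw [codisjoint_iff, eq_top_iff]
      intro z _
      obtain ⟨u, hu, w, hw, rfl⟩ := hP.split z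
      exact Submodule.add_mem_sup hu hw
  let Bv : Module.Basis (Fin m ⊕ Fin m) F V :=
    (bU.prod bW).map (Submodule.prodEquivOfIsCompl (D 0) (D 1) hcompl)
  have hBl : ∀ i, Bv (Sum.inl i) = (bU i : V) := by
    intro i
    show (Submodule.prodEquivOfIsCompl (D 0) (D 1) hcompl) ((bU.prod bW) (Sum.inl i)) = _
    rw [Submodule.coe_prodEquivOfIsCompl', Module.Basis.prod_apply_inl_fst,
      Module.Basis.prod_apply_inl_snd, Submodule.coe_zero, add_zero]
  have hBr : ∀ j, Bv (Sum.inr j) = (bW j : V) := by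
    intro j
    show (Submodule.prodEquivOfIsCompl (D 0) (D 1) hcompl) ((bU.prod bW) (Sum.inr j)) = _
    rw [Submodule.coe_prodEquivOfIsCompl', Module.Basis.prod_apply_inr_fst,
      Module.Basis.prod_apply_inr_snd, Submodule.coe_zero, zero_add]
  let J₀ : V →ₗ[F] V :=
    Bv.constr F (Sum.elim (fun i => (bW i : V)) (fun j => -(bU j : V)))
  have hJl : ∀ i, J₀ (bU i : V) = (bW i : V) := by
    intro i
    rw [← hBl]
    show Bv.constr F _ (Bv (Sum.inl i)) = _
    rw [Module.Basis.constr_basis, Sum.elim_inl]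
  have hJr : ∀ j, J₀ (bW j : V) = -(bU j : V) := by
    intro j
    rw [← hBr]
    show Bv.constr F _ (Bv (Sum.inr j)) = _
    rw [Module.Basis.constr_basis, Sum.elim_inr]
  have hdual' : ∀ i j, sympForm m F (bW j : V) (bU i : V) = -(if i = j then 1 else 0) := by
    intro i j
    rw [sympForm_swap, hdual]
  have key : (sympBilin F m).comp J₀ J₀ = sympBilin F m := by
    apply LinearMap.BilinForm.ext_basis Bv
    intro a c
    rw [LinearMap.BilinForm.comp_apply, sympBilin_apply, sympBilin_apply]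
    rcases a with i | i <;> rcases c with j | j
    · rw [hBl, hBl, hJl, hJl, hts 1 _ (bW i).2 _ (bW j).2, hts 0 _ (bU i).2 _ (bU j).2]
    · rw [hBl, hBr, hJl, hJr, sympForm_neg_right, hdual', hdual, neg_neg]
      by_cases hij : i = j
      · rw [if_pos hij, if_pos hij.symm]
      · rw [if_neg hij, if_neg (fun h => hij h.symm)]
    · rw [hBr, hBl, hJr, hJl, sympForm_swap, sympForm_neg_right, hdual', hdual', neg_neg]
      by_cases hij : i = j
      · rw [if_pos hij, if_pos hij.symm]
      · rw [if_neg hij, if_neg (fun h => hij h.symm)]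
    · rw [hBr, hBr, hJr, hJr, sympForm_neg_right, sympForm_swap, sympForm_neg_right,
        hts 0 _ (bU j).2 _ (bU i).2, hts 1 _ (bW i).2 _ (bW j).2, neg_zero, neg_zero, neg_zero]
  have hiso₀ : ∀ u w, sympForm m F (J₀ u) (J₀ w) = sympForm m F u w := by
    intro u w
    have := LinearMap.congr_fun (LinearMap.congr_fun key u) w
    rwa [LinearMap.BilinForm.comp_apply, sympBilin_apply, sympBilin_apply] at this
  have hinj : Function.Injective J₀ := by
    rw [← LinearMap.ker_eq_bot, eq_bot_iff]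
    intro x hx
    rw [LinearMap.mem_ker] at hx
    rw [Submodule.mem_bot]
    apply eq_zero_of_sympForm_right m
    intro v
    rw [← hiso₀, hx, sympForm_zero_left]
  have hiso : ∀ u w, sympForm m F (LinearEquiv.ofInjectiveEndo J₀ hinj u)
      (LinearEquiv.ofInjectiveEndo J₀ hinj w) = sympForm m F u w := by
    intro u w
    rw [LinearEquiv.coe_ofInjectiveEndo]
    exact hiso₀ u w
  obtain ⟨A, hA⟩ := exists_spGL_of_isometry m _ hiso
  have hAU : ∀ u ∈ D 0, ((A : GLV) : MatV) *ᵥ u ∈ D 1 := by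
    intro u hu
    rw [hA, LinearEquiv.coe_ofInjectiveEndo]
    have hφ : J₀ ∘ₗ (D 0).subtype = (D 1).subtype ∘ₗ (bU.constr F (fun i => bW i)) := by
      apply bU.ext
      intro i
      rw [LinearMap.comp_apply, LinearMap.comp_apply, Module.Basis.constr_basis,
        Submodule.subtype_apply, Submodule.subtype_apply, hJl]
    have := LinearMap.congr_fun hφ ⟨u, hu⟩
    rw [LinearMap.comp_apply, LinearMap.comp_apply, Submodule.subtype_apply] at this
    rw [this]
    exact Submodule.coe_mem _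
  have hAW : ∀ w ∈ D 1, ((A : GLV) : MatV) *ᵥ w ∈ D 0 := by
    intro w hw
    rw [hA, LinearEquiv.coe_ofInjectiveEndo]
    have hφ : J₀ ∘ₗ (D 1).subtype = (D 0).subtype ∘ₗ (bW.constr F (fun j => -bU j)) := by
      apply bW.ext
      intro j
      rw [LinearMap.comp_apply, LinearMap.comp_apply, Module.Basis.constr_basis,
        Submodule.subtype_apply, Submodule.subtype_apply, hJr, Submodule.coe_neg]
    have := LinearMap.congr_fun hφ ⟨w, hw⟩
    rw [LinearMap.comp_apply, LinearMap.comp_apply, Submodule.subtype_apply] at this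
    rw [this]
    exact Submodule.coe_mem _
  refine ⟨A, ?_, hAU, hAW⟩
  rw [Subgroup.mem_inf]
  exact ⟨mem_stab_of_swap hD _ hAU hAW, A.2⟩

/-- an element of `M` outside the stabiliser produces a centre in one of the blocks -/
theorem exists_centre {D : Fin 2 → Submodule F V} (hD : Cfsg.Geo.IsMDecomposition m D)
    (hts : ∀ i, Cfsg.Geo.IsTotallySingularFor (sympForm m F) (D i)) (hm : 5 ≤ m)
    (h2 : (2 : F) ≠ 0) {M : Subgroup GLV} (hMS : M ≤ spGL m F)
    (hKM : Cfsg.Geo.decompositionStabilizer D ⊓ spGL m F ≤ M) (g : GLV) (hgM : g ∈ M)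
    (hg : g ∉ Cfsg.Geo.decompositionStabilizer D) :
    (∃ a ∈ D 0, a ≠ 0 ∧ IsCentre m M a) ∨ (∃ a ∈ D 1, a ≠ 0 ∧ IsCentre m M a) := by
  have hP := tsPair hD hts
  have hK := inE_of_stab hD hts hKM
  have hK' : ∀ a ∈ D 1, ∀ b ∈ D 0, sympForm m F a b = 0 → InE M a b :=
    fun a ha b hb hab => inE_symm (hK b hb a ha (sympForm_zero_of_swap hab))
  have hdU : 5 ≤ Module.finrank F (D 0) := by rw [hD.finrank_eq]; exact hm
  have hdW : 5 ≤ Module.finrank F (D 1) := by rw [hD.finrank_eq]; exact hm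
  by_cases hA : ∃ a ∈ D 0, (g : MatV) *ᵥ a ∉ D 0 ∧ (g : MatV) *ᵥ a ∉ D 1
  · obtain ⟨a, ha, hga0, hga1⟩ := hA
    obtain ⟨p, hp, q, hq, hpq⟩ := hP.split ((g : MatV) *ᵥ a)
    have hp0 : p ≠ 0 := by
      rintro rfl
      rw [zero_add] at hpq
      exact hga1 (hpq ▸ hq)
    have hq0 : q ≠ 0 := by
      rintro rfl
      rw [add_zero] at hpq
      exact hga0 (hpq ▸ hp)
    obtain ⟨b, hbW, hab, p', hp', q', hq', hsum, hor⟩ := hP.good_pair_aux hdW g a p q
    have hE : InE M ((g : MatV) *ᵥ a) ((g : MatV) *ᵥ b) :=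
      inE_conj hMS g hgM (hK a ha b hbW hab)
    rcases hor with h1 | h1
    · left
      exact hP.centre_of_inE hMS h2 hK hdU hp hq hpq hp' hq' hsum hE hp0 h1
    · right
      exact hP.symm.centre_of_inE hMS h2 hK' hdW hq hp (by rw [add_comm]; exact hpq) hq' hp'
        (by rw [add_comm]; exact hsum) hE hq0 h1
  by_cases hB : ∃ b ∈ D 1, (g : MatV) *ᵥ b ∉ D 0 ∧ (g : MatV) *ᵥ b ∉ D 1
  · obtain ⟨b, hb, hgb0, hgb1⟩ := hB
    obtain ⟨p, hp, q, hq, hpq⟩ := hP.split ((g : MatV) *ᵥ b)
    have hp0 : p ≠ 0 := by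
      rintro rfl
      rw [zero_add] at hpq
      exact hgb1 (hpq ▸ hq)
    have hq0 : q ≠ 0 := by
      rintro rfl
      rw [add_zero] at hpq
      exact hgb0 (hpq ▸ hp)
    obtain ⟨a, haU, hba, q', hq', p', hp', hsum, hor⟩ := hP.symm.good_pair_aux hdU g b q p
    have hE : InE M ((g : MatV) *ᵥ b) ((g : MatV) *ᵥ a) :=
      inE_conj hMS g hgM (hK' b hb a haU hba)
    rcases hor with h1 | h1
    · right
      exact hP.symm.centre_of_inE hMS h2 hK' hdW hq hp (by rw [add_comm]; exact hpq) hq' hp'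
        hsum hE hq0 h1
    · left
      exact hP.centre_of_inE hMS h2 hK hdU hp hq hpq hp' hq' (by rw [add_comm]; exact hsum) hE
        hp0 h1
  exfalso
  push Not at hA hB
  have hA' : ∀ u ∈ D 0, Matrix.mulVecLin (g : MatV) u ∈ D 0 ∨
      Matrix.mulVecLin (g : MatV) u ∈ D 1 := by
    intro u hu
    by_cases h : (g : MatV) *ᵥ u ∈ D 0
    · exact Or.inl h
    · exact Or.inr (hA u hu h)
  have hB' : ∀ w ∈ D 1, Matrix.mulVecLin (g : MatV) w ∈ D 0 ∨
      Matrix.mulVecLin (g : MatV) w ∈ D 1 := by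
    intro w hw
    by_cases h : (g : MatV) *ᵥ w ∈ D 0
    · exact Or.inl h
    · exact Or.inr (hB w hw h)
  -- the image of `g` is not contained in one block
  have hnot : ∀ i : Fin 2, ¬ ((∀ u ∈ D 0, (g : MatV) *ᵥ u ∈ D i) ∧
      (∀ w ∈ D 1, (g : MatV) *ᵥ w ∈ D i)) := by
    intro i ⟨h0, h1⟩
    have hall : ∀ z : V, (g : MatV) *ᵥ z ∈ D i := by
      intro z
      obtain ⟨u, hu, w, hw, rfl⟩ := hP.split z
      rw [mulVec_add]
      exact (D i).add_mem (h0 u hu) (h1 w hw)
    have htop : D i = ⊤ := by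
      rw [eq_top_iff]
      intro z _
      have := hall (((g⁻¹ : GLV) : MatV) *ᵥ z)
      rwa [mulVec_mulVec, ← Units.val_mul, mul_inv_cancel, Units.val_one, one_mulVec] at this
    have h3 := hD.finrank_eq i
    rw [htop, finrank_top, Module.finrank_fintype_fun_eq_card, Fintype.card_sum,
      Fintype.card_fin] at h3
    omega
  rcases union_lemma (D 0) (D 0) (D 1) _ hA' with h0 | h0 <;>
    rcases union_lemma (D 1) (D 0) (D 1) _ hB' with h1 | h1
  · exact hnot 0 ⟨h0, h1⟩
  · exact hg (mem_stab_of_fix hD g h0 h1)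
  · exact hg (mem_stab_of_swap hD g h0 h1)
  · exact hnot 1 ⟨h0, h1⟩

/-- The stabiliser of a pair of complementary totally singular subspaces is a maximal subgroup
of the symplectic group in odd characteristic. -/
theorem isMaximalIn {D : Fin 2 → Submodule F V} (hm : 5 ≤ m) (h2 : (2 : F) ≠ 0)
    (hD : Cfsg.Geo.IsMDecomposition m D)
    (hts : ∀ i, Cfsg.Geo.IsTotallySingularFor (sympForm m F) (D i)) :
    Cfsg.Geo.IsMaximalIn (spGL m F) (Cfsg.Geo.decompositionStabilizer D ⊓ spGL m F) := by
  have hP := tsPair hD hts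
  refine ⟨lt_of_le_of_ne inf_le_right ?_, ?_⟩
  · intro h
    have hne : D 0 ≠ ⊥ := by
      intro h0
      have h1 := hD.finrank_eq 0
      rw [h0, finrank_bot] at h1
      omega
    obtain ⟨u, hu, hu0⟩ := (Submodule.ne_bot_iff (D 0)).1 hne
    have hnot : u ∉ (⊥ : Submodule F V) := by
      rw [Submodule.mem_bot]; exact hu0
    obtain ⟨w, hw, huw, -⟩ := hP.dual_vec ⊥ hu bot_le hnot
    have hwu : sympForm m F w u ≠ 0 := by
      rw [sympForm_swap]; exact neg_ne_zero.mpr huw
    have hmem : tvGL m u 1 ∈ Cfsg.Geo.decompositionStabilizer D ⊓ spGL m F := by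
      rw [h]; exact tvGL_mem m _ 1
    rcases stab_cases _ hmem.1 with ⟨-, h1⟩ | ⟨h1, -⟩
    · have h3 := h1 w hw
      rw [tvGL_mulVec, one_mul] at h3
      have h4 : sympForm m F w u • u ∈ D 1 := (Submodule.add_mem_iff_right _ hw).mp h3
      have h5 : u ∈ D 1 := by
        have := (D 1).smul_mem (sympForm m F w u)⁻¹ h4
        rwa [smul_smul, inv_mul_cancel₀ hwu, one_smul] at this
      exact hu0 (hP.inter hu h5)
    · have h3 := h1 u hu
      rw [tvGL_mulVec, sympForm_self, mul_zero, zero_smul, add_zero] at h3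
      exact hu0 (hP.inter hu h3)
  · intro M hKM hMS
    by_cases hMK : M ≤ Cfsg.Geo.decompositionStabilizer D ⊓ spGL m F
    · left
      exact le_antisymm hMK hKM
    right
    apply le_antisymm hMS
    apply spGL_le
    obtain ⟨g, hgM, hgK⟩ := SetLike.not_le_iff_exists.mp hMK
    have hg : g ∉ Cfsg.Geo.decompositionStabilizer D := fun h => hgK ⟨h, hMS hgM⟩
    have hK := inE_of_stab hD hts hKM
    have hK' : ∀ a ∈ D 1, ∀ b ∈ D 0, sympForm m F a b = 0 → InE M a b :=
      fun a ha b hb hab => inE_symm (hK b hb a ha (sympForm_zero_of_swap hab))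
    obtain ⟨J, hJK, hJU, hJW⟩ := exists_swap hD hts
    have hJM : J ∈ M := hKM hJK
    have hback : ∀ z : V, IsCentre m M ((J : MatV) *ᵥ z) → IsCentre m M z := by
      intro z hz
      have := isCentre_mulVec hMS J⁻¹ (M.inv_mem hJM) hz
      rwa [mulVec_mulVec, ← Units.val_mul, inv_mul_cancel, Units.val_one, one_mulVec] at this
    rcases exists_centre hD hts hm h2 hMS hKM g hgM hg with ⟨a, ha, ha0, hC⟩ | ⟨a, ha, ha0, hC⟩
    · have hU : ∀ u ∈ D 0, IsCentre m M u := hP.centres_of_centre hMS hK ha ha0 hC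
      have hW : ∀ w ∈ D 1, IsCentre m M w := fun w hw => hback w (hU _ (hJW w hw))
      exact hP.all_centres hMS hU hW
    · have hW : ∀ w ∈ D 1, IsCentre m M w := hP.symm.centres_of_centre hMS hK' ha ha0 hC
      have hU : ∀ u ∈ D 0, IsCentre m M u := fun u hu => hback u (hW _ (hJU u hu))
      exact hP.all_centres hMS hU hW

end concrete

end Cfsg.Agent.Lib.Helper5.SpPairMax
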