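import Mathlib
import Cfsg.Prelude
import Cfsg.Agent.Lib.Helper5.SUNondegMax
import Cfsg.Agent.Lib.Helper5.SpPairMax

set_option autoImplicit false
set_option linter.unusedSectionVars false
set_option linter.unusedVariables false
open Cfsg

/-! The stabiliser of a pair of complementary totally singular subspaces is maximal in the
special unitary group. -/

namespace Cfsg.Agent.Lib.Helper5.SUPairMax

open Matrix Cfsg.Agent.Lib.Helper5.Herm Cfsg.Agent.Lib.Helper5.HermBridge
  Cfsg.Agent.Lib.Helper5.HermTv Cfsg.Agent.Lib.Helper5.HermGen Cfsg.Agent.Lib.Helper5.HermEich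
  Cfsg.Agent.Lib.Helper5.SUCentres Cfsg.Agent.Lib.Helper5.HermPair

variable {F : Type*} [Field F] [Fintype F] {q : ℕ} (hF : Fintype.card F = q ^ 2) {n : ℕ}

/-- `x` and `y` span a totally isotropic subspace -/
structure EH (q : ℕ) (x y : Fin n → F) : Prop where
  hx : hermForm n F q x x = 0
  hy : hermForm n F q y y = 0
  hyx : hermForm n F q y x = 0

include hF in
theorem EH.hxy {x y : Fin n → F} (h : EH q x y) : hermForm n F q x y = 0 :=
  herm_symm_zero hF n h.hyx

include hF in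
theorem EH.symm {x y : Fin n → F} (h : EH q x y) : EH q y x := ⟨h.hy, h.hx, h.hxy hF⟩

include hF in
theorem EH.ehyp {x y : Fin n → F} (h : EH q x y) (s : F) : EHyp n q x (s • y) 0 where
  hx := h.hx
  hwx := by rw [hermForm_smul_left, h.hyx, mul_zero]
  hb := by
    rw [hermForm_smul_left, hermForm_smul_right, h.hy, mul_zero, mul_zero, add_zero,
      zero_pow (q_ne_zero hF), add_zero]

theorem gact_sub (g : ↥(Cfsg.GU n F q)) (a b : Fin n → F) :
    gact n g (a - b) = gact n g a - gact n g b := mulVec_sub _ a b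

/-- the root element attached to an isotropic pair -/
noncomputable def ee {x y : Fin n → F} (h : EH q x y) (s : F) : ↥(Cfsg.GU n F q) :=
  eich hF n x (s • y) 0 (h.ehyp hF s)

theorem gact_ee {x y : Fin n → F} (h : EH q x y) (s : F) (v : Fin n → F) :
    gact n (ee hF h s) v =
      v + (s * hermForm n F q v x) • y - (s ^ q * hermForm n F q v y) • x := by
  unfold ee
  rw [gact_eich, hermForm_smul_right, zero_mul, zero_sub, neg_smul, smul_smul, ← sub_eq_add_neg,
    mul_comm]

theorem ee_mem_SU {x y : Fin n → F} (h : EH q x y) (s : F) :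
    ((ee hF h s : ↥(Cfsg.GU n F q)) : Matrix.GeneralLinearGroup (Fin n) F) ∈
      Cfsg.GU n F q ⊓ Cfsg.Geo.specialLinear (Fin n) F := by
  rw [mem_SU_iff]
  exact ⟨(ee hF h s).2, det_eich hF n _ _ _ _⟩

/-- the pair `(x, y)` carries a full root subgroup of `M` -/
def InE (M : Subgroup (Matrix.GeneralLinearGroup (Fin n) F)) (x y : Fin n → F) : Prop :=
  ∃ h : EH q x y, ∀ s : F,
    ((ee hF h s : ↥(Cfsg.GU n F q)) : Matrix.GeneralLinearGroup (Fin n) F) ∈ M

theorem inE_symm {M : Subgroup (Matrix.GeneralLinearGroup (Fin n) F)} {x y : Fin n → F}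
    (h : InE hF M x y) : InE hF M y x := by
  obtain ⟨hxy, hM⟩ := h
  refine ⟨hxy.symm hF, fun s => ?_⟩
  have e : ee hF (hxy.symm hF) s = ee hF hxy (-(s ^ q)) := by
    apply ext_gact
    intro v
    rw [gact_ee, gact_ee, pow_q_neg hF, pow_q_pow_q hF]
    module
  rw [e]
  exact hM _

theorem inE_smul_right {M : Subgroup (Matrix.GeneralLinearGroup (Fin n) F)} {x y : Fin n → F}
    (c : F) (h : InE hF M x y) : InE hF M x (c • y) := by
  obtain ⟨hxy, hM⟩ := h
  have h' : EH q x (c • y) := ⟨hxy.hx, by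
    rw [hermForm_smul_left, hermForm_smul_right, hxy.hy, mul_zero, mul_zero], by
    rw [hermForm_smul_left, hxy.hyx, mul_zero]⟩
  refine ⟨h', fun s => ?_⟩
  have e : ee hF h' s = ee hF hxy (s * c) := by
    apply ext_gact
    intro v
    rw [gact_ee, gact_ee, hermForm_smul_right, mul_pow]
    module
  rw [e]
  exact hM _

theorem inE_conj {M : Subgroup (Matrix.GeneralLinearGroup (Fin n) F)}
    (hMS : M ≤ Cfsg.GU n F q ⊓ Cfsg.Geo.specialLinear (Fin n) F) {x y : Fin n → F}
    (g : Matrix.GeneralLinearGroup (Fin n) F) (hg : g ∈ M) (h : InE hF M x y) :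
    InE hF M ((g : Matrix (Fin n) (Fin n) F) *ᵥ x) ((g : Matrix (Fin n) (Fin n) F) *ᵥ y) := by
  obtain ⟨hxy, hM⟩ := h
  have hgU : g ∈ Cfsg.GU n F q := (hMS hg).1
  have h' : EH q ((g : Matrix (Fin n) (Fin n) F) *ᵥ x) ((g : Matrix (Fin n) (Fin n) F) *ᵥ y) :=
    ⟨(hgU x x).trans hxy.hx, (hgU y y).trans hxy.hy, (hgU y x).trans hxy.hyx⟩
  refine ⟨h', fun s => ?_⟩
  have e : ee hF h' s = (⟨g, hgU⟩ : ↥(Cfsg.GU n F q)) * ee hF hxy s *
      (⟨g, hgU⟩ : ↥(Cfsg.GU n F q))⁻¹ := by
    apply ext_gact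
    intro v
    rw [gact_mul, gact_mul, gact_ee, gact_ee, herm_gact_inv_left, herm_gact_inv_left, gact_sub,
      gact_add, gact_gact_inv, gact_smul, gact_smul]
  rw [e]
  exact M.mul_mem (M.mul_mem hg (hM s)) (M.inv_mem hg)

/-- difference of two pairs with the same first entry -/
theorem inE_sub {M : Subgroup (Matrix.GeneralLinearGroup (Fin n) F)} {x y y' : Fin n → F}
    (h : InE hF M x y) (h' : InE hF M x y') (hyy : hermForm n F q y y' = 0) :
    InE hF M x (y' - y) := by
  obtain ⟨hxy, hM⟩ := h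
  obtain ⟨hxy', hM'⟩ := h'
  have hy'y : hermForm n F q y' y = 0 := herm_symm_zero hF n hyy
  have h'' : EH q x (y' - y) := ⟨hxy.hx, by
    rw [sub_eq_add_neg, hermForm_add_left, hermForm_add_right hF, hermForm_add_right hF,
      hermForm_neg_left, hermForm_neg_left, hermForm_neg_right hF, hermForm_neg_right hF,
      hxy'.hy, hxy.hy, hyy, hy'y]
    ring, by
    rw [sub_eq_add_neg, hermForm_add_left, hermForm_neg_left, hxy'.hyx, hxy.hyx]
    ring⟩
  refine ⟨h'', fun s => ?_⟩
  have e : ee hF h'' s * ee hF hxy s = ee hF hxy' s := by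
    apply ext_gact
    intro v
    rw [gact_mul, gact_ee, gact_ee, gact_ee]
    simp only [sub_eq_add_neg, hermForm_add_left, hermForm_add_right hF, hermForm_neg_left,
      hermForm_neg_right hF, hermForm_smul_left, hxy.hx, hxy.hyx, hxy.hxy hF, hxy'.hxy hF, hxy.hy,
      hyy, mul_zero, add_zero, neg_zero]
    module
  have : ee hF h'' s = ee hF hxy' s * (ee hF hxy s)⁻¹ := by
    rw [← e, mul_inv_cancel_right]
  rw [this, Subgroup.coe_mul, Subgroup.coe_inv]
  exact M.mul_mem (hM' s) (M.inv_mem (hM s))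

open scoped commutatorElement in
/-- two root subgroups through `a` spanning a non-isotropic space produce the transvections
with centre `a` -/
theorem isCentre_of_inE {M : Subgroup (Matrix.GeneralLinearGroup (Fin n) F)} {a y b : Fin n → F}
    (h1 : InE hF M a y) (h3 : InE hF M a b) (hyb : hermForm n F q y b ≠ 0) :
    IsCentre hF n M a := by
  obtain ⟨hay, hM⟩ := h1
  obtain ⟨hab, hM'⟩ := h3
  refine ⟨hay.hx, fun c hc => ?_⟩
  have hc1 : c ^ q = -c := (qcond_iso n hay.hx c).mp hc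
  obtain ⟨l, hl⟩ := exists_sub_conj hF c hc1
  set s : F := -l / hermForm n F q y b with hs
  have hsb : s * hermForm n F q y b = -l := by rw [hs, div_mul_cancel₀ _ hyb]
  have hval : hermForm n F q (s • y) ((1 : F) • b) - hermForm n F q ((1 : F) • b) (s • y) = c := by
    rw [one_smul, hermForm_smul_left, hermForm_smul_right, ← hermForm_conj hF n y b, ← mul_pow, hsb,
      pow_q_neg hF, ← hl]
    ring
  have hc' : QCond n q a
      (hermForm n F q (s • y) ((1 : F) • b) - hermForm n F q ((1 : F) • b) (s • y)) := by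
    rw [hval]; exact hc
  have hcomm := commutator_eich hF n a (s • y) ((1 : F) • b) 0 0 (hay.ehyp hF s) (hab.ehyp hF 1) hc'
  have e : qtv hF n a c hc = ⁅ee hF hay s, ee hF hab 1⁆ := by
    unfold ee
    rw [hcomm]
    exact qtv_congr hF n rfl hval.symm _ _
  rw [e, commutatorElement_def, Subgroup.coe_mul, Subgroup.coe_mul, Subgroup.coe_mul,
    Subgroup.coe_inv, Subgroup.coe_inv]
  exact M.mul_mem (M.mul_mem (M.mul_mem (hM s) (hM' 1)) (M.inv_mem (hM s))) (M.inv_mem (hM' 1))

include hF in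
/-- a vector non-orthogonal to `x` but orthogonal to a subspace not containing `x` -/
theorem dual_vec (p : Submodule F (Fin n → F)) {x : Fin n → F} (hx : x ∉ p) :
    ∃ z : Fin n → F, hermForm n F q x z ≠ 0 ∧ ∀ y ∈ p, hermForm n F q y z = 0 := by
  obtain ⟨φ, hφx, hφp⟩ := Submodule.exists_dual_map_eq_bot_of_notMem hx inferInstance
  have hφ : ∀ y : Fin n → F,
      hermForm n F q y (fun i => (φ (Pi.single i 1)) ^ q) = φ y := by
    intro y
    rw [LinearMap.pi_apply_eq_sum_univ φ y]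
    unfold hermForm
    apply Finset.sum_congr rfl
    intro i _
    rw [pow_q_pow_q hF, smul_eq_mul]
    congr 2
    ext j
    simp [Pi.single_apply, eq_comm]
  refine ⟨fun i => (φ (Pi.single i 1)) ^ q, ?_, ?_⟩
  · rw [hφ]; exact hφx
  · intro y hy
    rw [hφ]
    have : φ y ∈ p.map φ := ⟨y, hy, rfl⟩
    rw [hφp, Submodule.mem_bot] at this
    exact this

/-- a pair of complementary totally singular subspaces -/
structure TSPair (q : ℕ) (U W : Submodule F (Fin n → F)) : Prop where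
  tsU : ∀ u ∈ U, ∀ u' ∈ U, hermForm n F q u u' = 0
  tsW : ∀ w ∈ W, ∀ w' ∈ W, hermForm n F q w w' = 0
  split : ∀ z : Fin n → F, ∃ u ∈ U, ∃ w ∈ W, u + w = z

theorem TSPair.symm {U W : Submodule F (Fin n → F)} (h : TSPair q U W) : TSPair q W U where
  tsU := h.tsW
  tsW := h.tsU
  split z := by
    obtain ⟨u, hu, w, hw, rfl⟩ := h.split z
    exact ⟨w, hw, u, hu, add_comm _ _⟩

include hF in
/-- the dual vector can be taken in the complementary subspace -/
theorem TSPair.dual_vec {U W : Submodule F (Fin n → F)} (h : TSPair q U W)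
    (p : Submodule F (Fin n → F)) {x : Fin n → F} (hxU : x ∈ U) (hpU : p ≤ U) (hx : x ∉ p) :
    ∃ w ∈ W, hermForm n F q x w ≠ 0 ∧ ∀ y ∈ p, hermForm n F q y w = 0 := by
  obtain ⟨z, hxz, hpz⟩ := SUPairMax.dual_vec hF p hx
  obtain ⟨u, hu, w, hw, rfl⟩ := h.split z
  refine ⟨w, hw, ?_, ?_⟩
  · rwa [hermForm_add_right hF, h.tsU x hxU u hu, zero_add] at hxz
  · intro y hy
    have := hpz y hy
    rwa [hermForm_add_right hF, h.tsU y (hpU hy) u hu, zero_add] at this

include hF in
theorem TSPair.inter {U W : Submodule F (Fin n → F)} (h : TSPair q U W) {x : Fin n → F}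
    (hU : x ∈ U) (hW : x ∈ W) : x = 0 := by
  by_contra hx0
  have hnot : x ∉ (⊥ : Submodule F (Fin n → F)) := by
    rw [Submodule.mem_bot]; exact hx0
  obtain ⟨w, hw, hxw, -⟩ := h.dual_vec hF ⊥ hU bot_le hnot
  exact hxw (h.tsW x hW w hw)

include hF in
/-- the main step: a root subgroup of `M` whose `U`-components are independent yields a centre
in `U` -/
theorem TSPair.centre_of_inE {U W : Submodule F (Fin n → F)} (h : TSPair q U W)
    {M : Subgroup (Matrix.GeneralLinearGroup (Fin n) F)}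
    (hMS : M ≤ Cfsg.GU n F q ⊓ Cfsg.Geo.specialLinear (Fin n) F)
    (hK : ∀ a ∈ U, ∀ b ∈ W, hermForm n F q b a = 0 → InE hF M a b)
    (hdim : 5 ≤ Module.finrank F U) {x y xU xW yU yW : Fin n → F} (hxU : xU ∈ U) (hxW : xW ∈ W)
    (hx : xU + xW = x) (hyU : yU ∈ U) (hyW : yW ∈ W) (hy : yU + yW = y) (hE : InE hF M x y)
    (hxU0 : xU ≠ 0) (hyUx : yU ∉ Submodule.span F {xU}) :
    ∃ a ∈ U, a ≠ 0 ∧ IsCentre hF n M a := by
  have hnot : xU ∉ (⊥ : Submodule F (Fin n → F)) := by
    rw [Submodule.mem_bot]; exact hxU0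
  obtain ⟨b', hb'W, hxb', -⟩ := h.dual_vec hF ⊥ hxU bot_le hnot
  have hspan : Submodule.span F ({xU} : Set (Fin n → F)) ≤ U := by
    rw [Submodule.span_le]
    intro z hz
    rw [Set.mem_singleton_iff] at hz
    rw [hz]; exact hxU
  obtain ⟨b, hbW, hyb, hb⟩ := h.dual_vec hF _ hyU hspan hyUx
  have hxUb : hermForm n F q xU b = 0 := hb xU (Submodule.subset_span (by simp))
  obtain ⟨a, haU, ha0, ha⟩ := exists_ne_zero_perp hF U 4 ![x, y, b, b'] (by omega)
  have hax : hermForm n F q a x = 0 := ha 0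
  have hay : hermForm n F q a y = 0 := ha 1
  have hab : hermForm n F q a b = 0 := ha 2
  have hab' : hermForm n F q a b' = 0 := ha 3
  have hxa := herm_symm_zero hF n hax
  have hya := herm_symm_zero hF n hay
  have hba := herm_symm_zero hF n hab
  have hb'a := herm_symm_zero hF n hab'
  have hxb : hermForm n F q x b = 0 := by
    rw [← hx, hermForm_add_left, hxUb, h.tsW xW hxW b hbW, add_zero]
  have hyb2 : hermForm n F q y b ≠ 0 := by
    rw [← hy, hermForm_add_left, h.tsW yW hyW b hbW, add_zero]; exact hyb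
  have hxb'2 : hermForm n F q x b' ≠ 0 := by
    rw [← hx, hermForm_add_left, h.tsW xW hxW b' hb'W, add_zero]; exact hxb'
  obtain ⟨hEH, hMab⟩ := hK a haU b hbW hba
  have h3 := inE_conj hF hMS _ (hMab 1) hE
  have e1 : (((ee hF hEH 1 : ↥(Cfsg.GU n F q)) : Matrix.GeneralLinearGroup (Fin n) F) :
      Matrix (Fin n) (Fin n) F) *ᵥ x = x := by
    have := gact_ee hF hEH 1 x
    rw [hxa, hxb, mul_zero, mul_zero, zero_smul, zero_smul, add_zero, sub_zero] at this
    exact this
  have e2 : (((ee hF hEH 1 : ↥(Cfsg.GU n F q)) : Matrix.GeneralLinearGroup (Fin n) F) :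
      Matrix (Fin n) (Fin n) F) *ᵥ y = y - hermForm n F q y b • a := by
    have := gact_ee hF hEH 1 y
    rw [hya, mul_zero, zero_smul, add_zero, one_pow, one_mul] at this
    exact this
  rw [e1, e2] at h3
  obtain ⟨hxy, hMxy⟩ := hE
  have h4 := inE_sub hF ⟨hxy, hMxy⟩ h3 (by
    rw [sub_eq_add_neg, hermForm_add_right hF, hermForm_neg_right hF, hermForm_smul_right, hya,
      mul_zero, neg_zero, add_zero]
    exact hxy.hy)
  have e3 : y - hermForm n F q y b • a - y = (-hermForm n F q y b) • a := by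
    rw [neg_smul]; abel
  rw [e3] at h4
  have h5 : InE hF M x a := by
    have := inE_smul_right hF (-hermForm n F q y b)⁻¹ h4
    rwa [smul_smul, inv_mul_cancel₀ (neg_ne_zero.mpr hyb2), one_smul] at this
  exact ⟨a, haU, ha0, isCentre_of_inE hF (inE_symm hF h5) (hK a haU b' hb'W hb'a) hxb'2⟩

include hF in
/-- one centre in `U` makes all of `U` consist of centres -/
theorem TSPair.centres_of_centre {U W : Submodule F (Fin n → F)} (h : TSPair q U W)
    {M : Subgroup (Matrix.GeneralLinearGroup (Fin n) F)}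
    (hMS : M ≤ Cfsg.GU n F q ⊓ Cfsg.Geo.specialLinear (Fin n) F)
    (hK : ∀ a ∈ U, ∀ b ∈ W, hermForm n F q b a = 0 → InE hF M a b) {u₀ : Fin n → F}
    (hu₀ : u₀ ∈ U) (hu₀0 : u₀ ≠ 0) (hC : IsCentre hF n M u₀) : ∀ u ∈ U, IsCentre hF n M u := by
  intro u hu
  by_cases hspan : u ∈ Submodule.span F ({u₀} : Set (Fin n → F))
  · obtain ⟨c, rfl⟩ := Submodule.mem_span_singleton.mp hspan
    exact isCentre_smul hF c hC
  have hnot : u₀ ∉ Submodule.span F ({u - u₀} : Set (Fin n → F)) := by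
    intro hmem
    obtain ⟨c, hc⟩ := Submodule.mem_span_singleton.mp hmem
    by_cases hc0 : c = 0
    · rw [hc0, zero_smul] at hc
      exact hu₀0 hc.symm
    · apply hspan
      rw [Submodule.mem_span_singleton]
      refine ⟨c⁻¹ * (1 + c), ?_⟩
      rw [smul_sub] at hc
      have h3 : c • u = (1 + c) • u₀ := by
        rw [add_smul, one_smul]
        exact sub_eq_iff_eq_add.mp hc
      rw [mul_smul, ← h3, smul_smul, inv_mul_cancel₀ hc0, one_smul]
  have hsub : u - u₀ ∈ U := U.sub_mem hu hu₀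
  have hle : Submodule.span F ({u - u₀} : Set (Fin n → F)) ≤ U := by
    rw [Submodule.span_le]
    intro z hz
    rw [Set.mem_singleton_iff] at hz
    rw [hz]; exact hsub
  obtain ⟨b, hbW, hu₀b, hb⟩ := h.dual_vec hF _ hu₀ hle hnot
  have hb1 : hermForm n F q (u - u₀) b = 0 := hb _ (Submodule.subset_span (by simp))
  obtain ⟨hEH, hM⟩ := hK _ hsub b hbW (herm_symm_zero hF n hb1)
  have h4 := isCentre_gact hF hMS _ (hM ((-(hermForm n F q u₀ b)⁻¹) ^ q)) hC
  have e : (((ee hF hEH ((-(hermForm n F q u₀ b)⁻¹) ^ q) : ↥(Cfsg.GU n F q)) :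
      Matrix.GeneralLinearGroup (Fin n) F) : Matrix (Fin n) (Fin n) F) *ᵥ u₀ = u := by
    have := gact_ee hF hEH ((-(hermForm n F q u₀ b)⁻¹) ^ q) u₀
    rw [h.tsU u₀ hu₀ _ hsub, mul_zero, zero_smul, add_zero, pow_q_pow_q hF, neg_mul,
      inv_mul_cancel₀ hu₀b, neg_smul, one_smul, sub_neg_eq_add, add_sub_cancel] at this
    exact this
  rw [e] at h4
  exact h4

include hF in
/-- if all vectors of `U` and of `W` are centres then all isotropic vectors are -/
theorem TSPair.all_centres {U W : Submodule F (Fin n → F)} (h : TSPair q U W)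
    {M : Subgroup (Matrix.GeneralLinearGroup (Fin n) F)}
    (hMS : M ≤ Cfsg.GU n F q ⊓ Cfsg.Geo.specialLinear (Fin n) F)
    (hU : ∀ u ∈ U, IsCentre hF n M u) (hW : ∀ w ∈ W, IsCentre hF n M w)
    (z : Fin n → F) (hz : hermForm n F q z z = 0) : IsCentre hF n M z := by
  obtain ⟨u, hu, w, hw, rfl⟩ := h.split z
  by_cases hu0 : u = 0
  · rw [hu0, zero_add]; exact hW w hw
  have hiso : hermForm n F q u w = -hermForm n F q w u := by
    rw [hermForm_add_left, hermForm_add_right hF, hermForm_add_right hF, h.tsU u hu u hu,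
      h.tsW w hw w hw] at hz
    linear_combination hz
  by_cases hwu : hermForm n F q w u = 0
  · have huw : hermForm n F q u w = 0 := herm_symm_zero hF n hwu
    have hnot : u ∉ (⊥ : Submodule F (Fin n → F)) := by
      rw [Submodule.mem_bot]; exact hu0
    obtain ⟨w', hw', huw', -⟩ := h.dual_vec hF ⊥ hu bot_le hnot
    obtain ⟨ε, hε0, hε⟩ := exists_trace_zero hF
    -- rescale `w'` so that `f(u, w'') = ε`
    set w'' : Fin n → F := ((ε / hermForm n F q u w') ^ q) • w' with hw''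
    have hw''W : w'' ∈ W := W.smul_mem _ hw'
    have huw'' : hermForm n F q u w'' = ε := by
      rw [hw'', hermForm_smul_right, pow_q_pow_q hF, div_mul_cancel₀ _ huw']
    have hw''u : hermForm n F q w'' u = -ε := by
      rw [← hermForm_conj hF n u w'', huw'', hε]
    have hc : ((-ε)⁻¹) ^ q = -(-ε)⁻¹ := by
      rw [inv_pow, pow_q_neg hF, hε, neg_neg, inv_neg, neg_neg]
    have h1 : IsCentre hF n M (w'' + u) := by
      have := isCentre_hyp hF hMS (hU u hu) (hW w'' hw''W) (-ε)⁻¹ hc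
      rwa [hw''u, inv_mul_cancel₀ (neg_ne_zero.mpr hε0), one_smul] at this
    have h2 : IsCentre hF n M (w - w'') := hW _ (W.sub_mem hw hw''W)
    have h3 := isCentre_hyp hF hMS h2 h1 (-ε)⁻¹ hc
    have e1 : hermForm n F q (w'' + u) (w - w'') = -ε := by
      rw [sub_eq_add_neg, hermForm_add_left, hermForm_add_right hF, hermForm_add_right hF,
        hermForm_neg_right hF, hermForm_neg_right hF, h.tsW w'' hw''W w hw,
        h.tsW w'' hw''W w'' hw''W, huw, huw'']
      ring
    rw [e1, inv_mul_cancel₀ (neg_ne_zero.mpr hε0), one_smul] at h3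
    have e2 : w'' + u + (w - w'') = u + w := by abel
    rw [e2] at h3
    exact h3
  · have hc : ((hermForm n F q w u)⁻¹) ^ q = -(hermForm n F q w u)⁻¹ := by
      rw [inv_pow, hermForm_conj hF, hiso, inv_neg]
    have h1 := isCentre_hyp hF hMS (hU u hu) (hW w hw) (hermForm n F q w u)⁻¹ hc
    rw [inv_mul_cancel₀ hwu, one_smul, add_comm] at h1
    exact h1

include hF in
/-- if `g a` has non-zero components `p`, `q` in both blocks, some `g b` with `b ⊥ a` in the other
block has a component independent of the corresponding component of `g a` -/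
theorem TSPair.good_pair_aux {U W : Submodule F (Fin n → F)} (h : TSPair q U W)
    (hdim : 5 ≤ Module.finrank F W) (g : Matrix.GeneralLinearGroup (Fin n) F)
    (a : Fin n → F) {p₀ q₀ : Fin n → F} (hp : p₀ ∈ U) (hq : q₀ ∈ W) (hp0 : p₀ ≠ 0) (hq0 : q₀ ≠ 0) :
    ∃ b ∈ W, hermForm n F q b a = 0 ∧ ∃ p' ∈ U, ∃ q' ∈ W,
      p' + q' = (g : Matrix (Fin n) (Fin n) F) *ᵥ b ∧
      (p' ∉ Submodule.span F ({p₀} : Set (Fin n → F)) ∨
        q' ∉ Submodule.span F ({q₀} : Set (Fin n → F))) := by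
  have hnotp : p₀ ∉ (⊥ : Submodule F (Fin n → F)) := by
    rw [Submodule.mem_bot]; exact hp0
  have hnotq : q₀ ∉ (⊥ : Submodule F (Fin n → F)) := by
    rw [Submodule.mem_bot]; exact hq0
  obtain ⟨wp, hwp, hpwp, -⟩ := h.dual_vec hF ⊥ hp bot_le hnotp
  obtain ⟨uq, huq, hquq, -⟩ := (h.symm).dual_vec hF ⊥ hq bot_le hnotq
  obtain ⟨b, hbW, hb0, hb⟩ := exists_ne_zero_ker W 3
    (LinearMap.pi ![hermSesq hF n a,
      (hermSesq hF n wp) ∘ₗ Matrix.toLin' (g : Matrix (Fin n) (Fin n) F),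
      (hermSesq hF n uq) ∘ₗ Matrix.toLin' (g : Matrix (Fin n) (Fin n) F)]) (by omega)
  have hba : hermForm n F q b a = 0 := by
    have := congrFun hb 0
    simpa using this
  have hb1 : hermForm n F q ((g : Matrix (Fin n) (Fin n) F) *ᵥ b) wp = 0 := by
    have := congrFun hb 1
    simpa using this
  have hb2 : hermForm n F q ((g : Matrix (Fin n) (Fin n) F) *ᵥ b) uq = 0 := by
    have := congrFun hb 2
    simpa using this
  obtain ⟨p', hp', q', hq', hsum⟩ := h.split ((g : Matrix (Fin n) (Fin n) F) *ᵥ b)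
  refine ⟨b, hbW, hba, p', hp', q', hq', hsum, ?_⟩
  by_contra hcon
  push Not at hcon
  obtain ⟨c, hc⟩ := Submodule.mem_span_singleton.mp hcon.1
  obtain ⟨d, hd⟩ := Submodule.mem_span_singleton.mp hcon.2
  rw [← hsum, ← hc, ← hd, hermForm_add_left, hermForm_smul_left, hermForm_smul_left] at hb1 hb2
  rw [h.tsW q₀ hq wp hwp, mul_zero, add_zero] at hb1
  rw [h.tsU p₀ hp uq huq, mul_zero, zero_add] at hb2
  have hc0 : c = 0 := by
    rcases mul_eq_zero.mp hb1 with h1 | h1
    · exact h1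
    · exact absurd h1 hpwp
  have hd0 : d = 0 := by
    rcases mul_eq_zero.mp hb2 with h1 | h1
    · exact h1
    · exact absurd h1 hquq
  rw [hc0, zero_smul] at hc
  rw [hd0, zero_smul] at hd
  rw [← hc, ← hd, add_zero] at hsum
  apply hb0
  have hinj : Function.Injective (Matrix.toLin' (g : Matrix (Fin n) (Fin n) F)) := by
    intro a b hab
    have := congrArg (fun y => ((g⁻¹ : Matrix.GeneralLinearGroup (Fin n) F) :
      Matrix (Fin n) (Fin n) F) *ᵥ y) hab
    simp only [Matrix.toLin'_apply, mulVec_mulVec] at this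
    rw [← Units.val_mul, inv_mul_cancel, Units.val_one, one_mulVec, one_mulVec] at this
    exact this
  apply hinj
  rw [Matrix.toLin'_apply, ← hsum, map_zero]

section concrete

theorem gl_injective (g : Matrix.GeneralLinearGroup (Fin n) F) :
    Function.Injective (Matrix.toLin' (g : Matrix (Fin n) (Fin n) F)) := by
  intro a b hab
  have := congrArg (fun y => ((g⁻¹ : Matrix.GeneralLinearGroup (Fin n) F) :
    Matrix (Fin n) (Fin n) F) *ᵥ y) hab
  simp only [Matrix.toLin'_apply, mulVec_mulVec] at this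
  rw [← Units.val_mul, inv_mul_cancel, Units.val_one, one_mulVec, one_mulVec] at this
  exact this

theorem tsPair {D : Fin 2 → Submodule F (Fin n → F)} {k : ℕ}
    (hD : Cfsg.Geo.IsMDecomposition k D)
    (hts : ∀ i, Cfsg.Geo.IsTotallySingularFor (hermForm n F q) (D i)) :
    TSPair q (D 0) (D 1) where
  tsU := hts 0
  tsW := hts 1
  split z := by
    have hle : (⊤ : Submodule F (Fin n → F)) ≤ D 0 ⊔ D 1 := by
      rw [← hD.iSup_eq_top]
      apply iSup_le
      intro i
      fin_cases i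
      · exact le_sup_left
      · exact le_sup_right
    exact Submodule.mem_sup.mp (hle (Submodule.mem_top : z ∈ ⊤))

theorem mem_decompStab_of_le' {D : Fin 2 → Submodule F (Fin n → F)} {k : ℕ}
    (hD : Cfsg.Geo.IsMDecomposition k D)
    (g : Matrix.GeneralLinearGroup (Fin n) F) (σ : Equiv.Perm (Fin 2))
    (h : ∀ i, ∀ x ∈ D i, (g : Matrix (Fin n) (Fin n) F) *ᵥ x ∈ D (σ i)) :
    g ∈ Cfsg.Geo.decompositionStabilizer D := by
  refine ⟨σ, fun i => ?_⟩
  apply Submodule.eq_of_le_of_finrank_eq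
  · rintro _ ⟨x, hx, rfl⟩
    rw [Matrix.toLin'_apply]
    exact h i x hx
  · rw [← (Submodule.equivMapOfInjective _ (gl_injective g) (D i)).finrank_eq,
      hD.finrank_eq, hD.finrank_eq]

theorem mem_stab_of_fix {D : Fin 2 → Submodule F (Fin n → F)} {k : ℕ}
    (hD : Cfsg.Geo.IsMDecomposition k D) (g : Matrix.GeneralLinearGroup (Fin n) F)
    (hU : ∀ u ∈ D 0, (g : Matrix (Fin n) (Fin n) F) *ᵥ u ∈ D 0)
    (hW : ∀ w ∈ D 1, (g : Matrix (Fin n) (Fin n) F) *ᵥ w ∈ D 1) :
    g ∈ Cfsg.Geo.decompositionStabilizer D := by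
  apply mem_decompStab_of_le' hD g 1
  intro i x hx
  fin_cases i
  · exact hU x hx
  · exact hW x hx

theorem mem_stab_of_swap {D : Fin 2 → Submodule F (Fin n → F)} {k : ℕ}
    (hD : Cfsg.Geo.IsMDecomposition k D) (g : Matrix.GeneralLinearGroup (Fin n) F)
    (hU : ∀ u ∈ D 0, (g : Matrix (Fin n) (Fin n) F) *ᵥ u ∈ D 1)
    (hW : ∀ w ∈ D 1, (g : Matrix (Fin n) (Fin n) F) *ᵥ w ∈ D 0) :
    g ∈ Cfsg.Geo.decompositionStabilizer D := by
  apply mem_decompStab_of_le' hD g (Equiv.swap 0 1)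
  intro i x hx
  fin_cases i
  · simpa using hU x hx
  · simpa using hW x hx

/-- elements of the stabiliser map each block into a block -/
theorem stab_cases {D : Fin 2 → Submodule F (Fin n → F)}
    (g : Matrix.GeneralLinearGroup (Fin n) F) (hg : g ∈ Cfsg.Geo.decompositionStabilizer D) :
    ((∀ u ∈ D 0, (g : Matrix (Fin n) (Fin n) F) *ᵥ u ∈ D 0) ∧
      ∀ w ∈ D 1, (g : Matrix (Fin n) (Fin n) F) *ᵥ w ∈ D 1) ∨
    ((∀ u ∈ D 0, (g : Matrix (Fin n) (Fin n) F) *ᵥ u ∈ D 1) ∧
      ∀ w ∈ D 1, (g : Matrix (Fin n) (Fin n) F) *ᵥ w ∈ D 0) := by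
  obtain ⟨σ, hσ⟩ := hg
  have hmap : ∀ i, ∀ x ∈ D i, (g : Matrix (Fin n) (Fin n) F) *ᵥ x ∈ D (σ i) := by
    intro i x hx
    rw [← hσ i]
    exact ⟨x, hx, Matrix.toLin'_apply _ _⟩
  have h01 : ∀ i : Fin 2, i = 0 ∨ i = 1 := by decide
  rcases h01 (σ 0) with h0 | h0
  · have h1 : σ 1 = 1 := by
      rcases h01 (σ 1) with h1 | h1
      · exact absurd (σ.injective (h0.trans h1.symm)) (by decide)
      · exact h1
    left
    exact ⟨fun u hu => h0 ▸ hmap 0 u hu, fun w hw => h1 ▸ hmap 1 w hw⟩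
  · have h1 : σ 1 = 0 := by
      rcases h01 (σ 1) with h1 | h1
      · exact h1
      · exact absurd (σ.injective (h0.trans h1.symm)) (by decide)
    right
    exact ⟨fun u hu => h0 ▸ hmap 0 u hu, fun w hw => h1 ▸ hmap 1 w hw⟩

/-- the root elements of the stabiliser -/
theorem inE_of_stab {D : Fin 2 → Submodule F (Fin n → F)} {k : ℕ}
    (hD : Cfsg.Geo.IsMDecomposition k D)
    (hts : ∀ i, Cfsg.Geo.IsTotallySingularFor (hermForm n F q) (D i))
    {M : Subgroup (Matrix.GeneralLinearGroup (Fin n) F)}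
    (hKM : Cfsg.Geo.decompositionStabilizer D ⊓
      (Cfsg.GU n F q ⊓ Cfsg.Geo.specialLinear (Fin n) F) ≤ M) :
    ∀ a ∈ D 0, ∀ b ∈ D 1, hermForm n F q b a = 0 → InE hF M a b := by
  intro a ha b hb hba
  have hEH : EH q a b := ⟨hts 0 a ha a ha, hts 1 b hb b hb, hba⟩
  refine ⟨hEH, fun s => hKM ?_⟩
  rw [Subgroup.mem_inf]
  refine ⟨mem_stab_of_fix hD _ ?_ ?_, ee_mem_SU hF hEH s⟩
  · intro u hu
    have := gact_ee hF hEH s u
    rw [hts 0 u hu a ha, mul_zero, zero_smul, add_zero] at this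
    rw [show (((ee hF hEH s : ↥(Cfsg.GU n F q)) : Matrix.GeneralLinearGroup (Fin n) F) :
      Matrix (Fin n) (Fin n) F) *ᵥ u = _ from this]
    exact (D 0).sub_mem hu ((D 0).smul_mem _ ha)
  · intro w hw
    have := gact_ee hF hEH s w
    rw [hts 1 w hw b hb, mul_zero, zero_smul, sub_zero] at this
    rw [show (((ee hF hEH s : ↥(Cfsg.GU n F q)) : Matrix.GeneralLinearGroup (Fin n) F) :
      Matrix (Fin n) (Fin n) F) *ᵥ w = _ from this]
    exact (D 1).add_mem hw ((D 1).smul_mem _ hb)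

/-- an element of `M` outside the stabiliser produces a centre in one of the blocks -/
theorem exists_centre {D : Fin 2 → Submodule F (Fin n → F)} {k : ℕ}
    (hD : Cfsg.Geo.IsMDecomposition k D)
    (hts : ∀ i, Cfsg.Geo.IsTotallySingularFor (hermForm n F q) (D i)) (hk : 5 ≤ k)
    {M : Subgroup (Matrix.GeneralLinearGroup (Fin n) F)}
    (hMS : M ≤ Cfsg.GU n F q ⊓ Cfsg.Geo.specialLinear (Fin n) F)
    (hKM : Cfsg.Geo.decompositionStabilizer D ⊓
      (Cfsg.GU n F q ⊓ Cfsg.Geo.specialLinear (Fin n) F) ≤ M)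
    (g : Matrix.GeneralLinearGroup (Fin n) F) (hgM : g ∈ M)
    (hg : g ∉ Cfsg.Geo.decompositionStabilizer D) :
    (∃ a ∈ D 0, a ≠ 0 ∧ IsCentre hF n M a) ∨ (∃ a ∈ D 1, a ≠ 0 ∧ IsCentre hF n M a) := by
  have hP : TSPair q (D 0) (D 1) := tsPair hD hts
  have hK := inE_of_stab hF hD hts hKM
  have hK' : ∀ a ∈ D 1, ∀ b ∈ D 0, hermForm n F q b a = 0 → InE hF M a b :=
    fun a ha b hb hba => inE_symm hF (hK b hb a ha (herm_symm_zero hF n hba))
  have hdU : 5 ≤ Module.finrank F (D 0) := by rw [hD.finrank_eq]; exact hk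
  have hdW : 5 ≤ Module.finrank F (D 1) := by rw [hD.finrank_eq]; exact hk
  by_cases hA : ∃ a ∈ D 0, (g : Matrix (Fin n) (Fin n) F) *ᵥ a ∉ D 0 ∧
      (g : Matrix (Fin n) (Fin n) F) *ᵥ a ∉ D 1
  · obtain ⟨a, ha, hga0, hga1⟩ := hA
    obtain ⟨p, hp, r, hr, hpr⟩ := hP.split ((g : Matrix (Fin n) (Fin n) F) *ᵥ a)
    have hp0 : p ≠ 0 := by
      rintro rfl
      rw [zero_add] at hpr
      exact hga1 (hpr ▸ hr)
    have hr0 : r ≠ 0 := by
      rintro rfl
      rw [add_zero] at hpr
      exact hga0 (hpr ▸ hp)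
    obtain ⟨b, hbW, hba, p', hp', r', hr', hsum, hor⟩ :=
      hP.good_pair_aux hF hdW g a hp hr hp0 hr0
    have hE : InE hF M ((g : Matrix (Fin n) (Fin n) F) *ᵥ a)
        ((g : Matrix (Fin n) (Fin n) F) *ᵥ b) := inE_conj hF hMS g hgM (hK a ha b hbW hba)
    rcases hor with h1 | h1
    · left
      exact hP.centre_of_inE hF hMS hK hdU hp hr hpr hp' hr' hsum hE hp0 h1
    · right
      exact hP.symm.centre_of_inE hF hMS hK' hdW hr hp (by rw [add_comm]; exact hpr) hr' hp'
        (by rw [add_comm]; exact hsum) hE hr0 h1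
  by_cases hB : ∃ b ∈ D 1, (g : Matrix (Fin n) (Fin n) F) *ᵥ b ∉ D 0 ∧
      (g : Matrix (Fin n) (Fin n) F) *ᵥ b ∉ D 1
  · obtain ⟨b, hb, hgb0, hgb1⟩ := hB
    obtain ⟨p, hp, r, hr, hpr⟩ := hP.split ((g : Matrix (Fin n) (Fin n) F) *ᵥ b)
    have hp0 : p ≠ 0 := by
      rintro rfl
      rw [zero_add] at hpr
      exact hgb1 (hpr ▸ hr)
    have hr0 : r ≠ 0 := by
      rintro rfl
      rw [add_zero] at hpr
      exact hgb0 (hpr ▸ hp)
    obtain ⟨a, haU, hab, r', hr', p', hp', hsum, hor⟩ :=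
      hP.symm.good_pair_aux hF hdU g b hr hp hr0 hp0
    have hE : InE hF M ((g : Matrix (Fin n) (Fin n) F) *ᵥ b)
        ((g : Matrix (Fin n) (Fin n) F) *ᵥ a) := inE_conj hF hMS g hgM (hK' b hb a haU hab)
    rcases hor with h1 | h1
    · right
      exact hP.symm.centre_of_inE hF hMS hK' hdW hr hp (by rw [add_comm]; exact hpr) hr' hp'
        hsum hE hr0 h1
    · left
      exact hP.centre_of_inE hF hMS hK hdU hp hr hpr hp' hr' (by rw [add_comm]; exact hsum) hE
        hp0 h1
  exfalso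
  push Not at hA hB
  have hA' : ∀ u ∈ D 0, Matrix.mulVecLin (g : Matrix (Fin n) (Fin n) F) u ∈ D 0 ∨
      Matrix.mulVecLin (g : Matrix (Fin n) (Fin n) F) u ∈ D 1 := by
    intro u hu
    by_cases h : (g : Matrix (Fin n) (Fin n) F) *ᵥ u ∈ D 0
    · exact Or.inl h
    · exact Or.inr (hA u hu h)
  have hB' : ∀ w ∈ D 1, Matrix.mulVecLin (g : Matrix (Fin n) (Fin n) F) w ∈ D 0 ∨
      Matrix.mulVecLin (g : Matrix (Fin n) (Fin n) F) w ∈ D 1 := by
    intro w hw
    by_cases h : (g : Matrix (Fin n) (Fin n) F) *ᵥ w ∈ D 0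
    · exact Or.inl h
    · exact Or.inr (hB w hw h)
  have hnot : ∀ i : Fin 2, ¬ ((∀ u ∈ D 0, (g : Matrix (Fin n) (Fin n) F) *ᵥ u ∈ D i) ∧
      (∀ w ∈ D 1, (g : Matrix (Fin n) (Fin n) F) *ᵥ w ∈ D i)) := by
    intro i ⟨h0, h1⟩
    have hall : ∀ z : Fin n → F, (g : Matrix (Fin n) (Fin n) F) *ᵥ z ∈ D i := by
      intro z
      obtain ⟨u, hu, w, hw, rfl⟩ := hP.split z
      rw [mulVec_add]
      exact (D i).add_mem (h0 u hu) (h1 w hw)
    -- `D i` is everything, but the other block is non-zero and meets it trivially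
    have hj : ∀ x : Fin n → F, x ∈ D 0 → x ∈ D 1 → x = 0 := fun x h0 h1 => hP.inter hF h0 h1
    have hall' : ∀ z : Fin n → F, z ∈ D i := by
      intro z
      have := hall (((g⁻¹ : Matrix.GeneralLinearGroup (Fin n) F) :
        Matrix (Fin n) (Fin n) F) *ᵥ z)
      rwa [mulVec_mulVec, ← Units.val_mul, mul_inv_cancel, Units.val_one, one_mulVec] at this
    have hne : ∀ j : Fin 2, D j ≠ ⊥ := by
      intro j h0
      have h1 := hD.finrank_eq j
      rw [h0, finrank_bot] at h1
      omega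
    fin_cases i
    · obtain ⟨x, hx, hx0⟩ := (Submodule.ne_bot_iff (D 1)).1 (hne 1)
      exact hx0 (hj x (hall' x) hx)
    · obtain ⟨x, hx, hx0⟩ := (Submodule.ne_bot_iff (D 0)).1 (hne 0)
      exact hx0 (hj x hx (hall' x))
  rcases Cfsg.Agent.Lib.Helper5.SpNondegMax.union_lemma (D 0) (D 0) (D 1) _ hA' with h0 | h0 <;>
    rcases Cfsg.Agent.Lib.Helper5.SpNondegMax.union_lemma (D 1) (D 0) (D 1) _ hB' with h1 | h1
  · exact hnot 0 ⟨h0, h1⟩
  · exact hg (mem_stab_of_fix hD g h0 h1)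
  · exact hg (mem_stab_of_swap hD g h0 h1)
  · exact hnot 1 ⟨h0, h1⟩

include hF in
/-- dual bases of the two blocks -/
theorem exists_dual_bases {D : Fin 2 → Submodule F (Fin n → F)} {k : ℕ}
    (hD : Cfsg.Geo.IsMDecomposition k D)
    (hts : ∀ i, Cfsg.Geo.IsTotallySingularFor (hermForm n F q) (D i)) :
    ∃ (bU : Module.Basis (Fin k) F (D 0)) (bW : Module.Basis (Fin k) F (D 1)),
      ∀ i j, hermForm n F q (bU i : Fin n → F) (bW j : Fin n → F) = if i = j then 1 else 0 := by
  have hP : TSPair q (D 0) (D 1) := tsPair hD hts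
  let bU : Module.Basis (Fin k) F (D 0) := Module.finBasisOfFinrankEq F _ (hD.finrank_eq 0)
  have hli : LinearIndependent F (fun i => (bU i : Fin n → F)) :=
    bU.linearIndependent.map' (D 0).subtype (Submodule.ker_subtype _)
  have hex : ∀ j, ∃ w ∈ D 1, ∀ i,
      hermForm n F q (bU i : Fin n → F) w = if i = j then 1 else 0 := by
    intro j
    have hnot := hli.notMem_span_image (s := {i | i ≠ j}) (x := j) (by simp)
    have hle : Submodule.span F ((fun i => (bU i : Fin n → F)) '' {i | i ≠ j}) ≤ D 0 := by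
      rw [Submodule.span_le]
      rintro _ ⟨i, -, rfl⟩
      exact (bU i).2
    obtain ⟨w, hw, hjw, hpw⟩ := hP.dual_vec hF _ (bU j).2 hle hnot
    refine ⟨((hermForm n F q (bU j : Fin n → F) w)⁻¹ ^ q) • w, (D 1).smul_mem _ hw, fun i => ?_⟩
    rw [hermForm_smul_right, pow_q_pow_q hF]
    by_cases hij : i = j
    · rw [if_pos hij, hij, inv_mul_cancel₀ hjw]
    · rw [if_neg hij, hpw _ (Submodule.subset_span ⟨i, hij, rfl⟩), mul_zero]
  choose wv hwv hdual using hex
  have hliW : LinearIndependent F (fun j => (⟨wv j, hwv j⟩ : D 1)) := by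
    rw [Fintype.linearIndependent_iff]
    intro c hc i
    have h1 : ∑ j, c j • wv j = 0 := by
      have := congrArg Subtype.val hc
      simpa using this
    have h2 : hermSesq hF n (∑ j, c j • wv j) (bU i : Fin n → F) = 0 := by
      rw [h1, map_zero, LinearMap.zero_apply]
    rw [map_sum, LinearMap.sum_apply] at h2
    have h3 : ∀ j ∈ Finset.univ, (hermSesq hF n (c j • wv j)) (bU i : Fin n → F) =
        if j = i then (c i) ^ q else 0 := by
      intro j _
      rw [LinearMap.map_smulₛₗ, LinearMap.smul_apply, hermSesq_apply, hdual, sigma_apply,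
        smul_eq_mul]
      by_cases hji : j = i
      · rw [if_pos hji, if_pos hji.symm, hji, mul_one]
      · rw [if_neg hji, if_neg (fun h => hji h.symm), mul_zero]
    rw [Finset.sum_congr rfl h3, Finset.sum_ite_eq' Finset.univ i, if_pos (Finset.mem_univ _)] at h2
    exact pow_eq_zero_iff (q_ne_zero hF) |>.mp h2
  have hcard : Fintype.card (Fin k) = Module.finrank F (D 1) := by
    rw [Fintype.card_fin, hD.finrank_eq]
  refine ⟨bU, basisOfLinearIndependentOfCardEqFinrank' _ hliW hcard, fun i j => ?_⟩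
  rw [coe_basisOfLinearIndependentOfCardEqFinrank']
  exact hdual j i

/-- the determinant of an anti-diagonal block matrix with scalar blocks -/
theorem det_antidiag (k : ℕ) (c e : F) (hce : -(c * e) = 1) :
    (Matrix.fromBlocks (0 : Matrix (Fin k) (Fin k) F) (c • (1 : Matrix (Fin k) (Fin k) F))
      (e • (1 : Matrix (Fin k) (Fin k) F)) (0 : Matrix (Fin k) (Fin k) F)).det = 1 := by
  have h1 : Matrix.fromBlocks (0 : Matrix (Fin k) (Fin k) F) (c • (1 : Matrix (Fin k) (Fin k) F))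
      (e • (1 : Matrix (Fin k) (Fin k) F)) (0 : Matrix (Fin k) (Fin k) F) =
      Matrix.fromBlocks (c • (1 : Matrix (Fin k) (Fin k) F)) (0 : Matrix (Fin k) (Fin k) F)
        (0 : Matrix (Fin k) (Fin k) F) (e • (1 : Matrix (Fin k) (Fin k) F)) *
        Matrix.fromBlocks (0 : Matrix (Fin k) (Fin k) F) (1 : Matrix (Fin k) (Fin k) F)
          (1 : Matrix (Fin k) (Fin k) F) (0 : Matrix (Fin k) (Fin k) F) := by
    rw [Matrix.fromBlocks_multiply]
    simp
  have h2 : Matrix.fromBlocks (0 : Matrix (Fin k) (Fin k) F) (1 : Matrix (Fin k) (Fin k) F)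
      (1 : Matrix (Fin k) (Fin k) F) (0 : Matrix (Fin k) (Fin k) F) *
      Matrix.fromBlocks (1 : Matrix (Fin k) (Fin k) F) (0 : Matrix (Fin k) (Fin k) F)
        (1 : Matrix (Fin k) (Fin k) F) (1 : Matrix (Fin k) (Fin k) F) =
      Matrix.fromBlocks (1 : Matrix (Fin k) (Fin k) F) (1 : Matrix (Fin k) (Fin k) F)
        (1 : Matrix (Fin k) (Fin k) F) (0 : Matrix (Fin k) (Fin k) F) := by
    rw [Matrix.fromBlocks_multiply]
    simp
  have h3 : (Matrix.fromBlocks (0 : Matrix (Fin k) (Fin k) F) (1 : Matrix (Fin k) (Fin k) F)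
      (1 : Matrix (Fin k) (Fin k) F) (0 : Matrix (Fin k) (Fin k) F)).det = (-1) ^ k := by
    have := congrArg Matrix.det h2
    rw [Matrix.det_mul, Matrix.det_fromBlocks_zero₁₂, Matrix.det_one, mul_one, mul_one,
      Matrix.det_fromBlocks_one₁₁] at this
    rw [this]
    simp [Matrix.det_neg]
  rw [h1, Matrix.det_mul, Matrix.det_fromBlocks_zero₁₂, h3, Matrix.det_smul, Matrix.det_smul,
    Matrix.det_one, Fintype.card_fin, mul_one, mul_one, ← mul_pow, ← mul_pow]
  have : c * e * -1 = 1 := by rw [mul_neg_one]; exact hce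
  rw [this, one_pow]

include hF in
/-- an element of the stabiliser interchanging the two blocks -/
theorem exists_swap {D : Fin 2 → Submodule F (Fin n → F)} {k : ℕ}
    (hD : Cfsg.Geo.IsMDecomposition k D)
    (hts : ∀ i, Cfsg.Geo.IsTotallySingularFor (hermForm n F q) (D i)) :
    ∃ J : Matrix.GeneralLinearGroup (Fin n) F,
      J ∈ Cfsg.Geo.decompositionStabilizer D ⊓
        (Cfsg.GU n F q ⊓ Cfsg.Geo.specialLinear (Fin n) F) ∧
      (∀ u ∈ D 0, (J : Matrix (Fin n) (Fin n) F) *ᵥ u ∈ D 1) ∧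
      (∀ w ∈ D 1, (J : Matrix (Fin n) (Fin n) F) *ᵥ w ∈ D 0) := by
  have hP : TSPair q (D 0) (D 1) := tsPair hD hts
  obtain ⟨bU, bW, hdual⟩ := exists_dual_bases hF hD hts
  obtain ⟨ε, hε0, hε⟩ := exists_trace_zero hF
  have hdual' : ∀ i j, hermForm n F q (bW j : Fin n → F) (bU i : Fin n → F) =
      if i = j then 1 else 0 := by
    intro i j
    rw [← hermForm_conj hF, hdual]
    by_cases hij : i = j
    · rw [if_pos hij, one_pow]
    · rw [if_neg hij, zero_pow (q_ne_zero hF)]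
  have hcompl : IsCompl (D 0) (D 1) := by
    constructor
    · rw [Submodule.disjoint_def]
      intro x h0 h1
      exact hP.inter hF h0 h1
    · rw [codisjoint_iff, eq_top_iff]
      intro z _
      obtain ⟨u, hu, w, hw, rfl⟩ := hP.split z
      exact Submodule.add_mem_sup hu hw
  let Bv : Module.Basis (Fin k ⊕ Fin k) F (Fin n → F) :=
    (bU.prod bW).map (Submodule.prodEquivOfIsCompl (D 0) (D 1) hcompl)
  have hBl : ∀ i, Bv (Sum.inl i) = (bU i : Fin n → F) := by
    intro i
    show (Submodule.prodEquivOfIsCompl (D 0) (D 1) hcompl) ((bU.prod bW) (Sum.inl i)) = _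
    rw [Submodule.coe_prodEquivOfIsCompl', Module.Basis.prod_apply_inl_fst,
      Module.Basis.prod_apply_inl_snd, Submodule.coe_zero, add_zero]
  have hBr : ∀ j, Bv (Sum.inr j) = (bW j : Fin n → F) := by
    intro j
    show (Submodule.prodEquivOfIsCompl (D 0) (D 1) hcompl) ((bU.prod bW) (Sum.inr j)) = _
    rw [Submodule.coe_prodEquivOfIsCompl', Module.Basis.prod_apply_inr_fst,
      Module.Basis.prod_apply_inr_snd, Submodule.coe_zero, zero_add]
  let J₀ : (Fin n → F) →ₗ[F] (Fin n → F) :=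
    Bv.constr F (Sum.elim (fun i => ε • Bv (Sum.inr i)) (fun j => (-ε⁻¹) • Bv (Sum.inl j)))
  have hJl' : ∀ i, J₀ (Bv (Sum.inl i)) = ε • Bv (Sum.inr i) := by
    intro i
    show Bv.constr F _ (Bv (Sum.inl i)) = _
    rw [Module.Basis.constr_basis, Sum.elim_inl]
  have hJr' : ∀ j, J₀ (Bv (Sum.inr j)) = (-ε⁻¹) • Bv (Sum.inl j) := by
    intro j
    show Bv.constr F _ (Bv (Sum.inr j)) = _
    rw [Module.Basis.constr_basis, Sum.elim_inr]
  have hJl : ∀ i, J₀ (bU i : Fin n → F) = ε • (bW i : Fin n → F) := by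
    intro i
    rw [← hBl, hJl', hBr]
  have hJr : ∀ j, J₀ (bW j : Fin n → F) = (-ε⁻¹) • (bU j : Fin n → F) := by
    intro j
    rw [← hBr, hJr', hBl]
  have hεq : (-ε⁻¹) ^ q = ε⁻¹ := by
    rw [pow_q_neg hF, inv_pow, hε, inv_neg, neg_neg]
  have key : ((hermSesq hF n).comp J₀).compl₂ J₀ = hermSesq hF n := by
    apply LinearMap.ext_basis Bv Bv
    intro a c
    rw [LinearMap.compl₂_apply, LinearMap.comp_apply, hermSesq_apply, hermSesq_apply]
    rcases a with i | i <;> rcases c with j | j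
    · rw [hBl, hBl, hJl, hJl, hermForm_smul_left, hermForm_smul_right,
        hts 1 _ (bW j).2 _ (bW i).2, hts 0 _ (bU j).2 _ (bU i).2, mul_zero, mul_zero]
    · rw [hBl, hBr, hJl, hJr, hermForm_smul_left, hermForm_smul_right, hdual, hdual', hε]
      by_cases hij : j = i
      · rw [if_pos hij, if_pos hij.symm]
        field_simp
      · rw [if_neg hij, if_neg (fun h => hij h.symm), mul_zero, mul_zero]
    · rw [hBr, hBl, hJr, hJl, hermForm_smul_left, hermForm_smul_right, hdual, hdual', hεq]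
      by_cases hij : j = i
      · rw [if_pos hij, if_pos hij.symm]
        field_simp
      · rw [if_neg hij, if_neg (fun h => hij h.symm), mul_zero, mul_zero]
    · rw [hBr, hBr, hJr, hJr, hermForm_smul_left, hermForm_smul_right,
        hts 0 _ (bU j).2 _ (bU i).2, hts 1 _ (bW j).2 _ (bW i).2, mul_zero, mul_zero]
  have hiso₀ : ∀ u w, hermForm n F q (J₀ u) (J₀ w) = hermForm n F q u w := by
    intro u w
    have := LinearMap.congr_fun (LinearMap.congr_fun key w) u
    rwa [LinearMap.compl₂_apply, LinearMap.comp_apply, hermSesq_apply, hermSesq_apply] at this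
  have hinj : Function.Injective J₀ := by
    rw [← LinearMap.ker_eq_bot, eq_bot_iff]
    intro x hx
    rw [LinearMap.mem_ker] at hx
    rw [Submodule.mem_bot]
    by_contra hx0
    have hnot : x ∉ (⊥ : Submodule F (Fin n → F)) := by
      rw [Submodule.mem_bot]; exact hx0
    obtain ⟨z, hxz, -⟩ := SUPairMax.dual_vec hF ⊥ hnot
    apply hxz
    rw [← hiso₀, hx, hermForm_zero_left]
  have hiso : ∀ u w, hermForm n F q (LinearEquiv.ofInjectiveEndo J₀ hinj u)
      (LinearEquiv.ofInjectiveEndo J₀ hinj w) = hermForm n F q u w := by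
    intro u w
    rw [LinearEquiv.coe_ofInjectiveEndo]
    exact hiso₀ u w
  obtain ⟨A, hA⟩ := exists_GU_of_isometry n _ hiso
  have hAJ : ∀ v, ((A : Matrix.GeneralLinearGroup (Fin n) F) : Matrix (Fin n) (Fin n) F) *ᵥ v =
      J₀ v := by
    intro v
    rw [hA, LinearEquiv.coe_ofInjectiveEndo]
  have hAU : ∀ u ∈ D 0,
      ((A : Matrix.GeneralLinearGroup (Fin n) F) : Matrix (Fin n) (Fin n) F) *ᵥ u ∈ D 1 := by
    intro u hu
    rw [hAJ]
    have hφ : J₀ ∘ₗ (D 0).subtype = (D 1).subtype ∘ₗ (bU.constr F (fun i => ε • bW i)) := by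
      apply bU.ext
      intro i
      rw [LinearMap.comp_apply, LinearMap.comp_apply, Module.Basis.constr_basis,
        Submodule.subtype_apply, Submodule.subtype_apply, hJl, Submodule.coe_smul]
    have := LinearMap.congr_fun hφ ⟨u, hu⟩
    rw [LinearMap.comp_apply, LinearMap.comp_apply, Submodule.subtype_apply] at this
    rw [this]
    exact Submodule.coe_mem _
  have hAW : ∀ w ∈ D 1,
      ((A : Matrix.GeneralLinearGroup (Fin n) F) : Matrix (Fin n) (Fin n) F) *ᵥ w ∈ D 0 := by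
    intro w hw
    rw [hAJ]
    have hφ : J₀ ∘ₗ (D 1).subtype = (D 0).subtype ∘ₗ (bW.constr F (fun j => (-ε⁻¹) • bU j)) := by
      apply bW.ext
      intro j
      rw [LinearMap.comp_apply, LinearMap.comp_apply, Module.Basis.constr_basis,
        Submodule.subtype_apply, Submodule.subtype_apply, hJr, Submodule.coe_smul]
    have := LinearMap.congr_fun hφ ⟨w, hw⟩
    rw [LinearMap.comp_apply, LinearMap.comp_apply, Submodule.subtype_apply] at this
    rw [this]
    exact Submodule.coe_mem _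
  -- the determinant
  have hmat : LinearMap.toMatrix Bv Bv J₀ =
      Matrix.fromBlocks (0 : Matrix (Fin k) (Fin k) F) ((-ε⁻¹) • (1 : Matrix (Fin k) (Fin k) F))
        (ε • (1 : Matrix (Fin k) (Fin k) F)) (0 : Matrix (Fin k) (Fin k) F) := by
    ext a c
    rw [LinearMap.toMatrix_apply]
    rcases a with i | i <;> rcases c with j | j
    · rw [hJl', map_smul, Module.Basis.repr_self, Matrix.fromBlocks_apply₁₁]
      simp
    · rw [hJr', map_smul, Module.Basis.repr_self, Matrix.fromBlocks_apply₁₂]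
      simp only [Finsupp.smul_single, smul_eq_mul, mul_one, Finsupp.single_apply, Sum.inl.injEq,
        Matrix.smul_apply, Matrix.one_apply]
      by_cases hij : i = j
      · rw [if_pos hij.symm, if_pos hij, mul_one]
      · rw [if_neg (fun h => hij h.symm), if_neg hij, mul_zero]
    · rw [hJl', map_smul, Module.Basis.repr_self, Matrix.fromBlocks_apply₂₁]
      simp [Matrix.one_apply, Finsupp.single_apply, eq_comm]
    · rw [hJr', map_smul, Module.Basis.repr_self, Matrix.fromBlocks_apply₂₂]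
      simp
  have hAmat : ((A : Matrix.GeneralLinearGroup (Fin n) F) : Matrix (Fin n) (Fin n) F) =
      LinearMap.toMatrix' J₀ := by
    rw [ext_iff_mulVec]
    intro v
    rw [hAJ, LinearMap.toMatrix'_mulVec]
  have hdet : ((A : Matrix.GeneralLinearGroup (Fin n) F) : Matrix (Fin n) (Fin n) F).det = 1 := by
    rw [hAmat, LinearMap.det_toMatrix', ← LinearMap.det_toMatrix Bv, hmat]
    apply det_antidiag
    rw [neg_mul, inv_mul_cancel₀ hε0, neg_neg]
  refine ⟨A, ?_, hAU, hAW⟩
  rw [Subgroup.mem_inf, mem_SU_iff]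
  exact ⟨mem_stab_of_swap hD _ hAU hAW, A.2, hdet⟩

include hF in
/-- The stabiliser of a pair of complementary totally singular subspaces is a maximal subgroup
of the special unitary group. -/
theorem isMaximalIn {D : Fin 2 → Submodule F (Fin n → F)} {k : ℕ} (hk : 5 ≤ k) (hn : 3 ≤ n)
    (h32 : ¬ (n = 3 ∧ q = 2)) (hD : Cfsg.Geo.IsMDecomposition k D)
    (hts : ∀ i, Cfsg.Geo.IsTotallySingularFor (hermForm n F q) (D i)) :
    Cfsg.Geo.IsMaximalIn (Cfsg.GU n F q ⊓ Cfsg.Geo.specialLinear (Fin n) F)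
      (Cfsg.Geo.decompositionStabilizer D ⊓
        (Cfsg.GU n F q ⊓ Cfsg.Geo.specialLinear (Fin n) F)) := by
  have hP : TSPair q (D 0) (D 1) := tsPair hD hts
  refine ⟨lt_of_le_of_ne inf_le_right ?_, ?_⟩
  · intro h
    have hne : D 0 ≠ ⊥ := by
      intro h0
      have h1 := hD.finrank_eq 0
      rw [h0, finrank_bot] at h1
      omega
    obtain ⟨u, hu, hu0⟩ := (Submodule.ne_bot_iff (D 0)).1 hne
    have hnot : u ∉ (⊥ : Submodule F (Fin n → F)) := by
      rw [Submodule.mem_bot]; exact hu0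
    obtain ⟨w, hw, huw, -⟩ := hP.dual_vec hF ⊥ hu bot_le hnot
    have hwu : hermForm n F q w u ≠ 0 := fun h0 => huw (herm_symm_zero hF n h0)
    have huu : hermForm n F q u u = 0 := hts 0 u hu u hu
    obtain ⟨c, hc0, hc⟩ := exists_trace_zero hF
    have hcq : QCond n q u c := (qcond_iso n huu c).mpr hc
    have hmem : ((qtv hF n u c hcq : ↥(Cfsg.GU n F q)) : Matrix.GeneralLinearGroup (Fin n) F) ∈
        Cfsg.Geo.decompositionStabilizer D ⊓
          (Cfsg.GU n F q ⊓ Cfsg.Geo.specialLinear (Fin n) F) := by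
      rw [h, mem_SU_iff]
      refine ⟨(qtv hF n u c hcq).2, ?_⟩
      show (unitaryTransvection n q u c).det = 1
      rw [det_tv, huu, mul_zero, add_zero]
    have hact : ∀ x : Fin n → F, (((qtv hF n u c hcq : ↥(Cfsg.GU n F q)) :
        Matrix.GeneralLinearGroup (Fin n) F) : Matrix (Fin n) (Fin n) F) *ᵥ x =
        x + (c * hermForm n F q x u) • u := fun x => gact_qtv hF n u c hcq x
    rcases stab_cases _ hmem.1 with ⟨-, h1⟩ | ⟨h1, -⟩
    · have h3 := h1 w hw
      rw [hact] at h3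
      have h4 : (c * hermForm n F q w u) • u ∈ D 1 := (Submodule.add_mem_iff_right _ hw).mp h3
      have h5 : u ∈ D 1 := by
        have := (D 1).smul_mem (c * hermForm n F q w u)⁻¹ h4
        rwa [smul_smul, inv_mul_cancel₀ (mul_ne_zero hc0 hwu), one_smul] at this
      exact hu0 (hP.inter hF hu h5)
    · have h3 := h1 u hu
      rw [hact, huu, mul_zero, zero_smul, add_zero] at h3
      exact hu0 (hP.inter hF hu h3)
  · intro M hKM hMS
    by_cases hMK : M ≤ Cfsg.Geo.decompositionStabilizer D ⊓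
        (Cfsg.GU n F q ⊓ Cfsg.Geo.specialLinear (Fin n) F)
    · left
      exact le_antisymm hMK hKM
    right
    apply le_antisymm hMS
    apply SU_le hF hn h32
    obtain ⟨g, hgM, hgK⟩ := SetLike.not_le_iff_exists.mp hMK
    have hg : g ∉ Cfsg.Geo.decompositionStabilizer D := fun h => hgK ⟨h, hMS hgM⟩
    have hK := inE_of_stab hF hD hts hKM
    have hK' : ∀ a ∈ D 1, ∀ b ∈ D 0, hermForm n F q b a = 0 → InE hF M a b :=
      fun a ha b hb hba => inE_symm hF (hK b hb a ha (herm_symm_zero hF n hba))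
    obtain ⟨J, hJK, hJU, hJW⟩ := exists_swap hF hD hts
    have hJM : J ∈ M := hKM hJK
    have hback : ∀ z : Fin n → F, IsCentre hF n M ((J : Matrix (Fin n) (Fin n) F) *ᵥ z) →
        IsCentre hF n M z := by
      intro z hz
      have := isCentre_gact hF hMS J⁻¹ (M.inv_mem hJM) hz
      rwa [mulVec_mulVec, ← Units.val_mul, inv_mul_cancel, Units.val_one, one_mulVec] at this
    rcases exists_centre hF hD hts hk hMS hKM g hgM hg with ⟨a, ha, ha0, hC⟩ | ⟨a, ha, ha0, hC⟩
    · have hU : ∀ u ∈ D 0, IsCentre hF n M u := hP.centres_of_centre hF hMS hK ha ha0 hC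
      have hW : ∀ w ∈ D 1, IsCentre hF n M w := fun w hw => hback w (hU _ (hJW w hw))
      exact hP.all_centres hF hMS hU hW
    · have hW : ∀ w ∈ D 1, IsCentre hF n M w :=
        hP.symm.centres_of_centre hF hMS hK' ha ha0 hC
      have hU : ∀ u ∈ D 0, IsCentre hF n M u := fun u hu => hback u (hW _ (hJU u hu))
      exact hP.all_centres hF hMS hU hW

end concrete

end Cfsg.Agent.Lib.Helper5.SUPairMax
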