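import Mathlib
import Cfsg.Agent.S0508
import Cfsg.Agent.Lib.Helper5.PSL2Tori
import Cfsg.Agent.Lib.Helper4.SL2Ord4
import Cfsg.Agent.Lib.Helper4.K4Field
import Cfsg.Agent.Lib.Helper9.NCycArith

set_option autoImplicit false
set_option linter.unusedSectionVars false
set_option linter.unusedVariables false
set_option linter.unusedSimpArgs false
set_option linter.style.haveILetI false
set_option maxHeartbeats 1000000

/-! End pieces for S3396: the spectrum condition on `PSL₂(F)` forces `|F| = 7`; a simple CIT group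
with dihedral Sylow 2-subgroups is `PSL₂(F)`, `F` odd; transfer to a given field of order `7`. -/

namespace Cfsg.Agent.Lib.Helper5.S3396End

/-- the admissible element orders of S3396 -/
def Good (n : ℕ) : Prop := (∃ k : ℕ, n = 2 ^ k) ∨ (n.Prime ∧ n ≠ 5)

theorem good_of_even {n : ℕ} (h : Good n) (he : Even n) : ∃ k : ℕ, n = 2 ^ k := by
  rcases h with h | ⟨hp, _⟩
  · exact h
  · refine ⟨1, ?_⟩
    rw [pow_one]
    exact ((Nat.Prime.even_iff hp).mp he)

theorem good_of_odd {n : ℕ} (h : Good n) (ho : Odd n) (h3 : 3 ≤ n) : n.Prime ∧ n ≠ 5 := by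
  rcases h with ⟨k, hk⟩ | h
  · exfalso
    rcases Nat.eq_zero_or_pos k with h0 | hpos
    · rw [h0, pow_zero] at hk; omega
    · have : Even n := by
        rw [hk]; exact (Nat.even_pow).mpr ⟨even_two, hpos.ne'⟩
      exact (Nat.not_even_iff_odd.mpr ho) this
  · exact h

theorem three_dvd_two_pow_even_sub (j : ℕ) : 3 ∣ 2 ^ (2 * j) - 1 := by
  have h : 2 ^ (2 * j) % 3 = 1 := by
    rw [pow_mul, Nat.pow_mod]; norm_num
  have h1 : 1 ≤ 2 ^ (2 * j) := Nat.one_le_two_pow
  omega

theorem three_dvd_two_pow_odd_add (j : ℕ) : 3 ∣ 2 ^ (2 * j + 1) + 1 := by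
  have h : 2 ^ (2 * j) % 3 = 1 := by
    rw [pow_mul, Nat.pow_mod]; norm_num
  have h2 : 2 ^ (2 * j + 1) = 2 * 2 ^ (2 * j) := by rw [pow_succ]; ring
  omega

theorem eq_three_of_prime_of_dvd {n : ℕ} (hn : n.Prime) (h : 3 ∣ n) : n = 3 :=
  ((Nat.prime_dvd_prime_iff_eq Nat.prime_three hn).mp h).symm

/-- pure arithmetic core, odd case: `q = 2a+1 = p^f`, `a`, `a+1`, `p` good, `q ≥ 5` ⇒ `q = 7` -/
theorem arith_odd {p f a : ℕ} (hp : p.Prime) (hp2 : p ≠ 2) (hf : f ≠ 0)
    (hq : p ^ f = 2 * a + 1) (ha2 : 2 ≤ a) (hga : Good a) (hgb : Good (a + 1)) (hgp : Good p) :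
    2 * a + 1 = 7 := by
  rcases Nat.even_or_odd a with hae | hao
  · -- a = 2^k
    obtain ⟨k, hk⟩ := good_of_even hga hae
    have hk1 : 1 ≤ k := by
      rcases Nat.eq_zero_or_pos k with h0 | hpos
      · rw [h0, pow_zero] at hk; omega
      · exact hpos
    have hbodd : Odd (a + 1) := hae.add_one
    obtain ⟨hbp, hb5⟩ := good_of_odd hgb hbodd (by omega)
    have hq' : p ^ f = 2 ^ (k + 1) + 1 := by rw [hq, hk, pow_succ]; ring
    rcases Cfsg.Agent.Lib.Helper9.NCyc.arith hp hp2 hf (Or.inl hq') with hf1 | h9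
    · rw [hf1, pow_one] at hq'
      rcases Nat.even_or_odd k with hke | hko
      · -- k even: 3 ∣ 2^(k+1)+1 = p
        obtain ⟨j, hj⟩ := hke
        have h3 : 3 ∣ 2 ^ (k + 1) + 1 := by
          have := three_dvd_two_pow_odd_add j
          rwa [show 2 * j + 1 = k + 1 by omega] at this
        rw [← hq'] at h3
        have hp3 := eq_three_of_prime_of_dvd hp h3
        have : 2 ≤ 2 ^ (k + 1) := by
          calc 2 = 2 ^ 1 := by norm_num
            _ ≤ 2 ^ (k + 1) := Nat.pow_le_pow_right (by norm_num) (by omega)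
        omega
      · -- k odd: 3 ∣ 2^k + 1 = b
        obtain ⟨j, hj⟩ := hko
        have h3 : 3 ∣ 2 ^ k + 1 := by
          have := three_dvd_two_pow_odd_add j
          rwa [← hj] at this
        rw [← hk] at h3
        have hb3 := eq_three_of_prime_of_dvd hbp h3
        -- a = 2, q = 5 = p
        have ha : a = 2 := by omega
        have hp5 : p = 5 := by
          rw [hf1, pow_one] at hq; omega
        exfalso
        rcases hgp with ⟨k', hk'⟩ | ⟨_, h5⟩
        · rw [hp5] at hk'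
          rcases Nat.eq_zero_or_pos k' with h0 | hpos
          · rw [h0, pow_zero] at hk'; omega
          · have : Even 5 := by rw [hk']; exact (Nat.even_pow).mpr ⟨even_two, hpos.ne'⟩
            exact absurd this (by decide)
        · exact h5 hp5
    · -- q = 9: 2^(k+1) = 8, k = 2, b = 5
      exfalso
      rw [h9] at hq'
      have h8 : 2 ^ (k + 1) = 2 ^ 3 := by omega
      have hk2 : k + 1 = 3 := Nat.pow_right_injective (le_refl 2) h8
      have : k = 2 := by omega
      rw [this] at hk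
      apply hb5; omega
  · -- a odd, b = a + 1 = 2^k
    have ha3 : 3 ≤ a := by
      obtain ⟨j, hj⟩ := hao; omega
    obtain ⟨hap, ha5⟩ := good_of_odd hga hao ha3
    obtain ⟨k, hk⟩ := good_of_even hgb hao.add_one
    have hq' : p ^ f = 2 ^ (k + 1) - 1 := by
      rw [hq, pow_succ, ← hk]; omega
    rcases Cfsg.Agent.Lib.Helper9.NCyc.arith hp hp2 hf (Or.inr hq') with hf1 | h9
    · rw [hf1, pow_one] at hq'
      rcases Nat.even_or_odd k with hke | hko
      · -- k even: 3 ∣ 2^k - 1 = a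
        obtain ⟨j, hj⟩ := hke
        have h3 : 3 ∣ 2 ^ k - 1 := by
          have := three_dvd_two_pow_even_sub j
          rwa [show 2 * j = k by omega] at this
        have hak : 2 ^ k - 1 = a := by omega
        rw [hak] at h3
        have := eq_three_of_prime_of_dvd hap h3
        omega
      · -- k odd: 3 ∣ 2^(k+1) - 1 = p
        exfalso
        obtain ⟨j, hj⟩ := hko
        have h3 : 3 ∣ 2 ^ (k + 1) - 1 := by
          have := three_dvd_two_pow_even_sub (j + 1)
          rwa [show 2 * (j + 1) = k + 1 by omega] at this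
        rw [← hq'] at h3
        have hp3 := eq_three_of_prime_of_dvd hp h3
        rw [hf1, pow_one] at hq
        omega
    · exfalso
      rw [h9] at hq'
      have h10 : 2 ^ (k + 1) = 10 := by
        have : 1 ≤ 2 ^ (k + 1) := Nat.one_le_two_pow
        omega
      have h5 : (5 : ℕ) ∣ 2 ^ (k + 1) := by rw [h10]; norm_num
      have := (Nat.Prime.dvd_of_dvd_pow (by norm_num : Nat.Prime 5) h5)
      omega

/-- pure arithmetic core, even case: `q = 2^f ≥ 4`, `q - 1`, `q + 1` good: impossible -/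
theorem arith_even {f : ℕ} (hf : 2 ≤ f) (hg1 : Good (2 ^ f - 1)) (hg2 : Good (2 ^ f + 1)) : False := by
  have h4 : 4 ≤ 2 ^ f := by
    calc 4 = 2 ^ 2 := by norm_num
      _ ≤ 2 ^ f := Nat.pow_le_pow_right (by norm_num) hf
  have hev : Even (2 ^ f) := (Nat.even_pow).mpr ⟨even_two, by omega⟩
  have ho1 : Odd (2 ^ f - 1) := by
    obtain ⟨c, hc⟩ := hev
    exact ⟨c - 1, by omega⟩
  have ho2 : Odd (2 ^ f + 1) := hev.add_one
  obtain ⟨hp1, _⟩ := good_of_odd hg1 ho1 (by omega)
  obtain ⟨hp2, h5⟩ := good_of_odd hg2 ho2 (by omega)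
  rcases Nat.even_or_odd f with hfe | hfo
  · obtain ⟨j, hj⟩ := hfe
    have h3 : 3 ∣ 2 ^ f - 1 := by
      have := three_dvd_two_pow_even_sub j
      rwa [show 2 * j = f by omega] at this
    have := eq_three_of_prime_of_dvd hp1 h3
    apply h5; omega
  · obtain ⟨j, hj⟩ := hfo
    have h3 : 3 ∣ 2 ^ f + 1 := by
      have := three_dvd_two_pow_odd_add j
      rwa [← hj] at this
    have := eq_three_of_prime_of_dvd hp2 h3
    omega

section field

variable {F : Type*} [Field F] [Fintype F]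

/-- the order of every element of `PSL₂(F)` is good -/
theorem good_orderOf
    (hord : ∀ g : Matrix.ProjectiveSpecialLinearGroup (Fin 2) F, g ≠ 1 →
      (∃ k : ℕ, orderOf g = 2 ^ k) ∨ ((orderOf g).Prime ∧ orderOf g ≠ 5))
    (g : Matrix.ProjectiveSpecialLinearGroup (Fin 2) F) : Good (orderOf g) := by
  by_cases h : g = 1
  · left; exact ⟨0, by rw [h, orderOf_one, pow_zero]⟩
  · exact hord g h

theorem good_of_dihedral
    (hord : ∀ g : Matrix.ProjectiveSpecialLinearGroup (Fin 2) F, g ≠ 1 →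
      (∃ k : ℕ, orderOf g = 2 ^ k) ∨ ((orderOf g).Prime ∧ orderOf g ≠ 5))
    {n : ℕ} (H : Subgroup (Matrix.ProjectiveSpecialLinearGroup (Fin 2) F))
    (e : H ≃* DihedralGroup n) : Good n := by
  have h1 : orderOf (e.symm (DihedralGroup.r 1)) = n := by
    rw [MulEquiv.orderOf_eq, DihedralGroup.orderOf_r_one]
  have h2 := good_orderOf hord ((e.symm (DihedralGroup.r 1) : H) : Matrix.ProjectiveSpecialLinearGroup (Fin 2) F)
  rwa [Subgroup.orderOf_coe, h1] at h2

/-- (E1) the spectrum condition of S3396 on `PSL₂(F)`, `|F| ≥ 4`, forces `|F| = 7` -/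
theorem card_eq_seven_of_spectrum (h4 : 4 ≤ Fintype.card F)
    (hord : ∀ g : Matrix.ProjectiveSpecialLinearGroup (Fin 2) F, g ≠ 1 →
      (∃ k : ℕ, orderOf g = 2 ^ k) ∨ ((orderOf g).Prime ∧ orderOf g ≠ 5)) :
    Fintype.card F = 7 := by
  classical
  obtain ⟨p, hchar⟩ := CharP.exists F
  haveI := hchar
  obtain ⟨f, hp, hq⟩ := FiniteField.card F p
  haveI : Fact p.Prime := ⟨hp⟩
  obtain ⟨H1, ⟨e1⟩⟩ := Cfsg.Agent.Lib.Helper5.PSL2Tori.exists_psl_dihedral_sub (F := F)
  obtain ⟨H2, ⟨e2⟩⟩ := Cfsg.Agent.Lib.Helper5.PSL2Tori.exists_psl_dihedral_add (F := F)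
  have hg1 := good_of_dihedral hord H1 e1
  have hg2 := good_of_dihedral hord H2 e2
  have hgp : Good p := by
    have := good_orderOf hord
      (QuotientGroup.mk (Cfsg.Agent.Lib.Helper4.upperU (1 : F)) :
        Matrix.ProjectiveSpecialLinearGroup (Fin 2) F)
    rwa [Cfsg.Agent.Lib.Helper4.SL2Ord.orderOf_mk_upperU p] at this
  by_cases hp2 : p = 2
  · exfalso
    subst hp2
    have hf2 : 2 ≤ (f : ℕ) := by
      by_contra hlt
      have hf1 : (f : ℕ) = 1 := by have := f.pos; omega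
      rw [hq, hf1, pow_one] at h4; omega
    have hodd : ¬ 2 ∣ 2 ^ (f : ℕ) - 1 := by
      have : 2 ∣ 2 ^ (f : ℕ) := dvd_pow_self 2 (by omega)
      have h1 : 1 ≤ 2 ^ (f : ℕ) := Nat.one_le_two_pow
      omega
    have hd : Nat.gcd 2 (2 ^ (f : ℕ) - 1) = 1 :=
      (Nat.Prime.coprime_iff_not_dvd Nat.prime_two).mpr hodd
    rw [hq, hd, Nat.div_one] at hg1 hg2
    exact arith_even hf2 hg1 hg2
  · -- odd characteristic
    have hqodd : Odd (Fintype.card F) := by
      rw [hq]
      exact Odd.pow (hp.odd_of_ne_two hp2)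
    obtain ⟨a, ha⟩ := hqodd
    have hd : Nat.gcd 2 (Fintype.card F - 1) = 2 := by
      rw [ha, Nat.add_sub_cancel]
      exact Nat.gcd_eq_left (dvd_mul_right 2 a)
    rw [hd] at hg1 hg2
    have h1 : (Fintype.card F - 1) / 2 = a := by rw [ha]; omega
    have h2 : (Fintype.card F + 1) / 2 = a + 1 := by rw [ha]; omega
    rw [h1] at hg1
    rw [h2] at hg2
    have ha2 : 2 ≤ a := by omega
    rw [ha]
    exact arith_odd hp hp2 f.ne_zero (hq ▸ ha) ha2 hg1 hg2 hgp

end field

/-- (E2) a simple CIT group with dihedral Sylow 2-subgroups is `PSL₂(F)`, `F` of odd order -/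
theorem psl_of_dihedral_cit {G : Type*} [Group G] [Finite G] [IsSimpleGroup G]
    (hCIT : ∀ t : G, orderOf t = 2 → IsPGroup 2 (Subgroup.centralizer ({t} : Set G)))
    (S : Sylow 2 G) (n : ℕ) (hn : 2 ≤ n)
    (hS : Nonempty (↥(S : Subgroup G) ≃* DihedralGroup n)) :
    ∃ (F : Type) (_ : Field F) (_ : Fintype F), Odd (Fintype.card F) ∧
      Nonempty (G ≃* Matrix.ProjectiveSpecialLinearGroup (Fin 2) F) := by
  classical
  haveI : Fact (Nat.Prime 2) := ⟨Nat.prime_two⟩
  obtain ⟨ψ⟩ := hS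
  haveI : Nontrivial ↥(S : Subgroup G) := by
    haveI : Nontrivial (DihedralGroup n) := by
      refine ⟨⟨DihedralGroup.sr 0, 1, ?_⟩⟩
      intro h
      have : (DihedralGroup.sr 0 : DihedralGroup n) = DihedralGroup.r 0 := h
      cases this
    exact ψ.toEquiv.nontrivial
  have hSp : IsPGroup 2 ↥(S : Subgroup G) := S.isPGroup'
  haveI : Nontrivial (Subgroup.center ↥(S : Subgroup G)) := hSp.center_nontrivial
  have h2dvd : 2 ∣ Nat.card (Subgroup.center ↥(S : Subgroup G)) := by
    obtain ⟨k, hk⟩ := IsPGroup.iff_card.mp (hSp.to_subgroup (Subgroup.center ↥(S : Subgroup G)))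
    have hk0 : k ≠ 0 := by
      rintro rfl
      rw [pow_zero] at hk
      have := Finite.one_lt_card (α := Subgroup.center ↥(S : Subgroup G))
      omega
    rw [hk]
    exact dvd_pow_self 2 hk0
  obtain ⟨z, hz⟩ := exists_prime_orderOf_dvd_card' 2 h2dvd
  obtain ⟨t, htdef⟩ : ∃ t : G, t = ((z : ↥(S : Subgroup G)) : G) := ⟨_, rfl⟩
  have hto : orderOf t = 2 := by
    rw [htdef, Subgroup.orderOf_coe, Subgroup.orderOf_coe]; exact hz
  have htS : t ∈ (S : Subgroup G) := by rw [htdef]; exact (z : ↥(S : Subgroup G)).2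
  have htZ : ∀ s ∈ (S : Subgroup G), s * t = t * s := by
    intro s hs
    have := (Subgroup.mem_center_iff.mp z.2) ⟨s, hs⟩
    have h2' := congrArg Subtype.val this
    rw [htdef]
    simpa using h2'
  have hO : Cfsg.oddCore ↥(Subgroup.centralizer ({t} : Set G)) = ⊥ := by
    rw [eq_bot_iff]
    show Cfsg.pPrimeCore 2 ↥(Subgroup.centralizer ({t} : Set G)) ≤ ⊥
    unfold Cfsg.pPrimeCore
    apply sSup_le
    rintro N ⟨_, hNc⟩
    have hN2 : IsPGroup 2 ↥N := (hCIT t hto).to_subgroup N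
    obtain ⟨k, hk⟩ := hN2.exists_card_eq
    rcases Nat.eq_zero_or_pos k with h0 | hpos
    · rw [h0, pow_zero] at hk
      exact (Subgroup.card_eq_one.mp hk).le
    · exfalso
      rw [hk] at hNc
      have : (2 : ℕ) ∣ Nat.gcd (2 ^ k) 2 := Nat.dvd_gcd (dvd_pow_self 2 hpos.ne') dvd_rfl
      rw [hNc] at this
      omega
  refine Cfsg.Agent.S0508.result S n hn ⟨ψ⟩ t hto htS htZ ⊥ ?_ ?_ ?_ ?_
  · rw [hO, Subgroup.map_bot]
  · intro hne; exact absurd rfl hne
  · intro s hs hsc
    exfalso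
    apply hsc
    rw [Subgroup.mem_centralizer_iff]
    intro x hx
    have hx1 : x = 1 := by simpa using hx
    rw [hx1, one_mul, mul_one]
  · intro Y hY hYne
    exact absurd (le_bot_iff.mp hY) hYne

/-- (E3) transfer to a given field with seven elements -/
theorem psl27_of_psl {G : Type*} [Group G] {F : Type*} [Field F] [Fintype F]
    (hF : Fintype.card F = 7) {F' : Type*} [Field F'] [Fintype F']
    (e : G ≃* Matrix.ProjectiveSpecialLinearGroup (Fin 2) F') (h4 : 4 ≤ Fintype.card F')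
    (hord : ∀ g : G, g ≠ 1 → (∃ k : ℕ, orderOf g = 2 ^ k) ∨ ((orderOf g).Prime ∧ orderOf g ≠ 5)) :
    Nonempty (G ≃* Matrix.ProjectiveSpecialLinearGroup (Fin 2) F) := by
  have hord' : ∀ g : Matrix.ProjectiveSpecialLinearGroup (Fin 2) F', g ≠ 1 →
      (∃ k : ℕ, orderOf g = 2 ^ k) ∨ ((orderOf g).Prime ∧ orderOf g ≠ 5) := by
    intro g hg
    have h1 : e.symm g ≠ 1 := by
      intro h
      apply hg
      have := congrArg e h
      simpa using this
    have := hord (e.symm g) h1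
    rwa [MulEquiv.orderOf_eq] at this
  have h7 : Fintype.card F' = 7 := card_eq_seven_of_spectrum h4 hord'
  have r : F' ≃+* F := FiniteField.ringEquivOfCardEq (h7.trans hF.symm)
  exact ⟨e.trans (Cfsg.Agent.Lib.Helper4.K4Field.pslEquivN 2 r)⟩

end Cfsg.Agent.Lib.Helper5.S3396End
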