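import Mathlib
import Cfsg.Agent.Lib.Helper3.CPDefs
import Cfsg.Agent.Lib.Helper5.S3396End
import Cfsg.Agent.S0144
import Cfsg.Agent.S0340

set_option autoImplicit false
set_option linter.unusedSectionVars false
set_option linter.unusedVariables false
set_option linter.unusedSimpArgs false
set_option linter.style.haveILetI false
set_option linter.deprecated false
set_option maxHeartbeats 1000000

/-! S3396, pieces P6a (`PSL₂` arithmetic) and P7 (TI end), farmed out by helper3. -/

namespace Cfsg.Agent.Lib.Helper5.CP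

open Cfsg.Agent.Lib.Helper3.CP

variable {G : Type*} [Group G] [Finite G]

/-- `5` is not an admissible order -/
theorem not_cc_five {n : ℕ} (h5 : n = 5) (h : (∃ k : ℕ, n = 2 ^ k) ∨ (n.Prime ∧ n ≠ 5)) : False := by
  rcases h with ⟨k, hk⟩ | ⟨_, hne⟩
  · rw [h5] at hk
    rcases Nat.eq_zero_or_pos k with h0 | hpos
    · rw [h0, pow_zero] at hk; omega
    · have : Even 5 := by rw [hk]; exact (Nat.even_pow).mpr ⟨even_two, hpos.ne'⟩
      exact absurd this (by decide)
  · exact hne h5

/-- in the class `CC` centralizers of involutions are `2`-groups -/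
theorem cit_of_cc (hC : CC G) (t : G) (ht : orderOf t = 2) :
    IsPGroup 2 (Subgroup.centralizer ({t} : Set G)) := by
  rintro ⟨g, hg⟩
  rw [Subgroup.mem_centralizer_singleton_iff] at hg
  have hpow : ∀ k : ℕ, orderOf g = 2 ^ k →
      ∃ k : ℕ, (⟨g, Subgroup.mem_centralizer_singleton_iff.mpr hg⟩ :
        ↥(Subgroup.centralizer ({t} : Set G))) ^ 2 ^ k = 1 := by
    intro k hk
    refine ⟨k, Subtype.ext ?_⟩
    rw [Subgroup.coe_pow, Subgroup.coe_one, ← hk]
    exact pow_orderOf_eq_one g
  by_cases hg1 : g = 1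
  · exact hpow 0 (by rw [hg1, orderOf_one, pow_zero])
  rcases hC g hg1 with ⟨k, hk⟩ | ⟨hp, _⟩
  · exact hpow k hk
  · by_cases hp2 : orderOf g = 2
    · exact hpow 1 (by rw [hp2, pow_one])
    · exfalso
      have hcop : (orderOf g).Coprime (orderOf t) := by
        rw [ht]
        exact (Nat.coprime_primes hp Nat.prime_two).mpr hp2
      have hcomm : Commute g t := hg
      have hord : orderOf (g * t) = orderOf g * 2 := by
        rw [hcomm.orderOf_mul_eq_mul_orderOf_of_coprime hcop, ht]
      have hgt1 : g * t ≠ 1 := by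
        intro h1
        rw [h1, orderOf_one] at hord
        have := hp.pos
        omega
      rcases hC (g * t) hgt1 with ⟨k, hk⟩ | ⟨hpr, _⟩
      · rw [hord] at hk
        have h1 : orderOf g ∣ 2 ^ k := ⟨2, hk.symm⟩
        exact hp2 ((Nat.prime_dvd_prime_iff_eq hp Nat.prime_two).mp (hp.dvd_of_dvd_pow h1))
      · rw [hord] at hpr
        have h2 : (2 : ℕ) ∣ orderOf g * 2 := dvd_mul_left 2 _
        have := (Nat.prime_dvd_prime_iff_eq Nat.prime_two hpr).mp h2
        have := hp.two_le
        omega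

/-- (P6a) -/
theorem card_eq_168_of_psl2 (hC : CC G) (hns : ¬ IsSolvable G) (F : Type) [Field F] [Fintype F]
    (e : G ≃* Matrix.ProjectiveSpecialLinearGroup (Fin 2) F) : Nat.card G = 168 := by
  classical
  have hcard : Nat.card G = Nat.card (Matrix.ProjectiveSpecialLinearGroup (Fin 2) F) :=
    Nat.card_congr e.toEquiv
  have hmul := Cfsg.Agent.Lib.Helper5.DicksonOrders.card_PSL2_mul (F := F)
  have h2 : 2 ≤ Fintype.card F := Fintype.one_lt_card
  have h4 : 4 ≤ Fintype.card F := by
    by_contra hlt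
    apply hns
    have hq : Fintype.card F = 2 ∨ Fintype.card F = 3 := by omega
    rcases hq with hq | hq
    · rw [hq] at hmul
      have e1 : Nat.gcd 2 (2 - 1) = 1 := by decide
      rw [e1] at hmul
      have h6 : Nat.card G = 2 ^ 1 * 3 ^ 1 := by
        rw [hcard]
        show Nat.card (Matrix.ProjectiveSpecialLinearGroup (Fin 2) F) = 6
        omega
      exact Cfsg.Agent.S0144.result 2 3 1 1 Nat.prime_two Nat.prime_three h6
    · rw [hq] at hmul
      have e1 : Nat.gcd 2 (3 - 1) = 2 := by decide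
      rw [e1] at hmul
      have h12 : Nat.card G = 2 ^ 2 * 3 ^ 1 := by
        rw [hcard]
        show Nat.card (Matrix.ProjectiveSpecialLinearGroup (Fin 2) F) = 12
        omega
      exact Cfsg.Agent.S0144.result 2 3 2 1 Nat.prime_two Nat.prime_three h12
  have hord' : ∀ g : Matrix.ProjectiveSpecialLinearGroup (Fin 2) F, g ≠ 1 →
      (∃ k : ℕ, orderOf g = 2 ^ k) ∨ ((orderOf g).Prime ∧ orderOf g ≠ 5) := by
    intro g hg
    have h1 : e.symm g ≠ 1 := by
      intro h
      apply hg
      have := congrArg e h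
      simpa using this
    have := hC (e.symm g) h1
    rwa [MulEquiv.orderOf_eq] at this
  have h7 := Cfsg.Agent.Lib.Helper5.S3396End.card_eq_seven_of_spectrum h4 hord'
  rw [h7] at hmul
  have e1 : Nat.gcd 2 (7 - 1) = 2 := by decide
  rw [e1] at hmul
  rw [hcard]
  omega

/-- (P7) -/
theorem card_eq_168_of_ti [IsSimpleGroup G] (hC : CC G) (hns : ¬ IsSolvable G)
    (hZ : Cfsg.IsZassenhausGroup G (Sylow 2 G)) : Nat.card G = 168 := by
  classical
  rcases Cfsg.Agent.S0340.result hZ with ⟨F, hField, hFin, ⟨e⟩⟩ | ⟨_, m, hm, hcard⟩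
  · exact card_eq_168_of_psl2 hC hns F e
  · exfalso
    have h5 : 5 ∣ Nat.card G := by
      rw [hcard]
      apply Dvd.dvd.mul_right
      apply Dvd.dvd.mul_left
      have h1 : (2 ^ (2 * m + 1)) ^ 2 = 4 * 16 ^ m := by
        rw [← pow_mul, show (2 * m + 1) * 2 = 2 + 4 * m by ring, pow_add, pow_mul]
        norm_num
      rw [h1]
      have h2 : 16 ^ m % 5 = 1 := by
        rw [Nat.pow_mod]; norm_num
      omega
    haveI : Fact (Nat.Prime 5) := ⟨by norm_num⟩
    obtain ⟨g, hg⟩ := exists_prime_orderOf_dvd_card' 5 h5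
    have hg1 : g ≠ 1 := by
      intro h
      rw [h, orderOf_one] at hg
      omega
    exact not_cc_five hg (hC g hg1)

end Cfsg.Agent.Lib.Helper5.CP
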