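import Mathlib
import Cfsg.Prelude.Def_CaseTheorems
import Cfsg.Agent.S0112
import Cfsg.Agent.S0115
import Cfsg.Agent.S4399
import Cfsg.Agent.Lib.Helper7.HalfTrA

/-!
# S3390 piece (a) (helper5): a 2-group with an involution whose centralizer has order 4
is dihedral (possibly a four-group) or quasi-dihedral
-/

set_option autoImplicit false
set_option linter.style.haveILetI false
set_option linter.unusedVariables false

namespace Cfsg.Agent.Lib.Helper5.Fx2

/-- a noncyclic group of order 4 is `DihedralGroup 2` -/
theorem mulEquiv_dihedral_two_of_card_four {S : Type*} [Group S] [Finite S]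
    (h4 : Nat.card S = 4) (hnc : ¬ IsCyclic S) : Nonempty (S ≃* DihedralGroup 2) := by
  have hexp : Monoid.exponent S = 2 := by
    haveI hnt : Nontrivial S := by
      rw [← Finite.one_lt_card_iff_nontrivial]; omega
    rw [Monoid.exponent_eq_prime_iff Nat.prime_two]
    intro g hg
    have hd : orderOf g ∣ 4 := h4 ▸ orderOf_dvd_natCard g
    have h1 : orderOf g ≠ 1 := by rwa [Ne, orderOf_eq_one_iff]
    have h4' : orderOf g ≠ 4 := fun h => hnc (isCyclic_of_orderOf_eq_card g (h.trans h4.symm))
    have hmem : orderOf g ∈ Nat.divisors 4 := Nat.mem_divisors.mpr ⟨hd, by norm_num⟩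
    have hdiv : Nat.divisors 4 = {1, 2, 4} := by decide
    rw [hdiv] at hmem
    simp only [Finset.mem_insert, Finset.mem_singleton] at hmem
    rcases hmem with h | h | h
    · exact absurd h h1
    · exact h
    · exact absurd h h4'
  haveI : IsKleinFour S := ⟨h4, hexp⟩
  have hcard : Nat.card S = Nat.card (DihedralGroup 2) := by
    rw [h4, IsKleinFour.card_four]
  obtain ⟨e⟩ := Finite.card_eq.mp hcard
  refine ⟨IsKleinFour.mulEquiv (e.trans (Equiv.swap (e 1) 1)) ?_⟩
  simp

theorem dihedral_or_quasidihedral_of_card_centralizer_four {S : Type*} [Group S] [Finite S]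
    (hS : IsPGroup 2 S) (u : S) (hu : orderOf u = 2)
    (hC : Nat.card (Subgroup.centralizer ({u} : Set S)) = 4) (hnc : ¬ IsCyclic S) :
    (∃ n : ℕ, Nonempty (S ≃* DihedralGroup n)) ∨ Cfsg.IsQuasiDihedral S := by
  haveI : Fact (Nat.Prime 2) := ⟨Nat.prime_two⟩
  obtain ⟨n, hG⟩ := hS.exists_card_eq
  set V : Subgroup S := Subgroup.centralizer ({u} : Set S) with hV
  have huV : u ∈ V := by
    rw [hV, Subgroup.mem_centralizer_iff]
    intro h hh
    rw [Set.mem_singleton_iff] at hh
    rw [hh]
  have hVcomm : IsMulCommutative V :=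
    IsPGroup.isMulCommutative_of_card_eq_prime_sq (p := 2) (by rw [hC]; norm_num)
  have hCV : Subgroup.centralizer (V : Set S) = V := by
    apply le_antisymm
    · intro g hg
      rw [Subgroup.mem_centralizer_iff] at hg
      rw [hV, Subgroup.mem_centralizer_iff]
      intro h hh
      rw [Set.mem_singleton_iff] at hh
      rw [hh]
      exact hg u huV
    · intro g hg
      rw [Subgroup.mem_centralizer_iff]
      intro h hh
      have := hVcomm.is_comm.comm (⟨h, hh⟩ : V) ⟨g, hg⟩
      exact congrArg Subtype.val this
  have hle : 4 ≤ 2 ^ n := by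
    rw [← hG, ← hC]; exact Subgroup.card_le_card_group V
  by_cases hn : 3 ≤ n
  · have hclass : Group.nilpotencyClass S = n - 1 :=
      Cfsg.Agent.S0112.result (p := 2) n hG V (by rw [hC]; norm_num) hCV
    have hK : IsKleinFour (S ⧸ commutator S) := (Cfsg.Agent.S0115.result n hn hG).1 hclass
    have hab4 : Nat.card (Abelianization S) = 4 := hK.card_four
    have hexp : ∀ x : Abelianization S, x ^ 2 = 1 := by
      intro x
      have := Monoid.pow_exponent_eq_one (G := S ⧸ commutator S) x
      rw [hK.exponent_two] at this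
      exact this
    have h8 : (2 : ℕ) ^ 3 ≤ 2 ^ n := Nat.pow_le_pow_right (by norm_num) hn
    rcases Cfsg.Agent.S4399.result hS hab4 hexp with h4 | ⟨k, hk⟩ |
      ⟨k, hcard, a, b, ha, hb, hrel⟩ | ⟨k, ⟨e⟩⟩
    · exfalso
      rw [hG] at h4
      omega
    · exact Or.inl ⟨_, hk⟩
    · right
      refine ⟨k + 3, by omega, ?_, a, b, ha, hb, ?_⟩
      · rw [hcard]
      · rw [hrel]; rfl
    · exfalso
      -- `u` is a noncentral involution, impossible in a generalized quaternion group
      have hne : (2 : ℕ) ^ (k + 1) ≠ 0 := by positivity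
      have hsq : e u * e u = 1 := by
        have hu2 : u * u = 1 := by
          rw [← pow_two]; have := pow_orderOf_eq_one u; rwa [hu] at this
        rw [← map_mul, hu2, map_one]
      have hcen := Cfsg.Agent.Lib.Helper7.HalfTr.quaternion_involution_central hne (e u) hsq
      have hVtop : V = ⊤ := by
        rw [eq_top_iff]
        intro g _
        rw [hV, Subgroup.mem_centralizer_iff]
        intro h hh
        rw [Set.mem_singleton_iff] at hh
        rw [hh]
        rw [Subgroup.mem_center_iff] at hcen
        have := hcen (e g)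
        rw [← map_mul, ← map_mul] at this
        exact (e.injective this).symm
      have : Nat.card V = Nat.card S := by rw [hVtop]; exact Subgroup.card_top
      rw [hC, hG] at this
      omega
  · left
    have hn2 : n = 2 := by
      have : n = 0 ∨ n = 1 ∨ n = 2 := by omega
      rcases this with rfl | rfl | rfl
      · norm_num at hle
      · norm_num at hle
      · rfl
    subst hn2
    exact ⟨2, mulEquiv_dihedral_two_of_card_four (by rw [hG]; norm_num) hnc⟩

end Cfsg.Agent.Lib.Helper5.Fx2
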