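import Mathlib
import Cfsg.Agent.Lib.Helper3.CPDefs
import Cfsg.Agent.Lib.Helper5.CPEnd1
import Cfsg.Agent.Lib.Helper5.Fx2MaxClass
import Cfsg.Agent.Lib.Helper1.NCycSD2

set_option autoImplicit false
set_option linter.unusedSectionVars false
set_option linter.unusedVariables false
set_option linter.unusedSimpArgs false
set_option linter.style.haveILetI false
set_option linter.style.longLine false
set_option linter.deprecated false
set_option maxHeartbeats 1000000

/-! S3396, piece P6b (self-centralizing four-group ⇒ order 168), farmed out by helper3.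
The exclusion of quasi-dihedral Sylow 2-subgroups is helper1's argument from S3921
(`Helper1.NCyc.not_quasiDihedral`) with the hypothesis "every involution centralizer is a 2-group"
in place of the self-centralizing property. -/

namespace Cfsg.Agent.Lib.Helper5.CP

open Cfsg.Agent.Lib.Helper3.CP Cfsg.Agent.Lib.Lead.QDCore Cfsg.Agent.Lib.Lead.QDArith
  Cfsg.Agent.Lib.Helper1.NCyc

/-- a simple group in which involution centralizers are 2-groups has no quasi-dihedral Sylow 2-subgroup -/
theorem not_quasiDihedral_of_cit {G : Type*} [Group G] [Finite G] [IsSimpleGroup G]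
    (hna : ¬ IsMulCommutative G)
    (hCIT : ∀ t : G, orderOf t = 2 → IsPGroup 2 (Subgroup.centralizer ({t} : Set G)))
    (S : Sylow 2 G) (hS : Cfsg.IsQuasiDihedral ↥(S : Subgroup G)) : False := by
  classical
  haveI : Fact (Nat.Prime 2) := ⟨Nat.prime_two⟩
  obtain ⟨n, x, y, hq⟩ := exists_QD hS
  have hn3 : 3 ≤ n := hq.hn
  have hn1 : 1 ≤ n := by omega
  -- the central involution
  obtain ⟨tS, htSdef⟩ : ∃ tS : ↥(S : Subgroup G), tS = r n x (hh n) := ⟨_, rfl⟩
  have htSo : orderOf tS = 2 := by rw [htSdef]; exact hq.orderOf_rh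
  have htSc : tS ∈ Subgroup.center ↥(S : Subgroup G) := by rw [htSdef]; exact hq.rh_mem_center
  obtain ⟨t, htdef⟩ : ∃ t : G, t = (tS : G) := ⟨_, rfl⟩
  have hto : orderOf t = 2 := by rw [htdef, Subgroup.orderOf_coe]; exact htSo
  have htt : t * t = 1 := by
    have := pow_orderOf_eq_one t
    rwa [hto, pow_two] at this
  have hSC : (S : Subgroup G) ≤ Subgroup.centralizer ({t} : Set G) := by
    intro g hg
    rw [Subgroup.mem_centralizer_iff]
    intro z hz
    rw [Set.mem_singleton_iff] at hz
    rw [hz, htdef]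
    have := (Subgroup.mem_center_iff.mp htSc) ⟨g, hg⟩
    have h2 := congrArg Subtype.val this
    simpa using h2.symm
  have hmemC : ∀ g : G, g ∈ Subgroup.centralizer ({t} : Set G) ↔ g * t = t * g := by
    intro g
    rw [Subgroup.mem_centralizer_iff]
    constructor
    · intro hg; exact (hg t (Set.mem_singleton t)).symm
    · intro hg z hz
      rw [Set.mem_singleton_iff] at hz
      rw [hz]; exact hg.symm
  -- the subgroup `D'`
  obtain ⟨D', hD'def⟩ : ∃ D' : Subgroup G, D' = hq.D.map (S : Subgroup G).subtype := ⟨_, rfl⟩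
  have hD'S : D' ≤ (S : Subgroup G) := by
    rw [hD'def]; exact Subgroup.map_subtype_le _
  have hmemD' : ∀ g : G, g ∈ D' ↔ ∃ hg : g ∈ (S : Subgroup G), (⟨g, hg⟩ : ↥(S : Subgroup G)) ∈ hq.D := by
    intro g
    rw [hD'def]
    constructor
    · rintro ⟨d, hd, rfl⟩
      exact ⟨d.2, hd⟩
    · rintro ⟨hg, hd⟩
      exact ⟨⟨g, hg⟩, hd, rfl⟩
  -- involutions of `S` lie in `D'`
  have hinvS : ∀ g : G, g ∈ (S : Subgroup G) → g * g = 1 → g ∈ D' := by
    intro g hg hgg
    rw [hmemD']
    refine ⟨hg, ?_⟩
    by_cases hg1 : g = 1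
    · have : (⟨g, hg⟩ : ↥(S : Subgroup G)) = 1 := Subtype.ext hg1
      rw [this]; exact Subgroup.one_mem _
    · rw [← hq.closure_invol_eq]
      apply Subgroup.subset_closure
      show orderOf (⟨g, hg⟩ : ↥(S : Subgroup G)) = 2
      apply orderOf_eq_prime
      · rw [pow_two]; exact Subtype.ext hgg
      · intro h1; exact hg1 (congrArg Subtype.val h1)
  have hCp : IsPGroup 2 ↥(Subgroup.centralizer ({t} : Set G)) := hCIT t hto
  have hCS : Subgroup.centralizer ({t} : Set G) = (S : Subgroup G) := S.is_maximal' hCp hSC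
  -- Step d
  obtain ⟨u, hudef⟩ : ∃ u : ↥(S : Subgroup G), u = s n x y 1 := ⟨_, rfl⟩
  have huo : orderOf u = 4 := by rw [hudef]; exact hq.orderOf_s_odd odd_one
  have huu : u * u = tS := by rw [hudef, htSdef]; exact hq.s_sq_odd odd_one
  have huoG : orderOf (u : G) = 2 ^ 2 := by rw [Subgroup.orderOf_coe, huo]; norm_num
  have hev : Even (Nat.card G) := by
    rw [even_iff_two_dvd, ← hto]
    exact orderOf_dvd_natCard t
  have hrel : D'.relIndex (S : Subgroup G) = 2 := by
    have h1 : D'.subgroupOf (S : Subgroup G) = hq.D := by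
      rw [hD'def]
      exact Subgroup.comap_map_eq_self_of_injective (Subgroup.subtype_injective _) _
    show (D'.subgroupOf (S : Subgroup G)).index = 2
    rw [h1]; exact hq.index_D
  have hord : ∀ g ∈ (S : Subgroup G), g ∉ D' → 2 ^ (2 - 1) < orderOf g := by
    intro g hg hgD
    by_contra hlt
    push Not at hlt
    have hpos : 0 < orderOf g := orderOf_pos g
    apply hgD
    apply hinvS g hg
    have h2 : orderOf g ∣ 2 := by
      have hle : orderOf g ≤ 2 := by simpa using hlt
      interval_cases hh' : orderOf g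
      · exact one_dvd 2
      · exact dvd_refl 2
    have := orderOf_dvd_iff_pow_eq_one.mp h2
    rwa [pow_two] at this
  obtain ⟨g, hg⟩ := Cfsg.Agent.S3225.result hev (index_ne_two_of_simple hna) S D' hD'S hrel 2
    (by norm_num) hord (u : G) u.2 huoG
  obtain ⟨hvS, hvD⟩ := (hmemD' _).mp hg
  -- the conjugate has order four and lies in `D`, so it is a power of `x`
  have hvo : orderOf (⟨g * (u : G) * g⁻¹, hvS⟩ : ↥(S : Subgroup G)) = 4 := by
    rw [← Subgroup.orderOf_coe]
    show orderOf (g * (u : G) * g⁻¹) = 4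
    have := (MulAut.conj g).orderOf_eq (u : G)
    rw [MulAut.conj_apply] at this
    rw [this, huoG]; norm_num
  have hvr : ∃ k, (⟨g * (u : G) * g⁻¹, hvS⟩ : ↥(S : Subgroup G)) = r n x k := by
    rcases hq.order4_cases hvo with h1 | h1 | ⟨i, hi, h1⟩
    · exact ⟨_, h1⟩
    · exact ⟨_, h1⟩
    · exfalso
      rw [h1, hq.mem_D_s] at hvD
      exact not_even_and_odd hn1 i ⟨hvD, hi⟩
  obtain ⟨k, hk⟩ := hvr
  have hxv : x * r n x k = r n x k * x := by
    have := hq.r_conj_r 1 k
    rw [hq.r_one] at this
    calc x * r n x k = (x * r n x k * x⁻¹) * x := by group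
      _ = r n x k * x := by rw [this]
  rw [← hk] at hxv
  have hxvG : (x : G) * (g * (u : G) * g⁻¹) = (g * (u : G) * g⁻¹) * (x : G) := by
    have := congrArg Subtype.val hxv
    simpa using this
  obtain ⟨x₁, hx₁def⟩ : ∃ x₁ : G, x₁ = g⁻¹ * (x : G) * g := ⟨_, rfl⟩
  have hx₁u : x₁ * (u : G) = (u : G) * x₁ := by
    rw [hx₁def]
    calc g⁻¹ * (x : G) * g * (u : G) = g⁻¹ * ((x : G) * (g * (u : G) * g⁻¹)) * g := by group
      _ = g⁻¹ * ((g * (u : G) * g⁻¹) * (x : G)) * g := by rw [hxvG]
      _ = (u : G) * (g⁻¹ * (x : G) * g) := by group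
  have huuG : (u : G) * (u : G) = t := by
    rw [htdef, ← huu]; rfl
  have hx₁t : x₁ * t = t * x₁ := by
    rw [← huuG]
    calc x₁ * ((u : G) * (u : G)) = (x₁ * (u : G)) * (u : G) := by group
      _ = ((u : G) * x₁) * (u : G) := by rw [hx₁u]
      _ = (u : G) * (x₁ * (u : G)) := by group
      _ = (u : G) * ((u : G) * x₁) := by rw [hx₁u]
      _ = (u : G) * (u : G) * x₁ := by group
  have hx₁S : x₁ ∈ (S : Subgroup G) := by
    rw [← hCS]; exact (hmemC _).mpr hx₁t
  have h4 := qd_pow_four_of_comm hq ⟨x₁, hx₁S⟩ (by rw [← hudef]; exact Subtype.ext hx₁u)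
  have h4G : x₁ ^ 4 = 1 := by
    have := congrArg Subtype.val h4
    simpa using this
  have hx4 : (x : G) ^ 4 = 1 := by
    have hx : (x : G) = g * x₁ * g⁻¹ := by rw [hx₁def]; group
    rw [hx, conj_pow, h4G, mul_one, mul_inv_cancel]
  have hx4' : x ^ 4 = 1 := Subtype.ext (by simpa using hx4)
  have hdvd := orderOf_dvd_of_pow_eq_one hx4'
  rw [hq.ox] at hdvd
  have h5 : 2 ^ 3 ≤ 2 ^ n := Nat.pow_le_pow_right (by norm_num) hn3
  have := Nat.le_of_dvd (by norm_num) hdvd
  omega

variable {G : Type*} [Group G] [Finite G]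

/-- a group of exponent two is not cyclic when it has four elements -/
theorem not_isCyclic_of_exp_two (E : Subgroup G) (hE : Nat.card E = 4) (hE2 : ∀ e ∈ E, e ^ 2 = 1) :
    ¬ IsCyclic ↥E := by
  intro hcyc
  obtain ⟨g, hg⟩ := hcyc.exists_generator
  have hord : orderOf g = Nat.card ↥E := orderOf_eq_card_of_forall_mem_zpowers hg
  have hg2 : g ^ 2 = 1 := Subtype.ext (by simpa using hE2 g.1 g.2)
  have : orderOf g ∣ 2 := orderOf_dvd_of_pow_eq_one hg2
  have := Nat.le_of_dvd (by norm_num) this
  rw [hord, hE] at this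
  omega

/-- (P6b) -/
theorem card_eq_168_of_four_group [IsSimpleGroup G] (hC : CC G) (hns : ¬ IsSolvable G)
    (E : Subgroup G) (hE : Nat.card E = 4) (hE2 : ∀ e ∈ E, e ^ 2 = 1)
    (hcent : Subgroup.centralizer (E : Set G) ≤ E) : Nat.card G = 168 := by
  classical
  haveI : Fact (Nat.Prime 2) := ⟨Nat.prime_two⟩
  have hCIT : ∀ t : G, orderOf t = 2 → IsPGroup 2 (Subgroup.centralizer ({t} : Set G)) :=
    fun t ht => cit_of_cc hC t ht
  have hna : ¬ IsMulCommutative G := by
    intro hcomm
    apply hns
    exact isSolvable_of_comm (fun a b => hcomm.is_comm.comm a b)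
  have hfin : ∀ (F : Type) (_ : Field F) (_ : Fintype F),
      Nonempty (G ≃* Matrix.ProjectiveSpecialLinearGroup (Fin 2) F) → Nat.card G = 168 := by
    intro F _ _ ⟨e⟩
    exact card_eq_168_of_psl2 hC hns F e
  -- E is abelian
  have hEcomm : ∀ a ∈ E, ∀ b ∈ E, a * b = b * a := by
    intro a ha b hb
    have h1 := hE2 a ha
    have h2 := hE2 b hb
    have h3 := hE2 (a * b) (E.mul_mem ha hb)
    rw [pow_two] at h1 h2 h3
    have hainv : a⁻¹ = a := inv_eq_of_mul_eq_one_left h1
    have hbinv : b⁻¹ = b := inv_eq_of_mul_eq_one_left h2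
    have habinv : (a * b)⁻¹ = a * b := inv_eq_of_mul_eq_one_left h3
    calc a * b = (a * b)⁻¹ := habinv.symm
      _ = b⁻¹ * a⁻¹ := mul_inv_rev a b
      _ = b * a := by rw [hainv, hbinv]
  have hEp : IsPGroup 2 ↥E := IsPGroup.of_card (n := 2) (by rw [hE]; norm_num)
  obtain ⟨S, hES⟩ := hEp.exists_le_sylow
  have hEnc : ¬ IsCyclic ↥E := not_isCyclic_of_exp_two E hE hE2
  have hSnc : ¬ IsCyclic ↥(S : Subgroup G) := by
    intro hcyc
    apply hEnc
    have e1 : ↥(E.subgroupOf (S : Subgroup G)) ≃* ↥E := Subgroup.subgroupOfEquivOfLe hES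
    haveI : IsCyclic ↥(E.subgroupOf (S : Subgroup G)) := Subgroup.isCyclic _
    exact isCyclic_of_surjective e1.toMonoidHom e1.surjective
  by_cases hSE : (S : Subgroup G) = E
  · -- Sylow of order four
    have h4 : Nat.card ↥(S : Subgroup G) = 4 := by rw [hSE]; exact hE
    obtain ⟨ψ⟩ := Cfsg.Agent.Lib.Helper5.Fx2.mulEquiv_dihedral_two_of_card_four h4 hSnc
    obtain ⟨F, hField, hFin, _, hiso⟩ :=
      Cfsg.Agent.Lib.Helper5.S3396End.psl_of_dihedral_cit hCIT S 2 le_rfl ⟨ψ⟩
    exact hfin F hField hFin hiso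
  · -- E < S
    -- the centre of S lies in E
    have hZE : ∀ z ∈ (S : Subgroup G), (∀ s ∈ (S : Subgroup G), s * z = z * s) → z ∈ E := by
      intro z hz hzc
      apply hcent
      rw [Subgroup.mem_centralizer_iff]
      intro e he
      exact hzc e (hES he)
    -- a non-central element of E
    have hu : ∃ u ∈ E, ∃ s ∈ (S : Subgroup G), s * u ≠ u * s := by
      by_contra hno
      push Not at hno
      apply hSE
      apply le_antisymm _ hES
      intro s hs
      apply hcent
      rw [Subgroup.mem_centralizer_iff]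
      intro e he
      exact (hno e he s hs).symm
    obtain ⟨u, huE, s₀, hs₀S, hs₀u⟩ := hu
    have hu1 : u ≠ 1 := by
      rintro rfl
      exact hs₀u (by rw [mul_one, one_mul])
    have huo : orderOf u = 2 := by
      apply orderOf_eq_prime (hE2 u huE) hu1
    -- a central involution
    haveI : Nontrivial ↥(S : Subgroup G) := by
      refine ⟨⟨⟨u, hES huE⟩, 1, ?_⟩⟩
      intro h
      exact hu1 (congrArg Subtype.val h)
    haveI : Nontrivial (Subgroup.center ↥(S : Subgroup G)) := S.isPGroup'.center_nontrivial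
    obtain ⟨⟨z', hz'c⟩, hz'1⟩ := exists_ne (1 : ↥(Subgroup.center ↥(S : Subgroup G)))
    obtain ⟨z, hzdef⟩ : ∃ z : G, z = (z' : G) := ⟨_, rfl⟩
    have hzS : z ∈ (S : Subgroup G) := by rw [hzdef]; exact z'.2
    have hzc : ∀ s ∈ (S : Subgroup G), s * z = z * s := by
      intro s hs
      have := (Subgroup.mem_center_iff.mp hz'c) ⟨s, hs⟩
      have h2 := congrArg Subtype.val this
      rw [hzdef]
      simpa using h2
    have hz1 : z ≠ 1 := by
      intro h
      apply hz'1
      apply Subtype.ext
      apply Subtype.ext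
      rw [← hzdef, h]; rfl
    have hzE : z ∈ E := hZE z hzS hzc
    have hzu : z ≠ u := by
      rintro rfl
      exact hs₀u (hzc s₀ hs₀S)
    -- the centralizer of u in S is E
    obtain ⟨u', hu'def⟩ : ∃ u' : ↥(S : Subgroup G), u' = ⟨u, hES huE⟩ := ⟨_, rfl⟩
    have hu'o : orderOf u' = 2 := by
      rw [← Subgroup.orderOf_coe, hu'def]; exact huo
    have hCu : Subgroup.centralizer ({u'} : Set ↥(S : Subgroup G)) = E.subgroupOf (S : Subgroup G) := by
      ext s
      rw [Subgroup.mem_centralizer_singleton_iff, Subgroup.mem_subgroupOf]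
      constructor
      · intro hsu
        have hsu' : (s : G) * u = u * (s : G) := by
          have := congrArg Subtype.val hsu
          rw [hu'def] at this
          simpa using this
        -- H = E ⊓ C(s) contains 1, u, z
        apply hcent
        rw [Subgroup.mem_centralizer_iff]
        intro e he
        let H : Subgroup G := E ⊓ Subgroup.centralizer ({(s : G)} : Set G)
        have huH : u ∈ H := ⟨huE, Subgroup.mem_centralizer_singleton_iff.mpr hsu'.symm⟩
        have hzH : z ∈ H := ⟨hzE, Subgroup.mem_centralizer_singleton_iff.mpr (hzc s s.2).symm⟩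
        have hHE : H ≤ E := inf_le_left
        have hHcard : Nat.card ↥H = 4 := by
          have hdvd : Nat.card ↥H ∣ 4 := hE ▸ Subgroup.card_dvd_of_le hHE
          have h3 : 3 ≤ Nat.card ↥H := by
            have hinj : Function.Injective (fun i : Fin 3 =>
                (if i = 0 then (⟨1, H.one_mem⟩ : ↥H) else if i = 1 then ⟨u, huH⟩ else ⟨z, hzH⟩)) := by
              intro i j hij
              fin_cases i <;> fin_cases j <;> simp at hij <;> try rfl
              all_goals first
                | exact absurd hij.symm hu1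
                | exact absurd hij hu1
                | exact absurd hij.symm hz1
                | exact absurd hij hz1
                | exact absurd hij.symm hzu
                | exact absurd hij hzu
            have := Nat.card_le_card_of_injective _ hinj
            simpa using this
          have hle : Nat.card ↥H ≤ 4 := Nat.le_of_dvd (by norm_num) hdvd
          interval_cases hH : Nat.card ↥H
          · norm_num at hdvd
          · rfl
        have hHeq : H = E := Subgroup.eq_of_le_of_card_ge hHE (by rw [hHcard, hE])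
        have heH : e ∈ H := by rw [hHeq]; exact he
        exact (Subgroup.mem_centralizer_singleton_iff.mp heH.2)
      · intro hsE
        apply Subtype.ext
        rw [hu'def]
        show (s : G) * u = u * (s : G)
        exact hEcomm _ hsE _ huE
    have hCcard : Nat.card (Subgroup.centralizer ({u'} : Set ↥(S : Subgroup G))) = 4 := by
      rw [hCu, Nat.card_congr (Subgroup.subgroupOfEquivOfLe hES).toEquiv, hE]
    rcases Cfsg.Agent.Lib.Helper5.Fx2.dihedral_or_quasidihedral_of_card_centralizer_four
      S.isPGroup' u' hu'o hCcard hSnc with ⟨n, ⟨ψ⟩⟩ | hQD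
    · -- dihedral
      have hn : 2 ≤ n := by
        by_contra hlt
        have hcS : Nat.card ↥(S : Subgroup G) = 2 * n := by
          rw [Nat.card_congr ψ.toEquiv, DihedralGroup.nat_card]
        have h4 : 4 ≤ Nat.card ↥(S : Subgroup G) := by
          have := Subgroup.card_le_of_le hES
          rwa [hE] at this
        omega
      obtain ⟨F, hField, hFin, _, hiso⟩ :=
        Cfsg.Agent.Lib.Helper5.S3396End.psl_of_dihedral_cit hCIT S n hn ⟨ψ⟩
      exact hfin F hField hFin hiso
    · exact (not_quasiDihedral_of_cit hna hCIT S hQD).elim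

end Cfsg.Agent.Lib.Helper5.CP
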