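import Mathlib
import Cfsg.Agent.Lib.Helper3.CUBDefs
import Cfsg.Agent.Lib.Helper8.CUBFour

/-! Farm CUB (S4415), unit T5: `P5` (the `Q`-frame = lemma FOUR in the owner's Defs), through
helper8's `FourData`. -/
set_option autoImplicit false
set_option maxHeartbeats 1000000
set_option linter.unusedVariables false
set_option linter.unusedSectionVars false
set_option linter.style.longLine false
open scoped commutatorElement

namespace Cfsg.Agent.Lib.Helper5.CUB

open Cfsg.Agent.Lib.Helper3.CUB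
open Cfsg.Agent.Lib.Helper8.CUB

universe u v

variable {G : Type u} [Group G] [Finite G] {E : Type v} [AddCommGroup E] [Module (ZMod 3) E]
  [Finite E] {ρ : Representation (ZMod 3) G E} {R : Subgroup G} {b : G} {Q : Subgroup G}

theorem rho_b_cube (c : Cfg ρ R b Q) (v : E) : ρ b (ρ b (ρ b v)) = v := by
  have h3 : b ^ 3 = 1 := by rw [← c.b3]; exact pow_orderOf_eq_one b
  have h : ρ (b ^ 3) v = v := by rw [h3, map_one, Module.End.one_apply]
  rw [pow_succ, pow_succ, pow_one, map_mul, map_mul, Module.End.mul_apply,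
    Module.End.mul_apply] at h
  exact h

/-- `n³ = 0` -/
theorem nn_cube (c : Cfg ρ R b Q) (v : E) : nn ρ b (nn ρ b (nn ρ b v)) = 0 := by
  have h3 := rho_b_cube c v
  simp only [nn_apply, map_sub, h3]
  have e : v - ρ b (ρ b v) - (ρ b (ρ b v) - ρ b v) - (ρ b (ρ b v) - ρ b v - (ρ b v - v))
      = (ρ b v - ρ b (ρ b v)) + (ρ b v - ρ b (ρ b v)) + (ρ b v - ρ b (ρ b v)) := by abel
  rw [e]
  exact add3 _

/-- `rank n² ≤ 1` -/
theorem finrank_range_nn_sq (c : Cfg ρ R b Q) :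
    Module.finrank (ZMod 3) (LinearMap.range (nn ρ b * nn ρ b)) ≤ 1 := by
  obtain ⟨v, hv⟩ := c.cubic
  let f : LinearMap.range (nn ρ b) →ₗ[ZMod 3] E := (nn ρ b).domRestrict (LinearMap.range (nn ρ b))
  have hrange : LinearMap.range f = LinearMap.range (nn ρ b * nn ρ b) := by
    ext w
    constructor
    · rintro ⟨⟨x, y, rfl⟩, rfl⟩
      exact ⟨y, rfl⟩
    · rintro ⟨y, rfl⟩
      exact ⟨⟨nn ρ b y, y, rfl⟩, rfl⟩
  have hker : LinearMap.ker f ≠ ⊥ := by
    intro hbot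
    have hw : (⟨nn ρ b (nn ρ b v), nn ρ b v, rfl⟩ : LinearMap.range (nn ρ b)) ∈ LinearMap.ker f := by
      rw [LinearMap.mem_ker]
      exact nn_cube c v
    rw [hbot, Submodule.mem_bot] at hw
    exact hv (congrArg Subtype.val hw)
  have h1 := LinearMap.finrank_range_add_finrank_ker f
  rw [c.rank, hrange] at h1
  have h2 : 0 < Module.finrank (ZMod 3) (LinearMap.ker f) := by
    rw [Module.finrank_pos_iff_exists_ne_zero]
    obtain ⟨w, hw, hw0⟩ := (Submodule.ne_bot_iff _).1 hker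
    exact ⟨⟨w, hw⟩, fun hh => hw0 (congrArg Subtype.val hh)⟩
  omega

/-- `FourData` for any four-group normalized, not centralized by `b`. -/
theorem fourData_of_cfg (c : Cfg ρ R b Q) (Q' : Subgroup G) (h4 : Nat.card Q' = 4)
    (h2 : ∀ q ∈ Q', q ^ 2 = 1) (hn : b ∈ Subgroup.normalizer (Q' : Set G))
    (hn' : b ∉ Subgroup.centralizer (Q' : Set G)) : FourData ρ b Q' where
  faith := c.faith
  b3 := by rw [← c.b3]; exact pow_orderOf_eq_one b
  rk2 := by
    have h : ρ b - 1 = nn ρ b := rfl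
    rw [h, c.rank]
  rk1 := by
    have h : ρ b - 1 = nn ρ b := rfl
    rw [h]
    exact finrank_range_nn_sq c
  elem := by
    refine ⟨⟨⟨fun x y => ?_⟩⟩, h2⟩
    apply Subtype.ext
    show (x : G) * y = y * x
    have hx := h2 x x.2
    have hy := h2 y y.2
    have hxy := h2 (x * y) (Q'.mul_mem x.2 y.2)
    rw [pow_two] at hx hy hxy
    have e1 : (x : G)⁻¹ = x := inv_eq_of_mul_eq_one_left hx
    have e2 : (y : G)⁻¹ = y := inv_eq_of_mul_eq_one_left hy
    have e3 : ((x : G) * y)⁻¹ = x * y := inv_eq_of_mul_eq_one_left hxy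
    rw [← e3, mul_inv_rev, e1, e2]
  card := h4
  norm := hn
  ncent := hn'

theorem fourData (c : Cfg ρ R b Q) : FourData ρ b Q :=
  fourData_of_cfg c Q c.Q4 c.Q2 c.bQ c.bQ'

/-- every element of a line is a multiple of a nonzero element of it -/
theorem exists_smul_of_finrank_one {L : Submodule (ZMod 3) E}
    (hL : Module.finrank (ZMod 3) L = 1) {e : E} (he : e ∈ L) (he0 : e ≠ 0) {y : E} (hy : y ∈ L) :
    ∃ a : ZMod 3, y = a • e := by
  have hne : (⟨e, he⟩ : L) ≠ 0 := fun h => he0 (congrArg Subtype.val h)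
  obtain ⟨a, ha⟩ := (finrank_eq_one_iff_of_nonzero' (⟨e, he⟩ : L) hne).mp hL ⟨y, hy⟩
  exact ⟨a, (congrArg Subtype.val ha).symm⟩

/-- P5 (stub verbatim). -/
theorem P5 (c : Cfg ρ R b Q) :
    ∃ (q₁ q₂ q₃ : G) (e₁ e₂ e₃ : E), QFrame ρ b Q q₁ q₂ q₃ e₁ e₂ e₃ := by
  have hd := fourData c
  obtain ⟨q₁, q₂, q₃, ht⟩ := hd.exists_triple
  have hL1 := hd.finrank_wt ht
  have hL2 := hd.finrank_wt ht.rot
  have hL3 := hd.finrank_wt ht.rot.rot
  obtain ⟨⟨e₁, he₁⟩, hne⟩ :=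
    (Module.finrank_pos_iff_exists_ne_zero (R := ZMod 3) (M := wt (ρ q₁) (ρ q₂))).mp
      (by rw [hL1]; norm_num)
  have he0 : e₁ ≠ 0 := fun h => hne (Subtype.ext h)
  have binj : ∀ w : E, ρ b w = 0 → w = 0 := by
    intro w hw
    have := rho_b_cube c w
    rw [hw, map_zero, map_zero] at this
    exact this.symm
  have he₂ : ρ b e₁ ∈ wt (ρ q₂) (ρ q₃) := hd.map_wt ht he₁
  have he₃ : ρ b (ρ b e₁) ∈ wt (ρ q₃) (ρ q₁) := hd.map_wt ht.rot he₂
  have he₂0 : ρ b e₁ ≠ 0 := fun h => he0 (binj _ h)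
  have he₃0 : ρ b (ρ b e₁) ≠ 0 := fun h => he₂0 (binj _ h)
  refine ⟨q₁, q₂, q₃, e₁, ρ b e₁, ρ b (ρ b e₁), ?_⟩
  exact
    { mem₁ := ht.mem₁
      mem₂ := ht.mem₂
      mem₃ := ht.mem₃
      all := ht.all
      ne₁ := ht.ne₁
      mul := ht.mul12
      conj₁ := ht.conj₁
      conj₂ := ht.conj₂
      conj₃ := ht.conj₃
      be₁ := rfl
      be₂ := rfl
      be₃ := rho_b_cube c e₁
      e_ne := he0
      q₁e₁ := (mem_wt.mp he₁).1
      q₂e₁ := (mem_wt.mp he₁).2
      mult_one := fun v h1 h2 => exists_smul_of_finrank_one hL1 he₁ he0 (mem_wt.mpr ⟨h1, h2⟩)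
      fixb := fun v hv => hd.fix_b' v hv
      decomp := by
        intro v
        obtain ⟨w, hw, x, hx, y, hy, z, hz, rfl⟩ := hd.exists_decomp ht v
        obtain ⟨a₁, rfl⟩ := exists_smul_of_finrank_one hL1 he₁ he0 hx
        obtain ⟨a₂, rfl⟩ := exists_smul_of_finrank_one hL2 he₂ he₂0 hy
        obtain ⟨a₃, rfl⟩ := exists_smul_of_finrank_one hL3 he₃ he₃0 hz
        exact ⟨w, hw, a₁, a₂, a₃, rfl⟩ }

end Cfsg.Agent.Lib.Helper5.CUB
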