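import Mathlib
import Cfsg.Prelude

/-! Farm CUB (S4415), unit S3: the module half of the conclusion.  `R` a `3'`-subgroup with
`R = ⁅R, B⁆`, `B = ⟨b⟩`, `Q ≤ R`; `E = C_E(R) ⊕ [E, R]`, `R ⊔ B` is faithful and irreducible on
`[E, R]`. -/
set_option autoImplicit false
set_option maxHeartbeats 1000000
set_option linter.unusedVariables false
set_option linter.unusedSectionVars false
set_option linter.style.longLine false
set_option linter.style.haveILetI false
open scoped commutatorElement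

namespace Cfsg.Agent.Lib.Helper5.CUB

variable {S : Type*} [Group S] {E : Type*} [AddCommGroup E] [Module (ZMod 3) E]
  (ρ : Representation (ZMod 3) S E)

/-- the averaging operator of a finite subgroup of order prime to `3` -/
noncomputable def avg (X : Subgroup S) [Fintype X] : E →ₗ[ZMod 3] E :=
  ((Fintype.card X : ZMod 3)⁻¹) • ∑ x : X, ρ (x : S)

theorem avg_apply (X : Subgroup S) [Fintype X] (v : E) :
    avg ρ X v = ((Fintype.card X : ZMod 3)⁻¹) • ∑ x : X, ρ (x : S) v := by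
  unfold avg
  rw [LinearMap.smul_apply, LinearMap.sum_apply]

theorem inv_mul_card (X : Subgroup S) [Fintype X] (hX : (Fintype.card X).Coprime 3) :
    ((Fintype.card X : ZMod 3)⁻¹) * (Fintype.card X : ZMod 3) = 1 := by
  rw [mul_comm]
  exact ZMod.coe_mul_inv_eq_one _ hX

/-- the average fixes the fixed points -/
theorem avg_of_fixed (X : Subgroup S) [Fintype X] (hX : (Fintype.card X).Coprime 3) {v : E}
    (hv : ∀ x ∈ X, ρ x v = v) : avg ρ X v = v := by
  rw [avg_apply]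
  have h1 : ∑ x : X, ρ (x : S) v = (Fintype.card X : ZMod 3) • v := by
    rw [Finset.sum_congr rfl (fun (x : X) _ => hv (x : S) x.2), Finset.sum_const, Finset.card_univ,
      Nat.cast_smul_eq_nsmul]
  rw [h1, smul_smul, inv_mul_card X hX, one_smul]

/-- the average is fixed -/
theorem rho_avg (X : Subgroup S) [Fintype X] (v : E) {r : S} (hr : r ∈ X) :
    ρ r (avg ρ X v) = avg ρ X v := by
  rw [avg_apply, map_smul, map_sum]
  congr 1
  have h := Equiv.sum_comp (Equiv.mulLeft (⟨r, hr⟩ : X)) (fun x : X => ρ (x : S) v)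
  rw [← h]
  apply Finset.sum_congr rfl
  intro x _
  show ρ r (ρ (x : S) v) = ρ ((⟨r, hr⟩ * x : X) : S) v
  rw [Subgroup.coe_mul, map_mul]
  rfl

/-- the average kills `ρ r v - v` -/
theorem avg_rho (X : Subgroup S) [Fintype X] (v : E) {r : S} (hr : r ∈ X) :
    avg ρ X (ρ r v) = avg ρ X v := by
  rw [avg_apply, avg_apply]
  congr 1
  have h := Equiv.sum_comp (Equiv.mulRight (⟨r, hr⟩ : X)) (fun x : X => ρ (x : S) v)
  rw [← h]
  apply Finset.sum_congr rfl
  intro x _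
  show ρ (x : S) (ρ r v) = ρ ((x * ⟨r, hr⟩ : X) : S) v
  rw [Subgroup.coe_mul, map_mul]
  rfl

/-- conjugation by a normalizing element, as a permutation of the subgroup -/
def conjEquiv (X : Subgroup S) {g : S} (hg : g ∈ Subgroup.normalizer (X : Set S)) : X ≃ X where
  toFun x := ⟨g * x * g⁻¹, (Subgroup.mem_normalizer_iff.mp hg x).mp x.2⟩
  invFun x := ⟨g⁻¹ * x * g, by
    have h := (Subgroup.mem_normalizer_iff.mp hg (g⁻¹ * x * g)).mpr
    apply h
    have : g * (g⁻¹ * (x : S) * g) * g⁻¹ = x := by group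
    rw [this]
    exact x.2⟩
  left_inv x := by
    apply Subtype.ext
    show g⁻¹ * (g * (x : S) * g⁻¹) * g = x
    group
  right_inv x := by
    apply Subtype.ext
    show g * (g⁻¹ * (x : S) * g) * g⁻¹ = x
    group

/-- the average commutes with the normalizer -/
theorem avg_comm (X : Subgroup S) [Fintype X] (v : E) {g : S}
    (hg : g ∈ Subgroup.normalizer (X : Set S)) : avg ρ X (ρ g v) = ρ g (avg ρ X v) := by
  rw [avg_apply, avg_apply, map_smul, map_sum]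
  congr 1
  have h := Equiv.sum_comp (conjEquiv X hg) (fun x : X => ρ (x : S) (ρ g v))
  rw [← h]
  apply Finset.sum_congr rfl
  intro x _
  show ρ ((conjEquiv X hg x : X) : S) (ρ g v) = ρ g (ρ (x : S) v)
  have h1 : ((conjEquiv X hg x : X) : S) = g * x * g⁻¹ := rfl
  rw [h1, ← Module.End.mul_apply, ← map_mul, ← Module.End.mul_apply, ← map_mul]
  congr 2
  group

/-- `v - avg v` is a combination of the `ρ x v - v` -/
theorem sub_avg_mem (X : Subgroup S) [Fintype X] (hX : (Fintype.card X).Coprime 3)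
    (N : Submodule (ZMod 3) E) {v : E} (hv : ∀ x ∈ X, ρ x v - v ∈ N) : v - avg ρ X v ∈ N := by
  have h1 : v = ((Fintype.card X : ZMod 3)⁻¹) • ∑ x : X, v := by
    rw [Finset.sum_const, Finset.card_univ, ← Nat.cast_smul_eq_nsmul (ZMod 3), smul_smul,
      inv_mul_card X hX, one_smul]
  have h2 : v - avg ρ X v = ((Fintype.card X : ZMod 3)⁻¹) • ∑ x : X, (v - ρ (x : S) v) := by
    rw [avg_apply, Finset.sum_sub_distrib, smul_sub, ← h1]
  rw [h2]
  apply N.smul_mem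
  apply N.sum_mem
  intro x _
  have := N.neg_mem (hv x x.2)
  rwa [neg_sub] at this

/-- COMMUTATOR TRICK: if `b` acts trivially on the section `N' / N` of `(R ⊔ B)`-invariant
submodules then so does `R = ⁅R, B⁆`. -/
theorem comm_trick (R B : Subgroup S) (b : S) (hb : Subgroup.zpowers b = B)
    (hRB : ⁅R, B⁆ = R) (N N' : Submodule (ZMod 3) E)
    (hN : ∀ g ∈ R ⊔ B, ∀ v ∈ N, ρ g v ∈ N) (hN' : ∀ g ∈ R ⊔ B, ∀ v ∈ N', ρ g v ∈ N')
    (hbt : ∀ v ∈ N', ρ b v - v ∈ N) : ∀ r ∈ R, ∀ v ∈ N', ρ r v - v ∈ N := by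
  let T : Subgroup S :=
    { carrier := {g | g ∈ R ⊔ B ∧ ∀ v ∈ N', ρ g v - v ∈ N}
      mul_mem' := by
        rintro g h ⟨hg, hg'⟩ ⟨hh, hh'⟩
        refine ⟨Subgroup.mul_mem _ hg hh, fun v hv => ?_⟩
        have h1 : ρ (g * h) v - v = ρ g (ρ h v - v) + (ρ g v - v) := by
          rw [map_mul, Module.End.mul_apply, map_sub]
          abel
        rw [h1]
        exact N.add_mem (hN g hg _ (hh' v hv)) (hg' v hv)
      one_mem' := by
        refine ⟨Subgroup.one_mem _, fun v hv => ?_⟩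
        rw [map_one, Module.End.one_apply, sub_self]
        exact N.zero_mem
      inv_mem' := by
        rintro g ⟨hg, hg'⟩
        refine ⟨Subgroup.inv_mem _ hg, fun v hv => ?_⟩
        have h1 : ρ g⁻¹ v - v = - ρ g⁻¹ (ρ g v - v) := by
          rw [map_sub, ← Module.End.mul_apply, ← map_mul, inv_mul_cancel, map_one,
            Module.End.one_apply]
          abel
        rw [h1]
        exact N.neg_mem (hN g⁻¹ (Subgroup.inv_mem _ hg) _ (hg' v hv)) }
  have hbT : b ∈ T := by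
    refine ⟨?_, hbt⟩
    apply (le_sup_right : B ≤ R ⊔ B)
    rw [← hb]
    exact Subgroup.mem_zpowers b
  have hBT : B ≤ T := by
    rw [← hb, Subgroup.zpowers_le]
    exact hbT
  have hconj : ∀ g ∈ R ⊔ B, ∀ c ∈ T, g * c * g⁻¹ ∈ T := by
    rintro g hg c ⟨hc, hc'⟩
    refine ⟨Subgroup.mul_mem _ (Subgroup.mul_mem _ hg hc) (Subgroup.inv_mem _ hg), fun v hv => ?_⟩
    have hu : ρ g⁻¹ v ∈ N' := hN' g⁻¹ (Subgroup.inv_mem _ hg) v hv
    have h1 : ρ (g * c * g⁻¹) v - v = ρ g (ρ c (ρ g⁻¹ v) - ρ g⁻¹ v) := by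
      rw [map_sub, map_mul, map_mul, Module.End.mul_apply, Module.End.mul_apply,
        ← Module.End.mul_apply (ρ g) (ρ g⁻¹), ← map_mul, mul_inv_cancel, map_one,
        Module.End.one_apply]
    rw [h1]
    exact hN g hg _ (hc' _ hu)
  have hRT : R ≤ T := by
    rw [← hRB, Subgroup.commutator_le]
    intro r hr c hc
    rw [commutatorElement_def]
    exact T.mul_mem (hconj r ((le_sup_left : R ≤ R ⊔ B) hr) c (hBT hc)) (T.inv_mem (hBT hc))
  intro r hr
  exact (hRT hr).2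

/-- the subgroup of elements acting trivially on a submodule -/
def fixer (F : Submodule (ZMod 3) E) : Subgroup S where
  carrier := {g | ∀ v ∈ F, ρ g v = v}
  mul_mem' := by
    intro g h hg hh v hv
    rw [map_mul, Module.End.mul_apply, hh v hv, hg v hv]
  one_mem' := by
    intro v hv
    rw [map_one, Module.End.one_apply]
  inv_mem' := by
    intro g hg v hv
    have h1 : ρ g⁻¹ (ρ g v) = v := by
      rw [← Module.End.mul_apply, ← map_mul, inv_mul_cancel, map_one, Module.End.one_apply]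
    rw [hg v hv] at h1
    exact h1

/-- the fixed points of a subgroup, as a submodule -/
def fixedSub (X : Subgroup S) : Submodule (ZMod 3) E where
  carrier := {v | ∀ x ∈ X, ρ x v = v}
  add_mem' := by
    intro u v hu hv x hx
    rw [map_add, hu x hx, hv x hx]
  zero_mem' := by
    intro x hx
    rw [map_zero]
  smul_mem' := by
    intro c v hv x hx
    rw [map_smul, hv x hx]

theorem mem_fixedSub {X : Subgroup S} {v : E} : v ∈ fixedSub ρ X ↔ ∀ x ∈ X, ρ x v = v := Iff.rfl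

/-- Unit S3, strong form. -/
theorem s3_strong [Finite S] (hfaith : Function.Injective ρ) (R B Q : Subgroup S) (b : S)
    (hb : Subgroup.zpowers b = B) (hR3 : (Nat.card R).Coprime 3)
    (hBR : B ≤ Subgroup.normalizer (R : Set S)) (hRB : ⁅R, B⁆ = R) (hQR : Q ≤ R)
    (hCb : ∀ v : E, (∀ q ∈ Q, ρ q v = v) → ρ b v = v)
    (hdich : ∀ N : Submodule (ZMod 3) E, (∀ q ∈ Q, ∀ v ∈ N, ρ q v ∈ N) → (∀ v ∈ N, ρ b v ∈ N) →
      (∀ v ∈ N, ∀ q ∈ Q, ρ q v = v) ∨ (∀ v : E, ∀ q ∈ Q, ρ q v - v ∈ N)) :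
    ∃ F₀ F₁ : Submodule (ZMod 3) E, (F₀ ⊓ F₁ = ⊥ ∧ F₀ ⊔ F₁ = ⊤ ∧
      (∀ r ∈ R, ∀ v ∈ F₁, ρ r v = v) ∧ (∀ r ∈ R ⊔ B, ∀ v ∈ F₀, ρ r v ∈ F₀) ∧
      (∀ r ∈ R ⊔ B, (∀ v ∈ F₀, ρ r v = v) → r = 1) ∧
      (∀ N : Submodule (ZMod 3) E, N ≤ F₀ → (∀ r ∈ R ⊔ B, ∀ v ∈ N, ρ r v ∈ N) →
        N = ⊥ ∨ N = F₀)) ∧
      F₁ = fixedSub ρ R ∧ (∀ g ∈ R ⊔ B, ∀ v ∈ F₁, ρ g v = v) ∧
      (∀ v : E, ∀ r ∈ R, ρ r v - v ∈ F₀) ∧
      (∀ N : Submodule (ZMod 3) E, (∀ w ∈ F₀, ∀ r ∈ R, ρ r w - w ∈ N) → F₀ ≤ N) := by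
  classical
  haveI : Fintype R := Fintype.ofFinite R
  haveI : Fintype Q := Fintype.ofFinite Q
  have hR3' : (Fintype.card R).Coprime 3 := by rwa [← Nat.card_eq_fintype_card]
  have hQ3' : (Fintype.card Q).Coprime 3 := by
    rw [← Nat.card_eq_fintype_card]
    exact Nat.Coprime.coprime_dvd_left (Subgroup.card_dvd_of_le hQR) hR3
  have hbB : b ∈ B := by rw [← hb]; exact Subgroup.mem_zpowers b
  have hRle : R ≤ R ⊔ B := le_sup_left
  have hBle : B ≤ R ⊔ B := le_sup_right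
  have hnorm : R ⊔ B ≤ Subgroup.normalizer (R : Set S) := sup_le Subgroup.le_normalizer hBR
  -- the two summands
  have hF01 : LinearMap.ker (avg ρ R) ⊓ fixedSub ρ R = ⊥ := by
    rw [eq_bot_iff]
    rintro v ⟨hv0, hv1⟩
    have h0 : avg ρ R v = 0 := LinearMap.mem_ker.mp hv0
    have h1 : avg ρ R v = v := avg_of_fixed ρ R hR3' hv1
    rw [Submodule.mem_bot, ← h1, h0]
  have havgfix : ∀ v : E, avg ρ R v ∈ fixedSub ρ R := fun v r hr => rho_avg ρ R v hr
  have hker : ∀ v : E, v - avg ρ R v ∈ LinearMap.ker (avg ρ R) := by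
    intro v
    rw [LinearMap.mem_ker, map_sub, avg_of_fixed ρ R hR3' (havgfix v), sub_self]
  have hF01' : LinearMap.ker (avg ρ R) ⊔ fixedSub ρ R = ⊤ := by
    rw [eq_top_iff]
    intro v _
    have h1 : v = (v - avg ρ R v) + avg ρ R v := by abel
    rw [h1]
    exact Submodule.add_mem_sup (hker v) (havgfix v)
  have hinv0 : ∀ g ∈ R ⊔ B, ∀ v ∈ LinearMap.ker (avg ρ R), ρ g v ∈ LinearMap.ker (avg ρ R) := by
    intro g hg v hv
    rw [LinearMap.mem_ker] at hv ⊢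
    rw [avg_comm ρ R v (hnorm hg), hv, map_zero]
  have hcomm0 : ∀ v : E, ∀ r ∈ R, ρ r v - v ∈ LinearMap.ker (avg ρ R) := by
    intro v r hr
    rw [LinearMap.mem_ker, map_sub, avg_rho ρ R v hr, sub_self]
  have hgen0 : ∀ N : Submodule (ZMod 3) E,
      (∀ w ∈ LinearMap.ker (avg ρ R), ∀ r ∈ R, ρ r w - w ∈ N) → LinearMap.ker (avg ρ R) ≤ N := by
    intro N hN w hw
    have h1 := sub_avg_mem ρ R hR3' N (fun x hx => hN w hw x hx)
    rwa [LinearMap.mem_ker.mp hw, sub_zero] at h1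
  -- `R ⊔ B` is trivial on the fixed points of `R`
  have hfix1 : ∀ g ∈ R ⊔ B, ∀ v ∈ fixedSub ρ R, ρ g v = v := by
    have hle : R ⊔ B ≤ fixer ρ (fixedSub ρ R) := by
      apply sup_le
      · intro r hr v hv
        exact hv r hr
      · rw [← hb, Subgroup.zpowers_le]
        intro v hv
        exact hCb v (fun q hq => hv q (hQR hq))
    intro g hg
    exact hle hg
  refine ⟨LinearMap.ker (avg ρ R), fixedSub ρ R, ⟨hF01, hF01', fun r hr v hv => hv r hr, hinv0,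
    ?_, ?_⟩, rfl, hfix1, hcomm0, hgen0⟩
  · -- faithful
    intro g hg hg0
    apply hfaith
    rw [map_one]
    apply LinearMap.ext
    intro v
    have hv : v ∈ LinearMap.ker (avg ρ R) ⊔ fixedSub ρ R := by rw [hF01']; exact Submodule.mem_top
    obtain ⟨x, hx, y, hy, rfl⟩ := Submodule.mem_sup.mp hv
    rw [map_add, hg0 x hx, hfix1 g hg y hy, Module.End.one_apply]
  · -- irreducible
    intro N hN0 hNinv
    have hNQ : ∀ q ∈ Q, ∀ v ∈ N, ρ q v ∈ N := fun q hq => hNinv q (hRle (hQR hq))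
    have hNb : ∀ v ∈ N, ρ b v ∈ N := hNinv b (hBle hbB)
    rcases hdich N hNQ hNb with h | h
    · left
      have hbt : ∀ v ∈ N, ρ b v - v ∈ (⊥ : Submodule (ZMod 3) E) := by
        intro v hv
        rw [Submodule.mem_bot, hCb v (h v hv), sub_self]
      have hct := comm_trick ρ R B b hb hRB ⊥ N
        (fun g _ v hv => by rw [Submodule.mem_bot] at hv ⊢; rw [hv, map_zero]) hNinv hbt
      rw [eq_bot_iff, ← hF01]
      intro v hv
      refine ⟨hN0 hv, fun r hr => ?_⟩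
      have := hct r hr v hv
      rw [Submodule.mem_bot] at this
      exact sub_eq_zero.mp this
    · right
      apply le_antisymm hN0
      apply hgen0
      intro w0 hw0 r0 hr0
      refine comm_trick ρ R B b hb hRB N _ hNinv hinv0 ?_ r0 hr0 w0 hw0
      intro w hw
      -- `w ≡ avg_Q w` modulo `N`, and `b` fixes `avg_Q w`
      have h1 : w - avg ρ Q w ∈ N := sub_avg_mem ρ Q hQ3' N (fun q hq => h w q hq)
      have h2 : ρ b (avg ρ Q w) = avg ρ Q w := hCb _ (fun q hq => rho_avg ρ Q w hq)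
      have h3 : ρ b w - w = ρ b (w - avg ρ Q w) - (w - avg ρ Q w) := by
        rw [map_sub, h2]
        abel
      rw [h3]
      exact N.sub_mem (hNb _ h1) h1

/-- Unit S3: the second conjunct of the frozen conclusion of S4415, with `R` for
`⁅O_{3'}(S), B⁆`. -/
theorem s3 [Finite S] (hfaith : Function.Injective ρ) (R B Q : Subgroup S) (b : S)
    (hb : Subgroup.zpowers b = B) (hR3 : (Nat.card R).Coprime 3)
    (hBR : B ≤ Subgroup.normalizer (R : Set S)) (hRB : ⁅R, B⁆ = R) (hQR : Q ≤ R)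
    (hCb : ∀ v : E, (∀ q ∈ Q, ρ q v = v) → ρ b v = v)
    (hdich : ∀ N : Submodule (ZMod 3) E, (∀ q ∈ Q, ∀ v ∈ N, ρ q v ∈ N) → (∀ v ∈ N, ρ b v ∈ N) →
      (∀ v ∈ N, ∀ q ∈ Q, ρ q v = v) ∨ (∀ v : E, ∀ q ∈ Q, ρ q v - v ∈ N)) :
    ∃ F₀ F₁ : Submodule (ZMod 3) E, F₀ ⊓ F₁ = ⊥ ∧ F₀ ⊔ F₁ = ⊤ ∧
      (∀ r ∈ R, ∀ v ∈ F₁, ρ r v = v) ∧ (∀ r ∈ R ⊔ B, ∀ v ∈ F₀, ρ r v ∈ F₀) ∧
      (∀ r ∈ R ⊔ B, (∀ v ∈ F₀, ρ r v = v) → r = 1) ∧
      (∀ N : Submodule (ZMod 3) E, N ≤ F₀ → (∀ r ∈ R ⊔ B, ∀ v ∈ N, ρ r v ∈ N) →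
        N = ⊥ ∨ N = F₀) := by
  obtain ⟨F₀, F₁, h, -⟩ := s3_strong ρ hfaith R B Q b hb hR3 hBR hRB hQR hCb hdich
  exact ⟨F₀, F₁, h⟩

end Cfsg.Agent.Lib.Helper5.CUB
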