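import Mathlib
import Cfsg.Agent.Lib.Helper3.CUBDefs
import Cfsg.Agent.Lib.Helper8.CUBFour
import Cfsg.Agent.Lib.Helper5.CUBS3
import Cfsg.Agent.Lib.Helper5.CUBP5

/-! Farm CUB (S4415), unit T6: `P5'` and `DIM` (stubs verbatim). -/
set_option autoImplicit false
set_option maxHeartbeats 1000000
set_option linter.unusedVariables false
set_option linter.unusedSectionVars false
set_option linter.style.longLine false
set_option linter.style.haveILetI false
open scoped commutatorElement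

namespace Cfsg.Agent.Lib.Helper5.CUB

open Cfsg.Agent.Lib.Helper3.CUB
open Cfsg.Agent.Lib.Helper8.CUB

universe u v

variable {G : Type u} [Group G] [Finite G] {E : Type v} [AddCommGroup E] [Module (ZMod 3) E]
  [Finite E] {ρ : Representation (ZMod 3) G E} {R : Subgroup G} {b : G} {Q : Subgroup G}

/-- coprime decomposition `C_E(X) ∩ [E,X] = 0`, `C_E(X) + [E,X] = E` -/
theorem fixSub_commSub (ρ : Representation (ZMod 3) G E) (X : Subgroup G)
    (hX : (Nat.card X).Coprime 3) :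
    fixSub ρ X ⊓ commSub ρ X = ⊥ ∧ fixSub ρ X ⊔ commSub ρ X = ⊤ := by
  classical
  haveI : Fintype X := Fintype.ofFinite X
  have hX' : (Fintype.card X).Coprime 3 := by rwa [← Nat.card_eq_fintype_card]
  have hkill : commSub ρ X ≤ LinearMap.ker (avg ρ X) := by
    unfold commSub
    rw [Submodule.span_le]
    rintro w ⟨x, hx, v, rfl⟩
    show ρ x v - v ∈ LinearMap.ker (avg ρ X)
    rw [LinearMap.mem_ker, map_sub, avg_rho ρ X v hx, sub_self]
  constructor
  · rw [eq_bot_iff]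
    rintro v ⟨hv1, hv2⟩
    have h0 : avg ρ X v = 0 := LinearMap.mem_ker.mp (hkill hv2)
    have h1 : avg ρ X v = v := avg_of_fixed ρ X hX' hv1
    rw [Submodule.mem_bot, ← h1, h0]
  · rw [eq_top_iff]
    intro v _
    have h1 : v = avg ρ X v + (v - avg ρ X v) := by abel
    rw [h1]
    refine Submodule.add_mem_sup (fun x hx => rho_avg ρ X v hx) ?_
    apply sub_avg_mem ρ X hX'
    intro x hx
    exact Submodule.subset_span ⟨x, hx, v, rfl⟩

/-- P5' (stub verbatim). -/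
theorem P5' (c : Cfg ρ R b Q) (N : Submodule (ZMod 3) E) (hQ : ∀ q ∈ Q, Inv ρ q N)
    (hb : Inv ρ b N) : commSub ρ Q ≤ N ∨ commSub ρ Q ⊓ N = ⊥ := by
  have hd := fourData c
  rcases hd.dichotomy' N hQ hb with h | h
  · right
    have hQ3 : (Nat.card Q).Coprime 3 := by rw [c.Q4]; norm_num
    rw [eq_bot_iff, ← (fixSub_commSub ρ Q hQ3).1]
    rintro v ⟨hv1, hv2⟩
    exact ⟨fun q hq => h v hv2 q hq, hv1⟩
  · left
    unfold commSub
    rw [Submodule.span_le]
    rintro w ⟨x, hx, v, rfl⟩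
    exact h v x hx

theorem finrank_sup_of_disjoint {A B : Submodule (ZMod 3) E} (h : A ⊓ B = ⊥) :
    Module.finrank (ZMod 3) ↥(A ⊔ B) = Module.finrank (ZMod 3) A + Module.finrank (ZMod 3) B := by
  have := Submodule.finrank_sup_add_finrank_inf_eq A B
  rw [h, finrank_bot, add_zero] at this
  exact this

/-- `dim E = dim C_E(Q) + 3` -/
theorem finrank_eq_fixQ_add_three (hd : FourData ρ b Q) :
    Module.finrank (ZMod 3) E = Module.finrank (ZMod 3) (fixQ ρ Q) + 3 := by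
  obtain ⟨q₁, q₂, q₃, ht⟩ := hd.exists_triple
  have hL1 := hd.finrank_wt ht
  have hL2 := hd.finrank_wt ht.rot
  have hL3 := hd.finrank_wt ht.rot.rot
  have h1 : fixQ ρ Q ⊓ wt (ρ q₁) (ρ q₂) = ⊥ := by
    rw [eq_bot_iff]
    rintro v ⟨hv1, hv2⟩
    have h0 : v + (-v) + 0 + 0 = (0 : E) := by abel
    exact (Submodule.mem_bot _).2
      (hd.indep ht hv1 (Submodule.neg_mem _ hv2) (Submodule.zero_mem _) (Submodule.zero_mem _) h0).1
  have h2 : (fixQ ρ Q ⊔ wt (ρ q₁) (ρ q₂)) ⊓ wt (ρ q₂) (ρ q₃) = ⊥ := by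
    rw [eq_bot_iff]
    rintro v ⟨hv1, hv2⟩
    obtain ⟨a, ha, x, hx, rfl⟩ := Submodule.mem_sup.mp hv1
    have h0 : a + x + (-(a + x)) + 0 = (0 : E) := by abel
    have := hd.indep ht ha hx (Submodule.neg_mem _ hv2) (Submodule.zero_mem _) h0
    rw [Submodule.mem_bot, this.1, this.2.1, add_zero]
  have h3 : ((fixQ ρ Q ⊔ wt (ρ q₁) (ρ q₂)) ⊔ wt (ρ q₂) (ρ q₃)) ⊓ wt (ρ q₃) (ρ q₁) = ⊥ := by
    rw [eq_bot_iff]
    rintro v ⟨hv1, hv2⟩
    obtain ⟨ax, hax, y, hy, rfl⟩ := Submodule.mem_sup.mp hv1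
    obtain ⟨a, ha, x, hx, rfl⟩ := Submodule.mem_sup.mp hax
    have h0 : a + x + y + (-(a + x + y)) = (0 : E) := by abel
    have := hd.indep ht ha hx hy (Submodule.neg_mem _ hv2) h0
    rw [Submodule.mem_bot, this.1, this.2.1, this.2.2.1, add_zero, add_zero]
  have htop : ((fixQ ρ Q ⊔ wt (ρ q₁) (ρ q₂)) ⊔ wt (ρ q₂) (ρ q₃)) ⊔ wt (ρ q₃) (ρ q₁) = ⊤ := by
    rw [eq_top_iff]
    intro v _
    obtain ⟨w, hw, x, hx, y, hy, z, hz, rfl⟩ := hd.exists_decomp ht v
    exact Submodule.add_mem_sup (Submodule.add_mem_sup (Submodule.add_mem_sup hw hx) hy) hz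
  have e1 := finrank_sup_of_disjoint h1
  have e2 := finrank_sup_of_disjoint h2
  have e3 := finrank_sup_of_disjoint h3
  rw [htop, finrank_top] at e3
  omega

theorem fixSub_zpowers (ρ : Representation (ZMod 3) G E) (g : G) :
    fixSub ρ (Subgroup.zpowers g) = fix1 (ρ g) := by
  ext v
  constructor
  · intro hv
    exact hv g (Subgroup.mem_zpowers g)
  · intro hv x hx
    have hle : Subgroup.zpowers g ≤ fixer ρ (fix1 (ρ g)) := by
      rw [Subgroup.zpowers_le]
      intro w hw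
      exact hw
    exact hle hx v hv

theorem fixSub_eq_fixQ (ρ : Representation (ZMod 3) G E) (X : Subgroup G) :
    fixSub ρ X = fixQ ρ X := by
  ext v
  exact Iff.rfl

/-- DIM (stub verbatim). -/
theorem DIM (c : Cfg ρ R b Q) :
    Module.finrank (ZMod 3) ↥(commSub ρ R) =
      Module.finrank (ZMod 3) ↥(commSub ρ R ⊓ fixSub ρ Q) + 3 ∧
    Module.finrank (ZMod 3) ↥(commSub ρ R ⊓ fixSub ρ (Subgroup.zpowers b)) =
      Module.finrank (ZMod 3) ↥(commSub ρ R ⊓ fixSub ρ Q) + 1 ∧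
    ∀ q ∈ Q, q ≠ 1 → Module.finrank (ZMod 3) ↥(commSub ρ R ⊓ fixSub ρ (Subgroup.zpowers q)) =
      Module.finrank (ZMod 3) ↥(commSub ρ R ⊓ fixSub ρ Q) + 1 := by
  have hd := fourData c
  obtain ⟨hR1, hR2⟩ := fixSub_commSub ρ R c.cop
  -- `finrank C_E(X) = finrank C_E(R) + finrank (W ∩ C_E(X))` when `C_E(R) ≤ C_E(X)`
  have key : ∀ X : Subgroup G, fixSub ρ R ≤ fixSub ρ X →
      Module.finrank (ZMod 3) ↥(fixSub ρ X) = Module.finrank (ZMod 3) ↥(fixSub ρ R) +
        Module.finrank (ZMod 3) ↥(commSub ρ R ⊓ fixSub ρ X) := by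
    intro X hle
    have h1 : fixSub ρ R ⊓ (commSub ρ R ⊓ fixSub ρ X) = ⊥ := by
      rw [eq_bot_iff, ← hR1]
      exact inf_le_inf_left _ inf_le_left
    have h2 : fixSub ρ R ⊔ (commSub ρ R ⊓ fixSub ρ X) = fixSub ρ X := by
      rw [← sup_inf_assoc_of_le (commSub ρ R) hle, hR2, top_inf_eq]
    have := finrank_sup_of_disjoint h1
    rwa [h2] at this
  have hE : Module.finrank (ZMod 3) E = Module.finrank (ZMod 3) ↥(fixSub ρ R) +
      Module.finrank (ZMod 3) ↥(commSub ρ R) := by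
    have := finrank_sup_of_disjoint hR1
    rwa [hR2, finrank_top] at this
  have hQle : fixSub ρ R ≤ fixSub ρ Q := fun v hv x hx => hv x (c.QR hx)
  have hble : fixSub ρ R ≤ fixSub ρ (Subgroup.zpowers b) := by
    rw [fixSub_zpowers]
    intro v hv
    exact hd.fix_b' v (hQle hv)
  have hqle : ∀ q ∈ Q, fixSub ρ R ≤ fixSub ρ (Subgroup.zpowers q) := by
    intro q hq v hv x hx
    have : Subgroup.zpowers q ≤ R := by
      rw [Subgroup.zpowers_le]
      exact c.QR hq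
    exact hv x (this hx)
  have e3 := finrank_eq_fixQ_add_three hd
  rw [← fixSub_eq_fixQ] at e3
  have eQ := key Q hQle
  have eb := key _ hble
  -- `C_E(b) = ker n` has dimension `dim E - 2`
  have hbker : fixSub ρ (Subgroup.zpowers b) = LinearMap.ker (nn ρ b) := by
    rw [fixSub_zpowers]
    ext v
    rw [LinearMap.mem_ker, nn_apply, sub_eq_zero]
    exact Iff.rfl
  have hrn := LinearMap.finrank_range_add_finrank_ker (nn ρ b)
  rw [c.rank, ← hbker] at hrn
  refine ⟨by omega, by omega, ?_⟩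
  intro q hq hq1
  have eq := key _ (hqle q hq)
  have h5 := hd.finrank_fix1_of_mem hq hq1
  rw [← fixSub_zpowers, ← fixSub_eq_fixQ] at h5
  omega

end Cfsg.Agent.Lib.Helper5.CUB
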