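import Mathlib
import Cfsg.Agent.Lib.Helper3.CUBDefs
import Cfsg.Agent.Lib.Helper8.CUBFour
import Cfsg.Agent.Lib.Helper5.CUBDim

/-! Farm CUB (S4415): units `HALF` and `QUAT` (stubs verbatim). -/
set_option autoImplicit false
set_option maxHeartbeats 1000000
set_option linter.unusedVariables false
set_option linter.unusedSectionVars false
set_option linter.style.longLine false
set_option linter.style.haveILetI false
open scoped commutatorElement

namespace Cfsg.Agent.Lib.Helper5.CUB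

open Cfsg.Agent.Lib.Helper3.CUB
open Cfsg.Agent.Lib.Helper8.CUB

universe u v

variable {G : Type u} [Group G] [Finite G] {E : Type v} [AddCommGroup E] [Module (ZMod 3) E]
  [Finite E] {ρ : Representation (ZMod 3) G E} {R : Subgroup G} {b : G} {Q : Subgroup G}

theorem rho_mul' (ρ : Representation (ZMod 3) G E) (g h : G) (v : E) :
    ρ (g * h) v = ρ g (ρ h v) := by
  rw [map_mul, Module.End.mul_apply]

theorem rho_inv_cancel (ρ : Representation (ZMod 3) G E) (g : G) (v : E) :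
    ρ g⁻¹ (ρ g v) = v := by
  rw [← rho_mul', inv_mul_cancel, map_one, Module.End.one_apply]

theorem rho_cancel_inv (ρ : Representation (ZMod 3) G E) (g : G) (v : E) :
    ρ g (ρ g⁻¹ v) = v := by
  rw [← rho_mul', mul_inv_cancel, map_one, Module.End.one_apply]

/-- `[E, X]` is invariant under the whole group when `X` is normal -/
theorem commSub_inv (ρ : Representation (ZMod 3) G E) (X : Subgroup G) [hX : X.Normal] (g : G) :
    ∀ v ∈ commSub ρ X, ρ g v ∈ commSub ρ X := by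
  have hle : commSub ρ X ≤ (commSub ρ X).comap (ρ g) := by
    unfold commSub
    rw [Submodule.span_le]
    rintro w ⟨x, hx, v, rfl⟩
    show ρ g (ρ x v - v) ∈ Submodule.span (ZMod 3) {w | ∃ x ∈ X, ∃ v : E, w = ρ x v - v}
    apply Submodule.subset_span
    refine ⟨g * x * g⁻¹, hX.conj_mem x hx g, ρ g v, ?_⟩
    rw [map_sub, rho_mul', rho_mul', rho_inv_cancel]
  intro v hv
  exact hle hv

/-- in characteristic 3, `-(w + w) = w` -/
theorem neg_two (w : E) : -(w + w) = w := by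
  have := add3 w
  have e : -(w + w) = w - (w + w + w) := by abel
  rw [e, this, sub_zero]

/-- HALF (stub verbatim). -/
theorem HALF (c : Cfg ρ R b Q) (z : G) (hz : NegOne ρ R z) (e : G) (he : e ∈ Q) (he1 : e ≠ 1)
    (t : G) (ht : t * e * t⁻¹ = z * e) : Module.finrank (ZMod 3) ↥(commSub ρ R) = 4 := by
  haveI := c.normal
  obtain ⟨hD1, -, hD3⟩ := DIM c
  have hDe := hD3 e he he1
  have hWinv : ∀ g : G, ∀ v ∈ commSub ρ R, ρ g v ∈ commSub ρ R := fun g => commSub_inv ρ R g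
  have hee : ∀ v : E, ρ e (ρ e v) = v := by
    intro v
    rw [← rho_mul', ← pow_two, c.Q2 e he, map_one, Module.End.one_apply]
  -- the two eigenspaces of `e` on `W`
  obtain ⟨Wp, hWp⟩ : ∃ Wp : Submodule (ZMod 3) E,
      Wp = commSub ρ R ⊓ fixSub ρ (Subgroup.zpowers e) := ⟨_, rfl⟩
  obtain ⟨Wm, hWm⟩ : ∃ Wm : Submodule (ZMod 3) E,
      Wm = commSub ρ R ⊓ LinearMap.ker (ρ e + 1) := ⟨_, rfl⟩
  have memWp : ∀ v : E, v ∈ Wp ↔ v ∈ commSub ρ R ∧ ρ e v = v := by
    intro v
    rw [hWp, fixSub_zpowers]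
    exact Iff.rfl
  have memWm : ∀ v : E, v ∈ Wm ↔ v ∈ commSub ρ R ∧ ρ e v = -v := by
    intro v
    rw [hWm, Submodule.mem_inf, LinearMap.mem_ker, LinearMap.add_apply, Module.End.one_apply,
      add_eq_zero_iff_eq_neg]
  rw [← hWp] at hDe
  have hinf : Wp ⊓ Wm = ⊥ := by
    rw [eq_bot_iff]
    rintro v ⟨h1, h2⟩
    have h1' := ((memWp v).mp h1).2
    have h2' := ((memWm v).mp h2).2
    rw [h1'] at h2'
    exact (Submodule.mem_bot _).2 (eq_zero_of_eq_neg h2')
  have hsup : Wp ⊔ Wm = commSub ρ R := by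
    apply le_antisymm
    · apply sup_le
      · intro v hv; exact ((memWp v).mp hv).1
      · intro v hv; exact ((memWm v).mp hv).1
    · intro v hv
      have hev := hWinv e v hv
      rw [Submodule.mem_sup]
      refine ⟨-(v + ρ e v), ?_, -(v - ρ e v), ?_, ?_⟩
      · rw [memWp]
        refine ⟨Submodule.neg_mem _ (Submodule.add_mem _ hv hev), ?_⟩
        rw [map_neg, map_add, hee, add_comm]
      · rw [memWm]
        refine ⟨Submodule.neg_mem _ (Submodule.sub_mem _ hv hev), ?_⟩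
        rw [map_neg, map_sub, hee]
        abel
      · have e1 : -(v + ρ e v) + -(v - ρ e v) = -(v + v) := by abel
        rw [e1, neg_two]
  have hsum := finrank_sup_of_disjoint hinf
  rw [hsup] at hsum
  -- `ρ t` maps `Wp` into `Wm`, `ρ t⁻¹` maps `Wm` into `Wp`
  have hze : ∀ v : E, ρ t (ρ e v) = ρ z (ρ e (ρ t v)) := by
    intro v
    have h1 : t * e = z * e * t := by rw [← ht]; group
    rw [← rho_mul', h1, rho_mul', rho_mul']
  have hmap1 : ∀ v ∈ Wp, ρ t v ∈ Wm := by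
    intro v hv
    obtain ⟨hvW, hve⟩ := (memWp v).mp hv
    rw [memWm]
    refine ⟨hWinv t v hvW, ?_⟩
    have h1 := hze v
    rw [hve, hz _ (hWinv e _ (hWinv t v hvW))] at h1
    have h2 := congrArg Neg.neg h1
    rw [neg_neg] at h2
    exact h2.symm
  have hmap2 : ∀ v ∈ Wm, ρ t⁻¹ v ∈ Wp := by
    intro v hv
    obtain ⟨hvW, hve⟩ := (memWm v).mp hv
    rw [memWp]
    refine ⟨hWinv t⁻¹ v hvW, ?_⟩
    have h1 := hze (ρ t⁻¹ v)
    rw [rho_cancel_inv, hve, map_neg, hz v hvW, neg_neg] at h1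
    -- `ρ t (ρ e (ρ t⁻¹ v)) = v`
    have h2 := congrArg (ρ t⁻¹) h1
    rw [rho_inv_cancel] at h2
    exact h2
  have hle1 : Module.finrank (ZMod 3) Wp ≤ Module.finrank (ZMod 3) Wm := by
    apply LinearMap.finrank_le_finrank_of_injective (f := (ρ t).restrict hmap1)
    intro x y hxy
    have h1 : ρ t (x : E) = ρ t (y : E) := congrArg Subtype.val hxy
    have h2 := congrArg (ρ t⁻¹) h1
    rw [rho_inv_cancel, rho_inv_cancel] at h2
    exact Subtype.ext h2
  have hle2 : Module.finrank (ZMod 3) Wm ≤ Module.finrank (ZMod 3) Wp := by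
    apply LinearMap.finrank_le_finrank_of_injective (f := (ρ t⁻¹).restrict hmap2)
    intro x y hxy
    have h1 : ρ t⁻¹ (x : E) = ρ t⁻¹ (y : E) := congrArg Subtype.val hxy
    have h2 := congrArg (ρ t) h1
    rw [rho_cancel_inv, rho_cancel_inv] at h2
    exact Subtype.ext h2
  omega

/-- QUAT (stub verbatim). -/
theorem QUAT (c : Cfg ρ R b Q) (z : G) (hz : NegOne ρ R z) (i : G) (hi : i ^ 2 = z)
    (hij : i * (b * i * b⁻¹) = z * ((b * i * b⁻¹) * i)) :
    Module.finrank (ZMod 3) ↥(commSub ρ R) ≤ 4 := by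
  haveI := c.normal
  obtain ⟨hD1, hD2, -⟩ := DIM c
  have hWinv : ∀ g : G, ∀ v ∈ commSub ρ R, ρ g v ∈ commSub ρ R := fun g => commSub_inv ρ R g
  obtain ⟨j, hj⟩ : ∃ j : G, j = b * i * b⁻¹ := ⟨_, rfl⟩
  rw [← hj] at hij
  have hii : ∀ w ∈ commSub ρ R, ρ i (ρ i w) = -w := by
    intro w hw
    rw [← rho_mul', ← pow_two, hi, hz w hw]
  have hjj : ∀ w ∈ commSub ρ R, ρ j (ρ j w) = -w := by
    intro w hw
    have h1 : j * j = b * z * b⁻¹ := by rw [hj, ← hi, pow_two]; group
    rw [← rho_mul', h1, rho_mul', rho_mul', hz _ (hWinv b⁻¹ w hw), map_neg, rho_cancel_inv]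
  have hijw : ∀ w ∈ commSub ρ R, ρ i (ρ j w) = -ρ j (ρ i w) := by
    intro w hw
    rw [← rho_mul', hij, rho_mul', rho_mul', hz _ (hWinv j _ (hWinv i w hw))]
  -- `(j - i)² = 1` on `W`
  have hsq : ∀ w ∈ commSub ρ R, (ρ j - ρ i) ((ρ j - ρ i) w) = w := by
    intro w hw
    simp only [LinearMap.sub_apply, map_sub]
    rw [hjj w hw, hii w hw, hijw w hw]
    conv_rhs => rw [← neg_two w]
    abel
  obtain ⟨Cb, hCb⟩ : ∃ Cb : Submodule (ZMod 3) E,
      Cb = commSub ρ R ⊓ fixSub ρ (Subgroup.zpowers b) := ⟨_, rfl⟩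
  rw [← hCb] at hD2
  let φ : Cb →ₗ[ZMod 3] E := (ρ j - ρ i).domRestrict Cb
  have hφinj : Function.Injective φ := by
    rw [injective_iff_map_eq_zero]
    rintro ⟨w, hw⟩ h0
    have hwW : w ∈ commSub ρ R := by rw [hCb] at hw; exact hw.1
    have h1 : (ρ j - ρ i) w = 0 := h0
    have h2 := hsq w hwW
    rw [h1, map_zero] at h2
    exact Subtype.ext h2.symm
  have hφrange : LinearMap.range φ ≤ LinearMap.range (nn ρ b) := by
    rintro _ ⟨⟨w, hw⟩, rfl⟩
    have hwb : ρ b w = w := by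
      rw [hCb] at hw
      exact hw.2 b (Subgroup.mem_zpowers b)
    refine ⟨ρ i w, ?_⟩
    show nn ρ b (ρ i w) = (ρ j - ρ i) w
    rw [nn_apply, LinearMap.sub_apply]
    congr 1
    have h1 : b * i = j * b := by rw [hj]; group
    rw [← rho_mul', h1, rho_mul', hwb]
  have h1 : Module.finrank (ZMod 3) Cb = Module.finrank (ZMod 3) (LinearMap.range φ) :=
    (LinearMap.finrank_range_of_inj hφinj).symm
  have h2 := Submodule.finrank_mono hφrange
  rw [c.rank] at h2
  omega

end Cfsg.Agent.Lib.Helper5.CUB
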