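import Mathlib
import Cfsg.Agent.Lib.Helper3.CUBDefs
import Cfsg.Agent.Lib.Helper3.CUBT1
import Cfsg.Agent.Lib.Helper8.CUBFour
import Cfsg.Agent.Lib.Helper5.CUBS3
import Cfsg.Agent.Lib.Helper5.CUBHalf

/-! Farm CUB (S4415), unit T8: central elements act as `±1` on `W = [E,R]` (stubs verbatim),
with the module half `decomp_cfg` in the owner's Defs as a by-product. -/
set_option autoImplicit false
set_option maxHeartbeats 1000000
set_option linter.unusedVariables false
set_option linter.unusedSectionVars false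
set_option linter.style.longLine false
set_option linter.style.haveILetI false
open scoped commutatorElement

namespace Cfsg.Agent.Lib.Helper5.CUB

open Cfsg.Agent.Lib.Helper3.CUB
open Cfsg.Agent.Lib.Helper8.CUB

universe u v

variable {G : Type u} [Group G] [Finite G] {E : Type v} [AddCommGroup E] [Module (ZMod 3) E]
  [Finite E] {ρ : Representation (ZMod 3) G E} {R : Subgroup G} {b : G} {Q : Subgroup G}

/-- the module half in the abstract configuration (same statement as the stub `decomp`) -/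
theorem decomp_cfg (c : Cfg ρ R b Q) :
    commSub ρ R ⊓ fixSub ρ R = ⊥ ∧ commSub ρ R ⊔ fixSub ρ R = ⊤ ∧
    (∀ r ∈ R, ∀ v ∈ fixSub ρ R, ρ r v = v) ∧
    (∀ g : G, ∀ v ∈ commSub ρ R, ρ g v ∈ commSub ρ R) ∧
    (∀ g : G, (∀ v ∈ commSub ρ R, ρ g v = v) → g = 1) ∧
    (∀ N : Submodule (ZMod 3) E, N ≤ commSub ρ R → (∀ g : G, Inv ρ g N) →
      N = ⊥ ∨ N = commSub ρ R) := by
  haveI := c.normal
  have hd := fourData c
  have hBR : Subgroup.zpowers b ≤ Subgroup.normalizer (R : Set G) := by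
    rw [Subgroup.normalizer_eq_top]
    exact le_top
  obtain ⟨F₀, F₁, ⟨h1, h2, h3, h4, h5, h6⟩, -, -, h9, h10⟩ :=
    s3_strong ρ c.faith R (Subgroup.zpowers b) Q b rfl c.cop hBR c.comm c.QR hd.fix_b' hd.dichotomy'
  have hF₀ : F₀ = commSub ρ R := by
    apply le_antisymm
    · apply h10
      intro w _ r hr
      exact Submodule.subset_span ⟨r, hr, w, rfl⟩
    · unfold commSub
      rw [Submodule.span_le]
      rintro w ⟨x, hx, v, rfl⟩
      exact h9 v x hx
  rw [c.top] at h4 h5 h6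
  rw [hF₀] at h4 h5 h6
  obtain ⟨k1, k2⟩ := fixSub_commSub ρ R c.cop
  refine ⟨by rw [inf_comm]; exact k1, by rw [sup_comm]; exact k2, fun r hr v hv => hv r hr,
    fun g v hv => h4 g (Subgroup.mem_top g) v hv, fun g hg => h5 g (Subgroup.mem_top g) hg, ?_⟩
  intro N hN hinv
  exact h6 N hN (fun g _ v hv => hinv g v hv)

/-- the frame vector `e₁` lies in `W` -/
theorem frame_mem_commSub (c : Cfg ρ R b Q) {q₁ q₂ q₃ : G} {e₁ e₂ e₃ : E}
    (fr : QFrame ρ b Q q₁ q₂ q₃ e₁ e₂ e₃) : e₁ ∈ commSub ρ R := by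
  have h1 : e₁ = ρ q₂ e₁ - e₁ := by
    rw [fr.q₂e₁]
    have := neg_two e₁
    have e : -e₁ - e₁ = -(e₁ + e₁) := by abel
    rw [e, this]
  rw [h1]
  exact Submodule.subset_span ⟨q₂, c.QR fr.mem₂, e₁, rfl⟩

/-- QP1 (stub verbatim). -/
theorem QP1 (c : Cfg ρ R b Q) (a : G) (hcen : ∀ g : G, a * g = g * a) : IsScal ρ R a := by
  obtain ⟨-, -, -, hWinv, -, hirr⟩ := decomp_cfg c
  obtain ⟨q₁, q₂, q₃, e₁, e₂, e₃, fr⟩ := P5 c
  have he₁W := frame_mem_commSub c fr
  -- `ρ a e₁` is a multiple of `e₁`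
  have hcomm : ∀ g : G, ∀ v : E, ρ g (ρ a v) = ρ a (ρ g v) := by
    intro g v
    rw [← rho_mul', ← rho_mul', hcen g]
  obtain ⟨l, hl⟩ := fr.mult_one (ρ a e₁) (by rw [hcomm, fr.q₁e₁])
    (by rw [hcomm, fr.q₂e₁, map_neg])
  -- the eigenspace `{w ∈ W | ρ a w = l • w}` is `G`-invariant and contains `e₁`
  obtain ⟨N, hN⟩ : ∃ N : Submodule (ZMod 3) E,
      N = commSub ρ R ⊓ LinearMap.ker (ρ a - l • (1 : E →ₗ[ZMod 3] E)) := ⟨_, rfl⟩
  have memN : ∀ w : E, w ∈ N ↔ w ∈ commSub ρ R ∧ ρ a w = l • w := by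
    intro w
    rw [hN, Submodule.mem_inf, LinearMap.mem_ker, LinearMap.sub_apply, LinearMap.smul_apply,
      Module.End.one_apply, sub_eq_zero]
  have hNW : N ≤ commSub ρ R := by rw [hN]; exact inf_le_left
  have hNinv : ∀ g : G, Inv ρ g N := by
    intro g w hw
    obtain ⟨hwW, hwa⟩ := (memN w).mp hw
    rw [memN]
    refine ⟨hWinv g w hwW, ?_⟩
    rw [← hcomm, hwa, map_smul]
  have he₁N : e₁ ∈ N := (memN e₁).mpr ⟨he₁W, hl⟩
  have hNtop : N = commSub ρ R := by
    rcases hirr N hNW hNinv with h | h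
    · exfalso
      rw [h, Submodule.mem_bot] at he₁N
      exact fr.e_ne he₁N
    · exact h
  have hall : ∀ w ∈ commSub ρ R, ρ a w = l • w := by
    intro w hw
    rw [← hNtop] at hw
    exact ((memN w).mp hw).2
  -- `l = 1` or `l = -1`
  have hl0 : l ≠ 0 := by
    intro h0
    have h1 := hall e₁ he₁W
    rw [h0, zero_smul] at h1
    have h2 := rho_inv_cancel ρ a e₁
    rw [h1, map_zero] at h2
    exact fr.e_ne h2.symm
  have hl12 : l = 1 ∨ l = -1 := by
    have key : ∀ x : ZMod 3, x ≠ 0 → x = 1 ∨ x = -1 := by decide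
    exact key l hl0
  rcases hl12 with h | h
  · left
    intro w hw
    rw [hall w hw, h, one_smul]
  · right
    intro w hw
    rw [hall w hw, h, neg_smul, one_smul]

/-- isScal_cases (stub verbatim). -/
theorem isScal_cases (c : Cfg ρ R b Q) (a : G) (ha : IsScal ρ R a) : a = 1 ∨ NegOne ρ R a := by
  obtain ⟨-, -, -, -, hfaith, -⟩ := decomp_cfg c
  rcases ha with h | h
  · left
    exact hfaith a h
  · right
    exact h

/-- negOne_unique (stub verbatim). -/
theorem negOne_unique (c : Cfg ρ R b Q) (z z' : G) (hz : NegOne ρ R z) (hz' : NegOne ρ R z') :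
    z = z' := by
  obtain ⟨-, -, -, hWinv, hfaith, -⟩ := decomp_cfg c
  have h1 : z * z' = 1 := by
    apply hfaith
    intro v hv
    rw [rho_mul', hz' v hv, map_neg, hz v hv, neg_neg]
  have h2 : z * z = 1 := by
    apply hfaith
    intro v hv
    rw [rho_mul', hz v hv, map_neg, hz v hv, neg_neg]
  have h3 : z' = z⁻¹ := (inv_eq_of_mul_eq_one_right h1).symm
  have h4 : z = z⁻¹ := (inv_eq_of_mul_eq_one_right h2).symm
  rw [h3, ← h4]

/-- negOne_props (stub verbatim). -/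
theorem negOne_props (c : Cfg ρ R b Q) (z : G) (hz : NegOne ρ R z) :
    z ∈ R ∧ z ^ 2 = 1 ∧ z ≠ 1 ∧ ∀ g : G, z * g = g * z := by
  obtain ⟨-, -, -, hWinv, hfaith, -⟩ := decomp_cfg c
  have h2 : z ^ 2 = 1 := by
    apply hfaith
    intro v hv
    rw [pow_two, rho_mul', hz v hv, map_neg, hz v hv, neg_neg]
  refine ⟨mem_R_of_pow c z 2 (by norm_num) h2, h2, ?_, ?_⟩
  · rintro rfl
    obtain ⟨q₁, q₂, q₃, e₁, e₂, e₃, fr⟩ := P5 c
    have h := hz e₁ (frame_mem_commSub c fr)
    rw [map_one, Module.End.one_apply] at h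
    exact fr.e_ne (eq_zero_of_eq_neg h)
  · intro g
    have hz' : NegOne ρ R (g * z * g⁻¹) := by
      intro v hv
      rw [rho_mul', rho_mul', hz _ (hWinv g⁻¹ v hv), map_neg, rho_cancel_inv]
    have h := negOne_unique c z (g * z * g⁻¹) hz hz'
    calc z * g = g * z * g⁻¹ * g := by rw [← h]
      _ = g * z := by group

end Cfsg.Agent.Lib.Helper5.CUB
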