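import Mathlib
import Cfsg.Agent.Lib.Helper3.CUBDefs
import Cfsg.Agent.Lib.Helper9.CUBOrders
import Cfsg.Agent.Lib.Helper5.CUBT8

/-! Farm CUB (S4415), unit `ODDa` (stub verbatim): an element of order prime to `6` commuting
with `q₁` and inverted by `q₂` is trivial. -/
set_option autoImplicit false
set_option maxHeartbeats 1000000
set_option linter.unusedVariables false
set_option linter.unusedSectionVars false
set_option linter.style.longLine false
set_option linter.style.haveILetI false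
open scoped commutatorElement

namespace Cfsg.Agent.Lib.Helper5.CUB

open Cfsg.Agent.Lib.Helper3.CUB
open Cfsg.Agent.Lib.Helper8.CUB

universe u v

variable {G : Type u} [Group G] [Finite G] {E : Type v} [AddCommGroup E] [Module (ZMod 3) E]
  [Finite E] {ρ : Representation (ZMod 3) G E} {R : Subgroup G} {b : G} {Q : Subgroup G}

theorem rho_pow_fix (ρ : Representation (ZMod 3) G E) (g : G) (v : E) (h : ρ g v = v) (n : ℕ) :
    ρ (g ^ n) v = v := by
  induction n with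
  | zero => rw [pow_zero, map_one, Module.End.one_apply]
  | succ n ih => rw [pow_succ, rho_mul', h, ih]

theorem rho_pow_mem (ρ : Representation (ZMod 3) G E) (g : G) (N : Submodule (ZMod 3) E)
    (h : ∀ v ∈ N, ρ g v ∈ N) (n : ℕ) : ∀ v ∈ N, ρ (g ^ n) v ∈ N := by
  induction n with
  | zero =>
    intro v hv
    rw [pow_zero, map_one, Module.End.one_apply]
    exact hv
  | succ n ih =>
    intro v hv
    rw [pow_succ, rho_mul']
    exact ih _ (h v hv)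

/-- an element of order prime to `6` is trivial on every invariant subspace of dimension `≤ 2` -/
theorem trivial_on_small (ρ : Representation (ZMod 3) G E) (a : G) (k : ℕ) (hk : k.Coprime 6)
    (hak : a ^ k = 1) (N : Submodule (ZMod 3) E) (hN : Module.finrank (ZMod 3) N ≤ 2)
    (hinv : ∀ v ∈ N, ρ a v ∈ N) : ∀ v ∈ N, ρ a v = v := by
  classical
  have hinvK : ∀ x ∈ Subgroup.zpowers a, ∀ v ∈ N, ρ x v ∈ N := by
    intro x hx
    rw [← mem_powers_iff_mem_zpowers] at hx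
    obtain ⟨n, rfl⟩ := hx
    exact rho_pow_mem ρ a N hinv n
  let f0 : Subgroup.zpowers a →* (N →ₗ[ZMod 3] N) :=
    { toFun := fun x => (ρ x.1).restrict (hinvK x.1 x.2)
      map_one' := by
        ext v; simp
      map_mul' := by
        intro x y; ext v; simp }
  let f : Subgroup.zpowers a →* (N →ₗ[ZMod 3] N)ˣ := f0.toHomUnits
  have hf : ∀ x : Subgroup.zpowers a, ((f x : (N →ₗ[ZMod 3] N)ˣ) : N →ₗ[ZMod 3] N) = f0 x :=
    fun x => rfl
  let g : (Subgroup.zpowers a ⧸ f.ker) →* (N →ₗ[ZMod 3] N) :=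
    (Units.coeHom (N →ₗ[ZMod 3] N)).comp (QuotientGroup.kerLift f)
  have hinj : Function.Injective g := by
    intro x y hxy
    apply QuotientGroup.kerLift_injective f
    exact Units.ext hxy
  have hd1 : Nat.card (Subgroup.zpowers a ⧸ f.ker) ∣ k := by
    refine (Subgroup.card_quotient_dvd_card f.ker).trans ?_
    rw [Nat.card_zpowers]
    exact orderOf_dvd_of_pow_eq_one hak
  have h3 : ¬ 3 ∣ Nat.card (Subgroup.zpowers a ⧸ f.ker) := by
    intro h
    have h1 : 3 ∣ k := h.trans hd1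
    have h2 : 3 ∣ Nat.gcd k 6 := Nat.dvd_gcd h1 (by norm_num)
    rw [hk] at h2
    omega
  obtain ⟨h0, h1, h2, -, -⟩ :=
    Cfsg.Agent.Lib.Helper9.CUB.card_dvd_of_finrank g hinj h3
  have h16 : Nat.card (Subgroup.zpowers a ⧸ f.ker) ∣ 2 ^ 4 := by
    have : Module.finrank (ZMod 3) N = 0 ∨ Module.finrank (ZMod 3) N = 1 ∨
        Module.finrank (ZMod 3) N = 2 := by omega
    rcases this with hd | hd | hd
    · exact (h0 hd).trans (by norm_num)
    · exact (h1 hd).trans (by norm_num)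
    · exact h2 hd
  have hcop : Nat.Coprime k (2 ^ 4) := by
    apply Nat.Coprime.pow_right
    exact Nat.Coprime.coprime_dvd_right (by norm_num : 2 ∣ 6) hk
  have hone : Nat.card (Subgroup.zpowers a ⧸ f.ker) = 1 :=
    Nat.eq_one_of_dvd_coprimes hcop hd1 h16
  haveI : Subsingleton (Subgroup.zpowers a ⧸ f.ker) := by
    rw [← Finite.card_le_one_iff_subsingleton, hone]
  have hker : (⟨a, Subgroup.mem_zpowers a⟩ : Subgroup.zpowers a) ∈ f.ker := by
    rw [← QuotientGroup.eq_one_iff]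
    exact Subsingleton.elim _ _
  rw [MonoidHom.mem_ker] at hker
  intro v hv
  have h5 : f0 ⟨a, Subgroup.mem_zpowers a⟩ = 1 := by
    rw [← hf, hker]
    rfl
  have := congrArg (fun g : N →ₗ[ZMod 3] N => (g ⟨v, hv⟩ : E)) h5
  exact this

theorem rho_conj_apply (ρ : Representation (ZMod 3) G E) (g q : G) (v : E) :
    ρ (g * q * g⁻¹) (ρ g v) = ρ g (ρ q v) := by
  rw [rho_mul', rho_mul', rho_inv_cancel]

/-- `x + x = 0 → x = 0` in characteristic `3` -/
theorem eq_zero_of_add_self {x : E} (h : x + x = 0) : x = 0 := by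
  have := neg_two x
  rw [h, neg_zero] at this
  exact this.symm

/-- the action of `q₁`, `q₂` on the frame -/
theorem frame_action (c : Cfg ρ R b Q) {q₁ q₂ q₃ : G} {e₁ e₂ e₃ : E}
    (fr : QFrame ρ b Q q₁ q₂ q₃ e₁ e₂ e₃) :
    ρ q₁ e₂ = -e₂ ∧ ρ q₁ e₃ = -e₃ ∧ ρ q₂ e₂ = e₂ ∧ ρ q₃ e₂ = -e₂ := by
  have h22 : ρ q₂ e₂ = e₂ := by
    rw [← fr.conj₁, ← fr.be₁, rho_conj_apply, fr.q₁e₁]
  have h32 : ρ q₃ e₂ = -e₂ := by
    rw [← fr.conj₂, ← fr.be₁, rho_conj_apply, fr.q₂e₁, map_neg]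
  have hq2 : q₂ * q₂ = 1 := by rw [← pow_two]; exact c.Q2 q₂ fr.mem₂
  have hq1 : q₁ = q₃ * q₂ := by rw [← fr.mul, mul_assoc, hq2, mul_one]
  have h12 : ρ q₁ e₂ = -e₂ := by rw [hq1, rho_mul', h22, h32]
  have h13 : ρ q₁ e₃ = -e₃ := by
    rw [← fr.conj₃, ← fr.be₂, rho_conj_apply, h32, map_neg]
  exact ⟨h12, h13, h22, h32⟩

/-- ODDa (stub verbatim). -/
theorem ODDa (c : Cfg ρ R b Q) (q₁ q₂ q₃ : G) (e₁ e₂ e₃ : E)
    (fr : QFrame ρ b Q q₁ q₂ q₃ e₁ e₂ e₃) (a : G) (k : ℕ) (hk : k.Coprime 6) (hak : a ^ k = 1)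
    (h1 : q₁ * a = a * q₁) (h2 : q₂ * a * q₂⁻¹ = a⁻¹) : a = 1 := by
  classical
  obtain ⟨h12, h13, h22, h32⟩ := frame_action c fr
  have hq2 : q₂ * q₂ = 1 := by rw [← pow_two]; exact c.Q2 q₂ fr.mem₂
  have hq2inv : q₂⁻¹ = q₂ := inv_eq_of_mul_eq_one_left hq2
  have hC1 : ∀ w ∈ fixSub ρ Q, ρ q₁ w = w := fun w hw => hw q₁ fr.mem₁
  have hC2 : ∀ w ∈ fixSub ρ Q, ρ q₂ w = w := fun w hw => hw q₂ fr.mem₂
  -- `ρ q₁` on a decomposed vector
  have hq1v : ∀ (w : E) (a₁ a₂ a₃ : ZMod 3), w ∈ fixSub ρ Q →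
      ρ q₁ (w + a₁ • e₁ + a₂ • e₂ + a₃ • e₃) = w + a₁ • e₁ - a₂ • e₂ - a₃ • e₃ := by
    intro w a₁ a₂ a₃ hw
    rw [map_add, map_add, map_add, map_smul, map_smul, map_smul, hC1 w hw, fr.q₁e₁, h12, h13,
      smul_neg, smul_neg]
    abel
  -- the `(-1)`-eigenspace of `q₁` lies in `⟨e₂, e₃⟩`
  have hEm : ∀ v : E, ρ q₁ v = -v → ∃ a₂ a₃ : ZMod 3, v = a₂ • e₂ + a₃ • e₃ := by
    intro v hv
    obtain ⟨w, hw, a₁, a₂, a₃, rfl⟩ := fr.decomp v
    rw [hq1v w a₁ a₂ a₃ hw] at hv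
    have h0 : (w + a₁ • e₁) + (w + a₁ • e₁) = 0 := by
      have e : (w + a₁ • e₁) + (w + a₁ • e₁) = (w + a₁ • e₁ - a₂ • e₂ - a₃ • e₃)
          + (w + a₁ • e₁ + a₂ • e₂ + a₃ • e₃) := by abel
      rw [e, hv]
      abel
    refine ⟨a₂, a₃, ?_⟩
    rw [eq_zero_of_add_self h0, zero_add]
  -- the `(+1)`-eigenspace of `q₁` is `C + ⟨e₁⟩`
  have hEp : ∀ v : E, ρ q₁ v = v → ∃ w ∈ fixSub ρ Q, ∃ a₁ : ZMod 3, v = w + a₁ • e₁ := by
    intro v hv
    obtain ⟨w, hw, a₁, a₂, a₃, rfl⟩ := fr.decomp v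
    rw [hq1v w a₁ a₂ a₃ hw] at hv
    have h0 : (a₂ • e₂ + a₃ • e₃) + (a₂ • e₂ + a₃ • e₃) = 0 := by
      have e : (a₂ • e₂ + a₃ • e₃) + (a₂ • e₂ + a₃ • e₃) = (w + a₁ • e₁ + a₂ • e₂ + a₃ • e₃)
          - (w + a₁ • e₁ - a₂ • e₂ - a₃ • e₃) := by abel
      rw [e, hv]
      abel
    refine ⟨w, hw, a₁, ?_⟩
    have e : w + a₁ • e₁ + a₂ • e₂ + a₃ • e₃ = w + a₁ • e₁ + (a₂ • e₂ + a₃ • e₃) := by abel
    rw [e, eq_zero_of_add_self h0, add_zero]
  have hcomm1 : ∀ v : E, ρ q₁ (ρ a v) = ρ a (ρ q₁ v) := by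
    intro v
    rw [← rho_mul', ← rho_mul', h1]
  -- `a` is trivial on the `(-1)`-eigenspace of `q₁`
  have hEmle : LinearMap.ker (ρ q₁ + 1) ≤ Submodule.span (ZMod 3) (({e₂, e₃} : Finset E) : Set E) := by
    intro v hv
    rw [LinearMap.mem_ker, LinearMap.add_apply, Module.End.one_apply, add_eq_zero_iff_eq_neg] at hv
    obtain ⟨a₂, a₃, rfl⟩ := hEm v hv
    apply Submodule.add_mem
    · exact Submodule.smul_mem _ _ (Submodule.subset_span (by simp))
    · exact Submodule.smul_mem _ _ (Submodule.subset_span (by simp))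
  have hEmrank : Module.finrank (ZMod 3) (LinearMap.ker (ρ q₁ + 1)) ≤ 2 :=
    (Submodule.finrank_mono hEmle).trans
      ((finrank_span_finset_le_card ({e₂, e₃} : Finset E)).trans Finset.card_le_two)
  have hEminv : ∀ v ∈ LinearMap.ker (ρ q₁ + 1), ρ a v ∈ LinearMap.ker (ρ q₁ + 1) := by
    intro v hv
    rw [LinearMap.mem_ker, LinearMap.add_apply, Module.End.one_apply, add_eq_zero_iff_eq_neg] at hv ⊢
    rw [hcomm1, hv, map_neg]
  have hEmtriv := trivial_on_small ρ a k hk hak _ hEmrank hEminv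
  have hae₂ : ρ a e₂ = e₂ := hEmtriv e₂ (by
    rw [LinearMap.mem_ker, LinearMap.add_apply, Module.End.one_apply, h12, neg_add_cancel])
  have hae₃ : ρ a e₃ = e₃ := hEmtriv e₃ (by
    rw [LinearMap.mem_ker, LinearMap.add_apply, Module.End.one_apply, h13, neg_add_cancel])
  -- the inversion relation
  have hinvrel : ∀ v : E, ρ q₂ (ρ a (ρ q₂ v)) = ρ a⁻¹ v := by
    intro v
    rw [← h2, hq2inv, rho_mul', rho_mul']
  -- odd order: `a² v = v → a v = v`
  have hodd : ∀ v : E, ρ a (ρ a v) = v → ρ a v = v := by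
    intro v hv
    have hk2 : ¬ 2 ∣ k := by
      intro h
      have h2' : 2 ∣ Nat.gcd k 6 := Nat.dvd_gcd h (by norm_num)
      rw [hk] at h2'
      omega
    obtain ⟨m, hm⟩ : ∃ m, k + 1 = 2 * m := by
      have : k % 2 = 1 := by omega
      exact ⟨(k + 1) / 2, by omega⟩
    have h3 : ρ (a ^ 2) v = v := by rw [pow_two, rho_mul', hv]
    have h4 := rho_pow_fix ρ (a ^ 2) v h3 m
    rw [← pow_mul, ← hm, pow_succ, hak, one_mul] at h4
    exact h4
  -- on `C`: if `a w ∈ C` then `a w = w`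
  have hCfix : ∀ w ∈ fixSub ρ Q, ρ a w ∈ fixSub ρ Q → ρ a w = w := by
    intro w hw haw
    apply hodd
    have h3 := hinvrel w
    rw [hC2 w hw, hC2 _ haw] at h3
    -- `ρ a w = ρ a⁻¹ w`
    have h4 := congrArg (ρ a) h3
    rw [rho_cancel_inv] at h4
    exact h4
  -- `a w ∈ C + ⟨e₁⟩` for `w ∈ C`
  have hCdec : ∀ w ∈ fixSub ρ Q, ∃ w' ∈ fixSub ρ Q, ∃ μ : ZMod 3, ρ a w = w' + μ • e₁ := by
    intro w hw
    apply hEp
    rw [hcomm1, hC1 w hw]
  -- one vector `x₀` spanning `(a - 1) C`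
  have hx₀ : ∃ x₀ : E, ∀ w ∈ fixSub ρ Q, ∃ t : ZMod 3, ρ a w - w = t • x₀ := by
    by_cases hall : ∀ w ∈ fixSub ρ Q, ρ a w ∈ fixSub ρ Q
    · refine ⟨0, fun w hw => ⟨0, ?_⟩⟩
      rw [hCfix w hw (hall w hw), sub_self, smul_zero]
    · push Not at hall
      obtain ⟨w₀, hw₀, hw₀'⟩ := hall
      obtain ⟨w₀', hw₀'C, μ₀, hμ₀⟩ := hCdec w₀ hw₀
      have hμ₀0 : μ₀ ≠ 0 := by
        intro h0
        rw [h0, zero_smul, add_zero] at hμ₀
        rw [hμ₀] at hw₀'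
        exact hw₀' hw₀'C
      refine ⟨ρ a w₀ - w₀, fun w hw => ?_⟩
      obtain ⟨w', hw'C, μ, hμ⟩ := hCdec w hw
      refine ⟨μ * μ₀⁻¹, ?_⟩
      have hu : w - (μ * μ₀⁻¹) • w₀ ∈ fixSub ρ Q :=
        Submodule.sub_mem _ hw (Submodule.smul_mem _ _ hw₀)
      have hau : ρ a (w - (μ * μ₀⁻¹) • w₀) = w' - (μ * μ₀⁻¹) • w₀' := by
        rw [map_sub, map_smul, hμ, hμ₀, smul_add, smul_smul, mul_assoc, inv_mul_cancel₀ hμ₀0,
          mul_one]
        abel
      have hauC : ρ a (w - (μ * μ₀⁻¹) • w₀) ∈ fixSub ρ Q := by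
        rw [hau]
        exact Submodule.sub_mem _ hw'C (Submodule.smul_mem _ _ hw₀'C)
      have h5 := hCfix _ hu hauC
      rw [map_sub, map_smul] at h5
      rw [smul_sub]
      have e : ρ a w - w = (ρ a w - (μ * μ₀⁻¹) • ρ a w₀) - (w - (μ * μ₀⁻¹) • w₀)
          + ((μ * μ₀⁻¹) • ρ a w₀ - (μ * μ₀⁻¹) • w₀) := by abel
      rw [e, h5, sub_self, zero_add]
  obtain ⟨x₀, hx₀⟩ := hx₀
  -- `range (a - 1)` has dimension at most `2`
  have hrle : LinearMap.range (ρ a - 1) ≤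
      Submodule.span (ZMod 3) (({x₀, ρ a e₁ - e₁} : Finset E) : Set E) := by
    rintro _ ⟨v, rfl⟩
    obtain ⟨w, hw, a₁, a₂, a₃, rfl⟩ := fr.decomp v
    obtain ⟨t, ht⟩ := hx₀ w hw
    have e : (ρ a - 1) (w + a₁ • e₁ + a₂ • e₂ + a₃ • e₃) = t • x₀ + a₁ • (ρ a e₁ - e₁) := by
      rw [LinearMap.sub_apply, Module.End.one_apply, map_add, map_add, map_add, map_smul, map_smul,
        map_smul, hae₂, hae₃, ← ht, smul_sub]
      abel
    rw [e]
    apply Submodule.add_mem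
    · exact Submodule.smul_mem _ _ (Submodule.subset_span (by simp))
    · exact Submodule.smul_mem _ _ (Submodule.subset_span (by simp))
  have hrrank : Module.finrank (ZMod 3) (LinearMap.range (ρ a - 1)) ≤ 2 :=
    (Submodule.finrank_mono hrle).trans
      ((finrank_span_finset_le_card ({x₀, ρ a e₁ - e₁} : Finset E)).trans Finset.card_le_two)
  have hrinv : ∀ v ∈ LinearMap.range (ρ a - 1), ρ a v ∈ LinearMap.range (ρ a - 1) := by
    rintro _ ⟨v, rfl⟩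
    refine ⟨ρ a v, ?_⟩
    rw [LinearMap.sub_apply, LinearMap.sub_apply, Module.End.one_apply, Module.End.one_apply,
      map_sub]
  have hrtriv := trivial_on_small ρ a k hk hak _ hrrank hrinv
  -- `(a - 1)² = 0`, hence `a³ = 1`
  have hsq : ∀ v : E, ρ a (ρ a v) = ρ a v + ρ a v - v := by
    intro v
    have h5 := hrtriv (ρ a v - v) ⟨v, by rw [LinearMap.sub_apply, Module.End.one_apply]⟩
    rw [map_sub] at h5
    have e : ρ a (ρ a v) = (ρ a (ρ a v) - ρ a v) + ρ a v := by abel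
    rw [e, h5]
    abel
  have hcube : ∀ v : E, ρ (a ^ 3) v = v := by
    intro v
    rw [pow_succ, pow_two, rho_mul', rho_mul', hsq (ρ a v), hsq v]
    have e : ρ a v + ρ a v - v + (ρ a v + ρ a v - v) - ρ a v
        = (ρ a v + ρ a v + ρ a v) - (v + v) := by abel
    rw [e, add3, zero_sub, neg_two]
  have ha3 : a ^ 3 = 1 := by
    apply c.faith
    rw [map_one]
    apply LinearMap.ext
    intro v
    rw [hcube v, Module.End.one_apply]
  have hord : orderOf a ∣ Nat.gcd 3 k :=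
    Nat.dvd_gcd (orderOf_dvd_of_pow_eq_one ha3) (orderOf_dvd_of_pow_eq_one hak)
  have hg : Nat.gcd 3 k = 1 := by
    have : Nat.Coprime k 3 := Nat.Coprime.coprime_dvd_right (by norm_num : 3 ∣ 6) hk
    exact this.symm
  rw [hg, Nat.dvd_one] at hord
  exact orderOf_eq_one_iff.mp hord

end Cfsg.Agent.Lib.Helper5.CUB
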