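import Mathlib
import Cfsg.Agent.Lib.Helper3.CUBDefs
import Cfsg.Agent.Lib.Helper5.CUBT8
import Cfsg.Agent.Lib.Helper5.CUBOddA

/-! Farm CUB (S4415), unit `ODD` (stub verbatim): no nontrivial normal abelian subgroup of `R`
of order prime to `6`. -/
set_option autoImplicit false
set_option maxHeartbeats 1000000
set_option linter.unusedVariables false
set_option linter.unusedSectionVars false
set_option linter.style.longLine false
set_option linter.style.haveILetI false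
open scoped commutatorElement

namespace Cfsg.Agent.Lib.Helper5.CUB

open Cfsg.Agent.Lib.Helper3.CUB
open Cfsg.Agent.Lib.Helper8.CUB

universe u v

variable {G : Type u} [Group G] [Finite G] {E : Type v} [AddCommGroup E] [Module (ZMod 3) E]
  [Finite E] {ρ : Representation (ZMod 3) G E} {R : Subgroup G} {b : G} {Q : Subgroup G}

/-- odd order: `a² v = v → a v = v` -/
theorem rho_fix_of_sq_fix (ρ : Representation (ZMod 3) G E) (a : G) (k : ℕ) (hk2 : ¬ 2 ∣ k)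
    (hak : a ^ k = 1) (v : E) (hv : ρ a (ρ a v) = v) : ρ a v = v := by
  obtain ⟨m, hm⟩ : ∃ m, k + 1 = 2 * m := ⟨(k + 1) / 2, by omega⟩
  have h3 : ρ (a ^ 2) v = v := by rw [pow_two, rho_mul', hv]
  have h4 := rho_pow_fix ρ (a ^ 2) v h3 m
  rw [← pow_mul, ← hm, pow_succ, hak, one_mul] at h4
  exact h4

/-- odd order: `y² = 1 → y = 1` -/
theorem eq_one_of_sq_eq_one {y : G} (k : ℕ) (hk2 : ¬ 2 ∣ k) (hyk : y ^ k = 1) (h : y * y = 1) :
    y = 1 := by
  have h1 : orderOf y ∣ 2 := orderOf_dvd_of_pow_eq_one (by rw [pow_two]; exact h)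
  have h2 : orderOf y ∣ k := orderOf_dvd_of_pow_eq_one hyk
  have h3 : orderOf y ∣ Nat.gcd 2 k := Nat.dvd_gcd h1 h2
  have h4 : Nat.gcd 2 k = 1 := by
    rw [← Nat.coprime_iff_gcd_eq_one]
    exact (Nat.Prime.coprime_iff_not_dvd Nat.prime_two).mpr hk2
  rw [h4, Nat.dvd_one] at h3
  exact orderOf_eq_one_iff.mp h3

/-- ODD (stub verbatim). -/
theorem ODD (c : Cfg ρ R b Q) (A₀ : Subgroup G) [A₀.Normal] (hA : A₀ ≤ R)
    (hab : ∀ x ∈ A₀, ∀ y ∈ A₀, x * y = y * x) (h6 : (Nat.card A₀).Coprime 6) : A₀ = ⊥ := by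
  have hAn : A₀.Normal := inferInstance
  obtain ⟨q₁, q₂, q₃, e₁, e₂, e₃, fr⟩ := P5 c
  obtain ⟨h12, h13, h22, h32⟩ := frame_action c fr
  obtain ⟨-, -, -, hWinv, hfaith, hirr⟩ := decomp_cfg c
  obtain ⟨k, hkdef⟩ : ∃ k, k = Nat.card A₀ := ⟨_, rfl⟩
  rw [← hkdef] at h6
  have hk2 : ¬ 2 ∣ k := by
    intro h
    have h2' : 2 ∣ Nat.gcd k 6 := Nat.dvd_gcd h (by norm_num)
    rw [h6] at h2'
    omega
  have hpow : ∀ y ∈ A₀, y ^ k = 1 := by
    intro y hy
    have := pow_card_eq_one' (G := A₀) (x := ⟨y, hy⟩)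
    rw [hkdef]
    exact congrArg Subtype.val this
  have hconj : ∀ g : G, ∀ y ∈ A₀, g * y * g⁻¹ ∈ A₀ := fun g y hy => hAn.conj_mem y hy g
  have hconj' : ∀ g : G, ∀ y ∈ A₀, g⁻¹ * y * g ∈ A₀ := by
    intro g y hy
    have := hAn.conj_mem y hy g⁻¹
    rwa [inv_inv] at this
  have hsq : ∀ q ∈ Q, q * q = 1 := fun q hq => by rw [← pow_two]; exact c.Q2 q hq
  have hqinv : ∀ q ∈ Q, q⁻¹ = q := fun q hq => inv_eq_of_mul_eq_one_left (hsq q hq)
  have hQcomm : ∀ q ∈ Q, ∀ q' ∈ Q, q * q' = q' * q := by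
    intro q hq q' hq'
    have h1 := hsq (q * q') (Q.mul_mem hq hq')
    have e3 : (q * q')⁻¹ = q * q' := inv_eq_of_mul_eq_one_left h1
    rw [← e3, mul_inv_rev, hqinv q hq, hqinv q' hq']
  -- distinctness of the `q_i`
  have hne : e₁ ≠ -e₁ := fun h => fr.e_ne (eq_zero_of_eq_neg h)
  have hne₂ : e₂ ≠ -e₂ := by
    intro h
    have h0 : e₂ = 0 := eq_zero_of_eq_neg h
    apply fr.e_ne
    have h1 := rho_inv_cancel ρ b e₁
    rw [fr.be₁, h0, map_zero] at h1
    exact h1.symm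
  have hq3e₁ : ρ q₃ e₁ = -e₁ := by rw [← fr.mul, rho_mul', fr.q₂e₁, map_neg, fr.q₁e₁]
  have hq₂1 : q₂ ≠ 1 := by
    intro h
    have := fr.q₂e₁
    rw [h, map_one, Module.End.one_apply] at this
    exact hne this
  have hq₃1 : q₃ ≠ 1 := by
    intro h
    have := hq3e₁
    rw [h, map_one, Module.End.one_apply] at this
    exact hne this
  -- STEP A: the basic configuration and its rotations
  have hP12 : ∀ y ∈ A₀, q₁ * y = y * q₁ → q₂ * y * q₂⁻¹ = y⁻¹ → y = 1 :=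
    fun y hy h1 h2 => ODDa c q₁ q₂ q₃ e₁ e₂ e₃ fr y k h6 (hpow y hy) h1 h2
  have hP13 : ∀ y ∈ A₀, q₁ * y = y * q₁ → q₃ * y * q₃⁻¹ = y⁻¹ → y = 1 := by
    intro y hy h1 h3
    apply hP12 y hy h1
    have hq2 : q₂ = q₁ * q₃ := by
      rw [← fr.mul, ← mul_assoc, hsq q₁ fr.mem₁, one_mul]
    have e : q₂ * y * q₂⁻¹ = q₁ * (q₃ * y * q₃⁻¹) * q₁⁻¹ := by rw [hq2]; group
    rw [e, h3]
    have h1' : q₁ * y⁻¹ = y⁻¹ * q₁ := by
      calc q₁ * y⁻¹ = y⁻¹ * (y * q₁) * y⁻¹ := by group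
        _ = y⁻¹ * (q₁ * y) * y⁻¹ := by rw [h1]
        _ = y⁻¹ * q₁ := by group
    rw [h1', mul_assoc, mul_inv_cancel, mul_one]
  -- rotation by `b`
  have hrot : ∀ q q' : G, (∀ y ∈ A₀, q * y = y * q → q' * y * q'⁻¹ = y⁻¹ → y = 1) →
      ∀ y ∈ A₀, (b * q * b⁻¹) * y = y * (b * q * b⁻¹) →
        (b * q' * b⁻¹) * y * (b * q' * b⁻¹)⁻¹ = y⁻¹ → y = 1 := by
    intro q q' hP y hy h1 h2
    have h := hP (b⁻¹ * y * b) (hconj' b y hy) ?_ ?_
    · have e : y = b * (b⁻¹ * y * b) * b⁻¹ := by group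
      rw [e, h]
      group
    · have e1 : q * (b⁻¹ * y * b) = b⁻¹ * ((b * q * b⁻¹) * y) * b := by group
      rw [e1, h1]
      group
    · have e1 : q' * (b⁻¹ * y * b) * q'⁻¹ = b⁻¹ * ((b * q' * b⁻¹) * y * (b * q' * b⁻¹)⁻¹) * b := by
        group
      rw [e1, h2]
      group
  have hP23 := hrot q₁ q₂ hP12
  rw [fr.conj₁, fr.conj₂] at hP23
  have hP31 := hrot q₂ q₃ hP23
  rw [fr.conj₂, fr.conj₃] at hP31
  have hP21 := hrot q₁ q₃ hP13
  rw [fr.conj₁, fr.conj₃] at hP21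
  have hP32 := hrot q₂ q₁ hP21
  rw [fr.conj₂, fr.conj₁] at hP32
  -- all pairs
  have hPall : ∀ q ∈ Q, q ≠ 1 → ∀ q' ∈ Q, q' ≠ 1 → ∀ y ∈ A₀, q * y = y * q →
      q' * y * q'⁻¹ = y⁻¹ → y = 1 := by
    intro q hq hq1 q' hq' hq'1 y hy h1 h2
    by_cases hqq : q = q'
    · -- `y = y⁻¹`
      rw [← hqq] at h2
      have e : q * y * q⁻¹ = y := by rw [h1, mul_assoc, mul_inv_cancel, mul_one]
      rw [e] at h2
      apply eq_one_of_sq_eq_one k hk2 (hpow y hy)
      calc y * y = y * y⁻¹ := by rw [← h2]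
        _ = 1 := mul_inv_cancel y
    · rcases fr.all q hq with h | h | h | h
      · exact absurd h hq1
      · rcases fr.all q' hq' with h' | h' | h' | h'
        · exact absurd h' hq'1
        · exact absurd (h.trans h'.symm) hqq
        · rw [h] at h1; rw [h'] at h2; exact hP12 y hy h1 h2
        · rw [h] at h1; rw [h'] at h2; exact hP13 y hy h1 h2
      · rcases fr.all q' hq' with h' | h' | h' | h'
        · exact absurd h' hq'1
        · rw [h] at h1; rw [h'] at h2; exact hP21 y hy h1 h2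
        · exact absurd (h.trans h'.symm) hqq
        · rw [h] at h1; rw [h'] at h2; exact hP23 y hy h1 h2
      · rcases fr.all q' hq' with h' | h' | h' | h'
        · exact absurd h' hq'1
        · rw [h] at h1; rw [h'] at h2; exact hP31 y hy h1 h2
        · rw [h] at h1; rw [h'] at h2; exact hP32 y hy h1 h2
        · exact absurd (h.trans h'.symm) hqq
  -- STEP B: `Q` centralizes `A₀`
  have hcent : ∀ q ∈ Q, ∀ y ∈ A₀, q * y * q⁻¹ = y := by
    intro qj hqj y hy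
    by_contra hne'
    have hqj1 : qj ≠ 1 := by
      intro h
      apply hne'
      rw [h]; group
    -- another involution `qi`
    obtain ⟨qi, hqi, hqi1, hqij⟩ : ∃ qi ∈ Q, qi ≠ 1 ∧ qi * qj ≠ 1 := by
      by_cases h : qj = q₂
      · refine ⟨q₃, fr.mem₃, hq₃1, ?_⟩
        rw [h]
        intro h'
        have h3 : q₃ = q₂ := by
          calc q₃ = q₃ * (q₂ * q₂) := by rw [hsq q₂ fr.mem₂, mul_one]
            _ = (q₃ * q₂) * q₂ := by group
            _ = q₂ := by rw [h', one_mul]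
        have := h32
        rw [h3, h22] at this
        exact hne₂ this
      · refine ⟨q₂, fr.mem₂, hq₂1, ?_⟩
        intro h'
        apply h
        calc qj = (q₂ * q₂) * qj := by rw [hsq q₂ fr.mem₂, one_mul]
          _ = q₂ * (q₂ * qj) := by group
          _ = q₂ := by rw [h', mul_one]
    obtain ⟨x, hx⟩ : ∃ x, x = y * (qj * y * qj⁻¹)⁻¹ := ⟨_, rfl⟩
    have hxA : x ∈ A₀ := by
      rw [hx]
      exact A₀.mul_mem hy (A₀.inv_mem (hconj qj y hy))
    have hx1 : x ≠ 1 := by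
      intro h
      apply hne'
      rw [hx] at h
      have := mul_eq_one_iff_eq_inv.mp h
      rw [inv_inv] at this
      exact this.symm
    -- `qj` inverts `x`
    have hxinv : qj * x * qj⁻¹ = x⁻¹ := by
      have e : qj * x * qj⁻¹ = (qj * y * qj⁻¹) * ((qj * qj) * y * (qj * qj)⁻¹)⁻¹ := by
        rw [hx]; group
      rw [e, hsq qj hqj, one_mul, inv_one, mul_one, hx, mul_inv_rev, inv_inv]
    -- conjugation by `qi`
    have hxi : qi * x * qi⁻¹ ∈ A₀ := hconj qi x hxA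
    have hjxi : qj * (qi * x * qi⁻¹) * qj⁻¹ = (qi * x * qi⁻¹)⁻¹ := by
      have e : qj * (qi * x * qi⁻¹) * qj⁻¹ = (qj * qi) * x * (qj * qi)⁻¹ := by group
      rw [e, hQcomm qj hqj qi hqi]
      have e2 : (qi * qj) * x * (qi * qj)⁻¹ = qi * (qj * x * qj⁻¹) * qi⁻¹ := by group
      rw [e2, hxinv]
      group
    have hiixi : qi * (qi * x * qi⁻¹) * qi⁻¹ = x := by
      have e : qi * (qi * x * qi⁻¹) * qi⁻¹ = (qi * qi) * x * (qi * qi)⁻¹ := by group
      rw [e, hsq qi hqi, one_mul, inv_one, mul_one]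
    -- `x₊ = x * x^qi` is centralized by `qi`, inverted by `qj`
    have hplus : x * (qi * x * qi⁻¹) = 1 := by
      apply hPall qi hqi hqi1 qj hqj hqj1 _ (A₀.mul_mem hxA hxi)
      · have e : qi * (x * (qi * x * qi⁻¹)) = (qi * x * qi⁻¹) * (qi * (qi * x * qi⁻¹) * qi⁻¹) * qi := by
          group
        rw [e, hiixi, hab _ hxi x hxA]
      · have e : qj * (x * (qi * x * qi⁻¹)) * qj⁻¹ = (qj * x * qj⁻¹) * (qj * (qi * x * qi⁻¹) * qj⁻¹) := by
          group
        rw [e, hxinv, hjxi, hab x hxA _ hxi]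
        exact (mul_inv_rev _ _).symm
    -- `x₋ = x * (x^qi)⁻¹` is inverted by `qi` and `qj`, centralized by `qi qj`
    have hminus : x * (qi * x * qi⁻¹)⁻¹ = 1 := by
      have hxm : x * (qi * x * qi⁻¹)⁻¹ ∈ A₀ := A₀.mul_mem hxA (A₀.inv_mem hxi)
      have hi_inv : qi * (x * (qi * x * qi⁻¹)⁻¹) * qi⁻¹ = (x * (qi * x * qi⁻¹)⁻¹)⁻¹ := by
        have e : qi * (x * (qi * x * qi⁻¹)⁻¹) * qi⁻¹
            = (qi * x * qi⁻¹) * (qi * (qi * x * qi⁻¹) * qi⁻¹)⁻¹ := by group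
        rw [e, hiixi, mul_inv_rev, inv_inv]
      have hj_inv : qj * (x * (qi * x * qi⁻¹)⁻¹) * qj⁻¹ = (x * (qi * x * qi⁻¹)⁻¹)⁻¹ := by
        have e : qj * (x * (qi * x * qi⁻¹)⁻¹) * qj⁻¹
            = (qj * x * qj⁻¹) * (qj * (qi * x * qi⁻¹) * qj⁻¹)⁻¹ := by group
        rw [e, hxinv, hjxi, inv_inv, mul_inv_rev, inv_inv, hab _ (A₀.inv_mem hxA) _ hxi]
      apply hPall (qi * qj) (Q.mul_mem hqi hqj) hqij qj hqj hqj1 _ hxm
      · have e : qi * qj * (x * (qi * x * qi⁻¹)⁻¹)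
            = qi * (qj * (x * (qi * x * qi⁻¹)⁻¹) * qj⁻¹) * qi⁻¹ * (qi * qj) := by group
        rw [e, hj_inv]
        have e2 : qi * (x * (qi * x * qi⁻¹)⁻¹)⁻¹ * qi⁻¹
            = (qi * (x * (qi * x * qi⁻¹)⁻¹) * qi⁻¹)⁻¹ := conj_inv.symm
        rw [e2, hi_inv, inv_inv]
      · exact hj_inv
    -- `x² = 1`
    apply hx1
    apply eq_one_of_sq_eq_one k hk2 (hpow x hxA)
    have e : x * x = (x * (qi * x * qi⁻¹)) * (x * (qi * x * qi⁻¹)⁻¹) := by
      generalize qi * x * qi⁻¹ = cc at hxi ⊢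
      calc x * x = x * (x * cc) * cc⁻¹ := by group
        _ = x * (cc * x) * cc⁻¹ := by rw [hab x hxA cc hxi]
        _ = (x * cc) * (x * cc⁻¹) := by group
    rw [e, hplus, hminus, one_mul]
  -- STEP C: every element of `A₀` fixes `e₁`
  have hfixe : ∀ y ∈ A₀, ρ y e₁ = e₁ := by
    intro y hy
    have hcy : ∀ q ∈ Q, ∀ v : E, ρ q (ρ y v) = ρ y (ρ q v) := by
      intro q hq v
      have h1 : q * y = y * q := by
        have := hcent q hq y hy
        calc q * y = (q * y * q⁻¹) * q := by group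
          _ = y * q := by rw [this]
      rw [← rho_mul', ← rho_mul', h1]
    obtain ⟨l, hl⟩ := fr.mult_one (ρ y e₁) (by rw [hcy q₁ fr.mem₁, fr.q₁e₁])
      (by rw [hcy q₂ fr.mem₂, fr.q₂e₁, map_neg])
    apply rho_fix_of_sq_fix ρ y k hk2 (hpow y hy)
    rw [hl, map_smul, hl, smul_smul]
    have hl0 : l ≠ 0 := by
      intro h0
      rw [h0, zero_smul] at hl
      have h2 := rho_inv_cancel ρ y e₁
      rw [hl, map_zero] at h2
      exact fr.e_ne h2.symm
    have key : ∀ x : ZMod 3, x ≠ 0 → x * x = 1 := by decide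
    rw [key l hl0, one_smul]
  -- the fixed space of `A₀` on `W` is invariant and nonzero, hence all of `W`
  obtain ⟨N, hN⟩ : ∃ N : Submodule (ZMod 3) E, N = commSub ρ R ⊓ fixSub ρ A₀ := ⟨_, rfl⟩
  have hNW : N ≤ commSub ρ R := by rw [hN]; exact inf_le_left
  have hNinv : ∀ g : G, Inv ρ g N := by
    intro g v hv
    rw [hN] at hv ⊢
    refine ⟨hWinv g v hv.1, fun x hx => ?_⟩
    have e : x * g = g * (g⁻¹ * x * g) := by group
    rw [← rho_mul', e, rho_mul', hv.2 _ (hconj' g x hx)]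
  have he₁N : e₁ ∈ N := by
    rw [hN]
    exact ⟨frame_mem_commSub c fr, fun x hx => hfixe x hx⟩
  have hNtop : N = commSub ρ R := by
    rcases hirr N hNW hNinv with h | h
    · exfalso
      rw [h, Submodule.mem_bot] at he₁N
      exact fr.e_ne he₁N
    · exact h
  rw [eq_bot_iff]
  intro y hy
  rw [Subgroup.mem_bot]
  apply hfaith
  intro v hv
  rw [← hNtop, hN] at hv
  exact hv.2 y hy

end Cfsg.Agent.Lib.Helper5.CUB
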