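import Mathlib
import Cfsg.Prelude.Def_ChevE6
import Cfsg.Agent.Lib.Helper5.ChevComm
import Cfsg.Agent.Lib.Helper5.ChevWEps
import Cfsg.Agent.Lib.Helper5.ChevTwistPerfOrb
import Cfsg.Agent.Lib.Helper5.E6MDefs

set_option autoImplicit false
set_option Elab.async false

/-!
Farm E6M (S2340), concrete unit CONC, part A: the root elements of `E₆` used, in `GL`, and the
pairwise relations among them (from the commutator formula; the tables by `decide`).
-/

namespace Cfsg.Agent.Lib.Helper5.E6M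

open Cfsg Cfsg.Lie Cfsg.Agent.Lib.Helper5.ChevSym Cfsg.Agent.Lib.Helper5.ChevStruct

theorem hE6' : chevE6 ∈ Seven := by simp [Seven]

/-- bitmask of a 3-subset -/
def code (I : T3) : ℕ := ∑ i : Fin 6, if i ∈ I.1 then 2 ^ i.val else 0

/-- root index of `γ_I`, by bitmask -/
def gTab : List ℕ := [0, 0, 0, 0, 0, 0, 0, 70, 0, 0, 0, 69, 0, 66, 55, 0, 0, 0, 0, 68, 0, 65, 54, 0,
  0, 63, 52, 0, 49, 0, 0, 0, 0, 0, 0, 67, 0, 64, 53, 0, 0, 62, 51, 0, 48, 0, 0, 0, 0, 61, 50, 0, 47,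
  0, 0, 0, 46, 0, 0, 0, 0, 0, 0, 0]

/-- root index of `ε_i - ε_j`, at position `6 i + j` -/
def dTab : List ℕ := [0, 56, 57, 58, 59, 60, 15, 0, 42, 43, 44, 45, 14, 29, 0, 39, 40, 41, 13, 28,
  32, 0, 37, 38, 12, 27, 31, 34, 0, 36, 11, 26, 30, 33, 35, 0]

/-- the normalising signs of the `x_{ε_i - ε_j}` -/
def tauTab : List ℤ := [1, -1, 1, -1, 1, -1, -1, 1, 1, -1, 1, -1, 1, 1, 1, 1, -1, 1, -1, -1, 1, 1,
  1, -1, 1, 1, -1, 1, 1, 1, -1, -1, 1, -1, 1, 1]

def gIdx (I : T3) : ℕ := gTab.getD (code I) 0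
def dIdx (p : IJ) : ℕ := dTab.getD (6 * p.1.1.val + p.1.2.val) 0
def tau (p : IJ) : ℤ := tauTab.getD (6 * p.1.1.val + p.1.2.val) 1

variable {F : Type*} [Field F]

local notation "xx" => xGL chevE6 hE6'

/-! ### generic consequences of the commutator formula -/

theorem xx_inv (r : ℕ) (t : F) : (xx r t : GL chevE6.Idx F)⁻¹ = xx r (-t) := by
  rw [inv_eq_iff_mul_eq_one]
  apply Units.ext
  rw [Units.val_mul, xGL_val, xGL_val, Units.val_one]
  exact x_mul_neg chevE6 hE6' r t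

theorem xx_zero (r : ℕ) : (xx r (0 : F) : GL chevE6.Idx F) = 1 := by
  apply Units.ext
  rw [xGL_val, Units.val_one]
  exact x_at_zero chevE6 r

theorem xx_comm_of_nil (r s : ℕ) (hr : r < 72) (hs : s < 72) (hsr : s ≠ r)
    (hsn : s ≠ chevE6.neg r) (h : chevE6.commTerms r s = []) (t u : F) :
    (xx s u : GL chevE6.Idx F) * xx r t = xx r t * xx s u := by
  have hform := comm_formula (F := F) chevE6 hE6' r s hr hs hsr hsn t u
  have hw : chevE6.commWord F r s t u = [] := by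
    unfold ChevalleyDatum.commWord
    rw [h]
    rfl
  rw [hw] at hform
  apply Units.ext
  rw [Units.val_mul, Units.val_mul, xGL_val, xGL_val, hform]
  simp [ChevalleyDatum.wordMat]

theorem xx_comm_of_one (r s k : ℕ) (c : ℤ) (hr : r < 72) (hs : s < 72) (hsr : s ≠ r)
    (hsn : s ≠ chevE6.neg r) (h : chevE6.commTerms r s = [(k, c, 1, 1)]) (t u : F) :
    (xx s u : GL chevE6.Idx F) * xx r t = xx r t * xx s u * xx k ((c : F) * (-t) * u) := by
  have hform := comm_formula (F := F) chevE6 hE6' r s hr hs hsr hsn t u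
  have hw : chevE6.commWord F r s t u = [(k, (c : F) * (-t) * u)] := by
    unfold ChevalleyDatum.commWord
    rw [h]
    simp
  rw [hw, wordMat_single] at hform
  apply Units.ext
  rw [Units.val_mul, Units.val_mul, Units.val_mul, xGL_val, xGL_val, xGL_val, hform]

end Cfsg.Agent.Lib.Helper5.E6M
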