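import Mathlib
import Cfsg.Agent.Lib.Helper5.E6MConcA
import Cfsg.Agent.Lib.Helper5.E6MDefs2

set_option autoImplicit false
set_option Elab.async false

/-!
Farm E6M (S2340), concrete unit CONC, part B: the tables (by `decide`) and the pairwise relations
in `GL`.
-/

namespace Cfsg.Agent.Lib.Helper5.E6M

open Cfsg Cfsg.Lie Cfsg.Agent.Lib.Helper5.ChevSym Cfsg.Agent.Lib.Helper5.ChevStruct

set_option maxRecDepth 1000000 in
theorem tab_g_lt : ∀ I : T3, gIdx I < 72 := by decide +kernel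

set_option maxRecDepth 1000000 in
theorem tab_d_lt : ∀ p : IJ, dIdx p < 72 := by decide +kernel

set_option maxRecDepth 1000000 in
theorem tab_gg : ∀ I J : T3, I ≠ J → J ≠ I.compl →
    gIdx J ≠ gIdx I ∧ gIdx J ≠ chevE6.neg (gIdx I) ∧ chevE6.commTerms (gIdx I) (gIdx J) = [] := by
  decide +kernel

set_option maxRecDepth 1000000 in
theorem tab_gc : ∀ I : T3, gIdx I ≠ gIdx I.compl ∧ gIdx I ≠ chevE6.neg (gIdx I.compl) ∧
    chevE6.commTerms (gIdx I.compl) (gIdx I) = [(71, I.omega, 1, 1)] := by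
  decide +kernel

set_option maxRecDepth 1000000 in
theorem tab_zg : ∀ I : T3, gIdx I ≠ 71 ∧ gIdx I ≠ chevE6.neg 71 ∧
    chevE6.commTerms 71 (gIdx I) = [] := by
  decide +kernel

set_option maxRecDepth 1000000 in
theorem tab_zd : ∀ p : IJ, dIdx p ≠ 71 ∧ dIdx p ≠ chevE6.neg 71 ∧
    chevE6.commTerms 71 (dIdx p) = [] := by
  decide +kernel

set_option maxRecDepth 1000000 in
set_option synthInstance.maxHeartbeats 400000 in
set_option synthInstance.maxSize 1024 in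
theorem tab_dd : ∀ a b : IJ, a.1.1 ≠ b.1.2 → a.1.2 ≠ b.1.1 → a ≠ b →
    dIdx b ≠ dIdx a ∧ dIdx b ≠ chevE6.neg (dIdx a) ∧ chevE6.commTerms (dIdx a) (dIdx b) = [] := by
  decide +kernel

set_option maxRecDepth 1000000 in
theorem tab_r3 : ∀ (a b : IJ) (h : a.1.1 ≠ b.1.2), a.1.2 = b.1.1 →
    dIdx a ≠ dIdx b ∧ dIdx a ≠ chevE6.neg (dIdx b) ∧
    chevE6.commTerms (dIdx b) (dIdx a) =
      [(dIdx ⟨(a.1.1, b.1.2), h⟩, - (tau ⟨(a.1.1, b.1.2), h⟩ * tau a * tau b), 1, 1)] ∧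
    (tau a = 1 ∨ tau a = -1) ∧ (tau b = 1 ∨ tau b = -1) := by
  decide +kernel

set_option maxRecDepth 1000000 in
set_option synthInstance.maxHeartbeats 400000 in
set_option synthInstance.maxSize 1024 in
theorem tab_lin1 : ∀ (p : IJ) (I : T3), p.1.2 ∈ I.1 → p.1.1 ∉ I.1 →
    dIdx p ≠ gIdx I ∧ dIdx p ≠ chevE6.neg (gIdx I) ∧
    chevE6.commTerms (gIdx I) (dIdx p) =
      [(gIdx (repl I p.1.1 p.1.2), - (rsgn I p.1.1 p.1.2 * tau p), 1, 1)] ∧
    (tau p = 1 ∨ tau p = -1) := by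
  decide +kernel

set_option maxRecDepth 1000000 in
theorem tab_lin0 : ∀ (p : IJ) (I : T3), ¬ (p.1.2 ∈ I.1 ∧ p.1.1 ∉ I.1) →
    dIdx p ≠ gIdx I ∧ dIdx p ≠ chevE6.neg (gIdx I) ∧
    chevE6.commTerms (gIdx I) (dIdx p) = [] := by
  decide +kernel

set_option maxRecDepth 1000000 in
theorem tab_w : (∀ i ∈ [1], i < chevE6.rank) ∧
    wAct chevE6 [1] 71 = gIdx I012 ∧ wEps chevE6 [1] 71 = -1 ∧
    wAct chevE6 [1] (dIdx p03) = gIdx I045 ∧ wEps chevE6 [1] (dIdx p03) = 1 ∧ tau p03 = -1 := by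
  decide +kernel

set_option maxRecDepth 1000000 in
theorem tab_h : chevE6.cartan 1 71 = 1 ∧ ∀ I : T3, chevE6.cartan 1 (gIdx I) = hexp I := by
  decide +kernel

end Cfsg.Agent.Lib.Helper5.E6M
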