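import Mathlib
import Cfsg.Agent.Lib.Helper5.E6MConcB

set_option autoImplicit false
set_option Elab.async false

/-!
Farm E6M (S2340), concrete unit CONC, part C: the elements in `GL` and their relations.
-/

namespace Cfsg.Agent.Lib.Helper5.E6M

open Cfsg Cfsg.Lie Cfsg.Agent.Lib.Helper5.ChevSym Cfsg.Agent.Lib.Helper5.ChevStruct

variable {F : Type*} [Field F]

local notation "xx" => xGL chevE6 hE6'

/-- `z r = x_ρ(-r)` -/
noncomputable def zGL (r : F) : GL chevE6.Idx F := xx 71 (-r)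
/-- `x_{γ_I}(a)` -/
noncomputable def xIGL (I : T3) (a : F) : GL chevE6.Idx F := xx (gIdx I) a
/-- `x_{ε_i-ε_j}(τ t)` -/
noncomputable def xijGL (p : IJ) (t : F) : GL chevE6.Idx F := xx (dIdx p) ((tau p : F) * t)
/-- `n_{α₂}` -/
noncomputable def n1GL : GL chevE6.Idx F := wGL chevE6 hE6' [1]
/-- `h_{α₂}(c)` -/
noncomputable def hGL (c : Fˣ) : GL chevE6.Idx F :=
  wordGL chevE6 hE6' (chevE6.hWord (chevE6.simple 1) (c : F))

theorem xx_add (r : ℕ) (a b : F) : (xx r a : GL chevE6.Idx F) * xx r b = xx r (a + b) :=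
  (xGL_add chevE6 hE6' r a b).symm

theorem zGL_add (r r' : F) : zGL r * zGL r' = zGL (r + r') := by
  unfold zGL; rw [xx_add]; congr 1; ring

theorem xIGL_add (I : T3) (a b : F) : xIGL I a * xIGL I b = xIGL I (a + b) := xx_add _ a b

theorem xijGL_add (p : IJ) (t u : F) : xijGL p t * xijGL p u = xijGL p (t + u) := by
  unfold xijGL; rw [xx_add]; congr 1; ring

theorem zGL_xIGL (r : F) (I : T3) (a : F) : zGL r * xIGL I a = xIGL I a * zGL r := by
  obtain ⟨h1, h2, h3⟩ := tab_zg I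
  exact (xx_comm_of_nil 71 (gIdx I) (by decide) (tab_g_lt I) h1 h2 h3 (-r) a).symm

theorem zGL_xijGL (r : F) (p : IJ) (t : F) : zGL r * xijGL p t = xijGL p t * zGL r := by
  obtain ⟨h1, h2, h3⟩ := tab_zd p
  exact (xx_comm_of_nil 71 (dIdx p) (by decide) (tab_d_lt p) h1 h2 h3 (-r) _).symm

theorem xIGL_comm (I J : T3) (a b : F) (hJ : J ≠ I.compl) :
    xIGL I a * xIGL J b = xIGL J b * xIGL I a := by
  by_cases hIJ : I = J
  · subst hIJ
    rw [xIGL_add, xIGL_add, add_comm]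
  · obtain ⟨h1, h2, h3⟩ := tab_gg I J hIJ hJ
    exact (xx_comm_of_nil (gIdx I) (gIdx J) (tab_g_lt I) (tab_g_lt J) h1 h2 h3 a b).symm

theorem xIGL_compl (I : T3) (a b : F) :
    xIGL I a * xIGL I.compl b =
      zGL (((I.omega : ℤ) : F) * a * b) * xIGL I.compl b * xIGL I a := by
  obtain ⟨h1, h2, h3⟩ := tab_gc I
  have h := xx_comm_of_one (gIdx I.compl) (gIdx I) 71 I.omega (tab_g_lt _) (tab_g_lt I) h1 h2 h3 b a
  have e : ((I.omega : ℤ) : F) * (-b) * a = -(((I.omega : ℤ) : F) * a * b) := by ring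
  rw [e] at h
  show xx (gIdx I) a * xx (gIdx I.compl) b = _
  rw [h]
  show xIGL I.compl b * xIGL I a * zGL _ = _
  rw [mul_assoc, ← zGL_xIGL, ← mul_assoc, ← zGL_xIGL]

theorem xijGL_comm (a b : IJ) (t u : F) (h1 : a.1.1 ≠ b.1.2) (h2 : a.1.2 ≠ b.1.1) :
    xijGL a t * xijGL b u = xijGL b u * xijGL a t := by
  by_cases hab : a = b
  · subst hab
    rw [xijGL_add, xijGL_add, add_comm]
  · obtain ⟨g1, g2, g3⟩ := tab_dd a b h1 h2 hab
    exact (xx_comm_of_nil (dIdx a) (dIdx b) (tab_d_lt a) (tab_d_lt b) g1 g2 g3 _ _).symm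

theorem xijGL_inv (p : IJ) (t : F) : (xijGL p t)⁻¹ = xijGL p (-t) := by
  unfold xijGL; rw [xx_inv]; congr 1; ring

theorem st_comm_GL (a b : IJ) (t u : F) (h1 : a.1.1 ≠ b.1.2) (h2 : a.1.2 ≠ b.1.1) :
    xijGL a t * xijGL b u * (xijGL a t)⁻¹ * (xijGL b u)⁻¹ = 1 := by
  rw [xijGL_comm a b t u h1 h2]
  group

theorem tau_sq (p : IJ) (h : tau p = 1 ∨ tau p = -1) : ((tau p : ℤ) : F) * (tau p : F) = 1 := by
  rcases h with h | h <;> rw [h] <;> simp

theorem st_r3_GL (a b : IJ) (h : a.1.1 ≠ b.1.2) (t u : F) (hab : a.1.2 = b.1.1) :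
    xijGL a t * xijGL b u * (xijGL a t)⁻¹ * (xijGL b u)⁻¹ = xijGL ⟨(a.1.1, b.1.2), h⟩ (t * u) := by
  obtain ⟨g1, g2, g3, ta, tb⟩ := tab_r3 a b h hab
  set c : IJ := ⟨(a.1.1, b.1.2), h⟩ with hc
  have hform := xx_comm_of_one (F := F) (dIdx b) (dIdx a) (dIdx c) (-(tau c * tau a * tau b))
    (tab_d_lt b) (tab_d_lt a) g1 g2 g3 ((tau b : F) * u) ((tau a : F) * t)
  have e : (((-(tau c * tau a * tau b) : ℤ) : F)) * (-((tau b : F) * u)) * ((tau a : F) * t)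
      = (tau c : F) * (t * u) := by
    have := tau_sq (F := F) a ta
    have := tau_sq (F := F) b tb
    push_cast
    linear_combination ((tau c : F) * t * u * ((tau b : F) * (tau b : F))) * tau_sq (F := F) a ta
      + ((tau c : F) * t * u) * tau_sq (F := F) b tb
  rw [e] at hform
  -- hform : x_a x_b = x_b x_a x_c
  have hform' : xijGL a t * xijGL b u = xijGL b u * xijGL a t * xijGL c (t * u) := hform
  have hca : xijGL c (t * u) * xijGL a t = xijGL a t * xijGL c (t * u) := by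
    apply xijGL_comm
    · show a.1.1 ≠ a.1.2
      exact a.2
    · show b.1.2 ≠ a.1.1
      exact fun hh => h hh.symm
  have hcb : xijGL c (t * u) * xijGL b u = xijGL b u * xijGL c (t * u) := by
    apply xijGL_comm
    · show a.1.1 ≠ b.1.2
      exact h
    · show b.1.2 ≠ b.1.1
      exact fun hh => b.2 hh.symm
  calc xijGL a t * xijGL b u * (xijGL a t)⁻¹ * (xijGL b u)⁻¹
      = xijGL b u * xijGL a t * xijGL c (t * u) * (xijGL a t)⁻¹ * (xijGL b u)⁻¹ := by rw [hform']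
    _ = xijGL b u * (xijGL c (t * u) * xijGL a t) * (xijGL a t)⁻¹ * (xijGL b u)⁻¹ := by
        rw [hca]; group
    _ = (xijGL c (t * u) * xijGL b u) * (xijGL b u)⁻¹ := by rw [hcb]; group
    _ = xijGL c (t * u) := by group

theorem xijGL_conj_zGL (p : IJ) (t r : F) : xijGL p t * zGL r * (xijGL p t)⁻¹ = zGL r := by
  rw [← zGL_xijGL]
  group

theorem xijGL_conj_fix (p : IJ) (t : F) (I : T3) (a : F) (h : ¬ (p.1.2 ∈ I.1 ∧ p.1.1 ∉ I.1)) :
    xijGL p t * xIGL I a * (xijGL p t)⁻¹ = xIGL I a := by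
  obtain ⟨g1, g2, g3⟩ := tab_lin0 p I h
  have := xx_comm_of_nil (F := F) (gIdx I) (dIdx p) (tab_g_lt I) (tab_d_lt p) g1 g2 g3 a
    ((tau p : F) * t)
  have e : xijGL p t * xIGL I a = xIGL I a * xijGL p t := this
  rw [e]
  group

theorem repl_not (I : T3) (i j : Fin 6) (hj : j ∈ I.1) (hi : i ∉ I.1) :
    ¬ (j ∈ (repl I i j).1 ∧ i ∉ (repl I i j).1) := by
  unfold repl
  rw [dif_pos ⟨hj, hi⟩]
  intro hh
  exact hh.2 (Finset.mem_insert_self _ _)

theorem xijGL_conj_move (p : IJ) (t : F) (I : T3) (a : F) (hj : p.1.2 ∈ I.1) (hi : p.1.1 ∉ I.1) :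
    xijGL p t * xIGL I a * (xijGL p t)⁻¹ =
      xIGL I a * xIGL (repl I p.1.1 p.1.2) (((rsgn I p.1.1 p.1.2 : ℤ) : F) * t * a) := by
  obtain ⟨g1, g2, g3, tp⟩ := tab_lin1 p I hj hi
  have hform := xx_comm_of_one (F := F) (gIdx I) (dIdx p) (gIdx (repl I p.1.1 p.1.2))
    (-(rsgn I p.1.1 p.1.2 * tau p)) (tab_g_lt I) (tab_d_lt p) g1 g2 g3 a ((tau p : F) * t)
  have e : (((-(rsgn I p.1.1 p.1.2 * tau p) : ℤ) : F)) * (-a) * ((tau p : F) * t)
      = ((rsgn I p.1.1 p.1.2 : ℤ) : F) * t * a := by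
    push_cast
    linear_combination (((rsgn I p.1.1 p.1.2 : ℤ) : F) * t * a) * tau_sq (F := F) p tp
  rw [e] at hform
  have hform' : xijGL p t * xIGL I a = xIGL I a * xijGL p t *
      xIGL (repl I p.1.1 p.1.2) (((rsgn I p.1.1 p.1.2 : ℤ) : F) * t * a) := hform
  have hfix := xijGL_conj_fix p t (repl I p.1.1 p.1.2) (((rsgn I p.1.1 p.1.2 : ℤ) : F) * t * a)
    (repl_not I p.1.1 p.1.2 hj hi)
  rw [hform']
  have hassoc : xIGL I a * xijGL p t *
      xIGL (repl I p.1.1 p.1.2) (((rsgn I p.1.1 p.1.2 : ℤ) : F) * t * a) * (xijGL p t)⁻¹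
      = xIGL I a * (xijGL p t *
        xIGL (repl I p.1.1 p.1.2) (((rsgn I p.1.1 p.1.2 : ℤ) : F) * t * a) * (xijGL p t)⁻¹) := by
    simp only [mul_assoc]
  rw [hassoc, hfix]

/-! ### the Weyl element and the torus element -/

theorem n1GL_conj_zGL (r : F) : (n1GL : GL chevE6.Idx F) * zGL r * n1GL⁻¹ = xIGL I012 r := by
  obtain ⟨hw, a1, e1, _, _, _⟩ := tab_w
  have h := wGL_conj_eps (F := F) chevE6 hE6' [1] hw 71 (by decide) (-r)
  rw [a1, e1] at h
  unfold n1GL zGL xIGL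
  rw [h]
  congr 1
  push_cast
  ring

theorem n1GL_conj_xijGL (t : F) :
    (n1GL : GL chevE6.Idx F) * xijGL p03 t * n1GL⁻¹ = xIGL I045 (-t) := by
  obtain ⟨hw, _, _, a2, e2, t2⟩ := tab_w
  have h := wGL_conj_eps (F := F) chevE6 hE6' [1] hw (dIdx p03) (tab_d_lt p03) ((tau p03 : F) * t)
  rw [a2, e2] at h
  unfold n1GL xijGL xIGL
  rw [h, t2]
  congr 1
  push_cast
  ring

theorem hGL_conj_x (c : Fˣ) (r : ℕ) (t : F) :
    hGL c * xx r t * (hGL c)⁻¹ = xx r ((c : F) ^ (chevE6.cartan 1 r) * t) := by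
  have h := hGL_mul_x (K := F) chevE6 hE6' 1 (by decide) (c : F) (Units.ne_zero c) r t
  unfold hGL
  rw [h]
  group

theorem hGL_conj_zGL (c : Fˣ) (r : F) : hGL c * zGL r * (hGL c)⁻¹ = zGL ((c : F) * r) := by
  unfold zGL
  rw [hGL_conj_x, tab_h.1, zpow_one]
  congr 1
  ring

theorem hGL_conj_xIGL (c : Fˣ) (I : T3) (a : F) :
    hGL c * xIGL I a * (hGL c)⁻¹ = xIGL I (((c ^ hexp I : Fˣ) : F) * a) := by
  unfold xIGL
  rw [hGL_conj_x, tab_h.2 I, Units.val_zpow_eq_zpow_val]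

end Cfsg.Agent.Lib.Helper5.E6M
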