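import Mathlib
import Cfsg.Agent.Lib.Helper3.MSDefs
import Cfsg.Agent.Lib.Lead.UniqueP
import Cfsg.Agent.Lib.Helper7.PGroupAux

/-! S4125 MS farm, piece E3: a finite `p`-group with a noncyclic abelian normal subgroup contains `x`, `z` of order `p`,
`z` central, `x ∉ ⟨z⟩`, with all conjugates of `x` in `x⟨z⟩`. -/

set_option autoImplicit false
set_option linter.unusedVariables false
set_option linter.unusedSectionVars false
set_option linter.style.longLine false

namespace Cfsg.Agent.Lib.Helper3.MS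

universe u v

variable {p q : ℕ} {H : Type u} [Group H] {V : Type v} [AddCommGroup V] [DistribMulAction H V]

/-- the elements of order dividing `p` of a commutative normal subgroup, as a subgroup -/
def h5_omegaSub {P : Type*} [Group P] (p : ℕ) (B : Subgroup P)
    (hcomm : ∀ a ∈ B, ∀ b ∈ B, a * b = b * a) : Subgroup P where
  carrier := {b | b ∈ B ∧ b ^ p = 1}
  one_mem' := ⟨B.one_mem, one_pow _⟩
  mul_mem' := by
    rintro a b ⟨ha, ha'⟩ ⟨hb, hb'⟩
    refine ⟨B.mul_mem ha hb, ?_⟩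
    have hc : Commute a b := hcomm a ha b hb
    rw [hc.mul_pow, ha', hb', one_mul]
  inv_mem' := by
    rintro a ⟨ha, ha'⟩
    exact ⟨B.inv_mem ha, by rw [inv_pow, ha', inv_one]⟩

theorem h5_mem_omegaSub {P : Type*} [Group P] (p : ℕ) (B : Subgroup P)
    (hcomm : ∀ a ∈ B, ∀ b ∈ B, a * b = b * a) (b : P) :
    b ∈ h5_omegaSub p B hcomm ↔ b ∈ B ∧ b ^ p = 1 := Iff.rfl

theorem exists_Cp2 {P : Type*} [Group P] [Finite P] (p : ℕ) [Fact p.Prime] (hP : IsPGroup p P)
    (B : Subgroup P) (hBn : B.Normal) (hBc : IsMulCommutative B) (hBnc : ¬ IsCyclic B) :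
    ∃ x z : P, orderOf x = p ∧ orderOf z = p ∧ (∀ g : P, g * z = z * g) ∧ x ∉ Subgroup.zpowers z ∧
      ∀ g : P, ∃ b : ℕ, g * x * g⁻¹ = x * z ^ b := by
  have hpp : p.Prime := Fact.out
  have hcommB : ∀ a b : B, a * b = b * a := fun a b => hBc.is_comm.comm a b
  have hcomm : ∀ a ∈ B, ∀ b ∈ B, a * b = b * a := by
    intro a ha b hb
    exact congrArg Subtype.val (hcommB ⟨a, ha⟩ ⟨b, hb⟩)
  -- `B` does not have a unique subgroup of order `p`
  letI : CommGroup B := { (inferInstance : Group B) with mul_comm := hcommB }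
  have hnu : ¬ Cfsg.Agent.Lib.Lead.UniqueP.UOP p B := by
    intro hu
    exact hBnc (Cfsg.Agent.Lib.Lead.UniqueP.isCyclic_of_comm p (hP.to_subgroup B) hu)
  unfold Cfsg.Agent.Lib.Lead.UniqueP.UOP at hnu
  push Not at hnu
  obtain ⟨x0, y0, hx0, hy0, hx01, hy0x⟩ := hnu
  have hx0' : (x0 : P) ^ p = 1 := by rw [← Subgroup.coe_pow, hx0]; rfl
  have hy0' : (y0 : P) ^ p = 1 := by rw [← Subgroup.coe_pow, hy0]; rfl
  have hx01' : (x0 : P) ≠ 1 := fun e => hx01 (Subtype.ext e)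
  have hy0x' : (y0 : P) ∉ Subgroup.zpowers (x0 : P) := by
    intro hmem
    apply hy0x
    obtain ⟨k, hk⟩ := Subgroup.mem_zpowers_iff.mp hmem
    rw [Subgroup.mem_zpowers_iff]
    exact ⟨k, Subtype.ext (by rw [Subgroup.coe_zpow]; exact hk)⟩
  -- the subgroup Ω
  set Om := h5_omegaSub p B hcomm with hOm
  have hOmn : Om.Normal := by
    refine ⟨fun b hb g => ?_⟩
    obtain ⟨hb1, hb2⟩ := hb
    refine ⟨hBn.conj_mem b hb1 g, ?_⟩
    rw [conj_pow, hb2, mul_one, mul_inv_cancel]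
  have hxOm : (x0 : P) ∈ Om := ⟨x0.2, hx0'⟩
  have hyOm : (y0 : P) ∈ Om := ⟨y0.2, hy0'⟩
  have hOmne : Om ≠ ⊥ := by
    intro h
    rw [h, Subgroup.mem_bot] at hxOm
    exact hx01' hxOm
  obtain ⟨z, hzOm, hz1, hzc⟩ :=
    Cfsg.Agent.Lib.Helper7.exists_mem_center_of_normal_ne_bot hP Om hOmne
  have hzp : z ^ p = 1 := hzOm.2
  have hoz : orderOf z = p := orderOf_eq_prime hzp hz1
  have hzcomm : ∀ g : P, g * z = z * g := fun g => (Subgroup.mem_center_iff.mp hzc g)
  -- `⟨z⟩` is normal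
  set Z := Subgroup.zpowers z with hZ
  have hZc : Z ≤ Subgroup.center P := by
    rw [hZ, Subgroup.zpowers_le]; exact hzc
  have hZn : Z.Normal := by
    refine ⟨fun n hn g => ?_⟩
    have := Subgroup.mem_center_iff.mp (hZc hn) g
    rw [this, mul_inv_cancel_right]
    exact hn
  -- `Ω` is not contained in `⟨z⟩`
  have hnotle : ¬ Om ≤ Z := by
    intro hle
    have hxz : (x0 : P) ∈ Z := hle hxOm
    have h1 : Subgroup.zpowers (x0 : P) ≤ Z := by
      rw [Subgroup.zpowers_le]; exact hxz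
    have hox : orderOf (x0 : P) = p := orderOf_eq_prime hx0' hx01'
    have h2 : Subgroup.zpowers (x0 : P) = Z := by
      apply Subgroup.eq_of_le_of_card_ge h1
      rw [hZ, Nat.card_zpowers, Nat.card_zpowers, hox, hoz]
    apply hy0x'
    rw [h2]
    exact hle hyOm
  obtain ⟨w, hwOm, hwZ⟩ := SetLike.not_le_iff_exists.mp hnotle
  -- pass to the quotient by `⟨z⟩`
  have hsurj : Function.Surjective (QuotientGroup.mk' Z) := QuotientGroup.mk'_surjective Z
  have hOmbn : (Om.map (QuotientGroup.mk' Z)).Normal := Subgroup.Normal.map hOmn _ hsurj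
  have hOmbne : Om.map (QuotientGroup.mk' Z) ≠ ⊥ := by
    intro h
    have hw1 : QuotientGroup.mk' Z w ∈ Om.map (QuotientGroup.mk' Z) := Subgroup.mem_map_of_mem _ hwOm
    rw [h, Subgroup.mem_bot, QuotientGroup.mk'_apply, QuotientGroup.eq_one_iff] at hw1
    exact hwZ hw1
  have hPq : IsPGroup p (P ⧸ Z) := hP.to_quotient Z
  obtain ⟨xb, hxbOm, hxb1, hxbc⟩ :=
    Cfsg.Agent.Lib.Helper7.exists_mem_center_of_normal_ne_bot hPq (Om.map (QuotientGroup.mk' Z)) hOmbne
  obtain ⟨x, hxOm', rfl⟩ := hxbOm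
  have hxZ : x ∉ Z := by
    intro h
    apply hxb1
    rw [QuotientGroup.mk'_apply, QuotientGroup.eq_one_iff]
    exact h
  have hx1 : x ≠ 1 := fun h => hxZ (by rw [h]; exact Z.one_mem)
  have hox : orderOf x = p := orderOf_eq_prime hxOm'.2 hx1
  refine ⟨x, z, hox, hoz, hzcomm, hxZ, fun g => ?_⟩
  have hcen := Subgroup.mem_center_iff.mp hxbc (QuotientGroup.mk' Z g)
  -- mk (g x) = mk (x g)
  have h3 : QuotientGroup.mk' Z (x * g) = QuotientGroup.mk' Z (g * x) := by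
    rw [map_mul, map_mul]; exact hcen.symm
  have h4 : (x * g)⁻¹ * (g * x) ∈ Z := by
    have := (QuotientGroup.eq (s := Z) (a := x * g) (b := g * x)).mp h3
    exact this
  obtain ⟨b, hb⟩ := Cfsg.Agent.Lib.Lead.UniqueP.exists_nat_pow_of_mem_zpowers h4
  refine ⟨b, ?_⟩
  rw [hb]
  -- g x g⁻¹ = x * ((x g)⁻¹ (g x)) : uses that (x g)⁻¹ (g x) is central
  have hcz : ∀ t : P, t * ((x * g)⁻¹ * (g * x)) = ((x * g)⁻¹ * (g * x)) * t :=
    fun t => Subgroup.mem_center_iff.mp (hZc h4) t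
  have h5 : g * x = x * g * ((x * g)⁻¹ * (g * x)) := by group
  calc g * x * g⁻¹ = x * g * ((x * g)⁻¹ * (g * x)) * g⁻¹ := by rw [← h5]
    _ = x * (g * ((x * g)⁻¹ * (g * x))) * g⁻¹ := by rw [mul_assoc x g]
    _ = x * (((x * g)⁻¹ * (g * x)) * g) * g⁻¹ := by rw [hcz g]
    _ = x * ((x * g)⁻¹ * (g * x)) := by group

end Cfsg.Agent.Lib.Helper3.MS
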