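import Mathlib
import Cfsg.Agent.Lib.Helper3.MSDefs
import Cfsg.Agent.S0675
import Cfsg.Agent.S3972

/-! S4125 MS farm, piece G6a: a faithful primitive nonsolvable action on `p ^ k` points containing an element of order
`p ^ k` is 2-transitive (Burnside S0675 for `k = 1`, Burnside–Schur S3972 for `k ≥ 2`). -/

set_option autoImplicit false
set_option linter.unusedVariables false
set_option linter.unusedSectionVars false
set_option linter.style.longLine false

namespace Cfsg.Agent.Lib.Helper3.MS

universe u v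

open scoped Pointwise

theorem two_pretransitive_of_regular_cyclic {H : Type*} [Group H] [Finite H] {Ω : Type*} [Finite Ω]
    [MulAction H Ω] (p k : ℕ) (hp : p.Prime) (hk : 1 ≤ k) (hΩ : Nat.card Ω = p ^ k)
    (hfaith : ∀ x : H, (∀ ω : Ω, x • ω = ω) → x = 1) (hprim : MulAction.IsPreprimitive H Ω)
    (g : H) (hg : orderOf g = p ^ k) (hns : ¬ Group.IsSolvable H) :
    MulAction.IsMultiplyPretransitive H Ω 2 := by
  classical
  have : Fintype Ω := Fintype.ofFinite Ω
  obtain ⟨φ, hφa⟩ : ∃ φ : H →* Equiv.Perm Ω, ∀ (x : H) (ω : Ω), φ x ω = x • ω :=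
    ⟨MulAction.toPermHom H Ω, fun x ω => rfl⟩
  have hinj : Function.Injective φ := by
    rw [injective_iff_map_eq_one]
    intro x hx
    apply hfaith
    intro ω
    rw [← hφa, hx]; rfl
  have hinj' : Function.Injective φ.rangeRestrict := by
    intro a b hab
    apply hinj
    exact congrArg Subtype.val hab
  have hGsmul : ∀ (x : H) (ω : Ω), (φ.rangeRestrict x) • ω = x • ω := fun x ω => hφa x ω
  have hGset : ∀ (x : H) (B : Set Ω), (φ.rangeRestrict x) • B = x • B := by
    intro x B
    ext ω
    simp only [Set.mem_smul_set]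
    constructor
    · rintro ⟨b, hb, rfl⟩; exact ⟨b, hb, (hGsmul x b).symm⟩
    · rintro ⟨b, hb, rfl⟩; exact ⟨b, hb, hGsmul x b⟩
  have : MulAction.IsPretransitive H Ω := hprim.toIsPretransitive
  have htrG : MulAction.IsPretransitive φ.range Ω := ⟨fun a b => by
    obtain ⟨x, hx⟩ := MulAction.exists_smul_eq H a b
    exact ⟨φ.rangeRestrict x, by rw [hGsmul]; exact hx⟩⟩
  have h2GH : MulAction.IsMultiplyPretransitive φ.range Ω 2 →
      MulAction.IsMultiplyPretransitive H Ω 2 := by
    intro h2
    rw [MulAction.is_two_pretransitive_iff] at h2 ⊢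
    intro a b c d hab hcd
    obtain ⟨g', h1, h2'⟩ := h2 hab hcd
    obtain ⟨x, hx⟩ := g'.2
    have hg' : g' = φ.rangeRestrict x := Subtype.ext hx.symm
    refine ⟨x, ?_, ?_⟩
    · rw [← hGsmul, ← hg']; exact h1
    · rw [← hGsmul, ← hg']; exact h2'
  by_contra hnot
  have hnotG : ¬ MulAction.IsMultiplyPretransitive φ.range Ω 2 := fun h => hnot (h2GH h)
  have hsolv : ¬ Group.IsSolvable φ.range := by
    intro hs
    exact hns (Group.isSolvable_of_isSolvable_injective hinj')
  have hcardΩ : Fintype.card Ω = p ^ k := by rw [← Nat.card_eq_fintype_card]; exact hΩ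
  rcases Nat.lt_or_ge k 2 with hk1 | hk2
  · have hk' : k = 1 := by omega
    subst hk'
    rw [pow_one] at hcardΩ
    have hprime : (Fintype.card Ω).Prime := by rw [hcardΩ]; exact hp
    rcases Cfsg.Agent.S0675.result hprime φ.range with hs | h2
    · exact hsolv hs
    · exact hnotG h2
  · have hg' : orderOf (φ.rangeRestrict g) = p ^ k := by
      rw [orderOf_injective φ.rangeRestrict hinj' g]; exact hg
    have h3 := (Cfsg.Agent.S3972.result p k hp hk2 hcardΩ φ.range htrG hnotG (φ.rangeRestrict g) hg').1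
    apply h3
    refine { toIsPretransitive := htrG, isTrivialBlock_of_isBlock := ?_ }
    intro B hB
    apply hprim.isTrivialBlock_of_isBlock
    intro x1 x2 hne
    rw [← hGset x1, ← hGset x2] at hne ⊢
    exact hB hne

end Cfsg.Agent.Lib.Helper3.MS
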