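import Mathlib
import Cfsg.Prelude
import Cfsg.Agent.Lib.Helper5.TvGL

set_option autoImplicit false
set_option linter.unusedSectionVars false
set_option linter.unusedVariables false
open Cfsg

/-! A direct sum decomposition into lines over a field with at most four elements, or into
planes over the field with two elements: its stabiliser preserves a sesquilinear form built
from a basis adapted to the decomposition. -/

namespace Cfsg.Agent.Lib.Helper5.LinDecompForm

open Matrix

variable {F : Type*} [Field F] {n : ℕ}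

section rk1

theorem dot_eq (φ : (Fin n → F) →ₗ[F] F) (x : Fin n → F) :
    (fun i => φ (Pi.single i 1)) ⬝ᵥ x = φ x := by
  conv_rhs => rw [LinearMap.pi_apply_eq_sum_univ φ x]
  simp only [dotProduct, smul_eq_mul]
  refine Finset.sum_congr rfl fun i _ => ?_
  rw [mul_comm]
  congr 2
  ext j
  simp [Pi.single_apply, eq_comm]

/-- the matrix of `x ↦ x + φ x • v` -/
noncomputable def rk1Mat (φ : (Fin n → F) →ₗ[F] F) (v : Fin n → F) : Matrix (Fin n) (Fin n) F :=
  TvGL.tvMat (fun i => φ (Pi.single i 1)) v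

theorem rk1Mat_mulVec (φ : (Fin n → F) →ₗ[F] F) (v x : Fin n → F) :
    rk1Mat φ v *ᵥ x = x + φ x • v := by
  unfold rk1Mat
  rw [TvGL.tvMat_mulVec, dot_eq]

theorem det_rk1Mat (φ : (Fin n → F) →ₗ[F] F) (v : Fin n → F) :
    (rk1Mat φ v).det = 1 + φ v := by
  unfold rk1Mat TvGL.tvMat
  rw [vecMulVec_eq Unit, det_one_add_mul_comm, ← dot_eq φ v]
  simp [dotProduct, Matrix.mul_apply, mul_comm]

/-- the map `x ↦ x + φ x • v` as an invertible matrix -/
noncomputable def rk1 (φ : (Fin n → F) →ₗ[F] F) (v : Fin n → F) (h : 1 + φ v ≠ 0) :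
    Matrix.GeneralLinearGroup (Fin n) F :=
  Matrix.GeneralLinearGroup.mk'' (rk1Mat φ v) (by rw [det_rk1Mat]; exact isUnit_iff_ne_zero.mpr h)

theorem rk1_mulVec (φ : (Fin n → F) →ₗ[F] F) (v : Fin n → F) (h : 1 + φ v ≠ 0) (x : Fin n → F) :
    (rk1 φ v h : Matrix (Fin n) (Fin n) F) *ᵥ x = x + φ x • v :=
  rk1Mat_mulVec φ v x

theorem det_rk1 (φ : (Fin n → F) →ₗ[F] F) (v : Fin n → F) (h : 1 + φ v ≠ 0) :
    (rk1 φ v h : Matrix (Fin n) (Fin n) F).det = 1 + φ v :=
  det_rk1Mat φ v

theorem mem_SL_iff (g : Matrix.GeneralLinearGroup (Fin n) F) :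
    g ∈ Cfsg.Geo.specialLinear (Fin n) F ↔ (g : Matrix (Fin n) (Fin n) F).det = 1 := by
  unfold Cfsg.Geo.specialLinear
  rw [MonoidHom.mem_ker]
  constructor
  · intro h
    have := congrArg Units.val h
    simpa using this
  · intro h
    ext
    simpa using h

end rk1

section decomp
variable {t m : ℕ} {D : Fin t → Submodule F (Fin n → F)}
  (hD : Cfsg.Geo.IsMDecomposition m D)

include hD in
theorem isInternal : DirectSum.IsInternal D :=
  DirectSum.isInternal_submodule_of_iSupIndep_of_iSup_eq_top hD.indep hD.iSup_eq_top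

/-- a basis adapted to the decomposition -/
noncomputable def bas : Module.Basis (Fin t × Fin m) F (Fin n → F) :=
  ((isInternal hD).collectedBasis
    (fun i => Module.finBasisOfFinrankEq F (D i) (hD.finrank_eq i))).reindex
      (Equiv.sigmaEquivProd (Fin t) (Fin m))

theorem bas_mem (a : Fin t × Fin m) : bas hD a ∈ D a.1 := by
  unfold bas
  rw [Module.Basis.reindex_apply]
  exact (isInternal hD).collectedBasis_mem _ ((Equiv.sigmaEquivProd (Fin t) (Fin m)).symm a)

theorem repr_of_mem {x : Fin n → F} {i : Fin t} (hx : x ∈ D i) (a : Fin t × Fin m)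
    (ha : a.1 ≠ i) : (bas hD).repr x a = 0 := by
  unfold bas
  rw [Module.Basis.repr_reindex_apply]
  obtain ⟨j, k⟩ := a
  exact (isInternal hD).collectedBasis_repr_of_mem_ne _ (fun h => ha h.symm) hx

theorem mem_of_repr {x : Fin n → F} {i : Fin t}
    (h : ∀ a : Fin t × Fin m, a.1 ≠ i → (bas hD).repr x a = 0) : x ∈ D i := by
  rw [← (bas hD).sum_repr x]
  refine Submodule.sum_mem _ fun a _ => ?_
  by_cases ha : a.1 = i
  · rw [← ha]
    exact Submodule.smul_mem _ _ (bas_mem hD a)
  · rw [h a ha, zero_smul]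
    exact Submodule.zero_mem _

include hD in
theorem card_eq : t * m = n := by
  have h1 := Module.finrank_eq_card_basis (bas hD)
  rw [Module.finrank_fintype_fun_eq_card, Fintype.card_fin, Fintype.card_prod, Fintype.card_fin,
    Fintype.card_fin] at h1
  exact h1.symm

/-- a vector with non-zero coordinates in two different blocks lies in no block -/
theorem not_mem_of_repr {x : Fin n → F} {a a' : Fin t × Fin m} (haa : a.1 ≠ a'.1)
    (ha : (bas hD).repr x a ≠ 0) (ha' : (bas hD).repr x a' ≠ 0) (j : Fin t) : x ∉ D j := by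
  intro hx
  by_cases h : a.1 = j
  · exact ha' (repr_of_mem hD hx a' (fun h' => haa (h.trans h'.symm)))
  · exact ha (repr_of_mem hD hx a h)

end decomp

section form
variable {t m : ℕ} {D : Fin t → Submodule F (Fin n → F)}
  (hD : Cfsg.Geo.IsMDecomposition m D) (s : ℕ)

/-- the involution on the index set -/
def tau (a : Fin t × Fin m) : Fin t × Fin m := (a.1, Fin.rev a.2)

theorem tau_tau (a : Fin t × Fin m) : tau (tau a) = a := by
  unfold tau
  simp

theorem tau_fst (a : Fin t × Fin m) : (tau a).1 = a.1 := rfl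

theorem tau_inv : Function.Involutive (tau : Fin t × Fin m → Fin t × Fin m) := tau_tau

/-- the involution as a permutation -/
def tauP : Equiv.Perm (Fin t × Fin m) := Function.Involutive.toPerm tau tau_inv

theorem tauP_apply (a : Fin t × Fin m) : tauP a = tau a := rfl

/-- the form attached to the adapted basis -/
noncomputable def form (x y : Fin n → F) : F :=
  ∑ a : Fin t × Fin m, (bas hD).repr x a * ((bas hD).repr y (tau a)) ^ s

theorem form_add_left (x x' y : Fin n → F) :
    form hD s (x + x') y = form hD s x y + form hD s x' y := by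
  unfold form
  rw [← Finset.sum_add_distrib]
  refine Finset.sum_congr rfl fun a _ => ?_
  rw [map_add, Finsupp.add_apply, add_mul]

theorem form_smul_left (c : F) (x y : Fin n → F) :
    form hD s (c • x) y = c * form hD s x y := by
  unfold form
  rw [Finset.mul_sum]
  refine Finset.sum_congr rfl fun a _ => ?_
  rw [map_smul, Finsupp.smul_apply, smul_eq_mul, mul_assoc]

theorem form_smul_right (c : F) (x y : Fin n → F) :
    form hD s x (c • y) = c ^ s * form hD s x y := by
  unfold form
  rw [Finset.mul_sum]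
  refine Finset.sum_congr rfl fun a _ => ?_
  rw [map_smul, Finsupp.smul_apply, smul_eq_mul, mul_pow]
  ring

theorem form_zero_left (y : Fin n → F) : form hD s 0 y = 0 := by
  have := form_smul_left hD s 0 0 y
  rwa [zero_smul, zero_mul] at this

variable (hs0 : s ≠ 0) (hs : ∀ a b : F, (a + b) ^ s = a ^ s + b ^ s)

include hs0 in
theorem form_zero_right (x : Fin n → F) : form hD s x 0 = 0 := by
  have := form_smul_right hD s 0 x 0
  rwa [zero_smul, zero_pow hs0, zero_mul] at this

include hs in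
theorem form_add_right (x y y' : Fin n → F) :
    form hD s x (y + y') = form hD s x y + form hD s x y' := by
  unfold form
  rw [← Finset.sum_add_distrib]
  refine Finset.sum_congr rfl fun a _ => ?_
  rw [map_add, Finsupp.add_apply, hs, mul_add]

include hs0 in
theorem form_bas (a a' : Fin t × Fin m) :
    form hD s (bas hD a) (bas hD a') = if tau a = a' then 1 else 0 := by
  unfold form
  rw [Finset.sum_eq_single a]
  · rw [Module.Basis.repr_self, Module.Basis.repr_self, Finsupp.single_eq_same, one_mul,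
      Finsupp.single_apply]
    by_cases h : tau a = a'
    · rw [if_pos h, if_pos h.symm, one_pow]
    · rw [if_neg h, if_neg (fun h' => h h'.symm), zero_pow hs0]
  · intro b _ hb
    rw [Module.Basis.repr_self, Finsupp.single_eq_of_ne hb, zero_mul]
  · intro h
    exact absurd (Finset.mem_univ a) h

include hs0 hs in
theorem pow_sum {α : Type*} (S : Finset α) (f : α → F) :
    (∑ i ∈ S, f i) ^ s = ∑ i ∈ S, (f i) ^ s := by
  classical
  induction S using Finset.induction_on with
  | empty => simp [hs0]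
  | insert a S ha ih => rw [Finset.sum_insert ha, Finset.sum_insert ha, hs, ih]

include hs0 hs in
theorem form_conj (hss : ∀ c : F, (c ^ s) ^ s = c) (x y : Fin n → F) :
    (form hD s x y) ^ s = form hD s y x := by
  unfold form
  rw [pow_sum s hs0 hs]
  rw [← Equiv.sum_comp (tauP : Equiv.Perm (Fin t × Fin m))]
  refine Finset.sum_congr rfl fun a _ => ?_
  rw [tauP_apply, tau_tau, mul_pow, hss, mul_comm]

include hs0 in
theorem form_orth {i j : Fin t} (hij : i ≠ j) {x y : Fin n → F} (hx : x ∈ D i) (hy : y ∈ D j) :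
    form hD s x y = 0 := by
  unfold form
  refine Finset.sum_eq_zero fun a _ => ?_
  by_cases ha : a.1 = i
  · rw [repr_of_mem hD hy (tau a) (by rw [tau_fst, ha]; exact hij), zero_pow hs0, mul_zero]
  · rw [repr_of_mem hD hx a ha, zero_mul]

/-- `x ↦ form x u` as a linear map -/
noncomputable def formL (u : Fin n → F) : (Fin n → F) →ₗ[F] F where
  toFun x := form hD s x u
  map_add' x y := form_add_left hD s x y u
  map_smul' c x := form_smul_left hD s c x u

theorem formL_apply (u x : Fin n → F) : formL hD s u x = form hD s x u := rfl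

/-- the map `x ↦ x + form x u • u` -/
noncomputable def refl (u : Fin n → F) (h : 1 + form hD s u u ≠ 0) :
    Matrix.GeneralLinearGroup (Fin n) F :=
  rk1 (formL hD s u) u h

theorem refl_mulVec (u : Fin n → F) (h : 1 + form hD s u u ≠ 0) (x : Fin n → F) :
    (refl hD s u h : Matrix (Fin n) (Fin n) F) *ᵥ x = x + form hD s x u • u :=
  rk1_mulVec _ _ _ _

theorem det_refl (u : Fin n → F) (h : 1 + form hD s u u ≠ 0) :
    (refl hD s u h : Matrix (Fin n) (Fin n) F).det = 1 + form hD s u u :=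
  det_rk1 _ _ _

include hs0 hs in
theorem refl_preserves (hss : ∀ c : F, (c ^ s) ^ s = c) (u : Fin n → F)
    (h : 1 + form hD s u u ≠ 0) (hu : 2 + form hD s u u = 0) (x y : Fin n → F) :
    form hD s ((refl hD s u h : Matrix (Fin n) (Fin n) F) *ᵥ x)
      ((refl hD s u h : Matrix (Fin n) (Fin n) F) *ᵥ y) = form hD s x y := by
  rw [refl_mulVec, refl_mulVec]
  simp only [form_add_left, form_add_right hD s hs, form_smul_left, form_smul_right]
  rw [← form_conj hD s hs0 hs hss y u]
  linear_combination form hD s x u * form hD s y u ^ s * hu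

include hs0 hs in
/-- the stabiliser of the decomposition preserves the form if it does so blockwise -/
theorem stab_preserves (g : Matrix.GeneralLinearGroup (Fin n) F)
    (hg : g ∈ Cfsg.Geo.decompositionStabilizer D)
    (hblock : ∀ i, ∀ x ∈ D i, ∀ y ∈ D i,
      form hD s ((g : Matrix (Fin n) (Fin n) F) *ᵥ x) ((g : Matrix (Fin n) (Fin n) F) *ᵥ y) =
        form hD s x y) (x y : Fin n → F) :
    form hD s ((g : Matrix (Fin n) (Fin n) F) *ᵥ x) ((g : Matrix (Fin n) (Fin n) F) *ᵥ y) =
      form hD s x y := by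
  obtain ⟨σ, hσ⟩ := hg
  have hmap : ∀ i, ∀ x ∈ D i, (g : Matrix (Fin n) (Fin n) F) *ᵥ x ∈ D (σ i) := by
    intro i x hx
    rw [← hσ i]
    exact ⟨x, hx, by rw [Matrix.toLin'_apply]⟩
  have hxtop : x ∈ iSup D := by rw [hD.iSup_eq_top]; trivial
  have hytop : y ∈ iSup D := by rw [hD.iSup_eq_top]; trivial
  have h1 : ∀ i, ∀ x ∈ D i, ∀ j, ∀ y ∈ D j,
      form hD s ((g : Matrix (Fin n) (Fin n) F) *ᵥ x) ((g : Matrix (Fin n) (Fin n) F) *ᵥ y) =
        form hD s x y := by
    intro i x hx j y hy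
    by_cases hij : i = j
    · subst hij
      exact hblock i x hx y hy
    · rw [form_orth hD s hs0 hij hx hy,
        form_orth hD s hs0 (fun h => hij (σ.injective h)) (hmap i x hx) (hmap j y hy)]
  have h2 : ∀ i, ∀ x ∈ D i, ∀ y,
      form hD s ((g : Matrix (Fin n) (Fin n) F) *ᵥ x) ((g : Matrix (Fin n) (Fin n) F) *ᵥ y) =
        form hD s x y := by
    intro i x hx y
    have hytop : y ∈ iSup D := by rw [hD.iSup_eq_top]; trivial
    induction hytop using Submodule.iSup_induction' with
    | mem j y hy => exact h1 i x hx j y hy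
    | zero => rw [Matrix.mulVec_zero, form_zero_right hD s hs0, form_zero_right hD s hs0]
    | add y y' _ _ ih ih' =>
      rw [Matrix.mulVec_add, form_add_right hD s hs, form_add_right hD s hs, ih, ih']
  induction hxtop using Submodule.iSup_induction' with
  | mem i x hx => exact h2 i x hx y
  | zero => rw [Matrix.mulVec_zero, form_zero_left, form_zero_left]
  | add x x' _ _ ih ih' =>
    rw [Matrix.mulVec_add, form_add_left, form_add_left, ih, ih']

theorem eq_sum_of_mem {x : Fin n → F} {i : Fin t} (hx : x ∈ D i) :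
    x = ∑ k : Fin m, (bas hD).repr x (i, k) • bas hD (i, k) := by
  conv_lhs => rw [← (bas hD).sum_repr x, Fintype.sum_prod_type]
  rw [Finset.sum_eq_single i]
  · intro j _ hj
    refine Finset.sum_eq_zero fun k _ => ?_
    rw [repr_of_mem hD hx (j, k) hj, zero_smul]
  · intro h
    exact absurd (Finset.mem_univ i) h

theorem gl_injective (g : Matrix.GeneralLinearGroup (Fin n) F) {x : Fin n → F}
    (h : (g : Matrix (Fin n) (Fin n) F) *ᵥ x = 0) : x = 0 := by
  have h1 := congrArg (fun z => ((g⁻¹ : Matrix.GeneralLinearGroup (Fin n) F) :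
    Matrix (Fin n) (Fin n) F) *ᵥ z) h
  simpa only [Matrix.mulVec_mulVec, ← Units.val_mul, inv_mul_cancel, Units.val_one,
    Matrix.one_mulVec, Matrix.mulVec_zero] using h1

theorem stab_map (g : Matrix.GeneralLinearGroup (Fin n) F)
    (hg : g ∈ Cfsg.Geo.decompositionStabilizer D) (i : Fin t) :
    ∃ j, ∀ x ∈ D i, (g : Matrix (Fin n) (Fin n) F) *ᵥ x ∈ D j := by
  obtain ⟨σ, hσ⟩ := hg
  refine ⟨σ i, fun x hx => ?_⟩
  rw [← hσ i]
  exact ⟨x, hx, by rw [Matrix.toLin'_apply]⟩

end form

section one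
variable {t : ℕ} {D : Fin t → Submodule F (Fin n → F)}
  (hD : Cfsg.Geo.IsMDecomposition 1 D) (s : ℕ) (hs0 : s ≠ 0)
  (hs : ∀ a b : F, (a + b) ^ s = a ^ s + b ^ s)

include hs0 hs in
/-- blockwise preservation for a decomposition into lines -/
theorem block_one (hnorm : ∀ c : F, c ≠ 0 → c * c ^ s = 1)
    (g : Matrix.GeneralLinearGroup (Fin n) F)
    (hg : g ∈ Cfsg.Geo.decompositionStabilizer D) (i : Fin t) (x : Fin n → F) (hx : x ∈ D i)
    (y : Fin n → F) (hy : y ∈ D i) :
    form hD s ((g : Matrix (Fin n) (Fin n) F) *ᵥ x) ((g : Matrix (Fin n) (Fin n) F) *ᵥ y) =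
      form hD s x y := by
  obtain ⟨j, hj⟩ := stab_map g hg i
  have ex := eq_sum_of_mem hD hx
  have ey := eq_sum_of_mem hD hy
  have ed := eq_sum_of_mem hD (hj _ (bas_mem hD (i, 0)))
  rw [Fin.sum_univ_one] at ex ey ed
  have hγ : (bas hD).repr ((g : Matrix (Fin n) (Fin n) F) *ᵥ bas hD (i, 0)) (j, 0) ≠ 0 := by
    intro h0
    rw [h0, zero_smul] at ed
    exact (bas hD).ne_zero (i, 0) (gl_injective g ed)
  set γ := (bas hD).repr ((g : Matrix (Fin n) (Fin n) F) *ᵥ bas hD (i, 0)) (j, 0) with hγdef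
  have hb : ∀ k : Fin t, form hD s (bas hD (k, 0)) (bas hD (k, 0)) = 1 := by
    intro k
    rw [form_bas hD s hs0, if_pos]
    unfold tau
    simp
  rw [ex, ey, Matrix.mulVec_smul, Matrix.mulVec_smul, ed]
  simp only [form_smul_left, form_smul_right, hb]
  have := hnorm γ hγ
  linear_combination (bas hD).repr x (i, 0) * ((bas hD).repr y (i, 0)) ^ s * this

end one

section two
variable [Fintype F] {t : ℕ} {D : Fin t → Submodule F (Fin n → F)}
  (hD : Cfsg.Geo.IsMDecomposition 2 D) (hq : Fintype.card F = 2)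

include hq in
theorem eq_zero_or_one (a : F) : a = 0 ∨ a = 1 := by
  by_cases ha : a = 0
  · exact Or.inl ha
  · right
    have h1 := FiniteField.pow_card_sub_one_eq_one a ha
    rw [hq] at h1
    simpa using h1

include hq in
theorem two_eq_zero : (2 : F) = 0 := by
  rcases eq_zero_or_one hq (2 : F) with h | h
  · exact h
  · exfalso
    have : (1 : F) = 0 := by linear_combination h
    exact one_ne_zero this

theorem form_two (x y : Fin n → F) :
    form hD 1 x y = ∑ i : Fin t, ((bas hD).repr x (i, 0) * (bas hD).repr y (i, 1) +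
      (bas hD).repr x (i, 1) * (bas hD).repr y (i, 0)) := by
  unfold form
  rw [Fintype.sum_prod_type]
  refine Finset.sum_congr rfl fun i _ => ?_
  rw [Fin.sum_univ_two]
  simp only [tau, pow_one]
  rfl

include hq in
theorem form_alt (x : Fin n → F) : form hD 1 x x = 0 := by
  rw [form_two]
  refine Finset.sum_eq_zero fun i _ => ?_
  linear_combination (bas hD).repr x (i, 0) * (bas hD).repr x (i, 1) * two_eq_zero hq

theorem form_two_of_mem {x y : Fin n → F} {i : Fin t} (hx : x ∈ D i) :
    form hD 1 x y = (bas hD).repr x (i, 0) * (bas hD).repr y (i, 1) +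
      (bas hD).repr x (i, 1) * (bas hD).repr y (i, 0) := by
  rw [form_two, Finset.sum_eq_single i]
  · intro j _ hj
    rw [repr_of_mem hD hx (j, 0) hj, repr_of_mem hD hx (j, 1) hj, zero_mul, zero_mul, add_zero]
  · intro h
    exact absurd (Finset.mem_univ i) h

include hq in
theorem form_eq_one {z w : Fin n → F} {j : Fin t} (hz : z ∈ D j) (hw : w ∈ D j) (hz0 : z ≠ 0)
    (hw0 : w ≠ 0) (hzw : z ≠ w) : form hD 1 z w = 1 := by
  have key := form_two_of_mem hD (y := w) hz
  have ez := eq_sum_of_mem hD hz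
  have ew := eq_sum_of_mem hD hw
  rw [Fin.sum_univ_two] at ez ew
  rw [key]
  rcases eq_zero_or_one hq ((bas hD).repr z (j, 0)) with h1 | h1 <;>
  rcases eq_zero_or_one hq ((bas hD).repr z (j, 1)) with h2 | h2 <;>
  rcases eq_zero_or_one hq ((bas hD).repr w (j, 0)) with h3 | h3 <;>
  rcases eq_zero_or_one hq ((bas hD).repr w (j, 1)) with h4 | h4 <;>
  rw [h1, h2] at ez <;> rw [h3, h4] at ew <;> rw [h1, h2, h3, h4] <;>
  first
  | (exfalso; apply hz0; rw [ez]; simp; done)
  | (exfalso; apply hw0; rw [ew]; simp; done)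
  | (exfalso; apply hzw; rw [ez, ew]; done)
  | (simp; done)

include hq in
/-- blockwise preservation for a decomposition into planes over the field with two elements -/
theorem block_two (g : Matrix.GeneralLinearGroup (Fin n) F)
    (hg : g ∈ Cfsg.Geo.decompositionStabilizer D) (i : Fin t) (x : Fin n → F) (hx : x ∈ D i)
    (y : Fin n → F) (hy : y ∈ D i) :
    form hD 1 ((g : Matrix (Fin n) (Fin n) F) *ᵥ x) ((g : Matrix (Fin n) (Fin n) F) *ᵥ y) =
      form hD 1 x y := by
  obtain ⟨j, hj⟩ := stab_map g hg i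
  have ex := eq_sum_of_mem hD hx
  have ey := eq_sum_of_mem hD hy
  rw [Fin.sum_univ_two] at ex ey
  have hs : ∀ a b : F, (a + b) ^ 1 = a ^ 1 + b ^ 1 := fun a b => by ring
  have ha := hj _ (bas_mem hD (i, 0))
  have hb := hj _ (bas_mem hD (i, 1))
  have ha0 : (g : Matrix (Fin n) (Fin n) F) *ᵥ bas hD (i, 0) ≠ 0 := fun h =>
    (bas hD).ne_zero (i, 0) (gl_injective g h)
  have hb0 : (g : Matrix (Fin n) (Fin n) F) *ᵥ bas hD (i, 1) ≠ 0 := fun h =>
    (bas hD).ne_zero (i, 1) (gl_injective g h)
  have hab : (g : Matrix (Fin n) (Fin n) F) *ᵥ bas hD (i, 0) ≠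
      (g : Matrix (Fin n) (Fin n) F) *ᵥ bas hD (i, 1) := by
    intro h
    have h1 : (g : Matrix (Fin n) (Fin n) F) *ᵥ (bas hD (i, 0) - bas hD (i, 1)) = 0 := by
      rw [Matrix.mulVec_sub, h, sub_self]
    have h2 := (bas hD).injective (sub_eq_zero.mp (gl_injective g h1))
    exact absurd (Prod.mk.inj h2).2 (by decide)
  have f1 := form_eq_one hD hq ha hb ha0 hb0 hab
  have f2 := form_eq_one hD hq hb ha hb0 ha0 (fun h => hab h.symm)
  have f3 := form_alt hD hq ((g : Matrix (Fin n) (Fin n) F) *ᵥ bas hD (i, 0))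
  have f4 := form_alt hD hq ((g : Matrix (Fin n) (Fin n) F) *ᵥ bas hD (i, 1))
  rw [form_two_of_mem hD (y := y) hx]
  conv_lhs => rw [ex, ey]
  simp only [Matrix.mulVec_add, Matrix.mulVec_smul, form_add_left, form_add_right hD 1 hs,
    form_smul_left, form_smul_right, f1, f2, f3, f4, pow_one]
  ring

end two

section main
variable {t m : ℕ} {D : Fin t → Submodule F (Fin n → F)}
  (hD : Cfsg.Geo.IsMDecomposition m D) (s : ℕ) (hs0 : s ≠ 0)
  (hs : ∀ a b : F, (a + b) ^ s = a ^ s + b ^ s)

theorem not_stab_of_image (g : Matrix.GeneralLinearGroup (Fin n) F) {x : Fin n → F} {i : Fin t}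
    (hx : x ∈ D i) {a a' : Fin t × Fin m} (haa : a.1 ≠ a'.1)
    (ha : (bas hD).repr ((g : Matrix (Fin n) (Fin n) F) *ᵥ x) a ≠ 0)
    (ha' : (bas hD).repr ((g : Matrix (Fin n) (Fin n) F) *ᵥ x) a' ≠ 0) :
    g ∉ Cfsg.Geo.decompositionStabilizer D := by
  intro hg
  obtain ⟨j, hj⟩ := stab_map g hg i
  exact not_mem_of_repr hD haa ha ha' j (hj x hx)

include hs0 hs in
/-- some element of the special linear group does not preserve the form -/
theorem exists_not_preserving :
    ∃ g : Matrix.GeneralLinearGroup (Fin n) F, g ∈ Cfsg.Geo.specialLinear (Fin n) F ∧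
      ¬ ∀ x y : Fin n → F, form hD s ((g : Matrix (Fin n) (Fin n) F) *ᵥ x)
        ((g : Matrix (Fin n) (Fin n) F) *ᵥ y) = form hD s x y := by
  have ht := hD.two_le
  set i0 : Fin t := ⟨0, by omega⟩ with hi0
  set i1 : Fin t := ⟨1, by omega⟩ with hi1
  set k0 : Fin m := ⟨0, hD.pos⟩ with hk0
  have h01 : i0 ≠ i1 := by
    intro h
    have := congrArg Fin.val h
    simp [hi0, hi1] at this
  have hφ : (bas hD).coord (i0, k0) (bas hD (i1, k0)) = 0 := by
    rw [Module.Basis.coord_apply, Module.Basis.repr_self, Finsupp.single_eq_of_ne]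
    intro h
    exact h01 (Prod.mk.inj h).1
  have hne : 1 + (bas hD).coord (i0, k0) (bas hD (i1, k0)) ≠ 0 := by
    rw [hφ, add_zero]; exact one_ne_zero
  refine ⟨rk1 ((bas hD).coord (i0, k0)) (bas hD (i1, k0)) hne, ?_, ?_⟩
  · rw [mem_SL_iff, det_rk1, hφ, add_zero]
  · intro hcon
    have h1 := hcon (bas hD (i0, k0)) (bas hD (tau (i1, k0)))
    rw [rk1_mulVec, rk1_mulVec, Module.Basis.coord_apply, Module.Basis.coord_apply,
      Module.Basis.repr_self, Module.Basis.repr_self, Finsupp.single_eq_same,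
      Finsupp.single_eq_of_ne (by
        intro h
        exact h01 (congrArg Prod.fst h)), zero_smul, add_zero, one_smul, form_add_left,
      form_bas hD s hs0 (i1, k0), if_pos rfl] at h1
    exact one_ne_zero (add_eq_left.mp h1)

include hs0 hs in
/-- the form gives an intermediate subgroup -/
theorem not_maximal_of_form
    (hstab : ∀ g ∈ Cfsg.Geo.decompositionStabilizer D, ∀ x y : Fin n → F,
      form hD s ((g : Matrix (Fin n) (Fin n) F) *ᵥ x) ((g : Matrix (Fin n) (Fin n) F) *ᵥ y) =
        form hD s x y)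
    (hwit : ∃ g : Matrix.GeneralLinearGroup (Fin n) F, g ∈ Cfsg.Geo.specialLinear (Fin n) F ∧
      (∀ x y : Fin n → F, form hD s ((g : Matrix (Fin n) (Fin n) F) *ᵥ x)
        ((g : Matrix (Fin n) (Fin n) F) *ᵥ y) = form hD s x y) ∧
      g ∉ Cfsg.Geo.decompositionStabilizer D) :
    ∃ K : Subgroup (Matrix.GeneralLinearGroup (Fin n) F),
      Cfsg.Geo.decompositionStabilizer D ⊓ Cfsg.Geo.specialLinear (Fin n) F < K ∧
        K < Cfsg.Geo.specialLinear (Fin n) F := by
  refine ⟨Cfsg.preserving (Units.coeHom (Matrix (Fin n) (Fin n) F)) (form hD s) ⊓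
    Cfsg.Geo.specialLinear (Fin n) F, ?_, ?_⟩
  · refine lt_of_le_of_ne ?_ ?_
    · intro g hg
      obtain ⟨hg1, hg2⟩ := Subgroup.mem_inf.mp hg
      exact Subgroup.mem_inf.mpr ⟨fun x y => hstab g hg1 x y, hg2⟩
    · intro heq
      obtain ⟨g, hg1, hg2, hg3⟩ := hwit
      have : g ∈ Cfsg.preserving (Units.coeHom (Matrix (Fin n) (Fin n) F)) (form hD s) ⊓
          Cfsg.Geo.specialLinear (Fin n) F := Subgroup.mem_inf.mpr ⟨fun x y => hg2 x y, hg1⟩
      rw [← heq] at this
      exact hg3 (Subgroup.mem_inf.mp this).1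
  · refine lt_of_le_of_ne inf_le_right ?_
    intro heq
    obtain ⟨g, hg1, hg2⟩ := exists_not_preserving hD s hs0 hs
    rw [← heq] at hg1
    exact hg2 (fun x y => (Subgroup.mem_inf.mp hg1).1 x y)

end main

section witOne
variable {t : ℕ} {D : Fin t → Submodule F (Fin n → F)}
  (hD : Cfsg.Geo.IsMDecomposition 1 D) (s : ℕ) (hs0 : s ≠ 0)
  (hs : ∀ a b : F, (a + b) ^ s = a ^ s + b ^ s)

include hs0 in
theorem form_d (i j : Fin t) :
    form hD s (bas hD (i, 0)) (bas hD (j, 0)) = if i = j then 1 else 0 := by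
  rw [form_bas hD s hs0]
  unfold tau
  by_cases h : i = j
  · subst h
    rw [if_pos rfl, if_pos]
    simp
  · rw [if_neg h, if_neg]
    intro h'
    exact h (Prod.mk.inj h').1

theorem repr_d (i j : Fin t) :
    (bas hD).repr (bas hD (i, 0)) (j, 0) = if i = j then 1 else 0 := by
  rw [Module.Basis.repr_self, Finsupp.single_apply]
  by_cases h : i = j
  · subst h
    rw [if_pos rfl, if_pos rfl]
  · rw [if_neg h, if_neg]
    intro h'
    exact h (Prod.mk.inj h').1

variable {i0 i1 i2 i3 : Fin t} (h01 : i0 ≠ i1) (h02 : i0 ≠ i2) (h03 : i0 ≠ i3) (h12 : i1 ≠ i2)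
  (h13 : i1 ≠ i3) (h23 : i2 ≠ i3)

include hs0 hs h01 h02 h03 h12 h13 h23 in
theorem form_u4 :
    form hD s (bas hD (i0, 0) + bas hD (i1, 0) + bas hD (i2, 0) + bas hD (i3, 0))
      (bas hD (i0, 0) + bas hD (i1, 0) + bas hD (i2, 0) + bas hD (i3, 0)) = 4 := by
  simp only [form_add_left, form_add_right hD s hs, form_d hD s hs0, if_pos, if_neg h01,
    if_neg h02, if_neg h03, if_neg h12, if_neg h13, if_neg h23, if_neg h01.symm, if_neg h02.symm,
    if_neg h03.symm, if_neg h12.symm, if_neg h13.symm, if_neg h23.symm]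
  norm_num

include hs0 hs h01 h02 h03 in
theorem form_d_u4 :
    form hD s (bas hD (i0, 0))
      (bas hD (i0, 0) + bas hD (i1, 0) + bas hD (i2, 0) + bas hD (i3, 0)) = 1 := by
  simp only [form_add_right hD s hs, form_d hD s hs0, if_pos, if_neg h01,
    if_neg h02, if_neg h03]
  norm_num

include hs0 hs h01 h02 h03 h12 h13 h23 in
/-- the image of the first basis vector lies in no block -/
theorem refl_u4_not_stab (h : 1 + form hD s
      (bas hD (i0, 0) + bas hD (i1, 0) + bas hD (i2, 0) + bas hD (i3, 0))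
      (bas hD (i0, 0) + bas hD (i1, 0) + bas hD (i2, 0) + bas hD (i3, 0)) ≠ 0)
    (g' : Matrix.GeneralLinearGroup (Fin n) F)
    (hg' : (g' : Matrix (Fin n) (Fin n) F) *ᵥ bas hD (i0, 0) = bas hD (i0, 0)) :
    refl hD s (bas hD (i0, 0) + bas hD (i1, 0) + bas hD (i2, 0) + bas hD (i3, 0)) h * g' ∉
      Cfsg.Geo.decompositionStabilizer D := by
  have himg : ((refl hD s (bas hD (i0, 0) + bas hD (i1, 0) + bas hD (i2, 0) + bas hD (i3, 0)) h *
      g' : Matrix.GeneralLinearGroup (Fin n) F) : Matrix (Fin n) (Fin n) F) *ᵥ bas hD (i0, 0) =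
      bas hD (i0, 0) + (bas hD (i0, 0) + bas hD (i1, 0) + bas hD (i2, 0) + bas hD (i3, 0)) := by
    rw [Units.val_mul, ← Matrix.mulVec_mulVec, hg', refl_mulVec,
      form_d_u4 hD s hs0 hs h01 h02 h03, one_smul]
  refine not_stab_of_image hD _ (bas_mem hD (i0, 0)) (a := (i1, 0)) (a' := (i2, 0)) h12 ?_ ?_
  · rw [himg]
    simp only [map_add, Finsupp.add_apply, repr_d, if_neg h01, if_pos, if_neg h12.symm,
      if_neg h13.symm]
    norm_num
  · rw [himg]
    simp only [map_add, Finsupp.add_apply, repr_d, if_neg h02, if_pos, if_neg h12,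
      if_neg h23.symm]
    norm_num

include hs0 hs in
theorem wit_one_char2 (h2 : (2 : F) = 0) (hss : ∀ c : F, (c ^ s) ^ s = c) (ht : 4 ≤ t) :
    ∃ g : Matrix.GeneralLinearGroup (Fin n) F, g ∈ Cfsg.Geo.specialLinear (Fin n) F ∧
      (∀ x y : Fin n → F, form hD s ((g : Matrix (Fin n) (Fin n) F) *ᵥ x)
        ((g : Matrix (Fin n) (Fin n) F) *ᵥ y) = form hD s x y) ∧
      g ∉ Cfsg.Geo.decompositionStabilizer D := by
  have h01 : (⟨0, by omega⟩ : Fin t) ≠ ⟨1, by omega⟩ := by simp [Fin.ext_iff]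
  have h02 : (⟨0, by omega⟩ : Fin t) ≠ ⟨2, by omega⟩ := by simp [Fin.ext_iff]
  have h03 : (⟨0, by omega⟩ : Fin t) ≠ ⟨3, by omega⟩ := by simp [Fin.ext_iff]
  have h12 : (⟨1, by omega⟩ : Fin t) ≠ ⟨2, by omega⟩ := by simp [Fin.ext_iff]
  have h13 : (⟨1, by omega⟩ : Fin t) ≠ ⟨3, by omega⟩ := by simp [Fin.ext_iff]
  have h23 : (⟨2, by omega⟩ : Fin t) ≠ ⟨3, by omega⟩ := by simp [Fin.ext_iff]
  have fu := form_u4 hD s hs0 hs h01 h02 h03 h12 h13 h23
  have h : 1 + form hD s
      (bas hD (⟨0, by omega⟩, 0) + bas hD (⟨1, by omega⟩, 0) + bas hD (⟨2, by omega⟩, 0) +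
        bas hD (⟨3, by omega⟩, 0))
      (bas hD (⟨0, by omega⟩, 0) + bas hD (⟨1, by omega⟩, 0) + bas hD (⟨2, by omega⟩, 0) +
        bas hD (⟨3, by omega⟩, 0)) ≠ 0 := by
    rw [fu]
    intro h
    have : (1 : F) = 0 := by linear_combination h - 2 * h2
    exact one_ne_zero this
  refine ⟨refl hD s _ h, ?_, ?_, ?_⟩
  · rw [mem_SL_iff, det_refl, fu]
    linear_combination 2 * h2
  · refine refl_preserves hD s hs0 hs hss _ h ?_
    rw [fu]
    linear_combination 3 * h2
  · have := refl_u4_not_stab hD s hs0 hs h01 h02 h03 h12 h13 h23 h 1 (by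
      rw [Units.val_one, Matrix.one_mulVec])
    rwa [mul_one] at this

include hs0 hs in
theorem wit_one_char3 (h3 : (3 : F) = 0) (hss : ∀ c : F, (c ^ s) ^ s = c) (ht : 5 ≤ t) :
    ∃ g : Matrix.GeneralLinearGroup (Fin n) F, g ∈ Cfsg.Geo.specialLinear (Fin n) F ∧
      (∀ x y : Fin n → F, form hD s ((g : Matrix (Fin n) (Fin n) F) *ᵥ x)
        ((g : Matrix (Fin n) (Fin n) F) *ᵥ y) = form hD s x y) ∧
      g ∉ Cfsg.Geo.decompositionStabilizer D := by
  have h01 : (⟨0, by omega⟩ : Fin t) ≠ ⟨1, by omega⟩ := by simp [Fin.ext_iff]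
  have h02 : (⟨0, by omega⟩ : Fin t) ≠ ⟨2, by omega⟩ := by simp [Fin.ext_iff]
  have h03 : (⟨0, by omega⟩ : Fin t) ≠ ⟨3, by omega⟩ := by simp [Fin.ext_iff]
  have h04 : (⟨0, by omega⟩ : Fin t) ≠ ⟨4, by omega⟩ := by simp [Fin.ext_iff]
  have h12 : (⟨1, by omega⟩ : Fin t) ≠ ⟨2, by omega⟩ := by simp [Fin.ext_iff]
  have h13 : (⟨1, by omega⟩ : Fin t) ≠ ⟨3, by omega⟩ := by simp [Fin.ext_iff]
  have h23 : (⟨2, by omega⟩ : Fin t) ≠ ⟨3, by omega⟩ := by simp [Fin.ext_iff]
  have fu := form_u4 hD s hs0 hs h01 h02 h03 h12 h13 h23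
  have f4 : form hD s (bas hD ((⟨4, by omega⟩ : Fin t), 0)) (bas hD ((⟨4, by omega⟩ : Fin t), 0)) =
      1 := by
    rw [form_d hD s hs0, if_pos rfl]
  have h : 1 + form hD s
      (bas hD (⟨0, by omega⟩, 0) + bas hD (⟨1, by omega⟩, 0) + bas hD (⟨2, by omega⟩, 0) +
        bas hD (⟨3, by omega⟩, 0))
      (bas hD (⟨0, by omega⟩, 0) + bas hD (⟨1, by omega⟩, 0) + bas hD (⟨2, by omega⟩, 0) +
        bas hD (⟨3, by omega⟩, 0)) ≠ 0 := by
    rw [fu]
    intro h
    have : (1 : F) = 0 := by linear_combination 2 * h3 - h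
    exact one_ne_zero this
  have h' : 1 + form hD s (bas hD ((⟨4, by omega⟩ : Fin t), 0))
      (bas hD ((⟨4, by omega⟩ : Fin t), 0)) ≠ 0 := by
    rw [f4]
    intro h
    have : (1 : F) = 0 := by linear_combination h3 - h
    exact one_ne_zero this
  refine ⟨refl hD s _ h * refl hD s _ h', ?_, ?_, ?_⟩
  · rw [mem_SL_iff, Units.val_mul, Matrix.det_mul, det_refl, det_refl, fu, f4]
    linear_combination 3 * h3
  · intro x y
    rw [Units.val_mul, ← Matrix.mulVec_mulVec, ← Matrix.mulVec_mulVec,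
      refl_preserves hD s hs0 hs hss _ h (by rw [fu]; linear_combination 2 * h3),
      refl_preserves hD s hs0 hs hss _ h' (by rw [f4]; linear_combination h3)]
  · refine refl_u4_not_stab hD s hs0 hs h01 h02 h03 h12 h13 h23 h _ ?_
    rw [refl_mulVec, form_d hD s hs0, if_neg h04, zero_smul, add_zero]

end witOne

section witTwo
variable [Fintype F] {t : ℕ} {D : Fin t → Submodule F (Fin n → F)}
  (hD : Cfsg.Geo.IsMDecomposition 2 D) (hq : Fintype.card F = 2)

include hq in
theorem wit_two :
    ∃ g : Matrix.GeneralLinearGroup (Fin n) F, g ∈ Cfsg.Geo.specialLinear (Fin n) F ∧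
      (∀ x y : Fin n → F, form hD 1 ((g : Matrix (Fin n) (Fin n) F) *ᵥ x)
        ((g : Matrix (Fin n) (Fin n) F) *ᵥ y) = form hD 1 x y) ∧
      g ∉ Cfsg.Geo.decompositionStabilizer D := by
  have ht := hD.two_le
  have h2 := two_eq_zero hq
  have hs : ∀ a b : F, (a + b) ^ 1 = a ^ 1 + b ^ 1 := fun a b => by ring
  have hss : ∀ c : F, (c ^ 1) ^ 1 = c := fun c => by ring
  have h01 : (⟨0, by omega⟩ : Fin t) ≠ ⟨1, by omega⟩ := by simp [Fin.ext_iff]
  have fu := form_alt hD hq (bas hD ((⟨0, by omega⟩ : Fin t), 0) +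
    bas hD ((⟨1, by omega⟩ : Fin t), 0))
  have h : 1 + form hD 1 (bas hD ((⟨0, by omega⟩ : Fin t), 0) +
      bas hD ((⟨1, by omega⟩ : Fin t), 0)) (bas hD ((⟨0, by omega⟩ : Fin t), 0) +
      bas hD ((⟨1, by omega⟩ : Fin t), 0)) ≠ 0 := by
    rw [fu, add_zero]; exact one_ne_zero
  refine ⟨refl hD 1 _ h, ?_, ?_, ?_⟩
  · rw [mem_SL_iff, det_refl, fu, add_zero]
  · refine refl_preserves hD 1 one_ne_zero hs hss _ h ?_
    rw [fu, add_zero]; exact h2
  · have himg : (refl hD 1 _ h : Matrix (Fin n) (Fin n) F) *ᵥ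
        bas hD ((⟨0, by omega⟩ : Fin t), 1) = bas hD ((⟨0, by omega⟩ : Fin t), 1) +
          (bas hD ((⟨0, by omega⟩ : Fin t), 0) + bas hD ((⟨1, by omega⟩ : Fin t), 0)) := by
      rw [refl_mulVec, form_add_right hD 1 hs, form_bas hD 1 one_ne_zero,
        form_bas hD 1 one_ne_zero, if_pos (by unfold tau; rfl), if_neg (by
          unfold tau
          intro h'
          exact h01 (Prod.mk.inj h').1), add_zero, one_smul]
    refine not_stab_of_image hD _ (bas_mem hD ((⟨0, by omega⟩ : Fin t), 1))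
      (a := ((⟨0, by omega⟩ : Fin t), 1)) (a' := ((⟨1, by omega⟩ : Fin t), 0)) h01 ?_ ?_
    · rw [himg]
      simp only [map_add, Finsupp.add_apply, Module.Basis.repr_self, Finsupp.single_eq_same]
      rw [Finsupp.single_eq_of_ne (by
          intro h'
          exact absurd (Prod.mk.inj h').2 (by decide)),
        Finsupp.single_eq_of_ne (by
          intro h'
          first | exact h01 (Prod.mk.inj h').1.symm | exact h01 (Prod.mk.inj h').1)]
      norm_num
    · rw [himg]
      simp only [map_add, Finsupp.add_apply, Module.Basis.repr_self, Finsupp.single_eq_same]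
      rw [Finsupp.single_eq_of_ne (by
          intro h'
          first | exact h01 (Prod.mk.inj h').1.symm | exact h01 (Prod.mk.inj h').1),
        Finsupp.single_eq_of_ne (by
          intro h'
          first | exact h01 (Prod.mk.inj h').1.symm | exact h01 (Prod.mk.inj h').1)]
      norm_num

end witTwo

section final
variable [Fintype F]

/-- the stabiliser of a decomposition into lines over a field with at most four elements, or
into planes over the field with two elements, is not maximal in the special linear group -/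
theorem not_maximal (hn : 13 ≤ n) {t : ℕ} (m : ℕ) (D : Fin t → Submodule F (Fin n → F))
    (hD : Cfsg.Geo.IsMDecomposition m D)
    (h : (m = 1 ∧ Fintype.card F ≤ 4) ∨ (m = 2 ∧ Fintype.card F = 2)) :
    ∃ K : Subgroup (Matrix.GeneralLinearGroup (Fin n) F),
      Cfsg.Geo.decompositionStabilizer D ⊓ Cfsg.Geo.specialLinear (Fin n) F < K ∧
        K < Cfsg.Geo.specialLinear (Fin n) F := by
  have hcard := card_eq hD
  have hs1 : ∀ a b : F, (a + b) ^ 1 = a ^ 1 + b ^ 1 := fun a b => by ring
  have hss1 : ∀ c : F, (c ^ 1) ^ 1 = c := fun c => by ring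
  rcases h with ⟨rfl, hq⟩ | ⟨rfl, hq⟩
  · have ht : 13 ≤ t := by omega
    have h1 : 1 < Fintype.card F := Fintype.one_lt_card
    have hq' : Fintype.card F = 2 ∨ Fintype.card F = 3 ∨ Fintype.card F = 4 := by omega
    have hc0 : (Fintype.card F : F) = 0 := Nat.cast_card_eq_zero F
    rcases hq' with hq' | hq' | hq'
    · -- two elements
      have h2 : (2 : F) = 0 := by rw [hq'] at hc0; exact_mod_cast hc0
      have hnorm : ∀ c : F, c ≠ 0 → c * c ^ 1 = 1 := by
        intro c hc
        have := FiniteField.pow_card_sub_one_eq_one c hc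
        rw [hq'] at this
        have h1 : c = 1 := by simpa using this
        rw [h1]; ring
      exact not_maximal_of_form hD 1 one_ne_zero hs1
        (fun g hg => stab_preserves hD 1 one_ne_zero hs1 g hg
          (block_one hD 1 one_ne_zero hs1 hnorm g hg))
        (wit_one_char2 hD 1 one_ne_zero hs1 h2 hss1 (by omega))
    · -- three elements
      have h3 : (3 : F) = 0 := by rw [hq'] at hc0; exact_mod_cast hc0
      have hnorm : ∀ c : F, c ≠ 0 → c * c ^ 1 = 1 := by
        intro c hc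
        have := FiniteField.pow_card_sub_one_eq_one c hc
        rw [hq'] at this
        linear_combination this
      exact not_maximal_of_form hD 1 one_ne_zero hs1
        (fun g hg => stab_preserves hD 1 one_ne_zero hs1 g hg
          (block_one hD 1 one_ne_zero hs1 hnorm g hg))
        (wit_one_char3 hD 1 one_ne_zero hs1 h3 hss1 (by omega))
    · -- four elements
      have h4 : (4 : F) = 0 := by rw [hq'] at hc0; exact_mod_cast hc0
      have h2 : (2 : F) = 0 := by
        have : (2 : F) * 2 = 0 := by linear_combination h4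
        exact mul_self_eq_zero.mp this
      have hs2 : ∀ a b : F, (a + b) ^ 2 = a ^ 2 + b ^ 2 := by
        intro a b
        linear_combination a * b * h2
      have hss2 : ∀ c : F, (c ^ 2) ^ 2 = c := by
        intro c
        have := FiniteField.pow_card c
        rw [hq'] at this
        rw [← pow_mul]
        exact this
      have hnorm : ∀ c : F, c ≠ 0 → c * c ^ 2 = 1 := by
        intro c hc
        have := FiniteField.pow_card_sub_one_eq_one c hc
        rw [hq'] at this
        linear_combination this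
      exact not_maximal_of_form hD 2 two_ne_zero hs2
        (fun g hg => stab_preserves hD 2 two_ne_zero hs2 g hg
          (block_one hD 2 two_ne_zero hs2 hnorm g hg))
        (wit_one_char2 hD 2 two_ne_zero hs2 h2 hss2 (by omega))
  · exact not_maximal_of_form hD 1 one_ne_zero hs1
      (fun g hg => stab_preserves hD 1 one_ne_zero hs1 g hg (block_two hD hq g hg))
      (wit_two hD hq)

end final

end Cfsg.Agent.Lib.Helper5.LinDecompForm
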