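import Mathlib
import Cfsg.Prelude
import Cfsg.Agent.Lib.Helper5.TvGL

set_option autoImplicit false
set_option linter.unusedSectionVars false
set_option linter.unusedVariables false
open Cfsg

/-! Subgroups of `GL_n` normalised by `SL_n` are central or contain `SL_n`. -/

namespace Cfsg.Agent.Lib.Helper5.SLNormalized

open Matrix Cfsg.Agent.Lib.Helper5.TvGL
open scoped commutatorElement

section generic
variable {G : Type*} [Group G]

/-- in a perfect group with simple central quotient every normal subgroup is central or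
everything -/
theorem normal_le_center_or_eq_top (hs : IsSimpleGroup (G ⧸ Subgroup.center G))
    (hperf : commutator G = ⊤) (N : Subgroup G) [hN : N.Normal] :
    N ≤ Subgroup.center G ∨ N = ⊤ := by
  have hmap : (N.map (QuotientGroup.mk' (Subgroup.center G))).Normal :=
    hN.map _ (QuotientGroup.mk'_surjective _)
  rcases hmap.eq_bot_or_eq_top with h | h
  · left
    intro x hx
    have h1 : QuotientGroup.mk' (Subgroup.center G) x ∈
        N.map (QuotientGroup.mk' (Subgroup.center G)) := Subgroup.mem_map_of_mem _ hx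
    rw [h, Subgroup.mem_bot, QuotientGroup.mk'_apply, QuotientGroup.eq_one_iff] at h1
    exact h1
  · right
    rw [eq_top_iff, ← hperf, commutator_def, Subgroup.commutator_le]
    intro a _ b _
    have key : ∀ x : G, ∃ z ∈ Subgroup.center G,
        (QuotientGroup.mk' N x : G ⧸ N) = QuotientGroup.mk' N z := by
      intro x
      have h1 : QuotientGroup.mk' (Subgroup.center G) x ∈
          N.map (QuotientGroup.mk' (Subgroup.center G)) := by
        rw [h]
        trivial
      obtain ⟨y, hy, hyx⟩ := Subgroup.mem_map.mp h1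
      rw [QuotientGroup.mk'_apply, QuotientGroup.mk'_apply] at hyx
      refine ⟨y⁻¹ * x, QuotientGroup.eq.mp hyx, ?_⟩
      rw [map_mul, map_inv]
      have hy1 : (QuotientGroup.mk' N y : G ⧸ N) = 1 := by
        rw [QuotientGroup.mk'_apply, QuotientGroup.eq_one_iff]
        exact hy
      rw [hy1, inv_one, one_mul]
    obtain ⟨z₁, hz₁, ha⟩ := key a
    obtain ⟨z₂, hz₂, hb⟩ := key b
    have hcomm : ⁅z₁, z₂⁆ = 1 := by
      rw [commutatorElement_eq_one_iff_commute]
      exact (Subgroup.mem_center_iff.mp hz₂ z₁)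
    have h2 : (QuotientGroup.mk' N ⁅a, b⁆ : G ⧸ N) = 1 := by
      rw [map_commutatorElement, ha, hb, ← map_commutatorElement, hcomm, map_one]
    rw [QuotientGroup.mk'_apply, QuotientGroup.eq_one_iff] at h2
    exact h2

end generic

section main
variable {F : Type*} [Field F] {n : ℕ}

/-- a matrix mapping every vector into its span is scalar -/
theorem scalar_of_forall_mem_span (hn : 1 ≤ n) (A : Matrix (Fin n) (Fin n) F)
    (h : ∀ v : Fin n → F, A *ᵥ v ∈ Submodule.span F ({v} : Set (Fin n → F))) :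
    ∃ c : F, A = c • (1 : Matrix (Fin n) (Fin n) F) := by
  have hcoef : ∀ v : Fin n → F, ∃ c : F, A *ᵥ v = c • v := by
    intro v
    obtain ⟨c, hc⟩ := Submodule.mem_span_singleton.mp (h v)
    exact ⟨c, hc.symm⟩
  have hoff : ∀ i j : Fin n, i ≠ j → A i j = 0 := by
    intro i j hij
    obtain ⟨c, hc⟩ := hcoef (Pi.single j 1)
    have := congrFun hc i
    rw [Matrix.mulVec_single_one] at this
    simpa [Pi.single_apply, hij] using this
  have hdiag : ∀ i j : Fin n, A i i = A j j := by
    intro i j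
    by_cases hij : i = j
    · rw [hij]
    obtain ⟨c, hc⟩ := hcoef (Pi.single i 1 + Pi.single j 1)
    have h1 := congrFun hc i
    have h2 := congrFun hc j
    rw [Matrix.mulVec_add, Matrix.mulVec_single_one, Matrix.mulVec_single_one] at h1 h2
    simp only [Pi.add_apply, Pi.smul_apply, Pi.single_apply, smul_eq_mul] at h1 h2
    have hji : j ≠ i := fun h => hij h.symm
    simp only [col_apply, hoff i j hij, hoff j i hji, hij, hji, if_true, if_false, add_zero,
      zero_add, mul_one] at h1 h2
    rw [h1, h2]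
  refine ⟨A ⟨0, hn⟩ ⟨0, hn⟩, ?_⟩
  ext i j
  by_cases hij : i = j
  · subst hij
    simp [hdiag i ⟨0, hn⟩]
  · simp [hoff i j hij, hij]

/-- a subgroup of `GL_n` normalised by `SL_n` is scalar or contains `SL_n`, given the simplicity
of `PSL_n` and the perfectness of `SL_n` -/
theorem main (hn : 2 ≤ n)
    (hs : IsSimpleGroup (Matrix.SpecialLinearGroup (Fin n) F ⧸
      Subgroup.center (Matrix.SpecialLinearGroup (Fin n) F)))
    (hperf : commutator (Matrix.SpecialLinearGroup (Fin n) F) = ⊤)
    (G : Subgroup (Matrix.GeneralLinearGroup (Fin n) F))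
    (hG : ∀ s : Matrix.SpecialLinearGroup (Fin n) F, ∀ g ∈ G,
      (Matrix.SpecialLinearGroup.toGL s) * g * (Matrix.SpecialLinearGroup.toGL s)⁻¹ ∈ G) :
    (∀ g ∈ G, ∃ c : F, (g : Matrix (Fin n) (Fin n) F) = c • (1 : Matrix (Fin n) (Fin n) F)) ∨
      (Matrix.SpecialLinearGroup.toGL :
        Matrix.SpecialLinearGroup (Fin n) F →* _).range ≤ G := by
  have hN : (G.comap (Matrix.SpecialLinearGroup.toGL :
      Matrix.SpecialLinearGroup (Fin n) F →* _)).Normal := by
    refine ⟨fun x hx s => ?_⟩
    show Matrix.SpecialLinearGroup.toGL (s * x * s⁻¹) ∈ G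
    rw [map_mul, map_mul, map_inv]
    exact hG s _ hx
  rcases normal_le_center_or_eq_top hs hperf (G.comap (Matrix.SpecialLinearGroup.toGL :
      Matrix.SpecialLinearGroup (Fin n) F →* _)) with h | h
  · left
    intro g hg
    by_contra hns
    obtain ⟨v, hv⟩ : ∃ v : Fin n → F, (g : Matrix (Fin n) (Fin n) F) *ᵥ v ∉
        Submodule.span F ({v} : Set (Fin n → F)) := by
      by_contra hcon
      push Not at hcon
      exact hns (scalar_of_forall_mem_span (by omega) _ hcon)
    obtain ⟨φ, hφ1, hφ2⟩ := exists_dual (Submodule.span F ({v} : Set (Fin n → F)))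
      ((g : Matrix (Fin n) (Fin n) F) *ᵥ v) hv
    have hφv : φ ⬝ᵥ v = 0 := hφ1 v (Submodule.mem_span_singleton_self v)
    obtain ⟨τ, hτ⟩ : ∃ τ : Matrix.SpecialLinearGroup (Fin n) F,
        (τ : Matrix (Fin n) (Fin n) F) = tvMat φ v := ⟨⟨tvMat φ v, det_tvMat φ v hφv⟩, rfl⟩
    have hτG : Matrix.SpecialLinearGroup.toGL τ * g * (Matrix.SpecialLinearGroup.toGL τ)⁻¹ *
        g⁻¹ ∈ G := G.mul_mem (hG τ g hg) (G.inv_mem hg)
    have hdet : ((Matrix.SpecialLinearGroup.toGL τ * g * (Matrix.SpecialLinearGroup.toGL τ)⁻¹ *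
        g⁻¹ : Matrix.GeneralLinearGroup (Fin n) F) : Matrix (Fin n) (Fin n) F).det = 1 := by
      have h1 : Matrix.GeneralLinearGroup.det (Matrix.SpecialLinearGroup.toGL τ * g *
          (Matrix.SpecialLinearGroup.toGL τ)⁻¹ * g⁻¹) = 1 := by
        rw [map_mul, map_mul, map_mul, map_inv, map_inv,
          mul_comm (Matrix.GeneralLinearGroup.det (Matrix.SpecialLinearGroup.toGL τ)),
          mul_inv_cancel_right, mul_inv_cancel]
      have h2 := congrArg Units.val h1
      rwa [Matrix.GeneralLinearGroup.val_det_apply] at h2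
    obtain ⟨c, hc⟩ : ∃ c : Matrix.SpecialLinearGroup (Fin n) F,
        Matrix.SpecialLinearGroup.toGL c =
          Matrix.SpecialLinearGroup.toGL τ * g * (Matrix.SpecialLinearGroup.toGL τ)⁻¹ * g⁻¹ :=
      ⟨⟨_, hdet⟩, Units.ext rfl⟩
    have hcN : c ∈ G.comap (Matrix.SpecialLinearGroup.toGL :
        Matrix.SpecialLinearGroup (Fin n) F →* _) := by
      show Matrix.SpecialLinearGroup.toGL c ∈ G
      rw [hc]
      exact hτG
    obtain ⟨r, -, hr⟩ := Matrix.SpecialLinearGroup.mem_center_iff.mp (h hcN)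
    have hid : Matrix.SpecialLinearGroup.toGL c * g * Matrix.SpecialLinearGroup.toGL τ =
        Matrix.SpecialLinearGroup.toGL τ * g := by
      rw [hc]
      group
    have hmat : (c : Matrix (Fin n) (Fin n) F) * (g : Matrix (Fin n) (Fin n) F) * tvMat φ v =
        tvMat φ v * (g : Matrix (Fin n) (Fin n) F) := by
      have := congrArg (fun x : Matrix.GeneralLinearGroup (Fin n) F =>
        (x : Matrix (Fin n) (Fin n) F)) hid
      simp only [Units.val_mul, Matrix.SpecialLinearGroup.coe_GL_coe_matrix] at this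
      rw [hτ] at this
      exact this
    have h1 := congrArg (fun M : Matrix (Fin n) (Fin n) F => M *ᵥ v) hmat
    simp only [← Matrix.mulVec_mulVec] at h1
    rw [tvMat_mulVec, tvMat_mulVec, hφv, zero_smul, add_zero, hφ2, one_smul, ← hr] at h1
    have h2 : (Matrix.scalar (Fin n)) r *ᵥ ((g : Matrix (Fin n) (Fin n) F) *ᵥ v) =
        r • ((g : Matrix (Fin n) (Fin n) F) *ᵥ v) := by
      rw [Matrix.scalar_apply, ← Matrix.smul_one_eq_diagonal, Matrix.smul_mulVec, Matrix.one_mulVec]
    rw [h2] at h1
    have h3 : (r - 1) • ((g : Matrix (Fin n) (Fin n) F) *ᵥ v) = v := by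
      rw [sub_smul, one_smul, h1]
      abel
    by_cases hr1 : r = 1
    · rw [hr1, sub_self, zero_smul] at h3
      apply hv
      rw [← h3, Matrix.mulVec_zero]
      exact Submodule.zero_mem _
    · apply hv
      rw [Submodule.mem_span_singleton]
      refine ⟨(r - 1)⁻¹, ?_⟩
      rw [← h3, smul_smul, inv_mul_cancel₀ (sub_ne_zero.mpr hr1), one_smul, h3]
  · right
    rintro _ ⟨s, rfl⟩
    have : s ∈ G.comap (Matrix.SpecialLinearGroup.toGL :
        Matrix.SpecialLinearGroup (Fin n) F →* _) := by
      rw [h]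
      trivial
    exact this

end main

end Cfsg.Agent.Lib.Helper5.SLNormalized
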