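import Mathlib
import Cfsg.Prelude
import Cfsg.Agent.Lib.Helper5.SUNondegMax
import Cfsg.Agent.Lib.Helper5.OrthPlusPlane

set_option autoImplicit false
set_option linter.unusedSectionVars false
set_option linter.unusedVariables false
open Cfsg

/-! Over the field with four elements the stabiliser of an orthogonal decomposition into
non-degenerate Hermitian planes refines to an orthonormal frame, hence is not maximal in the
special unitary group. -/

namespace Cfsg.Agent.Lib.Helper5.SUTwoWreath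

open Matrix Cfsg.Agent.Lib.Helper5.Herm Cfsg.Agent.Lib.Helper5.HermBridge
  Cfsg.Agent.Lib.Helper5.HermTv Cfsg.Agent.Lib.Helper5.HermGen Cfsg.Agent.Lib.Helper5.HermEich
  Cfsg.Agent.Lib.Helper5.SUCentres Cfsg.Agent.Lib.Helper5.SpSingularMax
  Cfsg.Agent.Lib.Helper5.SUSingularMax Cfsg.Agent.Lib.Helper5.HermPair

variable {F : Type*} [Field F] [Fintype F] (hF : Fintype.card F = 2 ^ 2) {n : ℕ} {t : ℕ}
  {D : Fin t → Submodule F (Fin n → F)}

include hF in
theorem two_eq_zero : (2 : F) = 0 := by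
  obtain ⟨p, j, hp, hchar, hpj⟩ := exists_char_pow hF
  have hp2 : p = 2 := by
    have hdvd : p ∣ 2 := by
      cases j with
      | zero => rw [pow_zero] at hpj; omega
      | succ j => rw [hpj, pow_succ]; exact dvd_mul_left p _
    exact (Nat.prime_dvd_prime_iff_eq hp Nat.prime_two).mp hdvd
  subst hp2
  have := CharP.cast_eq_zero F 2
  exact_mod_cast this

include hF in
theorem cube_eq_one {a : F} (ha : a ≠ 0) : a ^ 3 = 1 := by
  have h1 := FiniteField.pow_card_sub_one_eq_one a ha
  rw [hF] at h1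
  exact h1

include hF in
theorem self_eq_zero_or_one (v : Fin n → F) :
    hermForm n F 2 v v = 0 ∨ hermForm n F 2 v v = 1 := by
  have h1 := herm_self_fixed hF n v
  have h2 : hermForm n F 2 v v * (hermForm n F 2 v v - 1) = 0 := by linear_combination h1
  rcases mul_eq_zero.mp h2 with h3 | h3
  · exact Or.inl h3
  · exact Or.inr (by linear_combination h3)

section blocks
variable (hD : Cfsg.Geo.IsNondegenerateMDecomposition (hermForm n F 2) 2 D)

include hD in
theorem orth' {i j : Fin t} (hij : i ≠ j) {u v : Fin n → F} (hu : u ∈ D i) (hv : v ∈ D j) :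
    hermForm n F 2 u v = 0 := hD.orthogonal i j hij u hu v hv

include hD in
theorem nd (i : Fin t) : ∀ a ∈ D i, a ≠ 0 → ∃ x ∈ D i, hermForm n F 2 a x ≠ 0 :=
  fun a ha ha0 => (hD.nondegenerate i a ha ha0).2

include hD in
theorem inter_eq_zero {i j : Fin t} (hij : i ≠ j) {x : Fin n → F} (hi : x ∈ D i)
    (hj : x ∈ D j) : x = 0 := by
  by_contra hx
  obtain ⟨y, hy, hxy⟩ := nd hD i x hi hx
  exact hxy (orth' hD hij.symm hj hy)

include hF hD in
/-- an orthonormal basis of a block -/
theorem exists_frame (i : Fin t) : ∃ w ∈ D i, ∃ w' ∈ D i, hermForm n F 2 w w = 1 ∧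
    hermForm n F 2 w' w' = 1 ∧ hermForm n F 2 w w' = 0 ∧ hermForm n F 2 w' w = 0 ∧
    Submodule.span F ({w, w'} : Set (Fin n → F)) = D i := by
  have hne : D i ≠ ⊥ := by
    intro h0
    have := hD.decomp.finrank_eq i
    rw [h0, finrank_bot] at this
    omega
  obtain ⟨e, he, he0⟩ := (Submodule.ne_bot_iff _).1 hne
  -- a non-isotropic vector
  have hex : ∃ w ∈ D i, hermForm n F 2 w w ≠ 0 := by
    by_contra hcon
    push Not at hcon
    obtain ⟨y, hy, hey⟩ := nd hD i e he he0
    exact hey (polar0 hF (D i) hcon e y he hy)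
  obtain ⟨w, hw, hww⟩ := hex
  have hww1 : hermForm n F 2 w w = 1 := (self_eq_zero_or_one hF w).resolve_left hww
  have hw0 : w ≠ 0 := by
    rintro rfl
    rw [hermForm_zero_left] at hww
    exact hww rfl
  -- a vector of the block outside the line of `w`
  have hnle : ¬ D i ≤ Submodule.span F ({w} : Set (Fin n → F)) := by
    intro hle
    have h1 := Submodule.finrank_mono hle
    have h3 : Module.finrank F (Submodule.span F ({w} : Set (Fin n → F))) ≤ 1 := by
      have := finrank_span_le_card (R := F) ({w} : Set (Fin n → F))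
      simpa using this
    rw [hD.decomp.finrank_eq] at h1
    omega
  obtain ⟨z, hz, hzn⟩ := SetLike.not_le_iff_exists.mp hnle
  obtain ⟨w', hw'def⟩ : ∃ w', w' = z - hermForm n F 2 z w • w := ⟨_, rfl⟩
  have hw'D : w' ∈ D i := by rw [hw'def]; exact (D i).sub_mem hz ((D i).smul_mem _ hw)
  have hw'w : hermForm n F 2 w' w = 0 := by
    rw [hw'def, sub_eq_add_neg, hermForm_add_left, hermForm_neg_left, hermForm_smul_left, hww1]
    ring
  have hww' : hermForm n F 2 w w' = 0 := herm_symm_zero hF n hw'w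
  have hw'0 : w' ≠ 0 := by
    intro h0
    apply hzn
    rw [Submodule.mem_span_singleton]
    refine ⟨hermForm n F 2 z w, ?_⟩
    rw [hw'def, sub_eq_zero] at h0
    exact h0.symm
  have hli : LinearIndependent F ![w, w'] := by
    rw [LinearIndependent.pair_iff]
    intro a b hab
    have e1 := congrArg (fun v => hermForm n F 2 v w) hab
    simp only [hermForm_add_left, hermForm_smul_left, hww1, hw'w, hermForm_zero_left, mul_one,
      mul_zero, add_zero] at e1
    rw [e1, zero_smul, zero_add] at hab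
    rcases smul_eq_zero.mp hab with h3 | h3
    · exact ⟨e1, h3⟩
    · exact absurd h3 hw'0
  have hspan : Submodule.span F ({w, w'} : Set (Fin n → F)) = D i := by
    apply Submodule.eq_of_le_of_finrank_eq
    · rw [Submodule.span_le]
      intro x hx
      rcases hx with rfl | hx
      · exact hw
      · rw [Set.mem_singleton_iff] at hx
        rw [hx]; exact hw'D
    · rw [OrthPlusPlane.finrank_span_pair_eq w w' hli, hD.decomp.finrank_eq]
  have hw'w'0 : hermForm n F 2 w' w' ≠ 0 := by
    intro h0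
    obtain ⟨y, hy, hne'⟩ := nd hD i w' hw'D hw'0
    rw [← hspan] at hy
    obtain ⟨a, b, rfl⟩ := Submodule.mem_span_pair.mp hy
    apply hne'
    rw [hermForm_add_right hF, hermForm_smul_right, hermForm_smul_right, hw'w, h0]
    ring
  exact ⟨w, hw, w', hw'D, hww1, (self_eq_zero_or_one hF w').resolve_left hw'w'0, hww', hw'w,
    hspan⟩

end blocks

/-- the non-isotropic vectors lying in a block -/
def S (D : Fin t → Submodule F (Fin n → F)) : Set (Fin n → F) :=
  {v | ∃ i, v ∈ D i ∧ hermForm n F 2 v v ≠ 0}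

/-- the intermediate subgroup: special unitary matrices permuting the non-isotropic block
vectors -/
def midGroup (D : Fin t → Submodule F (Fin n → F)) :
    Subgroup (Matrix.GeneralLinearGroup (Fin n) F) where
  carrier := {g | g ∈ Cfsg.GU n F 2 ⊓ Cfsg.Geo.specialLinear (Fin n) F ∧
    ∀ v, (g : Matrix (Fin n) (Fin n) F) *ᵥ v ∈ S D ↔ v ∈ S D}
  mul_mem' {a b} ha hb := by
    refine ⟨Subgroup.mul_mem _ ha.1 hb.1, fun v => ?_⟩
    rw [Units.val_mul, ← Matrix.mulVec_mulVec, ha.2, hb.2]
  one_mem' := ⟨Subgroup.one_mem _, fun v => by simp⟩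
  inv_mem' {a} ha := by
    refine ⟨Subgroup.inv_mem _ ha.1, fun v => ?_⟩
    have h1 := ha.2 (((a⁻¹ : Matrix.GeneralLinearGroup (Fin n) F) : Matrix _ _ F) *ᵥ v)
    rw [Matrix.mulVec_mulVec, ← Units.val_mul, mul_inv_cancel, Units.val_one, Matrix.one_mulVec]
      at h1
    exact h1.symm

theorem stab_le_mid :
    Cfsg.Geo.decompositionStabilizer D ⊓ (Cfsg.GU n F 2 ⊓ Cfsg.Geo.specialLinear (Fin n) F) ≤
      midGroup D := by
  rintro g ⟨⟨σ, hσ⟩, hsu⟩
  refine ⟨hsu, fun v => ?_⟩
  have hpres : ∀ x y, hermForm n F 2 ((g : Matrix (Fin n) (Fin n) F) *ᵥ x)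
      ((g : Matrix (Fin n) (Fin n) F) *ᵥ y) = hermForm n F 2 x y :=
    fun x y => herm_gact n ⟨g, hsu.1⟩ x y
  constructor
  · rintro ⟨j, hj, hne⟩
    rw [hpres] at hne
    obtain ⟨i, rfl⟩ := σ.surjective j
    rw [← hσ i] at hj
    obtain ⟨v', hv', heq⟩ := hj
    rw [Matrix.toLin'_apply] at heq
    have : v' = v := by
      have h1 := congrArg (fun y => ((g⁻¹ : Matrix.GeneralLinearGroup (Fin n) F) :
        Matrix (Fin n) (Fin n) F) *ᵥ y) heq
      simp only [Matrix.mulVec_mulVec] at h1
      rw [← Units.val_mul, inv_mul_cancel, Units.val_one, Matrix.one_mulVec,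
        Matrix.one_mulVec] at h1
      exact h1
    exact ⟨i, this ▸ hv', hne⟩
  · rintro ⟨i, hi, hne⟩
    refine ⟨σ i, ?_, ?_⟩
    · rw [← hσ i]
      exact ⟨v, hi, by rw [Matrix.toLin'_apply]⟩
    · rw [hpres]; exact hne

section tv

include hF in
theorem qcond_one {u : Fin n → F} (hu : hermForm n F 2 u u = 0) : QCond n 2 u (1 : F) := by
  unfold QCond
  rw [hu]
  have := two_eq_zero hF
  linear_combination this

/-- the transvection with isotropic centre `u` and parameter one -/
noncomputable def T (u : Fin n → F) (hu : hermForm n F 2 u u = 0) :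
    Matrix.GeneralLinearGroup (Fin n) F :=
  ((qtv hF n u 1 (qcond_one hF hu) : ↥(Cfsg.GU n F 2)) : Matrix.GeneralLinearGroup (Fin n) F)

theorem T_mem (u : Fin n → F) (hu : hermForm n F 2 u u = 0) :
    T hF u hu ∈ Cfsg.GU n F 2 ⊓ Cfsg.Geo.specialLinear (Fin n) F := by
  rw [SUCentres.mem_SU_iff]
  refine ⟨(qtv hF n u 1 (qcond_one hF hu)).2, ?_⟩
  show (unitaryTransvection n 2 u 1).det = 1
  rw [det_tv, hu, mul_zero, add_zero]

theorem T_mulVec (u : Fin n → F) (hu : hermForm n F 2 u u = 0) (x : Fin n → F) :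
    (T hF u hu : Matrix (Fin n) (Fin n) F) *ᵥ x = x + hermForm n F 2 x u • u := by
  have := gact_qtv hF n u 1 (qcond_one hF hu) x
  rw [one_mul] at this
  exact this

theorem T_T (u : Fin n → F) (hu : hermForm n F 2 u u = 0) (x : Fin n → F) :
    (T hF u hu : Matrix (Fin n) (Fin n) F) *ᵥ ((T hF u hu : Matrix (Fin n) (Fin n) F) *ᵥ x) =
      x := by
  rw [T_mulVec, T_mulVec, hermForm_add_left, hermForm_smul_left, hu, mul_zero, add_zero,
    add_assoc, ← add_smul]
  have h2 := two_eq_zero hF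
  have : hermForm n F 2 x u + hermForm n F 2 x u = 0 := by linear_combination hermForm n F 2 x u * h2
  rw [this, zero_smul, add_zero]

/-- an involutory transvection mapping the set `S` into itself lies in the middle group -/
theorem T_mem_mid (u : Fin n → F) (hu : hermForm n F 2 u u = 0)
    (h : ∀ v ∈ S D, (T hF u hu : Matrix (Fin n) (Fin n) F) *ᵥ v ∈ S D) :
    T hF u hu ∈ midGroup D := by
  refine ⟨T_mem hF u hu, fun v => ⟨fun hv => ?_, h v⟩⟩
  have := h _ hv
  rwa [T_T] at this

end tv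

section main
variable (hD : Cfsg.Geo.IsNondegenerateMDecomposition (hermForm n F 2) 2 D)

include hF in
/-- the non-isotropic vectors of a block are the multiples of the two frame vectors -/
theorem aniso_block {i : Fin t} {w w' v : Fin n → F} (hww : hermForm n F 2 w w = 1)
    (hw'w' : hermForm n F 2 w' w' = 1) (hww' : hermForm n F 2 w w' = 0)
    (hw'w : hermForm n F 2 w' w = 0)
    (hspan : Submodule.span F ({w, w'} : Set (Fin n → F)) = D i) (hv : v ∈ D i)
    (hvv : hermForm n F 2 v v ≠ 0) :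
    (∃ a : F, a ≠ 0 ∧ v = a • w) ∨ (∃ b : F, b ≠ 0 ∧ v = b • w') := by
  have h2 := two_eq_zero hF
  rw [← hspan] at hv
  obtain ⟨a, b, rfl⟩ := Submodule.mem_span_pair.mp hv
  have hval : hermForm n F 2 (a • w + b • w') (a • w + b • w') = a ^ 3 + b ^ 3 := by
    simp only [hermForm_add_left, hermForm_add_right hF, hermForm_smul_left,
      hermForm_smul_right, hww, hw'w', hww', hw'w]
    ring
  rw [hval] at hvv
  by_cases ha : a = 0
  · by_cases hb : b = 0
    · exfalso
      apply hvv
      rw [ha, hb]; ring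
    · right
      exact ⟨b, hb, by rw [ha, zero_smul, zero_add]⟩
  · by_cases hb : b = 0
    · left
      exact ⟨a, ha, by rw [hb, zero_smul, add_zero]⟩
    · exfalso
      apply hvv
      rw [cube_eq_one hF ha, cube_eq_one hF hb]
      linear_combination h2

include hF hD in
/-- Over the field with four elements the stabiliser of an orthogonal decomposition into
non-degenerate planes is not maximal in the special unitary group. -/
theorem not_maximal :
    ∃ K : Subgroup (Matrix.GeneralLinearGroup (Fin n) F),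
      Cfsg.Geo.decompositionStabilizer D ⊓
        (Cfsg.GU n F 2 ⊓ Cfsg.Geo.specialLinear (Fin n) F) < K ∧
      K < Cfsg.GU n F 2 ⊓ Cfsg.Geo.specialLinear (Fin n) F := by
  have h2 := two_eq_zero hF
  have ht := hD.decomp.two_le
  obtain ⟨i₁, i₂, h12⟩ : ∃ i₁ i₂ : Fin t, i₁ ≠ i₂ :=
    ⟨⟨0, by omega⟩, ⟨1, by omega⟩, by simp [Fin.ext_iff]⟩
  obtain ⟨w₁, hw₁, w₁', hw₁', h11, h1'1', h11', h1'1, hspan₁⟩ := exists_frame hF hD i₁
  obtain ⟨w₂, hw₂, w₂', hw₂', h22, h2'2', h22', h2'2, hspan₂⟩ := exists_frame hF hD i₂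
  have hw₂0 : w₂ ≠ 0 := by
    rintro rfl
    rw [hermForm_zero_left] at h22
    exact zero_ne_one h22
  have hw₁'0 : w₁' ≠ 0 := by
    rintro rfl
    rw [hermForm_zero_left] at h1'1'
    exact zero_ne_one h1'1'
  -- the first transvection
  have hu : hermForm n F 2 (w₁ + w₂) (w₁ + w₂) = 0 := by
    rw [hermForm_add_left, hermForm_add_right hF, hermForm_add_right hF, h11, h22,
      orth' hD h12 hw₁ hw₂, orth' hD h12.symm hw₂ hw₁]
    linear_combination h2
  have hTu : ∀ a : F, (T hF (w₁ + w₂) hu : Matrix (Fin n) (Fin n) F) *ᵥ (a • w₁) = a • w₂ := by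
    intro a
    rw [T_mulVec, hermForm_smul_left, hermForm_add_right hF, h11, orth' hD h12 hw₁ hw₂,
      add_zero, mul_one, smul_add, ← add_assoc, ← add_smul]
    have : a + a = 0 := by linear_combination a * h2
    rw [this, zero_smul, zero_add]
  have hTu' : ∀ a : F, (T hF (w₁ + w₂) hu : Matrix (Fin n) (Fin n) F) *ᵥ (a • w₂) = a • w₁ := by
    intro a
    rw [T_mulVec, hermForm_smul_left, hermForm_add_right hF, h22, orth' hD h12.symm hw₂ hw₁,
      zero_add, mul_one, smul_add, add_comm (a • w₁), ← add_assoc, ← add_smul]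
    have : a + a = 0 := by linear_combination a * h2
    rw [this, zero_smul, zero_add]
  have hfix : ∀ v, hermForm n F 2 v (w₁ + w₂) = 0 →
      (T hF (w₁ + w₂) hu : Matrix (Fin n) (Fin n) F) *ᵥ v = v := by
    intro v hv
    rw [T_mulVec, hv, zero_smul, add_zero]
  have hsmul_mem : ∀ (i : Fin t) (w : Fin n → F) (a : F), w ∈ D i → hermForm n F 2 w w = 1 →
      a ≠ 0 → a • w ∈ S D := by
    intro i w a hw hww ha
    refine ⟨i, (D i).smul_mem _ hw, ?_⟩
    rw [hermForm_smul_left, hermForm_smul_right, hww, mul_one]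
    have : a * a ^ 2 = a ^ 3 := by ring
    rw [this, cube_eq_one hF ha]
    exact one_ne_zero
  have hmem1 : T hF (w₁ + w₂) hu ∈ midGroup D := by
    apply T_mem_mid
    rintro v ⟨i, hi, hne⟩
    by_cases hi1 : i = i₁
    · subst hi1
      rcases aniso_block hF h11 h1'1' h11' h1'1 hspan₁ hi hne with ⟨a, ha, rfl⟩ | ⟨b, hb, rfl⟩
      · rw [hTu]
        exact hsmul_mem i₂ w₂ a hw₂ h22 ha
      · rw [hfix]
        · exact ⟨i, hi, hne⟩
        · rw [hermForm_smul_left, hermForm_add_right hF, h1'1, orth' hD h12 hw₁' hw₂]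
          ring
    · by_cases hi2 : i = i₂
      · subst hi2
        rcases aniso_block hF h22 h2'2' h22' h2'2 hspan₂ hi hne with ⟨a, ha, rfl⟩ | ⟨b, hb, rfl⟩
        · rw [hTu']
          exact hsmul_mem i₁ w₁ a hw₁ h11 ha
        · rw [hfix]
          · exact ⟨i, hi, hne⟩
          · rw [hermForm_smul_left, hermForm_add_right hF, h2'2, orth' hD h12.symm hw₂' hw₁]
            ring
      · rw [hfix]
        · exact ⟨i, hi, hne⟩
        · rw [hermForm_add_right hF, orth' hD hi1 hi hw₁, orth' hD hi2 hi hw₂, add_zero]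
  refine ⟨midGroup D, lt_of_le_of_ne stab_le_mid ?_, lt_of_le_of_ne (fun g hg => hg.1) ?_⟩
  · intro heq
    rw [← heq] at hmem1
    obtain ⟨⟨σ, hσ⟩, -⟩ := hmem1
    have hσ1 : σ i₁ = i₁ := by
      by_contra hne
      have h3 : w₁' ∈ D (σ i₁) := by
        rw [← hσ i₁]
        refine ⟨w₁', hw₁', ?_⟩
        rw [Matrix.toLin'_apply, hfix]
        rw [hermForm_add_right hF, h1'1, orth' hD h12 hw₁' hw₂, add_zero]
      exact hw₁'0 (inter_eq_zero hD (Ne.symm hne) hw₁' h3)
    have h4 : w₂ ∈ D i₁ := by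
      have : (T hF (w₁ + w₂) hu : Matrix (Fin n) (Fin n) F) *ᵥ w₁ ∈ D (σ i₁) := by
        rw [← hσ i₁]
        exact ⟨w₁, hw₁, by rw [Matrix.toLin'_apply]⟩
      have h5 := hTu 1
      rw [one_smul, one_smul] at h5
      rwa [h5, hσ1] at this
    exact hw₂0 (inter_eq_zero hD h12 h4 hw₂)
  · intro heq
    -- the second transvection
    have hu' : hermForm n F 2 (w₁ + w₁' + w₂ + w₂') (w₁ + w₁' + w₂ + w₂') = 0 := by
      simp only [hermForm_add_left, hermForm_add_right hF, h11, h1'1', h22, h2'2', h11', h1'1,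
        h22', h2'2, orth' hD h12 hw₁ hw₂, orth' hD h12 hw₁ hw₂', orth' hD h12 hw₁' hw₂,
        orth' hD h12 hw₁' hw₂', orth' hD h12.symm hw₂ hw₁, orth' hD h12.symm hw₂ hw₁',
        orth' hD h12.symm hw₂' hw₁, orth' hD h12.symm hw₂' hw₁']
      linear_combination 2 * h2
    have hmem2 : T hF (w₁ + w₁' + w₂ + w₂') hu' ∈ midGroup D := by
      rw [heq]
      exact T_mem hF _ hu'
    have h3 := (hmem2.2 w₁).mpr ⟨i₁, hw₁, by rw [h11]; exact one_ne_zero⟩
    have h4 : (T hF (w₁ + w₁' + w₂ + w₂') hu' : Matrix (Fin n) (Fin n) F) *ᵥ w₁ =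
        w₁' + w₂ + w₂' := by
      rw [T_mulVec]
      have : hermForm n F 2 w₁ (w₁ + w₁' + w₂ + w₂') = 1 := by
        simp only [hermForm_add_right hF, h11, h11', orth' hD h12 hw₁ hw₂,
          orth' hD h12 hw₁ hw₂']
        ring
      rw [this, one_smul]
      have h5 : w₁ + w₁ = 0 := by
        rw [← two_smul F w₁, h2, zero_smul]
      have : w₁ + (w₁ + w₁' + w₂ + w₂') = (w₁ + w₁) + (w₁' + w₂ + w₂') := by abel
      rw [this, h5, zero_add]
    rw [h4] at h3
    obtain ⟨j, hj, -⟩ := h3
    have hj1 : j = i₁ := by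
      by_contra hne
      have h5 := orth' hD hne hj hw₁'
      simp only [hermForm_add_left, h1'1', orth' hD h12.symm hw₂ hw₁',
        orth' hD h12.symm hw₂' hw₁'] at h5
      rw [add_zero, add_zero] at h5
      exact one_ne_zero h5
    have hj2 : j = i₂ := by
      by_contra hne
      have h5 := orth' hD hne hj hw₂
      simp only [hermForm_add_left, h22, h2'2, orth' hD h12 hw₁' hw₂] at h5
      rw [zero_add, add_zero] at h5
      exact one_ne_zero h5
    exact h12 (hj1.symm.trans hj2)

end main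

end Cfsg.Agent.Lib.Helper5.SUTwoWreath
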