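import Mathlib
import Cfsg.Prelude
import Cfsg.Agent.Lib.Helper5.UnitaryFormTwo
import Cfsg.Agent.Lib.Helper5.TensorBlocksGen
import Cfsg.Agent.Lib.Helper5.SUTwoWreath

set_option autoImplicit false
set_option linter.unusedSectionVars false
set_option linter.unusedVariables false
open Cfsg

/-! The stabiliser in the special unitary group over the field with four elements of a tensor
decomposition whose first factor is a unitary plane is not maximal: the plane has a unique
orthonormal frame, which gives a decomposition into two non-degenerate blocks. -/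

namespace Cfsg.Agent.Lib.Helper5.TensorSUFrame

open Matrix Kronecker Cfsg.Agent.Lib.Helper5.Herm Cfsg.Agent.Lib.Helper5.TensorSub
  Cfsg.Agent.Lib.Helper5.TensorFormSub Cfsg.Agent.Lib.Helper5.UnitaryFormTwo
  Cfsg.Agent.Lib.Helper5.TensorBlocksGen

variable {F : Type*} [Field F] [Fintype F] (hF : Fintype.card F = 2 ^ 2) {n n₂ : ℕ}
  (e : Fin n ≃ Fin 2 × Fin n₂) (P : Matrix.GeneralLinearGroup (Fin n) F)
  {f₁ : (Fin 2 → F) → (Fin 2 → F) → F} {f₂ : (Fin n₂ → F) → (Fin n₂ → F) → F}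
  (hf₁ : Cfsg.Geo.IsUnitaryFormPow 2 f₁) (hf₂ : Cfsg.Geo.IsUnitaryFormPow 2 f₂)
  {c : F} (hc0 : c ≠ 0)
  (hc : ∀ x y : Fin 2 × Fin n₂ → F,
      hermForm n F 2 ((P : Matrix (Fin n) (Fin n) F) *ᵥ (x ∘ e))
        ((P : Matrix (Fin n) (Fin n) F) *ᵥ (y ∘ e)) =
        c * Cfsg.Geo.formOfGram (fun a : F => a ^ 2)
          (Cfsg.Geo.gramMatrix f₁ ⊗ₖ Cfsg.Geo.gramMatrix f₂) x y)
  {v : Fin 2 → (Fin 2 → F)} (hv : IsFrame2 f₁ v)

include hF hf₁ hf₂ hc in
theorem form_block (w w' : Fin 2 → F) (y y' : Fin n₂ → F) :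
    hermForm n F 2 (blockMap e P w y) (blockMap e P w' y') = c * (f₁ w w' * f₂ y y') :=
  form_pt_pow hF e P hf₁ hf₂ hc w w' y y'

include hF hf₁ hf₂ hc hv in
theorem orth {i j : Fin 2} (hij : i ≠ j) {x y : Fin n → F} (hx : x ∈ blocks e P v i)
    (hy : y ∈ blocks e P v j) : hermForm n F 2 x y = 0 := by
  obtain ⟨x', rfl⟩ := hx
  obtain ⟨y', rfl⟩ := hy
  rw [form_block hF e P hf₁ hf₂ hc, hv.gram, if_neg hij, zero_mul, mul_zero]

include hF hf₁ hf₂ hc0 hc hv in
theorem inter_eq_zero {i j : Fin 2} (hij : i ≠ j) {x : Fin n → F} (hi : x ∈ blocks e P v i)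
    (hj : x ∈ blocks e P v j) : x = 0 := by
  by_contra hx
  obtain ⟨y, rfl⟩ := hi
  have hy : y ≠ 0 := by
    rintro rfl
    exact hx (map_zero _)
  obtain ⟨-, ⟨y', hy'⟩⟩ := hf₂.nondegenerate y hy
  apply mul_ne_zero hc0 (mul_ne_zero one_ne_zero hy')
  have h1 := orth hF e P hf₁ hf₂ hc hv hij.symm hj (mem_blocks e P v i y')
  rw [form_block hF e P hf₁ hf₂ hc, hv.gram, if_pos rfl] at h1
  exact h1

include hF hf₁ hf₂ hv in
/-- the stabiliser of the tensor decomposition stabilises the block decomposition -/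
theorem tensor_le_stab (hn₂ : 0 < n₂)
    (hT : Cfsg.Geo.IsTensorFormStructure (fun a : F => a ^ 2) (hermForm n F 2) f₁ f₂ e P)
    (g : Matrix.GeneralLinearGroup (Fin n) F)
    (hg : g ∈ Cfsg.Geo.tensorProductSubgroup 2 n₂ e P)
    (hgf : g ∈ Cfsg.GU n F 2) :
    g ∈ Cfsg.Geo.decompositionStabilizer (blocks e P v) := by
  obtain ⟨a, b, rfl⟩ := (mem_tensor e P g).mp hg
  have hne₁ : ∃ x y, f₁ x y ≠ 0 := ⟨v 0, v 0, by rw [hv.gram, if_pos rfl]; exact one_ne_zero⟩
  have hne₂ : ∃ x y, f₂ x y ≠ 0 := by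
    have h1 : (Pi.single (⟨0, hn₂⟩ : Fin n₂) (1 : F) : Fin n₂ → F) ≠ 0 := by
      intro h
      have := congrFun h ⟨0, hn₂⟩
      simp at this
    obtain ⟨⟨x, hx⟩, -⟩ := hf₂.nondegenerate _ h1
    exact ⟨x, _, hx⟩
  obtain ⟨l, hl, ha⟩ := exists_mult_pow hF e P hf₁ hf₂ hne₁ hne₂ hT a b (fun u w => hgf u w)
  obtain ⟨σ, hσ⟩ := hv.perm hF hf₁ _ l hl ha
  refine TensorFrameDecomp.stab_of_perm
    (finrank_blocks e P v (fun j => hv.ne_zero hF hf₁ j)) _ σ ?_
  rintro i _ ⟨y, rfl⟩
  rw [Phi_kron_blockMap]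
  obtain ⟨μ, hμ⟩ := hσ i
  rw [hμ, blockMap_smul_left]
  exact mem_blocks e P v (σ i) _

include hF hf₁ hf₂ in
/-- the stabiliser of the tensor decomposition is not maximal in the special unitary group -/
theorem not_maximal (hn₂ : 2 ≤ n₂)
    (hT : Cfsg.Geo.IsTensorFormStructure (fun a : F => a ^ 2) (hermForm n F 2) f₁ f₂ e P) :
    ∃ K : Subgroup (Matrix.GeneralLinearGroup (Fin n) F),
      Cfsg.Geo.tensorProductSubgroup 2 n₂ e P ⊓
        (Cfsg.GU n F 2 ⊓ Cfsg.Geo.specialLinear (Fin n) F) < K ∧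
      K < (Cfsg.GU n F 2 ⊓ Cfsg.Geo.specialLinear (Fin n) F) := by
  have hT' := hT
  obtain ⟨c, hc0, hc⟩ := hT
  obtain ⟨v, hv⟩ := exists_isFrame2 hF hf₁
  obtain ⟨y₀, y', yi, hy₀, hy'0, hy', hyi0, hyi⟩ := exists_data hF hn₂ hf₂
  have h2 := two_eq_zero hF
  have hn₂' : 0 < n₂ := by omega
  have fb := form_block hF e P hf₁ hf₂ hc
  have g01 : f₁ (v 0) (v 1) = 0 := by rw [hv.gram, if_neg (by decide)]
  have g10 : f₁ (v 1) (v 0) = 0 := by rw [hv.gram, if_neg (by decide)]
  have g00 : f₁ (v 0) (v 0) = 1 := by rw [hv.gram, if_pos rfl]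
  have g11 : f₁ (v 1) (v 1) = 1 := by rw [hv.gram, if_pos rfl]
  have hv0 := hv.ne_zero hF hf₁ 0
  have hv1 := hv.ne_zero hF hf₁ 1
  refine ⟨Cfsg.Geo.decompositionStabilizer (blocks e P v) ⊓
    (Cfsg.GU n F 2 ⊓ Cfsg.Geo.specialLinear (Fin n) F), ?_, ?_⟩
  · -- the tensor stabiliser is properly contained
    refine lt_of_le_of_ne ?_ ?_
    · intro g hg
      obtain ⟨hg1, hg2⟩ := Subgroup.mem_inf.mp hg
      exact Subgroup.mem_inf.mpr
        ⟨tensor_le_stab hF e P hf₁ hf₂ hv hn₂' hT' g hg1 (Subgroup.mem_inf.mp hg2).1, hg2⟩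
    · intro heq
      -- the transvection with centre in the first block
      set u := blockMap e P (v 0) yi with hu
      have huu : hermForm n F 2 u u = 0 := by
        rw [hu, fb, hyi, mul_zero, mul_zero]
      have hk1 : ∀ y, (SUTwoWreath.T hF u huu : Matrix (Fin n) (Fin n) F) *ᵥ
          blockMap e P (v 1) y = blockMap e P (v 1) y := by
        intro y
        rw [SUTwoWreath.T_mulVec, hu, fb, g10, zero_mul, mul_zero, zero_smul, add_zero]
      have hk0 : ∀ y, (SUTwoWreath.T hF u huu : Matrix (Fin n) (Fin n) F) *ᵥ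
          blockMap e P (v 0) y = blockMap e P (v 0) (y + (c * f₂ y yi) • yi) := by
        intro y
        rw [SUTwoWreath.T_mulVec, hu, fb, g00, one_mul, map_add, map_smul]
      have hkK : SUTwoWreath.T hF u huu ∈
          Cfsg.Geo.decompositionStabilizer (blocks e P v) ⊓
            (Cfsg.GU n F 2 ⊓ Cfsg.Geo.specialLinear (Fin n) F) := by
        refine Subgroup.mem_inf.mpr ⟨?_, SUTwoWreath.T_mem hF u huu⟩
        refine TensorFrameDecomp.stab_of_perm
          (finrank_blocks e P v (fun j => hv.ne_zero hF hf₁ j)) _ 1 ?_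
        intro i x hx
        obtain ⟨y, rfl⟩ := hx
        rw [Equiv.Perm.one_apply]
        fin_cases i
        · show (SUTwoWreath.T hF u huu : Matrix (Fin n) (Fin n) F) *ᵥ
            blockMap e P (v 0) y ∈ blocks e P v 0
          rw [hk0]
          exact mem_blocks e P v 0 _
        · show (SUTwoWreath.T hF u huu : Matrix (Fin n) (Fin n) F) *ᵥ
            blockMap e P (v 1) y ∈ blocks e P v 1
          rw [hk1]
          exact mem_blocks e P v 1 _
      rw [← heq] at hkK
      obtain ⟨a, b, hab⟩ := (mem_tensor e P _).mp (Subgroup.mem_inf.mp hkK).1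
      rw [hab] at hk0 hk1
      obtain ⟨ν, hν⟩ := scalar_of_kron e P hn₂' a b hv1 hv0
        (fun y => y + (c * f₂ y yi) • yi) hk1 hk0
      have hν1 : ν = 1 := by
        have h1 := hν yi
        simp only [hyi, mul_zero, zero_smul, add_zero] at h1
        by_contra hne
        apply hyi0
        have h3 : (ν - 1) • yi = 0 := by rw [sub_smul, one_smul, ← h1, sub_self]
        exact (smul_eq_zero.mp h3).resolve_left (sub_ne_zero.mpr hne)
      obtain ⟨⟨x, hx⟩, -⟩ := hf₂.nondegenerate yi hyi0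
      have h1 := hν x
      rw [hν1, one_smul] at h1
      have h3 : (c * f₂ x yi) • yi = 0 := by
        have := congrArg (fun z => z - x) h1
        simpa using this
      rcases smul_eq_zero.mp h3 with h4 | h4
      · exact mul_ne_zero hc0 hx h4
      · exact hyi0 h4
  · -- the stabiliser of the block decomposition is proper
    refine lt_of_le_of_ne inf_le_right ?_
    intro heq
    set u := blockMap e P (v 0) y₀ + blockMap e P (v 1) y₀ with hu
    have huu : hermForm n F 2 u u = 0 := by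
      rw [hu]
      simp only [hermForm_add_left, hermForm_add_right hF, fb, g00, g01, g10, g11, hy₀]
      linear_combination c * h2
    have hh : SUTwoWreath.T hF u huu ∈
        Cfsg.Geo.decompositionStabilizer (blocks e P v) := by
      have := SUTwoWreath.T_mem hF u huu
      rw [← heq] at this
      exact (Subgroup.mem_inf.mp this).1
    obtain ⟨σ, hσ⟩ := hh
    have hfix : (SUTwoWreath.T hF u huu : Matrix (Fin n) (Fin n) F) *ᵥ
        blockMap e P (v 0) y' = blockMap e P (v 0) y' := by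
      rw [SUTwoWreath.T_mulVec, hu, hermForm_add_right hF, fb, fb, hy', g01]
      simp
    have hmove : (SUTwoWreath.T hF u huu : Matrix (Fin n) (Fin n) F) *ᵥ
        blockMap e P (v 0) y₀ = blockMap e P (v 0) y₀ + c • u := by
      rw [SUTwoWreath.T_mulVec, hu, hermForm_add_right hF, fb, fb, hy₀, g01, g00]
      simp
    have hne' : blockMap e P (v 0) y' ≠ 0 := by
      intro h
      exact hy'0 (blockMap_injective e P hv0 (h.trans (map_zero _).symm))
    have hσ0 : σ 0 = 0 := by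
      by_contra hne
      apply hne'
      refine inter_eq_zero hF e P hf₁ hf₂ hc0 hc hv hne ?_ (mem_blocks e P v 0 y')
      rw [← hσ 0]
      exact ⟨_, mem_blocks e P v 0 y', by rw [Matrix.toLin'_apply, hfix]⟩
    have hmem : blockMap e P (v 0) y₀ + c • u ∈ blocks e P v 0 := by
      have h1 := hσ 0
      rw [hσ0] at h1
      rw [← h1, ← hmove]
      exact ⟨_, mem_blocks e P v 0 y₀, by rw [Matrix.toLin'_apply]⟩
    have hmem1 : blockMap e P (v 1) y₀ ∈ blocks e P v 0 := by
      have h3 : blockMap e P (v 1) y₀ = c⁻¹ • ((blockMap e P (v 0) y₀ + c • u) -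
          blockMap e P (v 0) y₀ - c • blockMap e P (v 0) y₀) := by
        rw [hu, smul_add, add_sub_cancel_left, add_sub_cancel_left, smul_smul,
          inv_mul_cancel₀ hc0, one_smul]
      rw [h3]
      exact Submodule.smul_mem _ _ (Submodule.sub_mem _ (Submodule.sub_mem _ hmem
        (mem_blocks e P v 0 y₀)) (Submodule.smul_mem _ _ (mem_blocks e P v 0 y₀)))
    have h0 := inter_eq_zero hF e P hf₁ hf₂ hc0 hc hv (by decide : (0 : Fin 2) ≠ 1) hmem1
      (mem_blocks e P v 1 y₀)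
    have hy0 : y₀ = 0 := blockMap_injective e P hv1 (h0.trans (map_zero _).symm)
    rw [hy0, u_zero_left hf₂] at hy₀
    exact zero_ne_one hy₀

end Cfsg.Agent.Lib.Helper5.TensorSUFrame
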