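import Mathlib
import Cfsg.Prelude
import Cfsg.Agent.Lib.Helper5.RankOne
import Cfsg.Agent.Lib.Helper5.HermTv
import Cfsg.Agent.Lib.Helper5.HermSU
import Cfsg.Agent.Lib.Helper5.HermEich
import Cfsg.Agent.Lib.Helper5.HermGen

set_option autoImplicit false
set_option linter.unusedSectionVars false
set_option linter.unusedVariables false
open Cfsg

/-! Unitary transvections over the field with four elements form a class of 3-transpositions. -/

namespace Cfsg.Agent.Lib.Helper5.ThreeTransSU

open Matrix Cfsg.Agent.Lib.Helper5.Herm Cfsg.Agent.Lib.Helper5.HermTv Cfsg.Agent.Lib.Helper5.HermSU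
  Cfsg.Agent.Lib.Helper5.HermEich Cfsg.Agent.Lib.Helper5.HermGen Cfsg.Agent.Lib.Helper5.HermFrames
  Cfsg.Agent.Lib.Helper5.HermCount Cfsg.Agent.Lib.Helper5.HermCard
  Cfsg.Agent.Lib.Helper5.RankOne

section general
variable {F : Type*} [Field F] [Fintype F] {q : ℕ} (hF : Fintype.card F = q ^ 2) (n : ℕ)

include hF in
theorem eq_zero_of_herm (u : Fin n → F) (h : ∀ x, hermForm n F q x u = 0) : u = 0 := by
  funext i
  have h1 := h (Pi.single i 1)
  rw [hermForm_single_left] at h1
  exact pow_eq_zero_iff (q_ne_zero hF) |>.mp h1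

include hF in
/-- an element `g` of `SU` with `g - 1` of rank one is a transvection -/
theorem eq_tv_of_rank_one (g : ↥(Cfsg.SU n F q))
    (h : (((g : Matrix.SpecialLinearGroup (Fin n) F) : Matrix (Fin n) (Fin n) F) - 1).rank = 1) :
    ∃ (u : Fin n → F) (c : F), u ≠ 0 ∧ c ≠ 0 ∧ hermForm n F q u u = 0 ∧
      ((g : Matrix.SpecialLinearGroup (Fin n) F) : Matrix (Fin n) (Fin n) F) =
        unitaryTransvection n q u c := by
  have hq := q_ne_zero hF
  obtain ⟨u, φ, hu, hφ, hA⟩ := exists_vecMulVec_of_rank_eq_one _ h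
  set M : Matrix (Fin n) (Fin n) F := ((g : Matrix.SpecialLinearGroup (Fin n) F) :
    Matrix (Fin n) (Fin n) F) with hMdef
  have hM : M = 1 + Matrix.vecMulVec u φ := by
    rw [← hA]
    abel
  have hMx : ∀ x, M *ᵥ x = x + (φ ⬝ᵥ x) • u := by
    intro x
    rw [hM, one_add_vecMulVec_mulVec]
  have hdet : M.det = 1 := g.1.2
  have hφu : φ ⬝ᵥ u = 0 := by
    rw [hM, Matrix.vecMulVec_eq Unit, Matrix.det_one_add_replicateCol_mul_replicateRow] at hdet
    linear_combination hdet
  have key : ∀ x y, (φ ⬝ᵥ y) ^ q * hermForm n F q x u + (φ ⬝ᵥ x) * hermForm n F q u y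
      + (φ ⬝ᵥ x) * (φ ⬝ᵥ y) ^ q * hermForm n F q u u = 0 := by
    intro x y
    have h1 := herm_gact n (toGU n g) x y
    unfold gact at h1
    rw [toGU_coe, ← hMdef, hMx, hMx, hermForm_add_left, hermForm_add_right hF,
      hermForm_add_right hF, hermForm_smul_left, hermForm_smul_left, hermForm_smul_right,
      hermForm_smul_right] at h1
    linear_combination h1
  obtain ⟨j, hj⟩ : ∃ j, φ j ≠ 0 := by
    by_contra hcon
    push Not at hcon
    exact hφ (funext hcon)
  set y0 : Fin n → F := Pi.single j 1 with hy0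
  have hb : φ ⬝ᵥ y0 = φ j := by
    rw [hy0, dotProduct_single, mul_one]
  have hbq : (φ j) ^ q ≠ 0 := pow_ne_zero q hj
  have hiso : hermForm n F q u u = 0 := by
    have := key u y0
    rw [hφu, hb, zero_mul, zero_mul, zero_mul, add_zero, add_zero] at this
    exact (mul_eq_zero.mp this).resolve_left hbq
  have key2 : ∀ x, (φ j) ^ q * hermForm n F q x u + (φ ⬝ᵥ x) * hermForm n F q u y0 = 0 := by
    intro x
    have := key x y0
    rw [hb, hiso, mul_zero, add_zero] at this
    exact this
  have hk : hermForm n F q u y0 ≠ 0 := by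
    intro h0
    apply hu
    apply eq_zero_of_herm hF n u
    intro x
    have := key2 x
    rw [h0, mul_zero, add_zero] at this
    exact (mul_eq_zero.mp this).resolve_left hbq
  refine ⟨u, -(φ j) ^ q / hermForm n F q u y0, hu, ?_, hiso, ?_⟩
  · exact div_ne_zero (neg_ne_zero.mpr hbq) hk
  · rw [ext_iff_mulVec]
    intro x
    rw [hMx, unitaryTransvection_mulVec]
    congr 2
    have := key2 x
    field_simp
    linear_combination this

include hF in
theorem qcond_unit (w : Fin n → F) (hw : hermForm n F q w w = 1) (z : ↥(normHom F q).ker) :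
    QCond n q w (((z : Fˣ) : F) - 1) := by
  unfold QCond
  rw [hw, pow_q_sub hF, one_pow]
  have := normKer_coe (q := q) z
  rw [pow_succ] at this
  linear_combination this

include hF in
/-- `SU` is transitive on nonzero isotropic vectors -/
theorem exists_SU_map (hn : 3 ≤ n) (v v' : Fin n → F) (hv : v ≠ 0) (hv' : v' ≠ 0)
    (h : hermForm n F q v v = 0) (h' : hermForm n F q v' v' = 0) :
    ∃ S : ↥(Cfsg.SU n F q), gact n (toGU n S) v = v' := by
  obtain ⟨A, hA⟩ := exists_GU_map hF n v v' hv hv' h h'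
  obtain ⟨w, hww, hwv⟩ := exists_unit_perp hF n hn v' hv' h'
  set z := (detN hF A)⁻¹ with hz
  set B : ↥(Cfsg.GU n F q) := qtv hF n w (((z : Fˣ) : F) - 1) (qcond_unit hF n w hww z) with hB
  have hBv : gact n B v' = v' := by
    rw [hB, gact_qtv]
    have : hermForm n F q v' w = 0 := by
      rw [← hermForm_conj hF, hwv, zero_pow (q_ne_zero hF)]
    rw [this, mul_zero, zero_smul, add_zero]
  have hdet : (((B * A : ↥(Cfsg.GU n F q)) : Matrix.GeneralLinearGroup (Fin n) F) :
      Matrix (Fin n) (Fin n) F).det = 1 := by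
    rw [← detN_coe hF, map_mul, hB, Subgroup.coe_mul, Units.val_mul, detN_qtv, hww, mul_one,
      add_sub_cancel, hz]
    rw [← Units.val_mul, ← Subgroup.coe_mul, inv_mul_cancel]
    rfl
  obtain ⟨S, hS⟩ := exists_toGU_eq n (B * A) hdet
  refine ⟨S, ?_⟩
  rw [hS, gact_mul]
  have : gact n A v = v' := hA
  rw [this, hBv]

end general

section four
variable {F : Type*} [Field F] [Fintype F] (hF : Fintype.card F = 2 ^ 2) (n : ℕ)

include hF in
theorem two_eq_zero : (2 : F) = 0 := by
  have h4 : ((Fintype.card F : ℕ) : F) = 0 := Nat.cast_card_eq_zero F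
  rw [hF] at h4
  have : (2 : F) * 2 = 0 := by
    rw [← h4]
    norm_num
  exact mul_self_eq_zero.mp this

include hF in
theorem cube_eq_one (a : F) (ha : a ≠ 0) : a ^ 3 = 1 := by
  have := FiniteField.pow_card_sub_one_eq_one a ha
  rw [hF] at this
  exact this

include hF in
theorem qc (u : Fin n → F) (hu : hermForm n F 2 u u = 0) : QCond n 2 u 1 := by
  unfold QCond
  rw [hu]
  linear_combination two_eq_zero hF

include hF in
/-- parameters of transvections in `GU_n(2)` with nonzero isotropic centre -/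
theorem param_cases (c : F) (hc : c ^ 2 = -c) : c = 0 ∨ c = 1 := by
  have h2 := two_eq_zero hF
  have : c * (c - 1) = 0 := by linear_combination hc - c * h2
  rcases mul_eq_zero.mp this with h | h
  · left; exact h
  · right; exact sub_eq_zero.mp h

/-- the transvection in `GU` -/
noncomputable def tg (u : Fin n → F) (hu : hermForm n F 2 u u = 0) : ↥(Cfsg.GU n F 2) :=
  qtv hF n u 1 (qc hF n u hu)

/-- the transvection in `SU` -/
noncomputable def ts (u : Fin n → F) (hu : hermForm n F 2 u u = 0) : ↥(Cfsg.SU n F 2) :=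
  ⟨⟨unitaryTransvection n 2 u 1, by rw [det_tv, hu, mul_zero, add_zero]⟩,
    fun x y => (tg hF n u hu).2 x y⟩

theorem toGU_ts (u : Fin n → F) (hu : hermForm n F 2 u u = 0) :
    toGU n (ts hF n u hu) = tg hF n u hu := by
  apply Subtype.ext
  apply Units.ext
  rfl

theorem ts_coe (u : Fin n → F) (hu : hermForm n F 2 u u = 0) :
    ((ts hF n u hu : Matrix.SpecialLinearGroup (Fin n) F) : Matrix (Fin n) (Fin n) F) =
      unitaryTransvection n 2 u 1 := rfl

theorem ts_congr {u u' : Fin n → F} (h : u = u') (hu : hermForm n F 2 u u = 0)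
    (hu' : hermForm n F 2 u' u' = 0) : ts hF n u hu = ts hF n u' hu' := by
  subst h
  rfl

theorem ts_sq (u : Fin n → F) (hu : hermForm n F 2 u u = 0) :
    ts hF n u hu * ts hF n u hu = 1 := by
  apply Subtype.ext
  apply Subtype.ext
  show unitaryTransvection n 2 u 1 * unitaryTransvection n 2 u 1 = 1
  rw [tv_mul, hu, mul_zero, add_zero]
  have : (1 : F) + 1 = 0 := by linear_combination two_eq_zero hF
  rw [this, tv_zero]

theorem ts_inv (u : Fin n → F) (hu : hermForm n F 2 u u = 0) :
    (ts hF n u hu)⁻¹ = ts hF n u hu :=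
  inv_eq_of_mul_eq_one_left (ts_sq hF n u hu)

theorem iso_gact (g : ↥(Cfsg.GU n F 2)) (w : Fin n → F) (hw : hermForm n F 2 w w = 0) :
    hermForm n F 2 (gact n g w) (gact n g w) = 0 := by
  rw [herm_gact, hw]

/-- conjugation -/
theorem conj_ts (S : ↥(Cfsg.SU n F 2)) (w : Fin n → F) (hw : hermForm n F 2 w w = 0) :
    S * ts hF n w hw * S⁻¹ = ts hF n (gact n (toGU n S) w) (iso_gact n _ w hw) := by
  apply toGU_injective n
  rw [map_mul, map_mul, map_inv, toGU_ts, toGU_ts]
  unfold tg
  rw [conj_qtv]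

theorem iso_smul (a : F) (v : Fin n → F) (hv : hermForm n F 2 v v = 0) :
    hermForm n F 2 (a • v) (a • v) = 0 := by
  rw [hermForm_smul_left, hermForm_smul_right, hv, mul_zero, mul_zero]

theorem ts_smul (a : F) (ha : a ≠ 0) (v : Fin n → F) (hv : hermForm n F 2 v v = 0) :
    ts hF n (a • v) (iso_smul n a v hv) = ts hF n v hv := by
  apply toGU_injective n
  rw [toGU_ts, toGU_ts]
  unfold tg
  rw [qtv_smul hF n a v 1 _ (by
    have : a ^ (2 + 1) * (1 : F) = 1 := by rw [mul_one]; exact cube_eq_one hF a ha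
    rw [this]
    exact qc hF n v hv)]
  apply qtv_congr hF n rfl
  rw [mul_one]
  exact cube_eq_one hF a ha

theorem gact_ts (u : Fin n → F) (hu : hermForm n F 2 u u = 0) (x : Fin n → F) :
    gact n (toGU n (ts hF n u hu)) x = x + hermForm n F 2 x u • u := by
  rw [toGU_ts]
  unfold tg
  rw [gact_qtv, one_mul]

/-- the set of transvections -/
def D : Set ↥(Cfsg.SU n F 2) :=
  {g | (((g : Matrix.SpecialLinearGroup (Fin n) F) : Matrix (Fin n) (Fin n) F) - 1).rank = 1}

theorem ts_mem_D (u : Fin n → F) (hu : hermForm n F 2 u u = 0) (hu0 : u ≠ 0) :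
    ts hF n u hu ∈ D n := by
  show ((unitaryTransvection n 2 u 1 : Matrix (Fin n) (Fin n) F) - 1).rank = 1
  unfold unitaryTransvection
  rw [add_sub_cancel_left, one_smul]
  apply RankOne.rank_vecMulVec _ _ hu0
  intro h0
  apply hu0
  funext i
  have := congrFun h0 i
  exact pow_eq_zero_iff (by norm_num) |>.mp this

theorem mem_D_iff (g : ↥(Cfsg.SU n F 2)) :
    g ∈ D n ↔ ∃ (u : Fin n → F) (hu : hermForm n F 2 u u = 0), u ≠ 0 ∧ g = ts hF n u hu := by
  constructor
  · intro h
    obtain ⟨u, c, hu0, hc0, hu, hg⟩ := eq_tv_of_rank_one hF n g h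
    have hq : QCond n 2 u c := qcond_of_mem hF n (toGU n g) u c hu0 hu (by rw [toGU_coe, hg])
    rw [qcond_iso n hu] at hq
    rcases param_cases hF c hq with h0 | h1
    · exact absurd h0 hc0
    · refine ⟨u, hu, hu0, ?_⟩
      apply Subtype.ext
      apply Subtype.ext
      rw [hg, h1]
      rfl
  · rintro ⟨u, hu, hu0, rfl⟩
    exact ts_mem_D hF n u hu hu0

theorem ts_ne_one (u : Fin n → F) (hu : hermForm n F 2 u u = 0) (hu0 : u ≠ 0) :
    ts hF n u hu ≠ 1 := by
  intro h
  have h1 : ts hF n u hu ∈ D n := ts_mem_D hF n u hu hu0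
  rw [h] at h1
  have h2 : (((1 : ↥(Cfsg.SU n F 2)) : Matrix.SpecialLinearGroup (Fin n) F) :
      Matrix (Fin n) (Fin n) F) = 1 := rfl
  have h3 : ((((1 : ↥(Cfsg.SU n F 2)) : Matrix.SpecialLinearGroup (Fin n) F) :
      Matrix (Fin n) (Fin n) F) - 1).rank = 1 := h1
  rw [h2, sub_self, Matrix.rank_zero] at h3
  exact zero_ne_one h3

include hF in
theorem isThreeTranspositionSet : IsThreeTranspositionSet (D (F := F) n) := by
  have : Fact (Nat.Prime 2) := ⟨Nat.prime_two⟩
  constructor
  · intro d hd
    obtain ⟨u, hu, hu0, rfl⟩ := (mem_D_iff hF n d).mp hd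
    apply orderOf_eq_prime
    · rw [sq, ts_sq]
    · exact ts_ne_one hF n u hu hu0
  · intro d hd e he
    obtain ⟨u, hu, hu0, rfl⟩ := (mem_D_iff hF n d).mp hd
    obtain ⟨w, hw, hw0, rfl⟩ := (mem_D_iff hF n e).mp he
    have h1 : ts hF n u hu * ts hF n w hw * ts hF n u hu =
        ts hF n (w + hermForm n F 2 w u • u) (by
          rw [← gact_ts hF n u hu w]; exact iso_gact n _ w hw) := by
      have := conj_ts hF n (ts hF n u hu) w hw
      rw [ts_inv] at this
      rw [this]
      exact ts_congr hF n (gact_ts hF n u hu w) _ _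
    have h2 : ts hF n w hw * ts hF n u hu * ts hF n w hw =
        ts hF n (u + hermForm n F 2 u w • w) (by
          rw [← gact_ts hF n w hw u]; exact iso_gact n _ u hu) := by
      have := conj_ts hF n (ts hF n w hw) u hu
      rw [ts_inv] at this
      rw [this]
      exact ts_congr hF n (gact_ts hF n w hw u) _ _
    by_cases hl : hermForm n F 2 w u = 0
    · left
      have h3 : ts hF n u hu * ts hF n w hw * ts hF n u hu = ts hF n w hw := by
        rw [h1]
        apply ts_congr
        rw [hl, zero_smul, add_zero]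
      rw [sq]
      calc ts hF n u hu * ts hF n w hw * (ts hF n u hu * ts hF n w hw)
          = (ts hF n u hu * ts hF n w hw * ts hF n u hu) * ts hF n w hw := by
            simp only [mul_assoc]
        _ = 1 := by rw [h3, ts_sq]
    · right
      set l := hermForm n F 2 w u with hldef
      have hl3 : l ^ 3 = 1 := cube_eq_one hF l hl
      have huw : hermForm n F 2 u w = l ^ 2 := by
        rw [hldef, hermForm_conj (by exact hF : Fintype.card F = 2 ^ 2)]
      have h4 : ts hF n u hu * ts hF n w hw * ts hF n u hu =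
          ts hF n w hw * ts hF n u hu * ts hF n w hw := by
        rw [h1, h2]
        have e1 : w + l • u = l • (u + hermForm n F 2 u w • w) := by
          rw [huw, smul_add, smul_smul, ← pow_succ', hl3, one_smul, add_comm]
        rw [ts_congr hF n e1 _ (iso_smul n l _ (by
          rw [← gact_ts hF n w hw u]; exact iso_gact n _ u hu))]
        exact ts_smul hF n l hl _ _
      calc (ts hF n u hu * ts hF n w hw) ^ 3
          = (ts hF n u hu * ts hF n w hw * ts hF n u hu) *
              (ts hF n w hw * ts hF n u hu * ts hF n w hw) := by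
            rw [pow_succ, pow_succ, pow_one]
            simp only [mul_assoc]
        _ = 1 := by
            rw [h4, h2, ts_sq]

include hF in
theorem closure_D (hn : 4 ≤ n) : Subgroup.closure (D (F := F) n) = ⊤ := by
  rw [eq_top_iff, ← closure_tvSet hF n (by omega) (by omega)]
  apply (Subgroup.closure_le _).mpr
  rintro A ⟨v, c, hv, hA⟩
  by_cases hv0 : v = 0
  · have : A = 1 := by
      apply Subtype.ext
      apply Subtype.ext
      rw [hA, hv0, tv_zero_centre]
      rfl
    rw [this]
    exact one_mem _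
  · have hq : QCond n 2 v c := qcond_of_mem hF n (toGU n A) v c hv0 hv (by rw [toGU_coe, hA])
    rw [qcond_iso n hv] at hq
    rcases param_cases hF c hq with h0 | h1
    · have : A = 1 := by
        apply Subtype.ext
        apply Subtype.ext
        rw [hA, h0, tv_zero]
        rfl
      rw [this]
      exact one_mem _
    · apply Subgroup.subset_closure
      rw [mem_D_iff hF]
      refine ⟨v, hv, hv0, ?_⟩
      apply Subtype.ext
      apply Subtype.ext
      rw [hA, h1]
      rfl

include hF in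
theorem conj_mem_D (c d : ↥(Cfsg.SU n F 2)) (hd : d ∈ D n) : c * d * c⁻¹ ∈ D n := by
  obtain ⟨u, hu, hu0, rfl⟩ := (mem_D_iff hF n d).mp hd
  rw [conj_ts]
  apply ts_mem_D
  intro h0
  apply hu0
  have := gact_inv_gact n (toGU n c) u
  rw [← this, h0]
  unfold gact
  rw [Matrix.mulVec_zero]

include hF in
theorem isThreeTranspositionClass (hn : 4 ≤ n) : IsThreeTranspositionClass (D (F := F) n) := by
  refine ⟨isThreeTranspositionSet hF n, ?_, closure_D hF n hn⟩
  obtain ⟨e0, f0, he0, -, hef⟩ := exists_hyp_pair hF n (by omega : 2 ≤ n)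
  have he0ne : e0 ≠ 0 := by
    rintro rfl
    rw [hermForm_zero_left] at hef
    exact zero_ne_one hef
  refine ⟨ts hF n e0 he0, ts_mem_D hF n e0 he0 he0ne, ?_⟩
  ext g
  constructor
  · intro hg
    obtain ⟨u, hu, hu0, rfl⟩ := (mem_D_iff hF n g).mp hg
    obtain ⟨S, hS⟩ := exists_SU_map hF n (by omega) e0 u he0ne hu0 he0 hu
    show IsConj (ts hF n e0 he0) (ts hF n u hu)
    rw [isConj_iff]
    refine ⟨S, ?_⟩
    rw [conj_ts]
    exact ts_congr hF n hS _ _
  · intro hg
    have hg' : IsConj (ts hF n e0 he0) g := hg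
    rw [isConj_iff] at hg'
    obtain ⟨c, hc⟩ := hg'
    rw [← hc]
    exact conj_mem_D hF n c _ (ts_mem_D hF n e0 he0 he0ne)

end four

end Cfsg.Agent.Lib.Helper5.ThreeTransSU
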