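import Mathlib
import Cfsg.Agent.Lib.Helper1.S1233Defs
import Cfsg.Agent.Lib.Helper1.S1233Glue
import Cfsg.Agent.Lib.Helper3.S1233B2c
import Cfsg.Agent.Lib.Helper6.S1233A1
import Cfsg.Agent.Lib.Helper6.S1233A2

/-!
# S1233 farm, unit U-D4 (helper5): `D4_j1`, `D4_B`
-/

set_option autoImplicit false

namespace Cfsg.Agent.Lib.Helper5.S1233

open Cfsg.Agent.Lib.Helper1.S1233

variable {S : Type*} [Group S] {Q₁ Q₂ : Subgroup S} {d : Dat S}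

/-- elements of `⟨z⟩` for an involution `z` -/
theorem mem_Zs_iff {z : S} (hz : z * z = 1) {x : S} : x ∈ Zs z ↔ x = 1 ∨ x = z := by
  constructor
  · intro h
    obtain ⟨k, rfl⟩ := Subgroup.mem_zpowers_iff.mp h
    have hz2 : z ^ (2 : ℤ) = 1 := by rw [zpow_two]; exact hz
    rcases Int.emod_two_eq_zero_or_one k with h0 | h1
    · left
      have hk : k = 2 * (k / 2) := by omega
      rw [hk, zpow_mul, hz2, one_zpow]
    · right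
      have hk : k = 2 * (k / 2) + 1 := by omega
      rw [hk, zpow_add, zpow_mul, hz2, one_zpow, one_mul, zpow_one]
  · rintro (rfl | rfl)
    · exact one_mem _
    · exact Subgroup.mem_zpowers _

theorem Zs_central {z : S} (hzc : ∀ g : S, g * z = z * g) (hz : z * z = 1) :
    ∀ t ∈ Zs z, ∀ g : S, g * t = t * g := by
  intro t ht g
  rcases (mem_Zs_iff hz).mp ht with rfl | rfl
  · rw [mul_one, one_mul]
  · exact hzc g

theorem cm_mul' (x a b : S) : cm x (a * b) = cm x b * (b⁻¹ * cm x a * b) := by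
  show x⁻¹ * (a * b)⁻¹ * x * (a * b) = x⁻¹ * b⁻¹ * x * b * (b⁻¹ * (x⁻¹ * a⁻¹ * x * a) * b)
  group

theorem cm_inv' (x a : S) : cm x a⁻¹ = a * (cm x a)⁻¹ * a⁻¹ := by
  show x⁻¹ * a⁻¹⁻¹ * x * a⁻¹ = a * (x⁻¹ * a⁻¹ * x * a)⁻¹ * a⁻¹
  group

/-- `{a | [x, a] ∈ ⟨z⟩}` is closed under the group operations when `z` is a central involution -/
theorem cm_mem_of_closure {z : S} (hzc : ∀ g : S, g * z = z * g) (hz : z * z = 1) (x : S)
    (T : Set S) (h : ∀ t ∈ T, cm x t ∈ Zs z) : ∀ a ∈ Subgroup.closure T, cm x a ∈ Zs z := by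
  intro a ha
  induction ha using Subgroup.closure_induction with
  | mem t ht => exact h t ht
  | one =>
    have h1 : cm x (1 : S) = 1 := by
      show x⁻¹ * (1 : S)⁻¹ * x * 1 = 1
      group
    rw [h1]
    exact one_mem _
  | mul a b _ _ iha ihb =>
    rw [cm_mul']
    have hc : b⁻¹ * cm x a * b = cm x a := by
      rw [mul_assoc, ← Zs_central hzc hz _ iha b, ← mul_assoc, inv_mul_cancel, one_mul]
    rw [hc]
    exact mul_mem ihb iha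
  | inv a _ iha =>
    rw [cm_inv']
    have hc : a * (cm x a)⁻¹ * a⁻¹ = (cm x a)⁻¹ := by
      rw [Zs_central hzc hz _ (inv_mem iha) a, mul_assoc, mul_inv_cancel, mul_one]
    rw [hc]
    exact inv_mem iha

/-- two commuting elements have trivial commutator -/
theorem cm_eq_one_of_comm {x a : S} (h : a * x = x * a) : cm x a = 1 := by
  show x⁻¹ * a⁻¹ * x * a = 1
  have h' : x * a = a * x := h.symm
  calc x⁻¹ * a⁻¹ * x * a = x⁻¹ * a⁻¹ * (x * a) := by group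
    _ = x⁻¹ * a⁻¹ * (a * x) := by rw [h']
    _ = 1 := by group

/-- D4, first half -/
theorem D4_j1 (hC : Ctx Q₁ Q₂ d) (h1 : 3 ≤ d.n₁) (h2 : 3 ≤ d.n₂) : ∀ r ∈ Rs d.i₁ d.i₂,
    cm r (d.j₁) ∈ Zs d.z → ∃ a : ℕ, ∃ y ∈ Subgroup.zpowers d.c₂, r = d.i₁ ^ a * y := by
  intro r hr hj
  have hB := hC.base
  have hfin := hB.fin
  have hzc := hB.z_central
  have hz := hB.z_sq
  have hi1 : d.i₁ ∈ Q₁ := hC.s1.i_mem
  have hi2 : d.i₂ ∈ Q₂ := hC.s2.i_mem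
  have hi1sq : d.i₁ * d.i₁ = d.z := Helper3.S1233B2.side_i_sq hC.s1
  have hri1 : d.i₁ * r = r * d.i₁ := Subgroup.mem_centralizer_iff.mp hr d.i₁ (by simp)
  have hri2 : d.i₂ * r = r * d.i₂ := Subgroup.mem_centralizer_iff.mp hr d.i₂ (by simp)
  have hQ1 : Q₁ = Subgroup.closure {d.i₁, d.j₁} := Helper3.S1233B2.side_q_of (Helper6.S1233A.A1_q8 hB) (Helper6.S1233A.A1_q8_gen hB) hC.s1
  have hall : ∀ a ∈ Q₁, cm r a ∈ Zs d.z := by
    intro a ha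
    rw [hQ1] at ha
    refine cm_mem_of_closure hzc hz r _ ?_ a ha
    intro t ht
    rcases ht with rfl | rfl
    · rw [cm_eq_one_of_comm hri1]
      exact one_mem _
    · exact hj
  obtain ⟨q, hq, y, hy, rfl⟩ := Helper6.S1233A.A5 hB r hall
  have hy' : ∀ h ∈ Q₁, h * y = y * h := fun h hh => Subgroup.mem_centralizer_iff.mp hy h hh
  -- `q` commutes with `i₁`
  have hqi1 : d.i₁ * q = q * d.i₁ := by
    have h3 := hy' d.i₁ hi1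
    calc d.i₁ * q = d.i₁ * (q * y) * y⁻¹ := by group
      _ = (q * y) * d.i₁ * y⁻¹ := by rw [hri1]
      _ = q * (y * d.i₁) * y⁻¹ := by group
      _ = q * (d.i₁ * y) * y⁻¹ := by rw [h3]
      _ = q * d.i₁ := by group
  -- hence `q ∈ ⟨i₁⟩`
  have hqmem : q ∈ Subgroup.zpowers d.i₁ := by
    by_contra hq'
    rcases Helper6.S1233A.A1_q8 hB q hq with hqz | hqq
    · rcases (mem_Zs_iff hz).mp hqz with rfl | rfl
      · exact hq' (one_mem _)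
      · apply hq'
        rw [← hi1sq, ← pow_two]
        exact pow_mem (Subgroup.mem_zpowers _) 2
    · have h4 := (Helper6.S1233A.A1_q8_gen hB d.i₁ hi1 q hq hi1sq hqq hq').1
      have h5 : q⁻¹ * d.i₁ * q = d.i₁ := by
        rw [mul_assoc, hqi1, ← mul_assoc, inv_mul_cancel, one_mul]
      rw [h5] at h4
      have h6 : d.i₁ * d.i₁ = 1 := by
        nth_rewrite 2 [h4]
        exact mul_inv_cancel _
      rw [hi1sq] at h6
      exact hB.z_ne h6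
  obtain ⟨a, ha⟩ := (Submonoid.mem_powers_iff _ _).mp ((mem_powers_iff_mem_zpowers).mpr hqmem)
  -- `y` commutes with `i₂`
  have hqi2 : q * d.i₂ = d.i₂ * q := hB.comm q hq d.i₂ hi2
  have hyi2 : y * d.i₂ = d.i₂ * y := by
    have h7 : q * (y * d.i₂) = q * (d.i₂ * y) := by
      calc q * (y * d.i₂) = (q * y) * d.i₂ := by group
        _ = d.i₂ * (q * y) := hri2.symm
        _ = (d.i₂ * q) * y := by group
        _ = (q * d.i₂) * y := by rw [hqi2]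
        _ = q * (d.i₂ * y) := by group
    exact mul_left_cancel h7
  have hy2 : y ∈ Subgroup.zpowers d.c₂ :=
    Helper3.S1233B2.side_cent_i (base_symm hB) hC.s2 h2 y hy hyi2
  exact ⟨a, y, hy2, by rw [ha]⟩

/-- `C_S(Q₂) ∩ C_S(Q₁) = ⟨z⟩` -/
theorem side_inf' {z : S} (hB : Base Q₁ Q₂ z) : cen Q₂ ⊓ cen Q₁ = Zs z :=
  Helper3.S1233B2.side_inf_of hB (Helper6.S1233A.A1_inf hB) (Helper6.S1233A.A3_cent hB)
    (fun x hx h => Helper6.S1233A.A3_cent (base_symm hB) x (by rw [sup_comm]; exact hx) h)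

/-- the symmetric version of `D4_j1` -/
theorem D4_j2 (hC : Ctx Q₁ Q₂ d) (h1 : 3 ≤ d.n₁) (h2 : 3 ≤ d.n₂) : ∀ r ∈ Rs d.i₁ d.i₂,
    cm r (d.j₂) ∈ Zs d.z → ∃ a : ℕ, ∃ y ∈ Subgroup.zpowers d.c₁, r = d.i₂ ^ a * y := by
  intro r hr hj
  have hr' : r ∈ Rs d.swap.i₁ d.swap.i₂ := by
    show r ∈ Rs d.i₂ d.i₁
    rw [Rs_comm]
    exact hr
  exact D4_j1 (ctx_symm hC) h2 h1 r hr' hj

/-- D4, second half -/
theorem D4_B (hC : Ctx Q₁ Q₂ d) (h1 : 3 ≤ d.n₁) (h2 : 3 ≤ d.n₂) : ∀ r ∈ Rs d.i₁ d.i₂,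
    cm r (d.j₁) ∈ Zs d.z → cm r (d.j₂) ∈ Zs d.z → r ∈ Bs d.i₁ d.i₂ := by
  intro r hr hj1 hj2
  have hB := hC.base
  have hz := hB.z_sq
  have hi1 : d.i₁ ∈ Q₁ := hC.s1.i_mem
  have hi2 : d.i₂ ∈ Q₂ := hC.s2.i_mem
  have hi1sq : d.i₁ * d.i₁ = d.z := Helper3.S1233B2.side_i_sq hC.s1
  obtain ⟨a, y, hy, hr1⟩ := D4_j1 hC h1 h2 r hr hj1
  obtain ⟨b, y', hy', hr2⟩ := D4_j2 hC h1 h2 r hr hj2
  have hi1c : d.i₁ ∈ Subgroup.zpowers d.c₁ := by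
    rw [hC.s1.i_eq]
    exact pow_mem (Subgroup.mem_zpowers _) _
  have hi2c : d.i₂ ∈ Subgroup.zpowers d.c₂ := by
    rw [hC.s2.i_eq]
    exact pow_mem (Subgroup.mem_zpowers _) _
  have hcomm12 : Commute d.i₁ d.i₂ := hB.comm d.i₁ hi1 d.i₂ hi2
  -- `t := (i₂ ^ b)⁻¹ * y = y' * (i₁ ^ a)⁻¹`
  have ht2 : (d.i₂ ^ b)⁻¹ * y ∈ Subgroup.zpowers d.c₂ :=
    mul_mem (inv_mem (pow_mem hi2c b)) hy
  have ht1 : y' * (d.i₁ ^ a)⁻¹ ∈ Subgroup.zpowers d.c₁ :=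
    mul_mem hy' (inv_mem (pow_mem hi1c a))
  have hcomm' : y' * (d.i₁ ^ a)⁻¹ = (d.i₁ ^ a)⁻¹ * y' := by
    obtain ⟨k, hk⟩ := Subgroup.mem_zpowers_iff.mp hy'
    obtain ⟨l, hl⟩ := Subgroup.mem_zpowers_iff.mp (inv_mem (pow_mem hi1c a))
    rw [← hk, ← hl, zpow_mul_comm]
  have heq : (d.i₂ ^ b)⁻¹ * y = y' * (d.i₁ ^ a)⁻¹ := by
    have h3 : d.i₁ ^ a * y = d.i₂ ^ b * y' := by rw [← hr1, ← hr2]
    have h4 : (d.i₁ ^ a)⁻¹ * (d.i₂ ^ b)⁻¹ = (d.i₂ ^ b)⁻¹ * (d.i₁ ^ a)⁻¹ :=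
      ((hcomm12.pow_pow a b).inv_inv).eq
    calc (d.i₂ ^ b)⁻¹ * y = (d.i₂ ^ b)⁻¹ * ((d.i₁ ^ a)⁻¹ * (d.i₁ ^ a * y)) := by group
      _ = (d.i₂ ^ b)⁻¹ * ((d.i₁ ^ a)⁻¹ * (d.i₂ ^ b * y')) := by rw [h3]
      _ = ((d.i₂ ^ b)⁻¹ * (d.i₁ ^ a)⁻¹) * d.i₂ ^ b * y' := by group
      _ = ((d.i₁ ^ a)⁻¹ * (d.i₂ ^ b)⁻¹) * d.i₂ ^ b * y' := by rw [h4]
      _ = (d.i₁ ^ a)⁻¹ * y' := by group
      _ = y' * (d.i₁ ^ a)⁻¹ := hcomm'.symm
  have htZ : (d.i₂ ^ b)⁻¹ * y ∈ Zs d.z := by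
    rw [← side_inf' hB]
    refine ⟨?_, ?_⟩
    · rw [heq]
      exact (Subgroup.zpowers_le.mpr hC.s1.c_mem) ht1
    · exact (Subgroup.zpowers_le.mpr hC.s2.c_mem) ht2
  have hi1B : d.i₁ ∈ Bs d.i₁ d.i₂ := Subgroup.subset_closure (by simp)
  have hi2B : d.i₂ ∈ Bs d.i₁ d.i₂ := Subgroup.subset_closure (by simp)
  have hzB : d.z ∈ Bs d.i₁ d.i₂ := by
    rw [← hi1sq]
    exact mul_mem hi1B hi1B
  have htB : (d.i₂ ^ b)⁻¹ * y ∈ Bs d.i₁ d.i₂ := by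
    rcases (mem_Zs_iff hz).mp htZ with h | h
    · rw [h]; exact one_mem _
    · rw [h]; exact hzB
  have hyB : y ∈ Bs d.i₁ d.i₂ := by
    have : y = d.i₂ ^ b * ((d.i₂ ^ b)⁻¹ * y) := by group
    rw [this]
    exact mul_mem (pow_mem hi2B b) htB
  rw [hr1]
  exact mul_mem (pow_mem hi1B a) hyB

end Cfsg.Agent.Lib.Helper5.S1233
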