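import Mathlib
import Cfsg.Prelude.Def_DegreeGraph
import Cfsg.Agent.Lib.Helper6.Multiplicity

/-!
# S3670, unit FIN: a group of order 6048 with degrees divisible by 6, 14, 21 has
degree primes {2,3,7} and the complete degree graph on {2,3,7}.
-/

set_option autoImplicit false

namespace Cfsg.Agent.Lib.Helper5.S3670Fin

open Cfsg Cfsg.Agent.Lib.Helper6

/-- the complete graph on `{2,3,7}` as a graph on `ℕ` -/
def h5_graph237 : SimpleGraph ℕ where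
  Adj p q := p ≠ q ∧ (p = 2 ∨ p = 3 ∨ p = 7) ∧ (q = 2 ∨ q = 3 ∨ q = 7)
  symm := ⟨fun _ _ h => ⟨Ne.symm h.1, h.2.2, h.2.1⟩⟩
  loopless := ⟨fun _ h => h.1 rfl⟩

theorem h5_prime_dvd_6048 {p : ℕ} (hp : p.Prime) (h : p ∣ 6048) : p = 2 ∨ p = 3 ∨ p = 7 := by
  have h6048 : (6048 : ℕ) = 2 ^ 5 * 3 ^ 3 * 7 := by norm_num
  rw [h6048] at h
  rcases (Nat.Prime.dvd_mul hp).mp h with h1 | h1
  · rcases (Nat.Prime.dvd_mul hp).mp h1 with h2 | h2
    · left
      exact (Nat.prime_dvd_prime_iff_eq hp Nat.prime_two).mp (hp.dvd_of_dvd_pow h2)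
    · right; left
      exact (Nat.prime_dvd_prime_iff_eq hp Nat.prime_three).mp (hp.dvd_of_dvd_pow h2)
  · right; right
    exact (Nat.prime_dvd_prime_iff_eq hp (by norm_num)).mp h1

theorem h5_degree_dvd {K : Type*} [Group K] [Finite K] (hK : Nat.card K = 6048) {d : ℕ}
    (hd : d ∈ Cfsg.charDegrees K) : d ∣ 6048 := by
  classical
  haveI : Fintype K := Fintype.ofFinite K
  obtain ⟨χ, rfl⟩ := hd
  rw [← hK]
  exact IsIrrCharacter.charDegree_dvd_card χ.2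

/-- FIN, vertex part. -/
theorem degreePrimes_eq {K : Type*} [Group K] [Finite K] (hK : Nat.card K = 6048)
    (h6 : ∃ d ∈ Cfsg.charDegrees K, 6 ∣ d) (h14 : ∃ d ∈ Cfsg.charDegrees K, 14 ∣ d)
    (h21 : ∃ d ∈ Cfsg.charDegrees K, 21 ∣ d) :
    Cfsg.degreePrimes K = {2, 3, 7} := by
  ext p
  simp only [Cfsg.degreePrimes, Set.mem_setOf_eq, Set.mem_insert_iff, Set.mem_singleton_iff]
  constructor
  · rintro ⟨hp, d, hd, hpd⟩
    exact h5_prime_dvd_6048 hp (hpd.trans (h5_degree_dvd hK hd))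
  · rintro (rfl | rfl | rfl)
    · obtain ⟨d, hd, h⟩ := h6
      exact ⟨Nat.prime_two, d, hd, (by norm_num : (2 : ℕ) ∣ 6).trans h⟩
    · obtain ⟨d, hd, h⟩ := h6
      exact ⟨Nat.prime_three, d, hd, (by norm_num : (3 : ℕ) ∣ 6).trans h⟩
    · obtain ⟨d, hd, h⟩ := h14
      exact ⟨by norm_num, d, hd, (by norm_num : (7 : ℕ) ∣ 14).trans h⟩

/-- FIN, edge part. -/
theorem degreeGraph_eq {K : Type*} [Group K] [Finite K] (hK : Nat.card K = 6048)
    (h6 : ∃ d ∈ Cfsg.charDegrees K, 6 ∣ d) (h14 : ∃ d ∈ Cfsg.charDegrees K, 14 ∣ d)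
    (h21 : ∃ d ∈ Cfsg.charDegrees K, 21 ∣ d) :
    Cfsg.degreeGraph K = h5_graph237 := by
  ext p q
  simp only [Cfsg.degreeGraph, h5_graph237]
  constructor
  · rintro ⟨hne, hp, hq, d, hd, hpq⟩
    have hd' := h5_degree_dvd hK hd
    exact ⟨hne, h5_prime_dvd_6048 hp ((Dvd.intro _ rfl).trans (hpq.trans hd')),
      h5_prime_dvd_6048 hq ((Dvd.intro_left _ rfl).trans (hpq.trans hd'))⟩
  · rintro ⟨hne, hp, hq⟩
    obtain ⟨d6, hd6, h6'⟩ := h6
    obtain ⟨d14, hd14, h14'⟩ := h14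
    obtain ⟨d21, hd21, h21'⟩ := h21
    have p2 : (2 : ℕ).Prime := Nat.prime_two
    have p3 : (3 : ℕ).Prime := Nat.prime_three
    have p7 : (7 : ℕ).Prime := by norm_num
    rcases hp with rfl | rfl | rfl <;> rcases hq with rfl | rfl | rfl
    · exact absurd rfl hne
    · exact ⟨hne, p2, p3, d6, hd6, by simpa using h6'⟩
    · exact ⟨hne, p2, p7, d14, hd14, by simpa using h14'⟩
    · exact ⟨hne, p3, p2, d6, hd6, by simpa using h6'⟩
    · exact absurd rfl hne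
    · exact ⟨hne, p3, p7, d21, hd21, by simpa using h21'⟩
    · exact ⟨hne, p7, p2, d14, hd14, by simpa using h14'⟩
    · exact ⟨hne, p7, p3, d21, hd21, by simpa using h21'⟩
    · exact absurd rfl hne

/-- FIN, the form used in S3670: two groups of order 6048 each having degrees divisible by
6, 14 and 21 have the same degree primes and the same degree graph. -/
theorem same_degreeGraph {K : Type*} {L : Type*} [Group K] [Finite K] [Group L] [Finite L]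
    (hK : Nat.card K = 6048) (hL : Nat.card L = 6048)
    (hK6 : ∃ d ∈ Cfsg.charDegrees K, 6 ∣ d) (hK14 : ∃ d ∈ Cfsg.charDegrees K, 14 ∣ d)
    (hK21 : ∃ d ∈ Cfsg.charDegrees K, 21 ∣ d)
    (hL6 : ∃ d ∈ Cfsg.charDegrees L, 6 ∣ d) (hL14 : ∃ d ∈ Cfsg.charDegrees L, 14 ∣ d)
    (hL21 : ∃ d ∈ Cfsg.charDegrees L, 21 ∣ d) :
    Cfsg.degreePrimes K = Cfsg.degreePrimes L ∧ Cfsg.degreeGraph K = Cfsg.degreeGraph L := by
  refine ⟨?_, ?_⟩
  · rw [degreePrimes_eq hK hK6 hK14 hK21, degreePrimes_eq hL hL6 hL14 hL21]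
  · rw [degreeGraph_eq hK hK6 hK14 hK21, degreeGraph_eq hL hL6 hL14 hL21]

/-- a degree divisible by 42 gives the three hypotheses at once -/
theorem h5_of_42 {K : Type*} [Group K] (h : ∃ d ∈ Cfsg.charDegrees K, 42 ∣ d) :
    (∃ d ∈ Cfsg.charDegrees K, 6 ∣ d) ∧ (∃ d ∈ Cfsg.charDegrees K, 14 ∣ d) ∧
      (∃ d ∈ Cfsg.charDegrees K, 21 ∣ d) := by
  obtain ⟨d, hd, h42⟩ := h
  exact ⟨⟨d, hd, (by norm_num : (6 : ℕ) ∣ 42).trans h42⟩,
    ⟨d, hd, (by norm_num : (14 : ℕ) ∣ 42).trans h42⟩,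
    ⟨d, hd, (by norm_num : (21 : ℕ) ∣ 42).trans h42⟩⟩

end Cfsg.Agent.Lib.Helper5.S3670Fin
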