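import Mathlib
import Cfsg.Agent.Lib.Helper3.SpMinDefs
import Cfsg.Agent.Lib.Helper5.SympBridge
set_option autoImplicit false
set_option maxHeartbeats 4000000
set_option linter.unusedVariables false
set_option linter.unusedSectionVars false
set_option linter.style.longLine false
open Matrix Cfsg

/-! # S2142 unit B1 : the Levi quotient of the stabilizer of `e0` in `Sp_{2(1+l)}`
(plus coordinate calculus for `emb`, `e0`, `f0` used again in unit B2) -/

namespace Cfsg.Agent.Lib.Helper5.SpMin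

open Cfsg.Agent.Lib.Helper5 Cfsg.Agent.Lib.Helper5.SympTv Cfsg.Agent.Lib.Helper3.SpMin
open Cfsg.Agent.Lib.Helper5.SympBlock

variable {F : Type*} [Field F]

/-- projection onto the coordinates of `⟨e0,f0⟩^⊥` -/
def prj (l : ℕ) (x : Fin (1 + l) ⊕ Fin (1 + l) → F) : Fin l ⊕ Fin l → F :=
  fun j => x (eKL 1 l (Sum.inr j))

/-- the `e0`-coordinate -/
def cE (l : ℕ) (x : Fin (1 + l) ⊕ Fin (1 + l) → F) : F := x (eKL 1 l (Sum.inl (Sum.inl 0)))

/-- the `f0`-coordinate -/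
def cF (l : ℕ) (x : Fin (1 + l) ⊕ Fin (1 + l) → F) : F := x (eKL 1 l (Sum.inl (Sum.inr 0)))

theorem emb_inr (l : ℕ) (u : Fin l ⊕ Fin l → F) (j : Fin l ⊕ Fin l) :
    emb l u (eKL 1 l (Sum.inr j)) = u j := by
  unfold emb
  rw [Equiv.symm_apply_apply]
  rfl

theorem emb_inl (l : ℕ) (u : Fin l ⊕ Fin l → F) (j : Fin 1 ⊕ Fin 1) :
    emb l u (eKL 1 l (Sum.inl j)) = 0 := by
  unfold emb
  rw [Equiv.symm_apply_apply]
  rfl

theorem prj_emb (l : ℕ) (u : Fin l ⊕ Fin l → F) : prj l (emb l u) = u := by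
  funext j
  exact emb_inr l u j

theorem cE_emb (l : ℕ) (u : Fin l ⊕ Fin l → F) : cE l (emb l u) = 0 := emb_inl l u _

theorem cF_emb (l : ℕ) (u : Fin l ⊕ Fin l → F) : cF l (emb l u) = 0 := emb_inl l u _

theorem prj_add (l : ℕ) (x y : Fin (1 + l) ⊕ Fin (1 + l) → F) : prj l (x + y) = prj l x + prj l y := rfl

theorem prj_smul (l : ℕ) (a : F) (x : Fin (1 + l) ⊕ Fin (1 + l) → F) : prj l (a • x) = a • prj l x := rfl

theorem cE_add (l : ℕ) (x y : Fin (1 + l) ⊕ Fin (1 + l) → F) : cE l (x + y) = cE l x + cE l y := rfl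

theorem cF_add (l : ℕ) (x y : Fin (1 + l) ⊕ Fin (1 + l) → F) : cF l (x + y) = cF l x + cF l y := rfl

theorem cE_smul (l : ℕ) (a : F) (x : Fin (1 + l) ⊕ Fin (1 + l) → F) : cE l (a • x) = a * cE l x := rfl

theorem cF_smul (l : ℕ) (a : F) (x : Fin (1 + l) ⊕ Fin (1 + l) → F) : cF l (a • x) = a * cF l x := rfl

theorem prj_e0 (l : ℕ) : prj l (SympCard.e0 F l) = 0 := by
  funext j
  show (Pi.single (eKL 1 l (Sum.inl (Sum.inl 0))) (1 : F) : _ → F) (eKL 1 l (Sum.inr j)) = 0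
  rw [Pi.single_apply, if_neg]
  intro h
  exact Sum.inr_ne_inl ((eKL 1 l).injective h)

theorem prj_f0 (l : ℕ) : prj l (SympCard.f0 F l) = 0 := by
  funext j
  show (Pi.single (eKL 1 l (Sum.inl (Sum.inr 0))) (1 : F) : _ → F) (eKL 1 l (Sum.inr j)) = 0
  rw [Pi.single_apply, if_neg]
  intro h
  exact Sum.inr_ne_inl ((eKL 1 l).injective h)

theorem cE_e0 (l : ℕ) : cE l (SympCard.e0 F l) = 1 := by
  show (Pi.single (eKL 1 l (Sum.inl (Sum.inl 0))) (1 : F) : _ → F) (eKL 1 l (Sum.inl (Sum.inl 0))) = 1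
  rw [Pi.single_eq_same]

theorem cF_e0 (l : ℕ) : cF l (SympCard.e0 F l) = 0 := by
  show (Pi.single (eKL 1 l (Sum.inl (Sum.inl 0))) (1 : F) : _ → F) (eKL 1 l (Sum.inl (Sum.inr 0))) = 0
  rw [Pi.single_apply, if_neg]
  intro h
  have := (eKL 1 l).injective h
  simp at this

theorem cE_f0 (l : ℕ) : cE l (SympCard.f0 F l) = 0 := by
  show (Pi.single (eKL 1 l (Sum.inl (Sum.inr 0))) (1 : F) : _ → F) (eKL 1 l (Sum.inl (Sum.inl 0))) = 0
  rw [Pi.single_apply, if_neg]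
  intro h
  have := (eKL 1 l).injective h
  simp at this

theorem cF_f0 (l : ℕ) : cF l (SympCard.f0 F l) = 1 := by
  show (Pi.single (eKL 1 l (Sum.inl (Sum.inr 0))) (1 : F) : _ → F) (eKL 1 l (Sum.inl (Sum.inr 0))) = 1
  rw [Pi.single_eq_same]

/-- every vector is `emb (prj x) + cE x • e0 + cF x • f0` -/
theorem decomp (l : ℕ) (x : Fin (1 + l) ⊕ Fin (1 + l) → F) :
    x = emb l (prj l x) + cE l x • SympCard.e0 F l + cF l x • SympCard.f0 F l := by
  funext i
  obtain ⟨i', rfl⟩ := (eKL 1 l).surjective i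
  rcases i' with (i' | i') | j
  · have : i' = 0 := Subsingleton.elim _ _
    subst this
    show cE l x = cE l (emb l (prj l x)) + cE l x * cE l (SympCard.e0 F l)
      + cF l x * cE l (SympCard.f0 F l)
    rw [cE_emb, cE_e0, cE_f0]
    ring
  · have : i' = 0 := Subsingleton.elim _ _
    subst this
    show cF l x = cF l (emb l (prj l x)) + cE l x * cF l (SympCard.e0 F l)
      + cF l x * cF l (SympCard.f0 F l)
    rw [cF_emb, cF_e0, cF_f0]
    ring
  · show prj l x j = prj l (emb l (prj l x)) j + cE l x * prj l (SympCard.e0 F l) j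
      + cF l x * prj l (SympCard.f0 F l) j
    rw [prj_emb, prj_e0, prj_f0]
    simp

theorem sympForm_eq' (m : ℕ) (x y : Fin m ⊕ Fin m → F) :
    sympForm m F x y = ∑ i, (x (Sum.inr i) * y (Sum.inl i) - x (Sum.inl i) * y (Sum.inr i)) := by
  unfold sympForm
  simp [dotProduct, mulVec, J, Fintype.sum_sum_type, Matrix.one_apply]
  ring

/-- the form in the coordinates `prj`, `cE`, `cF` -/
theorem sympForm_split (l : ℕ) (x y : Fin (1 + l) ⊕ Fin (1 + l) → F) :
    sympForm (1 + l) F x y =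
      cF l x * cE l y - cE l x * cF l y + sympForm l F (prj l x) (prj l y) := by
  rw [sympForm_eq', sympForm_eq', Fin.sum_univ_add]
  simp [prj, cE, cF]

theorem sympForm_emb_emb' (l : ℕ) (u u' : Fin l ⊕ Fin l → F) :
    sympForm (1 + l) F (emb l u) (emb l u') = sympForm l F u u' := by
  rw [sympForm_split, cF_emb, cE_emb, cF_emb, cE_emb, prj_emb, prj_emb]
  ring

theorem sympForm_e0_right (l : ℕ) (x : Fin (1 + l) ⊕ Fin (1 + l) → F) :
    sympForm (1 + l) F x (SympCard.e0 F l) = cF l x := by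
  rw [sympForm_split, cE_e0, cF_e0, prj_e0]
  unfold sympForm
  simp

theorem sympForm_f0_right (l : ℕ) (x : Fin (1 + l) ⊕ Fin (1 + l) → F) :
    sympForm (1 + l) F x (SympCard.f0 F l) = - cE l x := by
  rw [sympForm_split, cE_f0, cF_f0, prj_f0]
  unfold sympForm
  simp

theorem sympForm_emb_right (l : ℕ) (x : Fin (1 + l) ⊕ Fin (1 + l) → F) (u : Fin l ⊕ Fin l → F) :
    sympForm (1 + l) F x (emb l u) = sympForm l F (prj l x) u := by
  rw [sympForm_split, cE_emb, cF_emb, prj_emb]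
  ring

/-- vectors orthogonal to `e0` are `emb (prj x) + cE x • e0` -/
theorem decomp_perp (l : ℕ) (x : Fin (1 + l) ⊕ Fin (1 + l) → F) (hx : cF l x = 0) :
    x = emb l (prj l x) + cE l x • SympCard.e0 F l := by
  conv_lhs => rw [decomp l x, hx, zero_smul, add_zero]

/-- the image of `emb u` under an element of `Ge` is orthogonal to `e0` -/
theorem cF_Ge_emb (l : ℕ) (g : symplecticGroup (Fin (1 + l)) F) (hg : g ∈ Ge F l)
    (u : Fin l ⊕ Fin l → F) : cF l (g.1 *ᵥ emb l u) = 0 := by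
  rw [← sympForm_e0_right]
  conv_lhs => rw [← (mem_Ge g).mp hg]
  rw [sympForm_mulVec _ g.2, sympForm_e0_right, cF_emb]

/-- the middle block -/
def midBlock (l : ℕ) (A : Matrix (Fin (1 + l) ⊕ Fin (1 + l)) (Fin (1 + l) ⊕ Fin (1 + l)) F) :
    Matrix (Fin l ⊕ Fin l) (Fin l ⊕ Fin l) F :=
  Matrix.of fun i j => A (eKL 1 l (Sum.inr i)) (eKL 1 l (Sum.inr j))

theorem sum_mul_emb (l : ℕ) (r : Fin (1 + l) ⊕ Fin (1 + l) → F) (u : Fin l ⊕ Fin l → F) :
    ∑ k, r k * emb l u k = ∑ j, r (eKL 1 l (Sum.inr j)) * u j := by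
  rw [← Equiv.sum_comp (eKL 1 l) (fun k => r k * emb l u k), Fintype.sum_sum_type]
  rw [Finset.sum_eq_zero (fun a _ => by rw [emb_inl, mul_zero]), zero_add]
  exact Finset.sum_congr rfl (fun j _ => by rw [emb_inr])

theorem midBlock_mulVec (l : ℕ) (A : Matrix (Fin (1 + l) ⊕ Fin (1 + l)) (Fin (1 + l) ⊕ Fin (1 + l)) F)
    (u : Fin l ⊕ Fin l → F) : midBlock l A *ᵥ u = prj l (A *ᵥ emb l u) := by
  funext i
  exact (sum_mul_emb l (fun k => A (eKL 1 l (Sum.inr i)) k) u).symm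

theorem midBlock_mem (l : ℕ) (g : symplecticGroup (Fin (1 + l)) F) (hg : g ∈ Ge F l) :
    midBlock l g.1 ∈ symplecticGroup (Fin l) F := by
  rw [SympBridge.mem_symplectic_iff]
  intro u v
  rw [midBlock_mulVec, midBlock_mulVec]
  have h1 := sympForm_split l (g.1 *ᵥ emb l u) (g.1 *ᵥ emb l v)
  rw [cF_Ge_emb l g hg, cF_Ge_emb l g hg, sympForm_mulVec _ g.2, sympForm_emb_emb'] at h1
  rw [h1]
  ring

theorem Ge_mulVec_emb (l : ℕ) (g : symplecticGroup (Fin (1 + l)) F) (hg : g ∈ Ge F l)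
    (u : Fin l ⊕ Fin l → F) :
    g.1 *ᵥ emb l u = emb l (midBlock l g.1 *ᵥ u) + cE l (g.1 *ᵥ emb l u) • SympCard.e0 F l := by
  rw [midBlock_mulVec]
  exact decomp_perp l _ (cF_Ge_emb l g hg u)

theorem midBlock_mul (l : ℕ) (g h : symplecticGroup (Fin (1 + l)) F) (hg : g ∈ Ge F l)
    (hh : h ∈ Ge F l) : midBlock l (g.1 * h.1) = midBlock l g.1 * midBlock l h.1 := by
  apply Matrix.ext_of_mulVec_single
  intro j
  rw [midBlock_mulVec, ← mulVec_mulVec, ← mulVec_mulVec, midBlock_mulVec, midBlock_mulVec]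
  conv_lhs => rw [Ge_mulVec_emb l h hh, mulVec_add, mulVec_smul, (mem_Ge g).mp hg, prj_add,
    prj_smul, prj_e0, smul_zero, add_zero, midBlock_mulVec]

/-- B1 : the Levi quotient -/
theorem exists_levi [Fintype F] (l : ℕ) :
    ∃ π : ↥(Ge F l) →* symplecticGroup (Fin l) F, Function.Surjective π ∧
      ∀ (g : ↥(Ge F l)) (u : Fin l ⊕ Fin l → F), ∃ a : F,
        g.1.1 *ᵥ emb l u = emb l ((π g).1 *ᵥ u) + a • SympCard.e0 F l := by
  refine ⟨MonoidHom.mk' (fun g => ⟨midBlock l g.1.1, midBlock_mem l g.1 g.2⟩) ?_, ?_, ?_⟩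
  · intro g h
    apply Subtype.ext
    exact midBlock_mul l g.1 h.1 g.2 h.2
  · intro S
    have hmem : (⟨SympBlock.blockDiag 1 l 1 S.1, blockDiag_mem 1 l (one_mem _) S.2⟩ :
        symplecticGroup (Fin (1 + l)) F) ∈ Ge F l := by
      rw [mem_Ge]
      exact SympCard.blockDiag_col l S.1 (Sum.inl 0)
    refine ⟨⟨_, hmem⟩, ?_⟩
    apply Subtype.ext
    show midBlock l (SympBlock.blockDiag 1 l 1 S.1) = S.1
    ext i j
    show SympBlock.blockDiag 1 l 1 S.1 (eKL 1 l (Sum.inr i)) (eKL 1 l (Sum.inr j)) = S.1 i j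
    unfold SympBlock.blockDiag
    rw [submatrix_apply, Equiv.symm_apply_apply, Equiv.symm_apply_apply, fromBlocks_apply₂₂]
  · intro g u
    exact ⟨_, Ge_mulVec_emb l g.1 g.2 u⟩

end Cfsg.Agent.Lib.Helper5.SpMin
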