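import Mathlib
import Cfsg.Agent.Lib.Helper3.SpMinDefs
import Cfsg.Agent.Lib.Helper4.SpMinT
import Cfsg.Agent.Lib.Helper5.SpMinB1
set_option autoImplicit false
set_option maxHeartbeats 4000000
set_option linter.unusedVariables false
set_option linter.unusedSectionVars false
set_option linter.style.longLine false
open Matrix Cfsg

/-! # S2142 unit B2 : elements of `Ge` acting trivially on `e0^⊥ / e0` are the `qel` -/

namespace Cfsg.Agent.Lib.Helper5.SpMin

open Cfsg.Agent.Lib.Helper5 Cfsg.Agent.Lib.Helper5.SympTv Cfsg.Agent.Lib.Helper3.SpMin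
open Cfsg.Agent.Lib.Helper5.SympBlock

variable {F : Type*} [Field F] [Fintype F]

theorem sympForm_zero_left' (m : ℕ) (v : Fin m ⊕ Fin m → F) : sympForm m F 0 v = 0 := by
  unfold sympForm
  rw [zero_dotProduct]

/-- the action of `qel u c` in coordinates -/
theorem qel_mulVec (hF : Fintype.card F = 2) (l : ℕ) (u : Fin l ⊕ Fin l → F) (c : F)
    (x : Fin (1 + l) ⊕ Fin (1 + l) → F) :
    (qel l u c).1 *ᵥ x = x + (sympForm (1 + l) F x (emb l u) + c * cF l x) • SympCard.e0 F l
      + cF l x • emb l u := by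
  have hue : sympForm (1 + l) F (emb l u) (SympCard.e0 F l) = 0 := by
    rw [sympForm_e0_right, cF_emb]
  rcases eq_zero_or_one hF c with hc | hc
  · subst hc
    unfold qel
    rw [if_pos rfl, mul_one, Helper4.SpMin.z_mulVec hF _ _ _ _ hue, sympForm_e0_right, zero_mul,
      add_zero]
  · subst hc
    unfold qel
    rw [if_neg one_ne_zero]
    show ((z (1 + l) (SympCard.e0 F l) (emb l u)).1 * (t (1 + l) (SympCard.e0 F l)).1) *ᵥ x = _
    rw [← mulVec_mulVec, t_mulVec, Helper4.SpMin.z_mulVec hF _ _ _ _ hue, sympForm_e0_right]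
    have h1 : sympForm (1 + l) F (x + cF l x • SympCard.e0 F l) (emb l u)
        = sympForm (1 + l) F x (emb l u) := by
      rw [sympForm_add_left, sympForm_smul_left, sympForm_emb_right l (SympCard.e0 F l), prj_e0,
        sympForm_zero_left', mul_zero, add_zero]
    have h2 : cF l (x + cF l x • SympCard.e0 F l) = cF l x := by
      rw [cF_add, cF_smul, cF_e0, mul_zero, add_zero]
    rw [h1, sympForm_e0_right, h2]
    module

/-- B2 : the kernel consists of the `qel` -/
theorem exists_qel_of (hF : Fintype.card F = 2) (l : ℕ) (g : symplecticGroup (Fin (1 + l)) F)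
    (hg : g ∈ Ge F l)
    (h : ∀ u : Fin l ⊕ Fin l → F, ∃ a : F, g.1 *ᵥ emb l u = emb l u + a • SympCard.e0 F l) :
    ∃ (u : Fin l ⊕ Fin l → F) (c : F), g = qel l u c := by
  have hge : g.1 *ᵥ SympCard.e0 F l = SympCard.e0 F l := (mem_Ge g).mp hg
  set Y := g.1 *ᵥ SympCard.f0 F l with hY
  have hYF : cF l Y = 1 := by
    rw [← sympForm_e0_right]
    conv_lhs => rw [← hge]
    rw [hY, sympForm_mulVec _ g.2, SympCard.sympForm_f0_e0]
  refine ⟨prj l Y, cE l Y, ?_⟩
  apply Subtype.ext
  -- the three families of basis vectors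
  have hB : g.1 *ᵥ SympCard.e0 F l = (qel l (prj l Y) (cE l Y)).1 *ᵥ SympCard.e0 F l := by
    rw [hge, qel_mulVec hF, cF_e0, sympForm_emb_right, prj_e0, sympForm_zero_left']
    simp
  have hC : g.1 *ᵥ SympCard.f0 F l = (qel l (prj l Y) (cE l Y)).1 *ᵥ SympCard.f0 F l := by
    rw [qel_mulVec hF, cF_f0, sympForm_emb_right, prj_f0, sympForm_zero_left', ← hY]
    conv_lhs => rw [decomp l Y, hYF]
    module
  have hA : ∀ u' : Fin l ⊕ Fin l → F,
      g.1 *ᵥ emb l u' = (qel l (prj l Y) (cE l Y)).1 *ᵥ emb l u' := by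
    intro u'
    obtain ⟨a, ha⟩ := h u'
    have h0 : sympForm (1 + l) F (g.1 *ᵥ emb l u') Y = 0 := by
      rw [hY, sympForm_mulVec _ g.2, sympForm_f0_right, cE_emb, neg_zero]
    rw [ha, sympForm_split, hYF, cF_add, cF_smul, cF_emb, cF_e0, cE_add, cE_smul, cE_emb, cE_e0,
      prj_add, prj_smul, prj_emb, prj_e0] at h0
    have ha' : a = sympForm l F u' (prj l Y) := by
      have : (0 : F) + a * 0 = 0 := by ring
      simp only [smul_zero, add_zero, mul_zero, zero_mul, zero_add, mul_one] at h0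
      linear_combination -h0
    rw [ha, qel_mulVec hF, cF_emb, sympForm_emb_emb', ← ha']
    simp
  apply Matrix.ext_of_mulVec_single
  intro i
  generalize (Pi.single i (1 : F) : Fin (1 + l) ⊕ Fin (1 + l) → F) = x
  rw [decomp l x, mulVec_add, mulVec_add, mulVec_smul, mulVec_smul, mulVec_add, mulVec_add,
    mulVec_smul, mulVec_smul, hA, hB, hC]

end Cfsg.Agent.Lib.Helper5.SpMin
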