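import Mathlib
import Cfsg.Agent.Lib.Helper5.ChevWEps
import Cfsg.Agent.Lib.Helper3.TDMConc

set_option autoImplicit false
set_option Elab.async false

/-!
Farm TDM (statement S2342), concrete unit GW: the Weyl elements `n_α`, `n_β`.
-/

namespace Cfsg.Agent.Lib.Helper5.TDM

open Cfsg Cfsg.Lie Cfsg.Agent.Lib.Helper5.ChevSym
  Cfsg.Agent.Lib.Helper5.ChevStruct Cfsg.Agent.Lib.Helper5.Tw3D4 Cfsg.Agent.Lib.Helper3.TDM

set_option maxRecDepth 100000 in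
theorem nA_tab : (∀ i ∈ [1], i < chevD4.rank) ∧
    wAct chevD4 [1] 23 = 22 ∧ wEps chevD4 [1] 23 = -1 ∧
    wAct chevD4 [1] 18 = 19 ∧ wEps chevD4 [1] 18 = 1 ∧
    wAct chevD4 [1] 13 = 16 ∧ wEps chevD4 [1] 13 = -1 ∧
    wAct chevD4 [1] 12 = 15 ∧ wEps chevD4 [1] 12 = -1 := by decide +kernel

set_option maxRecDepth 100000 in
theorem nB_tab : (∀ i ∈ [0, 2, 3], i < chevD4.rank) ∧
    wAct chevD4 [0, 2, 3] 23 = 23 ∧ wEps chevD4 [0, 2, 3] 23 = 1 ∧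
    wAct chevD4 [0, 2, 3] 14 = 22 ∧ wEps chevD4 [0, 2, 3] 14 = -1 ∧
    wAct chevD4 [0, 2, 3] 19 = 17 ∧ wEps chevD4 [0, 2, 3] 19 = 1 ∧
    wAct chevD4 [0, 2, 3] 16 = 20 ∧ wEps chevD4 [0, 2, 3] 16 = 1 ∧
    wAct chevD4 [0, 2, 3] 15 = 21 ∧ wEps chevD4 [0, 2, 3] 15 = 1 := by decide +kernel

variable {K : Type*} [Field K]

theorem nAG_conj_x (r : ℕ) (hr : r < chevD4.nroots) (t : K) :
    (nAG : GL chevD4.Idx K) * xGL chevD4 hD4 r t * nAG⁻¹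
      = xGL chevD4 hD4 (wAct chevD4 [1] r) ((wEps chevD4 [1] r : K) * t) :=
  wGL_conj_eps chevD4 hD4 [1] nA_tab.1 r hr t

theorem nBG_conj_x (r : ℕ) (hr : r < chevD4.nroots) (t : K) :
    (nBG : GL chevD4.Idx K) * xGL chevD4 hD4 r t * nBG⁻¹
      = xGL chevD4 hD4 (wAct chevD4 [0, 2, 3] r) ((wEps chevD4 [0, 2, 3] r : K) * t) :=
  wGL_conj_eps chevD4 hD4 [0, 2, 3] nB_tab.1 r hr t

/-- unit GW -/
theorem nAG_conj_zG (r : K) : (nAG : GL chevD4.Idx K) * zG r * nAG⁻¹ = xa3bG (-r) := by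
  have h := nAG_conj_x 23 (by decide) r
  rw [nA_tab.2.1, nA_tab.2.2.1] at h
  simpa [zG, xa3bG] using h

theorem nBG_conj_zG (r : K) : (nBG : GL chevD4.Idx K) * zG r * nBG⁻¹ = zG r := by
  have h := nBG_conj_x 23 (by decide) r
  rw [nB_tab.2.1, nB_tab.2.2.1] at h
  simpa [zG] using h

theorem nBG_conj_xaG (s : K) : (nBG : GL chevD4.Idx K) * xaG s * nBG⁻¹ = xa3bG (-s) := by
  have h := nBG_conj_x 14 (by decide) s
  rw [nB_tab.2.2.2.1, nB_tab.2.2.2.2.1] at h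
  simpa [xaG, xa3bG] using h

/-- `n_α` maps `x_β(t)` to `x_{α+β}(t)` -/
theorem nAG_conj_xbG (f : K →+* K) (t : K) :
    (nAG : GL chevD4.Idx K) * xbG f t * nAG⁻¹ = xabG f t := by
  have h18 := nAG_conj_x 18 (by decide) t
  have h13 := nAG_conj_x 13 (by decide) (f t)
  have h12 := nAG_conj_x 12 (by decide) (f (f t))
  obtain ⟨_, _, _, a18, e18, a13, e13, a12, e12⟩ := nA_tab
  rw [a18, e18] at h18
  rw [a13, e13] at h13
  rw [a12, e12] at h12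
  have key : ∀ a b c : GL chevD4.Idx K, (nAG : GL chevD4.Idx K) * (a * b * c) * nAG⁻¹
      = (nAG * a * nAG⁻¹) * (nAG * b * nAG⁻¹) * (nAG * c * nAG⁻¹) := by
    intro a b c; group
  unfold xbG xabG
  rw [key, h18, h13, h12]
  simp

/-- `n_β` maps `x_{α+β}(u)` to `x_{α+2β}(-φ²u)`, in the form needed for membership -/
theorem nBG_conj_xabG (f : K →+* K) (u : K) :
    (nBG : GL chevD4.Idx K) * xabG f u * nBG⁻¹
      = xGL chevD4 hD4 17 u * xGL chevD4 hD4 20 (-f u) * xGL chevD4 hD4 21 (-f (f u)) := by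
  have h19 := nBG_conj_x 19 (by decide) u
  have h16 := nBG_conj_x 16 (by decide) (-f u)
  have h15 := nBG_conj_x 15 (by decide) (-f (f u))
  obtain ⟨_, _, _, _, _, a19, e19, a16, e16, a15, e15⟩ := nB_tab
  rw [a19, e19] at h19
  rw [a16, e16] at h16
  rw [a15, e15] at h15
  have key : ∀ a b c : GL chevD4.Idx K, (nBG : GL chevD4.Idx K) * (a * b * c) * nBG⁻¹
      = (nBG * a * nBG⁻¹) * (nBG * b * nBG⁻¹) * (nBG * c * nBG⁻¹) := by
    intro a b c; group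
  unfold xabG
  rw [key, h19, h16, h15]
  simp

end Cfsg.Agent.Lib.Helper5.TDM
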