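import Mathlib
import Cfsg.Agent.Lib.Helper5.TDMGW
import Cfsg.Agent.Lib.Helper5.ChevSymPCore
import Cfsg.Agent.Lib.Helper5.Tw3D4H
import Cfsg.Agent.Lib.Helper3.TDMConc

set_option autoImplicit false
set_option Elab.async false

/-!
Farm TDM (statement S2342), concrete unit GM: the elements lie in `³D₄(q)`; `x_{2α+3β}(1) ≠ 1`.
-/

namespace Cfsg.Agent.Lib.Helper5.TDM

open Cfsg Cfsg.Lie Cfsg.Agent.Lib.Helper5.ChevSym Cfsg.Agent.Lib.Helper5.ChevSymP
  Cfsg.Agent.Lib.Helper5.ChevStruct Cfsg.Agent.Lib.Helper5.Tw3D4 Cfsg.Agent.Lib.Helper3.TDM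

variable {K : Type*} [Field K] (f : K →+* K)

section mem

variable {q : ℕ} (hf : ∀ x, f x = x ^ q) (hf3 : ∀ x, f (f (f x)) = x)

include hf in
theorem nAG_mem : (nAG : GL chevD4.Idx K) ∈ twistedD4 K q :=
  nJ_mem f hf [1] (by simp [orbits])

include hf in
theorem nBG_mem : (nBG : GL chevD4.Idx K) ∈ twistedD4 K q :=
  nJ_mem f hf [0, 2, 3] (by simp [orbits])

include hf in
theorem xaG_mem (r : K) (hr : f r = r) : xaG r ∈ twistedD4 K q :=
  single_mem d4p2 (by simp) r (by rw [← hf]; exact hr)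

include hf in
theorem xa3bG_mem (r : K) (hr : f r = r) : xa3bG r ∈ twistedD4 K q := by
  have h := nBG_conj_xaG (K := K) (-r)
  rw [neg_neg] at h
  rw [← h]
  exact mul_mem (mul_mem (nBG_mem f hf) (xaG_mem f hf (-r) (by rw [map_neg, hr])))
    (inv_mem (nBG_mem f hf))

include hf in
theorem zG_mem (r : K) (hr : f r = r) : zG r ∈ twistedD4 K q := by
  have h := nAG_conj_zG (K := K) r
  have e : zG r = (nAG : GL chevD4.Idx K)⁻¹ * xa3bG (-r) * nAG := by
    rw [← h]; group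
  rw [e]
  exact mul_mem (mul_mem (inv_mem (nAG_mem f hf)) (xa3bG_mem f hf (-r) (by rw [map_neg, hr])))
    (nAG_mem f hf)

include hf hf3 in
theorem xbG_mem (u : K) : xbG f u ∈ twistedD4 K q := by
  have _ := hf3
  have h := triple_mem (q := q) (d4p1, d4p3, d4p4) (by simp) u
  unfold xbG
  rw [f_sq f hf u, hf u, mul_assoc]
  exact h

include hf hf3 in
theorem xabG_mem (u : K) : xabG f u ∈ twistedD4 K q := by
  rw [← nAG_conj_xbG f u]
  exact mul_mem (mul_mem (nAG_mem f hf) (xbG_mem f hf hf3 u)) (inv_mem (nAG_mem f hf))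

include hf hf3 in
theorem xa2bG_mem (u : K) : xa2bG f u ∈ twistedD4 K q := by
  have h := nBG_conj_xabG f (-f u)
  simp only [map_neg, neg_neg, hf3] at h
  have c1 : commOK chevD4 21 17 = true := by decide
  have c2 : commOK chevD4 21 20 = true := by decide
  have k1 := (xGL_commute chevD4 hD4 _ _ c1 u (-f u)).eq
  have k2 := (xGL_commute chevD4 hD4 _ _ c2 u (f (f u))).eq
  have e : xa2bG f u = nBG * xabG f (-f u) * nBG⁻¹ := by
    rw [h]
    unfold xa2bG
    rw [k1, mul_assoc, k2, ← mul_assoc]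
  rw [e]
  exact mul_mem (mul_mem (nBG_mem f hf) (xabG_mem f hf hf3 _)) (inv_mem (nBG_mem f hf))

include hf hf3 in
theorem hsG_mem (a : Kˣ) (ha : f (a : K) = a) : hsG a ∈ twistedD4 K q := by
  have _ := hf3
  unfold hsG
  apply torHom_mem_of_orbits chevD4 hD4 rho4 f (twistedD4 K q) orbits orbits_perm
    (fun J hJ => ⟨orth_ok J hJ, orbits_nodup J hJ⟩) (hgen4 f hf)
  have hu : Units.map (f : K →* K) a = a := Units.ext ha
  obtain ⟨s0, s1, s2, s3⟩ := rho4_symm_vals
  show sigC 4 rho4 f ![1, a, 1, 1] = ![1, a, 1, 1]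
  funext j
  rw [sigC_apply']
  fin_cases j
  · show Units.map (f : K →* K) (![1, a, 1, 1] (rho4.symm 0)) = 1
    rw [s0]; simp
  · show Units.map (f : K →* K) (![1, a, 1, 1] (rho4.symm 1)) = a
    rw [s1]; simpa using hu
  · show Units.map (f : K →* K) (![1, a, 1, 1] (rho4.symm 2)) = 1
    rw [s2]; simp
  · show Units.map (f : K →* K) (![1, a, 1, 1] (rho4.symm 3)) = 1
    rw [s3]; simp

include hf hf3 in
theorem huG_mem (a : Kˣ) (ha : f (a : K) = a) : huG a ∈ twistedD4 K q := by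
  have _ := hf3
  unfold huG
  apply torHom_mem_of_orbits chevD4 hD4 rho4 f (twistedD4 K q) orbits orbits_perm
    (fun J hJ => ⟨orth_ok J hJ, orbits_nodup J hJ⟩) (hgen4 f hf)
  have hu : Units.map (f : K →* K) a = a := Units.ext ha
  obtain ⟨s0, s1, s2, s3⟩ := rho4_symm_vals
  show sigC 4 rho4 f ![a, a ^ 2, a, a] = ![a, a ^ 2, a, a]
  funext j
  rw [sigC_apply']
  fin_cases j
  · show Units.map (f : K →* K) (![a, a ^ 2, a, a] (rho4.symm 0)) = a
    rw [s0]; simpa using hu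
  · show Units.map (f : K →* K) (![a, a ^ 2, a, a] (rho4.symm 1)) = a ^ 2
    rw [s1]
    show Units.map (f : K →* K) (a ^ 2) = a ^ 2
    rw [map_pow, hu]
  · show Units.map (f : K →* K) (![a, a ^ 2, a, a] (rho4.symm 2)) = a
    rw [s2]; simpa using hu
  · show Units.map (f : K →* K) (![a, a ^ 2, a, a] (rho4.symm 3)) = a
    rw [s3]; simpa using hu

end mem

theorem col_z : wordColP chevD4 0 [(23, [([], 1)])] 1 = [⟨27, [], -1⟩, ⟨1, [], 1⟩] := by
  rfl

theorem zG_one_ne : (zG (1 : K) : GL chevD4.Idx K) ≠ 1 := by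
  intro h
  have h1 : chevD4.x K 23 1 (Sum.inr ⟨23, by decide⟩) (Sum.inl ⟨1, by decide⟩)
      = (1 : Matrix chevD4.Idx chevD4.Idx K) (Sum.inr ⟨23, by decide⟩) (Sum.inl ⟨1, by decide⟩) := by
    have := congrArg (fun g : GL chevD4.Idx K => (g : Matrix chevD4.Idx chevD4.Idx K)) h
    simp only [zG, xGL_val, Units.val_one] at this
    rw [this]
  have h2 := wordColP_sound chevD4 0 ([] : List K) (by simp) [(23, [([], 1)])]
    (Sum.inr ⟨23, by decide⟩) (Sum.inl ⟨1, by decide⟩)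
  have e1 : code chevD4 (Sum.inl ⟨1, by decide⟩) = 1 := rfl
  have e2 : code chevD4 (Sum.inr ⟨23, by decide⟩) = 27 := rfl
  have e3 : chevD4.wordMat K (evalWP ([] : List K) [(23, [([], 1)])]) = chevD4.x K 23 1 := by
    simp [ChevalleyDatum.wordMat, evalWP, evalPolyP, evalMonoP, monoVal_nil_right]
  rw [e1, e2, col_z, e3, h1] at h2
  simp [evalVecP_cons, TermP.val, monoVal_nil_right, evalVecP] at h2

end Cfsg.Agent.Lib.Helper5.TDM
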