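import Mathlib
import Cfsg.Prelude.Def_ChevStructure
import Cfsg.Prelude.Def_LieTwisted
import Cfsg.Agent.Lib.Helper5.ChevSymPCore
import Cfsg.Agent.Lib.Helper5.ChevXGL

set_option autoImplicit false
set_option Elab.async false

/-!
Identities between words in root elements of `D₄`, checked symbolically (characteristic free): the
relations among the root elements of the subgroup `Q = X_α X_{α+β} X_{α+2β} X_{α+3β} X_{2α+3β}` of
`³D₄(q)`.
-/

namespace Cfsg.Agent.Lib.Helper5.TDM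

open Cfsg Cfsg.Lie Cfsg.Agent.Lib.Helper5.ChevSym Cfsg.Agent.Lib.Helper5.ChevSymP
  Cfsg.Agent.Lib.Helper5.ChevStruct

theorem hD4' : chevD4 ∈ Seven := by simp [Seven]

/-- all the columns -/
def allCols : List ℕ := List.range 28

theorem supp_le : ∀ r < 24, ∀ c ∈ supp chevD4 r, c ∈ allCols := by decide

/-- equality of the matrices of two symbolic words from the check -/
theorem wordMat_eq_of_check {K : Type*} [Field K] (vals : List K)
    (w1 w2 : List (ℕ × PolyP)) (hr : ∀ rp ∈ w1 ++ w2, rp.1 < 24)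
    (h : ∀ col ∈ allCols, vecEqP 0 (wordColP chevD4 0 w1 col) (wordColP chevD4 0 w2 col) = true) :
    chevD4.wordMat K (evalWP vals w1) = chevD4.wordMat K (evalWP vals w2) :=
  wordMat_eq_of_colsP chevD4 0 vals (by simp) w1 w2 allCols
    (fun rp hrp => supp_le rp.1 (hr rp hrp)) h

/-! ### The symbolic words -/

-- (R1) variables: s = 0, w = 1
def r1a : List (ℕ × PolyP) := [(14, [([1,0], 1)]), (22, [([0,1], 1)])]
def r1b : List (ℕ × PolyP) := [(22, [([0,1], 1)]), (14, [([1,0], 1)]), (23, [([1,1], 1)])]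

-- (R2) variables: u = 0, u1 = 1, u2 = 2, v = 3, v1 = 4, v2 = 5
def r2a : List (ℕ × PolyP) :=
  [(15, [([1,0,0,0,0,0], 1)]), (19, [([0,1,0,0,0,0], -1)]), (16, [([0,0,1,0,0,0], 1)]),
   (17, [([0,0,0,1,0,0], 1)]), (20, [([0,0,0,0,1,0], -1)]), (21, [([0,0,0,0,0,1], -1)])]
def r2b : List (ℕ × PolyP) :=
  [(17, [([0,0,0,1,0,0], 1)]), (20, [([0,0,0,0,1,0], -1)]), (21, [([0,0,0,0,0,1], -1)]),
   (15, [([1,0,0,0,0,0], 1)]), (19, [([0,1,0,0,0,0], -1)]), (16, [([0,0,1,0,0,0], 1)]),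
   (23, [([1,0,0,0,0,1], 1), ([0,1,0,1,0,0], 1), ([0,0,1,0,1,0], 1)])]

-- (R3) variables: s = 0, t = 1, t1 = 2, t2 = 3
def r3a : List (ℕ × PolyP) :=
  [(12, [([0,0,0,1], -1)]), (13, [([0,0,1,0], -1)]), (18, [([0,1,0,0], -1)]),
   (14, [([1,0,0,0], 1)]),
   (18, [([0,1,0,0], 1)]), (13, [([0,0,1,0], 1)]), (12, [([0,0,0,1], 1)])]
def r3b : List (ℕ × PolyP) :=
  [(14, [([1,0,0,0], 1)]),
   (15, [([1,0,0,1], -1)]), (19, [([1,1,0,0], 1)]), (16, [([1,0,1,0], -1)]),
   (17, [([1,0,1,1], 1)]), (20, [([1,1,0,1], -1)]), (21, [([1,1,1,0], -1)]),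
   (22, [([1,1,1,1], 1)]), (23, [([2,1,1,1], 1)])]

set_option maxRecDepth 1000000 in
theorem chk_r1 : ∀ col ∈ allCols,
    vecEqP 0 (wordColP chevD4 0 r1a col) (wordColP chevD4 0 r1b col) = true := by decide +kernel

set_option maxRecDepth 1000000 in
theorem chk_r2 : ∀ col ∈ allCols,
    vecEqP 0 (wordColP chevD4 0 r2a col) (wordColP chevD4 0 r2b col) = true := by decide +kernel

set_option maxRecDepth 1000000 in
theorem chk_r3 : ∀ col ∈ allCols,
    vecEqP 0 (wordColP chevD4 0 r3a col) (wordColP chevD4 0 r3b col) = true := by decide +kernel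

section

variable {K : Type*} [Field K]

local notation "xx" => xGL chevD4 hD4'

theorem xGL_inv_eq (r : ℕ) (t : K) : (xx r t)⁻¹ = xx r (-t) := by
  apply Units.ext
  rfl

theorem wordGL_eq_of_mat (w1 w2 : List (ℕ × K))
    (h : chevD4.wordMat K w1 = chevD4.wordMat K w2) :
    wordGL chevD4 hD4' w1 = wordGL chevD4 hD4' w2 := by
  apply Units.ext
  rw [wordGL_val, wordGL_val, h]

/-- (R1) -/
theorem rel1 (s w : K) : xx 14 s * xx 22 w = xx 22 w * xx 14 s * xx 23 (s * w) := by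
  have h := wordMat_eq_of_check [s, w] r1a r1b (by decide) chk_r1
  have e1 : evalWP [s, w] r1a = [(14, s), (22, w)] := by
    simp [evalWP, r1a, evalPolyP, evalMonoP, monoVal]
  have e2 : evalWP [s, w] r1b = [(22, w), (14, s), (23, s * w)] := by
    simp [evalWP, r1b, evalPolyP, evalMonoP, monoVal]
  rw [e1, e2] at h
  have := wordGL_eq_of_mat _ _ h
  simpa [wordGL, mul_assoc] using this

/-- (R2) -/
theorem rel2 (u u1 u2 v v1 v2 : K) :
    (xx 15 u * (xx 19 (-u1) * xx 16 u2)) * (xx 17 v * (xx 20 (-v1) * xx 21 (-v2)))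
      = (xx 17 v * (xx 20 (-v1) * xx 21 (-v2))) * (xx 15 u * (xx 19 (-u1) * xx 16 u2))
        * xx 23 (u * v2 + u1 * v + u2 * v1) := by
  have h := wordMat_eq_of_check [u, u1, u2, v, v1, v2] r2a r2b (by decide) chk_r2
  have e1 : evalWP [u, u1, u2, v, v1, v2] r2a
      = [(15, u), (19, -u1), (16, u2), (17, v), (20, -v1), (21, -v2)] := by
    simp [evalWP, r2a, evalPolyP, evalMonoP, monoVal]
  have e2 : evalWP [u, u1, u2, v, v1, v2] r2b
      = [(17, v), (20, -v1), (21, -v2), (15, u), (19, -u1), (16, u2),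
          (23, u * v2 + u1 * v + u2 * v1)] := by
    simp [evalWP, r2b, evalPolyP, evalMonoP, monoVal]
    ring
  rw [e1, e2] at h
  have := wordGL_eq_of_mat _ _ h
  simpa [wordGL, mul_assoc] using this

/-- (R3) -/
theorem rel3 (s t t1 t2 : K) :
    (xx 18 t * (xx 13 t1 * xx 12 t2))⁻¹ * xx 14 s * (xx 18 t * (xx 13 t1 * xx 12 t2))
      = xx 14 s * (xx 15 (-(s * t2)) * (xx 19 (-(-(s * t))) * xx 16 (-(s * t1))))
        * (xx 17 (s * t1 * t2) * (xx 20 (-(s * t * t2)) * xx 21 (-(s * t * t1))))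
        * xx 22 (s * t * t1 * t2) * xx 23 (s ^ 2 * t * t1 * t2) := by
  have h := wordMat_eq_of_check [s, t, t1, t2] r3a r3b (by decide) chk_r3
  have e1 : evalWP [s, t, t1, t2] r3a
      = [(12, -t2), (13, -t1), (18, -t), (14, s), (18, t), (13, t1), (12, t2)] := by
    simp [evalWP, r3a, evalPolyP, evalMonoP, monoVal]
  have e2 : evalWP [s, t, t1, t2] r3b
      = [(14, s), (15, -(s * t2)), (19, -(-(s * t))), (16, -(s * t1)), (17, s * t1 * t2),
          (20, -(s * t * t2)), (21, -(s * t * t1)), (22, s * t * t1 * t2),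
          (23, s ^ 2 * t * t1 * t2)] := by
    simp [evalWP, r3b, evalPolyP, evalMonoP, monoVal]
    refine ⟨?_, ?_, ?_, ?_, ?_⟩ <;> ring
  rw [e1, e2] at h
  have := wordGL_eq_of_mat _ _ h
  rw [mul_inv_rev, mul_inv_rev, xGL_inv_eq, xGL_inv_eq, xGL_inv_eq]
  simpa [wordGL, mul_assoc] using this

end

end Cfsg.Agent.Lib.Helper5.TDM
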