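import Mathlib
import Cfsg.Agent.Lib.Helper5.TDMIdent
import Cfsg.Agent.Lib.Helper5.ChevTwistN
import Cfsg.Agent.Lib.Helper3.TDMConc

set_option autoImplicit false
set_option Elab.async false

/-!
Farm TDM (statement S2342), concrete unit GP: the conjugates of `x_α(s)` under `x_β(t)`.
-/

namespace Cfsg.Agent.Lib.Helper5.TDM

open Cfsg Cfsg.Lie Cfsg.Agent.Lib.Helper5.ChevSym Cfsg.Agent.Lib.Helper5.ChevSymP
  Cfsg.Agent.Lib.Helper5.ChevStruct Cfsg.Agent.Lib.Helper5.Tw3D4 Cfsg.Agent.Lib.Helper3.TDM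

-- variables: s = 0, t = 1, t1 = 2, t2 = 3
def gpa : List (ℕ × PolyP) :=
  [(18, [([0,1,0,0], 1)]), (13, [([0,0,1,0], 1)]), (12, [([0,0,0,1], 1)]), (14, [([1,0,0,0], 1)]),
   (12, [([0,0,0,1], -1)]), (13, [([0,0,1,0], -1)]), (18, [([0,1,0,0], -1)])]

def gpb : List (ℕ × PolyP) :=
  [(23, [([2,1,1,1], -1)]), (14, [([1,0,0,0], 1)]),
   (19, [([1,1,0,0], -1)]), (16, [([1,0,1,0], 1)]), (15, [([1,0,0,1], 1)]),
   (21, [([1,1,1,0], -1)]), (17, [([1,0,1,1], 1)]), (20, [([1,1,0,1], -1)]),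
   (22, [([1,1,1,1], -1)])]

set_option maxRecDepth 1000000 in
theorem chk_gp : ∀ col ∈ allCols,
    vecEqP 0 (wordColP chevD4 0 gpa col) (wordColP chevD4 0 gpb col) = true := by decide +kernel

theorem gp_lt : ∀ rp ∈ gpa ++ gpb, rp.1 < 24 := by decide

variable {K : Type*} [Field K] (f : K →+* K)

/-- unit GP, first part -/
theorem xbG_conj_xaG (hf3 : ∀ x, f (f (f x)) = x) (t s : K) (hs : f s = s) :
    xbG f t * xaG s * (xbG f t)⁻¹ =
      PhiG f (-(s * s * (t * f t * f (f t)))) s (-(s * t)) (-(s * (t * f t)))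
        (-(s * (t * f t * f (f t)))) := by
  have h := wordMat_eq_of_check [s, t, f t, f (f t)] gpa gpb gp_lt chk_gp
  have e1 : evalWP [s, t, f t, f (f t)] gpa
      = [(18, t), (13, f t), (12, f (f t)), (14, s), (12, -f (f t)), (13, -f t), (18, -t)] := by
    simp [evalWP, gpa, evalPolyP, evalMonoP, monoVal]
  have e2 : evalWP [s, t, f t, f (f t)] gpb
      = [(23, -(s * s * (t * f t * f (f t)))), (14, s), (19, -(s * t)), (16, -f (-(s * t))),
          (15, -f (f (-(s * t)))), (21, -(s * (t * f t))), (17, -f (-(s * (t * f t)))),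
          (20, f (f (-(s * (t * f t))))), (22, -(s * (t * f t * f (f t))))] := by
    simp [evalWP, gpb, evalPolyP, evalMonoP, monoVal, map_neg, map_mul, hs, hf3]
    split_ands <;> first | ring1 | (simp; done) | (left; ring1)
  rw [e1, e2] at h
  have := wordGL_eq_of_mat _ _ h
  have hinv : (xbG f t)⁻¹ = xGL chevD4 hD4 12 (-f (f t)) * (xGL chevD4 hD4 13 (-f t)
      * xGL chevD4 hD4 18 (-t)) := by
    unfold xbG
    rw [mul_inv_rev, mul_inv_rev]
    rw [show (xGL chevD4 hD4 12 (f (f t)))⁻¹ = xGL chevD4 hD4 12 (-f (f t)) from xGL_inv_eq _ _,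
      show (xGL chevD4 hD4 13 (f t))⁻¹ = xGL chevD4 hD4 13 (-f t) from xGL_inv_eq _ _,
      show (xGL chevD4 hD4 18 t)⁻¹ = xGL chevD4 hD4 18 (-t) from xGL_inv_eq _ _]
  rw [hinv]
  simpa [wordGL, PhiG, zG, xaG, xabG, xa2bG, xa3bG, xbG, mul_assoc] using this

/-- unit GP, second part -/
theorem xbG_comm_zG (t r : K) : xbG f t * zG r = zG r * xbG f t := by
  have c1 : commOK chevD4 18 23 = true := by decide
  have c2 : commOK chevD4 13 23 = true := by decide
  have c3 : commOK chevD4 12 23 = true := by decide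
  have k1 := (xGL_commute chevD4 hD4 _ _ c1 t r).eq
  have k2 := (xGL_commute chevD4 hD4 _ _ c2 (f t) r).eq
  have k3 := (xGL_commute chevD4 hD4 _ _ c3 (f (f t)) r).eq
  unfold xbG zG
  rw [mul_assoc, k3, ← mul_assoc, mul_assoc (xGL chevD4 hD4 18 t), k2, ← mul_assoc, k1]
  simp only [mul_assoc]

end Cfsg.Agent.Lib.Helper5.TDM
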