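import Mathlib
import Cfsg.Agent.Lib.Helper5.TDMIdent
import Cfsg.Agent.Lib.Helper3.TDMConc

set_option autoImplicit false
set_option Elab.async false

/-!
Farm TDM (statement S2342), concrete unit GQ: the multiplication of `Q` in `GL`.
-/

namespace Cfsg.Agent.Lib.Helper5.TDM

open Cfsg Cfsg.Lie Cfsg.Agent.Lib.Helper5.ChevSym Cfsg.Agent.Lib.Helper5.ChevSymP
  Cfsg.Agent.Lib.Helper5.ChevStruct Cfsg.Agent.Lib.Helper5.Tw3D4 Cfsg.Agent.Lib.Helper3.TDM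

-- variables: r s u u1 u2 v v1 v2 w R S U U1 U2 V V1 V2 W (in this order)
def gqa : List (ℕ × PolyP) :=
  [(23, [([1,0,0,0,0,0,0,0,0,0,0,0,0,0,0,0,0,0], 1)]),
   (14, [([0,1,0,0,0,0,0,0,0,0,0,0,0,0,0,0,0,0], 1)]),
   (19, [([0,0,1,0,0,0,0,0,0,0,0,0,0,0,0,0,0,0], 1)]),
   (16, [([0,0,0,1,0,0,0,0,0,0,0,0,0,0,0,0,0,0], -1)]),
   (15, [([0,0,0,0,1,0,0,0,0,0,0,0,0,0,0,0,0,0], -1)]),
   (21, [([0,0,0,0,0,1,0,0,0,0,0,0,0,0,0,0,0,0], 1)]),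
   (17, [([0,0,0,0,0,0,1,0,0,0,0,0,0,0,0,0,0,0], -1)]),
   (20, [([0,0,0,0,0,0,0,1,0,0,0,0,0,0,0,0,0,0], 1)]),
   (22, [([0,0,0,0,0,0,0,0,1,0,0,0,0,0,0,0,0,0], 1)]),
   (23, [([0,0,0,0,0,0,0,0,0,1,0,0,0,0,0,0,0,0], 1)]),
   (14, [([0,0,0,0,0,0,0,0,0,0,1,0,0,0,0,0,0,0], 1)]),
   (19, [([0,0,0,0,0,0,0,0,0,0,0,1,0,0,0,0,0,0], 1)]),
   (16, [([0,0,0,0,0,0,0,0,0,0,0,0,1,0,0,0,0,0], -1)]),
   (15, [([0,0,0,0,0,0,0,0,0,0,0,0,0,1,0,0,0,0], -1)]),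
   (21, [([0,0,0,0,0,0,0,0,0,0,0,0,0,0,1,0,0,0], 1)]),
   (17, [([0,0,0,0,0,0,0,0,0,0,0,0,0,0,0,1,0,0], -1)]),
   (20, [([0,0,0,0,0,0,0,0,0,0,0,0,0,0,0,0,1,0], 1)]),
   (22, [([0,0,0,0,0,0,0,0,0,0,0,0,0,0,0,0,0,1], 1)])]

def gqb : List (ℕ × PolyP) :=
  [(23, [([1,0,0,0,0,0,0,0,0,0,0,0,0,0,0,0,0,0], 1), ([0,0,0,0,0,0,0,0,0,1,0,0,0,0,0,0,0,0], 1), ([0,0,0,0,0,0,0,0,1,0,1,0,0,0,0,0,0,0], -1), ([0,0,0,0,0,0,1,0,0,0,0,1,0,0,0,0,0,0], -1), ([0,0,0,0,0,0,0,1,0,0,0,0,1,0,0,0,0,0], -1), ([0,0,0,0,0,1,0,0,0,0,0,0,0,1,0,0,0,0], -1)]),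
   (14, [([0,1,0,0,0,0,0,0,0,0,0,0,0,0,0,0,0,0], 1), ([0,0,0,0,0,0,0,0,0,0,1,0,0,0,0,0,0,0], 1)]),
   (19, [([0,0,1,0,0,0,0,0,0,0,0,0,0,0,0,0,0,0], 1), ([0,0,0,0,0,0,0,0,0,0,0,1,0,0,0,0,0,0], 1)]),
   (16, [([0,0,0,1,0,0,0,0,0,0,0,0,0,0,0,0,0,0], -1), ([0,0,0,0,0,0,0,0,0,0,0,0,1,0,0,0,0,0], -1)]),
   (15, [([0,0,0,0,1,0,0,0,0,0,0,0,0,0,0,0,0,0], -1), ([0,0,0,0,0,0,0,0,0,0,0,0,0,1,0,0,0,0], -1)]),
   (21, [([0,0,0,0,0,1,0,0,0,0,0,0,0,0,0,0,0,0], 1), ([0,0,0,0,0,0,0,0,0,0,0,0,0,0,1,0,0,0], 1)]),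
   (17, [([0,0,0,0,0,0,1,0,0,0,0,0,0,0,0,0,0,0], -1), ([0,0,0,0,0,0,0,0,0,0,0,0,0,0,0,1,0,0], -1)]),
   (20, [([0,0,0,0,0,0,0,1,0,0,0,0,0,0,0,0,0,0], 1), ([0,0,0,0,0,0,0,0,0,0,0,0,0,0,0,0,1,0], 1)]),
   (22, [([0,0,0,0,0,0,0,0,1,0,0,0,0,0,0,0,0,0], 1), ([0,0,0,0,0,0,0,0,0,0,0,0,0,0,0,0,0,1], 1)])]

set_option maxRecDepth 1000000 in
theorem chk_gq : ∀ col ∈ allCols,
    vecEqP 0 (wordColP chevD4 0 gqa col) (wordColP chevD4 0 gqb col) = true := by decide +kernel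

theorem gq_lt : ∀ rp ∈ gqa ++ gqb, rp.1 < 24 := by decide

variable {K : Type*} [Field K] (f : K →+* K)

/-- unit GQ -/
theorem PhiG_mul (r s u v w R S U V W : K) :
    PhiG f r s u v w * PhiG f R S U V W =
      PhiG f (r + R - S * w - (U * f v + f U * f (f v) + f (f U) * v)) (s + S) (u + U) (v + V)
        (w + W) := by
  have h := wordMat_eq_of_check [r, s, u, f u, f (f u), v, f v, f (f v), w, R, S, U, f U,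
    f (f U), V, f V, f (f V), W] gqa gqb gq_lt chk_gq
  have e1 : evalWP [r, s, u, f u, f (f u), v, f v, f (f v), w, R, S, U, f U,
      f (f U), V, f V, f (f V), W] gqa
      = [(23, r), (14, s), (19, u), (16, -f u), (15, -f (f u)), (21, v), (17, -f v),
          (20, f (f v)), (22, w), (23, R), (14, S), (19, U), (16, -f U), (15, -f (f U)), (21, V),
          (17, -f V), (20, f (f V)), (22, W)] := by
    simp [evalWP, gqa, evalPolyP, evalMonoP, monoVal]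
  have e2 : evalWP [r, s, u, f u, f (f u), v, f v, f (f v), w, R, S, U, f U,
      f (f U), V, f V, f (f V), W] gqb
      = [(23, r + R - S * w - (U * f v + f U * f (f v) + f (f U) * v)), (14, s + S), (19, u + U),
          (16, -f (u + U)), (15, -f (f (u + U))), (21, v + V), (17, -f (v + V)),
          (20, f (f (v + V))), (22, w + W)] := by
    simp [evalWP, gqb, evalPolyP, evalMonoP, monoVal, map_add]
    split_ands <;> ring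
  rw [e1, e2] at h
  have := wordGL_eq_of_mat _ _ h
  simpa [wordGL, PhiG, zG, xaG, xabG, xa2bG, xa3bG, mul_assoc] using this

end Cfsg.Agent.Lib.Helper5.TDM
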