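import Mathlib
import Cfsg.Agent.Lib.Helper5.ChevTorusAct
import Cfsg.Agent.Lib.Helper5.ChevTorusCard
import Cfsg.Agent.Lib.Helper3.TDMConc

set_option autoImplicit false
set_option Elab.async false

/-!
Farm TDM (statement S2342), concrete unit GT: the torus elements `h_α(a)` and the scalars.
-/

namespace Cfsg.Agent.Lib.Helper5.TDM

open Cfsg Cfsg.Lie Cfsg.Agent.Lib.Helper5.ChevSym
  Cfsg.Agent.Lib.Helper5.ChevStruct Cfsg.Agent.Lib.Helper5.Tw3D4 Cfsg.Agent.Lib.Helper3.TDM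

variable {K : Type*} [Field K] (f : K →+* K)

/-- conjugation of a root element by a torus element -/
theorem tor_conj (c : Fin chevD4.rank → Kˣ) (r : ℕ) (t : K) :
    torHom chevD4 K c * xGL chevD4 hD4 r t * (torHom chevD4 K c)⁻¹
      = xGL chevD4 hD4 r (chi chevD4 (extU chevD4 c) r * t) := by
  apply Units.ext
  rw [xGL_val]
  exact torus_conj_x chevD4 hD4 _ _ (extU chevD4 c) (extU_ne_zero chevD4 c)
    (torHom_val chevD4 c) r t (xGL_val chevD4 hD4 r t)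

theorem chi_eq (c : Fin chevD4.rank → Kˣ) (r : ℕ) :
    chi chevD4 (extU chevD4 c) r
      = ((c ⟨0, by decide⟩ : Kˣ) : K) ^ (chevD4.cartan 0 r)
        * (((c ⟨1, by decide⟩ : Kˣ) : K) ^ (chevD4.cartan 1 r)
        * (((c ⟨2, by decide⟩ : Kˣ) : K) ^ (chevD4.cartan 2 r)
        * ((c ⟨3, by decide⟩ : Kˣ) : K) ^ (chevD4.cartan 3 r))) := by
  unfold chi
  have : List.range chevD4.rank = [0, 1, 2, 3] := rfl
  rw [this]
  simp only [List.map_cons, List.map_nil, List.prod_cons, List.prod_nil, mul_one]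
  rw [extU_of_lt chevD4 c 0 (by decide), extU_of_lt chevD4 c 1 (by decide),
    extU_of_lt chevD4 c 2 (by decide), extU_of_lt chevD4 c 3 (by decide)]

theorem chi_hs (a : Kˣ) (r : ℕ) :
    chi chevD4 (extU chevD4 ![1, a, 1, 1]) r = (a : K) ^ (chevD4.cartan 1 r) := by
  refine (chi_eq (K := K) ![1, a, 1, 1] r).trans ?_
  show ((1 : Kˣ) : K) ^ (chevD4.cartan 0 r) * (((a : Kˣ) : K) ^ (chevD4.cartan 1 r)
    * (((1 : Kˣ) : K) ^ (chevD4.cartan 2 r) * ((1 : Kˣ) : K) ^ (chevD4.cartan 3 r)))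
    = (a : K) ^ (chevD4.cartan 1 r)
  rw [Units.val_one, one_zpow, one_zpow, one_zpow, one_mul, mul_one, mul_one]

theorem chi_hu (a : Kˣ) (r : ℕ) :
    chi chevD4 (extU chevD4 ![a, a ^ 2, a, a]) r
      = (a : K) ^ (chevD4.cartan 0 r + 2 * chevD4.cartan 1 r + chevD4.cartan 2 r
          + chevD4.cartan 3 r) := by
  refine (chi_eq (K := K) ![a, a ^ 2, a, a] r).trans ?_
  show ((a : Kˣ) : K) ^ (chevD4.cartan 0 r) * ((((a ^ 2 : Kˣ) : Kˣ) : K) ^ (chevD4.cartan 1 r)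
    * (((a : Kˣ) : K) ^ (chevD4.cartan 2 r) * ((a : Kˣ) : K) ^ (chevD4.cartan 3 r)))
    = (a : K) ^ (chevD4.cartan 0 r + 2 * chevD4.cartan 1 r + chevD4.cartan 2 r
          + chevD4.cartan 3 r)
  have ha : (a : K) ≠ 0 := Units.ne_zero a
  rw [Units.val_pow_eq_pow_val, ← zpow_natCast (a : K) 2, ← zpow_mul,
    zpow_add₀ ha, zpow_add₀ ha, zpow_add₀ ha]
  push_cast
  ring

theorem cartan_tab1 : chevD4.cartan 1 23 = 1 ∧ chevD4.cartan 1 22 = -1 ∧ chevD4.cartan 1 21 = 0 ∧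
    chevD4.cartan 1 17 = 0 ∧ chevD4.cartan 1 20 = 0 := by decide

theorem hu_tab : (∀ r ∈ [14, 19, 16, 15, 21, 17, 20, 22],
      chevD4.cartan 0 r + 2 * chevD4.cartan 1 r + chevD4.cartan 2 r + chevD4.cartan 3 r = 1) ∧
    chevD4.cartan 0 23 + 2 * chevD4.cartan 1 23 + chevD4.cartan 2 23 + chevD4.cartan 3 23 = 2 := by
  decide

theorem conj_mul' {G : Type*} [Group G] (g a b : G) :
    g * (a * b) * g⁻¹ = (g * a * g⁻¹) * (g * b * g⁻¹) := by group

/-- unit GT -/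
theorem hsG_conj_zG (a : Kˣ) (r : K) : hsG a * zG r * (hsG a)⁻¹ = zG ((a : K) * r) := by
  unfold hsG zG
  refine (tor_conj (K := K) ![1, a, 1, 1] 23 r).trans ?_
  rw [chi_hs, cartan_tab1.1, zpow_one]

theorem hsG_conj_xa3bG (a : Kˣ) (w : K) :
    hsG a * xa3bG w * (hsG a)⁻¹ = xa3bG (((a⁻¹ : Kˣ) : K) * w) := by
  unfold hsG xa3bG
  refine (tor_conj (K := K) ![1, a, 1, 1] 22 w).trans ?_
  rw [chi_hs, cartan_tab1.2.1, zpow_neg_one, Units.val_inv_eq_inv_val]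

theorem hsG_conj_xa2bG (a : Kˣ) (v : K) : hsG a * xa2bG f v * (hsG a)⁻¹ = xa2bG f v := by
  have h21 := (tor_conj (K := K) ![1, a, 1, 1] 21 v)
  have h17 := (tor_conj (K := K) ![1, a, 1, 1] 17 (-f v))
  have h20 := (tor_conj (K := K) ![1, a, 1, 1] 20 (f (f v)))
  rw [chi_hs, cartan_tab1.2.2.1, zpow_zero, one_mul] at h21
  rw [chi_hs, cartan_tab1.2.2.2.1, zpow_zero, one_mul] at h17
  rw [chi_hs, cartan_tab1.2.2.2.2, zpow_zero, one_mul] at h20
  unfold hsG xa2bG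
  rw [conj_mul', conj_mul', h21, h17, h20]

theorem huG_conj_x (a : Kˣ) (r : ℕ) (hr : r ∈ [14, 19, 16, 15, 21, 17, 20, 22]) (t : K) :
    huG a * xGL chevD4 hD4 r t * (huG a)⁻¹ = xGL chevD4 hD4 r ((a : K) * t) := by
  unfold huG
  refine (tor_conj (K := K) ![a, a ^ 2, a, a] r t).trans ?_
  rw [chi_hu, hu_tab.1 r hr, zpow_one]

theorem huG_conj_z (a : Kˣ) (t : K) :
    huG a * xGL chevD4 hD4 23 t * (huG a)⁻¹ = xGL chevD4 hD4 23 ((a : K) * a * t) := by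
  unfold huG
  refine (tor_conj (K := K) ![a, a ^ 2, a, a] 23 t).trans ?_
  rw [chi_hu, hu_tab.2]
  congr 1
  rw [show (2 : ℤ) = ((2 : ℕ) : ℤ) from rfl, zpow_natCast, pow_two]

theorem huG_conj_PhiG (a : Kˣ) (ha : f (a : K) = a) (r s u v w : K) :
    huG a * PhiG f r s u v w * (huG a)⁻¹ =
      PhiG f ((a : K) * a * r) (a * s) (a * u) (a * v) (a * w) := by
  unfold PhiG zG xaG xabG xa2bG xa3bG
  simp only [conj_mul']
  rw [huG_conj_z, huG_conj_x a 14 (by simp), huG_conj_x a 19 (by simp), huG_conj_x a 16 (by simp),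
    huG_conj_x a 15 (by simp), huG_conj_x a 21 (by simp), huG_conj_x a 17 (by simp),
    huG_conj_x a 20 (by simp), huG_conj_x a 22 (by simp)]
  simp only [map_mul, ha, mul_neg]

end Cfsg.Agent.Lib.Helper5.TDM
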