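import Mathlib
import Cfsg.Agent.Lib.Helper3.TGSDefs

/-!
# Farm TGS (S3161), unit U7c: the final contradiction in (S7).
-/

set_option autoImplicit false

namespace Cfsg.Agent.Lib.Helper5.TGSU7c

open Cfsg.Agent.Lib.Helper3.TGSDefs

section ext3
variable {F : Type} [Field F] {B : Type*} [Group B] {σ : F → F → F} {ι : F → B} {β₁ β₂ : B → F}

theorem iota_zero (hE : Ext3 σ ι β₁ β₂) : ι 0 = 1 := by
  apply mul_left_cancel (a := ι 0)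
  rw [← hE.iota_add, add_zero, mul_one]

theorem b1_one (hE : Ext3 σ ι β₁ β₂) : β₁ 1 = 0 := by
  have := hE.b1_mul 1 1
  rw [mul_one] at this
  linear_combination (-1 : F) * this

theorem b2_one (hE : Ext3 σ ι β₁ β₂) : β₂ 1 = 0 := by
  have := hE.b2_mul 1 1
  rw [mul_one] at this
  linear_combination (-1 : F) * this

theorem b1_inv (hE : Ext3 σ ι β₁ β₂) (x : B) : β₁ x⁻¹ = -β₁ x := by
  have := hE.b1_mul x x⁻¹
  rw [mul_inv_cancel, b1_one hE] at this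
  linear_combination (-1 : F) * this

theorem b2_inv (hE : Ext3 σ ι β₁ β₂) (x : B) : β₂ x⁻¹ = -β₂ x := by
  have := hE.b2_mul x x⁻¹
  rw [mul_inv_cancel, b2_one hE] at this
  linear_combination (-1 : F) * this

theorem b1_iota (hE : Ext3 σ ι β₁ β₂) (a : F) : β₁ (ι a) = 0 := ((hE.ker (ι a)).mpr ⟨a, rfl⟩).1

theorem b2_iota (hE : Ext3 σ ι β₁ β₂) (a : F) : β₂ (ι a) = 0 := ((hE.ker (ι a)).mpr ⟨a, rfl⟩).2

/-- the commutator formula in an `Ext3 (sig τ)` group (characteristic 2) -/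
theorem comm_formula [CharP F 2] {τ : F} (hE : Ext3 (sig τ) ι β₁ β₂) (x y : B) :
    x * y * x⁻¹ * y⁻¹ = ι (β₁ x * β₂ y + β₂ x * β₁ y) := by
  have h2 : (2 : F) = 0 := CharTwo.two_eq_zero
  obtain ⟨e, he⟩ := (hE.ker (x * y * x⁻¹ * y⁻¹)).mp
    ⟨by rw [hE.b1_mul, hE.b1_mul, hE.b1_mul, b1_inv hE, b1_inv hE]; ring,
     by rw [hE.b2_mul, hE.b2_mul, hE.b2_mul, b2_inv hE, b2_inv hE]; ring⟩
  have hc : x * y = ι e * (y * x) := by rw [he]; group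
  have hsq : (x * y) ^ 2 = ι e * (x ^ 2 * y ^ 2) := by
    calc (x * y) ^ 2 = (x * y) * (x * y) := sq _
      _ = (ι e * (y * x)) * (x * y) := by rw [← hc]
      _ = ι e * (y * x ^ 2 * y) := by simp only [sq, mul_assoc]
      _ = ι e * (x ^ 2 * y ^ 2) := by
        rw [hE.sq x, ← hE.central, mul_assoc, ← sq]
  rw [hE.sq, hE.sq x, hE.sq y, ← hE.iota_add, ← hE.iota_add, hE.b1_mul, hE.b2_mul] at hsq
  have H := hE.iota_inj hsq
  rw [← he]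
  congr 1
  simp only [sig] at H
  linear_combination (-1 : F) * H + (β₁ x * β₁ y + τ * β₂ x * β₂ y) * h2

end ext3

section
variable {F : Type} [Field F] [Fintype F] [CharP F 2] {mu : F}

/-- U7c: in (S7), the final contradiction. -/
theorem U7c_false (hq4 : ∃ x : F, x ≠ 0 ∧ x ≠ 1)
    {G : Type*} {B : Type*} [Group G] [Group B]
    {α ρ : MulAut G} {ι : F → G} (h : Hyp mu α ρ ι) (hcen : ∀ a g, ι a * g = g * ι a)
    {α' ρ' : MulAut B} {p : G →* B} (hq : Quo α ρ α' ρ' p)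
    {ι' : F → B} (h' : Hyp mu α' ρ' ι')
    {β₁ β₂ : B → F} {τ : F} (hE : Ext3 (sig τ) ι' β₁ β₂)
    (hab : ∀ z z' : G, β₂ (p z) = 0 → β₂ (p z') = 0 → z * z' = z' * z)
    (κ : F) (hκ : κ ≠ 0) (hsq : ∀ (y : G) (t : F), p y = ι' t → y ^ 2 = ι (t / κ)) :
    False := by
  have h2 : (2 : F) = 0 := CharTwo.two_eq_zero
  -- the subgroup `Z₃`
  let Z3 : Subgroup G :=
    { carrier := {z | β₂ (p z) = 0}
      one_mem' := by
        show β₂ (p 1) = 0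
        rw [map_one, b2_one hE]
      mul_mem' := by
        intro x y hx hy
        show β₂ (p (x * y)) = 0
        have hx' : β₂ (p x) = 0 := hx
        have hy' : β₂ (p y) = 0 := hy
        rw [map_mul, hE.b2_mul, hx', hy', add_zero]
      inv_mem' := by
        intro x hx
        show β₂ (p x⁻¹) = 0
        have hx' : β₂ (p x) = 0 := hx
        rw [map_inv, b2_inv hE, hx', neg_zero] }
  have memZ3 : ∀ z : G, z ∈ Z3 ↔ β₂ (p z) = 0 := fun z => Iff.rfl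
  have commZ3 : ∀ x y : G, x ∈ Z3 → y ∈ Z3 → x * y = y * x := fun x y hx hy => hab x y hx hy
  -- the kernel of `p` is the range of `ι`
  have kerp : ∀ g : G, p g = 1 → ∃ c, ι c = g := fun g hg => (h.iota_fix g).mp ((hq.ker g).mp hg)
  -- L1: image of the commutator
  have L1 : ∀ g z : G, β₂ (p z) = 0 →
      p (g * z * g⁻¹ * z⁻¹) = ι' (β₁ (p z) * β₂ (p g)) := by
    intro g z hz
    rw [map_mul, map_mul, map_mul, map_inv, map_inv, comm_formula hE, hz]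
    congr 1
    ring
  have L2 : ∀ g z : G, β₂ (p z) = 0 → g * z * g⁻¹ * z⁻¹ ∈ Z3 := by
    intro g z hz
    rw [memZ3, L1 g z hz, b2_iota hE]
  have normZ3 : ∀ g z : G, z ∈ Z3 → g * z * g⁻¹ ∈ Z3 := by
    intro g z hz
    have := Z3.mul_mem (L2 g z hz) hz
    simpa [mul_assoc] using this
  -- L3: the key formula
  have L3 : ∀ (g₁ g₂ z : G) (s : F), β₂ (p z) = 0 → s ^ 2 = β₁ (p z) * β₂ (p g₁) →
      g₂ * (g₁ * z * g₁⁻¹ * z⁻¹) * g₂⁻¹ * (g₁ * z * g₁⁻¹ * z⁻¹)⁻¹ = ι (s * β₂ (p g₂) / κ) := by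
    intro g₁ g₂ z s hz hs
    obtain ⟨y', hy'1, hy'2⟩ := hE.surj s 0
    obtain ⟨z', rfl⟩ := hq.surj y'
    have hz'sq : p (z' ^ 2) = ι' (s ^ 2) := by
      rw [map_pow, hE.sq, hy'1, hy'2]
      congr 1
      simp only [sig]
      ring
    have hker : p (g₁ * z * g₁⁻¹ * z⁻¹ * (z' ^ 2)⁻¹) = 1 := by
      rw [map_mul, map_inv, hz'sq, L1 g₁ z hz, hs, mul_inv_cancel]
    obtain ⟨c, hc⟩ := kerp _ hker
    have hD : g₁ * z * g₁⁻¹ * z⁻¹ = ι c * z' ^ 2 := by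
      rw [hc]; group
    set d := g₂ * z' * g₂⁻¹ * z'⁻¹ with hd
    have hdZ : d ∈ Z3 := L2 g₂ z' hy'2
    have hz'Z : z' ∈ Z3 := hy'2
    have hdz' : d * z' = z' * d := commZ3 d z' hdZ hz'Z
    have hconj : g₂ * z' * g₂⁻¹ = d * z' := by rw [hd]; group
    have hpd : p d = ι' (s * β₂ (p g₂)) := by
      rw [hd, L1 g₂ z' hy'2, hy'1]
    have hd2 : d ^ 2 = ι (s * β₂ (p g₂) / κ) := hsq d _ hpd
    rw [hD, ← hd2]
    have hcen' : ∀ g : G, g * ι c = ι c * g := fun g => (hcen c g).symm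
    calc g₂ * (ι c * z' ^ 2) * g₂⁻¹ * (ι c * z' ^ 2)⁻¹
        = ι c * (g₂ * z' * g₂⁻¹) ^ 2 * (z' ^ 2)⁻¹ * (ι c)⁻¹ := by
          rw [mul_inv_rev, ← mul_assoc g₂, hcen' g₂]
          simp only [sq, mul_assoc, inv_mul_cancel_left]
      _ = (g₂ * z' * g₂⁻¹) ^ 2 * (z' ^ 2)⁻¹ := by
          rw [mul_assoc (ι c), mul_assoc (ι c), hcen c, mul_assoc, inv_mul_cancel, mul_one]
      _ = d ^ 2 := by
          rw [hconj, sq, sq, sq]
          calc d * z' * (d * z') * (z' * z')⁻¹ = d * (z' * d) * z' * (z' * z')⁻¹ := by group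
            _ = d * (d * z') * z' * (z' * z')⁻¹ := by rw [hdz']
            _ = d * d := by group
  -- L4: the two difference operators commute on `Z₃`
  have L4 : ∀ (g₁ g₂ z : G), β₂ (p z) = 0 →
      g₂ * (g₁ * z * g₁⁻¹ * z⁻¹) * g₂⁻¹ * (g₁ * z * g₁⁻¹ * z⁻¹)⁻¹ =
      g₁ * (g₂ * z * g₂⁻¹ * z⁻¹) * g₁⁻¹ * (g₂ * z * g₂⁻¹ * z⁻¹)⁻¹ := by
    intro g₁ g₂ z hz
    have hzZ : z ∈ Z3 := hz
    set u := g₁ * z * g₁⁻¹ with hu
    set v := g₂ * z * g₂⁻¹ with hv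
    set w₁₂ := (g₁ * g₂) * z * (g₁ * g₂)⁻¹ with hw12
    set w₂₁ := (g₂ * g₁) * z * (g₂ * g₁)⁻¹ with hw21
    have huZ : u ∈ Z3 := normZ3 g₁ z hzZ
    have hvZ : v ∈ Z3 := normZ3 g₂ z hzZ
    have hw12Z : w₁₂ ∈ Z3 := normZ3 (g₁ * g₂) z hzZ
    -- the commutator of `g₂, g₁` lies in `Z₃`
    set k := g₂ * g₁ * g₂⁻¹ * g₁⁻¹ with hk
    have hkZ : k ∈ Z3 := by
      rw [memZ3, hk, map_mul, map_mul, map_mul, map_inv, map_inv, comm_formula hE, b2_iota hE]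
    have hw : w₂₁ = w₁₂ := by
      have e1 : w₂₁ = k * w₁₂ * k⁻¹ := by rw [hw21, hw12, hk]; group
      rw [e1, commZ3 k w₁₂ hkZ hw12Z, mul_assoc, mul_inv_cancel, mul_one]
    have e21 : g₂ * (u * z⁻¹) * g₂⁻¹ * (u * z⁻¹)⁻¹ = w₂₁ * v⁻¹ * z * u⁻¹ := by
      rw [hu, hv, hw21]; group
    have e12 : g₁ * (v * z⁻¹) * g₁⁻¹ * (v * z⁻¹)⁻¹ = w₁₂ * u⁻¹ * z * v⁻¹ := by
      rw [hu, hv, hw12]; group
    rw [e21, e12, hw]
    have huI : u⁻¹ ∈ Z3 := Z3.inv_mem huZ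
    have hvI : v⁻¹ ∈ Z3 := Z3.inv_mem hvZ
    calc w₁₂ * v⁻¹ * z * u⁻¹ = w₁₂ * (v⁻¹ * (z * u⁻¹)) := by group
      _ = w₁₂ * (v⁻¹ * (u⁻¹ * z)) := by rw [commZ3 z u⁻¹ hzZ huI]
      _ = w₁₂ * ((v⁻¹ * u⁻¹) * z) := by group
      _ = w₁₂ * ((u⁻¹ * v⁻¹) * z) := by rw [commZ3 v⁻¹ u⁻¹ hvI huI]
      _ = w₁₂ * (u⁻¹ * (v⁻¹ * z)) := by group
      _ = w₁₂ * (u⁻¹ * (z * v⁻¹)) := by rw [commZ3 v⁻¹ z hvI hzZ]
      _ = w₁₂ * u⁻¹ * z * v⁻¹ := by group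
  -- the choice of elements
  obtain ⟨x, hx0, hx1⟩ := hq4
  obtain ⟨s₂, hs₂⟩ := exists_sq x
  obtain ⟨y0, hy01, hy02⟩ := hE.surj 1 0
  obtain ⟨z, rfl⟩ := hq.surj y0
  obtain ⟨y1, hy11, hy12⟩ := hE.surj 0 1
  obtain ⟨g₁, rfl⟩ := hq.surj y1
  obtain ⟨y2, hy21, hy22⟩ := hE.surj 0 x
  obtain ⟨g₂, rfl⟩ := hq.surj y2
  have A := L3 g₁ g₂ z 1 hy02 (by rw [hy01, hy12]; ring)
  have Bq := L3 g₂ g₁ z s₂ hy02 (by rw [hy01, hy22, hs₂]; ring)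
  have C := L4 g₁ g₂ z hy02
  rw [A, Bq, hy22, hy12] at C
  have D := h.iota_inj C
  have hxs : x = s₂ := by
    field_simp at D
    linear_combination D
  have : x * (x - 1) = 0 := by
    have h3 : x ^ 2 = x := by
      nth_rewrite 2 [← hs₂]
      rw [hxs]
    linear_combination h3
  rcases mul_eq_zero.mp this with h0 | h0
  · exact hx0 h0
  · exact hx1 (sub_eq_zero.mp h0)

end

end Cfsg.Agent.Lib.Helper5.TGSU7c
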