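import Mathlib
import Cfsg.Agent.Lib.Helper3.TGSDefs
import Cfsg.Agent.Lib.Helper5.TGSU7c

/-!
# Farm TGS (S3161), unit U7b: the squaring map on `Z₂ = p⁻¹ (range ι')` in (S7).
-/

set_option autoImplicit false

namespace Cfsg.Agent.Lib.Helper5.TGSU7b

open Cfsg.Agent.Lib.Helper3.TGSDefs
open Cfsg.Agent.Lib.Helper5.TGSU7c

section
variable {F : Type} [Field F] [Fintype F] [CharP F 2] {mu : F}

/-- U7b: in (S7), the squaring map on `Z₂ = p⁻¹ (range ι')`: `y² = ι (t / κ)` if `p y = ι' t`. -/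
theorem U7b_sq_Z2 (hmu : ∀ x : F, x ≠ 0 → ∃ k : ℕ, x = mu ^ k)
    {G : Type*} {B : Type*} [Group G] [Group B]
    {α ρ : MulAut G} {ι : F → G} (h : Hyp mu α ρ ι) (hcen : ∀ a g, ι a * g = g * ι a)
    {α' ρ' : MulAut B} {p : G →* B} (hq : Quo α ρ α' ρ' p)
    {ι' : F → B} (h' : Hyp mu α' ρ' ι') (hlink : ∀ a g, p g = ι' a → g⁻¹ * α g = ι a)
    {β₁ β₂ : B → F} {τ : F} (hE : Ext3 (sig τ) ι' β₁ β₂)
    (hρ1 : ∀ g, β₁ (ρ' g) = mu * β₁ g) (hρ2 : ∀ g, β₂ (ρ' g) = mu * β₂ g)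
    (hα1 : ∀ g, β₁ (α' g) = β₁ g + β₂ g) (hα2 : ∀ g, β₂ (α' g) = β₂ g)
    (hab : ∀ z z' : G, β₂ (p z) = 0 → β₂ (p z') = 0 → z * z' = z' * z) :
    ∃ κ : F, κ ≠ 0 ∧ ∀ (y : G) (t : F), p y = ι' t → y ^ 2 = ι (t / κ) := by
  have h2 : (2 : F) = 0 := CharTwo.two_eq_zero
  have i0 : ι' 0 = 1 := iota_zero hE
  have i0G : ι 0 = 1 := by
    apply mul_left_cancel (a := ι 0)
    rw [← h.iota_add, add_zero, mul_one]
  -- chosen representatives
  choose xa hxa1 hxa2 using (fun a : F => hE.surj a 0)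
  have hN : ∀ x : B, β₂ x = 0 → ∃ t, ι' t = x⁻¹ * α' x := by
    intro x hx
    apply (hE.ker _).mp
    constructor
    · rw [hE.b1_mul, b1_inv hE, hα1, hx]; ring
    · rw [hE.b2_mul, b2_inv hE, hα2, hx]; ring
  choose f hf using (fun a : F => hN (xa a) (hxa2 a))
  -- the basic fact
  have fact : ∀ x : B, β₂ x = 0 → x⁻¹ * α' x = ι' (f (β₁ x)) := by
    intro x hx
    obtain ⟨c, hc⟩ := (hE.ker ((xa (β₁ x))⁻¹ * x)).mp
      ⟨by rw [hE.b1_mul, b1_inv hE, hxa1]; ring, by rw [hE.b2_mul, b2_inv hE, hxa2, hx]; ring⟩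
    have hxe : x = xa (β₁ x) * ι' c := by rw [hc]; group
    have hfixc : α' (ι' c) = ι' c := (h'.iota_fix _).mpr ⟨c, rfl⟩
    have hcc : ∀ g : B, g * ι' c = ι' c * g := fun g => (hE.central c g).symm
    calc x⁻¹ * α' x = (xa (β₁ x) * ι' c)⁻¹ * α' (xa (β₁ x) * ι' c) := by rw [← hxe]
      _ = (ι' c)⁻¹ * ((xa (β₁ x))⁻¹ * α' (xa (β₁ x))) * ι' c := by
          rw [map_mul, hfixc, mul_inv_rev]; group
      _ = (ι' c)⁻¹ * ι' (f (β₁ x)) * ι' c := by rw [hf]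
      _ = ι' (f (β₁ x)) := by
          rw [mul_assoc, hE.central (f (β₁ x)), ← mul_assoc, inv_mul_cancel, one_mul]
  -- equivariance
  have feq : ∀ a : F, f (mu * a) = mu ^ 2 * f a := by
    intro a
    apply h'.iota_inj
    have hb2 : β₂ (ρ' (xa a)) = 0 := by rw [hρ2, hxa2, mul_zero]
    have hb1 : β₁ (ρ' (xa a)) = mu * a := by rw [hρ1, hxa1]
    have e1 := fact (ρ' (xa a)) hb2
    rw [hb1] at e1
    rw [← e1, h'.comm, ← map_inv, ← map_mul, ← hf, h'.iota_rho]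
  have fpow : ∀ k : ℕ, f (mu ^ k) = (mu ^ k) ^ 2 * f 1 := by
    intro k
    induction k with
    | zero => simp
    | succ k ih => rw [pow_succ', feq, ih]; ring
  have f0 : f 0 = 0 := by
    apply h'.iota_inj
    have e1 := fact 1 (b2_one hE)
    rw [b1_one hE] at e1
    rw [← e1, i0, map_one, inv_one, one_mul]
  have fall : ∀ a : F, f a = f 1 * a ^ 2 := by
    intro a
    by_cases ha : a = 0
    · rw [ha, f0]; ring
    · obtain ⟨k, hk⟩ := hmu a ha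
      rw [hk, fpow]; ring
  have hκ : f 1 ≠ 0 := by
    intro h0
    have e1 := fact (xa 1) (hxa2 1)
    rw [hxa1, h0, i0] at e1
    have hfix : α' (xa 1) = xa 1 := by
      have := congrArg (fun t => xa 1 * t) e1
      simpa using this
    obtain ⟨c, hc⟩ := (h'.iota_fix _).mp hfix
    have := b1_iota hE c
    rw [hc, hxa1] at this
    exact one_ne_zero this
  refine ⟨f 1, hκ, ?_⟩
  -- the element `u_z`
  have hu : ∀ z : G, β₂ (p z) = 0 →
      p (z⁻¹ * α z) = ι' (f 1 * β₁ (p z) ^ 2) ∧ (z⁻¹ * α z) ^ 2 = ι (β₁ (p z) ^ 2) := by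
    intro z hz
    have hp : p (z⁻¹ * α z) = ι' (f 1 * β₁ (p z) ^ 2) := by
      rw [map_mul, map_inv, ← hq.alpha, fact (p z) hz, fall]
    refine ⟨hp, ?_⟩
    set u := z⁻¹ * α z with hu
    have huZ : β₂ (p u) = 0 := by rw [hp, b2_iota hE]
    have hαz : α z = z * u := by rw [hu]; group
    have hcomm : z * u = u * z := hab z u hz huZ
    have hpz2 : p (z ^ 2) = ι' (β₁ (p z) ^ 2) := by
      rw [map_pow, hE.sq, hz]
      congr 1
      simp only [sig]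
      ring
    have hl := hlink _ _ hpz2
    rw [map_pow, hαz] at hl
    rw [← hl, sq, sq, sq]
    calc u * u = (z * z)⁻¹ * (z * (z * u) * u) := by group
      _ = (z * z)⁻¹ * (z * (u * z) * u) := by rw [hcomm]
      _ = (z * z)⁻¹ * (z * u * (z * u)) := by group
  intro y t hy
  obtain ⟨s, hs⟩ := exists_sq (t / f 1)
  obtain ⟨z0, hz01, hz02⟩ := hE.surj s 0
  obtain ⟨z, rfl⟩ := hq.surj z0
  obtain ⟨hp, hsq⟩ := hu z hz02
  rw [hz01, hs] at hp hsq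
  have hp' : p (z⁻¹ * α z) = ι' t := by
    rw [hp]
    congr 1
    field_simp
  have hker : p (y * (z⁻¹ * α z)⁻¹) = 1 := by
    rw [map_mul, map_inv, hp', hy, mul_inv_cancel]
  obtain ⟨c, hc⟩ := (h.iota_fix _).mp ((hq.ker _).mp hker)
  have hy' : y = ι c * (z⁻¹ * α z) := by rw [hc]; group
  have hcc : ι c * ι c = 1 := by rw [← h.iota_add, CharTwo.add_self_eq_zero, i0G]
  rw [← hsq, hy', sq, sq]
  calc ι c * (z⁻¹ * α z) * (ι c * (z⁻¹ * α z))
      = ι c * ((z⁻¹ * α z) * ι c) * (z⁻¹ * α z) := by group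
    _ = ι c * (ι c * (z⁻¹ * α z)) * (z⁻¹ * α z) := by rw [← hcen c]
    _ = (ι c * ι c) * ((z⁻¹ * α z) * (z⁻¹ * α z)) := by group
    _ = (z⁻¹ * α z) * (z⁻¹ * α z) := by rw [hcc, one_mul]

end

end Cfsg.Agent.Lib.Helper5.TGSU7b
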