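import Mathlib

/-!
# S1721 piece C8: the class of `z` has at least 91 elements
-/

set_option autoImplicit false

namespace Cfsg.Agent.Lib.Helper5.J2C8

open Classical in
theorem card_class_ge {G : Type*} [Group G] [Finite G] (z : G) (J : Set G)
    (hJ : ∀ w : G, w ∈ J ↔ (IsConj w z ∧ w * z = z * w))
    (hJc : Nat.card J = 11)
    (h3 : ∀ x ∈ J, x ≠ z → Nat.card {w : G // w ∈ J ∧ w * x = x * w} = 3)
    (hgen : ∀ x ∈ J, ∀ x' ∈ J, x ≠ z → x' ≠ z → x ≠ x' →
      ∀ w : G, w * x = x * w → w * x' = x' * w → w * z = z * w) :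
    91 ≤ Nat.card {w : G // IsConj w z} := by
  have := Fintype.ofFinite G
  -- finset versions
  set S : Finset G := Finset.univ.filter (fun w => IsConj w z) with hS
  set J' : Finset G := S.filter (fun w => w * z = z * w) with hJ'
  have memS : ∀ w, w ∈ S ↔ IsConj w z := by
    intro w
    simp [hS]
  have memJ' : ∀ w, w ∈ J' ↔ (IsConj w z ∧ w * z = z * w) := by
    intro w
    simp [hJ', memS]
  have hmemJ : ∀ w, w ∈ J' ↔ w ∈ J := by
    intro w
    rw [memJ', hJ]
  have hJ'c : J'.card = 11 := by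
    rw [← hJc, Nat.card_eq_fintype_card, Fintype.card_subtype]
    congr 1
    ext w
    simp [hmemJ]
  have hzJ : z ∈ J' := (memJ' z).2 ⟨IsConj.refl z, rfl⟩
  -- Λ x
  let Sx : G → Finset G := fun x => S.filter (fun w => w * x = x * w)
  let Λ : G → Finset G := fun x => (Sx x).filter (fun w => ¬ w * z = z * w)
  have memSx : ∀ x w, w ∈ Sx x ↔ (IsConj w z ∧ w * x = x * w) := by
    intro x w
    simp [Sx, memS]
  have hSx : ∀ x ∈ J', (Sx x).card = 11 := by
    intro x hx
    have hxc : IsConj x z := by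
      have := (hmemJ x).1 hx
      exact ((hJ x).1 this).1
    obtain ⟨c, hc⟩ := isConj_iff.1 hxc
    -- c * x * c⁻¹ = z
    rw [← hJ'c]
    refine Finset.card_nbij' (fun w => c * w * c⁻¹) (fun w => c⁻¹ * w * c) ?_ ?_ ?_ ?_
    · intro w hw
      rw [Finset.mem_coe, memSx] at hw
      rw [Finset.mem_coe, memJ']
      refine ⟨?_, ?_⟩
      · exact (isConj_iff.2 ⟨c, rfl⟩ : IsConj w (c * w * c⁻¹)).symm.trans hw.1
      · rw [← hc]
        have h2 := hw.2
        calc c * w * c⁻¹ * (c * x * c⁻¹) = c * (w * x) * c⁻¹ := by group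
          _ = c * (x * w) * c⁻¹ := by rw [h2]
          _ = c * x * c⁻¹ * (c * w * c⁻¹) := by group
    · intro w hw
      rw [Finset.mem_coe, memJ'] at hw
      rw [Finset.mem_coe, memSx]
      refine ⟨?_, ?_⟩
      · have : IsConj w (c⁻¹ * w * c) := isConj_iff.2 ⟨c⁻¹, by group⟩
        exact this.symm.trans hw.1
      · have h2 := hw.2
        rw [← hc] at h2
        have : x = c⁻¹ * (c * x * c⁻¹) * c := by group
        calc c⁻¹ * w * c * x = c⁻¹ * (w * (c * x * c⁻¹)) * c := by group
          _ = c⁻¹ * ((c * x * c⁻¹) * w) * c := by rw [h2]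
          _ = x * (c⁻¹ * w * c) := by group
    · intro w _
      group
    · intro w _
      group
  have hΛc : ∀ x ∈ J', x ≠ z → (Λ x).card = 8 := by
    intro x hx hxz
    have h11 := hSx x hx
    have hsplit := Finset.card_filter_add_card_filter_not (s := Sx x) (fun w => w * z = z * w)
    have h3' : ((Sx x).filter (fun w => w * z = z * w)).card = 3 := by
      rw [← h3 x ((hmemJ x).1 hx) hxz, Nat.card_eq_fintype_card, Fintype.card_subtype]
      congr 1
      ext w
      simp only [Sx, Finset.mem_filter, Finset.mem_univ, true_and, hS, hJ]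
      tauto
    have : (Λ x).card = ((Sx x).filter (fun w => ¬ w * z = z * w)).card := rfl
    omega
  -- disjointness
  have hΛS : ∀ x, Λ x ⊆ S := by
    intro x w hw
    simp only [Λ, Sx, Finset.mem_filter] at hw
    exact hw.1.1
  have hΛJ : ∀ x, Disjoint J' (Λ x) := by
    intro x
    rw [Finset.disjoint_left]
    intro w hw hw'
    simp only [Λ, Sx, Finset.mem_filter] at hw'
    simp only [hJ', Finset.mem_filter] at hw
    exact hw'.2 hw.2
  have hΛΛ : ∀ x ∈ J'.erase z, ∀ x' ∈ J'.erase z, x ≠ x' → Disjoint (Λ x) (Λ x') := by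
    intro x hx x' hx' hne
    rw [Finset.disjoint_left]
    intro w hw hw'
    simp only [Λ, Sx, Finset.mem_filter] at hw hw'
    rw [Finset.mem_erase] at hx hx'
    exact hw.2 (hgen x ((hmemJ x).1 hx.2) x' ((hmemJ x').1 hx'.2) hx.1 hx'.1 hne w hw.1.2 hw'.1.2)
  have hU : ((J'.erase z).biUnion Λ).card = 80 := by
    rw [Finset.card_biUnion]
    · rw [Finset.sum_congr rfl (fun x hx => hΛc x (Finset.mem_of_mem_erase hx) (Finset.ne_of_mem_erase hx))]
      simp [Finset.card_erase_of_mem hzJ, hJ'c]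
    · intro x hx x' hx' hne
      exact hΛΛ x hx x' hx' hne
  have hdisj : Disjoint J' ((J'.erase z).biUnion Λ) := by
    rw [Finset.disjoint_biUnion_right]
    intro x _
    exact hΛJ x
  have hsub : J' ∪ (J'.erase z).biUnion Λ ⊆ S := by
    apply Finset.union_subset (Finset.filter_subset _ _)
    intro w hw
    rw [Finset.mem_biUnion] at hw
    obtain ⟨x, _, hwx⟩ := hw
    exact hΛS x hwx
  have hcard := Finset.card_le_card hsub
  rw [Finset.card_union_of_disjoint hdisj, hJ'c, hU] at hcard
  have hSc : Nat.card {w : G // IsConj w z} = S.card := by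
    rw [Nat.card_eq_fintype_card, Fintype.card_subtype]
  rw [hSc]
  exact hcard

end Cfsg.Agent.Lib.Helper5.J2C8
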