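import Mathlib
import Cfsg.Agent.Lib.Helper1.ClassTwo
import Cfsg.Agent.Lib.Helper8.NG5Defs

/-!
# Farm NG5 (S1904): units U12 `cw1` (one quadric) and U13 `cwpair` (commuting singular pair).
Direct counting replacements of Chevalley-Warning.
-/

set_option autoImplicit false
open scoped commutatorElement

namespace Cfsg.Agent.Lib.Helper5.NG5U12

open Cfsg.Agent.Lib.Helper1

/-- the union of `l.length` left translates of `W` has at most `l.length * |W|` elements -/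
theorem ncard_bad_le {P : Type*} [Group P] [Finite P] (W : Set P) (l : List P) :
    ({v : P | ∃ c ∈ l, c * v ∈ W} : Set P).ncard ≤ l.length * W.ncard := by
  induction l with
  | nil => simp
  | cons a l ih =>
    have hset : {v : P | ∃ c ∈ a :: l, c * v ∈ W} =
        ((fun w => a⁻¹ * w) '' W) ∪ {v : P | ∃ c ∈ l, c * v ∈ W} := by
      ext v
      simp only [List.mem_cons, Set.mem_ofPred_eq, Set.mem_union, Set.mem_image]
      constructor
      · rintro ⟨c, rfl | hc, hcw⟩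
        · left; exact ⟨c * v, hcw, by group⟩
        · right; exact ⟨c, hc, hcw⟩
      · rintro (⟨w, hw, rfl⟩ | ⟨c, hc, hcw⟩)
        · exact ⟨a, Or.inl rfl, by simpa using hw⟩
        · exact ⟨c, Or.inr hc, hcw⟩
    rw [hset]
    calc (((fun w => a⁻¹ * w) '' W) ∪ {v : P | ∃ c ∈ l, c * v ∈ W}).ncard
        ≤ ((fun w => a⁻¹ * w) '' W).ncard + ({v : P | ∃ c ∈ l, c * v ∈ W} : Set P).ncard :=
          Set.ncard_union_le _ _
      _ ≤ W.ncard + l.length * W.ncard :=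
          Nat.add_le_add (Set.ncard_image_le (Set.toFinite _)) ih
      _ = (a :: l).length * W.ncard := by rw [List.length_cons]; ring

/-- avoiding finitely many cosets -/
theorem exists_avoid {P : Type*} [Group P] [Finite P] (D W : Set P) (l : List P)
    (h : l.length * W.ncard < D.ncard) : ∃ v ∈ D, ∀ c ∈ l, c * v ∉ W := by
  by_contra hcon
  push Not at hcon
  have hsub : D ⊆ {v : P | ∃ c ∈ l, c * v ∈ W} := fun v hv => hcon v hv
  have h1 := Set.ncard_le_ncard hsub (Set.toFinite _)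
  have h2 := ncard_bad_le W l
  omega

/-- index at most two -/
theorem ncard_le_two_mul {P : Type*} [Group P] [Finite P] (Y D : Set P)
    (h : ∀ a ∈ Y, ∀ b ∈ Y, a ∉ D → b ∉ D → a⁻¹ * b ∈ D) : Y.ncard ≤ 2 * D.ncard := by
  by_cases hex : ∃ a ∈ Y, a ∉ D
  · obtain ⟨a, haY, haD⟩ := hex
    have hsub : Y ⊆ {v : P | ∃ c ∈ [1, a⁻¹], c * v ∈ D} := by
      intro b hb
      by_cases hbD : b ∈ D
      · exact ⟨1, by simp, by simpa using hbD⟩
      · exact ⟨a⁻¹, by simp, h a haY b hb haD hbD⟩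
    calc Y.ncard ≤ ({v : P | ∃ c ∈ [1, a⁻¹], c * v ∈ D} : Set P).ncard :=
          Set.ncard_le_ncard hsub (Set.toFinite _)
      _ ≤ [1, a⁻¹].length * D.ncard := ncard_bad_le D _
      _ = 2 * D.ncard := by simp
  · push Not at hex
    have h1 : Y.ncard ≤ D.ncard := Set.ncard_le_ncard hex (Set.toFinite _)
    omega

/-- fibre counting -/
theorem ncard_le_mul_of_fibre {P Q : Type*} [Group P] [Finite P] [Finite Q] (Y H : Set P)
    (W : Set Q) (f : P → Q) (hf : ∀ v ∈ Y, f v ∈ W)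
    (hfib : ∀ a ∈ Y, ∀ b ∈ Y, f a = f b → a⁻¹ * b ∈ H) : Y.ncard ≤ W.ncard * H.ncard := by
  classical
  haveI : Fintype P := Fintype.ofFinite P
  haveI : Fintype Q := Fintype.ofFinite Q
  rw [Set.ncard_eq_toFinset_card' Y, Set.ncard_eq_toFinset_card' W, mul_comm]
  apply Finset.card_le_mul_card_image_of_maps_to (f := f)
  · intro a ha
    rw [Set.mem_toFinset] at ha ⊢
    exact hf a ha
  · intro q _
    by_cases hne : (Y.toFinset.filter fun x => f x = q).Nonempty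
    · obtain ⟨a, ha⟩ := hne
      rw [Finset.mem_filter, Set.mem_toFinset] at ha
      have hsub : (Y.toFinset.filter fun x => f x = q) ⊆ H.toFinset.image (fun h => a * h) := by
        intro x hx
        rw [Finset.mem_filter, Set.mem_toFinset] at hx
        rw [Finset.mem_image]
        refine ⟨a⁻¹ * x, ?_, by group⟩
        rw [Set.mem_toFinset]
        exact hfib a ha.1 x hx.1 (ha.2.trans hx.2.symm)
      calc _ ≤ (H.toFinset.image (fun h => a * h)).card := Finset.card_le_card hsub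
        _ ≤ H.toFinset.card := Finset.card_image_le
        _ = H.ncard := (Set.ncard_eq_toFinset_card' H).symm
    · rw [Finset.not_nonempty_iff_eq_empty] at hne
      rw [hne]; simp

section typed

variable {P : Type*} [Group P] [Finite P] (W W₁ : Subgroup P)

theorem comm_inv_mul (hCC : CommCentral P) (u a b : P) : ⁅u, a⁻¹ * b⁆ = ⁅u, a⁆⁻¹ * ⁅u, b⁆ := by
  rw [hCC.comm_mul_right]
  congr 1
  have h1 := hCC.comm_mul_right u a a⁻¹
  rw [mul_inv_cancel, commutatorElement_one_right] at h1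
  exact eq_inv_of_mul_eq_one_right h1.symm

theorem sq_mul_mem (hCC : CommCentral P)
    (hsq : ∀ y : P, y ^ 2 ∈ W)
    (h2 : ∀ a ∈ W, ∀ b ∈ W, a ∉ W₁ → b ∉ W₁ → a * b ∈ W₁) (u v : P) (hu : u ^ 2 ∉ W₁)
    (hv : v ^ 2 ∉ W₁) (huv : ⁅u, v⁆ ∈ W₁) : (u * v) ^ 2 ∈ W₁ := by
  rw [hCC.mul_pow_eq u v 2]
  have : Nat.choose 2 2 = 1 := by decide
  rw [this, pow_one]
  apply W₁.mul_mem (h2 _ (hsq u) _ (hsq v) hu hv)
  rw [← commutatorElement_inv]
  exact W₁.inv_mem huv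

theorem cw1_typed (hcen : ∀ w ∈ W, ∀ y : P, w * y = y * w) (hsq : ∀ y : P, y ^ 2 ∈ W)
    (hcomm : ∀ y y' : P, ⁅y, y'⁆ ∈ W)
    (h2 : ∀ a ∈ W, ∀ b ∈ W, a ∉ W₁ → b ∉ W₁ → a * b ∈ W₁)
    (hcard : 8 * Nat.card W ≤ Nat.card P) : ∃ y : P, y ∉ W ∧ y ^ 2 ∈ W₁ := by
  have hCC : CommCentral P := fun x y z => hcen _ (hcomm x y) z
  have hWpos : 0 < Nat.card W := Nat.card_pos
  have hWn : (W : Set P).ncard = Nat.card W := (Nat.card_coe_set_eq (W : Set P)).symm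
  have hUn : (Set.univ : Set P).ncard = Nat.card P := Set.ncard_univ P
  obtain ⟨u, -, hu⟩ := exists_avoid (Set.univ : Set P) (W : Set P) [1]
    (by rw [hWn, hUn]; simp only [List.length_singleton]; omega)
  have hu1 : u ∉ W := by simpa using hu 1 (by simp)
  by_cases hu2 : u ^ 2 ∈ W₁
  · exact ⟨u, hu1, hu2⟩
  set D : Set P := {v | ⁅u, v⁆ ∈ W₁} with hDdef
  have hD : (Set.univ : Set P).ncard ≤ 2 * D.ncard := by
    apply ncard_le_two_mul
    intro a _ b _ ha hb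
    show ⁅u, a⁻¹ * b⁆ ∈ W₁
    rw [comm_inv_mul hCC]
    exact h2 _ (W.inv_mem (hcomm u a)) _ (hcomm u b) (fun hh => ha (show ⁅u, a⁆ ∈ W₁ by simpa using W₁.inv_mem hh)) hb
  obtain ⟨v, hvD, hv⟩ := exists_avoid D (W : Set P) [1, u]
    (by rw [hWn]; rw [hUn] at hD; simp only [List.length_cons, List.length_nil]; omega)
  have hv1 : v ∉ W := by simpa using hv 1 (by simp)
  have hv2 : u * v ∉ W := hv u (by simp)
  by_cases hv2' : v ^ 2 ∈ W₁
  · exact ⟨v, hv1, hv2'⟩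
  exact ⟨u * v, hv2, sq_mul_mem W W₁ hCC hsq h2 u v hu2 hv2' hvD⟩

theorem cwpair_typed (hcen : ∀ w ∈ W, ∀ y : P, w * y = y * w) (hsq : ∀ y : P, y ^ 2 ∈ W)
    (hcomm : ∀ y y' : P, ⁅y, y'⁆ ∈ W)
    (h2 : ∀ a ∈ W, ∀ b ∈ W, a ∉ W₁ → b ∉ W₁ → a * b ∈ W₁)
    (hcard : 16 * Nat.card W * Nat.card W ≤ Nat.card P) :
    ∃ u v : P, u ^ 2 ∈ W₁ ∧ v ^ 2 ∈ W₁ ∧ u * v = v * u ∧ u ∉ W ∧ v ∉ W ∧ u * v ∉ W := by
  have hCC : CommCentral P := fun x y z => hcen _ (hcomm x y) z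
  have hWpos : 0 < Nat.card W := Nat.card_pos
  have hWn : (W : Set P).ncard = Nat.card W := (Nat.card_coe_set_eq (W : Set P)).symm
  have hUn : (Set.univ : Set P).ncard = Nat.card P := Set.ncard_univ P
  have h8 : 8 * Nat.card W ≤ Nat.card P := by nlinarith
  obtain ⟨u, hu, hu2⟩ := cw1_typed W W₁ hcen hsq hcomm h2 h8
  set H : Set P := {v | u * v = v * u} with hHdef
  have hH : (Set.univ : Set P).ncard ≤ (W : Set P).ncard * H.ncard := by
    apply ncard_le_mul_of_fibre (Set.univ : Set P) H (W : Set P) (fun v => ⁅u, v⁆)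
    · intro v _; exact hcomm u v
    · intro a _ b _ hab
      show u * (a⁻¹ * b) = a⁻¹ * b * u
      have h3 : ⁅u, a⁻¹ * b⁆ = 1 := by
        rw [comm_inv_mul hCC]
        have hab' : ⁅u, a⁆ = ⁅u, b⁆ := hab
        rw [hab', inv_mul_cancel]
      exact (commutatorElement_eq_one_iff_mul_comm.mp h3)
  rw [hWn, hUn] at hH
  have hH16 : 16 * Nat.card W ≤ H.ncard := by
    have : Nat.card W * (16 * Nat.card W) ≤ Nat.card W * H.ncard := by
      calc Nat.card W * (16 * Nat.card W) = 16 * Nat.card W * Nat.card W := by ring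
        _ ≤ Nat.card P := hcard
        _ ≤ Nat.card W * H.ncard := hH
    exact Nat.le_of_mul_le_mul_left this hWpos
  obtain ⟨v₀, hv₀H, hv₀⟩ := exists_avoid H (W : Set P) [1, u]
    (by rw [hWn]; simp only [List.length_cons, List.length_nil]; omega)
  have hv₀1 : v₀ ∉ W := by simpa using hv₀ 1 (by simp)
  have hv₀2 : u * v₀ ∉ W := hv₀ u (by simp)
  by_cases hv₀sq : v₀ ^ 2 ∈ W₁
  · exact ⟨u, v₀, hu2, hv₀sq, hv₀H, hu, hv₀1, hv₀2⟩
  set H' : Set P := {w | w ∈ H ∧ ⁅v₀, w⁆ ∈ W₁} with hH'def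
  have hH' : H.ncard ≤ 2 * H'.ncard := by
    apply ncard_le_two_mul
    intro a ha b hb haH' hbH'
    have ha1 : ⁅v₀, a⁆ ∉ W₁ := fun hh => haH' ⟨ha, hh⟩
    have hb1 : ⁅v₀, b⁆ ∉ W₁ := fun hh => hbH' ⟨hb, hh⟩
    refine ⟨?_, ?_⟩
    · show u * (a⁻¹ * b) = a⁻¹ * b * u
      have ha' : u * a = a * u := ha
      have hb' : u * b = b * u := hb
      have ha'' : u * a⁻¹ = a⁻¹ * u := by
        have := congrArg (fun t => a⁻¹ * t * a⁻¹) ha'
        simpa [mul_assoc] using this.symm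
      calc u * (a⁻¹ * b) = (u * a⁻¹) * b := by rw [mul_assoc]
        _ = a⁻¹ * (u * b) := by rw [ha'', mul_assoc]
        _ = a⁻¹ * b * u := by rw [hb', mul_assoc]
    · show ⁅v₀, a⁻¹ * b⁆ ∈ W₁
      rw [comm_inv_mul hCC]
      exact h2 _ (W.inv_mem (hcomm v₀ a)) _ (hcomm v₀ b)
        (fun hh => ha1 (by simpa using W₁.inv_mem hh)) hb1
  obtain ⟨w, hwH', hw⟩ := exists_avoid H' (W : Set P) [1, u, v₀, u * v₀]
    (by rw [hWn]; simp only [List.length_cons, List.length_nil]; omega)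
  have hw1 : w ∉ W := by simpa using hw 1 (by simp)
  have hw2 : u * w ∉ W := hw u (by simp)
  have hw3 : v₀ * w ∉ W := hw v₀ (by simp)
  have hw4 : u * v₀ * w ∉ W := hw (u * v₀) (by simp)
  have hwH : u * w = w * u := hwH'.1
  by_cases hwsq : w ^ 2 ∈ W₁
  · exact ⟨u, w, hu2, hwsq, hwH, hu, hw1, hw2⟩
  · refine ⟨u, v₀ * w, hu2, sq_mul_mem W W₁ hCC hsq h2 v₀ w hv₀sq hwsq hwH'.2, ?_, hu, hw3, ?_⟩
    · have hv₀H' : u * v₀ = v₀ * u := hv₀H
      calc u * (v₀ * w) = (u * v₀) * w := by rw [mul_assoc]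
        _ = v₀ * (u * w) := by rw [hv₀H', mul_assoc]
        _ = v₀ * w * u := by rw [hwH, mul_assoc]
    · rw [← mul_assoc]; exact hw4

end typed

/-- U12 (one quadric), verbatim. -/
theorem cw1 {G : Type*} [Group G] [Finite G] (Y W W₁ : Subgroup G) (hW₁ : W₁ ≤ W) (hWY : W ≤ Y)
    (hcen : ∀ w ∈ W, ∀ y ∈ Y, w * y = y * w) (hsq : ∀ y ∈ Y, y ^ 2 ∈ W)
    (hcomm : ∀ y ∈ Y, ∀ y' ∈ Y, ⁅y, y'⁆ ∈ W)
    (h2 : ∀ a ∈ W, ∀ b ∈ W, a ∉ W₁ → b ∉ W₁ → a * b ∈ W₁)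
    (hcard : 8 * Nat.card W ≤ Nat.card Y) : ∃ y ∈ Y, y ∉ W ∧ y ^ 2 ∈ W₁ := by
  have hcW : Nat.card (W.subgroupOf Y) = Nat.card W :=
    Nat.card_congr (Subgroup.subgroupOfEquivOfLe hWY).toEquiv
  obtain ⟨y, hy1, hy2⟩ := cw1_typed (P := ↥Y) (W.subgroupOf Y) (W₁.subgroupOf Y)
    (fun w hw y => Subtype.ext (hcen w hw y y.2))
    (fun y => by
      show ((y ^ 2 : ↥Y) : G) ∈ W
      rw [Subgroup.coe_pow]; exact hsq y y.2)
    (fun y y' => by
      have := hcomm y y.2 y' y'.2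
      show ((⁅y, y'⁆ : ↥Y) : G) ∈ W
      simpa [commutatorElement_def] using this)
    (fun a ha b hb ha1 hb1 => h2 a ha b hb ha1 hb1)
    (by rw [hcW]; exact hcard)
  refine ⟨(y : G), y.2, hy1, ?_⟩
  have : ((y ^ 2 : ↥Y) : G) ∈ W₁ := hy2
  rwa [Subgroup.coe_pow] at this

/-- U13 (commuting singular pair), verbatim. -/
theorem cwpair {G : Type*} [Group G] [Finite G] (Y W W₁ : Subgroup G) (hW₁ : W₁ ≤ W)
    (hWY : W ≤ Y)
    (hcen : ∀ w ∈ W, ∀ y ∈ Y, w * y = y * w) (hsq : ∀ y ∈ Y, y ^ 2 ∈ W)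
    (hcomm : ∀ y ∈ Y, ∀ y' ∈ Y, ⁅y, y'⁆ ∈ W)
    (h2 : ∀ a ∈ W, ∀ b ∈ W, a ∉ W₁ → b ∉ W₁ → a * b ∈ W₁)
    (hcard : 16 * Nat.card W * Nat.card W ≤ Nat.card Y) :
    ∃ u ∈ Y, ∃ v ∈ Y, u ^ 2 ∈ W₁ ∧ v ^ 2 ∈ W₁ ∧ u * v = v * u ∧ u ∉ W ∧ v ∉ W ∧ u * v ∉ W := by
  have hcW : Nat.card (W.subgroupOf Y) = Nat.card W :=
    Nat.card_congr (Subgroup.subgroupOfEquivOfLe hWY).toEquiv
  obtain ⟨u, v, hu2, hv2, huv, hu, hv, huv'⟩ := cwpair_typed (P := ↥Y) (W.subgroupOf Y)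
    (W₁.subgroupOf Y)
    (fun w hw y => Subtype.ext (hcen w hw y y.2))
    (fun y => by
      show ((y ^ 2 : ↥Y) : G) ∈ W
      rw [Subgroup.coe_pow]; exact hsq y y.2)
    (fun y y' => by
      have := hcomm y y.2 y' y'.2
      show ((⁅y, y'⁆ : ↥Y) : G) ∈ W
      simpa [commutatorElement_def] using this)
    (fun a ha b hb ha1 hb1 => h2 a ha b hb ha1 hb1)
    (by rw [hcW]; exact hcard)
  refine ⟨(u : G), u.2, (v : G), v.2, ?_, ?_, congrArg Subtype.val huv, hu, hv, huv'⟩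
  · have : ((u ^ 2 : ↥Y) : G) ∈ W₁ := hu2
    rwa [Subgroup.coe_pow] at this
  · have : ((v ^ 2 : ↥Y) : G) ∈ W₁ := hv2
    rwa [Subgroup.coe_pow] at this

end Cfsg.Agent.Lib.Helper5.NG5U12
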