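import Mathlib
import Cfsg.Prelude.Def_ClassicalGeometry
import Cfsg.Agent.Lib.Helper2.SpUDefs
import Cfsg.Agent.Lib.Helper2.SpUBR
import Cfsg.Agent.Lib.Helper5.SympBridge
import Cfsg.Agent.Lib.Helper5.SympTv
import Cfsg.Agent.Lib.Helper9.SpLag
import Cfsg.Agent.Lib.Helper7.SpUSB

set_option autoImplicit false
set_option linter.style.haveILetI false
set_option linter.unusedSectionVars false

namespace Cfsg.Agent.Lib.Helper5.SpUG1

open Matrix Cfsg Cfsg.Agent.Lib.Helper2.SpU Cfsg.Agent.Lib.Helper5.SympBlock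
open Cfsg.Agent.Lib.Helper9 Cfsg.Agent.Lib.Helper5.SympBridge

variable {F : Type*} [Field F]

theorem sympForm_pow_left {n : ℕ} (A A' : Mat F n)
    (hadj : Aᵀ * J (Fin n) F = J (Fin n) F * A') (j : ℕ) (x y : Fin n ⊕ Fin n → F) :
    sympForm n F ((A ^ j) *ᵥ x) y = sympForm n F x ((A' ^ j) *ᵥ y) := by
  induction j generalizing x y with
  | zero => simp
  | succ j ih =>
    rw [pow_succ', ← Matrix.mulVec_mulVec, SpLag.sympForm_mulVec_left n A A' hadj, ih,
      Matrix.mulVec_mulVec, ← pow_succ]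

/-- the generalized kernel of a matrix -/
noncomputable def genKer {n : ℕ} (A : Mat F n) : Submodule F (Fin n ⊕ Fin n → F) :=
  Module.End.maxGenEigenspace (Matrix.toLin' A) 0

/-- the stable range of a matrix -/
noncomputable def genRange {n : ℕ} (A : Mat F n) : Submodule F (Fin n ⊕ Fin n → F) :=
  ⨅ j : ℕ, LinearMap.range ((Matrix.toLin' A) ^ j)

theorem toLin'_pow_apply {n : ℕ} (A : Mat F n) (j : ℕ) (v : Fin n ⊕ Fin n → F) :
    ((Matrix.toLin' A) ^ j) v = (A ^ j) *ᵥ v := by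
  rw [← Matrix.toLin'_pow, Matrix.toLin'_apply]

theorem toLin'_pow_apply' {ι : Type*} [Fintype ι] [DecidableEq ι] (A : Matrix ι ι F) (j : ℕ)
    (v : ι → F) : ((Matrix.toLin' A) ^ j) v = (A ^ j) *ᵥ v := by
  rw [← Matrix.toLin'_pow, Matrix.toLin'_apply]

theorem mem_genKer {n : ℕ} (A : Mat F n) (u : Fin n ⊕ Fin n → F) :
    u ∈ genKer A ↔ ∃ j : ℕ, (A ^ j) *ᵥ u = 0 := by
  unfold genKer
  rw [Module.End.mem_maxGenEigenspace]
  simp only [zero_smul, sub_zero, toLin'_pow_apply]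

theorem mem_genRange {n : ℕ} (A : Mat F n) (w : Fin n ⊕ Fin n → F) :
    w ∈ genRange A ↔ ∀ j : ℕ, ∃ y, (A ^ j) *ᵥ y = w := by
  unfold genRange
  rw [Submodule.mem_iInf]
  simp only [LinearMap.mem_range, toLin'_pow_apply]

theorem genKer_eq_iSup {n : ℕ} (A : Mat F n) :
    genKer A = ⨆ j : ℕ, LinearMap.ker ((Matrix.toLin' A) ^ j) := by
  simp [genKer, ← Module.End.iSup_genEigenspace_eq, Module.End.genEigenspace_nat]

theorem isCompl_genKer_genRange {n : ℕ} (A : Mat F n) : IsCompl (genKer A) (genRange A) := by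
  rw [genKer_eq_iSup]
  exact LinearMap.isCompl_iSup_ker_pow_iInf_range_pow _

theorem finrank_genKer {n : ℕ} (A : Mat F n) : Module.finrank F (genKer A) = nd A := by
  unfold genKer nd
  rw [LinearMap.finrank_maxGenEigenspace_zero_eq, Matrix.charpoly_toLin']

theorem mulVec_mem_genKer {n : ℕ} (A : Mat F n) (u : Fin n ⊕ Fin n → F) (hu : u ∈ genKer A) :
    A *ᵥ u ∈ genKer A := by
  rw [mem_genKer] at hu ⊢
  obtain ⟨j, hj⟩ := hu
  refine ⟨j, ?_⟩
  rw [Matrix.mulVec_mulVec, ← pow_succ, pow_succ', ← Matrix.mulVec_mulVec, hj, Matrix.mulVec_zero]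

theorem mulVec_mem_genRange {n : ℕ} (A : Mat F n) (w : Fin n ⊕ Fin n → F)
    (hw : w ∈ genRange A) : A *ᵥ w ∈ genRange A := by
  rw [mem_genRange] at hw ⊢
  intro j
  obtain ⟨y, hy⟩ := hw j
  refine ⟨A *ᵥ y, ?_⟩
  rw [Matrix.mulVec_mulVec, ← pow_succ, pow_succ', ← Matrix.mulVec_mulVec, hy]

theorem ker_le_genKer {n : ℕ} (A : Mat F n) (u : Fin n ⊕ Fin n → F) (hu : A *ᵥ u = 0) :
    u ∈ genKer A := by
  rw [mem_genKer]
  exact ⟨1, by rw [pow_one, hu]⟩

theorem orth {n : ℕ} (A C : Mat F n) (hC : C * A = A * C)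
    (hadj : Aᵀ * J (Fin n) F = J (Fin n) F * C * A) (u w : Fin n ⊕ Fin n → F)
    (hu : u ∈ genKer A) (hw : w ∈ genRange A) : sympForm n F w u = 0 := by
  rw [mem_genKer] at hu
  obtain ⟨j, hj⟩ := hu
  rw [mem_genRange] at hw
  obtain ⟨y, rfl⟩ := hw j
  have hadj' : Aᵀ * J (Fin n) F = J (Fin n) F * (C * A) := by rw [hadj, Matrix.mul_assoc]
  rw [sympForm_pow_left A (C * A) hadj' j y u]
  have hcomm : Commute C A := hC
  rw [hcomm.mul_pow, ← Matrix.mulVec_mulVec, hj, Matrix.mulVec_zero]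
  exact SpLag.sympForm_zero_right n _

theorem orth' {n : ℕ} (A C : Mat F n) (hC : C * A = A * C)
    (hadj : Aᵀ * J (Fin n) F = J (Fin n) F * C * A) (u w : Fin n ⊕ Fin n → F)
    (hu : u ∈ genKer A) (hw : w ∈ genRange A) : sympForm n F u w = 0 := by
  rw [SympTv.sympForm_swap, orth A C hC hadj u w hu hw, neg_zero]

/-- restriction of the symplectic form to one of two orthogonal complementary subspaces
is nondegenerate -/
theorem restrict_nondegenerate {n : ℕ} (S T : Submodule F (Fin n ⊕ Fin n → F))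
    (hST : S ⊔ T = ⊤) (h : ∀ s ∈ S, ∀ t ∈ T, sympForm n F s t = 0) :
    ((sympBilin F n).restrict S).Nondegenerate := by
  have key : ∀ s ∈ S, (∀ s' ∈ S, sympForm n F s s' = 0) → s = 0 := by
    intro s hs hs'
    apply (sympBilin_nondegenerate (F := F) n).1 s
    intro v
    have hv : v ∈ S ⊔ T := by rw [hST]; trivial
    obtain ⟨a, ha, b, hb, rfl⟩ := Submodule.mem_sup.mp hv
    rw [map_add, sympBilin_apply, sympBilin_apply, hs' a ha, h s hs b hb, add_zero]
  constructor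
  · intro x hx
    apply Subtype.ext
    apply key x.1 x.2
    intro s' hs'
    exact hx ⟨s', hs'⟩
  · intro x hx
    apply Subtype.ext
    apply key x.1 x.2
    intro s' hs'
    have this : sympForm n F s' x.1 = 0 := hx ⟨s', hs'⟩
    rw [SympTv.sympForm_swap, this, neg_zero]


/-- a symplectic basis of a subspace on which the form is nondegenerate -/
theorem exists_basis_sub {n : ℕ} (S : Submodule F (Fin n ⊕ Fin n → F))
    (hS : ((sympBilin F n).restrict S).Nondegenerate) :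
    ∃ (r : ℕ) (b : Fin r ⊕ Fin r → (Fin n ⊕ Fin n → F)), Module.finrank F S = 2 * r ∧
      (∀ i, b i ∈ S) ∧ (∀ i j, sympForm n F (b i) (b j) = J (Fin r) F i j) := by
  have halt : ((sympBilin F n).restrict S).IsAlt := fun x => sympBilin_isAlt (F := F) n x.1
  obtain ⟨r, bS, hbS⟩ := Cfsg.Agent.Lib.Helper7.SpUSB.exists_sympBasis _ halt hS
  refine ⟨r, fun i => (bS i : Fin n ⊕ Fin n → F), ?_, fun i => (bS i).2, fun i j => hbS i j⟩
  rw [Module.finrank_eq_card_basis bS, Fintype.card_sum, Fintype.card_fin]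
  omega

/-- G1a: the generalized kernel of a matrix `A` whose adjoint is `C * A` has even dimension. -/
theorem fitSp_even {m : ℕ} (A C : Mat F m) (hC : C * A = A * C)
    (hadj : Aᵀ * Matrix.J (Fin m) F = Matrix.J (Fin m) F * C * A) :
    ∃ k : ℕ, k ≤ m ∧ nd A = 2 * k := by
  have hcompl := isCompl_genKer_genRange A
  have hnd := restrict_nondegenerate (genKer A) (genRange A) hcompl.sup_eq_top
    (fun s hs t ht => orth' A C hC hadj s t hs ht)
  obtain ⟨r, b, hfr, -⟩ := exists_basis_sub (genKer A) hnd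
  refine ⟨r, ?_, ?_⟩
  · have := Submodule.finrank_le (genKer A)
    rw [hfr, Module.finrank_fintype_fun_eq_card, Fintype.card_sum, Fintype.card_fin] at this
    omega
  · rw [← finrank_genKer, hfr]


section emb
variable (k l : ℕ)

/-- the vector with `U`-coordinates `y` and `W`-coordinates `z` -/
def emb (y : Fin k ⊕ Fin k → F) (z : Fin l ⊕ Fin l → F) : Fin (k + l) ⊕ Fin (k + l) → F :=
  fun i => Sum.elim y z ((eKL k l).symm i)

theorem ext_eKL (f g : Fin (k + l) ⊕ Fin (k + l) → F) (h : f ∘ eKL k l = g ∘ eKL k l) : f = g := by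
  funext i
  obtain ⟨a, rfl⟩ := (eKL k l).surjective i
  exact congrFun h a

theorem emb_comp (y : Fin k ⊕ Fin k → F) (z : Fin l ⊕ Fin l → F) :
    emb k l y z ∘ eKL k l = Sum.elim y z := by
  funext a
  simp [emb]

theorem emb_inl (y : Fin k ⊕ Fin k → F) (z : Fin l ⊕ Fin l → F) (a : Fin k ⊕ Fin k) :
    emb k l y z (eKL k l (Sum.inl a)) = y a := by
  simp [emb]

theorem emb_inr (y : Fin k ⊕ Fin k → F) (z : Fin l ⊕ Fin l → F) (c : Fin l ⊕ Fin l) :
    emb k l y z (eKL k l (Sum.inr c)) = z c := by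
  simp [emb]

theorem emb_add (y : Fin k ⊕ Fin k → F) (z : Fin l ⊕ Fin l → F) :
    emb k l y z = emb k l y 0 + emb k l 0 z := by
  apply ext_eKL
  funext a
  rcases a with a | a <;> simp [emb]

theorem emb_zero : emb k l (0 : Fin k ⊕ Fin k → F) (0 : Fin l ⊕ Fin l → F) = 0 := by
  apply ext_eKL
  funext a
  rcases a with a | a <;> simp [emb]

theorem emb_eq_zero (y : Fin k ⊕ Fin k → F) (z : Fin l ⊕ Fin l → F) (h : emb k l y z = 0) :
    y = 0 ∧ z = 0 := by
  constructor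
  · funext a
    have := congrFun h (eKL k l (Sum.inl a))
    rwa [emb_inl] at this
  · funext c
    have := congrFun h (eKL k l (Sum.inr c))
    rwa [emb_inr] at this

theorem fromBlocks_mulVec_emb (M : Mat F (k + l)) (y : Fin k ⊕ Fin k → F) (z : Fin l ⊕ Fin l → F) :
    M *ᵥ emb k l y z =
      emb k l ((M.submatrix (eKL k l) (eKL k l)).toBlocks₁₁ *ᵥ y +
          (M.submatrix (eKL k l) (eKL k l)).toBlocks₁₂ *ᵥ z)
        ((M.submatrix (eKL k l) (eKL k l)).toBlocks₂₁ *ᵥ y +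
          (M.submatrix (eKL k l) (eKL k l)).toBlocks₂₂ *ᵥ z) := by
  apply ext_eKL
  rw [mulVec_comp_eKL, emb_comp, emb_comp]
  conv_lhs => rw [← Matrix.fromBlocks_toBlocks (M.submatrix (eKL k l) (eKL k l))]
  rw [Matrix.fromBlocks_mulVec]
  simp

theorem bd_mulVec_emb (N : Mat F k) (R : Mat F l) (y : Fin k ⊕ Fin k → F)
    (z : Fin l ⊕ Fin l → F) :
    bd k l N R *ᵥ emb k l y z = emb k l (N *ᵥ y) (R *ᵥ z) := by
  apply ext_eKL
  rw [mulVec_comp_eKL, emb_comp, emb_comp]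
  have : (bd k l N R).submatrix (eKL k l) (eKL k l) = fromBlocks N 0 0 R :=
    blockDiag_submatrix k l N R
  rw [this, Matrix.fromBlocks_mulVec]
  simp

theorem mulVec_emb_eq_sum (X : Mat F (k + l)) (y : Fin k ⊕ Fin k → F) (z : Fin l ⊕ Fin l → F) :
    X *ᵥ emb k l y z =
      ∑ a, y a • X *ᵥ Pi.single (eKL k l (Sum.inl a)) 1 +
        ∑ c, z c • X *ᵥ Pi.single (eKL k l (Sum.inr c)) 1 := by
  have h1 : emb k l y z = ∑ i, emb k l y z i • (Pi.single i 1 : Fin (k + l) ⊕ Fin (k + l) → F) := by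
    funext j
    simp [Finset.sum_apply, Pi.single_apply]
  conv_lhs => rw [h1]
  rw [Matrix.mulVec_sum]
  simp only [Matrix.mulVec_smul]
  rw [← Equiv.sum_comp (eKL k l), Fintype.sum_sum_type]
  simp only [emb_inl, emb_inr]

end emb


/-- G1b: symplectic Fitting decomposition. -/
theorem fitSp_block (k l : ℕ) (A C : Mat F (k + l)) (hC : C * A = A * C)
    (hadj : Aᵀ * Matrix.J (Fin (k + l)) F = Matrix.J (Fin (k + l)) F * C * A)
    (hnd : nd A = 2 * k) :
    ∃ (x : Sp F (k + l)) (N : Mat F k) (R : Mat F l), IsNilpotent N ∧ IsUnit R ∧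
      A = cj x (bd k l N R) := by
  have hcompl := isCompl_genKer_genRange A
  have hdisj : ∀ v, v ∈ genKer A → v ∈ genRange A → v = 0 := by
    intro v h1 h2
    have : v ∈ genKer A ⊓ genRange A := ⟨h1, h2⟩
    rwa [hcompl.inf_eq_bot, Submodule.mem_bot] at this
  have hndU := restrict_nondegenerate (genKer A) (genRange A) hcompl.sup_eq_top
    (fun s hs t ht => orth' A C hC hadj s t hs ht)
  have hndW := restrict_nondegenerate (genRange A) (genKer A)
    (by rw [sup_comm]; exact hcompl.sup_eq_top)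
    (fun s hs t ht => orth A C hC hadj t s ht hs)
  obtain ⟨r1, bU, hr1, hbU, hgU⟩ := exists_basis_sub (genKer A) hndU
  obtain ⟨r2, bW, hr2, hbW, hgW⟩ := exists_basis_sub (genRange A) hndW
  have hfin := Submodule.finrank_add_eq_of_isCompl hcompl
  rw [Module.finrank_fintype_fun_eq_card, Fintype.card_sum, Fintype.card_fin, hr1, hr2] at hfin
  rw [finrank_genKer, hnd] at hr1
  obtain rfl : r1 = k := by omega
  obtain rfl : r2 = l := by omega
  -- the glued family
  set b : Fin (r1 + r2) ⊕ Fin (r1 + r2) → (Fin (r1 + r2) ⊕ Fin (r1 + r2) → F) :=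
    fun i => Sum.elim bU bW ((eKL r1 r2).symm i) with hb
  have hbl : ∀ a, b (eKL r1 r2 (Sum.inl a)) = bU a := by intro a; simp [hb]
  have hbr : ∀ c, b (eKL r1 r2 (Sum.inr c)) = bW c := by intro c; simp [hb]
  have hgram : ∀ i j, sympForm (r1 + r2) F (b i) (b j) = Matrix.J (Fin (r1 + r2)) F i j := by
    intro i j
    obtain ⟨a, rfl⟩ := (eKL r1 r2).surjective i
    obtain ⟨c, rfl⟩ := (eKL r1 r2).surjective j
    have hJ := congrFun (congrFun (J_submatrix (F := F) r1 r2) a) c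
    rw [Matrix.submatrix_apply] at hJ
    rw [hJ]
    rcases a with a | a <;> rcases c with c | c
    · rw [hbl, hbl, Matrix.fromBlocks_apply₁₁]; exact hgU a c
    · rw [hbl, hbr, Matrix.fromBlocks_apply₁₂, Matrix.zero_apply]
      exact orth' A C hC hadj _ _ (hbU a) (hbW c)
    · rw [hbr, hbl, Matrix.fromBlocks_apply₂₁, Matrix.zero_apply]
      exact orth A C hC hadj _ _ (hbU c) (hbW a)
    · rw [hbr, hbr, Matrix.fromBlocks_apply₂₂]; exact hgW a c
  obtain ⟨x, hx⟩ := Cfsg.Agent.Lib.Helper2.SpUBR.exists_sp_of_gram b hgram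
  -- images of coordinate vectors
  have hxE : ∀ y z, (x : Mat F (r1 + r2)) *ᵥ emb r1 r2 y z =
      ∑ a, y a • bU a + ∑ c, z c • bW c := by
    intro y z
    rw [mulVec_emb_eq_sum]
    simp only [hx, hbl, hbr]
  have hxU : ∀ y, (x : Mat F (r1 + r2)) *ᵥ emb r1 r2 y 0 ∈ genKer A := by
    intro y
    rw [hxE]
    simp only [Pi.zero_apply, zero_smul, Finset.sum_const_zero, add_zero]
    exact Submodule.sum_mem _ (fun a _ => Submodule.smul_mem _ _ (hbU a))
  have hxW : ∀ z, (x : Mat F (r1 + r2)) *ᵥ emb r1 r2 0 z ∈ genRange A := by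
    intro z
    rw [hxE]
    simp only [Pi.zero_apply, zero_smul, Finset.sum_const_zero, zero_add]
    exact Submodule.sum_mem _ (fun a _ => Submodule.smul_mem _ _ (hbW a))
  have hxinj : ∀ v, (x : Mat F (r1 + r2)) *ᵥ v = 0 → v = 0 := by
    intro v hv
    have := congrArg (fun w => ((x⁻¹ : Sp F (r1 + r2)) : Mat F (r1 + r2)) *ᵥ w) hv
    simpa [Matrix.mulVec_mulVec, coe_inv_mul] using this
  have hE5 : ∀ y z, (x : Mat F (r1 + r2)) *ᵥ emb r1 r2 y z ∈ genKer A → z = 0 := by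
    intro y z h
    have h0 : (x : Mat F (r1 + r2)) *ᵥ emb r1 r2 0 z = 0 := by
      apply hdisj _ _ (hxW z)
      have : (x : Mat F (r1 + r2)) *ᵥ emb r1 r2 0 z =
          (x : Mat F (r1 + r2)) *ᵥ emb r1 r2 y z - (x : Mat F (r1 + r2)) *ᵥ emb r1 r2 y 0 := by
        rw [emb_add r1 r2 y z, Matrix.mulVec_add, add_sub_cancel_left]
      rw [this]
      exact Submodule.sub_mem _ h (hxU y)
    exact (emb_eq_zero r1 r2 0 z (hxinj _ h0)).2
  have hE6 : ∀ y z, (x : Mat F (r1 + r2)) *ᵥ emb r1 r2 y z ∈ genRange A → y = 0 := by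
    intro y z h
    have h0 : (x : Mat F (r1 + r2)) *ᵥ emb r1 r2 y 0 = 0 := by
      apply hdisj _ (hxU y)
      have : (x : Mat F (r1 + r2)) *ᵥ emb r1 r2 y 0 =
          (x : Mat F (r1 + r2)) *ᵥ emb r1 r2 y z - (x : Mat F (r1 + r2)) *ᵥ emb r1 r2 0 z := by
        rw [emb_add r1 r2 y z, Matrix.mulVec_add, add_sub_cancel_right]
      rw [this]
      exact Submodule.sub_mem _ h (hxW z)
    exact (emb_eq_zero r1 r2 y 0 (hxinj _ h0)).1
  -- the conjugated matrix
  set M : Mat F (r1 + r2) := cj x⁻¹ A with hM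
  have hxM : (x : Mat F (r1 + r2)) * M = A * (x : Mat F (r1 + r2)) := by
    rw [hM]
    unfold cj
    rw [inv_inv, ← Matrix.mul_assoc, ← Matrix.mul_assoc, coe_mul_inv, Matrix.one_mul]
  have hxMv : ∀ v, (x : Mat F (r1 + r2)) *ᵥ (M *ᵥ v) = A *ᵥ ((x : Mat F (r1 + r2)) *ᵥ v) := by
    intro v
    rw [Matrix.mulVec_mulVec, hxM, ← Matrix.mulVec_mulVec]
  set M' := M.submatrix (eKL r1 r2) (eKL r1 r2) with hM'
  have h21 : M'.toBlocks₂₁ = 0 := by
    have hz : ∀ y, M'.toBlocks₂₁ *ᵥ y = 0 := by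
      intro y
      have h1 : (x : Mat F (r1 + r2)) *ᵥ (M *ᵥ emb r1 r2 y 0) ∈ genKer A := by
        rw [hxMv]
        exact mulVec_mem_genKer A _ (hxU y)
      rw [fromBlocks_mulVec_emb] at h1
      have := hE5 _ _ h1
      simpa using this
    ext i j
    have := congrFun (hz (Pi.single j 1)) i
    simpa [Matrix.mulVec_single_one] using this
  have h12 : M'.toBlocks₁₂ = 0 := by
    have hz : ∀ z, M'.toBlocks₁₂ *ᵥ z = 0 := by
      intro z
      have h1 : (x : Mat F (r1 + r2)) *ᵥ (M *ᵥ emb r1 r2 0 z) ∈ genRange A := by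
        rw [hxMv]
        exact mulVec_mem_genRange A _ (hxW z)
      rw [fromBlocks_mulVec_emb] at h1
      have := hE6 _ _ h1
      simpa using this
    ext i j
    have := congrFun (hz (Pi.single j 1)) i
    simpa [Matrix.mulVec_single_one] using this
  have hMbd : M = bd r1 r2 M'.toBlocks₁₁ M'.toBlocks₂₂ := by
    have h1 : M' = fromBlocks M'.toBlocks₁₁ 0 0 M'.toBlocks₂₂ := by
      conv_lhs => rw [← Matrix.fromBlocks_toBlocks M']
      rw [h12, h21]
    unfold bd Cfsg.Agent.Lib.Helper5.SympBlock.blockDiag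
    rw [← h1, hM', Matrix.submatrix_submatrix]
    simp
  refine ⟨x, M'.toBlocks₁₁, M'.toBlocks₂₂, ?_, ?_, ?_⟩
  · -- nilpotent
    have hloc : ∀ y : Fin r1 ⊕ Fin r1 → F, ∃ j : ℕ, (M'.toBlocks₁₁ ^ j) *ᵥ y = 0 := by
      intro y
      obtain ⟨j, hj⟩ := (mem_genKer A _).mp (hxU y)
      refine ⟨j, ?_⟩
      have hMj : M ^ j = cj x⁻¹ (A ^ j) := by rw [hM, cj_pow]
      have hxMj : (x : Mat F (r1 + r2)) * M ^ j = A ^ j * (x : Mat F (r1 + r2)) := by
        rw [hMj]
        unfold cj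
        rw [inv_inv, ← Matrix.mul_assoc, ← Matrix.mul_assoc, coe_mul_inv, Matrix.one_mul]
      have h0 : (M ^ j) *ᵥ emb r1 r2 y 0 = 0 := by
        apply hxinj
        rw [Matrix.mulVec_mulVec, hxMj, ← Matrix.mulVec_mulVec, hj]
      rw [hMbd, ← bd_pow, bd_mulVec_emb] at h0
      exact (emb_eq_zero r1 r2 _ _ h0).1
    have hnil : IsNilpotent (Matrix.toLin' M'.toBlocks₁₁) := by
      rw [Module.End.isNilpotent_iff_of_finite]
      intro y
      obtain ⟨j, hj⟩ := hloc y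
      exact ⟨j, by rw [toLin'_pow_apply' , hj]⟩
    obtain ⟨j, hj⟩ := hnil
    refine ⟨j, ?_⟩
    rw [← Matrix.toLin'_pow] at hj
    exact (LinearEquiv.map_eq_zero_iff Matrix.toLin').mp hj
  · -- unit
    rw [← Matrix.mulVec_injective_iff_isUnit]
    intro z1 z2 hz
    have hz' : M'.toBlocks₂₂ *ᵥ (z1 - z2) = 0 := by
      rw [Matrix.mulVec_sub, hz, sub_self]
    have h0 : M *ᵥ emb r1 r2 0 (z1 - z2) = 0 := by
      rw [hMbd, bd_mulVec_emb, hz', Matrix.mulVec_zero, emb_zero]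
    have h1 : A *ᵥ ((x : Mat F (r1 + r2)) *ᵥ emb r1 r2 0 (z1 - z2)) = 0 := by
      rw [← hxMv, h0, Matrix.mulVec_zero]
    have h2 := hdisj _ (ker_le_genKer A _ h1) (hxW _)
    have h3 := (emb_eq_zero r1 r2 _ _ (hxinj _ h2)).2
    exact sub_eq_zero.mp h3
  · rw [← hMbd, hM, cj_cj_inv]

end Cfsg.Agent.Lib.Helper5.SpUG1
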