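import Mathlib
import Cfsg.Prelude
import Cfsg.Agent.Lib.Helper5.PermMod
import Cfsg.Agent.Lib.Helper5.OrthCard

set_option autoImplicit false
open Cfsg

/-! `S_6 → O_4^-(3)` via the sum-zero vectors modulo the all-ones vector over the field with
three elements. -/

namespace Cfsg.Agent.Lib.Helper5.PermO4m3

open Matrix Cfsg.Agent.Lib.Helper5.PermMod Cfsg.Agent.Lib.Helper5.OrthCard

variable {F : Type*} [Field F]

/-- index type of the form -/
abbrev I4 : Type := (Fin 1 ⊕ Fin 1) ⊕ Fin 2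

/-- the embedding of the four-dimensional space into the sum-zero vectors -/
def E6 (v : I4 → F) : Fin 6 → F :=
  ![v (.inl (.inl 0)) + v (.inl (.inr 0)) + v (.inr 0),
    v (.inl (.inl 0)) + v (.inl (.inr 0)),
    v (.inl (.inl 0)) - v (.inr 0),
    v (.inl (.inr 0)) - v (.inr 0),
    v (.inr 0) - v (.inr 1),
    v (.inr 1)]

theorem E6_add (u v : I4 → F) : E6 (u + v) = E6 u + E6 v := by
  funext i
  fin_cases i <;> simp [E6] <;> ring

theorem E6_smul (c : F) (v : I4 → F) : E6 (c • v) = (RingHom.id F) c • E6 v := by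
  funext i
  fin_cases i <;> simp [E6] <;> ring

theorem E6_inj (h3 : (3 : F) = 0) (v : I4 → F) (h : E6 v ∈ ones F 6) : v = 0 := by
  obtain ⟨c, hc⟩ := (mem_ones _).mp h
  have h0 := congrFun hc 0
  have h1 := congrFun hc 1
  have h2 := congrFun hc 2
  have h3' := congrFun hc 3
  have h4 := congrFun hc 4
  have h5 := congrFun hc 5
  simp [E6] at h0 h1 h2 h3' h4 h5
  have hz0 : v (.inr 0) = 0 := by linear_combination h0 - h1
  have hc0 : c = 0 := by linear_combination h4 + h5 - hz0 + c * h3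
  rw [hc0] at h2 h3' h5
  rw [hz0, sub_zero] at h2 h3'
  funext i
  rcases i with (i | i) | i
  · have : i = 0 := Subsingleton.elim _ _
    subst this; exact h2
  · have : i = 0 := Subsingleton.elim _ _
    subst this; exact h3'
  · fin_cases i
    · exact hz0
    · exact h5

theorem sum_E6 (h3 : (3 : F) = 0) (v : I4 → F) : ∑ i, E6 v i = 0 := by
  simp only [Fin.sum_univ_six, E6, Matrix.cons_val_zero, Matrix.cons_val_one, Matrix.cons_val]
  linear_combination (v (.inl (.inl 0)) + v (.inl (.inr 0))) * h3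

theorem exists_E6 (h3 : (3 : F) = 0) (u : Fin 6 → F) (hu : ∑ i, u i = 0) :
    ∃ v, u - E6 v ∈ ones F 6 := by
  refine ⟨Sum.elim (Sum.elim (fun _ => u 2 + u 4 + u 5) (fun _ => u 3 + u 4 + u 5))
    ![u 0 - u 1, -u 0 + u 1 + u 4 + 2 * u 5], ?_⟩
  rw [mem_ones]
  refine ⟨u 0 - u 1 - u 4 - u 5, ?_⟩
  rw [Fin.sum_univ_six] at hu
  funext i
  fin_cases i <;> simp [E6]
  all_goals first
    | ring1
    | linear_combination (-4) * hu + (u 0 + 2 * u 1 + u 2 + u 3 + u 4 + u 5) * h3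
    | linear_combination (-3) * hu + (2 * u 1 + u 2 + u 3 + 2 * u 4 + 2 * u 5) * h3
    | linear_combination (-3) * hu + (u 0 + u 1 + u 2 + u 3 + u 4 + u 5) * h3

theorem e2_six (u : Fin 6 → F) :
    e2 u = u 0 * u 1 + u 0 * u 2 + u 0 * u 3 + u 0 * u 4 + u 0 * u 5 +
      u 1 * u 2 + u 1 * u 3 + u 1 * u 4 + u 1 * u 5 +
      u 2 * u 3 + u 2 * u 4 + u 2 * u 5 + u 3 * u 4 + u 3 * u 5 + u 4 * u 5 := by
  unfold e2
  rw [Fin.univ_val_map]
  simp only [List.ofFn_succ, List.ofFn_zero, Multiset.esymm]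
  rw [Multiset.powersetCard_coe]
  simp [List.sublistsLen, List.sublistsLenAux]
  ring

theorem e2_E6 (h3 : (3 : F) = 0) (v : I4 → F) :
    e2 (E6 v) = Cfsg.quadFormMinus 1 F 1 (-1) v := by
  rw [e2_six]
  simp only [E6, Matrix.cons_val_zero, Matrix.cons_val_one, Matrix.cons_val, Cfsg.quadFormMinus,
    Finset.univ_unique, Finset.sum_singleton, Fin.default_eq_zero]
  linear_combination (2 * v (.inl (.inl 0)) * v (.inl (.inr 0)) + v (.inl (.inl 0)) ^ 2 +
    v (.inl (.inr 0)) ^ 2 - v (.inr 0) ^ 2) * h3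

theorem e2_ones (h3 : (3 : F) = 0) (u x : Fin 6 → F) (hu : ∑ i, u i = 0) (hx : x ∈ ones F 6) :
    e2 (u - x) = e2 u := by
  obtain ⟨c, rfl⟩ := (mem_ones _).mp hx
  rw [Fin.sum_univ_six] at hu
  rw [e2_six, e2_six]
  simp only [Pi.sub_apply]
  linear_combination (-5 * c) * hu + 5 * c ^ 2 * h3

theorem stab_E6 (h3 : (3 : F) = 0) (π : Equiv.Perm (Fin 6)) (v : I4 → F) :
    ∃ v', phi F 6 π *ᵥ E6 v - E6 v' ∈ ones F 6 := by
  apply exists_E6 h3
  rw [phi_mulVec, sum_comp]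
  exact sum_E6 h3 v

/-- the representation of `S_6` on the four-dimensional space -/
noncomputable def rho (h3 : (3 : F) = 0) : Equiv.Perm (Fin 6) →* Matrix I4 I4 F :=
  Cfsg.Agent.Lib.Helper5.Descent2.descHom (RingHom.id F) E6 (ones F 6) E6_add E6_smul
    (E6_inj h3) (phi F 6) (phi_mem (ones F 6) le_rfl) (stab_E6 h3)

theorem E6_rho (h3 : (3 : F) = 0) (π : Equiv.Perm (Fin 6)) (v : I4 → F) :
    E6 v ∘ ⇑π⁻¹ - E6 (rho h3 π *ᵥ v) ∈ ones F 6 := by
  have := Cfsg.Agent.Lib.Helper5.Descent2.E_descHom (RingHom.id F) E6 (ones F 6) E6_add E6_smul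
    (E6_inj h3) (phi F 6) (phi_mem (ones F 6) le_rfl) (stab_E6 h3) π v
  rwa [phi_mulVec] at this

theorem quad_rho (h3 : (3 : F) = 0) (π : Equiv.Perm (Fin 6)) (v : I4 → F) :
    Cfsg.quadFormMinus 1 F 1 (-1) (rho h3 π *ᵥ v) = Cfsg.quadFormMinus 1 F 1 (-1) v := by
  rw [← e2_E6 h3, ← e2_E6 h3]
  have h1 := E6_rho h3 π v
  have e1 : E6 (rho h3 π *ᵥ v) = E6 v ∘ ⇑π⁻¹ - (E6 v ∘ ⇑π⁻¹ - E6 (rho h3 π *ᵥ v)) := by abel
  rw [e1, e2_ones h3 _ _ _ h1, e2_comp]
  rw [sum_comp]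
  exact sum_E6 h3 v

/-- the homomorphism `S_6 → O_4^-(3)` -/
noncomputable def tau (h3 : (3 : F) = 0) : Equiv.Perm (Fin 6) →*
    ↥(isometryGroup F (Cfsg.quadFormMinus 1 F 1 (-1))) :=
  (rho h3).toHomUnits.codRestrict (isometryGroup F (Cfsg.quadFormMinus 1 F 1 (-1))) (by
    intro π
    rw [mem_isometryGroup_iff]
    intro v
    exact quad_rho h3 π v)

theorem tau_coe (h3 : (3 : F) = 0) (π : Equiv.Perm (Fin 6)) :
    (((tau h3 π : ↥(isometryGroup F (Cfsg.quadFormMinus 1 F 1 (-1)))) :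
      Matrix.GeneralLinearGroup I4 F) : Matrix I4 I4 F) = rho h3 π := rfl

theorem tau_injective (h3 : (3 : F) = 0) : Function.Injective (tau (F := F) h3) := by
  rw [injective_iff_map_eq_one]
  intro π hπ
  have h1 : rho h3 π = 1 := by
    rw [← tau_coe, hπ]; rfl
  apply eq_one_of_fix (F := F) (by norm_num : 5 ≤ 6)
  intro u hu
  obtain ⟨v, hv⟩ := exists_E6 h3 u hu
  have h4' := E6_rho h3 π v
  rw [h1, Matrix.one_mulVec] at h4'
  have h4 := comp_mem_ones π⁻¹ _ hv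
  have h5 : u ∘ ⇑π⁻¹ - u = (E6 v ∘ ⇑π⁻¹ - E6 v) + ((u - E6 v) ∘ ⇑π⁻¹ - (u - E6 v)) := by
    funext i
    simp only [Pi.sub_apply, Function.comp_apply, Pi.add_apply]
    ring
  rw [h5]
  exact Submodule.add_mem _ h4' (Submodule.sub_mem _ h4 hv)

end Cfsg.Agent.Lib.Helper5.PermO4m3
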