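import Mathlib
import Cfsg.Prelude
import Cfsg.Agent.Lib.Helper5.PermO4m3
import Cfsg.Agent.Lib.Helper5.IsoTools
import Cfsg.Agent.Lib.Helper5.SpinorNorm
import Cfsg.Agent.Lib.Helper5.OrthPlane
import Cfsg.Agent.Lib.Helper5.QuadStd
import Cfsg.Agent.S0288

set_option autoImplicit false
open Cfsg

/-! `PΩ_4^-(3) ≅ A_6`. -/

namespace Cfsg.Agent.Lib.Helper5.A6Omega

open Matrix QuadraticMap Cfsg.Agent.Lib.Helper5.PermMod Cfsg.Agent.Lib.Helper5.OrthCard
  Cfsg.Agent.Lib.Helper5.OrthPlane Cfsg.Agent.Lib.Helper5.PermO4m3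

theorem three_eq_zero : (3 : ZMod 3) = 0 := by decide

theorem two_ne_zero' : (2 : ZMod 3) ≠ 0 := by decide

theorem hab3 : ∀ z₁ z₂ : ZMod 3, z₁ ^ 2 + 1 * z₁ * z₂ + (-1) * z₂ ^ 2 = 0 → z₁ = 0 ∧ z₂ = 0 := by
  decide

/-- the orthogonal group `O_4^-(3)` -/
abbrev O3 : Subgroup (Matrix.GeneralLinearGroup I4 (ZMod 3)) :=
  isometryGroup (ZMod 3) (Cfsg.quadFormMinus 1 (ZMod 3) 1 (-1))

theorem card_O3 : Nat.card ↥O3 = 1440 := by
  have := Cfsg.Agent.S0288.result (F := ZMod 3) (ZMod.card 3) 2 (by norm_num) 1 (-1) hab3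
  rw [this]
  simp

theorem index_comm_O3 : (commutator ↥O3).index = 4 := by
  have hQ : (polarBilin (minusForm 1 (ZMod 3) 1 (-1))).Nondegenerate := by
    have h := genForm_nondegenerate _
      (binForm_nondegenerate (1 : ZMod 3) (-1) (anisotropic_of (1 : ZMod 3) (-1) hab3)) 1
    have h2 : minusForm 1 (ZMod 3) 1 (-1) = genForm (binForm (1 : ZMod 3) (-1)) 1 := by
      apply DFunLike.coe_injective
      rw [coe_minusForm, Cfsg.Agent.S0288.minus_eq]
    rw [h2]
    exact h
  have hn : 2 ≤ Fintype.card I4 := by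
    simp only [Fintype.card_sum, Fintype.card_fin]; omega
  have := Cfsg.Agent.Lib.Helper5.SpinorNorm.index_commutator (minusForm 1 (ZMod 3) 1 (-1))
    two_ne_zero' hQ hn
  rw [coe_minusForm] at this
  exact this

theorem card_comm_O3 : Nat.card ↥(commutator ↥O3) = 360 := by
  have h := Subgroup.card_mul_index (commutator ↥O3)
  rw [index_comm_O3, card_O3] at h
  omega

theorem tau_alt_mem (π : ↥(alternatingGroup (Fin 6))) :
    tau three_eq_zero (π : Equiv.Perm (Fin 6)) ∈ commutator ↥O3 := by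
  have h5 : 5 ≤ Nat.card (Fin 6) := by simp
  have hπ : (π : Equiv.Perm (Fin 6)) ∈ commutator (Equiv.Perm (Fin 6)) := by
    rw [alternatingGroup.commutator_perm_eq h5]
    exact π.2
  rw [commutator_def] at hπ ⊢
  have := Subgroup.mem_map_of_mem (tau (F := ZMod 3) three_eq_zero) hπ
  rw [Subgroup.map_commutator] at this
  exact Subgroup.commutator_mono le_top le_top this

/-- the homomorphism `A_6 → Ω_4^-(3)` -/
noncomputable def tauAlt : ↥(alternatingGroup (Fin 6)) →* ↥(commutator ↥O3) :=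
  ((tau (F := ZMod 3) three_eq_zero).comp (alternatingGroup (Fin 6)).subtype).codRestrict _
    tau_alt_mem

theorem tauAlt_bijective : Function.Bijective tauAlt := by
  have hinj : Function.Injective tauAlt := by
    intro π π' h
    have h1 : tau three_eq_zero (π : Equiv.Perm (Fin 6)) =
        tau three_eq_zero (π' : Equiv.Perm (Fin 6)) := congrArg Subtype.val h
    exact Subtype.ext (tau_injective three_eq_zero h1)
  have : Finite ↥(commutator ↥O3) := Nat.finite_of_card_ne_zero (by rw [card_comm_O3]; norm_num)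
  apply hinj.bijective_of_nat_card_le
  rw [card_comm_O3, nat_card_alternatingGroup]
  simp
  decide

/-- `PΩ_4^-(3) ≅ A_6` -/
theorem nonempty_mulEquiv :
    Nonempty (Cfsg.POmega (ZMod 3) (Cfsg.quadFormMinus 1 (ZMod 3) 1 (-1)) ≃*
      ↥(alternatingGroup (Fin 6))) := by
  have h4 : 4 ≤ Nat.card (Fin 6) := by simp
  let e := MulEquiv.ofBijective tauAlt tauAlt_bijective
  let e5 := Cfsg.Agent.Lib.Helper5.IsoTools.centerQuotEquiv e.symm
  let e6 := Cfsg.Agent.Lib.Helper5.IsoTools.quotCenterOfBot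
    (alternatingGroup.center_eq_bot h4)
  exact ⟨e5.trans e6⟩

end Cfsg.Agent.Lib.Helper5.A6Omega
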