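import Mathlib
import Cfsg.Agent.S0144

/-!
# Orbit reduction for subgroups of `Alt(8)` (farm S3104, part (1))

`Y ≤ Perm (Fin n)`; `orbHom Y x : Y →* Perm (orbit Y x)` is the action on the orbit of `x`.
* a non-solvable `Y` is non-solvable on some orbit, and such an orbit has at least 5 points;
* for `Y ≤ Alt(8)`: the kernel on an orbit with at least 6 points is trivial, the kernel on an orbit with
  5 points has order dividing 3, and on an orbit with 7 points `Y` acts by even permutations.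
-/

set_option autoImplicit false
set_option linter.unusedVariables false
set_option linter.unusedSectionVars false
set_option maxHeartbeats 1000000

namespace Cfsg.Agent.Lib.Helper5.A8Orb

open MulAction

variable {n : ℕ}

/-- The action of `Y` on the orbit of `x`. -/
noncomputable def orbHom (Y : Subgroup (Equiv.Perm (Fin n))) (x : Fin n) :
    ↥Y →* Equiv.Perm ↥(orbit ↥Y x) :=
  MulAction.toPermHom ↥Y ↥(orbit ↥Y x)

theorem orbHom_apply (Y : Subgroup (Equiv.Perm (Fin n))) (x : Fin n) (y : ↥Y)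
    (d : ↥(orbit ↥Y x)) : ((orbHom Y x y) d : Fin n) = (y : Equiv.Perm (Fin n)) (d : Fin n) := rfl

theorem mem_ker_iff (Y : Subgroup (Equiv.Perm (Fin n))) (x : Fin n) (y : ↥Y) :
    y ∈ (orbHom Y x).ker ↔ ∀ d ∈ orbit ↥Y x, (y : Equiv.Perm (Fin n)) d = d := by
  rw [MonoidHom.mem_ker]
  constructor
  · intro h d hd
    have := congrArg (fun f : Equiv.Perm ↥(orbit ↥Y x) => ((f ⟨d, hd⟩ : ↥(orbit ↥Y x)) : Fin n)) h
    simpa [orbHom_apply] using this
  · intro h
    apply Equiv.ext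
    intro d
    apply Subtype.ext
    rw [orbHom_apply, Equiv.Perm.one_apply]
    exact h d.1 d.2

/-- the range of `orbHom` is transitive on the orbit -/
theorem range_pretransitive (Y : Subgroup (Equiv.Perm (Fin n))) (x : Fin n) :
    MulAction.IsPretransitive ↥(orbHom Y x).range ↥(orbit ↥Y x) := by
  refine ⟨fun a b => ?_⟩
  obtain ⟨y, hy⟩ := MulAction.exists_smul_eq ↥Y a b
  refine ⟨⟨orbHom Y x y, y, rfl⟩, ?_⟩
  rw [← hy]
  rfl

theorem perm_solvable_of_card_le_four {α : Type*} [Finite α] (h : Nat.card α ≤ 4) :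
    Group.IsSolvable (Equiv.Perm α) := by
  classical
  have := Fintype.ofFinite α
  have hc : Nat.card (Equiv.Perm α) = (Nat.card α).factorial := by
    rw [Nat.card_eq_fintype_card, Fintype.card_perm, Nat.card_eq_fintype_card]
  have p2 : Nat.Prime 2 := by norm_num
  have p3 : Nat.Prime 3 := by norm_num
  have h4 : Nat.card α = 0 ∨ Nat.card α = 1 ∨ Nat.card α = 2 ∨ Nat.card α = 3 ∨ Nat.card α = 4 := by
    omega
  rcases h4 with h0 | h0 | h0 | h0 | h0
  · exact Cfsg.Agent.S0144.result 2 3 0 0 p2 p3 (by rw [hc, h0]; rfl)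
  · exact Cfsg.Agent.S0144.result 2 3 0 0 p2 p3 (by rw [hc, h0]; rfl)
  · exact Cfsg.Agent.S0144.result 2 3 1 0 p2 p3 (by rw [hc, h0]; rfl)
  · exact Cfsg.Agent.S0144.result 2 3 1 1 p2 p3 (by rw [hc, h0]; rfl)
  · exact Cfsg.Agent.S0144.result 2 3 3 1 p2 p3 (by rw [hc, h0]; rfl)

theorem five_le_card (Y : Subgroup (Equiv.Perm (Fin n))) (x : Fin n)
    (h : ¬ Group.IsSolvable ↥(orbHom Y x).range) : 5 ≤ Nat.card ↥(orbit ↥Y x) := by
  by_contra hlt
  have hlt' : Nat.card ↥(orbit ↥Y x) ≤ 4 := by omega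
  have hs : Group.IsSolvable (Equiv.Perm ↥(orbit ↥Y x)) :=
    perm_solvable_of_card_le_four (α := ↥(orbit ↥Y x)) hlt'
  exact h inferInstance

/-- A non-solvable `Y` is non-solvable on some orbit. -/
theorem exists_orbit_not_solvable (Y : Subgroup (Equiv.Perm (Fin n)))
    (hns : ¬ Group.IsSolvable ↥Y) : ∃ x : Fin n, ¬ Group.IsSolvable ↥(orbHom Y x).range := by
  by_contra hall
  have hall : ∀ x : Fin n, Group.IsSolvable ↥(orbHom Y x).range := fun x => by
    by_contra hx
    exact hall ⟨x, hx⟩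
  apply hns
  -- choose derived lengths
  have hk : ∀ x : Fin n, ∃ k : ℕ, derivedSeries ↥(orbHom Y x).range k = ⊥ := fun x =>
    (hall x).solvable
  choose k hk using hk
  let N : ℕ := Finset.univ.sup k
  refine ⟨⟨N, ?_⟩⟩
  rw [eq_bot_iff]
  intro y hy
  rw [Subgroup.mem_bot]
  -- y acts trivially on each orbit
  have hker : ∀ x : Fin n, y ∈ (orbHom Y x).ker := by
    intro x
    have h1 : (orbHom Y x).rangeRestrict y ∈ derivedSeries ↥(orbHom Y x).range N := by
      have := map_derivedSeries_le_derivedSeries (orbHom Y x).rangeRestrict N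
      exact this (Subgroup.mem_map_of_mem _ hy)
    have h2 : derivedSeries ↥(orbHom Y x).range N ≤ derivedSeries ↥(orbHom Y x).range (k x) :=
      derivedSeries_antitone ↥(orbHom Y x).range (Finset.le_sup (f := k) (Finset.mem_univ x))
    have h3 := h2 h1
    rw [hk x, Subgroup.mem_bot] at h3
    rw [MonoidHom.mem_ker]
    have := congrArg Subtype.val h3
    simpa using this
  apply Subtype.ext
  ext i
  have := (mem_ker_iff Y i y).1 (hker i) i (MulAction.mem_orbit_self i)
  simpa using congrArg Fin.val this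


/-! ### `Y ≤ Alt(8)`: kernels and parity -/

section Eight

variable (Y : Subgroup (Equiv.Perm (Fin 8))) (x : Fin 8)

theorem card_compl_orbit :
    Nat.card ↥(orbit ↥Y x) + Nat.card {i : Fin 8 // i ∉ orbit ↥Y x} = 8 := by
  classical
  have h := Set.ncard_add_ncard_compl (orbit ↥Y x)
  rw [Nat.card_eq_fintype_card (α := Fin 8), Fintype.card_fin] at h
  rw [← Nat.card_coe_set_eq, ← Nat.card_coe_set_eq] at h
  exact h

/-- an element of the kernel is supported on the complement of the orbit -/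
theorem support_subset_of_mem_ker (y : ↥Y) (hy : y ∈ (orbHom Y x).ker) (i : Fin 8)
    (hi : (y : Equiv.Perm (Fin 8)) i ≠ i) : i ∉ orbit ↥Y x := fun hmem =>
  hi ((mem_ker_iff Y x y).1 hy i hmem)

theorem card_support_le_of_mem_ker (y : ↥Y) (hy : y ∈ (orbHom Y x).ker) :
    (y : Equiv.Perm (Fin 8)).support.card ≤ Nat.card {i : Fin 8 // i ∉ orbit ↥Y x} := by
  classical
  rw [Nat.card_eq_fintype_card, Fintype.card_subtype]
  apply Finset.card_le_card
  intro i hi
  rw [Equiv.Perm.mem_support] at hi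
  simp only [Finset.mem_filter, Finset.mem_univ, true_and]
  exact support_subset_of_mem_ker Y x y hy i hi

/-- On an orbit with at least 6 points a subgroup of `Alt(8)` acts faithfully. -/
theorem ker_eq_bot (hY : Y ≤ alternatingGroup (Fin 8)) (h6 : 6 ≤ Nat.card ↥(orbit ↥Y x)) :
    (orbHom Y x).ker = ⊥ := by
  classical
  rw [eq_bot_iff]
  intro y hy
  rw [Subgroup.mem_bot]
  have hc := card_compl_orbit Y x
  have hs := card_support_le_of_mem_ker Y x y hy
  have hle : (y : Equiv.Perm (Fin 8)).support.card ≤ 2 := by omega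
  have hsign : Equiv.Perm.sign (y : Equiv.Perm (Fin 8)) = 1 :=
    Equiv.Perm.mem_alternatingGroup.1 (hY y.2)
  have h1 := Equiv.Perm.card_support_ne_one (y : Equiv.Perm (Fin 8))
  have h2 : (y : Equiv.Perm (Fin 8)).support.card ≠ 2 := by
    intro h2
    have hsw := Equiv.Perm.card_support_eq_two.1 h2
    rw [hsw.sign_eq] at hsign
    exact absurd hsign (by decide)
  have h0 : (y : Equiv.Perm (Fin 8)).support.card = 0 := by omega
  exact Subtype.ext (Equiv.Perm.card_support_eq_zero.1 h0)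


theorem smul_mem_orbit_iff (y : ↥Y) (i : Fin 8) :
    (y : Equiv.Perm (Fin 8)) i ∈ orbit ↥Y x ↔ i ∈ orbit ↥Y x := by
  constructor
  · intro h
    have := MulAction.mem_orbit_of_mem_orbit (y⁻¹) h
    have e : y⁻¹ • ((y : Equiv.Perm (Fin 8)) i) = i := by
      show ((y⁻¹ : ↥Y) : Equiv.Perm (Fin 8)) ((y : Equiv.Perm (Fin 8)) i) = i
      simp
    rwa [e] at this
  · intro h
    exact MulAction.mem_orbit_of_mem_orbit y h

/-- On an orbit with exactly 5 points the kernel of a subgroup of `Alt(8)` has order 1 or 3. -/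
theorem card_ker_dvd_three (hY : Y ≤ alternatingGroup (Fin 8)) (h5 : Nat.card ↥(orbit ↥Y x) = 5) :
    Nat.card ↥(orbHom Y x).ker ∣ 3 := by
  classical
  have hc := card_compl_orbit Y x
  have h3 : Fintype.card {i : Fin 8 // i ∉ orbit ↥Y x} = 3 := by
    rw [← Nat.card_eq_fintype_card]; omega
  haveI : Nontrivial {i : Fin 8 // i ∉ orbit ↥Y x} :=
    Fintype.one_lt_card_iff_nontrivial.1 (by rw [h3]; norm_num)
  let A' : Subgroup (Equiv.Perm (Fin 8)) :=
    (alternatingGroup {i : Fin 8 // i ∉ orbit ↥Y x}).map Equiv.Perm.ofSubtype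
  have hA' : Nat.card ↥A' = 3 := by
    have h3' : Nat.card {i : Fin 8 // i ∉ orbit ↥Y x} = 3 := by omega
    rw [Subgroup.card_map_of_injective Equiv.Perm.ofSubtype_injective,
      nat_card_alternatingGroup, h3']
    rfl
  let K' : Subgroup (Equiv.Perm (Fin 8)) := (orbHom Y x).ker.map Y.subtype
  have hK' : Nat.card ↥K' = Nat.card ↥(orbHom Y x).ker :=
    Subgroup.card_map_of_injective (Subgroup.subtype_injective Y)
  have hle : K' ≤ A' := by
    rintro _ ⟨y, hy, rfl⟩
    have hy' : y ∈ (orbHom Y x).ker := hy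
    have h₁ : ∀ i : Fin 8, ((y : Equiv.Perm (Fin 8)) i ∉ orbit ↥Y x) ↔ (i ∉ orbit ↥Y x) :=
      fun i => not_congr (smul_mem_orbit_iff Y x y i)
    have h₂ : ∀ i : Fin 8, (y : Equiv.Perm (Fin 8)) i ≠ i → i ∉ orbit ↥Y x :=
      fun i hi => support_subset_of_mem_ker Y x y hy' i hi
    refine ⟨Equiv.Perm.subtypePerm (y : Equiv.Perm (Fin 8)) h₁, ?_, ?_⟩
    · rw [SetLike.mem_coe, Equiv.Perm.mem_alternatingGroup,
        Equiv.Perm.sign_subtypePerm _ h₁ h₂]
      exact Equiv.Perm.mem_alternatingGroup.1 (hY y.2)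
    · exact Equiv.Perm.ofSubtype_subtypePerm h₁ h₂
  rw [← hK', ← hA']
  exact Subgroup.card_dvd_of_le hle

/-- An orbit with 8 points: `Y` is transitive. -/
theorem pretransitive_of_card_eight (h8 : Nat.card ↥(orbit ↥Y x) = 8) :
    MulAction.IsPretransitive ↥Y (Fin 8) := by
  have hc := card_compl_orbit Y x
  have h0 : Nat.card {i : Fin 8 // i ∉ orbit ↥Y x} = 0 := by omega
  have hall : ∀ i : Fin 8, i ∈ orbit ↥Y x := by
    intro i
    by_contra hi
    have : IsEmpty {i : Fin 8 // i ∉ orbit ↥Y x} := by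
      rcases Nat.card_eq_zero.1 h0 with h | h
      · exact h
      · exact absurd (inferInstance : Finite {i : Fin 8 // i ∉ orbit ↥Y x}) (not_finite_iff_infinite.2 h)
    exact this.false ⟨i, hi⟩
  refine ⟨fun a b => ?_⟩
  obtain ⟨g, hg⟩ := hall a
  obtain ⟨h, hh⟩ := hall b
  refine ⟨h * g⁻¹, ?_⟩
  rw [← hg, ← hh, mul_smul, inv_smul_smul]

/-- On an orbit with 7 points a subgroup of `Alt(8)` acts by even permutations. -/
theorem range_le_alternating [DecidableEq ↥(orbit ↥Y x)] [Fintype ↥(orbit ↥Y x)]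
    (hY : Y ≤ alternatingGroup (Fin 8)) (h7 : Nat.card ↥(orbit ↥Y x) = 7) :
    (orbHom Y x).range ≤ alternatingGroup ↥(orbit ↥Y x) := by
  have hc := card_compl_orbit Y x
  have h1 : Nat.card {i : Fin 8 // i ∉ orbit ↥Y x} = 1 := by omega
  rintro _ ⟨y, rfl⟩
  rw [Equiv.Perm.mem_alternatingGroup]
  -- the unique point outside the orbit is fixed
  have hfix : ∀ i : Fin 8, i ∉ orbit ↥Y x → (y : Equiv.Perm (Fin 8)) i = i := by
    intro i hi
    have hyi : (y : Equiv.Perm (Fin 8)) i ∉ orbit ↥Y x :=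
      fun h => hi ((smul_mem_orbit_iff Y x y i).1 h)
    haveI : Subsingleton {i : Fin 8 // i ∉ orbit ↥Y x} :=
      (Nat.card_eq_one_iff_unique.1 h1).1
    have := Subsingleton.elim (⟨(y : Equiv.Perm (Fin 8)) i, hyi⟩ : {i : Fin 8 // i ∉ orbit ↥Y x})
      ⟨i, hi⟩
    exact congrArg Subtype.val this
  have h₁ : ∀ i : Fin 8, ((y : Equiv.Perm (Fin 8)) i ∈ orbit ↥Y x) ↔ (i ∈ orbit ↥Y x) :=
    fun i => smul_mem_orbit_iff Y x y i
  have h₂ : ∀ i : Fin 8, (y : Equiv.Perm (Fin 8)) i ≠ i → i ∈ orbit ↥Y x := by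
    intro i hi
    by_contra hni
    exact hi (hfix i hni)
  have hEq : orbHom Y x y = Equiv.Perm.subtypePerm (y : Equiv.Perm (Fin 8)) h₁ := by
    apply Equiv.ext
    intro d
    apply Subtype.ext
    rfl
  have hsign : Equiv.Perm.sign (y : Equiv.Perm (Fin 8)) = 1 :=
    Equiv.Perm.mem_alternatingGroup.1 (hY y.2)
  rw [hEq]
  classical
  have key := Equiv.Perm.sign_subtypePerm (y : Equiv.Perm (Fin 8)) h₁ h₂
  rw [hsign] at key
  convert key using 3

/-- Summary of the orbit reduction. -/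
theorem reduction (hY : Y ≤ alternatingGroup (Fin 8)) (hns : ¬ Group.IsSolvable ↥Y) :
    ∃ x : Fin 8, ¬ Group.IsSolvable ↥(orbHom Y x).range ∧
      MulAction.IsPretransitive ↥(orbHom Y x).range ↥(orbit ↥Y x) ∧
      ((Nat.card ↥(orbit ↥Y x) = 5 ∧ Nat.card ↥(orbHom Y x).ker ∣ 3) ∨
       (Nat.card ↥(orbit ↥Y x) = 6 ∧ (orbHom Y x).ker = ⊥) ∨
       (Nat.card ↥(orbit ↥Y x) = 7 ∧ (orbHom Y x).ker = ⊥) ∨
       (Nat.card ↥(orbit ↥Y x) = 8 ∧ MulAction.IsPretransitive ↥Y (Fin 8))) := by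
  obtain ⟨x, hx⟩ := exists_orbit_not_solvable Y hns
  refine ⟨x, hx, range_pretransitive Y x, ?_⟩
  have h5 := five_le_card Y x hx
  have hc := card_compl_orbit Y x
  have hcases : Nat.card ↥(orbit ↥Y x) = 5 ∨ Nat.card ↥(orbit ↥Y x) = 6 ∨
      Nat.card ↥(orbit ↥Y x) = 7 ∨ Nat.card ↥(orbit ↥Y x) = 8 := by omega
  rcases hcases with h | h | h | h
  · exact Or.inl ⟨h, card_ker_dvd_three Y x hY h⟩
  · exact Or.inr (Or.inl ⟨h, ker_eq_bot Y x hY (by omega)⟩)
  · exact Or.inr (Or.inr (Or.inl ⟨h, ker_eq_bot Y x hY (by omega)⟩))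
  · exact Or.inr (Or.inr (Or.inr ⟨h, pretransitive_of_card_eight Y x h⟩))

end Eight

end Cfsg.Agent.Lib.Helper5.A8Orb
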