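import Mathlib
import Cfsg.Agent.Lib.Helper7.A8P2Defs

/-!
# S3104 part (2), unit D: the `3^2` dichotomy

`V` elementary abelian of order 16, `α β` commuting automorphisms of order dividing 3, none of
`α, β, αβ, αβ⁻¹` the identity.  If `α` and `β` both have a nontrivial fixed point then `αβ` has none.
-/

set_option autoImplicit false
set_option linter.unusedVariables false
set_option linter.unusedSectionVars false
set_option maxHeartbeats 1000000

namespace Cfsg.Agent.Lib.Helper5.A8P2D

section Abstract

variable {V : Type*} [CommGroup V] [Finite V]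

/-- the fixed points of an automorphism -/
def fixS (α : V ≃* V) : Subgroup V where
  carrier := {v | α v = v}
  one_mem' := map_one α
  mul_mem' := by
    intro a b ha hb
    simp only [Set.mem_ofPred_eq] at *
    rw [map_mul, ha, hb]
  inv_mem' := by
    intro a ha
    simp only [Set.mem_ofPred_eq] at *
    rw [map_inv, ha]

theorem mem_fixS {α : V ≃* V} {v : V} : v ∈ fixS α ↔ α v = v := Iff.rfl

/-- a subgroup of order 4 containing four distinct elements consists of them -/
theorem four_elements (H : Subgroup V) (hH : Nat.card H = 4) {a b c d : V} (ha : a ∈ H) (hb : b ∈ H)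
    (hc : c ∈ H) (hd : d ∈ H) (hab : a ≠ b) (hac : a ≠ c) (had : a ≠ d) (hbc : b ≠ c) (hbd : b ≠ d)
    (hcd : c ≠ d) (h : V) (hh : h ∈ H) : h = a ∨ h = b ∨ h = c ∨ h = d := by
  classical
  by_contra hcon
  have hcon' : h ≠ a ∧ h ≠ b ∧ h ≠ c ∧ h ≠ d := by
    refine ⟨fun e => hcon (Or.inl e), fun e => hcon (Or.inr (Or.inl e)),
      fun e => hcon (Or.inr (Or.inr (Or.inl e))), fun e => hcon (Or.inr (Or.inr (Or.inr e)))⟩
  obtain ⟨h1, h2, h3, h4⟩ := hcon'
  let s : Finset V := {h, a, b, c, d}
  have hs : s.card = 5 := by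
    simp only [s]
    rw [Finset.card_insert_of_notMem, Finset.card_insert_of_notMem, Finset.card_insert_of_notMem,
      Finset.card_insert_of_notMem, Finset.card_singleton]
    · simpa using hcd
    · simp only [Finset.mem_insert, Finset.mem_singleton]
      rintro (e | e)
      · exact hbc e
      · exact hbd e
    · simp only [Finset.mem_insert, Finset.mem_singleton]
      rintro (e | e | e)
      · exact hab e
      · exact hac e
      · exact had e
    · simp only [Finset.mem_insert, Finset.mem_singleton]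
      rintro (e | e | e | e)
      · exact h1 e
      · exact h2 e
      · exact h3 e
      · exact h4 e
  have hsub : (s : Set V) ⊆ (H : Set V) := by
    intro x hx
    simp only [s, Finset.coe_insert, Finset.coe_singleton, Set.mem_insert_iff,
      Set.mem_singleton_iff] at hx
    rcases hx with rfl | rfl | rfl | rfl | rfl
    · exact hh
    · exact ha
    · exact hb
    · exact hc
    · exact hd
  have hle := Set.ncard_le_ncard hsub (Set.toFinite _)
  rw [Set.ncard_coe_finset, hs] at hle
  have : (H : Set V).ncard = 4 := by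
    rw [← Nat.card_coe_set_eq]
    exact hH
  omega

/-- the mod 3 count -/
theorem card_fixS_mod (α : V ≃* V) (h3 : ∀ v, α (α (α v)) = v) :
    Nat.card V ≡ Nat.card (fixS α) [MOD 3] := by
  classical
  haveI := Fintype.ofFinite V
  haveI : Fact (Nat.Prime 3) := ⟨by norm_num⟩
  let f : Function.End V := fun v => α v
  have hf : f ^ 3 ^ 1 = 1 := by
    rw [pow_one, pow_three]
    funext v
    exact h3 v
  have := Equiv.Perm.card_fixedPoints_modEq (α := V) (f := f) (p := 3) (n := 1) hf
  rw [Nat.card_eq_fintype_card]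
  refine this.trans ?_
  have e : Fintype.card ↑(Function.fixedPoints f) = Nat.card (fixS α) := by
    rw [← Nat.card_eq_fintype_card]
    exact Nat.card_congr (Equiv.subtypeEquivRight (fun v => Iff.rfl))
  rw [e]

theorem card_fixS (hcard : Nat.card V = 16) (α : V ≃* V) (h3 : ∀ v, α (α (α v)) = v)
    (hne : ∃ v, α v ≠ v) (hex : ∃ a, a ≠ 1 ∧ α a = a) : Nat.card (fixS α) = 4 := by
  have hmod := card_fixS_mod α h3
  rw [hcard] at hmod
  have hdvd : Nat.card (fixS α) ∣ 16 := hcard ▸ Subgroup.card_subgroup_dvd_card (fixS α)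
  have hle : Nat.card (fixS α) ≤ 16 := Nat.le_of_dvd (by norm_num) hdvd
  have hne1 : Nat.card (fixS α) ≠ 1 := by
    intro h1
    obtain ⟨a, ha1, ha⟩ := hex
    have hbot := (Subgroup.card_eq_one).1 h1
    have : a ∈ fixS α := ha
    rw [hbot, Subgroup.mem_bot] at this
    exact ha1 this
  have hne16 : Nat.card (fixS α) ≠ 16 := by
    intro h16
    obtain ⟨v, hv⟩ := hne
    have htop : fixS α = ⊤ := (Subgroup.card_eq_iff_eq_top _).1 (h16.trans hcard.symm)
    have : v ∈ fixS α := by rw [htop]; exact Subgroup.mem_top v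
    exact hv this
  have hm : 16 % 3 = Nat.card (fixS α) % 3 := hmod
  revert hdvd hm hne1 hne16
  generalize Nat.card (fixS α) = d at hle ⊢
  interval_cases d <;> omega


theorem cube_apply (α : MulAut V) (h3 : α ^ 3 = 1) (v : V) : α (α (α v)) = v := by
  have := congrArg (fun f : MulAut V => f v) h3
  simpa [pow_three, MulAut.mul_apply] using this

theorem card_fixS' (hcard : Nat.card V = 16) (α : MulAut V) (h3 : α ^ 3 = 1) (hne : α ≠ 1)
    (hex : ∃ a, a ≠ 1 ∧ α a = a) : Nat.card (fixS α) = 4 := by
  apply card_fixS hcard α (cube_apply α h3) _ hex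
  by_contra hall
  apply hne
  ext v
  by_contra hv
  exact hall ⟨v, hv⟩

/-- the `3^2` dichotomy, abstract form -/
theorem abstract_dic (hsq : ∀ v : V, v * v = 1) (hcard : Nat.card V = 16) (α β : MulAut V)
    (hα3 : α ^ 3 = 1) (hβ3 : β ^ 3 = 1) (hc : α * β = β * α) (hα : α ≠ 1) (hβ : β ≠ 1)
    (hαβ : α * β ≠ 1) (hαβ' : α ≠ β) (hA : ∃ a, a ≠ 1 ∧ α a = a) (hB : ∃ b, b ≠ 1 ∧ β b = b) :
    ∀ v, α (β v) = v → v = 1 := by
  classical
  have hcA := card_fixS' hcard α hα3 hα hA
  have hcB := card_fixS' hcard β hβ3 hβ hB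
  have hcom : ∀ v, α (β v) = β (α v) := fun v => by
    have := congrArg (fun f : MulAut V => f v) hc
    simpa [MulAut.mul_apply] using this
  have hCC : Commute α β := hc
  -- β preserves fixS α, α preserves fixS β
  have hβA : ∀ a ∈ fixS α, β a ∈ fixS α := fun a ha => by
    rw [mem_fixS] at ha ⊢
    rw [hcom, ha]
  have hαB : ∀ b ∈ fixS β, α b ∈ fixS β := fun b hb => by
    rw [mem_fixS] at hb ⊢
    rw [← hcom, hb]
  intro v₀ hv₀
  by_contra hv₀1
  -- γ = α * β has fixed subgroup of order 4
  have hγ3 : (α * β) ^ 3 = 1 := by rw [hCC.mul_pow, hα3, hβ3, one_mul]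
  have hcC := card_fixS' hcard (α * β) hγ3 hαβ ⟨v₀, hv₀1, by rw [MulAut.mul_apply]; exact hv₀⟩
  by_cases hint : fixS α ⊓ fixS β = ⊥
  · -- V = A * B
    let φ : ↥(fixS α) × ↥(fixS β) → V := fun p => (p.1 : V) * (p.2 : V)
    have hφinj : Function.Injective φ := by
      rintro ⟨⟨a, ha⟩, ⟨b, hb⟩⟩ ⟨⟨a', ha'⟩, ⟨b', hb'⟩⟩ h
      simp only [φ] at h
      have h1 : a'⁻¹ * a = b' * b⁻¹ := by
        have : a = a' * b' * b⁻¹ := by rw [← h]; group
        rw [this]; group
      have hm : a'⁻¹ * a ∈ fixS α ⊓ fixS β :=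
        ⟨(fixS α).mul_mem ((fixS α).inv_mem ha') ha, h1 ▸ (fixS β).mul_mem hb' ((fixS β).inv_mem hb)⟩
      rw [hint, Subgroup.mem_bot] at hm
      have haa : a = a' := by
        have := congrArg (fun t => a' * t) hm
        simpa using this
      have hbb : b = b' := by
        rw [hm] at h1
        have := congrArg (fun t => t * b) h1
        simpa using this
      subst haa; subst hbb; rfl
    have hφbij : Function.Bijective φ := hφinj.bijective_of_nat_card_le (by
      rw [Nat.card_prod, hcA, hcB, hcard])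
    obtain ⟨⟨⟨a, ha⟩, ⟨b, hb⟩⟩, hab⟩ := hφbij.2 v₀
    simp only [φ] at hab
    have ha' : α a = a := ha
    have hb' : β b = b := hb
    have hβa : α (β a) = β a := hβA a ha
    have hαb : β (α b) = α b := hαB b hb
    have hv : β a * α b = a * b := by
      have := hv₀
      rw [← hab, map_mul, map_mul, hβa, hb'] at this
      exact this
    have h1 : a⁻¹ * β a = b * (α b)⁻¹ := by
      have : β a = a * b * (α b)⁻¹ := by rw [← hv]; group
      rw [this]; group
    have hm : a⁻¹ * β a ∈ fixS α ⊓ fixS β :=
      ⟨(fixS α).mul_mem ((fixS α).inv_mem ha) (hβA a ha),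
        h1 ▸ (fixS β).mul_mem hb ((fixS β).inv_mem (hαB b hb))⟩
    rw [hint, Subgroup.mem_bot] at hm
    have hβa' : β a = a := by
      have := congrArg (fun t => a * t) hm
      simpa using this
    have hαb' : α b = b := by
      rw [hm] at h1
      have := congrArg (fun t => t * α b) h1
      simpa using this
    have ha1 : a = 1 := by
      have : a ∈ fixS α ⊓ fixS β := ⟨ha, hβa'⟩
      rwa [hint, Subgroup.mem_bot] at this
    have hb1 : b = 1 := by
      have : b ∈ fixS α ⊓ fixS β := ⟨hαb', hb⟩
      rwa [hint, Subgroup.mem_bot] at this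
    apply hv₀1
    rw [← hab, ha1, hb1, one_mul]
  · -- a common nontrivial fixed point x
    obtain ⟨x, hxm, hx1⟩ : ∃ x ∈ fixS α ⊓ fixS β, x ≠ 1 := by
      by_contra hno
      apply hint
      rw [eq_bot_iff]
      intro y hy
      rw [Subgroup.mem_bot]
      by_contra hy1
      exact hno ⟨y, hy, hy1⟩
    have hxA : α x = x := hxm.1
    have hxB : β x = x := hxm.2
    by_cases hAB : fixS α = fixS β
    · -- case A = B
      -- ε = β * β * α and γ = α * β both have fixed subgroup A
      have hε3 : (β * β * α) ^ 3 = 1 := by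
        have hc2 : Commute (β * β) α := (hCC.symm.mul_left hCC.symm)
        rw [hc2.mul_pow, (Commute.refl β).mul_pow, hα3, hβ3, one_mul, mul_one]
      have hεne : β * β * α ≠ 1 := by
        intro h
        apply hαβ'
        have h2 : β * (β * β * α) = β * 1 := by rw [h]
        rw [mul_one, ← mul_assoc, ← mul_assoc, ← pow_three', hβ3, one_mul] at h2
        exact h2
      have hfixγ : fixS α = fixS (α * β) := by
        apply Subgroup.eq_of_le_of_card_ge
        · intro a ha
          have ha' : α a = a := ha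
          have hb' : β a = a := by
            have : a ∈ fixS β := hAB ▸ ha
            exact this
          rw [mem_fixS, MulAut.mul_apply, hb', ha']
        · rw [hcC, hcA]
      have hcE := card_fixS' hcard (β * β * α) hε3 hεne ⟨x, hx1, by
        rw [MulAut.mul_apply, MulAut.mul_apply, hxA, hxB, hxB]⟩
      have hfixε : fixS α = fixS (β * β * α) := by
        apply Subgroup.eq_of_le_of_card_ge
        · intro a ha
          have ha' : α a = a := ha
          have hb' : β a = a := by
            have : a ∈ fixS β := hAB ▸ ha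
            exact this
          rw [mem_fixS, MulAut.mul_apply, MulAut.mul_apply, ha', hb', hb']
        · rw [hcE, hcA]
      -- δ v = v⁻¹ * α v
      let δ : V →* V :=
        { toFun := fun v => v⁻¹ * α v
          map_one' := by simp
          map_mul' := fun a b => by
            rw [map_mul, mul_inv, mul_mul_mul_comm] }
      have hδker : δ.ker = fixS α := by
        ext v
        rw [MonoidHom.mem_ker, mem_fixS]
        show v⁻¹ * α v = 1 ↔ α v = v
        constructor
        · intro h
          have := congrArg (fun t => v * t) h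
          simpa using this
        · intro h
          rw [h, inv_mul_cancel]
      have hδrange : Nat.card δ.range = 4 := by
        have h1 := Subgroup.card_mul_index δ.ker
        rw [Subgroup.index_ker, hδker, hcA, hcard] at h1
        omega
      obtain ⟨v₁, hv₁⟩ : ∃ v, α v ≠ v := by
        by_contra hall
        apply hα
        ext v
        by_contra hv
        exact hall ⟨v, hv⟩
      set x₁ : V := δ v₁ with hx₁
      have hx₁ne : x₁ ≠ 1 := by
        intro h
        have : v₁ ∈ δ.ker := h
        rw [hδker] at this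
        exact hv₁ this
      have hδα : ∀ v, δ (α v) = α (δ v) := fun v => by
        show (α v)⁻¹ * α (α v) = α (v⁻¹ * α v)
        rw [map_mul, map_inv]
      have hδβ : ∀ v, δ (β v) = β (δ v) := fun v => by
        show (β v)⁻¹ * α (β v) = β (v⁻¹ * α v)
        rw [map_mul, map_inv, hcom]
      -- x₁ * α x₁ * α (α x₁) = 1
      have hN : x₁ * α x₁ * α (α x₁) = 1 := by
        show (v₁⁻¹ * α v₁) * α (v₁⁻¹ * α v₁) * α (α (v₁⁻¹ * α v₁)) = 1
        simp only [map_mul, map_inv]
        rw [cube_apply α hα3 v₁]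
        have hcomm : ∀ a b : V, a * b = b * a := mul_comm
        generalize α v₁ = p
        generalize α p = q
        rw [hcomm (v₁⁻¹) p, mul_assoc p, mul_assoc p, ← mul_assoc v₁⁻¹, hcomm v₁⁻¹ p⁻¹]
        group
      -- x₁ is not fixed by α
      have hx₁A : α x₁ ≠ x₁ := by
        intro h
        rw [h, h] at hN
        rw [hsq x₁, one_mul] at hN
        exact hx₁ne hN
      have h12 : x₁ ≠ α x₁ := fun h => hx₁A h.symm
      have h23 : α x₁ ≠ α (α x₁) := fun h => h12 (α.injective h)
      have h13 : x₁ ≠ α (α x₁) := by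
        intro h
        apply hx₁A
        have := congrArg α h
        rw [cube_apply α hα3] at this
        exact this
      have h1 : (1 : V) ≠ x₁ := fun h => hx₁ne h.symm
      have h1' : (1 : V) ≠ α x₁ := by
        intro h
        apply hx₁ne
        have : α 1 = α x₁ := by rw [map_one]; exact h
        exact (α.injective this).symm
      have h1'' : (1 : V) ≠ α (α x₁) := by
        intro h
        apply h1'
        have : α 1 = α (α x₁) := by rw [map_one]; exact h
        exact α.injective this
      have hr0 : (1 : V) ∈ δ.range := δ.range.one_mem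
      have hr1 : x₁ ∈ δ.range := ⟨v₁, rfl⟩
      have hr2 : α x₁ ∈ δ.range := ⟨α v₁, hδα v₁⟩
      have hr3 : α (α x₁) ∈ δ.range := ⟨α (α v₁), by rw [hδα, hδα]⟩
      have hrβ : β x₁ ∈ δ.range := ⟨β v₁, hδβ v₁⟩
      have hβx₁ne : β x₁ ≠ 1 := by
        intro h
        apply hx₁ne
        have : β x₁ = β 1 := by rw [map_one]; exact h
        exact β.injective this
      have hx₁notA : x₁ ∉ fixS α := hx₁A
      rcases four_elements δ.range hδrange hr0 hr1 hr2 hr3 h1 h1' h1'' h12 h13 h23 (β x₁) hrβ with
        h | h | h | h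
      · exact hβx₁ne h
      · -- β x₁ = x₁ : x₁ ∈ B = A
        apply hx₁notA
        rw [hAB]
        exact h
      · -- β x₁ = α x₁ : ε fixes x₁
        apply hx₁notA
        rw [hfixε, mem_fixS, MulAut.mul_apply, MulAut.mul_apply, ← h]
        exact cube_apply β hβ3 x₁
      · -- β x₁ = α (α x₁) : γ fixes x₁
        apply hx₁notA
        rw [hfixγ, mem_fixS, MulAut.mul_apply, h]
        exact cube_apply α hα3 x₁
    · -- case A ≠ B
      obtain ⟨a, haA, haB⟩ : ∃ a ∈ fixS α, a ∉ fixS β := by
        by_contra hno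
        apply hAB
        apply Subgroup.eq_of_le_of_card_ge
        · intro a ha
          by_contra hb
          exact hno ⟨a, ha, hb⟩
        · rw [hcA, hcB]
      have haα : α a = a := haA
      have haβ : β a ≠ a := haB
      have ha1 : a ≠ 1 := by
        rintro rfl
        exact haB (fixS β).one_mem
      have hax : a ≠ x := by
        rintro rfl
        exact haB hxB
      have hxa1 : x * a ≠ 1 := by
        intro h
        apply hax
        have := congrArg (fun t => x * t) h
        simp only [← mul_assoc, hsq x, one_mul, mul_one] at this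
        exact this
      have hxax : x * a ≠ x := by
        intro h
        apply ha1
        have := congrArg (fun t => x * t) h
        simp only [← mul_assoc, hsq x, one_mul] at this
        exact this
      have hxaa : x * a ≠ a := by
        intro h
        apply hx1
        have := congrArg (fun t => t * a) h
        simp only [mul_assoc, hsq a, mul_one] at this
        exact this
      have hβaA : β a ∈ fixS α := hβA a haA
      have hxaA : x * a ∈ fixS α := (fixS α).mul_mem hxm.1 haA
      rcases four_elements (fixS α) hcA (fixS α).one_mem hxm.1 haA hxaA (fun h => hx1 h.symm)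
        (fun h => ha1 h.symm) (fun h => hxa1 h.symm) (fun h => hax h.symm) (fun h => hxax h.symm)
        (fun h => hxaa h.symm) (β a) hβaA with h | h | h | h
      · apply ha1
        have : β a = β 1 := by rw [map_one]; exact h
        exact β.injective this
      · apply hax
        have : β a = β x := by rw [hxB]; exact h
        exact β.injective this
      · exact haβ h
      · -- β a = x * a
        have h2 : β (β a) = a := by
          rw [h, map_mul, hxB, h, ← mul_assoc, hsq x, one_mul]
        have h3 := cube_apply β hβ3 a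
        rw [h2] at h3
        exact haβ h3

end Abstract


/-! ### the concrete statement -/

open Cfsg.Agent.Lib.Helper7.A8P2

universe u v

section Concrete

variable {G : Type u} [Group G] {S : Type v} [Group S] {V : Subgroup G} {θ : G →* S}

theorem conj_eq_of_theta_eq (hE : Ext V θ) {g g' : G} (h : θ g = θ g') {x : G} (hx : x ∈ V) :
    g * x * g⁻¹ = g' * x * g'⁻¹ := by
  have hk : g⁻¹ * g' ∈ V := by
    rw [← hE.ker, MonoidHom.mem_ker, map_mul, map_inv, h, inv_mul_cancel]
  have hcomm := hE.comm (g⁻¹ * g') hk x hx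
  have e : g' = g * (g⁻¹ * g') := by group
  rw [e]
  have : g * (g⁻¹ * g') * x * (g * (g⁻¹ * g'))⁻¹ = g * ((g⁻¹ * g') * x * (g⁻¹ * g')⁻¹) * g⁻¹ := by
    group
  rw [this, hcomm, mul_assoc x, mul_inv_cancel, mul_one]

theorem mem_of_conjNormal_eq_one (hE : Ext V θ) [V.Normal] {g : G}
    (h : MulAut.conjNormal (H := V) g = 1) : g ∈ V := by
  apply hE.faithful
  intro x hx
  have := congrArg (fun f : MulAut ↥V => ((f ⟨x, hx⟩ : ↥V) : G)) h
  simp only [MulAut.conjNormal_apply, MulAut.one_apply] at this
  have h2 := congrArg (fun t => t * g) this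
  simpa using h2

theorem conjNormal_eq_of_theta_eq (hE : Ext V θ) [V.Normal] {g g' : G} (h : θ g = θ g') :
    MulAut.conjNormal (H := V) g = MulAut.conjNormal (H := V) g' := by
  ext x
  rw [MulAut.conjNormal_apply, MulAut.conjNormal_apply]
  exact conj_eq_of_theta_eq hE h x.2

theorem theta_eq_one_of_conjNormal_eq_one (hE : Ext V θ) [V.Normal] {g : G}
    (h : MulAut.conjNormal (H := V) g = 1) : θ g = 1 := by
  have := mem_of_conjNormal_eq_one hE h
  rwa [← hE.ker, MonoidHom.mem_ker] at this

end Concrete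

/-- **unit D** -/
theorem dichotomy : DichotomyStmt.{u, v} := by
  intro G _ _ S _ _ V θ hE d hd
  classical
  by_contra hcon
  rw [not_or] at hcon
  obtain ⟨hnwu, hnw⟩ := hcon
  haveI hVn : V.Normal := by rw [← hE.ker]; infer_instance
  -- distinctness from card9
  have e9 : ({1, d.w, d.w * d.w, d.u, d.u * d.u, d.w * d.u, d.w * d.w * d.u, d.w * (d.u * d.u),
      d.w * d.w * (d.u * d.u)} : Finset S) =
      ((1 : S) ::ₘ d.w ::ₘ (d.w * d.w) ::ₘ d.u ::ₘ (d.u * d.u) ::ₘ (d.w * d.u) ::ₘ
        (d.w * d.w * d.u) ::ₘ (d.w * (d.u * d.u)) ::ₘ {d.w * d.w * (d.u * d.u)}).toFinset := by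
    simp
  have hnd : ((1 : S) ::ₘ d.w ::ₘ (d.w * d.w) ::ₘ d.u ::ₘ (d.u * d.u) ::ₘ (d.w * d.u) ::ₘ
        (d.w * d.w * d.u) ::ₘ (d.w * (d.u * d.u)) ::ₘ {d.w * d.w * (d.u * d.u)}).Nodup := by
    rw [← Multiset.toFinset_card_eq_card_iff_nodup, ← e9, hd.card9]
    rfl
  simp only [Multiset.nodup_cons, Multiset.mem_cons, Multiset.mem_singleton, not_or] at hnd
  have hw1 : d.w ≠ 1 := fun h => hnd.1.1 h.symm
  have hu1 : d.u ≠ 1 := fun h => hnd.1.2.2.1 h.symm
  have hwu1 : d.w * d.u ≠ 1 := fun h => hnd.1.2.2.2.2.1 h.symm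
  have hwu : d.w ≠ d.u := fun h => hnd.2.1.2.1 h
  -- lifts
  obtain ⟨gw, hgw⟩ := hE.surj d.w
  obtain ⟨gu, hgu⟩ := hE.surj d.u
  obtain ⟨gc, hgc⟩ := hE.surj d.c2
  letI : CommGroup ↥V :=
    { (inferInstance : Group ↥V) with
      mul_comm := fun a b => Subtype.ext (hE.comm a a.2 b b.2) }
  let α : MulAut ↥V := MulAut.conjNormal (H := V) gw
  let β : MulAut ↥V := MulAut.conjNormal (H := V) gu
  have hα3 : α ^ 3 = 1 := by
    show MulAut.conjNormal (H := V) gw ^ 3 = 1
    rw [← map_pow, ← map_one (MulAut.conjNormal (H := V))]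
    apply conjNormal_eq_of_theta_eq hE
    rw [map_pow, hgw, hd.w3, map_one]
  have hβ3 : β ^ 3 = 1 := by
    show MulAut.conjNormal (H := V) gu ^ 3 = 1
    rw [← map_pow, ← map_one (MulAut.conjNormal (H := V))]
    apply conjNormal_eq_of_theta_eq hE
    rw [map_pow, hgu, hd.u3, map_one]
  have hc : α * β = β * α := by
    show MulAut.conjNormal (H := V) gw * MulAut.conjNormal (H := V) gu =
      MulAut.conjNormal (H := V) gu * MulAut.conjNormal (H := V) gw
    rw [← map_mul, ← map_mul]
    apply conjNormal_eq_of_theta_eq hE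
    rw [map_mul, map_mul, hgw, hgu, hd.wu]
  have hα : α ≠ 1 := by
    intro h
    apply hw1
    rw [← hgw]
    exact theta_eq_one_of_conjNormal_eq_one hE h
  have hβ : β ≠ 1 := by
    intro h
    apply hu1
    rw [← hgu]
    exact theta_eq_one_of_conjNormal_eq_one hE h
  have hαβ : α * β ≠ 1 := by
    intro h
    apply hwu1
    have h' : MulAut.conjNormal (H := V) (gw * gu) = 1 := by rw [map_mul]; exact h
    have := theta_eq_one_of_conjNormal_eq_one hE h'
    rwa [map_mul, hgw, hgu] at this
  have hαβ' : α ≠ β := by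
    intro h
    apply hwu
    have h' : MulAut.conjNormal (H := V) (gw * gu⁻¹) = 1 := by
      rw [map_mul, map_inv]
      show α * β⁻¹ = 1
      rw [h, mul_inv_cancel]
    have := theta_eq_one_of_conjNormal_eq_one hE h'
    rw [map_mul, map_inv, hgw, hgu] at this
    exact mul_inv_eq_one.1 this
  -- fixed points
  have hA : ∃ a : ↥V, a ≠ 1 ∧ α a = a := by
    unfold Fpf at hnw
    push Not at hnw
    obtain ⟨g, hg, x, hx, hcomm, hx1⟩ := hnw
    refine ⟨⟨x, hx⟩, fun h => hx1 (congrArg Subtype.val h), ?_⟩
    apply Subtype.ext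
    show ((MulAut.conjNormal (H := V) gw ⟨x, hx⟩ : ↥V) : G) = x
    rw [MulAut.conjNormal_apply]
    rw [conj_eq_of_theta_eq hE (hgw.trans hg.symm) hx, hcomm, mul_assoc, mul_inv_cancel, mul_one]
  have hB : ∃ b : ↥V, b ≠ 1 ∧ β b = b := by
    unfold Fpf at hnw
    push Not at hnw
    obtain ⟨g, hg, x, hx, hcomm, hx1⟩ := hnw
    have hx' : gc * x * gc⁻¹ ∈ V := hVn.conj_mem x hx gc
    refine ⟨⟨gc * x * gc⁻¹, hx'⟩, ?_, ?_⟩
    · intro h
      apply hx1
      have := congrArg Subtype.val h
      simp only [Subgroup.coe_one] at this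
      have h2 := congrArg (fun t => gc⁻¹ * t * gc) this
      simpa [mul_assoc] using h2
    · apply Subtype.ext
      show ((MulAut.conjNormal (H := V) gu ⟨gc * x * gc⁻¹, hx'⟩ : ↥V) : G) = gc * x * gc⁻¹
      rw [MulAut.conjNormal_apply]
      have hθ : θ gu = θ (gc * g * gc⁻¹) := by
        rw [map_mul, map_mul, map_inv, hgu, hgc, hg, hd.c2w]
      rw [conj_eq_of_theta_eq hE hθ hx']
      have : gc * g * gc⁻¹ * (gc * x * gc⁻¹) * (gc * g * gc⁻¹)⁻¹ = gc * (g * x * g⁻¹) * gc⁻¹ := by
        group
      rw [this, hcomm, mul_assoc x, mul_inv_cancel, mul_one]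
  have key := abstract_dic (V := ↥V) (fun v => Subtype.ext (hE.sq v v.2)) hE.card α β hα3 hβ3 hc hα hβ
    hαβ hαβ' hA hB
  -- a nontrivial fixed point of w u
  unfold Fpf at hnwu
  push Not at hnwu
  obtain ⟨g, hg, x, hx, hcomm, hx1⟩ := hnwu
  apply hx1
  have hfix : α (β ⟨x, hx⟩) = ⟨x, hx⟩ := by
    apply Subtype.ext
    show ((MulAut.conjNormal (H := V) gw (MulAut.conjNormal (H := V) gu ⟨x, hx⟩) : ↥V) : G) = x
    rw [MulAut.conjNormal_apply, MulAut.conjNormal_apply]
    have hθ : θ (gw * gu) = θ g := by rw [map_mul, hgw, hgu, hg]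
    have e := conj_eq_of_theta_eq hE hθ hx
    have : gw * (gu * x * gu⁻¹) * gw⁻¹ = gw * gu * x * (gw * gu)⁻¹ := by group
    rw [this, e, hcomm, mul_assoc, mul_inv_cancel, mul_one]
  exact congrArg Subtype.val (key ⟨x, hx⟩ hfix)

end Cfsg.Agent.Lib.Helper5.A8P2D
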