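import Mathlib
import Cfsg.Agent.Lib.Helper1.PrimitiveSolvable
import Cfsg.Agent.Lib.Helper1.MaxSubgroupSolvable
import Cfsg.Agent.Lib.Lead.BurnsidePrime
import Cfsg.Agent.Lib.Helper7.Deg7b

/-!
# S3104, unit V6: a solvable transitive group of even permutations of 7 points has order 7 or 21

A minimal normal subgroup is regular of order 7 (Galois), so the group is a group of affine maps
`x ↦ a x + c` of `ZMod 7`; an odd multiplier `a` would give the odd involution `x ↦ -x + c'`.
-/

set_option autoImplicit false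

namespace Cfsg.Agent.Lib.Helper5.A8V6

open Equiv MulAction

/-- the affine permutation `x ↦ a * x + c` of `ZMod 7` for `a ^ 3 = 1` -/
def affPerm (a c : ZMod 7) (ha : a ^ 3 = 1) : Perm (ZMod 7) where
  toFun x := a * x + c
  invFun x := a ^ 2 * (x - c)
  left_inv x := by
    show a ^ 2 * (a * x + c - c) = x
    have h : a ^ 2 * (a * x + c - c) = a ^ 3 * x := by ring
    rw [h, ha, one_mul]
  right_inv x := by
    show a * (a ^ 2 * (x - c)) + c = x
    have h : a * (a ^ 2 * (x - c)) + c = a ^ 3 * (x - c) + c := by ring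
    rw [h, ha, one_mul, sub_add_cancel]

/-- the involution `x ↦ -x + c` -/
def negPerm (c : ZMod 7) : Perm (ZMod 7) where
  toFun x := -x + c
  invFun x := -x + c
  left_inv x := by
    show -(-x + c) + c = x
    ring
  right_inv x := by
    show -(-x + c) + c = x
    ring

theorem sign_negPerm : ∀ c : ZMod 7, Perm.sign (negPerm c) = -1 := by decide

/-- the group of affine maps with multiplier of order dividing 3 -/
def K : Subgroup (Perm (ZMod 7)) where
  carrier := {π | ∃ a c : ZMod 7, a ^ 3 = 1 ∧ ∀ x, π x = a * x + c}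
  mul_mem' := by
    rintro π ρ ⟨a, c, ha, h1⟩ ⟨b, d, hb, h2⟩
    refine ⟨a * b, a * d + c, by rw [mul_pow, ha, hb, one_mul], fun x => ?_⟩
    rw [Perm.mul_apply, h2, h1]
    ring
  one_mem' := ⟨1, 0, one_pow 3, fun x => by simp⟩
  inv_mem' := by
    rintro π ⟨a, c, ha, h1⟩
    refine ⟨a ^ 2, - a ^ 2 * c, by rw [← pow_mul, mul_comm, pow_mul, ha, one_pow], fun x => ?_⟩
    rw [Perm.inv_eq_iff_eq, h1]
    have h : a * (a ^ 2 * x + -a ^ 2 * c) + c = a ^ 3 * x - a ^ 3 * c + c := by ring
    rw [h, ha]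
    ring

theorem card_three : Fintype.card {a : ZMod 7 // a ^ 3 = 1} = 3 := by decide

theorem card_K : Nat.card K = 21 := by
  classical
  let φ : {a : ZMod 7 // a ^ 3 = 1} × ZMod 7 → K :=
    fun p => ⟨affPerm p.1.1 p.2 p.1.2, p.1.1, p.2, p.1.2, fun x => rfl⟩
  have hinj : Function.Injective φ := by
    rintro ⟨⟨a, ha⟩, c⟩ ⟨⟨b, hb⟩, d⟩ h
    have h' : affPerm a c ha = affPerm b d hb := congrArg Subtype.val h
    have h0 : a * 0 + c = b * 0 + d := congrArg (fun π : Perm (ZMod 7) => π 0) h'
    have h1 : a * 1 + c = b * 1 + d := congrArg (fun π : Perm (ZMod 7) => π 1) h'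
    rw [mul_zero, mul_zero, zero_add, zero_add] at h0
    subst h0
    rw [mul_one, mul_one] at h1
    have hab : a = b := add_right_cancel h1
    subst hab
    rfl
  have hsurj : Function.Surjective φ := by
    rintro ⟨π, a, c, ha, h⟩
    refine ⟨(⟨a, ha⟩, c), ?_⟩
    apply Subtype.ext
    ext x
    exact (h x).symm
  have hc := Nat.card_congr (Equiv.ofBijective φ ⟨hinj, hsurj⟩)
  rw [← hc, Nat.card_prod, Nat.card_eq_fintype_card, Nat.card_eq_fintype_card, ZMod.card,
    card_three]

/-- an even affine map has multiplier of order dividing 3 -/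
theorem cube_of_even (π : Perm (ZMod 7)) (a c : ZMod 7) (h : ∀ x, π x = a * x + c)
    (hs : Perm.sign π = 1) : a ^ 3 = 1 := by
  have hcases : ∀ a : ZMod 7, a = 0 ∨ a ^ 3 = 1 ∨ a ^ 3 = -1 := by decide
  rcases hcases a with h0 | h1 | h2
  · exfalso
    have e0 := h 0
    have e1 := h 1
    rw [h0, zero_mul, zero_add] at e0 e1
    have h01 : π 0 = π 1 := by rw [e0, e1]
    have := π.injective h01
    exact absurd this (by decide)
  · exact h1
  · exfalso
    have h3 : ∀ x, (π ^ 3) x = -x + (a ^ 2 * c + a * c + c) := by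
      intro x
      have hp : (π ^ 3) x = π (π (π x)) := by
        rw [pow_succ, pow_two]
        rfl
      rw [hp, h, h, h]
      have hr : a * (a * (a * x + c) + c) + c = a ^ 3 * x + (a ^ 2 * c + a * c + c) := by ring
      rw [hr, h2]
      ring
    have heq : π ^ 3 = negPerm (a ^ 2 * c + a * c + c) := by
      ext x
      rw [h3]
      rfl
    have hsg : Perm.sign (π ^ 3) = 1 := by rw [map_pow, hs, one_pow]
    rw [heq, sign_negPerm] at hsg
    exact absurd hsg (by decide)

/-- **V6**: a solvable transitive group of even permutations of 7 points has order 7 or 21. -/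
theorem card_of_solvable_seven {α : Type*} [Fintype α] [DecidableEq α]
    (hα : Fintype.card α = 7) (G : Subgroup (Equiv.Perm α)) [MulAction.IsPretransitive G α]
    (hs : Group.IsSolvable G) (he : G ≤ alternatingGroup α) :
    Nat.card G = 7 ∨ Nat.card G = 21 := by
  classical
  haveI := hs
  haveI : Fact (Nat.Prime 7) := ⟨by norm_num⟩
  haveI hne : Nonempty α := by
    rw [← Fintype.card_pos_iff, hα]
    norm_num
  have hprim : IsPreprimitive G α :=
    IsPreprimitive.of_prime_card (by rw [Nat.card_eq_fintype_card, hα]; norm_num)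
  haveI : Nontrivial G := by
    obtain ⟨x⟩ := hne
    by_contra hnt
    rw [not_nontrivial_iff_subsingleton] at hnt
    have hall : ∀ y : α, y = x := fun y => by
      obtain ⟨g, hg⟩ := exists_smul_eq G x y
      rw [← hg, Subsingleton.elim g 1, one_smul]
    have hle : Fintype.card α ≤ 1 :=
      Fintype.card_le_one_iff.mpr (fun a b => by rw [hall a, hall b])
    omega
  obtain ⟨M, hMn, hMne, hMmin⟩ := Cfsg.Agent.Lib.Helper1.exists_minimal_normal (G := G)
  haveI := hMn
  obtain ⟨hMtr, -, p, d, -, -, hcardΩ, hcardM⟩ :=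
    Cfsg.Agent.Lib.Helper1.primitive_solvable_minimal_normal_regular hprim M hMne hMmin
  have hM7 : Nat.card M = 7 := by
    rw [hcardM, ← hcardΩ, Nat.card_eq_fintype_card, hα]
  -- the image of `M` in `Perm α`
  have hM'7 : Nat.card (M.map G.subtype) = 7 := by
    rw [Subgroup.card_map_of_injective G.subtype_injective, hM7]
  haveI hM'tr : IsPretransitive (M.map G.subtype) α := by
    constructor
    intro x y
    obtain ⟨m, hm⟩ := hMtr.exists_smul_eq x y
    exact ⟨⟨((m : G) : Perm α), ⟨(m : G), m.2, rfl⟩⟩, hm⟩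
  obtain ⟨e, σ, hσM, hσ⟩ :=
    Cfsg.Agent.Lib.Lead.BurnsidePrime.exists_equiv (p := 7) hα (M.map G.subtype)
  have hord : orderOf σ = 7 := Cfsg.Agent.Lib.Helper7.D7.sigma_order e σ hσ
  have hzp : Subgroup.zpowers σ = M.map G.subtype := by
    apply Subgroup.eq_of_le_of_card_ge
    · rw [Subgroup.zpowers_le]
      exact hσM
    · rw [hM'7, Nat.card_zpowers, hord]
  -- every element of `G` normalises `⟨σ⟩`
  have hconj : ∀ g ∈ G, ∃ j : ℕ, g * σ = σ ^ j * g := by
    intro g hg
    obtain ⟨m, hmM, hmσ⟩ := hσM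
    have h1 : (⟨g, hg⟩ : G) * m * (⟨g, hg⟩ : G)⁻¹ ∈ M := hMn.conj_mem m hmM _
    have h2 : g * σ * g⁻¹ ∈ M.map G.subtype := by
      refine ⟨_, h1, ?_⟩
      rw [← hmσ]
      rfl
    rw [← hzp, ← mem_powers_iff_mem_zpowers, Submonoid.mem_powers_iff] at h2
    obtain ⟨j, hj⟩ := h2
    refine ⟨j, ?_⟩
    rw [hj, inv_mul_cancel_right]
  -- transport to `ZMod 7`
  let f : Perm α →* Perm (ZMod 7) := (e.permCongrHom : _ ≃* _).toMonoidHom
  have hfinj : Function.Injective f := (e.permCongrHom : Perm α ≃* Perm (ZMod 7)).injective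
  have hle : G.map f ≤ K := by
    rintro π ⟨g, hg, rfl⟩
    obtain ⟨j, hj⟩ := hconj g hg
    have haff := Cfsg.Agent.Lib.Helper7.D7.affine_of_conj e σ hσ g j hj
    have hπ : ∀ x, (f g) x = (j : ZMod 7) * x + e (g (e.symm 0)) := by
      intro x
      have hx : (f g) x = e (g (e.symm x)) := rfl
      rw [hx, haff, Equiv.apply_symm_apply]
    have hsign : Perm.sign (f g) = 1 := by
      have h1 : Perm.sign (e.permCongr g) = Perm.sign g := Equiv.Perm.sign_permCongr e g
      have h2 : Perm.sign g = 1 := Equiv.Perm.mem_alternatingGroup.mp (he hg)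
      have h3 : f g = e.permCongr g := rfl
      rw [h3, h1, h2]
    exact ⟨(j : ZMod 7), e (g (e.symm 0)), cube_of_even (f g) _ _ hπ hsign, hπ⟩
  have hdvd : Nat.card G ∣ 21 := by
    have h1 := Subgroup.card_dvd_of_le hle
    rwa [Subgroup.card_map_of_injective hfinj, card_K] at h1
  have h7 : 7 ∣ Nat.card G := by
    have h1 := Subgroup.card_subgroup_dvd_card M
    rwa [hM7] at h1
  have hle21 : Nat.card G ≤ 21 := Nat.le_of_dvd (by norm_num) hdvd
  have hpos : 0 < Nat.card G := Nat.card_pos
  generalize Nat.card G = n at *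
  interval_cases n <;> omega

end Cfsg.Agent.Lib.Helper5.A8V6
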