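import Mathlib
import Cfsg.Agent.Lib.Helper7.ALT8Defs

set_option autoImplicit false
set_option linter.unusedSectionVars false
set_option linter.unusedVariables false

/-! Farm ALT8 (S2928), unit U1 `exists_orbit` (Step 1: `L` is nontrivial on exactly one `H`-orbit,
which contains all the four-blocks). -/

namespace Cfsg.Agent.Lib.Helper5.ALT8

open Equiv Equiv.Perm Cfsg.Agent.Lib.Helper7.ALT8

variable {D : Type*} [Fintype D] [DecidableEq D]

theorem dswap_apply_fst {a b c d : D} (hac : a ≠ c) (had : a ≠ d) :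
    (swap a b * swap c d) a = b := by
  rw [Perm.mul_apply, swap_apply_of_ne_of_ne hac had, swap_apply_left]

theorem dswap_apply_third {a b c d : D} (hda : d ≠ a) (hdb : d ≠ b) :
    (swap a b * swap c d) c = d := by
  rw [Perm.mul_apply, swap_apply_left, swap_apply_of_ne_of_ne hda hdb]

theorem dswap_apply_of_ne {a b c d e : D} (ha : e ≠ a) (hb : e ≠ b) (hc : e ≠ c) (hd : e ≠ d) :
    (swap a b * swap c d) e = e := by
  rw [Perm.mul_apply, swap_apply_of_ne_of_ne hc hd, swap_apply_of_ne_of_ne ha hb]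

theorem dswap_support_card {a b c d : D} : (swap a b * swap c d).support.card ≤ 4 := by
  have hsub : (swap a b * swap c d).support ⊆ {a, b, c, d} := by
    intro e he
    rw [Perm.mem_support] at he
    by_contra hne
    simp only [Finset.mem_insert, Finset.mem_singleton, not_or] at hne
    exact he (dswap_apply_of_ne hne.1 hne.2.1 hne.2.2.1 hne.2.2.2)
  calc (swap a b * swap c d).support.card ≤ ({a, b, c, d} : Finset D).card := Finset.card_le_card hsub
    _ ≤ 4 := Finset.card_le_four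

/-- Fixed points of `Lb` are permuted by `X`. -/
theorem LB.fix_invariant {X Lb : Subgroup (Perm D)} (h : LB X Lb) {b : D}
    (hb : ∀ l ∈ Lb, l b = b) {g : Perm D} (hg : g ∈ X) : ∀ l ∈ Lb, l (g b) = g b := by
  intro l hl
  have h1 : g⁻¹ * l * (g⁻¹)⁻¹ ∈ Lb := h.hLn g⁻¹ (X.inv_mem hg) l hl
  have h2 := hb _ h1
  simp only [inv_inv, Perm.mul_apply] at h2
  have := congrArg g h2
  simpa using this

/-- Lemma C. -/
theorem LB.comm_of_fix {X Lb : Subgroup (Perm D)} (h : LB X Lb) (Δ : Set D)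
    (hinv : ∀ l ∈ Lb, ∀ a ∈ Δ, l a ∈ Δ) (hnt : ∃ l ∈ Lb, ∃ a ∈ Δ, l a ≠ a)
    {x : Perm D} (hxX : x ∈ X) (hfix : ∀ a ∈ Δ, x a = a) : ∀ l ∈ Lb, x * l = l * x := by
  let K : Subgroup (Perm D) :=
    { carrier := {l | l ∈ Lb ∧ ∀ a ∈ Δ, l a = a}
      mul_mem' := by
        rintro l l' ⟨hl, hl2⟩ ⟨hl', hl2'⟩
        refine ⟨Lb.mul_mem hl hl', fun a ha => ?_⟩
        rw [Perm.mul_apply, hl2' a ha, hl2 a ha]
      one_mem' := ⟨Lb.one_mem, fun a _ => rfl⟩
      inv_mem' := by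
        rintro l ⟨hl, hl2⟩
        refine ⟨Lb.inv_mem hl, fun a ha => ?_⟩
        rw [Perm.inv_eq_iff_eq, hl2 a ha] }
  have hKL : K ≤ Lb := fun l hl => hl.1
  have hKn : ∀ l ∈ Lb, ∀ k ∈ K, l * k * l⁻¹ ∈ K := by
    rintro l hl k ⟨hk, hk2⟩
    refine ⟨Lb.mul_mem (Lb.mul_mem hl hk) (Lb.inv_mem hl), fun a ha => ?_⟩
    have h1 : l⁻¹ a ∈ Δ := hinv l⁻¹ (Lb.inv_mem hl) a ha
    simp only [Perm.mul_apply]
    rw [hk2 _ h1]; simp
  have hKne : K ≠ Lb := by
    obtain ⟨l, hl, a, ha, hla⟩ := hnt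
    intro heq
    have : l ∈ K := heq ▸ hl
    exact hla (this.2 a ha)
  apply h.hP K hKL hKn hKne x hxX
  intro l hl
  refine ⟨?_, fun a ha => ?_⟩
  · exact Lb.mul_mem (h.hLn x hxX l hl) (Lb.inv_mem hl)
  · have h1 : l⁻¹ a ∈ Δ := hinv l⁻¹ (Lb.inv_mem hl) a ha
    have h2 : x⁻¹ (l⁻¹ a) = l⁻¹ a := by rw [Perm.inv_eq_iff_eq, hfix _ h1]
    simp only [Perm.mul_apply]
    rw [h2]; simp [hfix a ha]

/-- Lemma D (pointwise form). -/
theorem LB.fix_support {X Lb : Subgroup (Perm D)} (h : LB X Lb) {x : Perm D}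
    (hsupp : x.support.card ≤ 4) (hc : ∀ l ∈ Lb, x * l = l * x) :
    ∀ l ∈ Lb, ∀ a ∈ x.support, l a = a := by
  apply h.hQb x.support hsupp
  intro l hl a ha
  rw [Perm.mem_support] at ha ⊢
  intro h1
  apply ha
  have h2 := congrArg (fun p : Perm D => p a) (hc l hl)
  simp only [Perm.mul_apply] at h2
  rw [h1] at h2
  exact (l.injective h2).symm

/-- U1 (Step 1). -/
theorem exists_orbit (n : ℕ) (hn : 8 ≤ n) (H L : Subgroup (Perm (Fin n))) (h : LB H L)
    (hC : ∀ x ∈ H, (∀ l ∈ L, x * l = l * x) → x ∈ L)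
    (φ : Fin (n / 4) → Fin 4 → Fin n)
    (hφ : Function.Injective (fun p : Fin (n / 4) × Fin 4 => φ p.1 p.2))
    (hφH : ∀ i, swap (φ i 0) (φ i 1) * swap (φ i 2) (φ i 3) ∈ H ∧
        swap (φ i 0) (φ i 2) * swap (φ i 1) (φ i 3) ∈ H) :
    ∃ Δ : Finset (Fin n), (∀ i j, φ i j ∈ Δ) ∧ (∀ g ∈ H, ∀ a ∈ Δ, g a ∈ Δ) ∧
      (∀ a ∈ Δ, ∀ b ∈ Δ, ∃ g ∈ H, g a = b) ∧ ∀ l ∈ L, ∀ a, a ∉ Δ → l a = a := by
  classical
  let Rel : Fin n → Fin n → Prop := fun a b => ∃ g ∈ H, g a = b
  have Rrefl : ∀ a, Rel a a := fun a => ⟨1, H.one_mem, rfl⟩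
  have Rsymm : ∀ {a b}, Rel a b → Rel b a := by
    rintro a b ⟨g, hg, rfl⟩; exact ⟨g⁻¹, H.inv_mem hg, by simp⟩
  have Rtrans : ∀ {a b c}, Rel a b → Rel b c → Rel a c := by
    rintro a b c ⟨g, hg, rfl⟩ ⟨g', hg', rfl⟩; exact ⟨g' * g, H.mul_mem hg' hg, by simp⟩
  let Mv : Fin n → Prop := fun b => ∃ l ∈ L, l b ≠ b
  have fixOfNot : ∀ {b}, ¬ Mv b → ∀ l ∈ L, l b = b := by
    intro b hb l hl; by_contra hne; exact hb ⟨l, hl, hne⟩
  have fixRel : ∀ {a b}, Rel a b → (∀ l ∈ L, l a = a) → ∀ l ∈ L, l b = b := by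
    rintro a b ⟨g, hg, rfl⟩ ha; exact LB.fix_invariant h ha hg
  have MvRel : ∀ {a b}, Rel a b → Mv a → Mv b := by
    intro a b hab hMa
    by_contra hMb
    obtain ⟨l, hl, hla⟩ := hMa
    exact hla (fixRel (Rsymm hab) (fixOfNot hMb) l hl)
  have hinj : ∀ i j i' j', φ i j = φ i' j' → i = i' ∧ j = j' := by
    intro i j i' j' he
    have := hφ (a₁ := (i, j)) (a₂ := (i', j')) he
    exact ⟨congrArg Prod.fst this, congrArg Prod.snd this⟩
  have hne : ∀ i (j j' : Fin 4), j ≠ j' → φ i j ≠ φ i j' := by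
    intro i j j' hjj he; exact hjj (hinj i j i j' he).2
  -- the blocks lie in one orbit
  have blockRel : ∀ i j, Rel (φ i 0) (φ i j) := by
    intro i j
    have hx := (hφH i).1
    have hz := (hφH i).2
    fin_cases j
    · exact Rrefl _
    · exact ⟨_, hx, dswap_apply_fst (hne i 0 2 (by decide)) (hne i 0 3 (by decide))⟩
    · exact ⟨_, hz, dswap_apply_fst (hne i 0 1 (by decide)) (hne i 0 3 (by decide))⟩
    · refine ⟨_, H.mul_mem hx hz, ?_⟩
      rw [Perm.mul_apply, dswap_apply_fst (hne i 0 1 (by decide)) (hne i 0 3 (by decide))]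
      exact dswap_apply_third (hne i 3 0 (by decide)) (hne i 3 1 (by decide))
  -- the double transposition of block i
  have xfix : ∀ i c, (∀ j, c ≠ φ i j) →
      (swap (φ i 0) (φ i 1) * swap (φ i 2) (φ i 3)) c = c := by
    intro i c hc
    exact dswap_apply_of_ne (hc 0) (hc 1) (hc 2) (hc 3)
  have xmove : ∀ i, (swap (φ i 0) (φ i 1) * swap (φ i 2) (φ i 3)) (φ i 0) ≠ φ i 0 := by
    intro i
    rw [dswap_apply_fst (hne i 0 2 (by decide)) (hne i 0 3 (by decide))]
    exact hne i 1 0 (by decide)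
  -- Fact A
  have factA : ∀ a, Mv a → ∃ i, Rel a (φ i 0) := by
    intro a hMa
    by_contra hno'
    have hno : ∀ i, ¬ Rel a (φ i 0) := fun i hi => hno' ⟨i, hi⟩
    let Orb : Finset (Fin n) := Finset.univ.filter (fun b => Rel a b)
    let Im : Finset (Fin n) := Finset.univ.image (fun p : Fin (n / 4) × Fin 4 => φ p.1 p.2)
    have hdisj : Disjoint Orb Im := by
      rw [Finset.disjoint_left]
      intro b hb hb'
      simp only [Orb, Finset.mem_filter, Finset.mem_univ, true_and] at hb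
      simp only [Im, Finset.mem_image, Finset.mem_univ, true_and] at hb'
      obtain ⟨⟨i, j⟩, rfl⟩ := hb'
      exact hno i (Rtrans hb (Rsymm (blockRel i j)))
    have hIm : Im.card = n / 4 * 4 := by
      simp only [Im]
      rw [Finset.card_image_of_injective _ hφ]
      simp
    have hcard : Orb.card + Im.card ≤ n := by
      rw [← Finset.card_union_of_disjoint hdisj]
      calc (Orb ∪ Im).card ≤ (Finset.univ : Finset (Fin n)).card := Finset.card_le_card (Finset.subset_univ _)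
        _ = n := by simp
    have hO : Orb.card ≤ 4 := by
      have := Nat.div_add_mod n 4
      have := Nat.mod_lt n (show 4 > 0 by norm_num)
      omega
    have hOinv : ∀ l ∈ L, ∀ b ∈ Orb, l b ∈ Orb := by
      intro l hl b hb
      simp only [Orb, Finset.mem_filter, Finset.mem_univ, true_and] at hb ⊢
      exact Rtrans hb ⟨l, h.hLX hl, rfl⟩
    have hfix := h.hQb Orb hO hOinv
    obtain ⟨l, hl, hla⟩ := hMa
    exact hla (hfix l hl a (by simp [Orb, Rrefl a]))
  -- (T)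
  have hT : ∀ a b, Mv a → Mv b → Rel a b := by
    intro a b hMa hMb
    by_contra hab
    obtain ⟨i, hi⟩ := factA a hMa
    have hxH := (hφH i).1
    have hfixb : ∀ c ∈ {c | Rel b c}, (swap (φ i 0) (φ i 1) * swap (φ i 2) (φ i 3)) c = c := by
      intro c hc
      apply xfix
      intro j hj
      apply hab
      have : Rel a c := hj ▸ Rtrans hi (blockRel i j)
      exact Rtrans this (Rsymm hc)
    have hcomm := LB.comm_of_fix h {c | Rel b c}
      (fun l hl c hc => Rtrans hc ⟨l, h.hLX hl, rfl⟩)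
      (by obtain ⟨l, hl, hlb⟩ := hMb; exact ⟨l, hl, b, Rrefl b, hlb⟩) hxH hfixb
    have hfixs := LB.fix_support h dswap_support_card hcomm
    have h0 : ∀ l ∈ L, l (φ i 0) = φ i 0 := fun l hl =>
      hfixs l hl _ (by rw [Perm.mem_support]; exact xmove i)
    obtain ⟨l, hl, hla⟩ := hMa
    exact hla (fixRel (Rsymm hi) h0 l hl)
  -- (P)
  have hP : ∀ i j, Mv (φ i j) := by
    intro i j
    by_contra hnot
    have h0 : ∀ l ∈ L, l (φ i 0) = φ i 0 := fixRel (Rsymm (blockRel i j)) (fixOfNot hnot)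
    have hall : ∀ j', ∀ l ∈ L, l (φ i j') = φ i j' := fun j' => fixRel (blockRel i j') h0
    have hxH := (hφH i).1
    have hfixM : ∀ c ∈ {c | Mv c}, (swap (φ i 0) (φ i 1) * swap (φ i 2) (φ i 3)) c = c := by
      intro c hc
      apply xfix
      intro j' hj'
      obtain ⟨l, hl, hlc⟩ := hc
      exact hlc (hj' ▸ hall j' l hl)
    have hntM : ∃ l ∈ L, ∃ a ∈ {c | Mv c}, l a ≠ a := by
      obtain ⟨⟨l, hl⟩, hl1⟩ := (Subgroup.ne_bot_iff_exists_ne_one.mp h.hL1)
      have hl1' : (l : Perm (Fin n)) ≠ 1 := fun he => hl1 (Subtype.ext he)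
      have hex : ∃ c, l c ≠ c := by
        by_contra hall'
        apply hl1'
        ext c
        by_contra hc
        exact hall' ⟨c, fun he => hc (by rw [he]; rfl)⟩
      obtain ⟨c, hc⟩ := hex
      exact ⟨l, hl, c, ⟨l, hl, hc⟩, hc⟩
    have hcomm := LB.comm_of_fix h {c | Mv c}
      (fun l hl c hc => MvRel ⟨l, h.hLX hl, rfl⟩ hc) hntM hxH hfixM
    have hxL := hC _ hxH hcomm
    exact xmove i (h0 _ hxL)
  refine ⟨Finset.univ.filter (fun b => Mv b), ?_, ?_, ?_, ?_⟩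
  · intro i j; simp only [Finset.mem_filter, Finset.mem_univ, true_and]; exact hP i j
  · intro g hg a ha
    simp only [Finset.mem_filter, Finset.mem_univ, true_and] at ha ⊢
    exact MvRel ⟨g, hg, rfl⟩ ha
  · intro a ha b hb
    simp only [Finset.mem_filter, Finset.mem_univ, true_and] at ha hb
    exact hT a b ha hb
  · intro l hl a ha
    simp only [Finset.mem_filter, Finset.mem_univ, true_and] at ha
    exact fixOfNot ha l hl

end Cfsg.Agent.Lib.Helper5.ALT8
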