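import Mathlib
import Cfsg.Agent.Lib.Helper6.APFDefs
set_option autoImplicit false
set_option linter.unusedVariables false
set_option linter.style.longLine false
open Equiv Equiv.Perm
open Cfsg.Agent.Lib.Helper6.APF

/-!
# S2276 piece G0: basic facts about `Good`
-/

namespace Cfsg.Agent.Lib.Helper5.APF

theorem not_solvable_of_le {G : Type*} [Group G] {H K : Subgroup G} (hle : H ≤ K)
    (hH : ¬ Group.IsSolvable ↥H) : ¬ Group.IsSolvable ↥K := by
  intro hK
  haveI := hK
  exact hH (Group.isSolvable_of_isSolvable_injective (f := Subgroup.inclusion hle) (Subgroup.inclusion_injective hle))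

theorem good_map_iff {p : ℕ} {G G' : Type*} [Group G] [Group G'] (f : G →* G')
    (hf : Function.Injective f) (x y : G) : Good p (f x) (f y) ↔ Good p x y := by
  unfold Good
  have h1 : orderOf (f x * f y) = orderOf (x * y) := by
    rw [← map_mul]; exact orderOf_injective f hf (x * y)
  have h2 : Subgroup.closure ({f x, f y} : Set G') =
      (Subgroup.closure ({x, y} : Set G)).map f := by
    rw [MonoidHom.map_closure, Set.image_pair]
  rw [h1, h2]
  have e : ↥(Subgroup.closure ({x, y} : Set G)) ≃*
      ↥((Subgroup.closure ({x, y} : Set G)).map f) := Subgroup.equivMapOfInjective _ f hf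
  have h3 : Group.IsSolvable ↥((Subgroup.closure ({x, y} : Set G)).map f) ↔
      Group.IsSolvable ↥(Subgroup.closure ({x, y} : Set G)) := by
    constructor
    · intro h
      haveI := h
      exact Group.isSolvable_of_isSolvable_injective (f := e.toMonoidHom) e.injective
    · intro h
      haveI := h
      exact Group.isSolvable_of_isSolvable_injective (f := e.symm.toMonoidHom) e.symm.injective
  rw [h3]

theorem Good.conj {p : ℕ} {G : Type*} [Group G] {x y : G} (h : Good p x y) (g : G) :
    Good p (g * x * g⁻¹) (g * y * g⁻¹) := by
  have h1 := (good_map_iff (p := p) (MulAut.conj g).toMonoidHom (MulAut.conj g).injective x y).mpr h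
  simpa [MulAut.conj_apply] using h1

theorem Good.symm {p : ℕ} {G : Type*} [Group G] {x y : G} (h : Good p x y) : Good p y x := by
  unfold Good at h ⊢
  have h1 : orderOf (y * x) = orderOf (x * y) := by
    have e : y * x = (MulAut.conj x⁻¹).toMonoidHom (x * y) := by
      simp [MulAut.conj_apply]
    rw [e]
    exact orderOf_injective _ (MulAut.conj x⁻¹).injective (x * y)
  rw [h1, Set.pair_comm]
  exact h

end Cfsg.Agent.Lib.Helper5.APF
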