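import Mathlib
import Cfsg.Agent.Lib.Helper6.APFDefs
set_option autoImplicit false
set_option linter.unusedVariables false
set_option linter.style.longLine false
open Equiv Equiv.Perm
open Cfsg.Agent.Lib.Helper6.APF
open scoped commutatorElement

/-!
# S2276 piece NSW: the derived-series trick
-/

namespace Cfsg.Agent.Lib.Helper5.APF

theorem not_solvable_of_word {G : Type*} [Group G] (H : Subgroup G) (x y : G) (hx : x ∈ H)
    (hy : y ∈ H) (hx1 : x ≠ 1)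
    (key : x = y * (x * ((y * x⁻¹ * y) * x * (y * x⁻¹ * y)⁻¹) * x⁻¹ *
      ((y * x⁻¹ * y) * x * (y * x⁻¹ * y)⁻¹)⁻¹) * y⁻¹) : ¬ Group.IsSolvable ↥H := by
  have hX1 : (⟨x, hx⟩ : ↥H) ≠ 1 := fun h => hx1 (congrArg Subtype.val h)
  have keyH : (⟨x, hx⟩ : ↥H) = ⟨y, hy⟩ * ⁅(⟨x, hx⟩ : ↥H),
      ((⟨y, hy⟩ : ↥H) * (⟨x, hx⟩ : ↥H)⁻¹ * ⟨y, hy⟩) * ⟨x, hx⟩ *
        ((⟨y, hy⟩ : ↥H) * (⟨x, hx⟩ : ↥H)⁻¹ * ⟨y, hy⟩)⁻¹⁆ * (⟨y, hy⟩ : ↥H)⁻¹ := by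
    apply Subtype.ext
    simp only [commutatorElement_def, Subgroup.coe_mul, Subgroup.coe_inv]
    exact key
  have hmem : ∀ n : ℕ, (⟨x, hx⟩ : ↥H) ∈ derivedSeries ↥H n := by
    intro n
    induction n with
    | zero => exact Subgroup.mem_top _
    | succ n ih =>
      have hn : (derivedSeries ↥H (n + 1)).Normal := derivedSeries_normal ↥H (n + 1)
      have hn0 : (derivedSeries ↥H n).Normal := derivedSeries_normal ↥H n
      have hc : ⁅(⟨x, hx⟩ : ↥H),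
          ((⟨y, hy⟩ : ↥H) * (⟨x, hx⟩ : ↥H)⁻¹ * ⟨y, hy⟩) * ⟨x, hx⟩ *
            ((⟨y, hy⟩ : ↥H) * (⟨x, hx⟩ : ↥H)⁻¹ * ⟨y, hy⟩)⁻¹⁆ ∈ derivedSeries ↥H (n + 1) := by
        rw [derivedSeries_succ]
        exact Subgroup.commutator_mem_commutator ih (hn0.conj_mem _ ih _)
      have h := hn.conj_mem _ hc (⟨y, hy⟩ : ↥H)
      rwa [← keyH] at h
  exact not_isSolvable_of_mem_derivedSeries hX1 hmem

end Cfsg.Agent.Lib.Helper5.APF
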