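import Mathlib
import Cfsg.Agent.Lib.Helper6.APFDefs
import Cfsg.Agent.Lib.Helper5.APFNSW
set_option autoImplicit false
set_option linter.unusedVariables false
set_option linter.style.longLine false
open Equiv Equiv.Perm
open Cfsg.Agent.Lib.Helper6.APF

/-!
# S2276 pieces TR and NS: transport of swaps along an embedding; two 3-cycles sharing exactly
one point generate a nonsolvable group.
-/

namespace Cfsg.Agent.Lib.Helper5.APF

theorem viaEmbeddingHom_swap {α β : Type*} [DecidableEq α] [DecidableEq β] (ι : α ↪ β)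
    (i j : α) : Equiv.Perm.viaEmbeddingHom ι (Equiv.swap i j) = Equiv.swap (ι i) (ι j) := by
  ext z
  rw [Equiv.Perm.viaEmbeddingHom_apply]
  by_cases hz : z ∈ Set.range ι
  · obtain ⟨a, rfl⟩ := hz
    rw [Equiv.Perm.viaEmbedding_apply]
    exact (ι.injective.swap_apply i j a).symm
  · rw [Equiv.Perm.viaEmbedding_apply_of_notMem _ _ _ hz]
    have h1 : z ≠ ι i := fun h => hz ⟨i, h.symm⟩
    have h2 : z ≠ ι j := fun h => hz ⟨j, h.symm⟩
    rw [Equiv.swap_apply_of_ne_of_ne h1 h2]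

theorem fin5_key :
    (swap (0 : Fin 5) 1 * swap 1 2) =
      (swap (2 : Fin 5) 3 * swap 3 4) * ((swap (0 : Fin 5) 1 * swap 1 2) *
        (((swap (2 : Fin 5) 3 * swap 3 4) * (swap (0 : Fin 5) 1 * swap 1 2)⁻¹ *
          (swap (2 : Fin 5) 3 * swap 3 4)) * (swap (0 : Fin 5) 1 * swap 1 2) *
          ((swap (2 : Fin 5) 3 * swap 3 4) * (swap (0 : Fin 5) 1 * swap 1 2)⁻¹ *
            (swap (2 : Fin 5) 3 * swap 3 4))⁻¹) * (swap (0 : Fin 5) 1 * swap 1 2)⁻¹ *
        (((swap (2 : Fin 5) 3 * swap 3 4) * (swap (0 : Fin 5) 1 * swap 1 2)⁻¹ *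
          (swap (2 : Fin 5) 3 * swap 3 4)) * (swap (0 : Fin 5) 1 * swap 1 2) *
          ((swap (2 : Fin 5) 3 * swap 3 4) * (swap (0 : Fin 5) 1 * swap 1 2)⁻¹ *
            (swap (2 : Fin 5) 3 * swap 3 4))⁻¹)⁻¹) * (swap (2 : Fin 5) 3 * swap 3 4)⁻¹ := by
  decide +kernel

theorem fin5_ne_one : (swap (0 : Fin 5) 1 * swap 1 2) ≠ 1 := by decide

theorem not_solvable_of_three_cycles {Ω : Type*} [DecidableEq Ω] (a b d e f : Ω)
    (hnd : [a, b, d, e, f].Nodup) (H : Subgroup (Perm Ω)) (hx : swap a b * swap b d ∈ H)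
    (hy : swap d e * swap e f ∈ H) : ¬ Group.IsSolvable ↥H := by
  have hinj : Function.Injective (![a, b, d, e, f] : Fin 5 → Ω) := by
    rw [← List.nodup_ofFn]
    simpa using hnd
  let ι : Fin 5 ↪ Ω := ⟨![a, b, d, e, f], hinj⟩
  have hφx : Equiv.Perm.viaEmbeddingHom ι (swap (0 : Fin 5) 1 * swap 1 2) =
      swap a b * swap b d := by
    rw [map_mul, viaEmbeddingHom_swap, viaEmbeddingHom_swap]
    rfl
  have hφy : Equiv.Perm.viaEmbeddingHom ι (swap (2 : Fin 5) 3 * swap 3 4) =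
      swap d e * swap e f := by
    rw [map_mul, viaEmbeddingHom_swap, viaEmbeddingHom_swap]
    rfl
  have hx1 : swap a b * swap b d ≠ 1 := by
    rw [← hφx]
    intro h
    exact fin5_ne_one (Equiv.Perm.viaEmbeddingHom_injective ι (by rw [h, map_one]))
  refine not_solvable_of_word H (swap a b * swap b d) (swap d e * swap e f) hx hy hx1 ?_
  have key := congrArg (Equiv.Perm.viaEmbeddingHom ι) fin5_key
  simp only [map_mul, map_inv] at key
  rw [← map_mul, ← map_mul, hφx, hφy] at key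
  exact key

end Cfsg.Agent.Lib.Helper5.APF
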