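import Mathlib
import Cfsg.Agent.Lib.Helper9.AbCb

set_option autoImplicit false

/-!
# S2202, piece IB: no odd-order subgroup is transitive on the involutions

(helper9's farm-out piece IB, `no_trans_odd`.)
-/

namespace Cfsg.Agent.Lib.Helper5.AbCI

open Cfsg Cfsg.Agent.Lib.Lead Cfsg.Agent.Lib.Lead.SE Cfsg.Agent.Lib.Helper9.AbC

variable {G : Type*} [Group G] [Finite G] {T : Sylow 2 G}

local notation "HH" => Subgroup.normalizer ((T : Subgroup G) : Set G)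
local notation "x₀" => ((1 : G) : G ⧸ Subgroup.normalizer ((T : Subgroup G) : Set G))

omit [Finite G] in
theorem conj_smul_fix {α : Type*} [MulAction G α] (v d : G) {x : α} (h : d • x = x) :
    (v * d * v⁻¹) • (v • x) = v • x := by
  rw [mul_smul, mul_smul, inv_smul_smul, h]

omit [Finite G] in
/-- conjugation by an element of the normalizer preserves `T` -/
theorem conj_mem_T {d : G} (hd : d ∈ HH) {t : G} (ht : t ∈ T) : d * t * d⁻¹ ∈ T :=
  (Subgroup.mem_normalizer_iff.mp hd t).mp ht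

section

variable (h : Hyp T)
include h

/-- a point different from the base point -/
theorem exists_point_ne : ∃ p : G ⧸ HH, p ≠ x₀ := by
  have hne : (HH) ≠ ⊤ := h.se.1
  have : ∃ g : G, g ∉ HH := by
    by_contra hcon
    push Not at hcon
    exact hne ((Subgroup.eq_top_iff' _).mpr hcon)
  obtain ⟨g, hg⟩ := this
  refine ⟨g • x₀, ?_⟩
  intro he
  exact hg ((Hyp.smul_base_iff (T := T) g).mp he)

omit h in
/-- elements of `T` fix the base point -/
theorem T_fix {t : G} (ht : t ∈ T) : t • x₀ = x₀ :=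
  (Hyp.smul_base_iff (T := T) t).mpr (Subgroup.le_normalizer ht)

omit h in
/-- `g = t d` with `t ∈ T` and `d` fixing `x₀` and `p` -/
theorem decomp (hc : Concl T) {p : G ⧸ HH} (hp : p ≠ x₀) {g : G} (hg : g ∈ HH) :
    ∃ t ∈ T, ∃ d : G, d • x₀ = x₀ ∧ d • p = p ∧ g = t * d := by
  have hgx : g • x₀ = x₀ := (Hyp.smul_base_iff (T := T) g).mpr hg
  have hz : g • p ≠ x₀ := by
    intro he
    apply hp
    have : g • p = g • x₀ := he.trans hgx.symm
    exact smul_left_cancel g this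
  obtain ⟨t, ⟨htT, htp⟩, -⟩ := hc.reg p (g • p) hp hz
  refine ⟨t, htT, t⁻¹ * g, ?_, ?_, by group⟩
  · rw [mul_smul, hgx]
    have := T_fix htT
    rw [inv_smul_eq_iff]; exact this.symm
  · rw [mul_smul, inv_smul_eq_iff]; exact htp.symm

end

omit [Finite G] in
/-- elements fixing `x₀` and `p` commute -/
theorem comm_of_fix (hc : Concl T)
    (hcen : ∀ n ∈ (HH).normalCore, ∀ g : G, g * n = n * g)
    {p : G ⧸ HH} (hp : p ≠ x₀) {d d' : G} (hdx : d • x₀ = x₀) (hdp : d • p = p)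
    (hd'x : d' • x₀ = x₀) (hd'p : d' • p = p) : d * d' = d' * d := by
  obtain ⟨d₀, -, -, hgen⟩ := hc.gen2 x₀ p (Ne.symm hp)
  obtain ⟨k, n, hn, rfl⟩ := hgen d hdx hdp
  obtain ⟨l, n', hn', rfl⟩ := hgen d' hd'x hd'p
  have c1 : Commute (d₀ ^ k) (d₀ ^ l) := (Commute.refl d₀).pow_pow k l
  have c2 : Commute (d₀ ^ k) n' := hcen n' hn' _
  have c3 : Commute n (d₀ ^ l) := (hcen n hn _).symm
  have c4 : Commute n n' := hcen n' hn' _
  exact ((c1.mul_right c2).mul_left (c3.mul_right c4)).eq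

section

variable (h : Hyp T) (hc : Concl T)
include h hc

/-- `t ∈ T`, `d` in the core, `t d` of odd order: `t = 1` -/
theorem eq_one_of_odd_mul {t d : G} (ht : t ∈ T) (hd : d ∈ (HH).normalCore)
    (ho : Odd (orderOf (t * d))) : t = 1 := by
  have hcomm : Commute t d := (h.core_cent hd ht).symm
  obtain ⟨j, hj⟩ := ho
  have h1 : (t * d) ^ (2 * j + 1) = 1 := by rw [← hj]; exact pow_orderOf_eq_one _
  rw [hcomm.mul_pow] at h1
  have h2 : t ^ (2 * j + 1) = (d ^ (2 * j + 1))⁻¹ := eq_inv_of_mul_eq_one_left h1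
  have h3 : t ^ (2 * j + 1) ∈ (HH).normalCore := by
    rw [h2]; exact Subgroup.inv_mem _ (Subgroup.pow_mem _ hd _)
  have h4 : t ^ (2 * j + 1) = 1 := h.core_inf h3 (Subgroup.pow_mem _ ht _)
  have h5 : t ^ 2 = 1 := hc.elem t ht
  rw [pow_succ, pow_mul, h5, one_pow, one_mul] at h4
  exact h4

/-- an odd-order element of `HH` outside the core fixes a second point -/
theorem exists_fix {y : G} (hyH : y ∈ HH) (hyo : Odd (orderOf y)) (hyK : y ∉ (HH).normalCore) :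
    ∃ p' : G ⧸ HH, p' ≠ x₀ ∧ y • p' = p' := by
  obtain ⟨p, hp⟩ := exists_point_ne h
  obtain ⟨t, htT, d, hdx, hdp, hyd⟩ := decomp hc hp hyH
  have hdH : d ∈ HH := (Hyp.smul_base_iff (T := T) d).mp hdx
  have hdo : Odd (orderOf d) := odd_orderOf_of_fix h.se (Ne.symm hp) hdx hdp
  let φ : ↥(T : Subgroup G) → ↥(T : Subgroup G) := fun t' =>
    ⟨t'.1 * (d * t'.1⁻¹ * d⁻¹),
      Subgroup.mul_mem _ t'.2 (conj_mem_T hdH (Subgroup.inv_mem _ t'.2))⟩
  have hinj : Function.Injective φ := by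
    intro t₁ t₂ h12
    have he : t₁.1 * (d * t₁.1⁻¹ * d⁻¹) = t₂.1 * (d * t₂.1⁻¹ * d⁻¹) := congrArg Subtype.val h12
    by_contra hne
    have hτ1 : t₂.1⁻¹ * t₁.1 ≠ 1 := by
      intro h0
      apply hne
      apply Subtype.ext
      have := eq_of_inv_mul_eq_one h0
      exact this.symm
    have hτT : t₂.1⁻¹ * t₁.1 ∈ T := Subgroup.mul_mem _ (Subgroup.inv_mem _ t₂.2) t₁.2
    have hcomm : d * (t₂.1⁻¹ * t₁.1) = (t₂.1⁻¹ * t₁.1) * d := by
      have e1 : t₂.1⁻¹ * t₁.1 = t₂.1⁻¹ * (t₁.1 * (d * t₁.1⁻¹ * d⁻¹)) * (d * t₁.1 * d⁻¹) := by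
        group
      have e2 : d * (t₂.1⁻¹ * t₁.1) * d⁻¹ = t₂.1⁻¹ * (t₂.1 * (d * t₂.1⁻¹ * d⁻¹)) * (d * t₁.1 * d⁻¹) := by
        group
      rw [he] at e1
      have e3 : t₂.1⁻¹ * t₁.1 = d * (t₂.1⁻¹ * t₁.1) * d⁻¹ := e1.trans e2.symm
      have := (mul_inv_eq_iff_eq_mul.mp e3.symm)
      exact this
    have hdK : d ∈ (HH).normalCore :=
      hc.core d (fun t'' ht'' => h.cent_of_comm hτT hτ1 hcomm ht'') hdo
    have ht1 : t = 1 := eq_one_of_odd_mul h hc htT hdK (by rw [← hyd]; exact hyo)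
    apply hyK
    rw [hyd, ht1, one_mul]
    exact hdK
  have hsurj : Function.Surjective φ := Finite.injective_iff_surjective.mp hinj
  obtain ⟨t', ht'⟩ := hsurj ⟨t, htT⟩
  have hφ : t'.1 * (d * t'.1⁻¹ * d⁻¹) = t := congrArg Subtype.val ht'
  refine ⟨t'.1 • p, ?_, ?_⟩
  · intro he
    apply hp
    have h1 := T_fix t'.2
    have : t'.1 • p = t'.1 • x₀ := he.trans h1.symm
    exact smul_left_cancel _ this
  · have e : y * t'.1 = t'.1 * d := by
      rw [hyd, ← hφ]; group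
    rw [← mul_smul, e, mul_smul, hdp]

/-- two elements of `HH` in an odd-order subgroup commute -/
theorem comm_of_odd (hcen : ∀ n ∈ (HH).normalCore, ∀ g : G, g * n = n * g) (Y : Subgroup G) (hYodd : ∀ y ∈ Y, Odd (orderOf y)) {y y' : G}
    (hy : y ∈ Y) (hy' : y' ∈ Y) (hyH : y ∈ HH) (hy'H : y' ∈ HH) : y * y' = y' * y := by
  obtain ⟨p, hp⟩ := exists_point_ne h
  obtain ⟨t, htT, d, hdx, hdp, hyd⟩ := decomp hc hp hyH
  obtain ⟨t', ht'T, d', hd'x, hd'p, hy'd⟩ := decomp hc hp hy'H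
  have hdH : d ∈ HH := (Hyp.smul_base_iff (T := T) d).mp hdx
  have hd'H : d' ∈ HH := (Hyp.smul_base_iff (T := T) d').mp hd'x
  have hdd : d * d' = d' * d := comm_of_fix hc hcen hp hdx hdp hd'x hd'p
  have e0 : d' * d⁻¹ = d⁻¹ * d' := by
    have : d' * d⁻¹ = d⁻¹ * (d * d') * d⁻¹ := by group
    rw [this, hdd]; group
  have hcT : y * y' * y⁻¹ * y'⁻¹ ∈ T := by
    have e1 : y * y' * y⁻¹ * y'⁻¹ = t * d * t' * (d' * d⁻¹) * t⁻¹ * d'⁻¹ * t'⁻¹ := by
      rw [hyd, hy'd]; group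
    have e2 : t * d * t' * (d⁻¹ * d') * t⁻¹ * d'⁻¹ * t'⁻¹ =
        t * (d * t' * d⁻¹) * (d' * t⁻¹ * d'⁻¹) * t'⁻¹ := by group
    rw [e1, e0, e2]
    exact Subgroup.mul_mem _ (Subgroup.mul_mem _ (Subgroup.mul_mem _ htT (conj_mem_T hdH ht'T))
      (conj_mem_T hd'H (Subgroup.inv_mem _ htT))) (Subgroup.inv_mem _ ht'T)
  have hcY : y * y' * y⁻¹ * y'⁻¹ ∈ Y :=
    Subgroup.mul_mem _ (Subgroup.mul_mem _ (Subgroup.mul_mem _ hy hy') (Subgroup.inv_mem _ hy))
      (Subgroup.inv_mem _ hy')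
  obtain ⟨k, hk⟩ := h.orderOf_mem hcT
  have ho := hYodd _ hcY
  have h1 : y * y' * y⁻¹ * y'⁻¹ = 1 := by
    rw [hk] at ho
    rcases Nat.eq_zero_or_pos k with h0 | h0
    · rw [h0, pow_zero] at hk
      exact orderOf_eq_one_iff.mp hk
    · exfalso
      have : Even (2 ^ k) := (Nat.even_pow' (by omega)).mpr (by decide)
      exact (Nat.not_odd_iff_even.mpr this) ho
  have : y * y' = (y * y' * y⁻¹ * y'⁻¹) * (y' * y) := by group
  rw [this, h1, one_mul]

end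

/-- no subgroup all of whose elements have odd order is transitive on the involutions
(section-variable form) -/
theorem no_trans_odd_aux (h : Hyp T) (hc : Concl T)
    (hcen : ∀ n ∈ (HH).normalCore, ∀ g : G, g * n = n * g)
    (Y : Subgroup G) (hYodd : ∀ y ∈ Y, Odd (orderOf y))
    (htr : ∀ a b : G, orderOf a = 2 → orderOf b = 2 → ∃ y ∈ Y, y * a * y⁻¹ = b) : False := by
  obtain ⟨a, a', haT, ha'T, hao, ha'o, hne⟩ := h.exists_two_invol
  obtain ⟨y₁, hy₁Y, hy₁⟩ := htr a a' hao ha'o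
  have ha1 : a ≠ 1 := invol_ne_one hao
  have hy₁H : y₁ ∈ HH := h.ti haT ha1 (by rw [hy₁]; exact ha'T)
  have hy₁K : y₁ ∉ (HH).normalCore := by
    intro hK
    apply hne
    have h1 : y₁ * a = a * y₁ := h.core_cent hK haT
    rw [← hy₁, h1]; group
  have hy₁o := hYodd y₁ hy₁Y
  obtain ⟨p', hp', hy₁p'⟩ := exists_fix h hc hy₁H hy₁o hy₁K
  have hy₁x : y₁ • x₀ = x₀ := (Hyp.smul_base_iff (T := T) y₁).mpr hy₁H
  -- the fixed points of `y₁` are `x₀` and `p'`
  have hfix : ∀ q : G ⧸ HH, y₁ • q = q → q = x₀ ∨ q = p' := by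
    intro q hq
    by_contra hcon
    push Not at hcon
    exact hy₁K (hc.three y₁ x₀ p' q (Ne.symm hp') (Ne.symm hcon.1) (Ne.symm hcon.2) hy₁x hy₁p' hq)
  -- every element of `Y ⊓ HH` fixes `p'`
  have hYfix : ∀ y' ∈ Y, y' ∈ HH → y' • p' = p' := by
    intro y' hy'Y hy'H
    have hcomm : y₁ * y' = y' * y₁ := comm_of_odd h hc hcen Y hYodd hy₁Y hy'Y hy₁H hy'H
    have h1 : y₁ • (y' • p') = y' • p' := by
      rw [← mul_smul, hcomm, mul_smul, hy₁p']
    rcases hfix _ h1 with h2 | h2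
    · exfalso
      apply hp'
      have hy'x : y' • x₀ = x₀ := (Hyp.smul_base_iff (T := T) y').mpr hy'H
      have : y' • p' = y' • x₀ := h2.trans hy'x.symm
      exact smul_left_cancel _ this
    · exact h2
  -- an involution fixing `p'`
  obtain ⟨v, hvT, hvo⟩ := h.exists_invol_mem
  have hvx : v • x₀ = x₀ := T_fix hvT
  obtain ⟨g, hg⟩ := MulAction.exists_smul_eq G x₀ p'
  have hv'o : orderOf (g * v * g⁻¹) = 2 := by rw [orderOf_conj_eq]; exact hvo
  have hv'p : (g * v * g⁻¹) • p' = p' := by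
    have := conj_smul_fix g v hvx
    rwa [hg] at this
  obtain ⟨y₂, hy₂Y, hy₂⟩ := htr v (g * v * g⁻¹) hvo hv'o
  have hy₂x : y₂ • x₀ = p' := by
    have h1 : (y₂ * v * y₂⁻¹) • (y₂ • x₀) = y₂ • x₀ := conj_smul_fix y₂ v hvx
    rw [hy₂] at h1
    exact fix_unique h.se hv'o h1 hv'p
  have hwY : y₂⁻¹ * y₁ * y₂ ∈ Y :=
    Subgroup.mul_mem _ (Subgroup.mul_mem _ (Subgroup.inv_mem _ hy₂Y) hy₁Y) hy₂Y
  have hwx : (y₂⁻¹ * y₁ * y₂) • x₀ = x₀ := by
    rw [mul_smul, mul_smul, hy₂x, hy₁p', inv_smul_eq_iff]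
    exact hy₂x.symm
  have hwH : y₂⁻¹ * y₁ * y₂ ∈ HH := (Hyp.smul_base_iff (T := T) _).mp hwx
  have hwp : (y₂⁻¹ * y₁ * y₂) • p' = p' := hYfix _ hwY hwH
  have h3 : y₁ • (y₂ • p') = y₂ • p' := by
    have h31 : y₂ • ((y₂⁻¹ * y₁ * y₂) • p') = y₂ • p' := by rw [hwp]
    have e : y₂ * (y₂⁻¹ * y₁ * y₂) = y₁ * y₂ := by group
    rw [← mul_smul, e, mul_smul] at h31
    exact h31
  rcases hfix _ h3 with h4 | h4
  · -- `y₂` swaps `x₀` and `p'`, impossible for an element of odd order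
    have hsq : (y₂ * y₂) • x₀ = x₀ := by rw [mul_smul, hy₂x, h4]
    obtain ⟨m, hm⟩ := hYodd y₂ hy₂Y
    have h5 : y₂ ^ (2 * m + 1) = 1 := by rw [← hm]; exact pow_orderOf_eq_one _
    have h6 : ∀ k : ℕ, (y₂ ^ (2 * k)) • x₀ = x₀ := by
      intro k
      induction k with
      | zero => simp
      | succ k ih =>
        have e : y₂ ^ (2 * (k + 1)) = y₂ ^ (2 * k) * (y₂ * y₂) := by
          rw [mul_add, pow_add, mul_one, pow_two]
        rw [e, mul_smul, hsq, ih]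
    have h7 : y₂ ^ (2 * m + 1) = y₂ * y₂ ^ (2 * m) := pow_succ' _ _
    have h8 : (y₂ ^ (2 * m + 1)) • x₀ = p' := by rw [h7, mul_smul, h6, hy₂x]
    rw [h5, one_smul] at h8
    exact hp' h8.symm
  · apply hp'
    have : y₂ • p' = y₂ • x₀ := h4.trans hy₂x.symm
    exact smul_left_cancel _ this

/-- **Piece IB** (verbatim): no subgroup all of whose elements have odd order is transitive
on the involutions. -/
theorem no_trans_odd {M : Type*} [Group M] [Finite M] {T : Sylow 2 M} (h : Hyp T) (hc : Concl T)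
    (hcen : ∀ n ∈ (Subgroup.normalizer ((T : Subgroup M) : Set M)).normalCore, ∀ g : M, g * n = n * g)
    (Y : Subgroup M) (hYodd : ∀ y ∈ Y, Odd (orderOf y))
    (htr : ∀ a b : M, orderOf a = 2 → orderOf b = 2 → ∃ y ∈ Y, y * a * y⁻¹ = b) : False :=
  no_trans_odd_aux h hc hcen Y hYodd htr

end Cfsg.Agent.Lib.Helper5.AbCI
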