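import Mathlib
import Cfsg.Agent.Lib.Helper9.AbCb

set_option autoImplicit false

/-!
# S2202, piece K: a nontrivial element commuting with an involution fixes only its fixed point

(helper9's farm-out piece K, `semireg_of_ti`.)
-/

namespace Cfsg.Agent.Lib.Helper5.AbCK

open Cfsg Cfsg.Agent.Lib.Lead Cfsg.Agent.Lib.Lead.SE Cfsg.Agent.Lib.Helper9.AbC

variable {G : Type*} [Group G]

theorem invol_smul_swap {α : Type*} [MulAction G α] {v : G} (hv : orderOf v = 2) {x y : α}
    (h : v • x = y) : v • y = x := by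
  rw [← h, ← mul_smul, invol_mul_self hv, one_smul]

theorem conj_smul_of_fix {α : Type*} [MulAction G α] (v d : G) {x : α} (h : d • x = x) :
    (v * d * v⁻¹) • (v • x) = v • x := by
  rw [mul_smul, mul_smul, inv_smul_smul, h]

/-- `Zc a x y = C(a) ⊓ G_y ⊓ G_x` -/
abbrev Zc (a : G) {α : Type*} [MulAction G α] (x y : α) : Subgroup G :=
  Subgroup.centralizer ({a} : Set G) ⊓ (MulAction.stabilizer G y ⊓ MulAction.stabilizer G x)

theorem mem_Zc {α : Type*} [MulAction G α] {a z : G} {x y : α} :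
    z ∈ Zc a x y ↔ z * a = a * z ∧ z • y = y ∧ z • x = x := by
  simp only [Zc, Subgroup.mem_inf, Subgroup.mem_centralizer_singleton_iff,
    MulAction.mem_stabilizer_iff]

variable [Finite G] {T : Sylow 2 G}

local notation "HH" => Subgroup.normalizer ((T : Subgroup G) : Set G)

/-- the number of involutions of `HH` is positive -/
theorem card_invol_pos (h : Hyp T) : 0 < Nat.card {t : G // orderOf t = 2 ∧ t ∈ HH} := by
  obtain ⟨s, hsT, hs⟩ := h.exists_invol_mem
  have : Nonempty {t : G // orderOf t = 2 ∧ t ∈ HH} :=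
    ⟨⟨s, hs, Subgroup.le_normalizer hsT⟩⟩
  exact Nat.card_pos

/-- for an involution `v` swapping `x` and `y`: `i * |C(v) ⊓ D| = |D|` -/
theorem card_cent_swap (h : Hyp T) {x y : G ⧸ HH} (hxy : x ≠ y) {v : G} (hv : orderOf v = 2)
    (hvx : v • x = y) :
    Nat.card {t : G // orderOf t = 2 ∧ t ∈ HH} * Nat.card (Zc v x y) =
      Nat.card (MulAction.stabilizer G y ⊓ MulAction.stabilizer G x : Subgroup G) := by
  have hvy : v • y = x := invol_smul_swap hv hvx
  have h1 := card_inverted h.se hxy hv hvx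
  have hn : ∀ d ∈ (MulAction.stabilizer G y ⊓ MulAction.stabilizer G x : Subgroup G),
      v * d * v⁻¹ ∈ (MulAction.stabilizer G y ⊓ MulAction.stabilizer G x : Subgroup G) := by
    intro d hd
    rw [Subgroup.mem_inf, MulAction.mem_stabilizer_iff, MulAction.mem_stabilizer_iff] at hd ⊢
    constructor
    · have := conj_smul_of_fix v d hd.2
      rwa [hvx] at this
    · have := conj_smul_of_fix v d hd.1
      rwa [hvy] at this
  have hodd : ∀ d ∈ (MulAction.stabilizer G y ⊓ MulAction.stabilizer G x : Subgroup G),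
      Odd (orderOf d) := by
    intro d hd
    rw [Subgroup.mem_inf, MulAction.mem_stabilizer_iff, MulAction.mem_stabilizer_iff] at hd
    exact odd_orderOf_of_fix h.se hxy.symm hd.1 hd.2
  have h2 := card_inv_mul_card_fix
    (MulAction.stabilizer G y ⊓ MulAction.stabilizer G x : Subgroup G) hv hn hodd
  rw [h1] at h2
  rw [← h2]
  congr 1
  apply Nat.card_congr
  refine ⟨fun z => ⟨z.1, ?_⟩, fun d => ⟨d.1, ?_⟩, fun z => rfl, fun d => rfl⟩
  · have hz := z.2
    rw [mem_Zc] at hz
    refine ⟨?_, ?_⟩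
    · rw [Subgroup.mem_inf, MulAction.mem_stabilizer_iff, MulAction.mem_stabilizer_iff]
      exact hz.2
    · rw [mul_inv_eq_iff_eq_mul]; exact hz.1.symm
  · have hd := d.2
    rw [mem_Zc]
    refine ⟨?_, ?_⟩
    · have := hd.2
      rw [mul_inv_eq_iff_eq_mul] at this
      exact this.symm
    · have := hd.1
      rwa [Subgroup.mem_inf, MulAction.mem_stabilizer_iff, MulAction.mem_stabilizer_iff] at this

section TI

variable (h : Hyp T)
  (hTI : ∀ s t c : G, orderOf s = 2 → orderOf t = 2 → c ≠ 1 → c * s = s * c → c * t = t * c →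
      s * t = t * s)
include h hTI

/-- `s` fixes `x`, `s'` fixes `y ≠ x`: nothing nontrivial commutes with both -/
theorem eq_one_of_comm_fix_fix {x y : G ⧸ HH} (hxy : x ≠ y) {s s' : G} (hs : orderOf s = 2)
    (hs' : orderOf s' = 2) (hsx : s • x = x) (hs'y : s' • y = y) {c : G} (hcs : c * s = s * c)
    (hcs' : c * s' = s' * c) : c = 1 := by
  by_contra hc
  have h1 := hTI s s' c hs hs' hc hcs hcs'
  have h2 : s' • x = x := commute_fix h.se hs h1.symm hsx
  exact hxy (fix_unique h.se hs' h2 hs'y)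

/-- `s` fixes `x`, `v` moves `x`: nothing nontrivial commutes with both -/
theorem eq_one_of_comm_fix_swap {x y : G ⧸ HH} (hxy : x ≠ y) {s v : G} (hs : orderOf s = 2)
    (hv : orderOf v = 2) (hsx : s • x = x) (hvx : v • x = y) {c : G} (hcs : c * s = s * c)
    (hcv : c * v = v * c) : c = 1 := by
  by_contra hc
  have h1 := hTI s v c hs hv hc hcs hcv
  have h2 : v • x = x := commute_fix h.se hs h1.symm hsx
  exact hxy (h2.symm.trans hvx)

/-- `v ≠ v'` both swap `x` and `y`: nothing nontrivial commutes with both -/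
theorem eq_one_of_comm_swap_swap {x y : G ⧸ HH} (hxy : x ≠ y) {v v' : G} (hv : orderOf v = 2)
    (hv' : orderOf v' = 2) (hvx : v • x = y) (hv'x : v' • x = y) (hne : v ≠ v') {c : G}
    (hcv : c * v = v * c) (hcv' : c * v' = v' * c) : c = 1 := by
  by_contra hc
  have h1 := hTI v v' c hv hv' hc hcv hcv'
  have hvy : v • y = x := invol_smul_swap hv hvx
  have hv'y : v' • y = x := invol_smul_swap hv' hv'x
  have hw2 : (v * v') * (v * v') = 1 := by
    have : (v * v') * (v * v') = v * (v' * v) * v' := by group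
    rw [this, ← h1]
    have : v * (v * v') * v' = (v * v) * (v' * v') := by group
    rw [this, invol_mul_self hv, invol_mul_self hv', one_mul]
  have hw1 : v * v' ≠ 1 := by
    intro h0
    have : v = v'⁻¹ := eq_inv_of_mul_eq_one_left h0
    rw [invol_inv hv'] at this
    exact hne this
  have hw : orderOf (v * v') = 2 := invol_of_mul_self hw1 hw2
  have hwx : (v * v') • x = x := by rw [mul_smul, hv'x, hvy]
  have hwy : (v * v') • y = y := by rw [mul_smul, hv'y, hvx]
  have := odd_orderOf_of_fix h.se hxy hwx hwy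
  rw [hw] at this
  exact absurd this (by decide)

end TI

section Main

variable (h : Hyp T)
  (hTI : ∀ s t c : G, orderOf s = 2 → orderOf t = 2 → c ≠ 1 → c * s = s * c → c * t = t * c →
      s * t = t * s)
include h hTI

/-- elements of `X = C(s) ⊓ D` and `Y = C(s') ⊓ D` commute -/
theorem comm_XY {x y : G ⧸ HH} (hxy : x ≠ y) {s s' : G} (hs : orderOf s = 2)
    (hs' : orderOf s' = 2) (hsx : s • x = x) (hs'y : s' • y = y) {a b : G}
    (ha : a ∈ Zc s x y) (hb : b ∈ Zc s' x y) : a * b = b * a := by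
  rw [mem_Zc] at ha hb
  have c1 : Commute a s := ha.1
  have c2 : Commute b s' := hb.1
  have c3 : Commute (b * a⁻¹ * b⁻¹) s := h.conj_cent hs hsx hb.2.2 (c1.inv_left).eq
  have c4 : Commute (a * b * a⁻¹) s' := h.conj_cent hs' hs'y ha.2.1 c2.eq
  have c5 : Commute (a * (b * a⁻¹ * b⁻¹)) s := c1.mul_left c3
  have c6 : Commute ((a * b * a⁻¹) * b⁻¹) s' := c4.mul_left c2.inv_left
  have e : a * (b * a⁻¹ * b⁻¹) = (a * b * a⁻¹) * b⁻¹ := by group
  rw [← e] at c6
  have h1 := eq_one_of_comm_fix_fix h hTI hxy hs hs' hsx hs'y c5.eq c6.eq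
  have : a * b = (a * (b * a⁻¹ * b⁻¹)) * (b * a) := by group
  rw [this, h1, one_mul]

/-- the intersection of `X` and `Y` is trivial, in the form used for injectivity -/
theorem eq_of_mul_eq_XY {x y : G ⧸ HH} (hxy : x ≠ y) {s s' : G} (hs : orderOf s = 2)
    (hs' : orderOf s' = 2) (hsx : s • x = x) (hs'y : s' • y = y) {a a' b b' : G}
    (ha : a * s = s * a) (ha' : a' * s = s * a') (hb : b * s' = s' * b) (hb' : b' * s' = s' * b')
    (he : a * b = a' * b') : a = a' := by
  have c1 : Commute (a'⁻¹ * a) s := (Commute.inv_left ha').mul_left ha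
  have c2 : Commute (b' * b⁻¹) s' := (show Commute b' s' from hb').mul_left (Commute.inv_left hb)
  have e : a'⁻¹ * a = b' * b⁻¹ := by
    have : a'⁻¹ * a = a'⁻¹ * (a * b) * b⁻¹ := by group
    rw [this, he]; group
  rw [← e] at c2
  have h1 := eq_one_of_comm_fix_fix h hTI hxy hs hs' hsx hs'y c1.eq c2.eq
  have : a = a' * (a'⁻¹ * a) := by group
  rw [this, h1, mul_one]

/-- `C(v) ⊓ D ⊆ X · Y` for an involution `v` swapping `x` and `y` -/
theorem Zv_sub_XY {x y : G ⧸ HH} (hxy : x ≠ y) {s s' v : G} (hs : orderOf s = 2)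
    (hs' : orderOf s' = 2) (hv : orderOf v = 2) (hsx : s • x = x) (hs'y : s' • y = y)
    (hvx : v • x = y) (hcard : Nat.card (Zc v x y) ≤ Nat.card (Zc s x y)) :
    ∀ z ∈ Zc v x y, ∃ a ∈ Zc s x y, ∃ b ∈ Zc s' x y, z = a * b := by
  have hvy : v • y = x := invol_smul_swap hv hvx
  have hvv : v * v = 1 := invol_mul_self hv
  have hvi : v⁻¹ = v := invol_inv hv
  -- `v a v⁻¹ ∈ Y` for `a ∈ X`
  have hY : ∀ a ∈ Zc s x y, v * a * v⁻¹ ∈ Zc s' x y := by
    intro a ha
    rw [mem_Zc] at ha ⊢
    have hs1 : orderOf (v * s * v⁻¹) = 2 := by rw [orderOf_conj_eq, hs]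
    have hs1y : (v * s * v⁻¹) • y = y := by
      have := conj_smul_of_fix v s hsx
      rwa [hvx] at this
    have hc : (v * a * v⁻¹) * (v * s * v⁻¹) = (v * s * v⁻¹) * (v * a * v⁻¹) := by
      have e1 : (v * a * v⁻¹) * (v * s * v⁻¹) = v * (a * s) * v⁻¹ := by group
      have e2 : (v * s * v⁻¹) * (v * a * v⁻¹) = v * (s * a) * v⁻¹ := by group
      rw [e1, e2, ha.1]
    refine ⟨(h.cent_iff_of_fix hs1 hs' hs1y hs'y _).mp hc, ?_, ?_⟩
    · have := conj_smul_of_fix v a ha.2.2
      rwa [hvx] at this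
    · have := conj_smul_of_fix v a ha.2.1
      rwa [hvy] at this
  -- `a * (v a v⁻¹) ∈ Z_v`
  have hZ : ∀ a ∈ Zc s x y, a * (v * a * v⁻¹) ∈ Zc v x y := by
    intro a ha
    have hb := hY a ha
    have hab := comm_XY h hTI hxy hs hs' hsx hs'y ha hb
    rw [mem_Zc] at ha hb ⊢
    refine ⟨?_, ?_, ?_⟩
    · -- commutes with v
      have e1 : v * (a * (v * a * v⁻¹)) * v⁻¹ = (v * a * v⁻¹) * ((v * v) * a * (v * v)⁻¹) := by
        group
      rw [hvv, one_mul, inv_one, mul_one, ← hab] at e1
      exact (mul_inv_eq_iff_eq_mul.mp e1).symm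
    · rw [mul_smul, hb.2.1, ha.2.1]
    · rw [mul_smul, hb.2.2, ha.2.2]
  let φ : Zc s x y → Zc v x y := fun a => ⟨a.1 * (v * a.1 * v⁻¹), hZ a.1 a.2⟩
  have hinj : Function.Injective φ := by
    intro a a' haa
    have he : a.1 * (v * a.1 * v⁻¹) = a'.1 * (v * a'.1 * v⁻¹) := congrArg Subtype.val haa
    have h1 := (mem_Zc.mp a.2).1
    have h2 := (mem_Zc.mp a'.2).1
    have h3 := (mem_Zc.mp (hY a.1 a.2)).1
    have h4 := (mem_Zc.mp (hY a'.1 a'.2)).1
    exact Subtype.ext (eq_of_mul_eq_XY h hTI hxy hs hs' hsx hs'y h1 h2 h3 h4 he)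
  have hbij := hinj.bijective_of_nat_card_le hcard
  intro z hz
  obtain ⟨a, ha⟩ := hbij.2 ⟨z, hz⟩
  refine ⟨a.1, a.2, v * a.1 * v⁻¹, hY a.1 a.2, ?_⟩
  exact (congrArg Subtype.val ha).symm

/-- piece K of S2202 -/
theorem semireg_of_ti_aux (s c : G) (hs : orderOf s = 2) (hc1 : c ≠ 1) (hcs : c * s = s * c)
    (p : G ⧸ HH) (hcp : c • p = p) : s • p = p := by
  classical
  obtain ⟨x, hsx⟩ := fix_exists h.se hs
  by_contra hsp
  have hxy : x ≠ p := by
    rintro rfl; exact hsp hsx
  have hcx : c • x = x := commute_fix h.se hs hcs hsx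
  set i := Nat.card {t : G // orderOf t = 2 ∧ t ∈ HH} with hi
  have hi0 : 0 < i := card_invol_pos h
  have hD1 : i * Nat.card (Zc s x p) = _ := h.card_two_point hxy hs hsx
  have hsw : Nat.card {v : G // orderOf v = 2 ∧ v • x = p} = i := card_swap h.se hxy
  obtain ⟨⟨u, hu, hux⟩⟩ : Nonempty {v : G // orderOf v = 2 ∧ v • x = p} :=
    (Nat.card_pos_iff.mp (by rw [hsw]; exact hi0)).1
  -- the involution s' fixing p
  have hs' : orderOf (u * s * u⁻¹) = 2 := by rw [orderOf_conj_eq, hs]
  have hs'y : (u * s * u⁻¹) • p = p := by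
    have := conj_smul_of_fix u s hsx
    rwa [hux] at this
  have hD2 : i * Nat.card (Zc (u * s * u⁻¹) x p) =
      Nat.card (MulAction.stabilizer G p ⊓ MulAction.stabilizer G x : Subgroup G) := by
    have := h.card_two_point hxy.symm hs' hs'y
    rw [inf_comm (MulAction.stabilizer G x) (MulAction.stabilizer G p)] at this
    exact this
  set s' := u * s * u⁻¹ with hs'def
  set k := Nat.card (Zc s x p) with hk
  have hcZ : c ∈ Zc s x p := mem_Zc.mpr ⟨hcs, hcp, hcx⟩
  have hk2 : 2 ≤ k := by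
    have : 1 < Nat.card (Zc s x p) := by
      rw [Subgroup.one_lt_card_iff_ne_bot]
      intro hbot
      rw [hbot] at hcZ
      exact hc1 (Subgroup.mem_bot.mp hcZ)
    omega
  have hk' : Nat.card (Zc s' x p) = k := by
    have : i * Nat.card (Zc s' x p) = i * k := by rw [hD2, ← hD1]
    exact Nat.eq_of_mul_eq_mul_left hi0 this
  have hkv : ∀ v : G, orderOf v = 2 → v • x = p → Nat.card (Zc v x p) = k := by
    intro v hv hvx
    have h1 := card_cent_swap h hxy hv hvx
    have : i * Nat.card (Zc v x p) = i * k := by rw [h1, ← hD1]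
    exact Nat.eq_of_mul_eq_mul_left hi0 this
  -- k ≤ i
  have hki : k ≤ i := by
    let f : Zc s x p × Zc s' x p →
        (MulAction.stabilizer G p ⊓ MulAction.stabilizer G x : Subgroup G) := fun w =>
      ⟨w.1.1 * w.2.1, Subgroup.mul_mem _ (Subgroup.mem_inf.mp w.1.2).2
        (Subgroup.mem_inf.mp w.2.2).2⟩
    have hf : Function.Injective f := by
      rintro ⟨a, b⟩ ⟨a', b'⟩ hw
      have he : a.1 * b.1 = a'.1 * b'.1 := congrArg Subtype.val hw
      have h1 := (mem_Zc.mp a.2).1
      have h2 := (mem_Zc.mp a'.2).1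
      have h3 := (mem_Zc.mp b.2).1
      have h4 := (mem_Zc.mp b'.2).1
      have e1 : a.1 = a'.1 := eq_of_mul_eq_XY h hTI hxy hs hs' hsx hs'y h1 h2 h3 h4 he
      have e2 : b.1 = b'.1 := by
        rw [e1] at he
        exact mul_left_cancel he
      exact Prod.ext (Subtype.ext e1) (Subtype.ext e2)
    have h1 := Nat.card_le_card_of_injective f hf
    rw [Nat.card_prod, hk', ← hD1] at h1
    exact Nat.le_of_mul_le_mul_right h1 (by omega)
  -- finsets
  haveI : Fintype G := Fintype.ofFinite G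
  let W : Finset G := Finset.univ.filter (fun v => orderOf v = 2 ∧ v • x = p)
  have hWcard : W.card = i := by
    convert (card_filter_eq_natCard (fun v : G => orderOf v = 2 ∧ v • x = p)).trans hsw
  have hsW : s ∉ W := by
    intro hm
    have := (Finset.mem_filter.mp hm).2.2
    exact hxy (hsx.symm.trans this)
  have hs'W : s' ∉ W := by
    intro hm
    have h1 := (Finset.mem_filter.mp hm).2.2
    have h2 := invol_smul_swap hs' h1
    exact hxy (h2.symm.trans hs'y)
  have hss' : s ≠ s' := by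
    intro he
    have : s • p = p := by rw [he]; exact hs'y
    exact hsp this
  let J : Finset G := insert s (insert s' W)
  have hJcard : J.card = i + 2 := by
    rw [Finset.card_insert_of_notMem, Finset.card_insert_of_notMem hs'W, hWcard]
    intro hm
    rcases Finset.mem_insert.mp hm with hm | hm
    · exact hss' hm
    · exact hsW hm
  let XF : G → Finset G := fun a => Finset.univ.filter (fun z => z ∈ Zc a x p)
  have hXFcard : ∀ a ∈ J, (XF a).card = k := by
    intro a ha
    have h0 : (XF a).card = Nat.card (Zc a x p) := card_filter_eq_natCard _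
    rw [h0]
    rcases Finset.mem_insert.mp ha with rfl | ha
    · rfl
    rcases Finset.mem_insert.mp ha with rfl | ha
    · exact hk'
    · have := (Finset.mem_filter.mp ha).2
      exact hkv a this.1 this.2
  let P : Finset G := Finset.image (fun w : G × G => w.1 * w.2) (XF s ×ˢ XF s')
  have hPcard : P.card ≤ k * k := by
    refine Finset.card_image_le.trans ?_
    rw [Finset.card_product, hXFcard s (Finset.mem_insert_self _ _),
      hXFcard s' (Finset.mem_insert_of_mem (Finset.mem_insert_self _ _))]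
  have hmemP : ∀ z : G, (∃ a ∈ Zc s x p, ∃ b ∈ Zc s' x p, z = a * b) → z ∈ P := by
    rintro z ⟨a, ha, b, hb, rfl⟩
    refine Finset.mem_image.mpr ⟨(a, b), ?_, rfl⟩
    rw [Finset.mem_product]
    exact ⟨Finset.mem_filter.mpr ⟨Finset.mem_univ _, ha⟩,
      Finset.mem_filter.mpr ⟨Finset.mem_univ _, hb⟩⟩
  have hsub : ∀ a ∈ J, XF a ⊆ P := by
    intro a ha z hz
    have hz' : z ∈ Zc a x p := (Finset.mem_filter.mp hz).2
    apply hmemP
    rcases Finset.mem_insert.mp ha with rfl | ha
    · exact ⟨z, hz', 1, Subgroup.one_mem _, (mul_one z).symm⟩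
    rcases Finset.mem_insert.mp ha with rfl | ha
    · exact ⟨1, Subgroup.one_mem _, z, hz', (one_mul z).symm⟩
    · have hav := (Finset.mem_filter.mp ha).2
      exact Zv_sub_XY h hTI hxy hs hs' hav.1 hsx hs'y hav.2 (le_of_eq (hkv a hav.1 hav.2)) z hz'
  -- TI
  have hti : ∀ a ∈ J, ∀ b ∈ J, a ≠ b → ∀ z : G, z ∈ Zc a x p → z ∈ Zc b x p → z = 1 := by
    have key : ∀ a ∈ J, ∀ b ∈ J, a ≠ b → ∀ z : G, z * a = a * z → z * b = b * z → z = 1 := by
      intro a ha b hb hab z hza hzb
      rcases Finset.mem_insert.mp ha with rfl | ha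
      · rcases Finset.mem_insert.mp hb with rfl | hb
        · exact absurd rfl hab
        rcases Finset.mem_insert.mp hb with rfl | hb
        · exact eq_one_of_comm_fix_fix h hTI hxy hs hs' hsx hs'y hza hzb
        · have hbv := (Finset.mem_filter.mp hb).2
          exact eq_one_of_comm_fix_swap h hTI hxy hs hbv.1 hsx hbv.2 hza hzb
      rcases Finset.mem_insert.mp ha with rfl | ha
      · rcases Finset.mem_insert.mp hb with rfl | hb
        · exact eq_one_of_comm_fix_fix h hTI hxy hs hs' hsx hs'y hzb hza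
        rcases Finset.mem_insert.mp hb with rfl | hb
        · exact absurd rfl hab
        · have hbv := (Finset.mem_filter.mp hb).2
          exact eq_one_of_comm_fix_swap h hTI hxy.symm hs' hbv.1 hs'y
            (invol_smul_swap hbv.1 hbv.2) hza hzb
      · have hav := (Finset.mem_filter.mp ha).2
        rcases Finset.mem_insert.mp hb with rfl | hb
        · exact eq_one_of_comm_fix_swap h hTI hxy hs hav.1 hsx hav.2 hzb hza
        rcases Finset.mem_insert.mp hb with rfl | hb
        · exact eq_one_of_comm_fix_swap h hTI hxy.symm hs' hav.1 hs'y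
            (invol_smul_swap hav.1 hav.2) hzb hza
        · have hbv := (Finset.mem_filter.mp hb).2
          exact eq_one_of_comm_swap_swap h hTI hxy hav.1 hbv.1 hav.2 hbv.2 hab hza hzb
    intro a ha b hb hab z hza hzb
    exact key a ha b hb hab z (mem_Zc.mp hza).1 (mem_Zc.mp hzb).1
  -- counting
  have hdisj : (↑J : Set G).PairwiseDisjoint (fun a => (XF a).erase 1) := by
    intro a ha b hb hab
    rw [Function.onFun, Finset.disjoint_left]
    intro z hza hzb
    have hza' := Finset.mem_erase.mp hza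
    have hzb' := Finset.mem_erase.mp hzb
    exact hza'.1 (hti a ha b hb hab z (Finset.mem_filter.mp hza'.2).2
      (Finset.mem_filter.mp hzb'.2).2)
  have hcardU : (J.biUnion (fun a => (XF a).erase 1)).card = (i + 2) * (k - 1) := by
    rw [Finset.card_biUnion hdisj]
    have : ∀ a ∈ J, ((XF a).erase 1).card = k - 1 := by
      intro a ha
      rw [Finset.card_erase_of_mem, hXFcard a ha]
      exact Finset.mem_filter.mpr ⟨Finset.mem_univ _, Subgroup.one_mem _⟩
    rw [Finset.sum_congr rfl this, Finset.sum_const, smul_eq_mul, hJcard]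
  have hUsub : J.biUnion (fun a => (XF a).erase 1) ⊆ P.erase 1 := by
    intro z hz
    obtain ⟨a, ha, hza⟩ := Finset.mem_biUnion.mp hz
    have := Finset.mem_erase.mp hza
    exact Finset.mem_erase.mpr ⟨this.1, hsub a ha this.2⟩
  have h1P : (1 : G) ∈ P :=
    hmemP 1 ⟨1, Subgroup.one_mem _, 1, Subgroup.one_mem _, (mul_one 1).symm⟩
  have hfin := Finset.card_le_card hUsub
  rw [hcardU, Finset.card_erase_of_mem h1P] at hfin
  -- arithmetic
  obtain ⟨m, hm⟩ := Nat.exists_eq_add_of_le hk2
  have hPpos : 0 < P.card := Finset.card_pos.mpr ⟨1, h1P⟩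
  rw [hm] at hfin hPcard hki
  have e1 : 2 + m - 1 = m + 1 := by omega
  rw [e1] at hfin
  have h2 : (2 + m + 2) * (m + 1) ≤ (i + 2) * (m + 1) :=
    Nat.mul_le_mul_right _ (by omega)
  have h3 : (2 + m + 2) * (m + 1) + 1 ≤ (2 + m) * (2 + m) := by
    generalize (2 + m + 2) * (m + 1) = q1 at h2 ⊢
    generalize (i + 2) * (m + 1) = q2 at h2 hfin
    generalize (2 + m) * (2 + m) = q3 at hPcard ⊢
    omega
  nlinarith [h3]

end Main

/-- **Piece K of S2202** (statement verbatim from helper9's farm-out) -/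
theorem semireg_of_ti {G : Type*} [Group G] [Finite G] {T : Sylow 2 G} (h : Hyp T)
    (hTI : ∀ s t c : G, orderOf s = 2 → orderOf t = 2 → c ≠ 1 → c * s = s * c → c * t = t * c →
      s * t = t * s)
    (s c : G) (hs : orderOf s = 2) (hc1 : c ≠ 1) (hcs : c * s = s * c)
    (p : G ⧸ Subgroup.normalizer ((T : Subgroup G) : Set G)) (hcp : c • p = p) : s • p = p :=
  semireg_of_ti_aux h hTI s c hs hc1 hcs p hcp

end Cfsg.Agent.Lib.Helper5.AbCK



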