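import Mathlib
import Cfsg.Prelude.Def_ChevStructure
import Cfsg.Prelude.Def_ChevB2
import Cfsg.Agent.Lib.Helper5.ChevXGL

set_option autoImplicit false

/-!
`B₂(2)` acts on an orbit of six row vectors of the adjoint module over `ZMod 2`; the action gives a
homomorphism onto the symmetric group of degree six.
-/

namespace Cfsg.Agent.Lib.Helper5.B2F2

open Cfsg Cfsg.Lie Cfsg.Agent.Lib.Helper5.ChevStruct

/-- a row vector given by the list of its ten coordinates -/
def vecOf (l : List (ZMod 2)) : chevB2.Idx → ZMod 2 := fun idx =>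
  match idx with
  | .inl i => l.getD i.val 0
  | .inr s => l.getD (2 + s.val) 0

/-- the six vectors of the orbit -/
def W6 : Fin 6 → chevB2.Idx → ZMod 2 := fun k =>
  vecOf ([[0, 1, 0, 0, 0, 1, 1, 0, 0, 0], [0, 1, 0, 0, 0, 1, 1, 0, 0, 1],
    [0, 1, 1, 0, 0, 0, 0, 0, 0, 1], [0, 1, 1, 0, 0, 0, 1, 0, 0, 1],
    [0, 1, 1, 0, 0, 1, 0, 0, 0, 1], [0, 1, 1, 0, 0, 1, 1, 0, 0, 0]].getD k.val [])

/-- the permutations induced by the `x_r(1)` -/
def piFun (r : ℕ) (k : Fin 6) : Fin 6 :=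
  ⟨(([[1, 0, 2, 3, 4, 5], [1, 0, 3, 2, 5, 4], [1, 0, 4, 5, 2, 3], [0, 1, 3, 2, 4, 5],
    [0, 1, 4, 3, 2, 5], [5, 4, 3, 2, 1, 0], [5, 3, 4, 1, 2, 0], [5, 1, 2, 3, 4, 0]].getD r
      []).getD k.val 0) % 6, Nat.mod_lt _ (by norm_num)⟩

set_option maxRecDepth 100000 in
theorem W6_inj : Function.Injective W6 := by decide +kernel

set_option maxRecDepth 100000 in
theorem act_gen : ∀ r : Fin 8, ∀ k : Fin 6,
    Matrix.vecMul (W6 k) (chevB2.x (ZMod 2) r.val 1) = W6 (piFun r.val k) := by decide +kernel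

theorem piFun_invol : ∀ r : Fin 8, ∀ k : Fin 6, piFun r.val (piFun r.val k) = k := by decide

/-- the permutation induced by `x_r(1)` -/
def piPerm (r : Fin 8) : Equiv.Perm (Fin 6) :=
  Function.Involutive.toPerm (piFun r.val) (piFun_invol r)

/-- the matrices permuting the six vectors -/
def stabSub : Subgroup (GL chevB2.Idx (ZMod 2)) where
  carrier := {g | ∃ σ : Equiv.Perm (Fin 6), ∀ k,
    Matrix.vecMul (W6 k) (g : Matrix chevB2.Idx chevB2.Idx (ZMod 2)) = W6 (σ k)}
  one_mem' := ⟨1, fun k => by rw [Units.val_one, Matrix.vecMul_one, Equiv.Perm.one_apply]⟩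
  mul_mem' := by
    rintro g h ⟨σ, hσ⟩ ⟨τ, hτ⟩
    refine ⟨τ * σ, fun k => ?_⟩
    rw [Units.val_mul, ← Matrix.vecMul_vecMul, hσ, hτ, Equiv.Perm.mul_apply]
  inv_mem' := by
    rintro g ⟨σ, hσ⟩
    refine ⟨σ⁻¹, fun k => ?_⟩
    have := hσ (σ⁻¹ k)
    have e : σ (σ⁻¹ k) = k := by rw [← Equiv.Perm.mul_apply, mul_inv_cancel, Equiv.Perm.one_apply]
    rw [e] at this
    rw [← this, Matrix.vecMul_vecMul, ← Units.val_mul, mul_inv_cancel, Units.val_one,
      Matrix.vecMul_one]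

theorem perm_unique (g : GL chevB2.Idx (ZMod 2)) (σ τ : Equiv.Perm (Fin 6))
    (hσ : ∀ k, Matrix.vecMul (W6 k) (g : Matrix chevB2.Idx chevB2.Idx (ZMod 2)) = W6 (σ k))
    (hτ : ∀ k, Matrix.vecMul (W6 k) (g : Matrix chevB2.Idx chevB2.Idx (ZMod 2)) = W6 (τ k)) :
    σ = τ := by
  ext k
  have := W6_inj ((hσ k).symm.trans (hτ k))
  rw [this]

/-- the permutation of the six vectors induced by a matrix -/
noncomputable def psi (g : ↥stabSub) : Equiv.Perm (Fin 6) := Classical.choose g.2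

theorem psi_spec (g : ↥stabSub) (k : Fin 6) :
    Matrix.vecMul (W6 k) ((g : GL chevB2.Idx (ZMod 2)) : Matrix chevB2.Idx chevB2.Idx (ZMod 2))
      = W6 (psi g k) := Classical.choose_spec g.2 k

theorem psi_eq (g : ↥stabSub) (σ : Equiv.Perm (Fin 6))
    (hσ : ∀ k, Matrix.vecMul (W6 k) ((g : GL chevB2.Idx (ZMod 2)) :
      Matrix chevB2.Idx chevB2.Idx (ZMod 2)) = W6 (σ k)) : psi g = σ :=
  perm_unique g.1 _ _ (psi_spec g) hσ

theorem psi_one : psi 1 = 1 :=
  psi_eq 1 1 (fun k => by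
    rw [Subgroup.coe_one, Units.val_one, Matrix.vecMul_one, Equiv.Perm.one_apply])

theorem psi_mul (g h : ↥stabSub) : psi (g * h) = psi h * psi g :=
  psi_eq (g * h) _ (fun k => by
    rw [Subgroup.coe_mul, Units.val_mul, ← Matrix.vecMul_vecMul, psi_spec, psi_spec,
      Equiv.Perm.mul_apply])

/-- the permutation of the six vectors induced by a matrix, inverted so as to be multiplicative -/
noncomputable def permHom : ↥stabSub →* Equiv.Perm (Fin 6) where
  toFun g := (psi g)⁻¹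
  map_one' := by rw [psi_one, inv_one]
  map_mul' g h := by rw [psi_mul, mul_inv_rev]

theorem permHom_eq (g : ↥stabSub) (σ : Equiv.Perm (Fin 6))
    (hσ : ∀ k, Matrix.vecMul (W6 k) ((g : GL chevB2.Idx (ZMod 2)) :
      Matrix chevB2.Idx chevB2.Idx (ZMod 2)) = W6 (σ k)) : permHom g = σ⁻¹ := by
  show (psi g)⁻¹ = σ⁻¹
  rw [psi_eq g σ hσ]

theorem zmod2_cases (t : ZMod 2) : t = 0 ∨ t = 1 := by
  fin_cases t
  · left; rfl
  · right; rfl

theorem group_le_stabSub : chevB2.group (ZMod 2) ≤ stabSub := by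
  unfold ChevalleyDatum.group
  rw [Subgroup.closure_le]
  rintro g ⟨r, t, hg⟩
  rcases zmod2_cases t with rfl | rfl
  · refine ⟨1, fun k => ?_⟩
    rw [hg, xMat_at_zero, Matrix.vecMul_one, Equiv.Perm.one_apply]
  · refine ⟨piPerm r, fun k => ?_⟩
    rw [hg]
    have := act_gen r k
    unfold ChevalleyDatum.x at this
    rw [dif_pos r.2] at this
    exact this

/-- the action of `B₂(2)` on the six vectors -/
noncomputable def actHom : ↥(chevB2.group (ZMod 2)) →* Equiv.Perm (Fin 6) :=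
  permHom.comp (Subgroup.inclusion group_le_stabSub)

theorem hB2 : chevB2 ∈ Seven := by
  unfold Seven
  simp

theorem piPerm_inv (r : Fin 8) : (piPerm r)⁻¹ = piPerm r := by
  rw [Equiv.Perm.inv_def]
  exact Function.Involutive.toPerm_symm _

/-- the element `x_r(1)` of the group -/
def xElt (r : Fin 8) : ↥(chevB2.group (ZMod 2)) :=
  ⟨xGL chevB2 hB2 r.val (1 : ZMod 2), xGL_mem_group chevB2 hB2 r.val 1⟩

theorem actHom_xElt (r : Fin 8) : actHom (xElt r) = piPerm r := by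
  have h : actHom (xElt r) = permHom (Subgroup.inclusion group_le_stabSub (xElt r)) := rfl
  have hk : ∀ k, Matrix.vecMul (W6 k)
      (((Subgroup.inclusion group_le_stabSub (xElt r) : ↥stabSub) : GL chevB2.Idx (ZMod 2)) :
        Matrix chevB2.Idx chevB2.Idx (ZMod 2)) = W6 (piPerm r k) := by
    intro k
    have e1 : (((Subgroup.inclusion group_le_stabSub (xElt r) : ↥stabSub) :
        GL chevB2.Idx (ZMod 2)) : Matrix chevB2.Idx chevB2.Idx (ZMod 2))
        = chevB2.x (ZMod 2) r.val 1 := rfl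
    have e2 : piPerm r k = piFun r.val k := rfl
    rw [e1, e2]
    exact act_gen r k
  rw [h, permHom_eq _ (piPerm r) hk, piPerm_inv]

theorem piPerm_mem_range (r : Fin 8) : piPerm r ∈ actHom.range :=
  ⟨xElt r, actHom_xElt r⟩

theorem swap_mem_range : ∀ i : Fin 5, Equiv.swap i.castSucc i.succ ∈ actHom.range := by
  have e0 : Equiv.swap (0 : Fin 6) 1 = piPerm 0 := by decide
  have e1 : Equiv.swap (1 : Fin 6) 2 = piPerm 3 * piPerm 2 * piPerm 7 * piPerm 2 * piPerm 3 := by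
    decide
  have e2 : Equiv.swap (2 : Fin 6) 3 = piPerm 3 := by decide
  have e3 : Equiv.swap (3 : Fin 6) 4 = piPerm 3 * piPerm 4 * piPerm 3 := by decide
  have e4 : Equiv.swap (4 : Fin 6) 5 = piPerm 3 * piPerm 1 * piPerm 0 := by decide
  intro i
  fin_cases i
  · show Equiv.swap (0 : Fin 6) 1 ∈ _
    rw [e0]; exact piPerm_mem_range _
  · show Equiv.swap (1 : Fin 6) 2 ∈ _
    rw [e1]
    exact mul_mem (mul_mem (mul_mem (mul_mem (piPerm_mem_range _) (piPerm_mem_range _))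
      (piPerm_mem_range _)) (piPerm_mem_range _)) (piPerm_mem_range _)
  · show Equiv.swap (2 : Fin 6) 3 ∈ _
    rw [e2]; exact piPerm_mem_range _
  · show Equiv.swap (3 : Fin 6) 4 ∈ _
    rw [e3]
    exact mul_mem (mul_mem (piPerm_mem_range _) (piPerm_mem_range _)) (piPerm_mem_range _)
  · show Equiv.swap (4 : Fin 6) 5 ∈ _
    rw [e4]
    exact mul_mem (mul_mem (piPerm_mem_range _) (piPerm_mem_range _)) (piPerm_mem_range _)

theorem actHom_surjective : Function.Surjective actHom := by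
  rw [← MonoidHom.range_eq_top, eq_top_iff]
  intro σ _
  have h := Equiv.Perm.mclosure_swap_castSucc_succ 5
  have hσ : σ ∈ Submonoid.closure (Set.range fun i : Fin 5 => Equiv.swap i.castSucc i.succ) := by
    rw [h]; trivial
  refine Submonoid.closure_le.2 ?_ hσ
  rintro _ ⟨i, rfl⟩
  exact swap_mem_range i

end Cfsg.Agent.Lib.Helper5.B2F2
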