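import Mathlib
import Cfsg.Agent.Lib.Helper5.PU2770T

set_option autoImplicit false
set_option linter.unusedVariables false

/-! # S2769 / S2768 farm (owner helper2): general units (N4), (F3), (S4) -/

namespace Cfsg.Agent.Lib.Helper5.PU2769N

open Cfsg.Agent.Lib.Helper5.PU2770T
open scoped commutatorElement

/-- a normal subgroup is fixed by conjugation -/
theorem map_conj_eq_of_normal {G : Type*} [Group G] (N : Subgroup G) [hN : N.Normal] (g : G) :
    N.map (MulAut.conj g).toMonoidHom = N := by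
  ext x
  constructor
  · rintro ⟨y, hy, rfl⟩
    exact hN.conj_mem y hy g
  · intro hx
    refine ⟨g⁻¹ * x * g, ?_, ?_⟩
    · have := hN.conj_mem x hx g⁻¹
      simpa using this
    · simp [MulAut.conj_apply, mul_assoc]

/-- **(F3)** -/
theorem f3 {G : Type*} [Group G] (U D W : Subgroup G) [hW : W.Normal]
    (hDc : ∀ a ∈ D, ∀ b ∈ D, a * b = b * a) (hU : U ≤ D ⊔ W) : ⁅U, D⁆ ≤ W := by
  rw [Subgroup.commutator_le]
  intro u hu c hc
  have hu' : u ∈ (↑(D ⊔ W) : Set G) := hU hu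
  rw [Subgroup.mul_normal] at hu'
  obtain ⟨b, hb, w, hw, rfl⟩ := Set.mem_mul.mp hu'
  have hbc : b⁻¹ * c⁻¹ = c⁻¹ * b⁻¹ := by
    have h := hDc c hc b hb
    rw [← mul_inv_rev, ← mul_inv_rev, h]
  have h1 : ⁅b * w, c⁆ = b * (w * (c * w⁻¹ * c⁻¹)) * b⁻¹ := by
    rw [commutatorElement_def]
    calc b * w * c * (b * w)⁻¹ * c⁻¹ = b * w * c * w⁻¹ * (b⁻¹ * c⁻¹) := by group
      _ = b * w * c * w⁻¹ * (c⁻¹ * b⁻¹) := by rw [hbc]
      _ = b * (w * (c * w⁻¹ * c⁻¹)) * b⁻¹ := by group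
  rw [h1]
  exact hW.conj_mem _ (W.mul_mem hw (hW.conj_mem _ (W.inv_mem hw) c)) b

/-- **(S4)** -/
theorem s4 {G : Type*} [Group G] (U J Q : Subgroup G)
    (hJU : ∀ j ∈ J, ∀ u ∈ U, j * u = u * j)
    (hJQ : J ≤ Subgroup.normalizer (Q : Set G)) : ⁅U, J ⊔ Q⁆ = ⁅U, Q⁆ := by
  apply le_antisymm
  · -- `J` and `Q` stabilize `C = [U, Q]`
    have hJC : ∀ j ∈ J, ∀ c ∈ ⁅U, Q⁆, j * c * j⁻¹ ∈ ⁅U, Q⁆ := by
      intro j hj c hc
      have hle : ⁅U, Q⁆ ≤ (⁅U, Q⁆).comap (MulAut.conj j).toMonoidHom := by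
        rw [Subgroup.commutator_le]
        intro u hu q hq
        rw [Subgroup.mem_comap]
        have h1 : (MulAut.conj j).toMonoidHom ⁅u, q⁆ = ⁅u, j * q * j⁻¹⁆ := by
          have hju : j * u * j⁻¹ = u := by rw [hJU j hj u hu]; group
          rw [map_commutatorElement]
          show ⁅j * u * j⁻¹, j * q * j⁻¹⁆ = _
          rw [hju]
        rw [h1]
        have hq' : j * q * j⁻¹ ∈ Q := (Subgroup.mem_normalizer_iff.mp (hJQ hj) q).mp hq
        exact Subgroup.commutator_mem_commutator hu hq'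
      exact hle hc
    have hQC : ∀ q ∈ Q, ∀ c ∈ ⁅U, Q⁆, q * c * q⁻¹ ∈ ⁅U, Q⁆ := by
      intro q hq c hc
      have hle : ⁅U, Q⁆ ≤ (⁅U, Q⁆).comap (MulAut.conj q).toMonoidHom := by
        rw [Subgroup.commutator_le]
        intro u hu q' hq'
        rw [Subgroup.mem_comap]
        have h1 : (MulAut.conj q).toMonoidHom ⁅u, q'⁆ = ⁅u, q⁆⁻¹ * ⁅u, q * q'⁆ := by
          show q * ⁅u, q'⁆ * q⁻¹ = _
          simp only [commutatorElement_def]; group
        rw [h1]
        exact Subgroup.mul_mem _ (Subgroup.inv_mem _ (Subgroup.commutator_mem_commutator hu hq))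
          (Subgroup.commutator_mem_commutator hu (Q.mul_mem hq hq'))
      exact hle hc
    -- `J ⊔ Q` normalizes `C`
    have hN : J ⊔ Q ≤ Subgroup.normalizer ((⁅U, Q⁆ : Subgroup G) : Set G) := by
      rw [sup_le_iff]
      constructor
      · intro j hj
        rw [Subgroup.mem_normalizer_iff]
        intro c
        constructor
        · exact hJC j hj c
        · intro h
          have := hJC j⁻¹ (J.inv_mem hj) _ h
          have e : j⁻¹ * (j * c * j⁻¹) * j⁻¹⁻¹ = c := by group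
          rwa [e] at this
      · intro q hq
        rw [Subgroup.mem_normalizer_iff]
        intro c
        constructor
        · exact hQC q hq c
        · intro h
          have := hQC q⁻¹ (Q.inv_mem hq) _ h
          have e : q⁻¹ * (q * c * q⁻¹) * q⁻¹⁻¹ = c := by group
          rwa [e] at this
    have hsup : J ⊔ Q = Subgroup.closure ((J : Set G) ∪ Q) := by
      rw [Subgroup.closure_union, Subgroup.closure_eq, Subgroup.closure_eq]
    have key : ∀ x ∈ J ⊔ Q, ∀ u ∈ U, ⁅u, x⁆ ∈ ⁅U, Q⁆ := by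
      intro x hx
      have hx' := hx
      rw [hsup] at hx'
      induction hx' using Subgroup.closure_induction with
      | mem x hxm =>
        rcases hxm with hxm | hxm
        · intro u hu
          have : ⁅u, x⁆ = 1 := by
            rw [commutatorElement_def, ← hJU x hxm u hu]; group
          rw [this]; exact Subgroup.one_mem _
        · exact fun u hu => Subgroup.commutator_mem_commutator hu hxm
      | one =>
        intro u _
        have : ⁅u, (1 : G)⁆ = 1 := by rw [commutatorElement_def]; group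
        rw [this]; exact Subgroup.one_mem _
      | mul x y hxc hyc ihx ihy =>
        have hxJQ : x ∈ J ⊔ Q := by rw [hsup]; exact hxc
        have hyJQ : y ∈ J ⊔ Q := by rw [hsup]; exact hyc
        intro u hu
        have e : ⁅u, x * y⁆ = ⁅u, x⁆ * (x * ⁅u, y⁆ * x⁻¹) := by
          simp only [commutatorElement_def]; group
        rw [e]
        have hxn := hN hxJQ
        exact Subgroup.mul_mem _ (ihx hxJQ u hu)
          ((Subgroup.mem_normalizer_iff.mp hxn _).mp (ihy hyJQ u hu))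
      | inv x hxc ihx =>
        have hxJQ : x ∈ J ⊔ Q := by rw [hsup]; exact hxc
        intro u hu
        have e : ⁅u, x⁻¹⁆ = x⁻¹ * (⁅u, x⁆)⁻¹ * x⁻¹⁻¹ := by
          simp only [commutatorElement_def]; group
        rw [e]
        have hxn := hN ((J ⊔ Q).inv_mem hxJQ)
        exact (Subgroup.mem_normalizer_iff.mp hxn _).mp (Subgroup.inv_mem _ (ihx hxJQ u hu))
    rw [Subgroup.commutator_le]
    intro u hu x hx
    exact key x hx u hu
  · exact Subgroup.commutator_mono le_rfl le_sup_right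

/-- **(N4)** with `hkp` the conclusion of KP for `V = W`: `(A^g ∩ Q) W` is again an abelian subgroup
of maximal order of `S`, inside `Q`. -/
theorem n4 {G : Type*} [Group G] [Finite G] (S A Q W : Subgroup G) [Q.Normal] [W.Normal]
    (hAS : A ≤ S) (hQS : Q ≤ S) (hWQ : W ≤ Q) (hWZ : ∀ w ∈ W, ∀ q ∈ Q, w * q = q * w)
    (hAc : ∀ a ∈ A, ∀ b ∈ A, a * b = b * a)
    (hmax : ∀ B : Subgroup G, B ≤ S → (∀ a ∈ B, ∀ b ∈ B, a * b = b * a) →
      Nat.card B ≤ Nat.card A)
    (hkp : Nat.card A * Nat.card (W ⊓ Subgroup.centralizer (A : Set G) : Subgroup G) ≤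
      Nat.card (A ⊓ Q : Subgroup G) * Nat.card W) (g : G) :
    (A.map (MulAut.conj g).toMonoidHom ⊓ Q) ⊔ W ≤ Q ∧
    (∀ a ∈ (A.map (MulAut.conj g).toMonoidHom ⊓ Q) ⊔ W,
      ∀ b ∈ (A.map (MulAut.conj g).toMonoidHom ⊓ Q) ⊔ W, a * b = b * a) ∧
    Nat.card ((A.map (MulAut.conj g).toMonoidHom ⊓ Q) ⊔ W : Subgroup G) = Nat.card A := by
  have hinj : Function.Injective (MulAut.conj g).toMonoidHom := (MulAut.conj g).injective
  have hle : (A.map (MulAut.conj g).toMonoidHom ⊓ Q) ⊔ W ≤ Q := sup_le inf_le_right hWQ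
  -- the conjugate of `A` is abelian
  have hA'c : ∀ a ∈ A.map (MulAut.conj g).toMonoidHom,
      ∀ b ∈ A.map (MulAut.conj g).toMonoidHom, a * b = b * a := by
    rintro _ ⟨a, ha, rfl⟩ _ ⟨b, hb, rfl⟩
    rw [← map_mul, ← map_mul, hAc a ha b hb]
  have hWc : ∀ a ∈ W, ∀ b ∈ W, a * b = b * a := fun a ha b hb => hWZ a ha b (hWQ hb)
  have hab : ∀ a ∈ (A.map (MulAut.conj g).toMonoidHom ⊓ Q) ⊔ W,
      ∀ b ∈ (A.map (MulAut.conj g).toMonoidHom ⊓ Q) ⊔ W, a * b = b * a := by
    apply comm_of_mem_sup _ _ _ hWc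
    · intro a ha w hw
      exact (hWZ w hw a (Subgroup.mem_inf.mp ha).2).symm
    · intro a ha b hb
      exact hA'c a (Subgroup.mem_inf.mp ha).1 b (Subgroup.mem_inf.mp hb).1
  refine ⟨hle, hab, ?_⟩
  apply le_antisymm
  · exact hmax _ (hle.trans hQS) hab
  · -- the group is the conjugate of `(A ∩ Q) W`
    have hconj : ((A ⊓ Q) ⊔ W).map (MulAut.conj g).toMonoidHom =
        (A.map (MulAut.conj g).toMonoidHom ⊓ Q) ⊔ W := by
      rw [Subgroup.map_sup, Subgroup.map_inf _ _ _ hinj, map_conj_eq_of_normal Q g,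
        map_conj_eq_of_normal W g]
    rw [← hconj, Subgroup.card_map_of_injective hinj]
    have h1 := Cfsg.Agent.Lib.Helper1.card_mul_card_le_card_sup_mul_card_inf (A ⊓ Q) W
    have h2 : (A ⊓ Q) ⊓ W ≤ W ⊓ Subgroup.centralizer (A : Set G) := by
      intro x hx
      have hxA : x ∈ A := (Subgroup.mem_inf.mp (Subgroup.mem_inf.mp hx).1).1
      refine Subgroup.mem_inf.mpr ⟨(Subgroup.mem_inf.mp hx).2, ?_⟩
      rw [Subgroup.mem_centralizer_iff]
      intro y hy
      exact hAc y hy x hxA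
    have h3 := Subgroup.card_le_of_le h2
    have hpos : 0 < Nat.card (W ⊓ Subgroup.centralizer (A : Set G) : Subgroup G) := Nat.card_pos
    have h4 : Nat.card A * Nat.card (W ⊓ Subgroup.centralizer (A : Set G) : Subgroup G) ≤
        Nat.card ((A ⊓ Q) ⊔ W : Subgroup G) *
          Nat.card (W ⊓ Subgroup.centralizer (A : Set G) : Subgroup G) :=
      calc Nat.card A * Nat.card (W ⊓ Subgroup.centralizer (A : Set G) : Subgroup G)
          ≤ Nat.card (A ⊓ Q : Subgroup G) * Nat.card W := hkp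
        _ ≤ Nat.card ((A ⊓ Q) ⊔ W : Subgroup G) * Nat.card ((A ⊓ Q) ⊓ W : Subgroup G) := h1
        _ ≤ Nat.card ((A ⊓ Q) ⊔ W : Subgroup G) *
              Nat.card (W ⊓ Subgroup.centralizer (A : Set G) : Subgroup G) :=
            Nat.mul_le_mul_left _ h3
    exact Nat.le_of_mul_le_mul_right h4 hpos

end Cfsg.Agent.Lib.Helper5.PU2769N
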