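import Mathlib
import Cfsg.Prelude.Def_PLocal
import Cfsg.Agent.Lib.Helper2.BAUFrame
import Cfsg.Agent.Lib.Helper5.PU2769N

set_option autoImplicit false

/-! # S2769 / S2768 farm (owner helper2): the stub `f3`, verbatim -/

namespace Cfsg.Agent.Lib.Helper5.BAU5

open Cfsg.Agent.Lib.Helper2.BAU
open scoped commutatorElement

variable {G : Type*} [Group G] [Finite G]

/-- (F3) -/
theorem f3 (S Q : Subgroup G) (hQW : Q ≤ Subgroup.centralizer (WW S : Set G))
    (hn4 : ∀ A : Subgroup G, IsMaxAb S A → ∀ g : G,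
      IsMaxAb S ((A.map (MulAut.conj g).toMonoidHom ⊓ Q) ⊔ WW S)) :
    (∀ z ∈ ZJ S, ∀ w ∈ WW S, z * w = w * z) ∧
    ∀ z ∈ ZJ S, ∀ A : Subgroup G, IsMaxAb S A → ∀ a ∈ A, ∀ g : G,
      z * (g * a * g⁻¹) * z⁻¹ * (g * a * g⁻¹)⁻¹ ∈ WW S := by
  constructor
  · intro z hz w hw
    obtain ⟨A, hA⟩ := exists_isMaxAb S
    have hB := hn4 A hA 1
    have hzB := ZJ_le_of_isMaxAb hB hz
    have hwB : w ∈ (A.map (MulAut.conj (1 : G)).toMonoidHom ⊓ Q) ⊔ WW S :=
      (le_sup_right : WW S ≤ _) hw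
    exact hB.2.1 z hzB w hwB
  · intro z hz A hA a ha g
    have hB := hn4 A hA g
    have hZB : ZJ S ≤ A.map (MulAut.conj g).toMonoidHom ⊔ WW S :=
      (ZJ_le_of_isMaxAb hB).trans (sup_le_sup_right inf_le_left _)
    have hDc : ∀ x ∈ A.map (MulAut.conj g).toMonoidHom,
        ∀ y ∈ A.map (MulAut.conj g).toMonoidHom, x * y = y * x := by
      rintro _ ⟨x, hx, rfl⟩ _ ⟨y, hy, rfl⟩
      rw [← map_mul, ← map_mul, hA.2.1 x hx y hy]
    haveI : (WW S).Normal := by unfold WW; infer_instance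
    have h := Cfsg.Agent.Lib.Helper5.PU2769N.f3 (ZJ S) (A.map (MulAut.conj g).toMonoidHom)
      (WW S) hDc hZB
    have hmem : g * a * g⁻¹ ∈ A.map (MulAut.conj g).toMonoidHom := ⟨a, ha, rfl⟩
    have := h (Subgroup.commutator_mem_commutator hz hmem)
    rw [commutatorElement_def] at this
    exact this

end Cfsg.Agent.Lib.Helper5.BAU5
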