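import Mathlib

set_option autoImplicit false

namespace Cfsg.Agent.Lib.Helper5.BlockCount

open Matrix

variable {α β : Type*} [Fintype α] [DecidableEq α] [Fintype β] [DecidableEq β]
  {F : Type*} [Field F]

/-- block upper triangular invertible matrices correspond to triples of blocks -/
noncomputable def blockEquiv :
    {g : Matrix.GeneralLinearGroup (α ⊕ β) F // (g : Matrix (α ⊕ β) (α ⊕ β) F).toBlocks₂₁ = 0} ≃
      Matrix.GeneralLinearGroup α F × Matrix.GeneralLinearGroup β F × Matrix α β F where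
  toFun g :=
    have hdet : (g.1 : Matrix (α ⊕ β) (α ⊕ β) F).toBlocks₁₁.det * (g.1 : Matrix (α ⊕ β) (α ⊕ β) F).toBlocks₂₂.det ≠ 0 := by
      have h1 : (g.1 : Matrix (α ⊕ β) (α ⊕ β) F).det ≠ 0 :=
        ((Matrix.isUnit_iff_isUnit_det _).mp (Units.isUnit g.1)).ne_zero
      rw [← fromBlocks_toBlocks (g.1 : Matrix (α ⊕ β) (α ⊕ β) F), g.2, det_fromBlocks_zero₂₁] at h1
      exact h1
    (Matrix.GeneralLinearGroup.mkOfDetNeZero _ (left_ne_zero_of_mul hdet),
      Matrix.GeneralLinearGroup.mkOfDetNeZero _ (right_ne_zero_of_mul hdet),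
      (g.1 : Matrix (α ⊕ β) (α ⊕ β) F).toBlocks₁₂)
  invFun p :=
    ⟨Matrix.GeneralLinearGroup.mkOfDetNeZero
      (fromBlocks (p.1 : Matrix α α F) p.2.2 0 (p.2.1 : Matrix β β F)) (by
        rw [det_fromBlocks_zero₂₁]
        exact mul_ne_zero ((Matrix.isUnit_iff_isUnit_det _).mp (Units.isUnit p.1)).ne_zero
          ((Matrix.isUnit_iff_isUnit_det _).mp (Units.isUnit p.2.1)).ne_zero),
      toBlocks_fromBlocks₂₁ _ _ _ _⟩
  left_inv g := by
    apply Subtype.ext
    apply Units.ext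
    show fromBlocks (g.1 : Matrix (α ⊕ β) (α ⊕ β) F).toBlocks₁₁ (g.1 : Matrix (α ⊕ β) (α ⊕ β) F).toBlocks₁₂ 0
      (g.1 : Matrix (α ⊕ β) (α ⊕ β) F).toBlocks₂₂ = (g.1 : Matrix (α ⊕ β) (α ⊕ β) F)
    conv_rhs => rw [← fromBlocks_toBlocks (g.1 : Matrix (α ⊕ β) (α ⊕ β) F), g.2]
  right_inv p := by
    refine Prod.ext (Units.ext ?_) (Prod.ext (Units.ext ?_) ?_)
    · exact toBlocks_fromBlocks₁₁ _ _ _ _
    · exact toBlocks_fromBlocks₂₂ _ _ _ _
    · exact toBlocks_fromBlocks₁₂ _ _ _ _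

theorem card_blockTriangular [Fintype F] :
    Nat.card {g : Matrix.GeneralLinearGroup (α ⊕ β) F // (g : Matrix (α ⊕ β) (α ⊕ β) F).toBlocks₂₁ = 0} =
      Nat.card (Matrix.GeneralLinearGroup α F) * Nat.card (Matrix.GeneralLinearGroup β F) *
        Fintype.card F ^ (Fintype.card α * Fintype.card β) := by
  rw [Nat.card_congr blockEquiv, Nat.card_prod, Nat.card_prod, mul_assoc]
  congr 2
  show Nat.card (α → β → F) = _
  rw [Nat.card_fun, Nat.card_fun, Nat.card_eq_fintype_card, Nat.card_eq_fintype_card,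
    Nat.card_eq_fintype_card, ← pow_mul, mul_comm]

end Cfsg.Agent.Lib.Helper5.BlockCount
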