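import Mathlib
set_option autoImplicit false
set_option maxRecDepth 100000

/-!
# Facts about `A₆` (checked by kernel evaluation), for S3433 piece N2
-/

namespace Cfsg.Agent.Lib.Helper5.C5

/-- `A₆` as permutations of `Fin 6`. -/
abbrev A6 := alternatingGroup (Fin 6)

namespace A6raw

/-- there is an element of order `4` whose centralizer is the cyclic group it generates -/
theorem ex4cent : ∃ c : A6, c ^ 4 = 1 ∧ c ^ 2 ≠ 1 ∧ ∀ h : A6, c * h = h * c →
    h = 1 ∨ h = c ∨ h = c ^ 2 ∨ h = c ^ 3 := by decide +kernel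

/-- `A₆` has exactly `90` elements of order `4` -/
theorem card4 : Fintype.card {g : A6 // g ^ 4 = 1 ∧ g ^ 2 ≠ 1} = 90 := by decide +kernel

end A6raw

end Cfsg.Agent.Lib.Helper5.C5
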