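import Mathlib
import Cfsg.Agent.Lib.Helper8.C5Defs
import Cfsg.Agent.Lib.Helper8.C5A5
set_option autoImplicit false
set_option linter.unusedVariables false
set_option linter.style.longLine false
open Cfsg.Agent.Lib.Helper8.C5

/-!
# S3433 piece F: a normal `2`-subgroup `Q` of a `C5`-group `H` with `H/Q ≅ A₅` is
elementary abelian.
-/

namespace Cfsg.Agent.Lib.Helper5.C5
universe u

theorem F_commA {H : Type*} [Group H] (y r : H) (h1 : (y * r) ^ 3 = 1)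
    (h2 : (y * r⁻¹) ^ 3 = 1) (h3 : r ^ 3 = 1) : y * (r⁻¹ * y * r) = r⁻¹ * y * r * y := by
  have h1' : y * r * (y * r) * (y * r) = 1 := by rw [← h1, pow_succ, pow_two]
  have h2' : y * r⁻¹ * (y * r⁻¹) * (y * r⁻¹) = 1 := by rw [← h2, pow_succ, pow_two]
  have h3' : r * r * r = 1 := by rw [← h3, pow_succ, pow_two]
  have e1 : y * (r⁻¹ * y * r) =
      (y * r⁻¹ * (y * r⁻¹) * (y * r⁻¹)) * r * y⁻¹ * (r * r * r) * r⁻¹ := by group
  have e2 : r⁻¹ * y * r * y =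
      r * (r * r * r)⁻¹ * y⁻¹ * (y * r * (y * r) * (y * r)) * r⁻¹ := by group
  rw [e1, e2, h1', h2', h3']; group

theorem F_commE {H : Type*} [Group H] (a b c d : H) (hab : a * b = b * a) (hcd : c * d = d * c)
    (h : a * c * (b * d) = b * d * (a * c)) : b⁻¹ * c * b * c⁻¹ = a⁻¹ * d * a * d⁻¹ := by
  have hb : b⁻¹ * a⁻¹ * b = a⁻¹ := by
    have := (Commute.inv_left (show Commute a b from hab)).eq
    rw [mul_assoc, this, inv_mul_cancel_left]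
  have hc : c * d⁻¹ * c⁻¹ = d⁻¹ := by
    have := (Commute.inv_right (show Commute c d from hcd)).eq
    rw [this, mul_inv_cancel_right]
  calc b⁻¹ * c * b * c⁻¹ = b⁻¹ * a⁻¹ * (a * c * (b * d)) * d⁻¹ * c⁻¹ := by group
    _ = b⁻¹ * a⁻¹ * (b * d * (a * c)) * d⁻¹ * c⁻¹ := by rw [h]
    _ = (b⁻¹ * a⁻¹ * b) * d * a * (c * d⁻¹ * c⁻¹) := by group
    _ = a⁻¹ * d * a * d⁻¹ := by rw [hb, hc]

section
variable {H : Type*} [Group H] [Finite H]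

theorem F_lift3 (h5 : C5 H) (Q : Subgroup H) (hQ : IsPGroup 2 ↥Q)
    (f : H →* A5) (r : H) (hr1 : f r ≠ 1) (hr3 : (f r) ^ 3 = 1) :
    r ^ 3 = 1 ∧ ∀ q ∈ Q, r * q = q * r → q = 1 := by
  haveI : Fact (Nat.Prime 3) := ⟨by norm_num⟩
  have hord : orderOf (f r) = 3 := orderOf_eq_prime hr3 hr1
  have hdvd : 3 ∣ orderOf r := by rw [← hord]; exact orderOf_map_dvd f r
  have h3 : orderOf r = 3 := by
    rcases h5.cases r with h | h | h | h | h <;> rw [h] at hdvd <;> omega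
  refine ⟨by rw [← h3]; exact pow_orderOf_eq_one r, ?_⟩
  intro q hq hc
  by_contra hq1
  obtain ⟨k, hk⟩ := (IsPGroup.iff_orderOf.mp hQ) ⟨q, hq⟩
  have hk' : orderOf q = 2 ^ k := by rw [← hk, Subgroup.orderOf_mk]
  have hk1 : k ≠ 0 := by
    rintro rfl
    rw [pow_zero, orderOf_eq_one_iff] at hk'
    exact hq1 hk'
  have h2le : 2 ≤ orderOf q := by
    rw [hk']
    calc 2 = 2 ^ 1 := by norm_num
      _ ≤ 2 ^ k := Nat.pow_le_pow_right (by norm_num) (Nat.one_le_iff_ne_zero.mpr hk1)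
  refine h5.false_of_commute hc ?_ (by omega) h2le
  rw [h3, hk']
  exact Nat.Coprime.pow_right k (by norm_num)

theorem F_main (h5 : C5 H) (Q : Subgroup H) [hQn : Q.Normal] (hQ : IsPGroup 2 ↥Q)
    (f : H →* A5) (hsurj : Function.Surjective f) (hker : ∀ h, f h = 1 ↔ h ∈ Q) :
    (∀ a ∈ Q, ∀ b ∈ Q, a * b = b * a) ∧ ∀ a ∈ Q, a ^ 2 = 1 := by
  have hfQ : ∀ y ∈ Q, f y = 1 := fun y hy => (hker y).mpr hy
  have L3 : ∀ r : H, f r ≠ 1 → (f r) ^ 3 = 1 → r ^ 3 = 1 ∧ ∀ q ∈ Q, r * q = q * r → q = 1 :=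
    fun r h1 h3 => F_lift3 h5 Q hQ f r h1 h3
  have conjQ : ∀ (g : H) (x : H), x ∈ Q → g * x * g⁻¹ ∈ Q := fun g x hx => hQn.conj_mem x hx g
  -- Lemma A: y commutes with r⁻¹ y r
  have hA : ∀ r : H, f r ≠ 1 → (f r) ^ 3 = 1 → ∀ y ∈ Q,
      y * (r⁻¹ * y * r) = r⁻¹ * y * r * y := by
    intro r h1 h3 y hy
    have e1 : f (y * r) = f r := by rw [map_mul, hfQ y hy, one_mul]
    have e2 : f (y * r⁻¹) = (f r)⁻¹ := by rw [map_mul, hfQ y hy, one_mul, map_inv]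
    apply F_commA y r
    · exact (L3 (y * r) (by rw [e1]; exact h1) (by rw [e1]; exact h3)).1
    · exact (L3 (y * r⁻¹) (by rw [e2]; exact inv_ne_one.mpr h1)
        (by rw [e2, inv_pow, h3, inv_one])).1
    · exact (L3 r h1 h3).1
  have hA' : ∀ r : H, f r ≠ 1 → (f r) ^ 3 = 1 → ∀ y ∈ Q,
      y * (r * y * r⁻¹) = r * y * r⁻¹ * y := by
    intro r h1 h3 y hy
    have := hA r⁻¹ (by rw [map_inv]; exact inv_ne_one.mpr h1)
      (by rw [map_inv, inv_pow, h3, inv_one]) y hy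
    rwa [inv_inv] at this
  -- Lemma E
  have hE : ∀ r : H, f r ≠ 1 → (f r) ^ 3 = 1 → ∀ x ∈ Q, ∀ y ∈ Q,
      (r * x * r⁻¹) * y * (r * x * r⁻¹)⁻¹ * y⁻¹ =
        x * (r * y * r⁻¹) * x⁻¹ * (r * y * r⁻¹)⁻¹ := by
    intro r h1 h3 x hx y hy
    have hx' : x⁻¹ ∈ Q := Q.inv_mem hx
    have key := F_commE x⁻¹ (r * x⁻¹ * r⁻¹) y (r * y * r⁻¹) (hA' r h1 h3 x⁻¹ hx')
      (hA' r h1 h3 y hy)
      (by
        have h := hA' r h1 h3 (x⁻¹ * y) (Q.mul_mem hx' hy)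
        have e : r * x⁻¹ * r⁻¹ * (r * y * r⁻¹) = r * (x⁻¹ * y) * r⁻¹ := by group
        rw [e]; exact h)
    have e1 : r * x⁻¹ * r⁻¹ = (r * x * r⁻¹)⁻¹ := by group
    rw [e1] at key
    simp only [inv_inv] at key
    exact key
  -- Lemma G
  have hG : ∀ r : H, f r ≠ 1 → (f r) ^ 3 = 1 → ∀ x ∈ Q, ∀ y ∈ Q,
      (r * x * r⁻¹) * y * (r * x * r⁻¹)⁻¹ * y⁻¹ = r⁻¹ * (x * y * x⁻¹ * y⁻¹) * r := by
    intro r h1 h3 x hx y hy
    have hr3 := (L3 r h1 h3).1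
    have hx1 : r * x * r⁻¹ ∈ Q := conjQ r x hx
    have hx2 : r * (r * x * r⁻¹) * r⁻¹ ∈ Q := conjQ r _ hx1
    have E2 := hE r h1 h3 (r * (r * x * r⁻¹) * r⁻¹) hx2 y hy
    have key : r * (r * (r * x * r⁻¹) * r⁻¹) * r⁻¹ = x := by
      have hr3' : r * r * r = 1 := by rw [← hr3, pow_succ, pow_two]
      have : r * (r * (r * x * r⁻¹) * r⁻¹) * r⁻¹ = (r * r * r) * x * (r * r * r)⁻¹ := by group
      rw [this, hr3']; group
    have e3 : (r * (r * x * r⁻¹) * r⁻¹) * (r * y * r⁻¹) * (r * (r * x * r⁻¹) * r⁻¹)⁻¹ *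
        (r * y * r⁻¹)⁻¹ = r * ((r * x * r⁻¹) * y * (r * x * r⁻¹)⁻¹ * y⁻¹) * r⁻¹ := by group
    rw [key, e3] at E2
    rw [E2]; group
  -- non-commuting 3-elements
  obtain ⟨s1, s2, hs1, hs13, hs2, hs23, hs123, hnc⟩ := A5raw.three
  obtain ⟨r1, rfl⟩ := hsurj s1
  obtain ⟨r2, rfl⟩ := hsurj s2
  have h12 : f (r1 * r2) ≠ 1 := by
    rw [map_mul]; intro h
    apply hnc
    have : f r2 = (f r1)⁻¹ := eq_inv_of_mul_eq_one_right h
    rw [this]; simp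
  have h123 : (f (r1 * r2)) ^ 3 = 1 := by rw [map_mul]; exact hs123
  let S : Set H := {c | ∃ x ∈ Q, ∃ y ∈ Q, c = x * y * x⁻¹ * y⁻¹}
  have hSconj : ∀ g : H, ∀ c ∈ S, g * c * g⁻¹ ∈ S := by
    rintro g c ⟨x, hx, y, hy, rfl⟩
    exact ⟨g * x * g⁻¹, conjQ g x hx, g * y * g⁻¹, conjQ g y hy, by group⟩
  have hCn : (Subgroup.centralizer S).Normal := by
    constructor
    intro k hk g
    rw [Subgroup.mem_centralizer_iff] at hk ⊢
    intro c hc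
    have := hk (g⁻¹ * c * g⁻¹⁻¹) (hSconj g⁻¹ c hc)
    calc c * (g * k * g⁻¹) = g * (g⁻¹ * c * g⁻¹⁻¹ * k) * g⁻¹ := by group
      _ = g * (k * (g⁻¹ * c * g⁻¹⁻¹)) * g⁻¹ := by rw [this]
      _ = g * k * g⁻¹ * c := by group
  have hg : r1 * r2 * (r2 * r1)⁻¹ ∈ Subgroup.centralizer S := by
    rw [Subgroup.mem_centralizer_iff]
    rintro c ⟨x, hx, y, hy, rfl⟩
    have G12 := hG (r1 * r2) h12 h123 x hx y hy
    have G2 := hG r2 hs2 hs23 x hx y hy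
    have G1 := hG r1 hs1 hs13 (r2 * x * r2⁻¹) (conjQ r2 x hx) y hy
    have e : r1 * r2 * x * (r1 * r2)⁻¹ = r1 * (r2 * x * r2⁻¹) * r1⁻¹ := by group
    rw [e, G1, G2] at G12
    generalize x * y * x⁻¹ * y⁻¹ = c at G12 ⊢
    calc c * (r1 * r2 * (r2 * r1)⁻¹)
        = (r1 * r2) * ((r1 * r2)⁻¹ * c * (r1 * r2)) * (r2 * r1)⁻¹ := by group
      _ = (r1 * r2) * (r1⁻¹ * (r2⁻¹ * c * r2) * r1) * (r2 * r1)⁻¹ := by rw [← G12]
      _ = r1 * r2 * (r2 * r1)⁻¹ * c := by group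
  haveI : IsSimpleGroup A5 := alternatingGroup.isSimpleGroup_five
  have hN : (Subgroup.map f (Subgroup.centralizer S)).Normal := Subgroup.Normal.map hCn f hsurj
  have hNtop : Subgroup.map f (Subgroup.centralizer S) = ⊤ := by
    refine (hN.eq_bot_or_eq_top).resolve_left ?_
    intro hbot
    have hm : f (r1 * r2 * (r2 * r1)⁻¹) ∈ Subgroup.map f (Subgroup.centralizer S) :=
      Subgroup.mem_map_of_mem f hg
    rw [hbot, Subgroup.mem_bot] at hm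
    apply hnc
    rw [map_mul, map_inv, map_mul, map_mul] at hm
    exact mul_inv_eq_one.mp hm
  have hr1N : f r1 ∈ Subgroup.map f (Subgroup.centralizer S) := by
    rw [hNtop]; exact Subgroup.mem_top _
  obtain ⟨k, hk, hkf⟩ := Subgroup.mem_map.mp hr1N
  have hk1 : f k ≠ 1 := by rw [hkf]; exact hs1
  have hk3 : (f k) ^ 3 = 1 := by rw [hkf]; exact hs13
  have hab : ∀ a ∈ Q, ∀ b ∈ Q, a * b = b * a := by
    intro a ha b hb
    have hc : a * b * a⁻¹ * b⁻¹ ∈ Q :=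
      Q.mul_mem (Q.mul_mem (Q.mul_mem ha hb) (Q.inv_mem ha)) (Q.inv_mem hb)
    have hcomm := (Subgroup.mem_centralizer_iff.mp hk) (a * b * a⁻¹ * b⁻¹) ⟨a, ha, b, hb, rfl⟩
    have h1 := (L3 k hk1 hk3).2 _ hc hcomm.symm
    calc a * b = (a * b * a⁻¹ * b⁻¹) * b * a := by group
      _ = b * a := by rw [h1, one_mul]
  refine ⟨hab, ?_⟩
  obtain ⟨t, ht2, htx⟩ := A5raw.inv3 (f r1) hs1 hs13
  obtain ⟨a, ha⟩ := hsurj t
  obtain ⟨b, hb⟩ := hsurj (t * f r1)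
  have hfa2 : f (a ^ 2) = 1 := by rw [map_pow, ha, ht2]
  have htinv : t⁻¹ = t := by
    rw [inv_eq_iff_mul_eq_one, ← pow_two]; exact ht2
  have hfb2 : f (b ^ 2) = 1 := by
    rw [map_pow, hb, pow_two]
    calc t * f r1 * (t * f r1) = (t * f r1 * t⁻¹) * f r1 := by rw [htinv]; group
      _ = 1 := by rw [htx]; group
  have hfab : f (a * b) = f r1 := by
    rw [map_mul, ha, hb, ← mul_assoc, ← pow_two, ht2, one_mul]
  have hinv : ∀ a' : H, f (a' ^ 2) = 1 → ∀ q ∈ Q, a' * q ^ 2 * a'⁻¹ = (q ^ 2)⁻¹ := by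
    intro a' ha' q hq
    have h4 : ∀ q ∈ Q, (q * a') ^ 4 = 1 := by
      intro q hq
      have hmem : (q * a') ^ 2 ∈ Q := by
        rw [← hker, map_pow, map_mul, hfQ q hq, one_mul, ← map_pow]; exact ha'
      obtain ⟨k, hk⟩ := (IsPGroup.iff_orderOf.mp hQ) ⟨(q * a') ^ 2, hmem⟩
      rw [Subgroup.orderOf_mk] at hk
      apply h5.pow_four_of_two_pow (q * a') (k + 1)
      rw [pow_succ', pow_mul, ← hk]; exact pow_orderOf_eq_one _
    have ha4 : a' ^ 4 = 1 := by simpa using h4 1 Q.one_mem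
    have ha2Q : a' ^ 2 ∈ Q := (hker _).mp ha'
    have hqa : a' * q * a'⁻¹ ∈ Q := conjQ a' q hq
    have e2 : (q * a') ^ 2 = q * (a' * q * a'⁻¹) * a' ^ 2 := by
      rw [pow_two, pow_two]; group
    have e4 : (q * a') ^ 4 = ((q * a') ^ 2) ^ 2 := by rw [← pow_mul]
    have h := h4 q hq
    rw [e4, e2] at h
    have c1 : Commute q (a' * q * a'⁻¹) := hab q hq (a' * q * a'⁻¹) hqa
    have c2 : Commute q (a' ^ 2) := hab q hq (a' ^ 2) ha2Q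
    have c3 : Commute (a' * q * a'⁻¹) (a' ^ 2) := hab (a' * q * a'⁻¹) hqa (a' ^ 2) ha2Q
    have c23 : Commute (q * (a' * q * a'⁻¹)) (a' ^ 2) := Commute.mul_left c2 c3
    rw [c23.mul_pow, c1.mul_pow, conj_pow, ← pow_mul, ha4, mul_one] at h
    exact eq_inv_of_mul_eq_one_right h
  intro q hq
  have hA1 := hinv a hfa2 q hq
  have hB1 := hinv b hfb2 q hq
  have h3l := L3 (a * b) (by rw [hfab]; exact hs1) (by rw [hfab]; exact hs13)
  apply h3l.2 (q ^ 2) (Q.pow_mem hq 2)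
  have hconj : a * b * q ^ 2 * (a * b)⁻¹ = q ^ 2 := by
    calc a * b * q ^ 2 * (a * b)⁻¹ = a * (b * q ^ 2 * b⁻¹) * a⁻¹ := by group
      _ = a * (q ^ 2)⁻¹ * a⁻¹ := by rw [hB1]
      _ = (a * q ^ 2 * a⁻¹)⁻¹ := by group
      _ = q ^ 2 := by rw [hA1, inv_inv]
  calc a * b * q ^ 2 = (a * b * q ^ 2 * (a * b)⁻¹) * (a * b) := by group
    _ = q ^ 2 * (a * b) := by rw [hconj]

end

theorem ea_of_quot_A5 {H : Type*} [Group H] [Finite H] (h5 : C5 H) (Q : Subgroup H) [Q.Normal]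
    (hQ : IsPGroup 2 ↥Q) (e : H ⧸ Q ≃* A5) :
    (∀ a ∈ Q, ∀ b ∈ Q, a * b = b * a) ∧ ∀ a ∈ Q, a ^ 2 = 1 := by
  refine F_main h5 Q hQ (e.toMonoidHom.comp (QuotientGroup.mk' Q))
    (e.surjective.comp (QuotientGroup.mk'_surjective Q)) ?_
  intro h
  simp [QuotientGroup.eq_one_iff]

end Cfsg.Agent.Lib.Helper5.C5
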