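import Mathlib
import Cfsg.Agent.Lib.Helper8.C5Defs
import Cfsg.Agent.Lib.Helper8.C5A5
import Cfsg.Agent.Lib.Helper5.DicksonSolv
import Cfsg.Agent.S2475
set_option autoImplicit false
set_option linter.unusedVariables false
set_option linter.style.longLine false
open Cfsg.Agent.Lib.Helper8.C5

/-!
# S3433 piece K1: a nonsolvable `C5`-group isomorphic to `PSL₂(F)` has order `60` or `360`.
-/

namespace Cfsg.Agent.Lib.Helper5.C5
universe u
variable {G : Type u} [Group G] [Finite G]

theorem card_of_psl2 (h5 : C5 G) (hns : ¬ IsSolvable G) (F : Type) [Field F] [Fintype F]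
    (e : G ≃* Matrix.ProjectiveSpecialLinearGroup (Fin 2) F) :
    Nat.card G = 60 ∨ Nat.card G = 360 := by
  classical
  have hcardG : Nat.card G = Nat.card (Matrix.ProjectiveSpecialLinearGroup (Fin 2) F) :=
    Nat.card_congr e.toEquiv
  have hmul := Cfsg.Agent.Lib.Helper5.DicksonOrders.card_PSL2_mul (F := F)
  rw [← hcardG] at hmul
  have hq2 : 2 ≤ Fintype.card F := Fintype.one_lt_card
  have hP5 : C5 (Matrix.ProjectiveSpecialLinearGroup (Fin 2) F) := h5.of_mulEquiv e
  obtain ⟨p, hpc⟩ := CharP.exists F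
  haveI := hpc
  haveI : Fact p.Prime := ⟨CharP.char_is_prime F p⟩
  by_cases h4 : 4 ≤ Fintype.card F
  · have hspec := Cfsg.Agent.S2475.result (F := F) p h4
    have hm : (Fintype.card F + 1) / Nat.gcd 2 (Fintype.card F - 1) ≤ 5 := by
      have hmem : (Fintype.card F + 1) / Nat.gcd 2 (Fintype.card F - 1) ∈
          Set.range (orderOf : Matrix.ProjectiveSpecialLinearGroup (Fin 2) F → ℕ) := by
        rw [hspec]; exact Or.inr (Or.inr (dvd_refl _))
      obtain ⟨g, hg⟩ := hmem
      rw [← hg]; exact (hP5 g).2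
    generalize Fintype.card F = q at *
    have hd : Nat.gcd 2 (q - 1) = 1 ∨ Nat.gcd 2 (q - 1) = 2 :=
      (Nat.dvd_prime Nat.prime_two).mp (Nat.gcd_dvd_left 2 (q - 1))
    have hq10 : q ≤ 10 := by
      rcases hd with hd | hd
      · rw [hd, Nat.div_one] at hm; omega
      · rw [hd] at hm; omega
    have hcases : q = 4 ∨ q = 5 ∨ q = 6 ∨ q = 7 ∨ q = 8 ∨ q = 9 ∨ q = 10 := by omega
    rcases hcases with h | h | h | h | h | h | h <;> subst h
    · have : Nat.gcd 2 (4 - 1) = 1 := by decide
      rw [this] at hmul; left; omega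
    · have : Nat.gcd 2 (5 - 1) = 2 := by decide
      rw [this] at hmul; left; omega
    · have : Nat.gcd 2 (6 - 1) = 1 := by decide
      rw [this] at hm; omega
    · have : Nat.gcd 2 (7 - 1) = 2 := by decide
      rw [this] at hmul
      have h168 : Nat.card G = 168 := by omega
      haveI : Fact (Nat.Prime 7) := ⟨by norm_num⟩
      obtain ⟨x, hx⟩ := exists_prime_orderOf_dvd_card' (G := G) 7 (by rw [h168]; norm_num)
      have := (h5 x).2
      omega
    · have : Nat.gcd 2 (8 - 1) = 1 := by decide
      rw [this] at hm; omega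
    · have : Nat.gcd 2 (9 - 1) = 2 := by decide
      rw [this] at hmul; right; omega
    · have : Nat.gcd 2 (10 - 1) = 1 := by decide
      rw [this] at hm; omega
  · exfalso
    apply hns
    generalize Fintype.card F = q at *
    have hcases : q = 2 ∨ q = 3 := by omega
    rcases hcases with h | h <;> subst h
    · have : Nat.gcd 2 (2 - 1) = 1 := by decide
      rw [this] at hmul
      exact Cfsg.Agent.Lib.Helper5.DicksonSolv.isSolvable_of_card_6 (by omega)
    · have : Nat.gcd 2 (3 - 1) = 2 := by decide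
      rw [this] at hmul
      exact Cfsg.Agent.Lib.Helper5.DicksonSolv.isSolvable_of_card_12 (by omega)

end Cfsg.Agent.Lib.Helper5.C5
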