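import Mathlib
import Cfsg.Agent.Lib.Helper8.C5Defs
import Cfsg.Agent.Lib.Helper8.C5A5
import Cfsg.Agent.Lib.Helper8.CQN2
set_option autoImplicit false
set_option linter.unusedVariables false
set_option linter.style.longLine false
open Cfsg.Agent.Lib.Helper8.C5

/-!
# S3433 piece M2: a `C5`-group has no quotient `A₆` over a nontrivial `2`-group.
-/

namespace Cfsg.Agent.Lib.Helper5.C5
universe u
variable {G : Type u} [Group G] [Finite G]

theorem card_A6 : Nat.card ↥(alternatingGroup (Fin 6)) = 360 := by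
  rw [Nat.card_eq_fintype_card]
  have h := two_mul_card_alternatingGroup (α := Fin 6)
  have h6 : Fintype.card (Equiv.Perm (Fin 6)) = 720 := by
    rw [Fintype.card_perm, Fintype.card_fin]; rfl
  rw [h6] at h
  omega

theorem no_A6_quot (h5 : C5 G) (N : Subgroup G) [N.Normal] (hN1 : N ≠ ⊥)
    (hN2 : IsPGroup 2 ↥N) (hNab : ∀ a ∈ N, ∀ b ∈ N, a * b = b * a)
    (e : G ⧸ N ≃* ↥(alternatingGroup (Fin 6))) : False := by
  haveI : Fact (Nat.Prime 3) := ⟨by norm_num⟩
  have hcardQ : Nat.card (G ⧸ N) = 360 := by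
    rw [Nat.card_congr e.toEquiv]; exact card_A6
  have h9 : 3 ^ 2 ∣ Nat.card G := by
    rw [Subgroup.card_eq_card_quotient_mul_card_subgroup N, hcardQ]
    exact Dvd.dvd.mul_right (by norm_num) _
  have P : Sylow 3 G := default
  have hP9 : 3 ^ 2 ∣ Nat.card ↥(P : Subgroup G) := P.pow_dvd_card_of_pow_dvd_card h9
  have hle := Cfsg.Agent.Lib.Helper8.CQ.card_le_of_normalizes h5.ccp 3 2 (by norm_num)
    (by norm_num) Nat.prime_two (by norm_num) (P : Subgroup G) N P.isPGroup' hN2 hN1
    (fun y _ q hq => (inferInstance : N.Normal).conj_mem q hq y)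
  have := Nat.le_of_dvd Nat.card_pos hP9
  omega

end Cfsg.Agent.Lib.Helper5.C5
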