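import Mathlib
import Cfsg.Agent.Lib.Helper8.C5Defs
import Cfsg.Agent.Lib.Helper8.C5A5
import Cfsg.Agent.Lib.Helper6.C5B
import Cfsg.Agent.Lib.Helper7.TIV5
import Cfsg.Agent.Lib.Helper5.C5M2
import Cfsg.Agent.Lib.Helper5.C5A6raw
import Cfsg.Agent.S0497
set_option autoImplicit false
set_option linter.unusedVariables false
set_option linter.style.longLine false
open Cfsg.Agent.Lib.Helper8.C5

/-!
# S3433 piece N2: a `C5`-group has no normal simple subgroup of order `60` or `360` of index `2`.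
-/

namespace Cfsg.Agent.Lib.Helper5.C5
universe u
variable {G : Type u} [Group G] [Finite G]

omit [Finite G] in
/-- elements outside an index-2 subgroup have order 2 or 4 in a C5 group -/
theorem N2_order_outside (h5 : C5 G) (N : Subgroup G) (hidx : N.index = 2) (g : G)
    (hg : g ∉ N) : orderOf g = 2 ∨ orderOf g = 4 := by
  have hsq : g ^ 2 ∈ N := Subgroup.sq_mem_of_index_two hidx g
  rcases h5.cases g with h | h | h | h | h
  · exfalso; apply hg; rw [orderOf_eq_one_iff] at h; rw [h]; exact N.one_mem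
  · exact Or.inl h
  · exfalso; apply hg
    have h3 : g ^ 3 = 1 := by rw [← h]; exact pow_orderOf_eq_one g
    have : g = (g ^ 2) ^ 2 := by
      rw [← pow_mul]
      calc g = g ^ 3 * g := by rw [h3, one_mul]
        _ = g ^ (2 * 2) := (pow_succ g 3).symm
    rw [this]; exact N.pow_mem hsq 2
  · exact Or.inr h
  · exfalso; apply hg
    have h5' : g ^ 5 = 1 := by rw [← h]; exact pow_orderOf_eq_one g
    have : g = (g ^ 2) ^ 3 := by
      rw [← pow_mul]
      calc g = g ^ 5 * g := by rw [h5', one_mul]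
        _ = g ^ (2 * 3) := (pow_succ g 5).symm
    rw [this]; exact N.pow_mem hsq 3

theorem N2_of_invol (h5 : C5 G) (N : Subgroup G) [hNn : N.Normal] (hNs : IsSimpleGroup ↥N)
    (hNns : ¬ IsSolvable ↥N) (h2 : 2 ∣ Nat.card ↥N) (h3 : 3 ∣ Nat.card ↥N)
    (hidx : N.index = 2) (w : G) (hw : orderOf w = 2) (hwN : w ∉ N) : False := by
  haveI : Fact (Nat.Prime 2) := ⟨Nat.prime_two⟩
  haveI : Fact (Nat.Prime 3) := ⟨by norm_num⟩
  obtain ⟨u0, hu0⟩ := exists_prime_orderOf_dvd_card' (G := ↥N) 2 h2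
  obtain ⟨x0, hx0⟩ := exists_prime_orderOf_dvd_card' (G := ↥N) 3 h3
  have hu : orderOf (u0 : G) = 2 := by rw [Subgroup.orderOf_coe]; exact hu0
  have hx : orderOf (x0 : G) = 3 := by rw [Subgroup.orderOf_coe]; exact hx0
  have hO2 : ∀ R : Subgroup G, R.Normal → IsPGroup 2 ↥R → R = ⊥ := by
    intro R hRn hR2
    have hRN : R ⊓ N = ⊥ := by
      haveI : (R ⊓ N).Normal := inferInstance
      haveI hsn : ((R ⊓ N).subgroupOf N).Normal := Subgroup.Normal.subgroupOf inferInstance N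
      rcases hsn.eq_bot_or_eq_top with hb | ht
      · rw [Subgroup.subgroupOf_eq_bot] at hb
        have := hb.eq_bot
        rwa [inf_assoc, inf_idem] at this
      · exfalso
        rw [Subgroup.subgroupOf_eq_top] at ht
        have hNR : N ≤ R := le_trans ht inf_le_left
        have hN2 : IsPGroup 2 ↥N := hR2.to_le hNR
        apply hNns
        haveI := hN2.isNilpotent
        exact (inferInstance : Group.IsSolvable ↥N)
    by_contra hRne
    obtain ⟨⟨r, hrR⟩, hr1'⟩ := (Subgroup.ne_bot_iff_exists_ne_one.mp hRne)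
    have hr1 : r ≠ 1 := fun h => hr1' (Subtype.ext h)
    have hcomm : r * (x0 : G) * r⁻¹ * (x0 : G)⁻¹ = 1 := by
      have hmemR : r * (x0 : G) * r⁻¹ * (x0 : G)⁻¹ ∈ R := by
        have h1 : (x0 : G) * r⁻¹ * (x0 : G)⁻¹ ∈ R := hRn.conj_mem r⁻¹ (R.inv_mem hrR) x0
        have h2 := R.mul_mem hrR h1
        have e : r * ((x0 : G) * r⁻¹ * (x0 : G)⁻¹) = r * (x0 : G) * r⁻¹ * (x0 : G)⁻¹ := by group
        rwa [e] at h2
      have hmemN : r * (x0 : G) * r⁻¹ * (x0 : G)⁻¹ ∈ N :=
        N.mul_mem (hNn.conj_mem x0 x0.2 r) (N.inv_mem x0.2)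
      have hm : r * (x0 : G) * r⁻¹ * (x0 : G)⁻¹ ∈ R ⊓ N := ⟨hmemR, hmemN⟩
      rw [hRN] at hm; exact Subgroup.mem_bot.mp hm
    have hrx : r * (x0 : G) = (x0 : G) * r := by
      calc r * (x0 : G) = (r * (x0 : G) * r⁻¹ * (x0 : G)⁻¹) * (x0 : G) * r := by group
        _ = (x0 : G) * r := by rw [hcomm, one_mul]
    obtain ⟨k, hk⟩ := (IsPGroup.iff_orderOf.mp hR2) ⟨r, hrR⟩
    rw [Subgroup.orderOf_mk] at hk
    have hk1 : k ≠ 0 := by
      rintro rfl
      rw [pow_zero, orderOf_eq_one_iff] at hk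
      exact hr1 hk
    have h2le : 2 ≤ orderOf r := by
      rw [hk]
      calc 2 = 2 ^ 1 := by norm_num
        _ ≤ 2 ^ k := Nat.pow_le_pow_right (by norm_num) (Nat.one_le_iff_ne_zero.mpr hk1)
    refine h5.false_of_commute hrx ?_ h2le (by omega)
    rw [hk, hx]
    exact Nat.Coprime.pow_left k (by norm_num)
  have hconj := Cfsg.Agent.Lib.Helper6.C5.one_class (fun t ht => h5.cit t ht) hO2 (u0 : G) w hu hw
  obtain ⟨c, hc⟩ := isConj_iff.mp hconj
  apply hwN
  rw [← hc]
  exact hNn.conj_mem _ u0.2 c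

theorem N2_exists_invol_of_sylow3 (h5 : C5 G) (N : Subgroup G) [hNn : N.Normal]
    (hidx : N.index = 2) (hcard : Nat.card ↥N = 60) : ∃ w : G, orderOf w = 2 ∧ w ∉ N := by
  classical
  haveI : Fact (Nat.Prime 3) := ⟨by norm_num⟩
  have P : Sylow 3 ↥N := default
  have hfr := Sylow.normalizer_sup_eq_top P
  have hP3 : Nat.card ↥(P : Subgroup ↥N) = 3 := by
    obtain ⟨k, hk⟩ := IsPGroup.iff_card.mp P.isPGroup'
    have hdvd : Nat.card ↥(P : Subgroup ↥N) ∣ 60 := hcard ▸ Subgroup.card_subgroup_dvd_card _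
    have h3 : 3 ^ 1 ∣ Nat.card ↥(P : Subgroup ↥N) :=
      P.pow_dvd_card_of_pow_dvd_card (by rw [hcard]; norm_num)
    rw [hk] at hdvd h3 ⊢
    have hk1 : k = 1 := by
      rcases k with _ | _ | k
      · norm_num at h3
      · rfl
      · exfalso
        have : 9 ∣ 60 := dvd_trans ⟨3 ^ k, by ring⟩ hdvd
        omega
    rw [hk1]; norm_num
  set P' : Subgroup G := (P : Subgroup ↥N).map N.subtype with hP'
  have hP'3 : Nat.card ↥P' = 3 := by
    rw [hP', Subgroup.card_map_of_injective N.subtype_injective]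
    exact hP3
  have hex : ∃ g ∈ Subgroup.normalizer (P' : Set G), g ∉ N := by
    by_contra hno
    push Not at hno
    have hle : Subgroup.normalizer (P' : Set G) ≤ N := hno
    have h1 : (⊤ : Subgroup G) ≤ N := by rw [← hfr]; exact sup_le hle le_rfl
    have h2 : N = ⊤ := top_le_iff.mp h1
    rw [h2, Subgroup.index_top] at hidx; omega
  obtain ⟨g, hgn, hgN⟩ := hex
  obtain ⟨x, hxP, hx3⟩ : ∃ x ∈ P', orderOf x = 3 := by
    obtain ⟨y, hy⟩ := exists_prime_orderOf_dvd_card' (G := ↥P') 3 (by rw [hP'3])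
    exact ⟨y, y.2, by rw [Subgroup.orderOf_coe]; exact hy⟩
  have hzp : Subgroup.zpowers x = P' := by
    apply Subgroup.eq_of_le_of_card_ge (Subgroup.zpowers_le.mpr hxP)
    rw [Nat.card_zpowers, hx3, hP'3]
  have hgx : g * x * g⁻¹ ∈ Subgroup.zpowers x := by
    rw [hzp]; exact (Subgroup.mem_normalizer_iff.mp hgn x).mp hxP
  rw [mem_zpowers_iff_mem_range_orderOf, hx3] at hgx
  simp only [Finset.mem_image, Finset.mem_range] at hgx
  obtain ⟨k, hk3, hk⟩ := hgx
  have hgord := N2_order_outside h5 N hidx g hgN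
  have hx1 : x ≠ 1 := by intro h; rw [h, orderOf_one] at hx3; omega
  have hx3' : x ^ 3 = 1 := by rw [← hx3]; exact pow_orderOf_eq_one x
  interval_cases k
  · exfalso; apply hx1
    simp only [pow_zero] at hk
    have e : x = g⁻¹ * (g * x * g⁻¹) * g := by group
    rw [e, ← hk]; group
  · exfalso
    simp only [pow_one] at hk
    have hc : g * x = x * g := by
      calc g * x = (g * x * g⁻¹) * g := by group
        _ = x * g := by rw [← hk]
    refine h5.false_of_commute hc ?_ (by rcases hgord with h | h <;> omega) (by omega)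
    rw [hx3]; rcases hgord with h | h <;> rw [h] <;> norm_num
  · have hc2 : g ^ 2 * x = x * g ^ 2 := by
      have e1 : g ^ 2 * x * (g ^ 2)⁻¹ = x := by
        calc g ^ 2 * x * (g ^ 2)⁻¹ = g * (g * x * g⁻¹) * g⁻¹ := by rw [pow_two]; group
          _ = g * x ^ 2 * g⁻¹ := by rw [← hk]
          _ = (g * x * g⁻¹) ^ 2 := by rw [conj_pow]
          _ = (x ^ 2) ^ 2 := by rw [← hk]
          _ = x ^ 3 * x := by rw [← pow_mul]; exact pow_succ x 3
          _ = x := by rw [hx3', one_mul]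
      calc g ^ 2 * x = (g ^ 2 * x * (g ^ 2)⁻¹) * g ^ 2 := by group
        _ = x * g ^ 2 := by rw [e1]
    rcases hgord with h | h
    · exact ⟨g, h, hgN⟩
    · exfalso
      have h2 : orderOf (g ^ 2) = 2 := by
        rw [orderOf_pow' g (by norm_num : 2 ≠ 0), h]; norm_num
      refine h5.false_of_commute hc2 ?_ (by omega) (by omega)
      rw [h2, hx3]; norm_num

theorem N2_exists_invol_of_A6 (h5 : C5 G) (N : Subgroup G) [hNn : N.Normal]
    (hidx : N.index = 2) (e : ↥N ≃* A6) : ∃ w : G, orderOf w = 2 ∧ w ∉ N := by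
  classical
  haveI : Fact (Nat.Prime 2) := ⟨Nat.prime_two⟩
  obtain ⟨c, hc4, hc2, hcent4⟩ := A6raw.ex4cent
  set c0 : G := ((e.symm c : ↥N) : G) with hc0
  have hc0N : c0 ∈ N := (e.symm c).2
  have hc0e : e ⟨c0, hc0N⟩ = c := by
    have : (⟨c0, hc0N⟩ : ↥N) = e.symm c := Subtype.ext rfl
    rw [this, MulEquiv.apply_symm_apply]
  have hc04 : c0 ^ 4 = 1 := by
    rw [hc0, ← Subgroup.coe_pow, ← map_pow, hc4, map_one, Subgroup.coe_one]
  have hc02 : c0 ^ 2 ≠ 1 := by
    rw [hc0, ← Subgroup.coe_pow, ← map_pow]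
    intro h
    have h' : e.symm (c ^ 2) = 1 := Subtype.ext h
    rw [MulEquiv.map_eq_one_iff] at h'
    exact hc2 h'
  have hcardN : Nat.card ↥N = 360 := by rw [Nat.card_congr e.toEquiv]; exact card_A6
  have hcardG : Nat.card G = 720 := by
    rw [← Subgroup.card_mul_index N, hcardN, hidx]
  have hclass : Nat.card {t : G // ∃ g : G, t = g * c0 * g⁻¹} ≤ 90 := by
    rw [← A6raw.card4, ← Nat.card_eq_fintype_card]
    have hmem : ∀ t : {t : G // ∃ g : G, t = g * c0 * g⁻¹}, (t : G) ∈ N := by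
      rintro ⟨t, g, rfl⟩; exact hNn.conj_mem c0 hc0N g
    have hpow : ∀ (t : {t : G // ∃ g : G, t = g * c0 * g⁻¹}),
        (t : G) ^ 4 = 1 ∧ (t : G) ^ 2 ≠ 1 := by
      rintro ⟨t, g, rfl⟩
      refine ⟨by rw [conj_pow, hc04]; group, ?_⟩
      rw [conj_pow]; intro h; apply hc02
      calc c0 ^ 2 = g⁻¹ * (g * c0 ^ 2 * g⁻¹) * g := by group
        _ = 1 := by rw [h]; group
    refine Nat.card_le_card_of_injective
      (fun t => (⟨e ⟨t.1, hmem t⟩, ?_, ?_⟩ : {g : A6 // g ^ 4 = 1 ∧ g ^ 2 ≠ 1})) ?_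
    · rw [← map_pow]
      have h1 : (⟨t.1, hmem t⟩ : ↥N) ^ 4 = 1 := Subtype.ext (by simpa using (hpow t).1)
      rw [h1, map_one]
    · rw [← map_pow]; intro h
      rw [MulEquiv.map_eq_one_iff] at h
      apply (hpow t).2
      have h1 := congrArg Subtype.val h
      simpa using h1
    · intro t1 t2 h
      have h1 := congrArg Subtype.val h
      simp only at h1
      have h2 := e.injective h1
      exact Subtype.ext (Subtype.mk.inj h2)
  have hcent := Cfsg.Agent.Lib.Helper7.TIV.card_conj_class c0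
  have hC8 : 8 ≤ Nat.card ↥(Subgroup.centralizer ({c0} : Set G)) := by
    rw [hcardG] at hcent
    by_contra hlt
    push Not at hlt
    have h1 : Nat.card {t : G // ∃ g : G, t = g * c0 * g⁻¹} *
        Nat.card ↥(Subgroup.centralizer ({c0} : Set G)) ≤ 90 * 7 :=
      Nat.mul_le_mul hclass (by omega)
    omega
  have hCN : ∀ v ∈ N, v * c0 = c0 * v → v = 1 ∨ v = c0 ∨ v = c0 ^ 2 ∨ v = c0 ^ 3 := by
    intro v hv hvc
    have hraw := hcent4 (e ⟨v, hv⟩) (by
      rw [← hc0e, ← map_mul, ← map_mul]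
      congr 1
      exact Subtype.ext hvc.symm)
    have hv' : ∀ k : ℕ, e ⟨v, hv⟩ = c ^ k → v = c0 ^ k := by
      intro k hk
      have h1 : (⟨v, hv⟩ : ↥N) = e.symm (c ^ k) := by rw [← hk, MulEquiv.symm_apply_apply]
      have h2 := congrArg Subtype.val h1
      simp only at h2
      rw [h2, map_pow, Subgroup.coe_pow]
    rcases hraw with h | h | h | h
    · left; have := hv' 0 (by rw [pow_zero]; exact h); simpa using this
    · right; left; have := hv' 1 (by rw [pow_one]; exact h); simpa using this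
    · right; right; left; exact hv' 2 h
    · right; right; right; exact hv' 3 h
  have hex : ∃ v : G, v * c0 = c0 * v ∧ v ∉ N := by
    by_contra hno
    push Not at hno
    have hsub : ((Subgroup.centralizer ({c0} : Set G) : Subgroup G) : Set G) ⊆
        (({1, c0, c0 ^ 2, c0 ^ 3} : Finset G) : Set G) := by
      intro v hv
      have hvc : v * c0 = c0 * v :=
        (Subgroup.mem_centralizer_iff.mp hv c0 (Set.mem_singleton c0)).symm
      have := hCN v (hno v hvc) hvc
      simp only [Finset.coe_insert, Finset.coe_singleton, Set.mem_insert_iff,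
        Set.mem_singleton_iff]
      exact this
    have hle : Nat.card ↥(Subgroup.centralizer ({c0} : Set G)) ≤ 4 := by
      rw [← SetLike.coe_sort_coe, Nat.card_coe_set_eq]
      calc _ ≤ ((({1, c0, c0 ^ 2, c0 ^ 3} : Finset G) : Set G)).ncard :=
            Set.ncard_le_ncard hsub (Finset.finite_toSet _)
        _ = ({1, c0, c0 ^ 2, c0 ^ 3} : Finset G).card := Set.ncard_coe_finset _
        _ ≤ 4 := Finset.card_le_four
    omega
  obtain ⟨v, hvc, hvN⟩ := hex
  have hv2N : v ^ 2 ∈ N := Subgroup.sq_mem_of_index_two hidx v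
  have hv2c : v ^ 2 * c0 = c0 * v ^ 2 := ((show Commute v c0 from hvc).pow_left 2).eq
  have hv1 : v ≠ 1 := fun h => hvN (h ▸ N.one_mem)
  rcases hCN (v ^ 2) hv2N hv2c with h | h | h | h
  · exact ⟨v, orderOf_eq_prime h hv1, hvN⟩
  · exfalso
    have h8 : v ^ (2 ^ 3) = 1 := by
      calc v ^ (2 ^ 3) = (v ^ 2) ^ 4 := by rw [← pow_mul]; norm_num
        _ = 1 := by rw [h, hc04]
    have h4 := h5.pow_four_of_two_pow v 3 h8
    apply hc02
    calc c0 ^ 2 = (v ^ 2) ^ 2 := by rw [h]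
      _ = v ^ 4 := by rw [← pow_mul]
      _ = 1 := h4
  · refine ⟨v * c0⁻¹, ?_, ?_⟩
    · have hcomm : Commute v c0⁻¹ := (show Commute v c0 from hvc).inv_right
      have hw2 : (v * c0⁻¹) ^ 2 = 1 := by
        rw [hcomm.mul_pow, h, inv_pow, mul_inv_cancel]
      have hw1 : v * c0⁻¹ ≠ 1 := by
        intro h1
        apply hvN
        have : v = c0 := by rw [mul_inv_eq_one] at h1; exact h1
        rw [this]; exact hc0N
      exact orderOf_eq_prime hw2 hw1
    · intro hmem
      apply hvN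
      have := N.mul_mem hmem hc0N
      rwa [inv_mul_cancel_right] at this
  · exfalso
    have h8 : v ^ (2 ^ 3) = 1 := by
      calc v ^ (2 ^ 3) = (v ^ 2) ^ 4 := by rw [← pow_mul]; norm_num
        _ = (c0 ^ 4) ^ 3 := by rw [h, ← pow_mul, ← pow_mul]
        _ = 1 := by rw [hc04, one_pow]
    have h4 := h5.pow_four_of_two_pow v 3 h8
    apply hc02
    calc c0 ^ 2 = c0 ^ 4 * c0 ^ 2 := by rw [hc04, one_mul]
      _ = (c0 ^ 3) ^ 2 := by rw [← pow_add, ← pow_mul]
      _ = (v ^ 2) ^ 2 := by rw [h]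
      _ = v ^ 4 := by rw [← pow_mul]
      _ = 1 := h4

theorem no_ext_two (h5 : C5 G) (N : Subgroup G) [N.Normal] (hNs : IsSimpleGroup ↥N)
    (hNns : ¬ IsSolvable ↥N) (hcard : Nat.card ↥N = 60 ∨ Nat.card ↥N = 360)
    (hidx : N.index = 2) : False := by
  have h2 : 2 ∣ Nat.card ↥N := by rcases hcard with h | h <;> rw [h] <;> norm_num
  have h3 : 3 ∣ Nat.card ↥N := by rcases hcard with h | h <;> rw [h] <;> norm_num
  obtain ⟨w, hw, hwN⟩ : ∃ w : G, orderOf w = 2 ∧ w ∉ N := by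
    rcases hcard with h | h
    · exact N2_exists_invol_of_sylow3 h5 N hidx h
    · haveI := hNs
      obtain ⟨e⟩ := Cfsg.Agent.S0497.result (G := ↥N) h
      exact N2_exists_invol_of_A6 h5 N hidx e
  exact N2_of_invol h5 N hNs hNns h2 h3 hidx w hw hwN

end Cfsg.Agent.Lib.Helper5.C5
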