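import Mathlib
import Cfsg.Prelude.Def_BaumannBlocks
import Cfsg.Agent.Lib.Helper7.CentrallyLarge

set_option autoImplicit false
set_option linter.unusedVariables false

/-! # S2990 farm (owner helper6): unit U4 (CLR) and the KP bridge `G → ↥S` -/

namespace Cfsg.Agent.Lib.Helper5.CLR2990

open Cfsg Cfsg.Agent.Lib.Helper7

section typeLevel

variable {P : Type*} [Group P] [Finite P]

theorem card_mul_relIndex_of_le {A B : Subgroup P} (h : A ≤ B) :
    Nat.card ↥A * A.relIndex B = Nat.card ↥B := by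
  have := Subgroup.relIndex_mul_relIndex (⊥ : Subgroup P) A B bot_le h
  rwa [Subgroup.relIndex_bot_left, Subgroup.relIndex_bot_left] at this

/-- product formula `|A W| |A ∩ W| = |A| |W|` for `W` normal -/
theorem card_sup_mul_card_inf (A W : Subgroup P) [W.Normal] :
    Nat.card (A ⊔ W : Subgroup P) * Nat.card (A ⊓ W : Subgroup P) = Nat.card A * Nat.card W := by
  have h1 : W.relIndex (A ⊔ W) = W.relIndex A := Subgroup.relIndex_sup_right A W
  have h2 : Nat.card W * W.relIndex (A ⊔ W) = Nat.card (A ⊔ W : Subgroup P) :=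
    card_mul_relIndex_of_le (le_sup_right : W ≤ A ⊔ W)
  have h3 : Nat.card (A ⊓ W : Subgroup P) * (A ⊓ W).relIndex A = Nat.card A :=
    card_mul_relIndex_of_le (inf_le_left : A ⊓ W ≤ A)
  have h4 : (A ⊓ W).relIndex A = W.relIndex A := Subgroup.inf_relIndex_left A W
  rw [← h2, h1, ← h3, h4]
  ring

theorem sup_comm_of (A B : Subgroup P)
    (h : ∀ a ∈ A, ∀ b ∈ B, a * b = b * a) : A ≤ Subgroup.centralizer (B : Set P) := by
  intro a ha
  rw [Subgroup.mem_centralizer_iff]
  intro b hb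
  exact (h a ha b hb).symm

/-- pure arithmetic behind (CLR) -/
theorem clr_arith {r t q z w qo zo qw zw cq cz : ℕ}
    (hqw : 0 < qw) (hzw : 0 < zw)
    (e1 : r * qw = qo * w) (e2 : t * zw = zo * w)
    (k1 : q * cq ≤ qo * w) (k2 : z * cz ≤ zo * w)
    (l1 : zw ≤ cq) (l2 : qw ≤ cz) : q * z ≤ r * t := by
  have h1 : (q * z) * (qw * zw) ≤ (q * cq) * (z * cz) := by
    have : (q * z) * (qw * zw) = (q * zw) * (z * qw) := by ring
    rw [this]
    exact Nat.mul_le_mul (Nat.mul_le_mul_left _ l1) (Nat.mul_le_mul_left _ l2)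
  have h2 : (q * cq) * (z * cz) ≤ (qo * w) * (zo * w) := Nat.mul_le_mul k1 k2
  have h3 : (qo * w) * (zo * w) = (r * t) * (qw * zw) := by
    rw [← e1, ← e2]; ring
  have h4 : (q * z) * (qw * zw) ≤ (r * t) * (qw * zw) := by
    rw [← h3]; exact h1.trans h2
  exact Nat.le_of_mul_le_mul_right h4 (Nat.mul_pos hqw hzw)

/-- (U4, CLR) general form, no `p`-group hypothesis needed. -/
theorem clr_gen (Q O W : Subgroup P) [W.Normal]
    (hQ : Cfsg.IsCentrallyLarge Q) (hWO : W ≤ O)
    (hOW : O ≤ Subgroup.centralizer (W : Set P))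
    (hkp : ∀ B : Subgroup P,
      Nat.card B * Nat.card (W ⊓ Subgroup.centralizer (B : Set P) : Subgroup P) ≤
        Nat.card (B ⊓ O : Subgroup P) * Nat.card W) :
    Cfsg.IsCentrallyLarge ((Q ⊓ O) ⊔ W) ∧ (Q ⊓ O) ⊔ W ≤ O ∧
      Subgroup.centralizer (((Q ⊓ O) ⊔ W : Subgroup P) : Set P)
        = ((Q ⊓ Subgroup.centralizer (Q : Set P)) ⊓ O) ⊔ W := by
  obtain ⟨hQcd, hCQ⟩ := centrallyLarge_cd Q hQ
  set Z : Subgroup P := Q ⊓ Subgroup.centralizer (Q : Set P) with hZ
  set R : Subgroup P := (Q ⊓ O) ⊔ W with hR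
  set T : Subgroup P := (Z ⊓ O) ⊔ W with hT
  have hZC : Z = Subgroup.centralizer (Q : Set P) := inf_eq_right.mpr hCQ
  have hRO : R ≤ O := sup_le inf_le_right hWO
  have hTR : T ≤ R := sup_le_sup_right (inf_le_inf_right _ inf_le_left) _
  -- `T ≤ C(R)`
  have hWab : W ≤ Subgroup.centralizer (W : Set P) := hWO.trans hOW
  have hTC : T ≤ Subgroup.centralizer (R : Set P) := by
    rw [hR, centralizer_sup_eq]
    refine le_inf ?_ ?_
    · -- `T` centralises `Q ⊓ O`
      refine sup_le ?_ ?_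
      · refine (inf_le_left.trans inf_le_right).trans (Subgroup.centralizer_le ?_)
        exact_mod_cast (inf_le_left : Q ⊓ O ≤ Q)
      · -- `W` centralises `O ⊇ Q ⊓ O`
        have : W ≤ Subgroup.centralizer (O : Set P) := by
          rw [Subgroup.le_centralizer_iff]; exact hOW
        refine this.trans (Subgroup.centralizer_le ?_)
        exact_mod_cast (inf_le_right : Q ⊓ O ≤ O)
    · refine sup_le ?_ hWab
      exact inf_le_right.trans hOW
  -- counting
  have e1 : Nat.card R * Nat.card (Q ⊓ O ⊓ W : Subgroup P) = Nat.card (Q ⊓ O : Subgroup P) * Nat.card W :=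
    card_sup_mul_card_inf (Q ⊓ O) W
  have e2 : Nat.card T * Nat.card (Z ⊓ O ⊓ W : Subgroup P) = Nat.card (Z ⊓ O : Subgroup P) * Nat.card W :=
    card_sup_mul_card_inf (Z ⊓ O) W
  have k1 := hkp Q
  have k2 := hkp Z
  have l1 : Nat.card (Z ⊓ O ⊓ W : Subgroup P) ≤
      Nat.card (W ⊓ Subgroup.centralizer (Q : Set P) : Subgroup P) := by
    refine Subgroup.card_le_of_le (le_inf inf_le_right ?_)
    exact (inf_le_left.trans inf_le_left).trans inf_le_right
  have l2 : Nat.card (Q ⊓ O ⊓ W : Subgroup P) ≤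
      Nat.card (W ⊓ Subgroup.centralizer (Z : Set P) : Subgroup P) := by
    refine Subgroup.card_le_of_le (le_inf inf_le_right ?_)
    refine (inf_le_left.trans inf_le_left).trans ?_
    rw [Subgroup.le_centralizer_iff]
    exact inf_le_right
  have hle : Nat.card Q * Nat.card Z ≤ Nat.card R * Nat.card T :=
    clr_arith Nat.card_pos Nat.card_pos e1 e2 k1 k2 l1 l2
  have hmaxR := cdMeasure_le_max R
  unfold cdMeasure at hmaxR hQcd
  rw [← hZC] at hQcd
  have hTle : Nat.card T ≤ Nat.card (Subgroup.centralizer (R : Set P)) :=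
    Subgroup.card_le_of_le hTC
  have hRT : Nat.card R * Nat.card T ≤ Nat.card R * Nat.card (Subgroup.centralizer (R : Set P)) :=
    Nat.mul_le_mul_left _ hTle
  have hcdR : cdMeasure R = maxCentralizerProduct P := by
    unfold cdMeasure; omega
  have hTeq : Nat.card T = Nat.card (Subgroup.centralizer (R : Set P)) := by
    have h5 : Nat.card R * Nat.card T = Nat.card R * Nat.card (Subgroup.centralizer (R : Set P)) := by
      unfold cdMeasure at hcdR; omega
    exact Nat.eq_of_mul_eq_mul_left Nat.card_pos h5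
  have hCeq : T = Subgroup.centralizer (R : Set P) :=
    Subgroup.eq_of_le_of_card_ge hTC hTeq.ge
  refine ⟨centrallyLarge_of_cd R hcdR (hCeq ▸ hTR), hRO, hCeq.symm⟩

/-- (U4, CLR) in the announced shape. -/
theorem clr {p : ℕ} [Fact p.Prime] (hP : IsPGroup p P) (Q O W : Subgroup P) [W.Normal]
    (hQ : Cfsg.IsCentrallyLarge Q) (hWO : W ≤ O)
    (hOW : O ≤ Subgroup.centralizer (W : Set P))
    (hkp : ∀ B : Subgroup P,
      Nat.card B * Nat.card (W ⊓ Subgroup.centralizer (B : Set P) : Subgroup P) ≤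
        Nat.card (B ⊓ O : Subgroup P) * Nat.card W) :
    Cfsg.IsCentrallyLarge ((Q ⊓ O) ⊔ W) ∧ (Q ⊓ O) ⊔ W ≤ O :=
  ⟨(clr_gen Q O W hQ hWO hOW hkp).1, (clr_gen Q O W hQ hWO hOW hkp).2.1⟩

end typeLevel

section bridge

variable {G : Type*} [Group G] [Finite G]

theorem map_subtype_centralizer_inf (S V : Subgroup G) (hVS : V ≤ S) (B : Subgroup ↥S) :
    (V.subgroupOf S ⊓ Subgroup.centralizer (B : Set ↥S)).map S.subtype
      = V ⊓ Subgroup.centralizer ((B.map S.subtype : Subgroup G) : Set G) := by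
  ext x
  constructor
  · rintro ⟨y, hy, rfl⟩
    obtain ⟨hy1, hy2⟩ := Subgroup.mem_inf.mp hy
    refine Subgroup.mem_inf.mpr ⟨Subgroup.mem_subgroupOf.mp hy1, ?_⟩
    rw [Subgroup.mem_centralizer_iff] at hy2 ⊢
    rintro _ ⟨b, hb, rfl⟩
    have := congrArg Subtype.val (hy2 b hb)
    simpa using this
  · intro hx
    obtain ⟨hx1, hx2⟩ := Subgroup.mem_inf.mp hx
    refine ⟨⟨x, hVS hx1⟩, Subgroup.mem_inf.mpr ⟨Subgroup.mem_subgroupOf.mpr hx1, ?_⟩, rfl⟩
    rw [Subgroup.mem_centralizer_iff] at hx2 ⊢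
    intro b hb
    apply Subtype.ext
    have := hx2 (b : G) ⟨b, hb, rfl⟩
    simpa using this

theorem map_subtype_inf_subgroupOf (S O : Subgroup G) (B : Subgroup ↥S) :
    (B ⊓ O.subgroupOf S).map S.subtype = B.map S.subtype ⊓ O := by
  ext x
  constructor
  · rintro ⟨y, hy, rfl⟩
    obtain ⟨hy1, hy2⟩ := Subgroup.mem_inf.mp hy
    exact Subgroup.mem_inf.mpr ⟨⟨y, hy1, rfl⟩, Subgroup.mem_subgroupOf.mp hy2⟩
  · intro hx
    obtain ⟨⟨y, hy, rfl⟩, hx2⟩ := Subgroup.mem_inf.mp hx
    exact ⟨y, Subgroup.mem_inf.mpr ⟨hy, Subgroup.mem_subgroupOf.mpr hx2⟩, rfl⟩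

/-- (U4b) KP bridge from `G` (for `A ≤ S`) to the subgroup type `↥S`. -/
theorem kp_subtype (S O V : Subgroup G) (hVS : V ≤ S)
    (hkp : ∀ A : Subgroup G, A ≤ S →
      Nat.card A * Nat.card (V ⊓ Subgroup.centralizer (A : Set G) : Subgroup G) ≤
        Nat.card (A ⊓ O : Subgroup G) * Nat.card V) :
    ∀ B : Subgroup ↥S,
      Nat.card B * Nat.card (V.subgroupOf S ⊓ Subgroup.centralizer (B : Set ↥S) : Subgroup ↥S) ≤
        Nat.card (B ⊓ O.subgroupOf S : Subgroup ↥S) * Nat.card (V.subgroupOf S) := by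
  intro B
  have hinj := Subgroup.subtype_injective S
  have h := hkp (B.map S.subtype) (Subgroup.map_subtype_le B)
  rw [← map_subtype_centralizer_inf S V hVS B, ← map_subtype_inf_subgroupOf S O B,
    Subgroup.card_map_of_injective hinj, Subgroup.card_map_of_injective hinj,
    Subgroup.card_map_of_injective hinj] at h
  have hV : Nat.card (V.subgroupOf S) = Nat.card V := by
    rw [← Subgroup.card_map_of_injective hinj, Subgroup.subgroupOf_map_subtype,
      inf_of_le_left hVS]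
  rw [hV]
  exact h

end bridge

end Cfsg.Agent.Lib.Helper5.CLR2990
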