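import Mathlib
import Cfsg.Prelude.Def_PLocal
import Cfsg.Prelude.Def_BaumannBlocks
import Cfsg.Agent.S3007
import Cfsg.Agent.Lib.Helper1.CL2990a
import Cfsg.Agent.Lib.Helper5.CLR2990
import Cfsg.Agent.Lib.Helper5.PU2770T

set_option autoImplicit false
set_option linter.unusedVariables false
set_option linter.unusedSectionVars false

/-! # S2989 farm (owner helper6): type-level chain U11' (CLR with equalities), U12, U13 -/

namespace Cfsg.Agent.Lib.Helper5.CLS2989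

open Cfsg Cfsg.Agent.Lib.Helper7 Cfsg.Agent.Lib.Helper5.CLR2990

variable {P : Type*} [Group P] [Finite P]

theorem eq_of_mul_le {a b c d : ℕ} (ha : 0 < a) (hc : 0 < c) (h1 : a ≤ b) (h2 : c ≤ d)
    (h : b * d ≤ a * c) : a = b ∧ c = d := by
  constructor
  · by_contra hne
    have hlt : a < b := lt_of_le_of_ne h1 hne
    have h3 : a * c < b * c := by nlinarith
    have h4 : b * c ≤ b * d := Nat.mul_le_mul_left _ h2
    omega
  · by_contra hne
    have hlt : c < d := lt_of_le_of_ne h2 hne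
    have h3 : a * c < a * d := by nlinarith
    have h4 : a * d ≤ b * d := Nat.mul_le_mul_right _ h1
    omega

theorem relIndex_ne_zero_fin (A B : Subgroup P) : A.relIndex B ≠ 0 := by
  unfold Subgroup.relIndex
  exact Subgroup.index_ne_zero_of_finite

theorem card_inf_mul_relIndex_fin (O A : Subgroup P) :
    Nat.card (A ⊓ O : Subgroup P) * O.relIndex A = Nat.card A := by
  have h := card_mul_relIndex_of_le (inf_le_left : A ⊓ O ≤ A)
  rwa [Subgroup.inf_relIndex_left A O] at h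

/-- Dedekind-type covering: if `B ≤ A` has the same index over `O` as `A`, then `A = (A ∩ O) B`. -/
theorem dedekind_of_relIndex (A B O : Subgroup P) (hBA : B ≤ A)
    (h : O.relIndex A ≤ O.relIndex B) : (A ⊓ O) ⊔ B = A := by
  have hYA : (A ⊓ O) ⊔ B ≤ A := sup_le inf_le_left hBA
  have hYO : ((A ⊓ O) ⊔ B) ⊓ O = A ⊓ O :=
    le_antisymm (inf_le_inf_right _ hYA) (le_inf le_sup_left inf_le_right)
  have h1 := card_inf_mul_relIndex_fin O ((A ⊓ O) ⊔ B)
  have h2 := card_inf_mul_relIndex_fin O A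
  have h3 : O.relIndex B ≤ O.relIndex ((A ⊓ O) ⊔ B) :=
    Subgroup.relIndex_le_of_le_right le_sup_right (relIndex_ne_zero_fin _ _)
  rw [hYO] at h1
  have h4 : Nat.card A ≤ Nat.card ((A ⊓ O) ⊔ B : Subgroup P) := by
    rw [← h1, ← h2]; exact Nat.mul_le_mul_left _ (h.trans h3)
  exact Subgroup.eq_of_le_of_card_ge hYA h4

theorem clr_eq_arith {r t q z w qo zo qw zw cq cz : ℕ}
    (hq : 0 < q) (hz : 0 < z) (hqw : 0 < qw) (hzw : 0 < zw)
    (e1 : r * qw = qo * w) (e2 : t * zw = zo * w)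
    (k1 : q * cq ≤ qo * w) (k2 : z * cz ≤ zo * w)
    (l1 : zw ≤ cq) (l2 : qw ≤ cz) (heq : r * t ≤ q * z) :
    q * cq = qo * w ∧ z * cz = zo * w ∧ zw = cq ∧ qw = cz := by
  have h3 : (qo * w) * (zo * w) = (r * t) * (qw * zw) := by rw [← e1, ← e2]; ring
  have h4 : (qo * w) * (zo * w) ≤ (q * z) * (qw * zw) := by
    rw [h3]; exact Nat.mul_le_mul_right _ heq
  have h5 : (q * z) * (qw * zw) = (q * zw) * (z * qw) := by ring
  have hA : q * zw ≤ q * cq := Nat.mul_le_mul_left _ l1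
  have hB : z * qw ≤ z * cz := Nat.mul_le_mul_left _ l2
  have hC : (q * cq) * (z * cz) ≤ (qo * w) * (zo * w) := Nat.mul_le_mul k1 k2
  have hD : (q * cq) * (z * cz) ≤ (q * zw) * (z * qw) := by rw [← h5]; exact hC.trans h4
  obtain ⟨f1, f2⟩ := eq_of_mul_le (Nat.mul_pos hq hzw) (Nat.mul_pos hz hqw) hA hB hD
  have g1 : zw = cq := Nat.eq_of_mul_eq_mul_left hq f1
  have g2 : qw = cz := Nat.eq_of_mul_eq_mul_left hz f2
  have hE : (qo * w) * (zo * w) ≤ (q * cq) * (z * cz) := by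
    rw [← f1, ← f2, ← h5]; exact h4
  have hcq : 0 < cq := lt_of_lt_of_le hzw l1
  have hcz : 0 < cz := lt_of_lt_of_le hqw l2
  obtain ⟨f3, f4⟩ := eq_of_mul_le (Nat.mul_pos hq hcq) (Nat.mul_pos hz hcz) k1 k2 hE
  exact ⟨f3, f4, g1, g2⟩

/-- (U11') (CLR) with the equalities (e1)-(e4), type level. -/
theorem clr_eq (Q O W : Subgroup P) [W.Normal]
    (hQ : Cfsg.IsCentrallyLarge Q) (hWO : W ≤ O)
    (hOW : O ≤ Subgroup.centralizer (W : Set P))
    (hkp : ∀ B : Subgroup P,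
      Nat.card B * Nat.card (W ⊓ Subgroup.centralizer (B : Set P) : Subgroup P) ≤
        Nat.card (B ⊓ O : Subgroup P) * Nat.card W) :
    Nat.card Q * Nat.card (W ⊓ Subgroup.centralizer (Q : Set P) : Subgroup P)
        = Nat.card (Q ⊓ O : Subgroup P) * Nat.card W ∧
    Nat.card (Q ⊓ Subgroup.centralizer (Q : Set P) : Subgroup P) *
        Nat.card (W ⊓ Subgroup.centralizer
          ((Q ⊓ Subgroup.centralizer (Q : Set P) : Subgroup P) : Set P) : Subgroup P)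
        = Nat.card ((Q ⊓ Subgroup.centralizer (Q : Set P)) ⊓ O : Subgroup P) * Nat.card W ∧
    (Q ⊓ Subgroup.centralizer (Q : Set P)) ⊓ W = W ⊓ Subgroup.centralizer (Q : Set P) ∧
    Q ⊓ W = W ⊓ Subgroup.centralizer
          ((Q ⊓ Subgroup.centralizer (Q : Set P) : Subgroup P) : Set P) ∧
    Nat.card ((Q ⊓ O) ⊔ W : Subgroup P) * Nat.card (Q ⊓ W : Subgroup P)
        = Nat.card (Q ⊓ O : Subgroup P) * Nat.card W := by
  obtain ⟨hRcl, hRO, hCR⟩ := clr_gen Q O W hQ hWO hOW hkp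
  obtain ⟨hQcd, hCQ⟩ := centrallyLarge_cd Q hQ
  obtain ⟨hRcd, hCRR⟩ := centrallyLarge_cd _ hRcl
  set Z : Subgroup P := Q ⊓ Subgroup.centralizer (Q : Set P) with hZ
  set R : Subgroup P := (Q ⊓ O) ⊔ W with hR
  set T : Subgroup P := (Z ⊓ O) ⊔ W with hT
  have hZC : Z = Subgroup.centralizer (Q : Set P) := inf_eq_right.mpr hCQ
  unfold cdMeasure at hQcd hRcd
  rw [hCR] at hRcd
  rw [← hZC] at hQcd
  have heq : Nat.card R * Nat.card T ≤ Nat.card Q * Nat.card Z := by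
    rw [hRcd, hQcd]
  have hQW : Q ⊓ O ⊓ W = Q ⊓ W := by rw [inf_assoc, inf_of_le_right hWO]
  have hZW : Z ⊓ O ⊓ W = Z ⊓ W := by rw [inf_assoc, inf_of_le_right hWO]
  have e1 : Nat.card R * Nat.card (Q ⊓ W : Subgroup P) = Nat.card (Q ⊓ O : Subgroup P) * Nat.card W := by
    have := card_sup_mul_card_inf (Q ⊓ O) W
    rwa [hQW] at this
  have e2 : Nat.card T * Nat.card (Z ⊓ W : Subgroup P) = Nat.card (Z ⊓ O : Subgroup P) * Nat.card W := by
    have := card_sup_mul_card_inf (Z ⊓ O) W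
    rwa [hZW] at this
  have k1 := hkp Q
  have k2 := hkp Z
  have L1 : Z ⊓ W ≤ W ⊓ Subgroup.centralizer (Q : Set P) :=
    le_inf inf_le_right (inf_le_left.trans inf_le_right)
  have L2 : Q ⊓ W ≤ W ⊓ Subgroup.centralizer (Z : Set P) := by
    refine le_inf inf_le_right (inf_le_left.trans ?_)
    rw [Subgroup.le_centralizer_iff]
    exact inf_le_right
  have l1 := Subgroup.card_le_of_le L1
  have l2 := Subgroup.card_le_of_le L2
  obtain ⟨f1, f2, f3, f4⟩ := clr_eq_arith (Nat.card_pos (α := Q)) (Nat.card_pos (α := Z))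
    (Nat.card_pos (α := (Q ⊓ W : Subgroup P))) (Nat.card_pos (α := (Z ⊓ W : Subgroup P)))
    e1 e2 k1 k2 l1 l2 heq
  exact ⟨f1, f2, Subgroup.eq_of_le_of_card_ge L1 f3.ge, Subgroup.eq_of_le_of_card_ge L2 f4.ge, e1⟩

/-- (U12) step (2): `R = (Q ∩ O) W` is minimal centrally large and `Q = (Q ∩ O) Z(Q)`. -/
theorem step2 {p : ℕ} [Fact p.Prime] (hP : IsPGroup p P) (Q O W : Subgroup P) [W.Normal]
    (hQ : Cfsg.IsMinimalCentrallyLarge Q) (hWO : W ≤ O)
    (hOW : O ≤ Subgroup.centralizer (W : Set P))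
    (hkp : ∀ B : Subgroup P,
      Nat.card B * Nat.card (W ⊓ Subgroup.centralizer (B : Set P) : Subgroup P) ≤
        Nat.card (B ⊓ O : Subgroup P) * Nat.card W) :
    Cfsg.IsMinimalCentrallyLarge ((Q ⊓ O) ⊔ W) ∧
    (Q ⊓ O) ⊔ (Q ⊓ Subgroup.centralizer (Q : Set P)) = Q ∧
    O.relIndex (Q ⊓ Subgroup.centralizer (Q : Set P)) = O.relIndex Q := by
  obtain ⟨hRcl, hRO, hCR⟩ := clr_gen Q O W hQ.1 hWO hOW hkp
  obtain ⟨c1, c2, c3, c4, c5⟩ := clr_eq Q O W hQ.1 hWO hOW hkp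
  set Z : Subgroup P := Q ⊓ Subgroup.centralizer (Q : Set P) with hZ
  set R : Subgroup P := (Q ⊓ O) ⊔ W with hR
  obtain ⟨R0, hR0le, hR0⟩ :=
    Cfsg.Agent.Lib.Helper1.CL2990a.exists_isMinimalCentrallyLarge_le R hRcl
  have hcard : Nat.card Q = Nat.card R0 := (Cfsg.Agent.S3007.result P hP Q R0 hQ hR0).2.2.1
  have a1 := card_inf_mul_relIndex_fin O Z
  have a2 := card_inf_mul_relIndex_fin O Q
  have hi : O.relIndex Z ≤ O.relIndex Q :=
    Subgroup.relIndex_le_of_le_right (inf_le_left : Z ≤ Q) (relIndex_ne_zero_fin _ _)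
  rw [← c4] at c2
  -- `|R| = |Q ∩ O| [Z : Z ∩ O]`
  have hr : Nat.card R = Nat.card (Q ⊓ O : Subgroup P) * O.relIndex Z := by
    have hpos : 0 < Nat.card (Z ⊓ O : Subgroup P) * Nat.card W :=
      Nat.mul_pos Nat.card_pos Nat.card_pos
    have : Nat.card R * (Nat.card (Z ⊓ O : Subgroup P) * Nat.card W)
        = (Nat.card (Q ⊓ O : Subgroup P) * O.relIndex Z) *
          (Nat.card (Z ⊓ O : Subgroup P) * Nat.card W) := by
      calc Nat.card R * (Nat.card (Z ⊓ O : Subgroup P) * Nat.card W)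
          = Nat.card R * (Nat.card Z * Nat.card (Q ⊓ W : Subgroup P)) := by rw [c2]
        _ = Nat.card Z * (Nat.card R * Nat.card (Q ⊓ W : Subgroup P)) := by ring
        _ = Nat.card Z * (Nat.card (Q ⊓ O : Subgroup P) * Nat.card W) := by rw [c5]
        _ = (Nat.card (Z ⊓ O : Subgroup P) * O.relIndex Z) *
              (Nat.card (Q ⊓ O : Subgroup P) * Nat.card W) := by rw [a1]
        _ = _ := by ring
    exact Nat.eq_of_mul_eq_mul_right hpos this
  have hrq : Nat.card R ≤ Nat.card Q := by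
    rw [hr, ← a2]; exact Nat.mul_le_mul_left _ hi
  have hqr : Nat.card Q ≤ Nat.card R := by
    rw [hcard]; exact Subgroup.card_le_of_le hR0le
  have hR0R : R0 = R := Subgroup.eq_of_le_of_card_ge hR0le (by rw [← hcard]; exact hrq)
  have hieq : O.relIndex Z = O.relIndex Q := by
    have h1 : Nat.card (Q ⊓ O : Subgroup P) * O.relIndex Z
        = Nat.card (Q ⊓ O : Subgroup P) * O.relIndex Q := by
      rw [← hr, a2]; exact le_antisymm hrq hqr
    exact Nat.eq_of_mul_eq_mul_left Nat.card_pos h1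
  refine ⟨hR0R ▸ hR0, ?_, hieq⟩
  exact dedekind_of_relIndex Q Z O inf_le_left hieq.ge

theorem omegaOne_le {G : Type*} [Group G] (p : ℕ) (H : Subgroup G) : omegaOne p H ≤ H := by
  unfold omegaOne
  rw [Subgroup.closure_le]
  intro x hx
  exact hx.1

theorem omegaOne_mono {G : Type*} [Group G] (p : ℕ) {H K : Subgroup G} (h : H ≤ K) :
    omegaOne p H ≤ omegaOne p K := by
  unfold omegaOne
  apply Subgroup.closure_mono
  intro x hx
  exact ⟨h hx.1, hx.2⟩

theorem mz_bddAbove (p : ℕ) :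
    BddAbove {k : ℕ | ∃ Q : Subgroup P, IsMinimalCentrallyLarge Q ∧
      Nat.card ↥(omegaOneCenter p Q) = k} := by
  refine ⟨Nat.card P, ?_⟩
  rintro k ⟨Q, -, rfl⟩
  exact Subgroup.card_le_card_group _

/-- (U13) step (3): `R ∈ calQ*` and `Z(Q) = (Z(Q) ∩ O) Ω₁(Z(Q))`. -/
theorem step3 {p : ℕ} [Fact p.Prime] (hP : IsPGroup p P) (Q O W : Subgroup P) [W.Normal]
    (hQ : Cfsg.IsMinimalCentrallyLarge Q) (hWO : W ≤ O)
    (hOW : O ≤ Subgroup.centralizer (W : Set P))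
    (hkp : ∀ B : Subgroup P,
      Nat.card B * Nat.card (W ⊓ Subgroup.centralizer (B : Set P) : Subgroup P) ≤
        Nat.card (B ⊓ O : Subgroup P) * Nat.card W)
    (hWel : ∀ v ∈ W, v ^ p = 1)
    (hQmz : Nat.card (omegaOneCenter p Q) = maxOmegaCenterOfMinimalCL p P) :
    Nat.card (omegaOneCenter p ((Q ⊓ O) ⊔ W)) = maxOmegaCenterOfMinimalCL p P ∧
    ((Q ⊓ Subgroup.centralizer (Q : Set P)) ⊓ O) ⊔ omegaOneCenter p Q
      = Q ⊓ Subgroup.centralizer (Q : Set P) := by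
  obtain ⟨hRcl, hRO, hCR⟩ := clr_gen Q O W hQ.1 hWO hOW hkp
  obtain ⟨c1, c2, c3, c4, c5⟩ := clr_eq Q O W hQ.1 hWO hOW hkp
  obtain ⟨hRm, hded, hieq⟩ := step2 hP Q O W hQ hWO hOW hkp
  obtain ⟨-, hCRR⟩ := centrallyLarge_cd _ hRcl
  set Z : Subgroup P := Q ⊓ Subgroup.centralizer (Q : Set P) with hZ
  set R : Subgroup P := (Q ⊓ O) ⊔ W with hR
  set T : Subgroup P := (Z ⊓ O) ⊔ W with hT
  have hZab : ∀ a ∈ Z, ∀ b ∈ Z, a * b = b * a := by
    intro a ha b hb
    have h1 := (Subgroup.mem_inf.mp ha).2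
    rw [Subgroup.mem_centralizer_iff] at h1
    exact (h1 b (Subgroup.mem_inf.mp hb).1).symm
  have hZOab : ∀ a ∈ Z ⊓ O, ∀ b ∈ Z ⊓ O, a * b = b * a := fun a ha b hb =>
    hZab a (Subgroup.mem_inf.mp ha).1 b (Subgroup.mem_inf.mp hb).1
  have hOmQ : omegaOneCenter p Q = omegaOne p Z := rfl
  have hOmR : omegaOneCenter p R = omegaOne p T := by
    unfold omegaOneCenter
    rw [inf_eq_right.mpr hCRR, hCR]
  -- `Ω₁(Z ∩ O) W ≤ Ω₁(T)`
  have hle : omegaOne p (Z ⊓ O) ⊔ W ≤ omegaOne p T := by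
    refine sup_le (omegaOne_mono p le_sup_left) ?_
    intro w hw
    exact Subgroup.subset_closure ⟨(le_sup_right : W ≤ T) hw, hWel w hw⟩
  have hinf : omegaOne p (Z ⊓ O) ⊓ W = Z ⊓ W := by
    ext x
    rw [Subgroup.mem_inf, Cfsg.Agent.Lib.Helper5.PU2770T.mem_omegaOne_iff _ hZOab,
      Subgroup.mem_inf, Subgroup.mem_inf]
    constructor
    · rintro ⟨⟨⟨h1, h2⟩, h3⟩, h4⟩
      exact ⟨h1, h4⟩
    · rintro ⟨h1, h4⟩
      exact ⟨⟨⟨h1, hWO h4⟩, hWel x h4⟩, h4⟩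
  have hinfO : omegaOne p Z ⊓ O = omegaOne p (Z ⊓ O) := by
    ext x
    rw [Subgroup.mem_inf, Cfsg.Agent.Lib.Helper5.PU2770T.mem_omegaOne_iff _ hZab,
      Cfsg.Agent.Lib.Helper5.PU2770T.mem_omegaOne_iff _ hZOab, Subgroup.mem_inf]
    constructor
    · rintro ⟨⟨h1, h2⟩, h3⟩
      exact ⟨⟨h1, h3⟩, h2⟩
    · rintro ⟨⟨h1, h3⟩, h2⟩
      exact ⟨⟨h1, h2⟩, h3⟩
  have b1 := card_sup_mul_card_inf (omegaOne p (Z ⊓ O)) W
  rw [hinf, c3] at b1
  have a2 := card_inf_mul_relIndex_fin O Q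
  have a3 := card_inf_mul_relIndex_fin O (omegaOne p Z)
  rw [hinfO] at a3
  have hiΩ : O.relIndex (omegaOne p Z) ≤ O.relIndex Z :=
    Subgroup.relIndex_le_of_le_right (omegaOne_le p Z) (relIndex_ne_zero_fin _ _)
  -- `u = o1 * iZ`
  have hu : Nat.card (omegaOne p (Z ⊓ O) ⊔ W : Subgroup P)
      = Nat.card (omegaOne p (Z ⊓ O)) * O.relIndex Z := by
    have hpos : 0 < Nat.card (Q ⊓ O : Subgroup P) * Nat.card W :=
      Nat.mul_pos Nat.card_pos Nat.card_pos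
    have : Nat.card (omegaOne p (Z ⊓ O) ⊔ W : Subgroup P) *
          (Nat.card (Q ⊓ O : Subgroup P) * Nat.card W)
        = (Nat.card (omegaOne p (Z ⊓ O)) * O.relIndex Z) *
          (Nat.card (Q ⊓ O : Subgroup P) * Nat.card W) := by
      calc Nat.card (omegaOne p (Z ⊓ O) ⊔ W : Subgroup P) *
            (Nat.card (Q ⊓ O : Subgroup P) * Nat.card W)
          = Nat.card (omegaOne p (Z ⊓ O) ⊔ W : Subgroup P) *
            (Nat.card Q * Nat.card (W ⊓ Subgroup.centralizer (Q : Set P) : Subgroup P)) := by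
              rw [c1]
        _ = Nat.card Q * (Nat.card (omegaOne p (Z ⊓ O) ⊔ W : Subgroup P) *
              Nat.card (W ⊓ Subgroup.centralizer (Q : Set P) : Subgroup P)) := by ring
        _ = Nat.card Q * (Nat.card (omegaOne p (Z ⊓ O)) * Nat.card W) := by rw [b1]
        _ = (Nat.card (Q ⊓ O : Subgroup P) * O.relIndex Q) *
              (Nat.card (omegaOne p (Z ⊓ O)) * Nat.card W) := by rw [a2]
        _ = (Nat.card (omegaOne p (Z ⊓ O)) * O.relIndex Z) *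
              (Nat.card (Q ⊓ O : Subgroup P) * Nat.card W) := by rw [hieq]; ring
    exact Nat.eq_of_mul_eq_mul_right hpos this
  have h1 : Nat.card (omegaOne p Z) ≤ Nat.card (omegaOne p (Z ⊓ O) ⊔ W : Subgroup P) := by
    rw [hu, ← a3]; exact Nat.mul_le_mul_left _ hiΩ
  have h2 : Nat.card (omegaOne p (Z ⊓ O) ⊔ W : Subgroup P) ≤ Nat.card (omegaOne p T) :=
    Subgroup.card_le_of_le hle
  have h3 : Nat.card (omegaOneCenter p R) ≤ maxOmegaCenterOfMinimalCL p P :=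
    le_csSup (mz_bddAbove p) ⟨R, hRm, rfl⟩
  rw [hOmR] at h3
  rw [hOmQ] at hQmz
  have h4 : Nat.card (omegaOne p T) = maxOmegaCenterOfMinimalCL p P := by omega
  refine ⟨by rw [hOmR]; exact h4, ?_⟩
  have h5 : Nat.card (omegaOne p (Z ⊓ O)) * O.relIndex (omegaOne p Z)
      = Nat.card (omegaOne p (Z ⊓ O)) * O.relIndex Z := by
    rw [a3, ← hu]; omega
  have h6 : O.relIndex (omegaOne p Z) = O.relIndex Z :=
    Nat.eq_of_mul_eq_mul_left Nat.card_pos h5
  rw [hOmQ]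
  exact dedekind_of_relIndex Z (omegaOne p Z) O (omegaOne_le p Z) h6.ge

end Cfsg.Agent.Lib.Helper5.CLS2989
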