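import Mathlib
import Cfsg.Agent.Lib.Helper3.CUBDefs
import Cfsg.Agent.Lib.Helper5.CUBOdd
import Cfsg.Agent.Lib.Helper1.FittingCentralizer
import Cfsg.Agent.Lib.Helper2.Cores

/-! Farm CUB (S4415), unit `FIT` (stub verbatim): `T = O_2(R)` is a normal `2`-subgroup of `G`
inside `R` which is self-centralizing in `R`. -/
set_option autoImplicit false
set_option maxHeartbeats 1000000
set_option linter.unusedVariables false
set_option linter.unusedSectionVars false
set_option linter.style.longLine false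
set_option linter.style.haveILetI false
open scoped commutatorElement

namespace Cfsg.Agent.Lib.Helper5.CUB

open Cfsg.Agent.Lib.Helper3.CUB

universe u v

variable {G : Type u} [Group G] [Finite G] {E : Type v} [AddCommGroup E] [Module (ZMod 3) E]
  [Finite E] {ρ : Representation (ZMod 3) G E} {R : Subgroup G} {b : G} {Q : Subgroup G}

/-- `O_{2'}(R) = 1`. -/
theorem pPrimeCore_two_eq_bot (c : Cfg ρ R b Q) : Cfsg.pPrimeCore 2 ↥R = ⊥ := by
  classical
  haveI hRn : R.Normal := c.normal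
  by_contra hne
  haveI hchar : (Cfsg.pPrimeCore 2 ↥R).Characteristic :=
    Cfsg.Agent.Lib.Helper2.pPrimeCore_characteristic 2
  obtain ⟨C, hC⟩ : ∃ C : Subgroup G, C = (Cfsg.pPrimeCore 2 ↥R).map R.subtype := ⟨_, rfl⟩
  haveI hCn : C.Normal := by
    rw [hC]
    exact ConjAct.normal_of_characteristic_of_normal
  have hCR : C ≤ R := by
    rw [hC]
    exact Subgroup.map_subtype_le _
  have hCne : C ≠ ⊥ := by
    intro h
    apply hne
    rw [hC] at h
    exact (Subgroup.map_eq_bot_iff_of_injective _ R.subtype_injective).mp h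
  have hcard : Nat.card C = Nat.card (Cfsg.pPrimeCore 2 ↥R) := by
    rw [hC]
    exact Subgroup.card_map_of_injective R.subtype_injective
  have hC6 : (Nat.card C).Coprime 6 := by
    have h2 : (Nat.card C).Coprime 2 := by
      rw [hcard]
      exact Cfsg.Agent.Lib.Helper2.pPrimeCore_card_coprime 2
    have h3 : (Nat.card C).Coprime 3 :=
      Nat.Coprime.coprime_dvd_left (Subgroup.card_dvd_of_le hCR) c.cop
    have : (Nat.card C).Coprime (2 * 3) := Nat.Coprime.mul_right h2 h3
    exact this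
  obtain ⟨n, hn⟩ := c.solv.solvable
  have hex : ∃ i, Cfsg.Agent.Lib.Helper1.derivedIn C i = ⊥ := ⟨n, by
    have := Cfsg.Agent.Lib.Helper1.derivedIn_le_derivedSeries C n
    rw [hn] at this
    exact le_bot_iff.mp this⟩
  have hspec := Nat.find_spec hex
  have hi0 : Nat.find hex ≠ 0 := by
    intro h0
    rw [h0] at hspec
    exact hCne hspec
  obtain ⟨j, hj⟩ := Nat.exists_eq_succ_of_ne_zero hi0
  have hjne : Cfsg.Agent.Lib.Helper1.derivedIn C j ≠ ⊥ :=
    Nat.find_min hex (by rw [hj]; exact Nat.lt_succ_self j)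
  obtain ⟨D, hD⟩ : ∃ D : Subgroup G, D = Cfsg.Agent.Lib.Helper1.derivedIn C j := ⟨_, rfl⟩
  haveI hDn : D.Normal := by
    rw [hD]
    exact Cfsg.Agent.Lib.Helper1.derivedIn_normal C j
  have hDC : D ≤ C := by
    rw [hD]
    exact Cfsg.Agent.Lib.Helper1.derivedIn_le C j
  have hDD : ⁅D, D⁆ = ⊥ := by
    rw [hj] at hspec
    rw [hD]
    exact hspec
  have hab : ∀ x ∈ D, ∀ y ∈ D, x * y = y * x := by
    intro x hx y hy
    have : ⁅x, y⁆ ∈ ⁅D, D⁆ := Subgroup.commutator_mem_commutator hx hy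
    rw [hDD, Subgroup.mem_bot] at this
    exact commutatorElement_eq_one_iff_mul_comm.mp this
  have hD6 : (Nat.card D).Coprime 6 :=
    Nat.Coprime.coprime_dvd_left (Subgroup.card_dvd_of_le hDC) hC6
  apply hjne
  rw [← hD]
  exact ODD c D (hDC.trans hCR) hab hD6

/-- FIT: `T = O_2(R) = F(R)` is self-centralizing in `R`. -/
theorem FIT (c : Cfg ρ R b Q) :
    ∃ T : Subgroup G, T.Normal ∧ T ≤ R ∧ IsPGroup 2 T ∧
      ∀ r ∈ R, (∀ t ∈ T, r * t = t * r) → r ∈ T := by
  classical
  haveI hRn : R.Normal := c.normal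
  haveI : Fact (Nat.Prime 2) := ⟨Nat.prime_two⟩
  have hO := pPrimeCore_two_eq_bot c
  haveI hchar : (Cfsg.pCore 2 ↥R).Characteristic :=
    Cfsg.Agent.Lib.Helper2.pCore_characteristic 2
  refine ⟨(Cfsg.pCore 2 ↥R).map R.subtype, ConjAct.normal_of_characteristic_of_normal,
    Subgroup.map_subtype_le _, ?_, ?_⟩
  · exact (Cfsg.Agent.Lib.Helper2.pCore_isPGroup 2).map _
  · intro r hr hcomm
    haveI := c.solv
    haveI : Group.IsSolvable ↥R := inferInstance
    have h := Cfsg.Agent.Lib.Helper1.centralizer_pCore_le (G := ↥R) 2 hO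
    have hmem : (⟨r, hr⟩ : ↥R) ∈ Subgroup.centralizer (Cfsg.pCore 2 ↥R : Set ↥R) := by
      rw [Subgroup.mem_centralizer_iff]
      intro t ht
      apply Subtype.ext
      have := hcomm (t : G) (Subgroup.mem_map.mpr ⟨t, ht, rfl⟩)
      exact this.symm
    exact Subgroup.mem_map.mpr ⟨⟨r, hr⟩, h hmem, rfl⟩

end Cfsg.Agent.Lib.Helper5.CUB
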