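import Mathlib
import Cfsg.Prelude
import Cfsg.Agent.Lib.Helper1.PL2
import Cfsg.Agent.Lib.Helper1.PLengthOne
import Cfsg.Agent.Lib.Helper1.Coprime
import Cfsg.Agent.Lib.Helper5.CUBS3

/-! Farm CUB (S4415): the data `hR3`, `hBR`, `hRB` of unit S3 for `R = ⁅O_{3'}(S), B⁆`. -/
set_option autoImplicit false
set_option maxHeartbeats 1000000
set_option linter.unusedVariables false
set_option linter.style.longLine false
set_option linter.style.haveILetI false
open scoped commutatorElement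

namespace Cfsg.Agent.Lib.Helper5.CUB

open Cfsg.Agent.Lib.Helper1

variable {S : Type*} [Group S]

/-- `R = ⁅O_{3'}(S), B⁆` for `|B| = 3`: a `3'`-group, normalized by `B`, with `⁅R, B⁆ = R`,
contained in and normalized by `O_{3'}(S)`. -/
theorem comm_data [Finite S] [Group.IsSolvable S] (B : Subgroup S) (hB : Nat.card ↥B = 3) :
    (Nat.card ↥⁅Cfsg.pPrimeCore 3 S, B⁆).Coprime 3 ∧
      B ≤ Subgroup.normalizer ((⁅Cfsg.pPrimeCore 3 S, B⁆ : Subgroup S) : Set S) ∧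
      ⁅⁅Cfsg.pPrimeCore 3 S, B⁆, B⁆ = ⁅Cfsg.pPrimeCore 3 S, B⁆ ∧
      ⁅Cfsg.pPrimeCore 3 S, B⁆ ≤ Cfsg.pPrimeCore 3 S ∧
      Cfsg.pPrimeCore 3 S ≤ Subgroup.normalizer ((⁅Cfsg.pPrimeCore 3 S, B⁆ : Subgroup S) : Set S) := by
  haveI hKn : (Cfsg.pPrimeCore 3 S).Normal := pPrimeCore_normal 3 S
  have hK3 : (Nat.card ↥(Cfsg.pPrimeCore 3 S)).Coprime 3 := pPrimeCore_card_coprime 3
  have hnormK : ∀ X : Subgroup S, X ≤ Subgroup.normalizer ((Cfsg.pPrimeCore 3 S : Subgroup S) : Set S) := by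
    intro X
    rw [Subgroup.normalizer_eq_top]
    exact le_top
  have hle : ⁅Cfsg.pPrimeCore 3 S, B⁆ ≤ Cfsg.pPrimeCore 3 S := Subgroup.commutator_le_left _ _
  refine ⟨Nat.Coprime.coprime_dvd_left (Subgroup.card_dvd_of_le hle) hK3,
    PL.le_normalizer_commutator (hnormK B) Subgroup.le_normalizer, ?_, hle, ?_⟩
  · apply coprime_commutator_commutator B (Cfsg.pPrimeCore 3 S) (hnormK B)
    · rw [hB]
      exact hK3.symm
    · right
      infer_instance
  · -- `K` normalizes `⁅K, B⁆`: for `k, k' ∈ K`, `c ∈ B`: `k ⁅k', c⁆ k⁻¹ = ⁅k k', c⁆ ⁅k, c⁆⁻¹`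
    rw [Subgroup.le_normalizer_iff_commutator_le_left]
    -- `⁅⁅K,B⁆, K⁆ ≤ ⁅K,B⁆`
    rw [Subgroup.commutator_le]
    intro x hx k hk
    have hmem : ∀ y ∈ ⁅Cfsg.pPrimeCore 3 S, B⁆, k * y * k⁻¹ ∈ ⁅Cfsg.pPrimeCore 3 S, B⁆ := by
      intro y hy
      refine Subgroup.closure_induction (p := fun y _ => k * y * k⁻¹ ∈ ⁅Cfsg.pPrimeCore 3 S, B⁆)
        ?_ ?_ ?_ ?_ hy
      · rintro y ⟨k', hk', c, hc, rfl⟩
        have h1 : k * ⁅k', c⁆ * k⁻¹ = ⁅k * k', c⁆ * ⁅k, c⁆⁻¹ := by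
          simp only [commutatorElement_def]
          group
        rw [h1]
        exact Subgroup.mul_mem _
          (Subgroup.commutator_mem_commutator (Subgroup.mul_mem _ hk hk') hc)
          (Subgroup.inv_mem _ (Subgroup.commutator_mem_commutator hk hc))
      · simp
      · intro a c _ _ ha hc
        have h1 : k * (a * c) * k⁻¹ = (k * a * k⁻¹) * (k * c * k⁻¹) := by group
        rw [h1]
        exact Subgroup.mul_mem _ ha hc
      · intro a _ ha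
        have h1 : k * a⁻¹ * k⁻¹ = (k * a * k⁻¹)⁻¹ := by group
        rw [h1]
        exact Subgroup.inv_mem _ ha
    rw [commutatorElement_def]
    have h2 : x * k * x⁻¹ * k⁻¹ = x * (k * x⁻¹ * k⁻¹) := by group
    rw [h2]
    exact Subgroup.mul_mem _ hx (hmem _ (Subgroup.inv_mem _ hx))

end Cfsg.Agent.Lib.Helper5.CUB
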