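import Mathlib
import Cfsg.Prelude
import Cfsg.Agent.Lib.Helper5.CUBS3
import Cfsg.Agent.Lib.Helper5.CUBS3Glue
import Cfsg.Agent.Lib.Helper8.CUBFour

/-! Farm CUB (S4415): the second conjunct of the frozen conclusion from `FourData` and
`Q ≤ ⁅O_{3'}(S), B⁆`. -/
set_option autoImplicit false
set_option linter.unusedVariables false
set_option linter.style.longLine false
open scoped commutatorElement

namespace Cfsg.Agent.Lib.Helper5.CUB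

open Cfsg.Agent.Lib.Helper8.CUB

variable {S : Type*} [Group S] {E : Type*} [AddCommGroup E] [Module (ZMod 3) E]

/-- The module half of S4415 (second conjunct of the frozen conclusion, verbatim). -/
theorem second_half [Finite S] [Group.IsSolvable S] [Finite E] (ρ : Representation (ZMod 3) S E)
    (B : Subgroup S) (hB : Nat.card ↥B = 3) (b : S) (hb : Subgroup.zpowers b = B)
    (Q : Subgroup S) (hd : FourData ρ b Q) (hQR : Q ≤ ⁅Cfsg.pPrimeCore 3 S, B⁆) :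
    ∃ F₀ F₁ : Submodule (ZMod 3) E, F₀ ⊓ F₁ = ⊥ ∧ F₀ ⊔ F₁ = ⊤ ∧
      (∀ r ∈ ⁅Cfsg.pPrimeCore 3 S, B⁆, ∀ v ∈ F₁, ρ r v = v) ∧
      (∀ r ∈ ⁅Cfsg.pPrimeCore 3 S, B⁆ ⊔ B, ∀ v ∈ F₀, ρ r v ∈ F₀) ∧
      (∀ r ∈ ⁅Cfsg.pPrimeCore 3 S, B⁆ ⊔ B, (∀ v ∈ F₀, ρ r v = v) → r = 1) ∧
      (∀ N : Submodule (ZMod 3) E, N ≤ F₀ →
        (∀ r ∈ ⁅Cfsg.pPrimeCore 3 S, B⁆ ⊔ B, ∀ v ∈ N, ρ r v ∈ N) → N = ⊥ ∨ N = F₀) := by
  obtain ⟨h1, h2, h3, -, -⟩ := comm_data B hB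
  exact s3 ρ hd.faith _ B Q b hb h1 h2 h3 hQR hd.fix_b' hd.dichotomy'

end Cfsg.Agent.Lib.Helper5.CUB
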