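import Mathlib
import Cfsg.Prelude.Def_ChevStructure
import Cfsg.Agent.Lib.Helper5.ChevBruhatNF

set_option autoImplicit false

/-!
Elements of `H` conjugate in `G` are conjugate in `N`.
-/

namespace Cfsg.Agent.Lib.Helper5.ChevStruct

open Cfsg Cfsg.Lie Cfsg.Agent.Lib.Helper5.ChevSym

variable {F : Type*} [Field F]

/-- `H` normalises `U_n⁻` -/
theorem diag_conj_mem_unegOf (D : ChevalleyDatum) (hD : D ∈ Seven) (n : GL D.Idx F)
    (h : GL D.Idx F) (hh : h ∈ D.diagonalSubgroup F) (g : GL D.Idx F)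
    (hg : g ∈ unegOf D F n) : h * g * h⁻¹ ∈ unegOf D F n := by
  obtain ⟨c, hc, hval⟩ := exists_torusMat_of_mem D hD h hh
  unfold unegOf at hg
  induction hg using Subgroup.closure_induction with
  | mem y hy =>
    obtain ⟨s, u, hs, hle, hy⟩ := hy
    apply Subgroup.subset_closure
    exact ⟨s, chi D c s * u, hs, hle, torus_conj_x D hD h y c hc hval s u hy⟩
  | one =>
    simp only [mul_one, mul_inv_cancel]
    exact one_mem _
  | mul a b _ _ ha hb =>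
    have e : h * (a * b) * h⁻¹ = (h * a * h⁻¹) * (h * b * h⁻¹) := by group
    rw [e]
    exact mul_mem ha hb
  | inv a _ ha =>
    have e : h * a⁻¹ * h⁻¹ = (h * a * h⁻¹)⁻¹ := by group
    rw [e]
    exact inv_mem ha

/-- two elements of `H` conjugate in `G` are conjugate in `N` -/
theorem diagonal_conj_in_monomial (D : ChevalleyDatum) (hD : D ∈ Seven) (h₁ h₂ g : GL D.Idx F)
    (h1 : h₁ ∈ D.diagonalSubgroup F) (h2 : h₂ ∈ D.diagonalSubgroup F) (hg : g ∈ D.group F)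
    (hc : g * h₁ * g⁻¹ = h₂) : ∃ n ∈ D.monomialSubgroup F, n * h₁ * n⁻¹ = h₂ := by
  obtain ⟨b, hb, n, hn, u, hu, rfl⟩ := bruhat_exists D hD g hg
  -- `b = u₁ h'`
  have hb' : b ∈ ((D.posUnipotent F ⊔ D.diagonalSubgroup F : Subgroup (GL D.Idx F)) :
      Set (GL D.Idx F)) := hb
  rw [Subgroup.coe_mul_of_right_le_normalizer_left _ _ (diagonal_le_normalizer_pos D hD)] at hb'
  obtain ⟨u₁, hu₁, h', hh', rfl⟩ := Set.mem_mul.1 hb'
  have hnh : n * h₁ * n⁻¹ ∈ D.diagonalSubgroup F := (conj_monomial_diag_mem D hD n hn h₁ h1).1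
  have hB1 : u₁ * h' * (n * h₁ * n⁻¹) ∈ D.borelSubgroup F :=
    (D.borelSubgroup F).mul_mem hb (diagonal_le_borel D hnh)
  have hB2 : h₂ * (u₁ * h') ∈ D.borelSubgroup F :=
    (D.borelSubgroup F).mul_mem (diagonal_le_borel D h2) hb
  have hu2 : h₁⁻¹ * u * h₁⁻¹⁻¹ ∈ unegOf D F n :=
    diag_conj_mem_unegOf D hD n _ (inv_mem h1) u hu
  have e : (u₁ * h' * (n * h₁ * n⁻¹)) * n * (h₁⁻¹ * u * h₁⁻¹⁻¹) = (h₂ * (u₁ * h')) * n * u := by
    rw [← hc]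
    group
  obtain ⟨-, huniq⟩ := bruhat_unique D hD _ _ n n _ _ hB1 hB2 hn hn hu2 hu e
  obtain ⟨e1, -⟩ := huniq rfl
  -- `u₁⁻¹ h₂ u₁ h₂⁻¹ ∈ U ∩ H`
  set h₃ : GL D.Idx F := h' * (n * h₁ * n⁻¹) * h'⁻¹ with hh₃
  have hh₃m : h₃ ∈ D.diagonalSubgroup F :=
    (D.diagonalSubgroup F).mul_mem ((D.diagonalSubgroup F).mul_mem hh' hnh)
      ((D.diagonalSubgroup F).inv_mem hh')
  have e2 : u₁⁻¹ * h₂ * u₁ = h₃ := by
    have : h₂ = u₁ * h' * (n * h₁ * n⁻¹) * (u₁ * h')⁻¹ := by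
      rw [e1]; group
    rw [this, hh₃]
    group
  have e3 : u₁⁻¹ * (h₂ * u₁ * h₂⁻¹) = h₃ * h₂⁻¹ := by
    rw [← e2]; group
  have hU : u₁⁻¹ * (h₂ * u₁ * h₂⁻¹) ∈ D.posUnipotent F := by
    apply (D.posUnipotent F).mul_mem ((D.posUnipotent F).inv_mem hu₁)
    have hn2 := diagonal_le_normalizer_pos (F := F) D hD h2
    exact (Subgroup.mem_normalizer_iff.1 hn2 u₁).1 hu₁
  have hH : u₁⁻¹ * (h₂ * u₁ * h₂⁻¹) ∈ D.diagonalSubgroup F := by
    rw [e3]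
    exact (D.diagonalSubgroup F).mul_mem hh₃m ((D.diagonalSubgroup F).inv_mem h2)
  have h4 : u₁⁻¹ * (h₂ * u₁ * h₂⁻¹) ∈ D.posUnipotent F ⊓ D.diagonalSubgroup F := ⟨hU, hH⟩
  rw [pos_inf_diagonal D hD, Subgroup.mem_bot, e3] at h4
  have h5 : h₃ = h₂ := by
    have := congrArg (fun x => x * h₂) h4
    simpa using this
  refine ⟨h' * n, (D.monomialSubgroup F).mul_mem (diagonal_le_monomial D hh') hn, ?_⟩
  rw [← h5, hh₃]
  group

end Cfsg.Agent.Lib.Helper5.ChevStruct
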