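import Mathlib
import Cfsg.Prelude.Def_ChevAutomorphisms
import Cfsg.Agent.Lib.Helper5.ChevGenN
import Cfsg.Agent.Lib.Helper5.ChevChk.GenN
import Cfsg.Agent.Lib.Helper5.ChevChk.GenNE7
import Cfsg.Agent.Lib.Helper5.ChevChk.GenNE8

set_option autoImplicit false

/-!
The Chevalley groups are generated by `N` and one (or two) fundamental root subgroups.
-/

namespace Cfsg.Agent.Lib.Helper5.ChevStruct

open Cfsg Cfsg.Lie Cfsg.Agent.Lib.Helper5.ChevSym

variable {K : Type*} [Field K]

theorem natCast_ne_zero_of_ringChar (p : ℕ) (hp : p.Prime) (h : ringChar K ≠ p) :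
    ((p : ℕ) : K) ≠ 0 := by
  intro h0
  have hdvd : ringChar K ∣ p := (ringChar.spec K p).1 h0
  rcases (Nat.dvd_prime hp).1 hdvd with h1 | h1
  · exact CharP.ringChar_ne_one h1
  · exact h h1

/-- generation by `N` and one short fundamental root subgroup -/
theorem group_le_monomial_sup_root (D : ChevalleyDatum) (hD : D ∈ Seven)
    (h2 : D ∈ [chevB2, chevF4] → ringChar K ≠ 2) (h3 : D = chevG2 → ringChar K ≠ 3)
    (i : ℕ) (hi : i < D.rank) (hshort : D.isLong (D.simple i) = false) :
    D.group K ≤ D.monomialSubgroup K ⊔ D.rootSubgroup K (D.simple i) := by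
  have hN : D.monomialSubgroup K ≤ D.monomialSubgroup K ⊔ D.rootSubgroup K (D.simple i) :=
    le_sup_left
  have h0 : ∀ t, xGL D hD (D.simple i) t ∈
      D.monomialSubgroup K ⊔ D.rootSubgroup K (D.simple i) :=
    fun t => Subgroup.mem_sup_right (xGL_mem_rootSubgroup D hD _ t)
  have hlt : D.simple i < D.nroots := simple_lt D hD i hi
  have hD' := hD
  simp only [Seven, List.mem_cons, List.not_mem_nil, or_false] at hD'
  rcases hD' with rfl | rfl | rfl | rfl | rfl | rfl | rfl
  · -- G2
    have hi0 : i = 0 := short_G2 i hi hshort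
    subst hi0
    obtain ⟨a1, a2, a3, a4, a5, a6⟩ := reach_G2
    have hc : (((-3 : ℤ)) : K) ≠ 0 := by
      have := natCast_ne_zero_of_ringChar (K := K) 3 (by norm_num) (h3 rfl)
      push_cast at this ⊢
      simpa using this
    exact group_le_of_reach_two chevG2 hD _ hN _ hlt h0 4 8 6 (-3) a1 a2 (by decide) a4 a3 hc a5 a6
  · -- B2
    have hi0 : i = 0 := short_B2 i hi hshort
    subst hi0
    obtain ⟨a1, a2, a3, a4, a5, a6⟩ := reach_B2
    have hc : (((2 : ℤ)) : K) ≠ 0 := by
      have := natCast_ne_zero_of_ringChar (K := K) 2 (by norm_num) (h2 (by simp))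
      push_cast at this ⊢
      simpa using this
    exact group_le_of_reach_two chevB2 hD _ hN _ hlt h0 5 6 7 2 a1 a2 (by decide) a4 a3 hc a5 a6
  · -- D4
    exact group_le_of_reach chevD4 hD _ hN [chevD4.simple i] (by
      intro k hk
      rw [List.mem_singleton] at hk
      subst hk
      exact ⟨hlt, h0⟩) (reach_D4 i hi)
  · -- F4
    have hi2 : i < 2 := short_F4 i hi hshort
    obtain ⟨a1, a2, a3, a4, a5, a6⟩ := reach_F4 i hi2
    have hc : (((2 : ℤ)) : K) ≠ 0 := by
      have := natCast_ne_zero_of_ringChar (K := K) 2 (by norm_num) (h2 (by simp))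
      push_cast at this ⊢
      simpa using this
    exact group_le_of_reach_two chevF4 hD _ hN _ hlt h0 3 18 0 2 a1 a2 (by decide) a4 a3 hc a5 a6
  · exact group_le_of_reach chevE6 hD _ hN [chevE6.simple i] (by
      intro k hk
      rw [List.mem_singleton] at hk
      subst hk
      exact ⟨hlt, h0⟩) (reach_E6 i hi)
  · exact group_le_of_reach chevE7 hD _ hN [chevE7.simple i] (by
      intro k hk
      rw [List.mem_singleton] at hk
      subst hk
      exact ⟨hlt, h0⟩) (reach_E7 i hi)
  · obtain ⟨hw, hact⟩ := wtabE8_ok i hi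
    have h0' : ∀ t, xGL chevE8 hD (chevE8.simple 0) t ∈
        chevE8.monomialSubgroup K ⊔ chevE8.rootSubgroup K (chevE8.simple i) := by
      rw [← hact]
      exact orb_mem chevE8 hD _ hN _ hlt h0 _ hw
    exact group_le_of_reach chevE8 hD _ hN [chevE8.simple 0] (by
      intro k hk
      rw [List.mem_singleton] at hk
      subst hk
      exact ⟨simple_lt chevE8 hD 0 (by decide), h0'⟩) reach_E8

/-- generation by `N` and two fundamental root subgroups of different lengths -/
theorem group_le_monomial_sup_two (D : ChevalleyDatum) (hD : D ∈ [chevB2, chevF4, chevG2])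
    (i j : ℕ) (hi : i < D.rank) (hj : j < D.rank) (hshort : D.isLong (D.simple i) = false)
    (hlong : D.isLong (D.simple j) = true) :
    D.group K ≤ D.monomialSubgroup K ⊔ D.rootSubgroup K (D.simple i)
      ⊔ D.rootSubgroup K (D.simple j) := by
  have hS : D ∈ Seven := by
    simp only [List.mem_cons, List.not_mem_nil, or_false] at hD
    rcases hD with rfl | rfl | rfl <;> simp [Seven]
  have hreach : checkReach D [D.simple i, D.simple j] = true := by
    simp only [List.mem_cons, List.not_mem_nil, or_false] at hD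
    rcases hD with rfl | rfl | rfl
    · exact reach2_B2 i hi j hj hshort hlong
    · exact reach2_F4 i hi j hj hshort hlong
    · exact reach2_G2 i hi j hj hshort hlong
  apply group_le_of_reach D hS _ (le_trans le_sup_left le_sup_left) [D.simple i, D.simple j] _ hreach
  intro k hk
  simp only [List.mem_cons, List.not_mem_nil, or_false] at hk
  rcases hk with rfl | rfl
  · exact ⟨simple_lt D hS i hi, fun t =>
      Subgroup.mem_sup_left (Subgroup.mem_sup_right (xGL_mem_rootSubgroup D hS _ t))⟩
  · exact ⟨simple_lt D hS j hj, fun t =>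
      Subgroup.mem_sup_right (xGL_mem_rootSubgroup D hS _ t)⟩

end Cfsg.Agent.Lib.Helper5.ChevStruct
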