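import Mathlib
import Cfsg.Prelude.Def_ChevStructure
import Cfsg.Prelude.Def_ChevAutomorphisms
import Cfsg.Agent.Lib.Helper5.ChevGraph
import Cfsg.Agent.Lib.Helper5.ChevChk.GraphData2
import Cfsg.Agent.Lib.Helper5.ChevSimpleGen

set_option autoImplicit false

/-!
An automorphism of a Chevalley group of type `D₄` or `E₆` permuting the fundamental root elements
(and their negatives) according to a symmetry of the Dynkin diagram maps every root element
`x_r(t)` to `x_{π r}(± t)`.
-/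

namespace Cfsg.Agent.Lib.Helper5.ChevStruct

open Cfsg Cfsg.Lie Cfsg.Agent.Lib.Helper5.ChevSym

variable {F : Type*} [Field F]

/-- the abstract statement, given the table checks for a signed permutation of the basis -/
theorem graph_sign_of_data (D : ChevalleyDatum) (hD : D ∈ Seven) (G : GraphData)
    (hP : checkGraphPerm D G = true) (hG : ∀ r < D.nroots, checkGraphAt D G r = true)
    (π : Equiv.Perm (Fin D.rank))
    (hs : ∀ i : Fin D.rank, G.pr.getD (D.simple i) 0 = D.simple (π i) ∧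
      G.eps.getD (D.simple i) 1 = 1 ∧
      G.pr.getD (D.neg (D.simple i)) 0 = D.neg (D.simple (π i)) ∧
      G.eps.getD (D.neg (D.simple i)) 1 = 1)
    (hpr : ∀ r < D.nroots, G.pr.getD r 0 = D.permRoot π r ∧
      (G.eps.getD r 1 = 1 ∨ G.eps.getD r 1 = -1))
    (φ : ↥(D.group F) ≃* ↥(D.group F))
    (hφ : ∀ (g : ↥(D.group F)) (i : Fin D.rank) (t : F),
      (((g : GL D.Idx F) : Matrix D.Idx D.Idx F) = D.x F (D.simple i) t →
        ((φ g : GL D.Idx F) : Matrix D.Idx D.Idx F) = D.x F (D.simple (π i)) t) ∧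
      (((g : GL D.Idx F) : Matrix D.Idx D.Idx F) = D.x F (D.neg (D.simple i)) t →
        ((φ g : GL D.Idx F) : Matrix D.Idx D.Idx F) = D.x F (D.neg (D.simple (π i))) t))
    (r : ℕ) (hr : r < D.nroots) :
    ∃ ε : F, (ε = 1 ∨ ε = -1) ∧ ∀ (g : ↥(D.group F)) (t : F),
      ((g : GL D.Idx F) : Matrix D.Idx D.Idx F) = D.x F r t →
        ((φ g : GL D.Idx F) : Matrix D.Idx D.Idx F) = D.x F (D.permRoot π r) (ε * t) := by
  obtain ⟨α, hα⟩ := exists_graphAut_x (F := F) D G hP hG
  have hsl : ∀ i : Fin D.rank, D.simple i < D.nroots := fun i =>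
    (checkRows_spec D (checkRows_all D hD) i i.2).2.1
  have hnl : ∀ i : Fin D.rank, D.neg (D.simple i) < D.nroots := fun i =>
    (neg_lt D hD _ (hsl i)).1
  have heq : ∀ y, φ.toMonoidHom y = α.toMonoidHom y := by
    apply hom_ext_simple D hD
    intro y i t hi hy
    show φ y = α y
    apply Subtype.ext
    apply Units.ext
    obtain ⟨h1, h2, h3, h4⟩ := hs ⟨i, hi⟩
    rcases hy with hy | hy
    · rw [(hφ y ⟨i, hi⟩ t).1 hy, hα y _ t (hsl ⟨i, hi⟩) hy, h1, h2, Int.cast_one, one_mul]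
    · rw [(hφ y ⟨i, hi⟩ t).2 hy, hα y _ t (hnl ⟨i, hi⟩) hy, h3, h4, Int.cast_one, one_mul]
  refine ⟨((G.eps.getD r 1 : ℤ) : F), ?_, fun g t hg => ?_⟩
  · rcases (hpr r hr).2 with h | h
    · left; rw [h, Int.cast_one]
    · right; rw [h, Int.cast_neg, Int.cast_one]
  · have : φ g = α g := heq g
    rw [this, hα g r t hr hg, (hpr r hr).1]

end Cfsg.Agent.Lib.Helper5.ChevStruct
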