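import Mathlib
import Cfsg.Prelude.Def_ChevStructure
import Cfsg.Agent.Lib.Helper5.ChevWCoxStd
import Cfsg.Agent.Lib.Helper5.ChevChk.CoxOrdG2
import Cfsg.Agent.Lib.Helper5.ChevChk.CoxOrdB2
import Cfsg.Agent.Lib.Helper5.ChevChk.CoxOrdD4
import Cfsg.Agent.Lib.Helper5.ChevChk.CoxOrdF4
import Cfsg.Agent.Lib.Helper5.ChevChk.CoxOrdE6
import Cfsg.Agent.Lib.Helper5.ChevChk.CoxOrdE7
import Cfsg.Agent.Lib.Helper5.ChevChk.CoxOrdE8

set_option autoImplicit false

/-!
The Coxeter matrices of the Weyl groups of the seven types, and the order of the Coxeter element.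
-/

namespace Cfsg.Agent.Lib.Helper5.ChevStruct

open Cfsg Cfsg.Lie Cfsg.Agent.Lib.Helper5.ChevSym

theorem weylMatrix_G2 (hD : chevG2 ∈ Seven) : weylMatrix chevG2 hD = (CoxeterMatrix.G₂ : CoxeterMatrix (Fin 2)) := by
  apply coxeterMatrix_ext
  intro i j
  rw [weylMatrix_eq_of_check chevG2 hD coxListG2 chkCoxMat_G2]
  have key : ∀ p : Fin 2 × Fin 2,
      (coxListG2.getD p.1.val []).getD p.2.val 0 = ((CoxeterMatrix.G₂ : CoxeterMatrix (Fin 2)).M p.1 p.2 : ℕ) := by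
    decide
  exact key (i, j)

theorem orderOf_coxElt_G2 (hD : chevG2 ∈ Seven) :
    orderOf (wPerm chevG2 hD (List.range 2)) = 6 := by
  have e : List.range 2 = [0, 1] := by decide
  rw [e]
  apply orderOf_wPerm_of_check chevG2 hD _ _ [2, 3, 5] chkCoxElt_G2 (by norm_num)
  intro p hp hpm
  exact prime_dvd_360 p hp (dvd_trans hpm (by norm_num))

theorem weylMatrix_B2 (hD : chevB2 ∈ Seven) : weylMatrix chevB2 hD = (CoxeterMatrix.B 2 : CoxeterMatrix (Fin 2)) := by
  apply coxeterMatrix_ext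
  intro i j
  rw [weylMatrix_eq_of_check chevB2 hD coxListB2 chkCoxMat_B2]
  have key : ∀ p : Fin 2 × Fin 2,
      (coxListB2.getD p.1.val []).getD p.2.val 0 = ((CoxeterMatrix.B 2 : CoxeterMatrix (Fin 2)).M p.1 p.2 : ℕ) := by
    decide
  exact key (i, j)

theorem orderOf_coxElt_B2 (hD : chevB2 ∈ Seven) :
    orderOf (wPerm chevB2 hD (List.range 2)) = 4 := by
  have e : List.range 2 = [0, 1] := by decide
  rw [e]
  apply orderOf_wPerm_of_check chevB2 hD _ _ [2, 3, 5] chkCoxElt_B2 (by norm_num)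
  intro p hp hpm
  exact prime_dvd_360 p hp (dvd_trans hpm (by norm_num))

theorem weylMatrix_D4 (hD : chevD4 ∈ Seven) : weylMatrix chevD4 hD = (coxeterD4 : CoxeterMatrix (Fin 4)) := by
  apply coxeterMatrix_ext
  intro i j
  rw [weylMatrix_eq_of_check chevD4 hD coxListD4 chkCoxMat_D4]
  have key : ∀ p : Fin 4 × Fin 4,
      (coxListD4.getD p.1.val []).getD p.2.val 0 = ((coxeterD4 : CoxeterMatrix (Fin 4)).M p.1 p.2 : ℕ) := by
    decide
  exact key (i, j)

theorem orderOf_coxElt_D4 (hD : chevD4 ∈ Seven) :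
    orderOf (wPerm chevD4 hD (List.range 4)) = 6 := by
  have e : List.range 4 = [0, 1, 2, 3] := by decide
  rw [e]
  apply orderOf_wPerm_of_check chevD4 hD _ _ [2, 3, 5] chkCoxElt_D4 (by norm_num)
  intro p hp hpm
  exact prime_dvd_360 p hp (dvd_trans hpm (by norm_num))

theorem weylMatrix_F4 (hD : chevF4 ∈ Seven) : weylMatrix chevF4 hD = (CoxeterMatrix.F₄ : CoxeterMatrix (Fin 4)) := by
  apply coxeterMatrix_ext
  intro i j
  rw [weylMatrix_eq_of_check chevF4 hD coxListF4 chkCoxMat_F4]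
  have key : ∀ p : Fin 4 × Fin 4,
      (coxListF4.getD p.1.val []).getD p.2.val 0 = ((CoxeterMatrix.F₄ : CoxeterMatrix (Fin 4)).M p.1 p.2 : ℕ) := by
    decide
  exact key (i, j)

theorem orderOf_coxElt_F4 (hD : chevF4 ∈ Seven) :
    orderOf (wPerm chevF4 hD (List.range 4)) = 12 := by
  have e : List.range 4 = [0, 1, 2, 3] := by decide
  rw [e]
  apply orderOf_wPerm_of_check chevF4 hD _ _ [2, 3, 5] chkCoxElt_F4 (by norm_num)
  intro p hp hpm
  exact prime_dvd_360 p hp (dvd_trans hpm (by norm_num))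

theorem weylMatrix_E6 (hD : chevE6 ∈ Seven) : weylMatrix chevE6 hD = (CoxeterMatrix.E₆ : CoxeterMatrix (Fin 6)) := by
  apply coxeterMatrix_ext
  intro i j
  rw [weylMatrix_eq_of_check chevE6 hD coxListE6 chkCoxMat_E6]
  have key : ∀ p : Fin 6 × Fin 6,
      (coxListE6.getD p.1.val []).getD p.2.val 0 = ((CoxeterMatrix.E₆ : CoxeterMatrix (Fin 6)).M p.1 p.2 : ℕ) := by
    decide
  exact key (i, j)

theorem orderOf_coxElt_E6 (hD : chevE6 ∈ Seven) :
    orderOf (wPerm chevE6 hD (List.range 6)) = 12 := by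
  have e : List.range 6 = [0, 1, 2, 3, 4, 5] := by decide
  rw [e]
  apply orderOf_wPerm_of_check chevE6 hD _ _ [2, 3, 5] chkCoxElt_E6 (by norm_num)
  intro p hp hpm
  exact prime_dvd_360 p hp (dvd_trans hpm (by norm_num))

theorem weylMatrix_E7 (hD : chevE7 ∈ Seven) : weylMatrix chevE7 hD = (CoxeterMatrix.E₇ : CoxeterMatrix (Fin 7)) := by
  apply coxeterMatrix_ext
  intro i j
  rw [weylMatrix_eq_of_check chevE7 hD coxListE7 chkCoxMat_E7]
  have key : ∀ p : Fin 7 × Fin 7,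
      (coxListE7.getD p.1.val []).getD p.2.val 0 = ((CoxeterMatrix.E₇ : CoxeterMatrix (Fin 7)).M p.1 p.2 : ℕ) := by
    decide
  exact key (i, j)

theorem orderOf_coxElt_E7 (hD : chevE7 ∈ Seven) :
    orderOf (wPerm chevE7 hD (List.range 7)) = 18 := by
  have e : List.range 7 = [0, 1, 2, 3, 4, 5, 6] := by decide
  rw [e]
  apply orderOf_wPerm_of_check chevE7 hD _ _ [2, 3, 5] chkCoxElt_E7 (by norm_num)
  intro p hp hpm
  exact prime_dvd_360 p hp (dvd_trans hpm (by norm_num))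

theorem weylMatrix_E8 (hD : chevE8 ∈ Seven) : weylMatrix chevE8 hD = (CoxeterMatrix.E₈ : CoxeterMatrix (Fin 8)) := by
  apply coxeterMatrix_ext
  intro i j
  rw [weylMatrix_eq_of_check chevE8 hD coxListE8 chkCoxMat_E8]
  have key : ∀ p : Fin 8 × Fin 8,
      (coxListE8.getD p.1.val []).getD p.2.val 0 = ((CoxeterMatrix.E₈ : CoxeterMatrix (Fin 8)).M p.1 p.2 : ℕ) := by
    decide
  exact key (i, j)

theorem orderOf_coxElt_E8 (hD : chevE8 ∈ Seven) :
    orderOf (wPerm chevE8 hD (List.range 8)) = 30 := by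
  have e : List.range 8 = [0, 1, 2, 3, 4, 5, 6, 7] := by decide
  rw [e]
  apply orderOf_wPerm_of_check chevE8 hD _ _ [2, 3, 5] chkCoxElt_E8 (by norm_num)
  intro p hp hpm
  exact prime_dvd_360 p hp (dvd_trans hpm (by norm_num))

end Cfsg.Agent.Lib.Helper5.ChevStruct
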