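import Mathlib
import Cfsg.Prelude.Def_ChevStructure
import Cfsg.Agent.Lib.Helper5.ChevWCoxTypes
import Cfsg.Agent.Lib.Helper5.ChevWPoinc

set_option autoImplicit false

/-!
The orders of the Coxeter groups of the seven types and of their Coxeter elements.
-/

namespace Cfsg.Agent.Lib.Helper5.ChevStruct

open Cfsg Cfsg.Lie Cfsg.Agent.Lib.Helper5.ChevSym

theorem card_coxGroup_G2 : Nat.card (CoxeterMatrix.G₂ : CoxeterMatrix (Fin 2)).Group = 12 := by
  have h := card_coxGroup chevG2 mem_seven_G2 (CoxeterMatrix.G₂ : CoxeterMatrix (Fin 2))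
    (weylMatrix_G2 mem_seven_G2)
  have h2 : poinc chevG2 mem_seven_G2 (fullSet chevG2) 1 = 12 := by
    have := poinc_G2 1
    unfold fullSet
    rw [this]
    simp
  exact h.trans h2

theorem orderOf_coxProd_G2 :
    orderOf ((List.finRange 2).map (CoxeterMatrix.G₂ : CoxeterMatrix (Fin 2)).simple).prod = 6 := by
  have h := orderOf_prod_simple chevG2 mem_seven_G2 (CoxeterMatrix.G₂ : CoxeterMatrix (Fin 2))
    (weylMatrix_G2 mem_seven_G2) (List.finRange 2) (List.range 2) List.map_coe_finRange_eq_range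
  exact h.trans (orderOf_coxElt_G2 mem_seven_G2)

theorem card_coxGroup_B2 : Nat.card (CoxeterMatrix.B 2 : CoxeterMatrix (Fin 2)).Group = 8 := by
  have h := card_coxGroup chevB2 mem_seven_B2 (CoxeterMatrix.B 2 : CoxeterMatrix (Fin 2))
    (weylMatrix_B2 mem_seven_B2)
  have h2 : poinc chevB2 mem_seven_B2 (fullSet chevB2) 1 = 8 := by
    have := poinc_B2 1
    unfold fullSet
    rw [this]
    simp
  exact h.trans h2

theorem orderOf_coxProd_B2 :
    orderOf ((List.finRange 2).map (CoxeterMatrix.B 2 : CoxeterMatrix (Fin 2)).simple).prod = 4 := by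
  have h := orderOf_prod_simple chevB2 mem_seven_B2 (CoxeterMatrix.B 2 : CoxeterMatrix (Fin 2))
    (weylMatrix_B2 mem_seven_B2) (List.finRange 2) (List.range 2) List.map_coe_finRange_eq_range
  exact h.trans (orderOf_coxElt_B2 mem_seven_B2)

theorem card_coxGroup_D4 : Nat.card (coxeterD4 : CoxeterMatrix (Fin 4)).Group = 192 := by
  have h := card_coxGroup chevD4 mem_seven_D4 (coxeterD4 : CoxeterMatrix (Fin 4))
    (weylMatrix_D4 mem_seven_D4)
  have h2 : poinc chevD4 mem_seven_D4 (fullSet chevD4) 1 = 192 := by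
    have := poinc_D4 1
    unfold fullSet
    rw [this]
    simp
  exact h.trans h2

theorem orderOf_coxProd_D4 :
    orderOf ((List.finRange 4).map (coxeterD4 : CoxeterMatrix (Fin 4)).simple).prod = 6 := by
  have h := orderOf_prod_simple chevD4 mem_seven_D4 (coxeterD4 : CoxeterMatrix (Fin 4))
    (weylMatrix_D4 mem_seven_D4) (List.finRange 4) (List.range 4) List.map_coe_finRange_eq_range
  exact h.trans (orderOf_coxElt_D4 mem_seven_D4)

theorem card_coxGroup_F4 : Nat.card (CoxeterMatrix.F₄ : CoxeterMatrix (Fin 4)).Group = 1152 := by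
  have h := card_coxGroup chevF4 mem_seven_F4 (CoxeterMatrix.F₄ : CoxeterMatrix (Fin 4))
    (weylMatrix_F4 mem_seven_F4)
  have h2 : poinc chevF4 mem_seven_F4 (fullSet chevF4) 1 = 1152 := by
    have := poinc_F4 1
    unfold fullSet
    rw [this]
    simp
  exact h.trans h2

theorem orderOf_coxProd_F4 :
    orderOf ((List.finRange 4).map (CoxeterMatrix.F₄ : CoxeterMatrix (Fin 4)).simple).prod = 12 := by
  have h := orderOf_prod_simple chevF4 mem_seven_F4 (CoxeterMatrix.F₄ : CoxeterMatrix (Fin 4))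
    (weylMatrix_F4 mem_seven_F4) (List.finRange 4) (List.range 4) List.map_coe_finRange_eq_range
  exact h.trans (orderOf_coxElt_F4 mem_seven_F4)

theorem card_coxGroup_E6 : Nat.card (CoxeterMatrix.E₆ : CoxeterMatrix (Fin 6)).Group = 51840 := by
  have h := card_coxGroup chevE6 mem_seven_E6 (CoxeterMatrix.E₆ : CoxeterMatrix (Fin 6))
    (weylMatrix_E6 mem_seven_E6)
  have h2 : poinc chevE6 mem_seven_E6 (fullSet chevE6) 1 = 51840 := by
    have := poinc_E6 1
    unfold fullSet
    rw [this]
    simp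
  exact h.trans h2

theorem orderOf_coxProd_E6 :
    orderOf ((List.finRange 6).map (CoxeterMatrix.E₆ : CoxeterMatrix (Fin 6)).simple).prod = 12 := by
  have h := orderOf_prod_simple chevE6 mem_seven_E6 (CoxeterMatrix.E₆ : CoxeterMatrix (Fin 6))
    (weylMatrix_E6 mem_seven_E6) (List.finRange 6) (List.range 6) List.map_coe_finRange_eq_range
  exact h.trans (orderOf_coxElt_E6 mem_seven_E6)

theorem card_coxGroup_E7 : Nat.card (CoxeterMatrix.E₇ : CoxeterMatrix (Fin 7)).Group = 2903040 := by
  have h := card_coxGroup chevE7 mem_seven_E7 (CoxeterMatrix.E₇ : CoxeterMatrix (Fin 7))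
    (weylMatrix_E7 mem_seven_E7)
  have h2 : poinc chevE7 mem_seven_E7 (fullSet chevE7) 1 = 2903040 := by
    have := poinc_E7 1
    unfold fullSet
    rw [this]
    simp
  exact h.trans h2

theorem orderOf_coxProd_E7 :
    orderOf ((List.finRange 7).map (CoxeterMatrix.E₇ : CoxeterMatrix (Fin 7)).simple).prod = 18 := by
  have h := orderOf_prod_simple chevE7 mem_seven_E7 (CoxeterMatrix.E₇ : CoxeterMatrix (Fin 7))
    (weylMatrix_E7 mem_seven_E7) (List.finRange 7) (List.range 7) List.map_coe_finRange_eq_range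
  exact h.trans (orderOf_coxElt_E7 mem_seven_E7)

theorem card_coxGroup_E8 : Nat.card (CoxeterMatrix.E₈ : CoxeterMatrix (Fin 8)).Group = 696729600 := by
  have h := card_coxGroup chevE8 mem_seven_E8 (CoxeterMatrix.E₈ : CoxeterMatrix (Fin 8))
    (weylMatrix_E8 mem_seven_E8)
  have h2 : poinc chevE8 mem_seven_E8 (fullSet chevE8) 1 = 696729600 := by
    have := poinc_E8 1
    unfold fullSet
    rw [this]
    simp
  exact h.trans h2

theorem orderOf_coxProd_E8 :
    orderOf ((List.finRange 8).map (CoxeterMatrix.E₈ : CoxeterMatrix (Fin 8)).simple).prod = 30 := by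
  have h := orderOf_prod_simple chevE8 mem_seven_E8 (CoxeterMatrix.E₈ : CoxeterMatrix (Fin 8))
    (weylMatrix_E8 mem_seven_E8) (List.finRange 8) (List.range 8) List.map_coe_finRange_eq_range
  exact h.trans (orderOf_coxElt_E8 mem_seven_E8)

end Cfsg.Agent.Lib.Helper5.ChevStruct
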