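import Mathlib

set_option autoImplicit false

namespace Cfsg.Agent.Lib.Helper5

/-- Splitting of a conjugacy class of `G` contained in the kernel `S` of a surjective
homomorphism `d : G → A` to a commutative group: the number of `S`-classes in the `G`-class of
`u₀` is the index of the image under `d` of the centralizer of `u₀`. -/
theorem card_conjClasses_splitting {S G A : Type*} [Group S] [Group G] [CommGroup A]
    (ι : S →* G) (hι : Function.Injective ι) (d : G →* A) (hd : Function.Surjective d)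
    (hker : ∀ h : G, d h = 1 → ∃ k : S, ι k = h) (hker' : ∀ k : S, d (ι k) = 1)
    (u₀ : G) (hu₀ : d u₀ = 1) :
    Nat.card {C : ConjClasses S // ∃ u : S, ConjClasses.mk u = C ∧ IsConj u₀ (ι u)} =
      ((Subgroup.centralizer {u₀}).map d).index := by
  classical
  set T := (Subgroup.centralizer {u₀}).map d with hT
  have hch : ∀ C : {C : ConjClasses S // ∃ u : S, ConjClasses.mk u = C ∧ IsConj u₀ (ι u)},
      ∃ p : S × G, ConjClasses.mk p.1 = C.1 ∧ p.2 * u₀ * p.2⁻¹ = ι p.1 := by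
    rintro ⟨C, u, hu, hconj⟩
    obtain ⟨g, hg⟩ := isConj_iff.1 hconj
    exact ⟨(u, g), hu, hg⟩
  choose p hp1 hp2 using hch
  let δ : {C : ConjClasses S // ∃ u : S, ConjClasses.mk u = C ∧ IsConj u₀ (ι u)} → A ⧸ T :=
    fun C => QuotientGroup.mk (d (p C).2)
  have hδ : Function.Bijective δ := by
    constructor
    · intro C C' h
      simp only [δ] at h
      rw [QuotientGroup.eq, hT, Subgroup.mem_map] at h
      obtain ⟨z, hz, hdz⟩ := h
      rw [Subgroup.mem_centralizer_singleton_iff] at hz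
      set g := (p C).2
      set g' := (p C').2
      set u := (p C).1
      set u' := (p C').1
      have hg : g * u₀ * g⁻¹ = ι u := hp2 C
      have hg' : g' * u₀ * g'⁻¹ = ι u' := hp2 C'
      obtain ⟨k, hk⟩ := hker (g' * z⁻¹ * g⁻¹) (by
        simp only [map_mul, map_inv, hdz]
        rw [mul_inv_rev, inv_inv]
        group)
      have hconj : k * u * k⁻¹ = u' := by
        apply hι
        simp only [map_mul, map_inv, hk]
        rw [← hg, ← hg']
        have hz' : z⁻¹ * u₀ * z = u₀ := by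
          rw [mul_assoc, ← hz, ← mul_assoc, inv_mul_cancel, one_mul]
        calc g' * z⁻¹ * g⁻¹ * (g * u₀ * g⁻¹) * (g' * z⁻¹ * g⁻¹)⁻¹
            = g' * (z⁻¹ * u₀ * z) * g'⁻¹ := by group
          _ = g' * u₀ * g'⁻¹ := by rw [hz']
      apply Subtype.ext
      rw [← hp1 C, ← hp1 C']
      exact ConjClasses.mk_eq_mk_iff_isConj.2 (isConj_iff.2 ⟨k, hconj⟩)
    · intro x
      obtain ⟨a, rfl⟩ := QuotientGroup.mk_surjective x
      obtain ⟨g₁, hg₁⟩ := hd a
      obtain ⟨u₁, hu₁⟩ := hker (g₁ * u₀ * g₁⁻¹) (by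
        simp only [map_mul, map_inv, hu₀]
        simp)
      have hmem : ∃ u : S, ConjClasses.mk u = ConjClasses.mk u₁ ∧ IsConj u₀ (ι u) :=
        ⟨u₁, rfl, isConj_iff.2 ⟨g₁, hu₁.symm⟩⟩
      refine ⟨⟨ConjClasses.mk u₁, hmem⟩, ?_⟩
      simp only [δ]
      set C : {C : ConjClasses S // ∃ u : S, ConjClasses.mk u = C ∧ IsConj u₀ (ι u)} :=
        ⟨ConjClasses.mk u₁, hmem⟩ with hC
      set g := (p C).2
      set u := (p C).1
      have hg : g * u₀ * g⁻¹ = ι u := hp2 C
      have hu : ConjClasses.mk u = ConjClasses.mk u₁ := hp1 C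
      obtain ⟨k, hk⟩ := isConj_iff.1 (ConjClasses.mk_eq_mk_iff_isConj.1 hu)
      rw [QuotientGroup.eq, hT, Subgroup.mem_map]
      refine ⟨g⁻¹ * (ι k)⁻¹ * g₁, ?_, ?_⟩
      · rw [Subgroup.mem_centralizer_singleton_iff]
        have h1 : ι k * (g * u₀ * g⁻¹) * (ι k)⁻¹ = g₁ * u₀ * g₁⁻¹ := by
          rw [hg, ← hu₁, ← hk]
          simp only [map_mul, map_inv]
        have h2 : u₀ = g⁻¹ * (ι k)⁻¹ * (g₁ * u₀ * g₁⁻¹) * ι k * g := by
          rw [← h1]; group
        calc g⁻¹ * (ι k)⁻¹ * g₁ * u₀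
            = g⁻¹ * (ι k)⁻¹ * (g₁ * u₀ * g₁⁻¹) * ι k * g * (g⁻¹ * (ι k)⁻¹ * g₁) := by group
          _ = u₀ * (g⁻¹ * (ι k)⁻¹ * g₁) := by rw [← h2]
      · simp only [map_mul, map_inv, hker' k, hg₁]
        simp
  rw [Subgroup.index, ← Nat.card_congr (Equiv.ofBijective δ hδ)]

end Cfsg.Agent.Lib.Helper5
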