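import Mathlib
import Cfsg.Agent.Lib.Helper2.Cr5Defs
import Cfsg.Agent.Lib.Helper5.C5F
set_option autoImplicit false
set_option linter.unusedVariables false
set_option linter.style.longLine false
open Cfsg.Agent.Lib.Helper8.C5 Cfsg.Agent.Lib.Helper2.Cr5

/-!
# S3600 piece R1: a `C5`-extension of a nontrivial elementary abelian `2`-group by `A₅`
has spectrum exactly `{1,2,3,4,5}`.
-/

universe u v

namespace Cfsg.Agent.Lib.Helper5.Cr5

theorem a5_ex5 : ∃ x : A5, x ≠ 1 ∧ x ^ 5 = 1 := by decide +kernel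

theorem spec_of_ext_hom {Y : Type u} [Group Y] [Finite Y] (h5 : C5 Y) (M : Subgroup Y)
    (hMe : ∀ m ∈ M, m ^ 2 = 1) (hM1 : M ≠ ⊥) (f : Y →* A5) (hsurj : Function.Surjective f)
    (hker : ∀ y, f y = 1 ↔ y ∈ M) :
    Set.range (orderOf : Y → ℕ) = ({1, 2, 3, 4, 5} : Set ℕ) := by
  have hM2 : IsPGroup 2 ↥M := by
    intro m
    refine ⟨1, ?_⟩
    have := hMe m.1 m.2
    apply Subtype.ext
    simpa using this
  haveI : Fact (Nat.Prime 2) := ⟨Nat.prime_two⟩
  haveI : Fact (Nat.Prime 3) := ⟨by norm_num⟩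
  haveI : Fact (Nat.Prime 5) := ⟨by norm_num⟩
  obtain ⟨m0, hm0M, hm01⟩ : ∃ m ∈ M, m ≠ 1 := by
    by_contra hno
    push Not at hno
    exact hM1 ((Subgroup.eq_bot_iff_forall M).mpr hno)
  have hm02 : orderOf m0 = 2 := orderOf_eq_prime (hMe m0 hm0M) hm01
  have hlift : ∀ (p : ℕ) [Fact p.Prime], 3 ≤ p → ∀ x : A5, x ≠ 1 → x ^ p = 1 →
      ∀ y : Y, f y = x → orderOf y = p := by
    intro p hp hp3 x hx1 hxp y hy
    have hord : orderOf (f y) = p := by rw [hy]; exact orderOf_eq_prime hxp hx1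
    have hdvd : p ∣ orderOf y := by rw [← hord]; exact orderOf_map_dvd f y
    have hle := (h5 y).2
    obtain ⟨c, hc⟩ := hdvd
    have hpos := (h5 y).1
    have hc1 : c = 1 := by
      rcases c with _ | _ | c
      · omega
      · rfl
      · exfalso
        have : 6 ≤ p * (c + 1 + 1) := by nlinarith
        omega
    rw [hc, hc1, mul_one]
  obtain ⟨x3, _, hx31, hx33, _⟩ := A5raw.three
  obtain ⟨x5, hx51, hx55⟩ := a5_ex5
  obtain ⟨y3, hy3⟩ := hsurj x3
  obtain ⟨y5, hy5⟩ := hsurj x5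
  have ho3 := hlift 3 le_rfl x3 hx31 hx33 y3 hy3
  have ho5 := hlift 5 (by norm_num) x5 hx51 hx55 y5 hy5
  have ho4 : ∃ y : Y, orderOf y = 4 := by
    by_contra hno
    push Not at hno
    have hcent : ∀ a : Y, (f a) ^ 2 = 1 → ∀ m ∈ M, a * m = m * a := by
      intro a ha m hm
      have hsq : ∀ m ∈ M, (a * m) ^ 2 = 1 := by
        intro m hm
        have hmem : (a * m) ^ 2 ∈ M := by
          rw [← hker, map_pow, map_mul, (hker m).mpr hm, mul_one]; exact ha
        have h4 : (a * m) ^ 4 = 1 := by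
          have := hMe _ hmem
          rw [← pow_mul] at this; exact this
        have hd : orderOf (a * m) ∣ 2 ^ 2 := orderOf_dvd_of_pow_eq_one h4
        obtain ⟨j, hj2, hj⟩ := (Nat.dvd_prime_pow Nat.prime_two).mp hd
        have hd2 : orderOf (a * m) ∣ 2 := by
          interval_cases j
          · rw [hj]; norm_num
          · rw [hj]; norm_num
          · exfalso; exact hno (a * m) (by rw [hj]; norm_num)
        exact orderOf_dvd_iff_pow_eq_one.mp hd2
      have ha2 : a ^ 2 = 1 := by simpa using hsq 1 M.one_mem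
      have ham := hsq m hm
      have hm2 := hMe m hm
      have hainv : a⁻¹ = a := by rw [inv_eq_iff_mul_eq_one, ← pow_two]; exact ha2
      have hminv : m⁻¹ = m := by rw [inv_eq_iff_mul_eq_one, ← pow_two]; exact hm2
      have h1 : (a * m)⁻¹ = a * m := by rw [inv_eq_iff_mul_eq_one, ← pow_two]; exact ham
      rw [mul_inv_rev, hainv, hminv] at h1
      exact h1.symm
    obtain ⟨t, ht2, htx⟩ := A5raw.inv3 x3 hx31 hx33
    obtain ⟨t', ht'⟩ := hsurj t
    obtain ⟨s', hs'⟩ := hsurj (t * x3)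
    have hs2 : (t * x3) ^ 2 = 1 := by
      have htinv : t⁻¹ = t := by rw [inv_eq_iff_mul_eq_one, ← pow_two]; exact ht2
      rw [pow_two]
      calc t * x3 * (t * x3) = (t * x3 * t⁻¹) * x3 := by rw [htinv]; group
        _ = 1 := by rw [htx]; group
    have hy : f (t' * s') = x3 := by
      rw [map_mul, ht', hs', ← mul_assoc, ← pow_two, ht2, one_mul]
    have hfpf := (Cfsg.Agent.Lib.Helper5.C5.F_lift3 h5 M hM2 f (t' * s')
      (by rw [hy]; exact hx31) (by rw [hy]; exact hx33)).2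
    apply hm01
    apply hfpf m0 hm0M
    have h1 := hcent t' (by rw [ht']; exact ht2) m0 hm0M
    have h2 := hcent s' (by rw [hs']; exact hs2) m0 hm0M
    rw [mul_assoc, h2, ← mul_assoc, h1, mul_assoc]
  obtain ⟨y4, hy4⟩ := ho4
  ext k
  simp only [Set.mem_range, Set.mem_insert_iff, Set.mem_singleton_iff]
  constructor
  · rintro ⟨y, rfl⟩
    exact h5.cases y
  · rintro (rfl | rfl | rfl | rfl | rfl)
    · exact ⟨1, orderOf_one⟩
    · exact ⟨m0, hm02⟩
    · exact ⟨y3, ho3⟩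
    · exact ⟨y4, hy4⟩
    · exact ⟨y5, ho5⟩

theorem spec_of_ext {Y : Type u} [Group Y] [Finite Y] (h5 : C5 Y) (M : Subgroup Y) [M.Normal]
    (hMe : ∀ m ∈ M, m ^ 2 = 1) (hM1 : M ≠ ⊥) (e : Y ⧸ M ≃* A5) :
    Set.range (orderOf : Y → ℕ) = ({1, 2, 3, 4, 5} : Set ℕ) := by
  refine spec_of_ext_hom h5 M hMe hM1 (e.toMonoidHom.comp (QuotientGroup.mk' M))
    (e.surjective.comp (QuotientGroup.mk'_surjective M)) ?_
  intro h
  simp [QuotientGroup.eq_one_iff]

end Cfsg.Agent.Lib.Helper5.Cr5
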