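import Mathlib
import Cfsg.Agent.Lib.Helper2.Cr5Defs
import Cfsg.Agent.Lib.Helper5.Cr5R1
set_option autoImplicit false
set_option linter.unusedVariables false
set_option linter.style.longLine false
open Cfsg.Agent.Lib.Helper8.C5 Cfsg.Agent.Lib.Helper2.Cr5

/-!
# S3600 piece R2: in a critical group the elementary abelian normal subgroup is minimal normal.
-/

universe u v

namespace Cfsg.Agent.Lib.Helper5.Cr5

theorem minimal_of_crit {G : Type u} [Group G] [Finite G]
    (hcrit : ∀ (H : Subgroup G) (N : Subgroup ↥H) [N.Normal], (H ≠ ⊤ ∨ N ≠ ⊥) →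
      Set.range (orderOf : (↥H ⧸ N) → ℕ) ≠ ({1, 2, 3, 4, 5} : Set ℕ))
    (h5 : C5 G) (N : Subgroup G) [N.Normal] (hNe : ∀ m ∈ N, m ^ 2 = 1) (e : G ⧸ N ≃* A5)
    (M : Subgroup G) [M.Normal] (hMN : M ≤ N) (hM1 : M ≠ ⊥) : M = N := by
  by_contra hne
  -- the homomorphism G → A5
  let f : G →* A5 := e.toMonoidHom.comp (QuotientGroup.mk' N)
  have hfsurj : Function.Surjective f := e.surjective.comp (QuotientGroup.mk'_surjective N)
  have hfker : ∀ g, f g = 1 ↔ g ∈ N := by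
    intro g
    simp [f, QuotientGroup.eq_one_iff]
  -- induced hom on G ⧸ M
  let f' : G ⧸ M →* A5 := QuotientGroup.lift M f (fun m hm => (hfker m).mpr (hMN hm))
  have hf'mk : ∀ g : G, f' (QuotientGroup.mk g) = f g := fun g => rfl
  have hf'surj : Function.Surjective f' := by
    intro a
    obtain ⟨g, hg⟩ := hfsurj a
    exact ⟨QuotientGroup.mk g, by rw [hf'mk, hg]⟩
  set M' : Subgroup (G ⧸ M) := N.map (QuotientGroup.mk' M) with hM'
  have hf'ker : ∀ y, f' y = 1 ↔ y ∈ M' := by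
    intro y
    obtain ⟨g, rfl⟩ := QuotientGroup.mk_surjective y
    rw [hf'mk, hfker]
    constructor
    · intro hg
      exact Subgroup.mem_map_of_mem (QuotientGroup.mk' M) hg
    · intro hg
      obtain ⟨n, hn, hng⟩ := Subgroup.mem_map.mp hg
      have h1 : n⁻¹ * g ∈ M := by
        rw [← QuotientGroup.eq]
        exact hng
      have h2 : n * (n⁻¹ * g) ∈ N := N.mul_mem hn (hMN h1)
      rwa [mul_inv_cancel_left] at h2
  have hM'e : ∀ m ∈ M', m ^ 2 = 1 := by
    intro m hm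
    obtain ⟨n, hn, rfl⟩ := Subgroup.mem_map.mp hm
    rw [← map_pow, hNe n hn, map_one]
  have hM'1 : M' ≠ ⊥ := by
    intro hbot
    apply hne
    apply le_antisymm hMN
    intro n hn
    have h1 : QuotientGroup.mk' M n ∈ M' := Subgroup.mem_map_of_mem _ hn
    rw [hbot, Subgroup.mem_bot] at h1
    exact (QuotientGroup.eq_one_iff n).mp h1
  have hspec := spec_of_ext_hom (h5.quotient M) M' hM'e hM'1 f' hf'surj hf'ker
  -- the section ⊤ / M.subgroupOf ⊤
  have hsec := hcrit ⊤ (M.subgroupOf ⊤) (Or.inr (by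
    intro hbot
    apply hM1
    rw [Subgroup.eq_bot_iff_forall]
    intro x hx
    have h1 : (⟨x, Subgroup.mem_top x⟩ : ↥(⊤ : Subgroup G)) ∈ M.subgroupOf ⊤ :=
      Subgroup.mem_subgroupOf.mpr hx
    rw [hbot, Subgroup.mem_bot] at h1
    exact congrArg Subtype.val h1))
  apply hsec
  have he : (M.subgroupOf ⊤).map
      ((Subgroup.topEquiv : ↥(⊤ : Subgroup G) ≃* G) : ↥(⊤ : Subgroup G) →* G) = M := by
    ext x
    constructor
    · rintro ⟨y, hy, rfl⟩
      exact Subgroup.mem_subgroupOf.mp hy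
    · intro hx
      exact ⟨⟨x, Subgroup.mem_top x⟩, Subgroup.mem_subgroupOf.mpr hx, rfl⟩
  let E : (↥(⊤ : Subgroup G) ⧸ M.subgroupOf ⊤) ≃* G ⧸ M :=
    QuotientGroup.congr (M.subgroupOf ⊤) M Subgroup.topEquiv he
  rw [← hspec]
  have hcomp : (orderOf : (↥(⊤ : Subgroup G) ⧸ M.subgroupOf ⊤) → ℕ) =
      (orderOf : G ⧸ M → ℕ) ∘ E := by
    funext y
    exact (MulEquiv.orderOf_eq E y).symm
  rw [hcomp, E.surjective.range_comp]

end Cfsg.Agent.Lib.Helper5.Cr5
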