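import Mathlib
import Cfsg.Agent.Lib.Helper6.IndFunMore
import Cfsg.Agent.Lib.Helper4.U33Cfg

/-!
# S3670, unit A1: Mackey's intertwining formula for a group with two `(B,B)` double cosets
-/

set_option autoImplicit false
set_option linter.unusedSectionVars false

namespace Cfsg.Agent.Lib.Helper5.U33Mackey

open Cfsg Cfsg.Agent.Lib.Helper6 Cfsg.Agent.Lib.Helper6.IndFunMore
open scoped ComplexConjugate

variable {G : Type*} [Group G] [Fintype G]

/-- the double coset function `Φ(x) = ∑_{b ∈ B} μ(b) conj(ν°(x⁻¹ b x))` -/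
noncomputable def h5_Phi (B : Subgroup G) [Fintype B] (μ ν : B → ℂ) (x : G) : ℂ :=
  ∑ b : B, μ b * conj (Cfsg.extendByZero B ν (x⁻¹ * (b : G) * x))

theorem h5_ext_conj (B : Subgroup G) (ν : B → ℂ) (hν : Cfsg.IsClassFunction B ν) (b₂ : B) (y : G) :
    Cfsg.extendByZero B ν ((b₂ : G)⁻¹ * y * b₂) = Cfsg.extendByZero B ν y := by
  by_cases hy : y ∈ B
  · have hy' : (b₂ : G)⁻¹ * y * b₂ ∈ B := B.mul_mem (B.mul_mem (B.inv_mem b₂.2) hy) b₂.2
    rw [extendByZero_of_mem _ _ hy, extendByZero_of_mem _ _ hy']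
    have := hν ⟨y, hy⟩ b₂⁻¹
    rw [← this]
    congr 1
    apply Subtype.ext
    simp
  · have hy' : (b₂ : G)⁻¹ * y * b₂ ∉ B := by
      intro h
      apply hy
      have : y = (b₂ : G) * ((b₂ : G)⁻¹ * y * b₂) * (b₂ : G)⁻¹ := by group
      rw [this]
      exact B.mul_mem (B.mul_mem b₂.2 h) (B.inv_mem b₂.2)
    rw [extendByZero_of_not_mem _ _ hy, extendByZero_of_not_mem _ _ hy']

theorem h5_Phi_mul_right (B : Subgroup G) [Fintype B] (μ ν : B → ℂ)
    (hν : Cfsg.IsClassFunction B ν) (b₂ : B) (x : G) :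
    h5_Phi B μ ν (x * b₂) = h5_Phi B μ ν x := by
  unfold h5_Phi
  apply Finset.sum_congr rfl
  intro b _
  have : (x * (b₂ : G))⁻¹ * (b : G) * (x * b₂) = (b₂ : G)⁻¹ * (x⁻¹ * b * x) * b₂ := by group
  rw [this, h5_ext_conj B ν hν]

theorem h5_Phi_mul_left (B : Subgroup G) [Fintype B] (μ ν : B → ℂ)
    (hμ : Cfsg.IsClassFunction B μ) (b₁ : B) (x : G) :
    h5_Phi B μ ν ((b₁ : G) * x) = h5_Phi B μ ν x := by
  unfold h5_Phi
  refine Fintype.sum_equiv (MulAut.conj b₁⁻¹).toEquiv _ _ ?_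
  intro b
  have h1 : μ ((MulAut.conj b₁⁻¹).toEquiv b) = μ b := by
    have := hμ b b₁⁻¹
    simpa using this
  rw [h1]
  congr 2
  have : ((MulAut.conj b₁⁻¹).toEquiv b : B) = b₁⁻¹ * b * b₁ := by
    simp [MulAut.conj_apply]
  rw [this]
  congr 1
  push_cast
  group

theorem h5_Phi_one (B : Subgroup G) [Fintype B] (μ ν : B → ℂ) :
    h5_Phi B μ ν 1 = (Nat.card B : ℂ) * Cfsg.classInner μ ν := by
  have hB : (Nat.card B : ℂ) ≠ 0 := card_ne_zero_complex B
  unfold h5_Phi Cfsg.classInner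
  rw [← mul_assoc, mul_inv_cancel₀ hB, one_mul]
  apply Finset.sum_congr rfl
  intro b _
  have : (1 : G)⁻¹ * (b : G) * 1 = b := by group
  rw [this, extendByZero_coe]

/-- **Mackey for two double cosets** (general form): if `G = B ∪ BwB` then for class functions
`μ, ν` of `B`:  `⟨μ^G, ν^G⟩ = ⟨μ,ν⟩_B + (|G|-|B|)/|B|² · Φ(w)`. -/
theorem mackey_two (B : Subgroup G) [Fintype B] (w : G)
    (hG : ∀ g : G, g ∈ B ∨ ∃ b ∈ B, ∃ b' ∈ B, g = b * w * b')
    (μ ν : B → ℂ) (hμ : Cfsg.IsClassFunction B μ) (hν : Cfsg.IsClassFunction B ν) :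
    Cfsg.classInner (Cfsg.indFun B μ) (Cfsg.indFun B ν) = Cfsg.classInner μ ν +
      ((Nat.card G : ℂ) - Nat.card B) / (Nat.card B : ℂ) ^ 2 * h5_Phi B μ ν w := by
  classical
  have hB : (Nat.card B : ℂ) ≠ 0 := card_ne_zero_complex B
  rw [classInner_indFun B μ _ (indFun_isClassFunction B ν)]
  -- expand the induced function
  have h1 : ∑ h : B, μ h * conj (Cfsg.indFun B ν h) =
      (Nat.card B : ℂ)⁻¹ * ∑ x : G, h5_Phi B μ ν x := by
    unfold h5_Phi
    rw [Finset.sum_comm, Finset.mul_sum]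
    apply Finset.sum_congr rfl
    intro h _
    unfold Cfsg.indFun
    rw [map_mul, map_inv₀, Complex.conj_natCast, map_sum, Finset.mul_sum, Finset.mul_sum,
      Finset.mul_sum]
    apply Finset.sum_congr rfl
    intro x _
    ring
  rw [h1]
  -- Φ is constant on B and on the complement
  have hin : ∀ x : G, x ∈ B → h5_Phi B μ ν x = h5_Phi B μ ν 1 := by
    intro x hx
    have := h5_Phi_mul_left B μ ν hμ ⟨x, hx⟩ 1
    simpa using this
  have hout : ∀ x : G, x ∉ B → h5_Phi B μ ν x = h5_Phi B μ ν w := by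
    intro x hx
    rcases hG x with h | ⟨b, hb, b', hb', rfl⟩
    · exact absurd h hx
    · have e1 : b * w * b' = (⟨b, hb⟩ : B) * (w * (⟨b', hb'⟩ : B)) := by
        simp [mul_assoc]
      rw [e1, h5_Phi_mul_left B μ ν hμ, h5_Phi_mul_right B μ ν hν]
  have hsplit : ∑ x : G, h5_Phi B μ ν x =
      (Nat.card B : ℂ) * h5_Phi B μ ν 1 + ((Nat.card G : ℂ) - Nat.card B) * h5_Phi B μ ν w := by
    rw [← Finset.sum_filter_add_sum_filter_not Finset.univ (fun x : G => x ∈ B)]
    rw [Finset.sum_congr rfl (fun x hx => hin x (Finset.mem_filter.mp hx).2),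
      Finset.sum_congr rfl (fun x hx => hout x (Finset.mem_filter.mp hx).2)]
    rw [Finset.sum_const, Finset.sum_const, nsmul_eq_mul, nsmul_eq_mul]
    have c1 : (Finset.univ.filter (fun x : G => x ∈ B)).card = Nat.card B := by
      rw [Nat.card_eq_fintype_card, Fintype.card_subtype]
    have c2 : ((Finset.univ.filter (fun x : G => ¬ x ∈ B)).card : ℂ) =
        (Nat.card G : ℂ) - Nat.card B := by
      have := Finset.card_filter_add_card_filter_not (s := (Finset.univ : Finset G))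
        (fun x : G => x ∈ B)
      rw [c1, Finset.card_univ, ← Nat.card_eq_fintype_card] at this
      rw [← this]
      push_cast
      ring
    rw [c1, c2]
  rw [hsplit, h5_Phi_one]
  field_simp

/-- the value of `Φ(w)` in a configuration `Cfg`: a sum over the powers of `t`. -/
theorem h5_Phi_cfg {B U : Subgroup G} {t w : G} [Fintype B]
    (h : Cfsg.Agent.Lib.Helper4.U33X.Cfg G B U t w) (μ ν : B → ℂ) :
    h5_Phi B μ ν w = ∑ i ∈ Finset.range 8,
      μ ⟨t ^ i, B.pow_mem h.t_mem i⟩ * conj (ν ⟨t ^ (5 * i), B.pow_mem h.t_mem (5 * i)⟩) := by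
  classical
  unfold h5_Phi
  -- conjugation of powers of t by w
  have hconj : ∀ i : ℕ, w⁻¹ * t ^ i * w = t ^ (5 * i) := by
    intro i
    induction i with
    | zero => simp
    | succ n ih =>
      have : w⁻¹ * t ^ (n + 1) * w = (w⁻¹ * t ^ n * w) * (w⁻¹ * t * w) := by
        rw [pow_succ]; group
      rw [this, ih, h.conj_t, ← pow_add]
      congr 1
  -- the map i ↦ t^i into B
  let f : ℕ → B := fun i => ⟨t ^ i, B.pow_mem h.t_mem i⟩
  have hinj : Set.InjOn f (Finset.range 8 : Finset ℕ) := by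
    intro i hi j hj hij
    have hij' : t ^ i = t ^ j := congrArg Subtype.val hij
    have hi' : i < orderOf t := by rw [h.order_t]; exact Finset.mem_range.mp hi
    have hj' : j < orderOf t := by rw [h.order_t]; exact Finset.mem_range.mp hj
    exact pow_injOn_Iio_orderOf hi' hj' hij'
  rw [← Finset.sum_subset (Finset.subset_univ ((Finset.range 8).image f))]
  · rw [Finset.sum_image hinj]
    apply Finset.sum_congr rfl
    intro i _
    have hm : w⁻¹ * ((f i : B) : G) * w ∈ B := by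
      show w⁻¹ * t ^ i * w ∈ B
      rw [hconj]; exact B.pow_mem h.t_mem _
    rw [extendByZero_of_mem _ _ hm]
    congr 3
    apply Subtype.ext
    exact hconj i
  · intro b _ hb
    have hnot : w⁻¹ * (b : G) * w ∉ B := by
      intro hm
      apply hb
      have hz := h.inter b b.2 hm
      rw [Subgroup.mem_zpowers_iff] at hz
      obtain ⟨k, hk⟩ := hz
      have hpos : 0 < orderOf t := by rw [h.order_t]; norm_num
      rw [Finset.mem_image]
      refine ⟨(k % (orderOf t : ℤ)).toNat, ?_, ?_⟩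
      · rw [Finset.mem_range, ← h.order_t]
        have h2 : k % (orderOf t : ℤ) < orderOf t := Int.emod_lt_of_pos _ (by exact_mod_cast hpos)
        have h3 : 0 ≤ k % (orderOf t : ℤ) := Int.emod_nonneg _ (by exact_mod_cast hpos.ne')
        omega
      · apply Subtype.ext
        show t ^ (k % (orderOf t : ℤ)).toNat = (b : G)
        rw [← hk, ← zpow_natCast, Int.toNat_of_nonneg
          (Int.emod_nonneg _ (by exact_mod_cast hpos.ne')), zpow_mod_orderOf]
    rw [extendByZero_of_not_mem _ _ hnot, map_zero, mul_zero]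

/-- **Mackey in a configuration `Cfg`** (`PSU(3,3)` on 28 points): for class functions `μ, ν`
of `B`,  `⟨μ^G, ν^G⟩ = ⟨μ,ν⟩_B + (1/8) ∑_{i<8} μ(t^i) conj(ν(t^{5i}))`. -/
theorem mackey_cfg {B U : Subgroup G} {t w : G} [Fintype B]
    (h : Cfsg.Agent.Lib.Helper4.U33X.Cfg G B U t w) (μ ν : B → ℂ)
    (hμ : Cfsg.IsClassFunction B μ) (hν : Cfsg.IsClassFunction B ν) :
    Cfsg.classInner (Cfsg.indFun B μ) (Cfsg.indFun B ν) = Cfsg.classInner μ ν +
      (1 / 8 : ℂ) * ∑ i ∈ Finset.range 8,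
        μ ⟨t ^ i, B.pow_mem h.t_mem i⟩ * conj (ν ⟨t ^ (5 * i), B.pow_mem h.t_mem (5 * i)⟩) := by
  rw [mackey_two B w h.two_trans μ ν hμ hν, h5_Phi_cfg h μ ν]
  have hcB : Nat.card B = 216 := by
    have := B.card_mul_index
    rw [h.index_B, h.card_G] at this
    omega
  rw [h.card_G, hcB]
  norm_num

end Cfsg.Agent.Lib.Helper5.U33Mackey
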