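import Mathlib
import Cfsg.Agent.Lib.Helper9.D3670Defs
import Cfsg.Agent.Lib.Helper8.D3670A1
import Cfsg.Agent.Lib.Helper6.D3670A2
import Cfsg.Agent.Lib.Helper5.U33Mackey

/-! S3670 unit A4: Mackey for two double cosets, linear characters (helper9's stub, verbatim). -/

set_option autoImplicit false
set_option linter.unusedSectionVars false

namespace Cfsg.Agent.Lib.Helper9.D3670

open scoped ComplexConjugate
open Cfsg.Agent.Lib.Helper5.U33Mackey Cfsg.Agent.Lib.Helper6

universe u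

variable {G : Type u} [Group G]

/-- `Φ(w)` when `B ∩ wBw⁻¹ = ⟨t⟩` and `w⁻¹ tⁿ w = t^(kn)`. -/
theorem h5_Phi_cyclic [Fintype G] (B : Subgroup G) [Fintype B] (t w : G) (k m : ℕ) (ht : t ∈ B)
    (hord : orderOf t = m) (hm : 0 < m)
    (hinter : ∀ x ∈ B, w⁻¹ * x * w ∈ B → x ∈ Subgroup.zpowers t)
    (hconj : ∀ n : ℕ, w⁻¹ * t ^ n * w = t ^ (k * n)) (μ ν : B → ℂ) :
    h5_Phi B μ ν w = ∑ n ∈ Finset.range m,
      μ ⟨t ^ n, B.pow_mem ht n⟩ * conj (ν ⟨t ^ (k * n), B.pow_mem ht (k * n)⟩) := by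
  classical
  unfold h5_Phi
  let f : ℕ → B := fun i => ⟨t ^ i, B.pow_mem ht i⟩
  have hinj : Set.InjOn f (Finset.range m : Finset ℕ) := by
    intro i hi j hj hij
    have hij' : t ^ i = t ^ j := congrArg Subtype.val hij
    have hi' : i < orderOf t := by rw [hord]; exact Finset.mem_range.mp hi
    have hj' : j < orderOf t := by rw [hord]; exact Finset.mem_range.mp hj
    exact pow_injOn_Iio_orderOf hi' hj' hij'
  rw [← Finset.sum_subset (Finset.subset_univ ((Finset.range m).image f))]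
  · rw [Finset.sum_image hinj]
    apply Finset.sum_congr rfl
    intro i _
    have hm' : w⁻¹ * ((f i : B) : G) * w ∈ B := by
      show w⁻¹ * t ^ i * w ∈ B
      rw [hconj]; exact B.pow_mem ht _
    rw [extendByZero_of_mem _ _ hm']
    congr 3
    apply Subtype.ext
    exact hconj i
  · intro b _ hb
    have hnot : w⁻¹ * (b : G) * w ∉ B := by
      intro hmem
      apply hb
      have hz := hinter b b.2 hmem
      rw [Subgroup.mem_zpowers_iff] at hz
      obtain ⟨z, hz⟩ := hz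
      have hpos : 0 < orderOf t := by rw [hord]; exact hm
      rw [Finset.mem_image]
      refine ⟨(z % (orderOf t : ℤ)).toNat, ?_, ?_⟩
      · rw [Finset.mem_range, ← hord]
        have h2 : z % (orderOf t : ℤ) < orderOf t := Int.emod_lt_of_pos _ (by exact_mod_cast hpos)
        have h3 : 0 ≤ z % (orderOf t : ℤ) := Int.emod_nonneg _ (by exact_mod_cast hpos.ne')
        omega
      · apply Subtype.ext
        show t ^ (z % (orderOf t : ℤ)).toNat = (b : G)
        rw [← hz, ← zpow_natCast, Int.toNat_of_nonneg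
          (Int.emod_nonneg _ (by exact_mod_cast hpos.ne')), zpow_mod_orderOf]
    rw [extendByZero_of_not_mem _ _ hnot, map_zero, mul_zero]

/-- the complex conjugate of a value of a homomorphism to `ℂˣ` from a finite group -/
theorem h5_conj_hom {K : Type*} [Group K] [Finite K] (ω : K →* ℂˣ) (b : K) :
    conj ((ω b : ℂˣ) : ℂ) = (((ω b)⁻¹ : ℂˣ) : ℂ) := by
  have hn : 0 < orderOf b := orderOf_pos b
  have h1 : ((ω b : ℂˣ) : ℂ) ^ orderOf b = 1 := by
    rw [← Units.val_pow_eq_pow_val, ← map_pow, pow_orderOf_eq_one, map_one, Units.val_one]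
  have hnorm : ‖((ω b : ℂˣ) : ℂ)‖ = 1 := by
    have h2 : ‖((ω b : ℂˣ) : ℂ)‖ ^ orderOf b = 1 := by rw [← norm_pow, h1, norm_one]
    exact (pow_eq_one_iff_of_nonneg (norm_nonneg _) hn.ne').mp h2
  rw [Units.val_inv_eq_inv_val, Complex.inv_eq_conj hnorm]

/-- orthogonality of the linear characters of a finite group given as homomorphisms -/
theorem h5_classInner_hom {K : Type*} [Group K] [Fintype K] (ω₁ ω₂ : K →* ℂˣ) :
    Cfsg.classInner (fun b : K => ((ω₁ b : ℂˣ) : ℂ)) (fun b : K => ((ω₂ b : ℂˣ) : ℂ)) =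
      if ω₁ = ω₂ then 1 else 0 := by
  classical
  have hK : (Nat.card K : ℂ) ≠ 0 := card_ne_zero_complex K
  unfold Cfsg.classInner
  let f : K →* ℂ := (Units.coeHom ℂ).comp (ω₁ * ω₂⁻¹)
  have hf : ∀ b : K, ((ω₁ b : ℂˣ) : ℂ) * conj ((ω₂ b : ℂˣ) : ℂ) = f b := by
    intro b
    rw [h5_conj_hom]
    simp [f]
  rw [Finset.sum_congr rfl (fun b _ => hf b)]
  split_ifs with h
  · have hf1 : ∀ b : K, f b = 1 := by
      intro b
      simp [f, h]
    rw [Finset.sum_congr rfl (fun b _ => hf1 b), Finset.sum_const, Finset.card_univ,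
      nsmul_eq_mul, mul_one, ← Nat.card_eq_fintype_card, inv_mul_cancel₀ hK]
  · have hne : f ≠ 1 := by
      intro hf1
      apply h
      ext b
      have := congrArg (fun g : K →* ℂ => g b) hf1
      simp only [f, MonoidHom.comp_apply, MonoidHom.mul_apply, MonoidHom.inv_apply,
        Units.coeHom_apply, MonoidHom.one_apply] at this
      have h2 : ω₁ b * (ω₂ b)⁻¹ = 1 := Units.ext (by simpa using this)
      have h3 : ω₁ b = ω₂ b := by
        have := mul_inv_eq_one.mp h2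
        exact this
      rw [h3]
    rw [sum_hom_units_eq_zero f hne, mul_zero]

/-- A4: Mackey for two double cosets, linear characters. -/
theorem classInner_ind_ind [Fintype G] (D : BData G) (hG : Nat.card G = 6048) (L : LinFam D)
    (i j : Fin 8) :
    Cfsg.classInner (L.ind i) (L.ind j) =
      (if i = j then 1 else 0) +
        (8 : ℂ)⁻¹ * ∑ n ∈ Finset.range 8,
          ((L.ζ : ℂ) ^ ((i : ℕ) * n)) * conj ((L.ζ : ℂ) ^ ((j : ℕ) * D.k * n)) := by
  classical
  haveI : Fintype D.B := Fintype.ofFinite D.B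
  have hcf : ∀ a : Fin 8, Cfsg.IsClassFunction D.B (fun b : D.B => ((L.ω a b : ℂˣ) : ℂ)) := by
    intro a g h
    show ((L.ω a (h * g * h⁻¹) : ℂˣ) : ℂ) = ((L.ω a g : ℂˣ) : ℂ)
    rw [map_mul, map_mul, map_inv, mul_comm (L.ω a h), mul_assoc, mul_inv_cancel, mul_one]
  unfold LinFam.ind
  rw [mackey_two D.B D.w (double_coset D hG) _ _ (hcf i) (hcf j)]
  -- the value on powers of t
  have hval : ∀ (a : Fin 8) (n : ℕ) (hmem : D.t ^ n ∈ D.B),
      ((L.ω a ⟨D.t ^ n, hmem⟩ : ℂˣ) : ℂ) = (L.ζ : ℂ) ^ ((a : ℕ) * n) := by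
    intro a n hmem
    have h1 : (⟨D.t ^ n, hmem⟩ : D.B) = (⟨D.t, D.t_mem_B⟩ : D.B) ^ n := by
      apply Subtype.ext; simp
    rw [h1, map_pow, (L.hω a).1, ← pow_mul, Units.val_pow_eq_pow_val]
  have hconj : ∀ n : ℕ, D.w⁻¹ * D.t ^ n * D.w = D.t ^ (D.k * n) := by
    intro n
    rw [h6_conj_t_pow, ← pow_mul]
  rw [h5_Phi_cyclic D.B D.t D.w D.k 8 D.t_mem_B D.ordt (by norm_num)
    (fun x hx hx' => inter_conj D hx hx') hconj]
  -- orthogonality on B
  have horth : Cfsg.classInner (fun b : D.B => ((L.ω i b : ℂˣ) : ℂ))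
      (fun b : D.B => ((L.ω j b : ℂˣ) : ℂ)) = if i = j then 1 else 0 := by
    rw [h5_classInner_hom]
    by_cases hij : i = j
    · subst hij; simp
    · rw [if_neg hij, if_neg]
      intro hω
      apply hij
      have h1 := (L.hω i).1
      have h2 := (L.hω j).1
      rw [hω, h2] at h1
      have hi : (i : ℕ) < orderOf L.ζ := by rw [L.hζ]; exact i.2
      have hj : (j : ℕ) < orderOf L.ζ := by rw [L.hζ]; exact j.2
      exact Fin.ext (pow_injOn_Iio_orderOf hi hj h1.symm)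
  rw [horth]
  congr 1
  have hcB : Nat.card D.B = 216 := card_B D
  rw [hG, hcB]
  have hsum : ∑ n ∈ Finset.range 8,
      ((L.ω i ⟨D.t ^ n, D.B.pow_mem D.t_mem_B n⟩ : ℂˣ) : ℂ) *
        conj ((L.ω j ⟨D.t ^ (D.k * n), D.B.pow_mem D.t_mem_B (D.k * n)⟩ : ℂˣ) : ℂ) =
      ∑ n ∈ Finset.range 8,
          ((L.ζ : ℂ) ^ ((i : ℕ) * n)) * conj ((L.ζ : ℂ) ^ ((j : ℕ) * D.k * n)) := by
    apply Finset.sum_congr rfl
    intro n _
    rw [hval i n, hval j (D.k * n), mul_assoc (j : ℕ)]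
  rw [hsum]
  norm_num

end Cfsg.Agent.Lib.Helper9.D3670
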