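import Mathlib
import Cfsg.Agent.Lib.Helper5.S3670Fin

/-! S3670 unit FIN, with helper9's stub name and signature (verbatim). -/

set_option autoImplicit false

namespace Cfsg.Agent.Lib.Helper9.D3670

universe u

/-- FIN: order 6048 and degrees divisible by 6, 14, 21 determine vertex set and graph. -/
theorem fin_graph {K : Type u} [Group K] [Finite K] (hK : Nat.card K = 6048)
    (h6 : ∃ d ∈ Cfsg.charDegrees K, 6 ∣ d) (h14 : ∃ d ∈ Cfsg.charDegrees K, 14 ∣ d)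
    (h21 : ∃ d ∈ Cfsg.charDegrees K, 21 ∣ d) :
    Cfsg.degreePrimes K = {2, 3, 7} ∧
      ∀ p q : ℕ, (Cfsg.degreeGraph K).Adj p q ↔
        (p ≠ q ∧ (p = 2 ∨ p = 3 ∨ p = 7) ∧ (q = 2 ∨ q = 3 ∨ q = 7)) := by
  refine ⟨Cfsg.Agent.Lib.Helper5.S3670Fin.degreePrimes_eq hK h6 h14 h21, ?_⟩
  intro p q
  rw [Cfsg.Agent.Lib.Helper5.S3670Fin.degreeGraph_eq hK h6 h14 h21]
  exact Iff.rfl

end Cfsg.Agent.Lib.Helper9.D3670
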