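import Mathlib
import Cfsg.Prelude.Def_LieTwisted
import Cfsg.Agent.Lib.Helper5.Tw3D4BN
import Cfsg.Agent.Lib.Helper5.ChevTwistWeyl
import Cfsg.Agent.Lib.Helper5.ChevWCard

set_option autoImplicit false

/-!
The Weyl group of `³D₄(q)` is the Coxeter group of type `G₂`.
-/

namespace Cfsg.Agent.Lib.Helper5.Tw3D4

open Cfsg Cfsg.Lie Cfsg.Agent.Lib.Helper5.ChevSym Cfsg.Agent.Lib.Helper5.ChevStruct

/-- the orbits in the order of the nodes of the diagram `G₂` -/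
def gen4 : Fin 2 → List ℕ := ![[0, 2, 3], [1]]

theorem gen4_mem : ∀ i, gen4 i ∈ orbits := by decide

theorem gen4_surj : ∀ O ∈ orbits, ∃ i, gen4 i = O := by decide

set_option maxRecDepth 1000000 in
theorem gen4_rel_aux : ∀ i j : Fin 2, ∀ r < 24,
    wAct chevD4 (wpow (gen4 i ++ gen4 j) ((CoxeterMatrix.G₂ : CoxeterMatrix (Fin 2)).M i j)) r = r := by
  decide +kernel

theorem gen4_rel (i j : Fin 2) : (wPerm chevD4 hD4 (gen4 i) * wPerm chevD4 hD4 (gen4 j)) ^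
    ((CoxeterMatrix.G₂ : CoxeterMatrix (Fin 2)) i j) = 1 := by
  have hi : Wd chevD4 (gen4 i) := orbsOK4.wd _ (gen4_mem i)
  have hj : Wd chevD4 (gen4 j) := orbsOK4.wd _ (gen4_mem j)
  rw [← wPerm_append, ← wPerm_wpow, ← wPerm_nil chevD4 hD4]
  apply (wPerm_eq_iff chevD4 hD4 _ _ (wd_wpow chevD4 _ (hi.append hj) _) (Wd.nil chevD4)).2
  intro r hr
  exact gen4_rel_aux i j r hr

theorem card_WT4 : Nat.card ↥(WT chevD4 hD4 orbits) = 12 := by
  rw [card_WT, poincT_D4]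
  decide

end Cfsg.Agent.Lib.Helper5.Tw3D4
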