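import Mathlib
import Cfsg.Agent.Lib.Helper2.D4InvDefs
import Cfsg.Agent.Lib.Helper5.Tw3D4Weyl
import Cfsg.Agent.Lib.Helper5.Tw3D4H

set_option autoImplicit false

/-!
# D4INV farm, units C1a, C1b, C1c: the distinguished generators of the `(B, N)`-pair of `³D₄(q)`,
the order of their product in the Weyl group, and the torus `B ∩ N`.
-/

namespace Cfsg.Agent.Lib.Helper5.D4Inv

open Cfsg Cfsg.Lie Cfsg.Agent.Lib.Helper5 Cfsg.Agent.Lib.Helper5.TwAut Cfsg.Agent.Lib.Helper5.Tw3D4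
  Cfsg.Agent.Lib.Helper5.ChevSym Cfsg.Agent.Lib.Helper5.ChevStruct Cfsg.Agent.Lib.Helper4.BNPair
  Cfsg.Agent.Lib.Helper2.D4Inv

set_option maxRecDepth 1000000 in
theorem act_ab : (∀ r < 24, wAct chevD4 (wpow [0, 2, 3, 1] 6) r = r) ∧
    (¬ ∀ r < 24, wAct chevD4 (wpow [0, 2, 3, 1] 1) r = r) ∧
    (¬ ∀ r < 24, wAct chevD4 (wpow [0, 2, 3, 1] 2) r = r) ∧
    (¬ ∀ r < 24, wAct chevD4 (wpow [0, 2, 3, 1] 3) r = r) ∧
    (¬ ∀ r < 24, wAct chevD4 (wpow [0, 2, 3, 1] 4) r = r) ∧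
    (¬ ∀ r < 24, wAct chevD4 (wpow [0, 2, 3, 1] 5) r = r) := by
  decide +kernel

theorem wd_ab : Wd chevD4 [0, 2, 3, 1] := by
  have h : ∀ i ∈ [0, 2, 3, 1], i < chevD4.rank := by decide
  exact h

section general

variable {F : Type*} [Field F]

/-- two elements of `H` commute -/
theorem diagonal_comm (x y : GL chevD4.Idx F) (hx : x ∈ chevD4.diagonalSubgroup F)
    (hy : y ∈ chevD4.diagonalSubgroup F) : x * y = y * x := by
  obtain ⟨c, -, hc⟩ := exists_torusMat_of_mem chevD4 hD4 x hx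
  obtain ⟨c', -, hc'⟩ := exists_torusMat_of_mem chevD4 hD4 y hy
  apply Units.ext
  rw [Units.val_mul, Units.val_mul, hc, hc']
  unfold torusMat
  rw [Matrix.diagonal_mul_diagonal, Matrix.diagonal_mul_diagonal]
  congr 1
  funext i
  exact mul_comm _ _

end general

variable {K : Type*} [Field K] [Fintype K] [CharP K 2] {q : ℕ} (hq : IsPrimePow q)
  (hK : Fintype.card K = q ^ 3) (f : K →+* K) (hf : ∀ x, f x = x ^ q)
  (hf3 : ∀ x, f (f (f x)) = x)

/-- Unit C1a -/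
theorem P4_S : (P4 hq hK f hf hf3).S = {a4 f hf, b4 f hf} := by
  ext s
  show (∃ J ∈ orbits, (s : GL chevD4.Idx K) = wGL chevD4 hD4 J) ↔ _
  simp only [orbits, List.mem_cons, List.not_mem_nil, or_false, Set.mem_insert_iff,
    Set.mem_singleton_iff]
  constructor
  · rintro ⟨J, rfl | rfl, h⟩
    · left; exact Subtype.ext h
    · right; exact Subtype.ext h
  · rintro (rfl | rfl)
    · exact ⟨_, Or.inl rfl, rfl⟩
    · exact ⟨_, Or.inr rfl, rfl⟩

/-- the matrix of `(n_a n_b)^m` -/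
theorem ab_pow_val (m : ℕ) :
    (((a4 f hf * b4 f hf) ^ m : ↥(twistedD4 K q)) : GL chevD4.Idx K)
      = wGL chevD4 hD4 (wpow [0, 2, 3, 1] m) := by
  induction m with
  | zero => rw [pow_zero]; rfl
  | succ m ih =>
    rw [pow_succ', Subgroup.coe_mul, ih]
    show wGL chevD4 hD4 [0, 2, 3] * wGL chevD4 hD4 [1] * _
      = wGL chevD4 hD4 ([0, 2, 3, 1] ++ wpow [0, 2, 3, 1] m)
    rw [wGL_append, ← wGL_append chevD4 hD4 [0, 2, 3] [1]]
    rfl

/-- `B ∩ N = H` in the twisted group -/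
theorem P4_BN_eq : (P4 hq hK f hf hf3).B ⊓ (P4 hq hK f hf hf3).N
    = (chevD4.diagonalSubgroup K ⊓ twistedD4 K q).subgroupOf (twistedD4 K q) := by
  ext x
  show x ∈ (chevD4.borelSubgroup K ⊓ twistedD4 K q).subgroupOf (twistedD4 K q) ⊓
    (chevD4.monomialSubgroup K ⊓ twistedD4 K q).subgroupOf (twistedD4 K q) ↔ _
  rw [← borel_inf_monomial chevD4 hD4]
  simp only [Subgroup.mem_inf, Subgroup.mem_subgroupOf]
  tauto

/-- Unit C1b: `s_a s_b` has order 6 in `W = N¹/H¹` -/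
theorem P4_ord :
    orderOf (π (P4 hq hK f hf hf3) (a4 f hf) * π (P4 hq hK f hf hf3) (b4 f hf)) = 6 := by
  have haS : a4 f hf ∈ (P4 hq hK f hf hf3).S := by rw [P4_S]; simp
  have hbS : b4 f hf ∈ (P4 hq hK f hf hf3).S := by rw [P4_S]; simp
  have haN := (P4 hq hK f hf hf3).subset haS
  have hbN := (P4 hq hK f hf hf3).subset hbS
  have hwN : a4 f hf * b4 f hf ∈ (P4 hq hK f hf hf3).N := mul_mem haN hbN
  rw [← π_mul haN hbN]
  have hpow : ∀ m : ℕ, (π (P4 hq hK f hf hf3) (a4 f hf * b4 f hf)) ^ m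
      = π (P4 hq hK f hf hf3) ((a4 f hf * b4 f hf) ^ m) := by
    intro m
    induction m with
    | zero => rw [pow_zero, pow_zero, π_one]
    | succ m ih => rw [pow_succ, pow_succ, π_mul (pow_mem hwN m) hwN, ih]
  have key : ∀ m : ℕ, (π (P4 hq hK f hf hf3) (a4 f hf * b4 f hf)) ^ m = 1 ↔
      ∀ r < 24, wAct chevD4 (wpow [0, 2, 3, 1] m) r = r := by
    intro m
    rw [hpow, π_eq_one_iff (pow_mem hwN m)]
    have hwd : Wd chevD4 (wpow [0, 2, 3, 1] m) := wd_wpow chevD4 _ wd_ab m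
    constructor
    · intro h
      have h1 : (((a4 f hf * b4 f hf) ^ m : ↥(twistedD4 K q)) : GL chevD4.Idx K)
          ∈ chevD4.borelSubgroup K :=
        (Subgroup.mem_inf.1 (Subgroup.mem_subgroupOf.1 h)).1
      rw [ab_pow_val] at h1
      have h2 : (wGL chevD4 hD4 (wpow [0, 2, 3, 1] m) : GL chevD4.Idx K)
          ∈ chevD4.diagonalSubgroup K := by
        rw [← borel_inf_monomial chevD4 hD4]
        exact Subgroup.mem_inf.2 ⟨h1, wGL_mem chevD4 hD4 _ hwd⟩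
      exact act_of_wGL_mem_diagonal chevD4 hD4 _ hwd h2
    · intro h
      have h2 := wGL_mem_diagonal_of_act (F := K) chevD4 hD4 _ hwd h
      show _ ∈ (chevD4.borelSubgroup K ⊓ twistedD4 K q).subgroupOf (twistedD4 K q)
      rw [Subgroup.mem_subgroupOf]
      refine Subgroup.mem_inf.2 ⟨?_, SetLike.coe_mem _⟩
      rw [ab_pow_val]
      exact diagonal_le_borel chevD4 h2
  obtain ⟨h6, h1, h2, h3, h4, h5⟩ := act_ab
  rw [orderOf_eq_iff (by norm_num)]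
  refine ⟨(key 6).2 h6, fun m hm hm0 => ?_⟩
  rw [Ne, key]
  interval_cases m
  · exact h1
  · exact h2
  · exact h3
  · exact h4
  · exact h5

/-- Unit C1c: `H¹ = B¹ ∩ N¹` is abelian -/
theorem P4_H_comm : ∀ x ∈ (P4 hq hK f hf hf3).B ⊓ (P4 hq hK f hf hf3).N,
    ∀ y ∈ (P4 hq hK f hf hf3).B ⊓ (P4 hq hK f hf hf3).N, x * y = y * x := by
  intro x hx y hy
  rw [P4_BN_eq, Subgroup.mem_subgroupOf] at hx hy
  apply Subtype.ext
  exact diagonal_comm _ _ (Subgroup.mem_inf.1 hx).1 (Subgroup.mem_inf.1 hy).1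

include hq hK in
theorem q_even : 2 ∣ q := by
  obtain ⟨n, -, hn⟩ := FiniteField.card K 2
  have h : 2 ∣ q ^ 3 := by
    rw [← hK, hn]
    exact dvd_pow_self 2 n.ne_zero
  exact Nat.Prime.dvd_of_dvd_pow Nat.prime_two h

/-- Unit C1c: `H¹` has odd order `(q - 1)² (q² + q + 1)` -/
theorem P4_H_odd : Odd (Nat.card ↥((P4 hq hK f hf hf3).B ⊓ (P4 hq hK f hf hf3).N)) := by
  rw [P4_BN_eq]
  have hle : chevD4.diagonalSubgroup K ⊓ twistedD4 K q ≤ twistedD4 K q := inf_le_right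
  rw [Nat.card_congr (Subgroup.subgroupOfEquivOfLe hle).toEquiv, card_diag_twisted hq hK]
  obtain ⟨k, hk⟩ := q_even hq hK
  have hk1 : 1 ≤ k := by
    have := hq.two_le
    omega
  obtain ⟨j, rfl⟩ : ∃ j, k = j + 1 := ⟨k - 1, by omega⟩
  subst hk
  have e1 : 2 * (j + 1) - 1 = 2 * j + 1 := by omega
  rw [e1]
  apply Odd.mul
  · exact Odd.pow ⟨j, rfl⟩
  · exact ⟨2 * (j + 1) ^ 2 + (j + 1), by ring⟩

end Cfsg.Agent.Lib.Helper5.D4Inv
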