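import Mathlib
import Cfsg.Agent.Lib.Helper2.D4InvDefs

set_option autoImplicit false

/-!
# D4INV farm, unit C4a: in characteristic 2 the elements `n_a`, `n_b` of `³D₄(q)` are involutions
-/

namespace Cfsg.Agent.Lib.Helper5.D4Inv

open Cfsg Cfsg.Lie Cfsg.Agent.Lib.Helper5 Cfsg.Agent.Lib.Helper5.TwAut Cfsg.Agent.Lib.Helper5.Tw3D4
  Cfsg.Agent.Lib.Helper5.ChevSym Cfsg.Agent.Lib.Helper5.ChevStruct Cfsg.Agent.Lib.Helper4.BNPair
  Cfsg.Agent.Lib.Helper2.D4Inv

section general

variable {F : Type*} [Field F]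

/-- `n_i` and `n_j` commute when the fundamental roots `p_i`, `p_j` are orthogonal -/
theorem nGL_commute_of (D : ChevalleyDatum) (hD : D ∈ Seven) (i j : ℕ)
    (h1 : commOK D (D.simple i) (D.simple j) = true)
    (h2 : commOK D (D.simple i) (D.neg (D.simple j)) = true)
    (h3 : commOK D (D.neg (D.simple i)) (D.simple j) = true)
    (h4 : commOK D (D.neg (D.simple i)) (D.neg (D.simple j)) = true) :
    Commute (nGL D hD i : GL D.Idx F) (nGL D hD j) := by
  have e : ∀ k, (nGL D hD k : GL D.Idx F) = xGL D hD (D.simple k) 1 *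
      xGL D hD (D.neg (D.simple k)) (-1 : F) * xGL D hD (D.simple k) 1 := by
    intro k
    unfold nGL ChevalleyDatum.nWord
    simp [wordGL, mul_assoc]
  rw [e i, e j]
  have c1 := xGL_commute (K := F) D hD _ _ h1
  have c2 := xGL_commute (K := F) D hD _ _ h2
  have c3 := xGL_commute (K := F) D hD _ _ h3
  have c4 := xGL_commute (K := F) D hD _ _ h4
  have A := ((c1 1 1).mul_right (c2 1 (-1))).mul_right (c1 1 1)
  have B := ((c3 (-1) 1).mul_right (c4 (-1) (-1))).mul_right (c3 (-1) 1)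
  exact (A.mul_left B).mul_left A

/-- in characteristic 2, `n_i² = 1` -/
theorem nGL_mul_self_char2 [CharP F 2] (D : ChevalleyDatum) (hD : D ∈ Seven) (i : ℕ) :
    (nGL D hD i * nGL D hD i : GL D.Idx F) = 1 := by
  apply Units.ext
  rw [Units.val_mul, nGL_val, Units.val_one]
  have h := nMat_mul_neg (F := F) D hD (D.simple i) (1 : F)
  rwa [CharTwo.neg_eq] at h

end general

set_option maxRecDepth 100000 in
theorem orth_facts : ∀ p ∈ [((0 : ℕ), (2 : ℕ)), (0, 3), (2, 3)],
    commOK chevD4 (chevD4.simple p.1) (chevD4.simple p.2) = true ∧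
    commOK chevD4 (chevD4.simple p.1) (chevD4.neg (chevD4.simple p.2)) = true ∧
    commOK chevD4 (chevD4.neg (chevD4.simple p.1)) (chevD4.simple p.2) = true ∧
    commOK chevD4 (chevD4.neg (chevD4.simple p.1)) (chevD4.neg (chevD4.simple p.2)) = true := by
  decide +kernel

variable {K : Type*} [Field K] [Fintype K] [CharP K 2] {q : ℕ} (hq : IsPrimePow q)
  (hK : Fintype.card K = q ^ 3) (f : K →+* K) (hf : ∀ x, f x = x ^ q)
  (hf3 : ∀ x, f (f (f x)) = x)

/-- Unit C4a: in characteristic 2 the `n_J` are involutions -/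
theorem a4_sq : a4 f hf * a4 f hf = 1 := by
  apply Subtype.ext
  show (wGL chevD4 hD4 [0, 2, 3] * wGL chevD4 hD4 [0, 2, 3] : GL chevD4.Idx K) = 1
  simp only [wGL, List.map_cons, List.map_nil, List.prod_cons, List.prod_nil, mul_one]
  obtain ⟨a1, a2, a3, a4⟩ := orth_facts (0, 2) (by simp)
  obtain ⟨b1, b2, b3, b4⟩ := orth_facts (0, 3) (by simp)
  obtain ⟨c1, c2, c3, c4⟩ := orth_facts (2, 3) (by simp)
  have c02 := nGL_commute_of (F := K) chevD4 hD4 0 2 a1 a2 a3 a4
  have c03 := nGL_commute_of (F := K) chevD4 hD4 0 3 b1 b2 b3 b4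
  have c23 := nGL_commute_of (F := K) chevD4 hD4 2 3 c1 c2 c3 c4
  have c0 := c02.mul_right c03
  rw [c0.symm.mul_mul_mul_comm, c23.symm.mul_mul_mul_comm, nGL_mul_self_char2, nGL_mul_self_char2,
    nGL_mul_self_char2, mul_one, mul_one]

theorem b4_sq : b4 f hf * b4 f hf = 1 := by
  apply Subtype.ext
  show (wGL chevD4 hD4 [1] * wGL chevD4 hD4 [1] : GL chevD4.Idx K) = 1
  simp only [wGL, List.map_cons, List.map_nil, List.prod_cons, List.prod_nil, mul_one]
  exact nGL_mul_self_char2 chevD4 hD4 1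

end Cfsg.Agent.Lib.Helper5.D4Inv
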