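import Mathlib
import Cfsg.Agent.Lib.Helper7.DR3

set_option autoImplicit false
set_option linter.style.haveILetI false

namespace Cfsg.Agent.Lib.Helper5.DQ

open MulAction Cfsg.Agent.Lib.Helper7.DR

/-- A1: abelian regular normal subgroup containing all derangements, with exactly two classes of
nonidentity elements: Frobenius action, odd degree, point stabiliser of order `(n-1)/2`. -/
theorem affine_frobenius {G Ω : Type*} [Group G] [Finite G] [Fintype Ω] [MulAction G Ω]
    [FaithfulSMul G Ω] (hprim : IsPreprimitive G Ω) (N : Subgroup G) [hNn : N.Normal] (hN : N ≠ ⊥)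
    (hcomm : ∀ a ∈ N, ∀ b ∈ N, a * b = b * a) (hDN : ∀ d ∈ Der G Ω, d ∈ N)
    (n1 n2 : G) (hn1 : n1 ∈ N) (hn2 : n2 ∈ N) (h1 : n1 ≠ 1) (h2 : n2 ≠ 1) (hnc : ¬ IsConj n1 n2)
    (hall : ∀ n ∈ N, n ≠ 1 → IsConj n n1 ∨ IsConj n n2) (α : Ω) :
    (∀ g : G, g ≠ 1 → Nat.card (MulAction.fixedBy Ω g) ≤ 1) ∧ ¬ 2 ∣ Fintype.card Ω ∧
      2 * Nat.card (MulAction.stabilizer G α) = Fintype.card Ω - 1 := by
  classical
  have htr := Cfsg.Agent.Lib.Helper4.PrimNormal.trans_of_normal hprim N hN
  have hreg := Cfsg.Agent.Lib.Helper4.PrimNormal.regular_of_abelian hprim N hN hcomm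
  -- (i) no nonidentity element fixes two points
  have hsharp : ∀ g : G, g ≠ 1 → ∀ a b : Ω, a ≠ b → g • a = a → g • b ≠ b := by
    intro g hg1 a b hab hga hgb
    have hgN : g ∉ N := fun h => hg1 (hreg g h a hga)
    obtain ⟨n, hn, hna⟩ := htr a b
    have hn1' : n ≠ 1 := by
      intro h; rw [h, one_smul] at hna; exact hab hna
    have hginva : g⁻¹ • a = a := by
      rw [inv_smul_eq_iff, hga]
    have hgn : g * n * g⁻¹ = n := by
      have h1 : n⁻¹ * (g * n * g⁻¹) ∈ N := N.mul_mem (N.inv_mem hn) (hNn.conj_mem n hn g)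
      have h2 : (n⁻¹ * (g * n * g⁻¹)) • a = a := by
        rw [mul_smul, mul_smul, mul_smul, hginva, hna, hgb, ← hna, inv_smul_smul]
      have h3 := hreg _ h1 a h2
      have h4 : g * n * g⁻¹ = n * (n⁻¹ * (g * n * g⁻¹)) := by group
      rw [h4, h3, mul_one]
    let φ : ↥N → ↥N := fun m =>
      ⟨g * (m : G) * g⁻¹ * (m : G)⁻¹, N.mul_mem (hNn.conj_mem m m.2 g) (N.inv_mem m.2)⟩
    have hφninj : ¬ Function.Injective φ := by
      intro hinj
      have h1 : φ ⟨n, hn⟩ = φ 1 := by
        apply Subtype.ext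
        show g * n * g⁻¹ * n⁻¹ = g * (1 : G) * g⁻¹ * (1 : G)⁻¹
        rw [hgn]
        group
      have h2 := hinj h1
      exact hn1' (Subtype.ext_iff.1 h2)
    have hφnsurj : ¬ Function.Surjective φ := fun h => hφninj (Finite.injective_iff_surjective.2 h)
    obtain ⟨v, hv⟩ := not_forall.1 hφnsurj
    have hder : (v : G) * g ∈ Der G Ω := by
      intro ω hω
      obtain ⟨m, hm, hmω⟩ := htr a ω
      apply hv
      refine ⟨⟨m⁻¹, N.inv_mem hm⟩, ?_⟩
      apply Subtype.ext
      show g * m⁻¹ * g⁻¹ * m⁻¹⁻¹ = (v : G)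
      have h1 : m⁻¹ * (v : G) * (g * m * g⁻¹) ∈ N :=
        N.mul_mem (N.mul_mem (N.inv_mem hm) v.2) (hNn.conj_mem m hm g)
      have h2 : (m⁻¹ * (v : G) * (g * m * g⁻¹)) • a = a := by
        have h3 : (m⁻¹ * (v : G) * (g * m * g⁻¹)) • a = m⁻¹ • (((v : G) * g) • (m • (g⁻¹ • a))) := by
          rw [← mul_smul, ← mul_smul, ← mul_smul]
          congr 1
          group
        rw [h3, hginva, hmω, hω, ← hmω, inv_smul_smul]
      have h4 := hreg _ h1 a h2
      have h5 : (v : G) = m * (g * m * g⁻¹)⁻¹ := by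
        have h6 : (v : G) = m * (m⁻¹ * (v : G) * (g * m * g⁻¹)) * (g * m * g⁻¹)⁻¹ := by group
        rw [h6, h4, mul_one]
      rw [h5, inv_inv]
      have h7 : g * m⁻¹ * g⁻¹ ∈ N := hNn.conj_mem m⁻¹ (N.inv_mem hm) g
      have h8 : (g * m * g⁻¹)⁻¹ = g * m⁻¹ * g⁻¹ := by group
      rw [h8, hcomm m hm _ h7]
    have h9 := hDN _ hder
    apply hgN
    have h10 : g = (v : G)⁻¹ * ((v : G) * g) := by group
    rw [h10]
    exact N.mul_mem (N.inv_mem v.2) h9
  -- (ii) a nonidentity element of the stabiliser centralizes no nonidentity element of N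
  have hcent : ∀ h : G, h • α = α → ∀ n ∈ N, n ≠ 1 → h * n * h⁻¹ = n → h = 1 := by
    intro h hh n hn hn1' hc
    by_contra hne
    have hnα : n • α ≠ α := fun e => hn1' (hreg n hn α e)
    apply hsharp h hne α (n • α) hnα.symm hh
    have : h • (n • α) = (h * n * h⁻¹) • (h • α) := by
      rw [← mul_smul, ← mul_smul]
      congr 1
      group
    rw [this, hc, hh]
  -- (iii) the two classes each have |H| elements
  have hclass : ∀ n0 ∈ N, n0 ≠ 1 →
      Nat.card {x : G // IsConj x n0} = Nat.card (MulAction.stabilizer G α) := by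
    intro n0 hn0 hn01
    symm
    let f : MulAction.stabilizer G α → {x : G // IsConj x n0} := fun h =>
      ⟨(h : G) * n0 * (h : G)⁻¹, (isConj_iff.2 ⟨(h : G), rfl⟩ : IsConj n0 _).symm⟩
    apply Nat.card_congr
    refine Equiv.ofBijective f ⟨?_, ?_⟩
    · intro h h' hhh
      have h0 : (h : G) * n0 * (h : G)⁻¹ = (h' : G) * n0 * (h' : G)⁻¹ := congrArg Subtype.val hhh
      have hk : ((h' : G)⁻¹ * (h : G)) • α = α := by
        rw [mul_smul, h.2, inv_smul_eq_iff, h'.2]
      have hc : ((h' : G)⁻¹ * (h : G)) * n0 * ((h' : G)⁻¹ * (h : G))⁻¹ = n0 := by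
        have : ((h' : G)⁻¹ * (h : G)) * n0 * ((h' : G)⁻¹ * (h : G))⁻¹ =
            (h' : G)⁻¹ * ((h : G) * n0 * (h : G)⁻¹) * (h' : G) := by group
        rw [this, h0]
        group
      have := hcent _ hk n0 hn0 hn01 hc
      apply Subtype.ext
      have h3 : (h : G) = (h' : G) * ((h' : G)⁻¹ * (h : G)) := by group
      rw [h3, this, mul_one]
    · rintro ⟨x, hx⟩
      obtain ⟨c, hc⟩ := isConj_iff.1 hx
      -- x = c⁻¹ n0 c
      obtain ⟨m, hm, hmα⟩ := htr α (c⁻¹ • α)
      have hhα : (m⁻¹ * c⁻¹) • α = α := by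
        rw [mul_smul, ← hmα, inv_smul_smul]
      refine ⟨⟨m⁻¹ * c⁻¹, hhα⟩, ?_⟩
      apply Subtype.ext
      show (m⁻¹ * c⁻¹) * n0 * (m⁻¹ * c⁻¹)⁻¹ = x
      have hxN : x ∈ N := by
        have : x = c⁻¹ * n0 * c⁻¹⁻¹ := by rw [← hc]; group
        rw [this]
        exact hNn.conj_mem n0 hn0 _
      have : (m⁻¹ * c⁻¹) * n0 * (m⁻¹ * c⁻¹)⁻¹ = m⁻¹ * x * m := by
        rw [← hc]; group
      rw [this, hcomm _ (N.inv_mem hm) x hxN]
      group
  -- N is regular
  have hNΩ : Nat.card N = Fintype.card Ω := by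
    rw [← Nat.card_eq_fintype_card]
    apply Nat.card_congr
    refine Equiv.ofBijective (fun n : N => (n : G) • α) ⟨?_, ?_⟩
    · intro a b hab
      have hab' : (a : G) • α = (b : G) • α := hab
      have h3 : ((b : G)⁻¹ * (a : G)) • α = α := by
        rw [mul_smul, hab', inv_smul_smul]
      have h4 := hreg _ (N.mul_mem (N.inv_mem b.2) a.2) α h3
      apply Subtype.ext
      have h5 : (a : G) = (b : G) * ((b : G)⁻¹ * (a : G)) := by group
      rw [h5, h4, mul_one]
    · intro ω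
      obtain ⟨n, hn, hnω⟩ := htr α ω
      exact ⟨⟨n, hn⟩, hnω⟩
  -- counting
  have hA1 : {x : G | IsConj x n1} ⊆ (N : Set G) := by
    intro x hx
    obtain ⟨c, hc⟩ := isConj_iff.1 (hx : IsConj x n1)
    have : x = c⁻¹ * n1 * c⁻¹⁻¹ := by rw [← hc]; group
    rw [this]
    exact hNn.conj_mem n1 hn1 _
  have hA2 : {x : G | IsConj x n2} ⊆ (N : Set G) := by
    intro x hx
    obtain ⟨c, hc⟩ := isConj_iff.1 (hx : IsConj x n2)
    have : x = c⁻¹ * n2 * c⁻¹⁻¹ := by rw [← hc]; group
    rw [this]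
    exact hNn.conj_mem n2 hn2 _
  have hone1 : ¬ IsConj (1 : G) n1 := by
    intro h
    obtain ⟨c, hc⟩ := isConj_iff.1 h
    apply h1
    rw [← hc]; group
  have hone2 : ¬ IsConj (1 : G) n2 := by
    intro h
    obtain ⟨c, hc⟩ := isConj_iff.1 h
    apply h2
    rw [← hc]; group
  have hdecomp : (N : Set G) = ({1} ∪ {x : G | IsConj x n1}) ∪ {x : G | IsConj x n2} := by
    ext x
    constructor
    · intro hx
      by_cases hx1 : x = 1
      · left; left; exact hx1
      · rcases hall x hx hx1 with h | h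
        · left; right; exact h
        · right; exact h
    · rintro ((hx | hx) | hx)
      · rw [Set.mem_singleton_iff.1 hx]; exact N.one_mem
      · exact hA1 hx
      · exact hA2 hx
  have hd1 : Disjoint ({1} : Set G) {x : G | IsConj x n1} := by
    rw [Set.disjoint_singleton_left]
    exact hone1
  have hd2 : Disjoint (({1} : Set G) ∪ {x : G | IsConj x n1}) {x : G | IsConj x n2} := by
    rw [Set.disjoint_union_left]
    constructor
    · rw [Set.disjoint_singleton_left]
      exact hone2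
    · rw [Set.disjoint_left]
      intro x hx1 hx2
      exact hnc ((hx1 : IsConj x n1).symm.trans hx2)
  have hcount : Nat.card N = 1 + Nat.card (MulAction.stabilizer G α) +
      Nat.card (MulAction.stabilizer G α) := by
    have e1 : Nat.card N = ((N : Set G)).ncard := by
      rw [← Nat.card_coe_set_eq]; rfl
    rw [e1, hdecomp, Set.ncard_union_eq hd2 (Set.toFinite _) (Set.toFinite _),
      Set.ncard_union_eq hd1 (Set.toFinite _) (Set.toFinite _), Set.ncard_singleton,
      ← Nat.card_coe_set_eq, ← Nat.card_coe_set_eq]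
    have e2 : Nat.card ↥{x : G | IsConj x n1} = Nat.card {x : G // IsConj x n1} := rfl
    have e3 : Nat.card ↥{x : G | IsConj x n2} = Nat.card {x : G // IsConj x n2} := rfl
    rw [e2, e3, hclass n1 hn1 h1, hclass n2 hn2 h2]
  rw [hNΩ] at hcount
  refine ⟨?_, ?_, ?_⟩
  · intro g hg
    have hsub : Subsingleton ↥(MulAction.fixedBy Ω g) := by
      refine ⟨fun a b => ?_⟩
      by_contra hab
      have hab' : (a : Ω) ≠ (b : Ω) := fun h => hab (Subtype.ext h)
      exact hsharp g hg a b hab' a.2 b.2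
    exact Finite.card_le_one_iff_subsingleton.2 hsub
  · omega
  · omega

end Cfsg.Agent.Lib.Helper5.DQ
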