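import Mathlib
import Cfsg.Agent.Lib.Helper7.DR3

set_option autoImplicit false
set_option linter.style.haveILetI false

namespace Cfsg.Agent.Lib.Helper5.DQ

open MulAction Cfsg.Agent.Lib.Helper7.DR

/-- A2: abelian regular normal subgroup with one class of nonidentity elements and exactly two
classes of derangements: the group is 2-transitive and not a Frobenius group. -/
theorem affine_two_trans {G Ω : Type*} [Group G] [Finite G] [Fintype Ω] [MulAction G Ω]
    [FaithfulSMul G Ω] (hΩ : 2 ≤ Fintype.card Ω) (hprim : IsPreprimitive G Ω) (N : Subgroup G)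
    [hNn : N.Normal] (hN : N ≠ ⊥) (hcomm : ∀ a ∈ N, ∀ b ∈ N, a * b = b * a)
    (hone : ∀ n1 ∈ N, ∀ n2 ∈ N, n1 ≠ 1 → n2 ≠ 1 → IsConj n1 n2)
    (hκ : Nat.card {c : ConjClasses G // ∃ g : G, ConjClasses.mk g = c ∧ ∀ ω : Ω, g • ω ≠ ω} = 2) :
    IsMultiplyPretransitive G Ω 2 ∧ ∃ g : G, g ≠ 1 ∧ 2 ≤ Nat.card (MulAction.fixedBy Ω g) := by
  have htr := Cfsg.Agent.Lib.Helper4.PrimNormal.trans_of_normal hprim N hN
  -- the point stabiliser is transitive on the other points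
  have hstab : ∀ a b b' : Ω, b ≠ a → b' ≠ a → ∃ h : G, h • a = a ∧ h • b = b' := by
    intro a b b' hb hb'
    obtain ⟨n1, hn1, hn1a⟩ := htr a b
    obtain ⟨n2, hn2, hn2a⟩ := htr a b'
    have hn11 : n1 ≠ 1 := by
      intro h; rw [h, one_smul] at hn1a; exact hb hn1a.symm
    have hn21 : n2 ≠ 1 := by
      intro h; rw [h, one_smul] at hn2a; exact hb' hn2a.symm
    obtain ⟨x, hx⟩ := isConj_iff.1 (hone n1 hn1 n2 hn2 hn11 hn21)
    obtain ⟨m', hm', hm'a⟩ := htr a (x • a)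
    have hha : (m'⁻¹ * x) • a = a := by
      rw [mul_smul, ← hm'a, inv_smul_smul]
    have hconjN : (m'⁻¹ * x) * n1 * (m'⁻¹ * x)⁻¹ ∈ N := hNn.conj_mem n1 hn1 _
    have hn2eq : (m'⁻¹ * x) * n1 * (m'⁻¹ * x)⁻¹ = n2 := by
      have h1 : x * n1 * x⁻¹ = m' * ((m'⁻¹ * x) * n1 * (m'⁻¹ * x)⁻¹) * m'⁻¹ := by group
      rw [hx] at h1
      rw [h1, hcomm m' hm' _ hconjN]
      group
    refine ⟨m'⁻¹ * x, hha, ?_⟩
    have h2 : (m'⁻¹ * x) • b = ((m'⁻¹ * x) * n1 * (m'⁻¹ * x)⁻¹) • ((m'⁻¹ * x) • a) := by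
      rw [← mul_smul, ← hn1a, ← mul_smul]
      congr 1
      group
    rw [h2, hn2eq, hha, hn2a]
  have h2tr : IsMultiplyPretransitive G Ω 2 := by
    rw [is_two_pretransitive_iff]
    intro a b c d hab hcd
    obtain ⟨m, hm, hma⟩ := htr a c
    have hb' : m⁻¹ • d ≠ a := by
      intro h
      apply hcd
      rw [← hma, ← h, smul_inv_smul]
    obtain ⟨h, hha, hhb⟩ := hstab a b (m⁻¹ • d) hab.symm hb'
    refine ⟨m * h, ?_, ?_⟩
    · rw [mul_smul, hha, hma]
    · rw [mul_smul, hhb, smul_inv_smul]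
  refine ⟨h2tr, ?_⟩
  by_contra hno
  push Not at hno
  have hsharp : ∀ g : G, g ≠ 1 → ∀ a b : Ω, a ≠ b → g • a = a → g • b ≠ b := by
    intro g hg a b hab hga hgb
    have hlt := hno g hg
    have hsub : ({a, b} : Set Ω) ⊆ MulAction.fixedBy Ω g := by
      intro x hx
      rcases hx with rfl | rfl
      · exact hga
      · exact hgb
    have hfin : (MulAction.fixedBy Ω g).Finite := Set.toFinite _
    have h1 := Set.ncard_le_ncard hsub hfin
    rw [Set.ncard_pair hab] at h1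
    rw [Nat.card_coe_set_eq] at hlt
    omega
  have h1 := (card_classes_eq_one_iff (G := G) (Ω := Ω)).2 (conj_of_sharp h2tr hsharp hΩ)
  rw [h1] at hκ
  omega

end Cfsg.Agent.Lib.Helper5.DQ
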