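import Mathlib
import Cfsg.Prelude.Def_GeometricClasses

set_option autoImplicit false

namespace Cfsg.Agent.Lib.Helper5.DecompAssemble

open Module Submodule

section gen
variable {F : Type*} [Field F] {V : Type*} [AddCommGroup V] [Module F V]
variable {β : Type*} (b : β → V) {t : ℕ} (G : β → Fin t)

/-- the span of the part of the family `b` lying over `j` -/
def blk (j : Fin t) : Submodule F V := span F (b '' {s | G s = j})

theorem mem_blk (s : β) : b s ∈ blk (F := F) b G (G s) :=
  subset_span ⟨s, rfl, rfl⟩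

variable {b}

theorem finrank_blk [Fintype β] (hli : LinearIndependent F b) (j : Fin t) :
    finrank F (blk (F := F) b G j) = Fintype.card {s // G s = j} := by
  classical
  have h := finrank_span_eq_card (hli.comp (Subtype.val : {s // G s = j} → β) Subtype.val_injective)
  rw [← h]
  have hset : b '' {s | G s = j} = Set.range (b ∘ (Subtype.val : {s // G s = j} → β)) := by
    ext v
    constructor
    · rintro ⟨s, hs, rfl⟩
      exact ⟨⟨s, hs⟩, rfl⟩
    · rintro ⟨⟨s, hs⟩, rfl⟩
      exact ⟨s, hs, rfl⟩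
  unfold blk
  rw [hset]

theorem indep_blk (hli : LinearIndependent F b) : iSupIndep (blk (F := F) b G) := by
  intro j
  have h1 : (⨆ k, ⨆ (_ : k ≠ j), blk (F := F) b G k) ≤ span F (b '' {s | G s ≠ j}) := by
    apply iSup_le
    intro k
    apply iSup_le
    intro hk
    apply span_mono
    rintro _ ⟨s, hs, rfl⟩
    exact ⟨s, by rw [Set.mem_ofPred_eq] at hs ⊢; rw [hs]; exact hk, rfl⟩
  refine Disjoint.mono_right h1 ?_
  apply hli.disjoint_span_image
  rw [Set.disjoint_left]
  intro s hs hs'
  exact hs' hs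

theorem iSup_blk (hsp : span F (Set.range b) = ⊤) : iSup (blk (F := F) b G) = ⊤ := by
  rw [eq_top_iff, ← hsp, span_le]
  rintro _ ⟨s, rfl⟩
  exact (le_iSup (blk (F := F) b G) (G s)) (mem_blk b G s)

theorem map_blk_le (x : V →ₗ[F] V) (σ : Fin t → Fin t)
    (h : ∀ s, x (b s) ∈ blk (F := F) b G (σ (G s))) (j : Fin t) :
    (blk (F := F) b G j).map x ≤ blk (F := F) b G (σ j) := by
  unfold blk
  rw [Submodule.map_span, span_le]
  rintro _ ⟨_, ⟨s, hs, rfl⟩, rfl⟩
  have := h s
  rw [Set.mem_ofPred_eq] at hs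
  rw [hs] at this
  exact this

end gen

section conc
variable {F : Type*} [Field F] {κ : Type} [Fintype κ] [DecidableEq κ]
variable {β : Type*} [Fintype β] {b : β → (κ → F)} {t : ℕ} (G : β → Fin t)

omit [Fintype κ] [DecidableEq κ] in
theorem isMDecomposition (hli : LinearIndependent F b) (hsp : span F (Set.range b) = ⊤)
    (m : ℕ) (hm : 0 < m) (ht : 2 ≤ t) (hG : ∀ j, Fintype.card {s // G s = j} = m) :
    Cfsg.Geo.IsMDecomposition m (blk (F := F) b G) where
  two_le := ht
  pos := hm
  finrank_eq := fun j => by rw [finrank_blk G hli j, hG j]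
  indep := indep_blk G hli
  iSup_eq_top := iSup_blk G hsp

theorem map_blk (hli : LinearIndependent F b) (m : ℕ)
    (hG : ∀ j, Fintype.card {s // G s = j} = m)
    (x : (κ → F) →ₗ[F] (κ → F)) (hx : Function.Injective x) (σ : Fin t → Fin t)
    (h : ∀ s, x (b s) ∈ blk (F := F) b G (σ (G s))) (j : Fin t) :
    (blk (F := F) b G j).map x = blk (F := F) b G (σ j) := by
  apply Submodule.eq_of_le_of_finrank_eq (map_blk_le G x σ h j)
  rw [finrank_blk G hli, hG, ← hG j, ← finrank_blk G hli j]
  exact (Submodule.equivMapOfInjective x hx _).finrank_eq.symm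

end conc

end Cfsg.Agent.Lib.Helper5.DecompAssemble
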