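import Mathlib
import Cfsg.Prelude

set_option autoImplicit false
open Cfsg

/-! Descent of a matrix action to a subfield form, and a counting criterion for the image of a
perfect group to be the commutator subgroup. -/

namespace Cfsg.Agent.Lib.Helper5.Descent

open Matrix

section descent
variable {F K : Type*} [Field F] [Field K] (j : F →+* K)
  {ι : Type} [Fintype ι] [DecidableEq ι] {n : Type} [Fintype n] [DecidableEq n]
  (E : (ι → F) → (n → K))
  (E_add : ∀ u v, E (u + v) = E u + E v)
  (E_smul : ∀ (c : F) v, E (c • v) = j c • E v)
  (E_inj : Function.Injective E)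
  {H : Type*} [Group H] (φ : H →* Matrix n n K)
  (hstab : ∀ h v, ∃ v', E v' = φ h *ᵥ E v)

/-- the descended linear map -/
noncomputable def descLin (h : H) : (ι → F) →ₗ[F] (ι → F) where
  toFun v := Classical.choose (hstab h v)
  map_add' u v := by
    apply E_inj
    rw [Classical.choose_spec (hstab h (u + v)), E_add, E_add, Classical.choose_spec (hstab h u),
      Classical.choose_spec (hstab h v), Matrix.mulVec_add]
  map_smul' c v := by
    apply E_inj
    simp only [RingHom.id_apply]
    rw [Classical.choose_spec (hstab h (c • v)), E_smul, E_smul, Classical.choose_spec (hstab h v),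
      Matrix.mulVec_smul]

omit [Fintype ι] [DecidableEq ι] in
theorem E_descLin (h : H) (v : ι → F) :
    E (descLin j E E_add E_smul E_inj φ hstab h v) = φ h *ᵥ E v :=
  Classical.choose_spec (hstab h v)

/-- the descended matrix representation -/
noncomputable def descHom : H →* Matrix ι ι F where
  toFun h := LinearMap.toMatrix' (descLin j E E_add E_smul E_inj φ hstab h)
  map_one' := by
    rw [← LinearMap.toMatrix'_one]
    congr 1
    apply LinearMap.ext
    intro v
    apply E_inj
    rw [E_descLin j E E_add E_smul E_inj φ hstab, map_one, Matrix.one_mulVec]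
    rfl
  map_mul' g h := by
    rw [← LinearMap.toMatrix'_mul]
    congr 1
    apply LinearMap.ext
    intro v
    apply E_inj
    have key := E_descLin j E E_add E_smul E_inj φ hstab
    rw [Module.End.mul_apply, key, key, key, map_mul, Matrix.mulVec_mulVec]

theorem E_descHom (h : H) (v : ι → F) :
    E (descHom j E E_add E_smul E_inj φ hstab h *ᵥ v) = φ h *ᵥ E v := by
  show E (LinearMap.toMatrix' (descLin j E E_add E_smul E_inj φ hstab h) *ᵥ v) = _
  rw [LinearMap.toMatrix'_mulVec, E_descLin j E E_add E_smul E_inj φ hstab]

theorem fix_of_descHom_eq_one (h : H) (h1 : descHom j E E_add E_smul E_inj φ hstab h = 1)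
    (v : ι → F) : φ h *ᵥ E v = E v := by
  rw [← E_descHom j E E_add E_smul E_inj φ hstab, h1, Matrix.one_mulVec]

end descent

section count

theorem commutator_le_of_index_two {G : Type*} [Group G] (N : Subgroup G) (h : N.index = 2) :
    commutator G ≤ N := by
  have := Subgroup.normal_of_index_eq_two h
  rw [← Subgroup.Normal.quotient_commutative_iff_commutator_le]
  have hc : Nat.card (G ⧸ N) = 2 := by rw [← Subgroup.index_eq_card]; exact h
  have : Fact (Nat.Prime 2) := ⟨Nat.prime_two⟩
  have := isCyclic_of_prime_card hc
  exact IsCyclic.isMulCommutative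

theorem map_mem_commutator {H O : Type*} [Group H] [Group O] (f : H →* O)
    (hperf : commutator H = ⊤) (g : H) : f g ∈ commutator O := by
  have hg : g ∈ commutator H := by rw [hperf]; trivial
  rw [commutator_def] at hg ⊢
  have := Subgroup.mem_map_of_mem f hg
  rw [Subgroup.map_commutator] at this
  exact Subgroup.commutator_mono le_top le_top this

/-- the image of a perfect group `H` in a group `O` of order `2 |H|` is the commutator subgroup,
if the kernel is trivial, or has order at most two and the commutator subgroup has index four -/
theorem range_eq_commutator {H O : Type*} [Group H] [Group O] [Finite H] [Finite O] (f : H →* O)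
    (hperf : commutator H = ⊤) (hcard : Nat.card O = 2 * Nat.card H)
    (hk : Nat.card ↥f.ker ≤ 1 ∨ (Nat.card ↥f.ker ≤ 2 ∧ (commutator O).index = 4)) :
    f.range = commutator O := by
  have hle : f.range ≤ commutator O := by
    rintro _ ⟨p, rfl⟩
    exact map_mem_commutator f hperf p
  have h1 := Subgroup.card_mul_index f.ker
  rw [Subgroup.index_ker] at h1
  have hpos : 0 < Nat.card H := Nat.card_pos
  rcases hk with hk | ⟨hk, hidx⟩
  · have hk1 : Nat.card ↥f.ker = 1 := by
      have : 0 < Nat.card ↥f.ker := Nat.card_pos
      omega
    rw [hk1, one_mul] at h1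
    have h3 := Subgroup.card_mul_index f.range
    rw [h1, hcard] at h3
    have hidx : f.range.index = 2 := by
      have : Nat.card H * f.range.index = Nat.card H * 2 := by rw [h3]; ring
      exact Nat.eq_of_mul_eq_mul_left hpos this
    exact le_antisymm hle (commutator_le_of_index_two _ hidx)
  · apply Subgroup.eq_of_le_of_card_ge hle
    have h3 := Subgroup.card_mul_index (commutator O)
    rw [hidx, hcard] at h3
    have h5 : Nat.card ↥f.ker * Nat.card ↥f.range ≤ 2 * Nat.card ↥f.range :=
      Nat.mul_le_mul_right _ hk
    omega

end count

end Cfsg.Agent.Lib.Helper5.Descent
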