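import Mathlib
import Cfsg.Agent.Lib.Helper5.DicksonMax2

set_option autoImplicit false

/-! Arithmetic for the subfield subgroups of `PSL₂(q)`. -/

namespace Cfsg.Agent.Lib.Helper5.DicksonMax

open Cfsg.Agent.Lib.Helper5.MobWild

/-- `x ^ a - 1 ∣ 2 * (x ^ b - 1)` forces `a ∣ b` -/
theorem dvd_of_pow_sub_one_dvd (x a b : ℕ) (hx : 2 ≤ x) (ha : 1 ≤ a)
    (h : x ^ a - 1 ∣ 2 * (x ^ b - 1)) : a ∣ b := by
  rw [Nat.dvd_iff_mod_eq_zero] at h ⊢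
  rw [Nat.mul_mod, Nat.pow_sub_one_mod_pow_sub_one] at h
  by_contra hs
  have hsa : b % a < a := Nat.mod_lt _ (by omega)
  have h1 : x ^ (b % a + 1) ≤ x ^ a := Nat.pow_le_pow_right (by omega) (by omega)
  have h2 : 2 * x ^ (b % a) ≤ x ^ (b % a + 1) := by
    rw [pow_succ, mul_comm]
    exact Nat.mul_le_mul_left _ hx
  have h3 : x ^ 1 ≤ x ^ (b % a) := Nat.pow_le_pow_right (by omega) (by omega)
  rw [pow_one] at h3
  have h4 : 2 % (x ^ a - 1) * (x ^ (b % a) - 1) < x ^ a - 1 := by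
    have h5 : 2 % (x ^ a - 1) ≤ 2 := Nat.mod_le _ _
    calc 2 % (x ^ a - 1) * (x ^ (b % a) - 1) ≤ 2 * (x ^ (b % a) - 1) := Nat.mul_le_mul_right _ h5
      _ < x ^ a - 1 := by omega
  rw [Nat.mod_eq_of_lt h4] at h
  have h6 : 2 % (x ^ a - 1) = 2 := Nat.mod_eq_of_lt (by omega)
  rw [h6] at h
  omega

/-- the possible subfields between `GF(q)` and `GF(q ^ r)` -/
theorem subfield_arith (p a r q₀ m : ℕ) (hp : p.Prime) (ha : 1 ≤ a) (hr : r.Prime)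
    (hm : q₀ ^ m = (p ^ a) ^ r) (hd : (p ^ a) ^ 2 - 1 ∣ 2 * (q₀ ^ 2 - 1)) :
    q₀ = p ^ a ∨ q₀ = (p ^ a) ^ r := by
  have hp2 : 2 ≤ p := hp.two_le
  have hm0 : m ≠ 0 := by
    rintro rfl
    rw [pow_zero] at hm
    have : 2 ≤ (p ^ a) ^ r := by
      calc 2 ≤ p := hp2
        _ = p ^ 1 := (pow_one p).symm
        _ ≤ p ^ (a * r) := Nat.pow_le_pow_right (by omega) (by
            have := hr.two_le
            nlinarith)
        _ = (p ^ a) ^ r := pow_mul p a r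
    omega
  have h1 : q₀ ∣ p ^ (a * r) := by
    rw [pow_mul, ← hm]
    exact dvd_pow_self q₀ hm0
  obtain ⟨b, -, rfl⟩ := (Nat.dvd_prime_pow hp).mp h1
  rw [← pow_mul, ← pow_mul] at hm
  have hbm : b * m = a * r := Nat.pow_right_injective hp2 hm
  rw [← pow_mul, ← pow_mul] at hd
  have h2 := dvd_of_pow_sub_one_dvd p (a * 2) (b * 2) hp2 (by omega) hd
  have hab : a ∣ b := (Nat.mul_dvd_mul_iff_right (by norm_num)).mp h2
  obtain ⟨c, rfl⟩ := hab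
  have hcm : c * m = r := by
    have : a * (c * m) = a * r := by rw [← hbm]; ring
    exact Nat.eq_of_mul_eq_mul_left (by omega) this
  have hc : c ∣ r := ⟨m, hcm.symm⟩
  rcases (Nat.dvd_prime hr).mp hc with rfl | rfl
  · left; rw [mul_one]
  · right; rw [pow_mul]

theorem coprime_sq_sub_one (q : ℕ) (hq : 1 ≤ q) : Nat.Coprime (q ^ 2 - 1) q := by
  have h1 : 1 ≤ q ^ 2 := Nat.one_le_pow _ _ hq
  rw [← Nat.isCoprime_iff_coprime]
  refine ⟨-1, q, ?_⟩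
  push_cast [h1]
  ring

/-- from an inclusion of orders to the divisibility needed by `subfield_arith` -/
theorem sq_sub_one_dvd (q q₀ m r : ℕ) (hq : 1 ≤ q) (hq₀ : 1 ≤ q₀) (hm : q₀ ^ m = q ^ r)
    (hm0 : m ≠ 0)
    (hd : q * ((q - 1) * (q + 1)) ∣ 2 * (q₀ * ((q₀ - 1) * (q₀ + 1)))) :
    q ^ 2 - 1 ∣ 2 * (q₀ ^ 2 - 1) := by
  rw [← sq_sub_one q hq, ← sq_sub_one q₀ hq₀] at hd
  have h1 : q ^ 2 - 1 ∣ (2 * (q₀ ^ 2 - 1)) * q₀ := by
    refine (Dvd.intro_left q rfl).trans (hd.trans ?_)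
    rw [mul_assoc, mul_comm (q₀ ^ 2 - 1) q₀]
  have h2 : Nat.Coprime (q ^ 2 - 1) q₀ := by
    have h3 : Nat.Coprime (q ^ 2 - 1) (q ^ r) := (coprime_sq_sub_one q hq).pow_right r
    rw [← hm] at h3
    exact Nat.Coprime.coprime_dvd_right (dvd_pow_self q₀ hm0) h3
  exact h2.dvd_of_dvd_mul_right h1

end Cfsg.Agent.Lib.Helper5.DicksonMax
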