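import Mathlib
import Cfsg.Agent.Lib.Helper5.DicksonSolv
import Cfsg.Agent.S0804

set_option autoImplicit false

/-! Tools for the determination of the minimal simple groups `PSL₂(q)`. -/

namespace Cfsg.Agent.Lib.Helper5.DicksonMinSimple

open Matrix Cfsg.Agent.Lib.Helper4 Cfsg.Agent.Lib.Helper5.MobWild Cfsg.Agent.Lib.Helper5.DicksonBorel
  Cfsg.Agent.Lib.Helper5.DicksonMain Cfsg.Agent.Lib.Helper5.DicksonOrders
open scoped MatrixGroups

theorem not_isSolvable_A5 : ¬ Group.IsSolvable (alternatingGroup (Fin 5)) := by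
  intro h
  apply Equiv.Perm.not_isSolvable_fin_5
  have h2 : Group.IsSolvable ℤˣ := Group.isSolvable_of_comm mul_comm
  refine Group.isSolvable_of_ker_le_range (alternatingGroup (Fin 5)).subtype
    (Equiv.Perm.sign (α := Fin 5)) ?_
  intro x hx
  exact ⟨⟨x, hx⟩, rfl⟩

variable {F : Type*} [Field F] [Fintype F]

theorem not_comm_PSL2 (h4 : 4 ≤ Fintype.card F) :
    ¬ ∀ a b : Matrix.ProjectiveSpecialLinearGroup (Fin 2) F, a * b = b * a := by
  intro hcomm
  have hs : IsSimpleGroup (Matrix.ProjectiveSpecialLinearGroup (Fin 2) F) :=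
    Matrix.ProjectiveSpecialLinearGroup.rank_two_simple (by
      rw [Nat.card_eq_fintype_card]; exact h4)
  set B := borelB (algebraMap F (AlgebraicClosure F)) with hB
  have hn : B.Normal := ⟨fun n hn g => by rw [hcomm g n, mul_inv_cancel_right]; exact hn⟩
  have hidx : B.index = Fintype.card F + 1 := index_borelB _
  have hcard := card_borelB (algebraMap F (AlgebraicClosure F))
  rcases hn.eq_bot_or_eq_top with h | h
  · rw [← hB, h, Subgroup.card_bot, mul_one] at hcard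
    have hd2 : Nat.gcd 2 (Fintype.card F - 1) ≤ 2 :=
      Nat.le_of_dvd (by norm_num) (Nat.gcd_dvd_left _ _)
    have : 4 * 3 ≤ Fintype.card F * (Fintype.card F - 1) :=
      Nat.mul_le_mul h4 (by omega)
    omega
  · rw [h, Subgroup.index_top] at hidx
    omega

theorem not_isSolvable_PSL2 (h4 : 4 ≤ Fintype.card F) :
    ¬ Group.IsSolvable (Matrix.ProjectiveSpecialLinearGroup (Fin 2) F) := by
  have hs : IsSimpleGroup (Matrix.ProjectiveSpecialLinearGroup (Fin 2) F) :=
    Matrix.ProjectiveSpecialLinearGroup.rank_two_simple (by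
      rw [Nat.card_eq_fintype_card]; exact h4)
  intro h
  exact not_comm_PSL2 h4 (IsSimpleGroup.comm_iff_isSolvable.mpr h)

theorem not_isMulCommutative_PSL2 (h4 : 4 ≤ Fintype.card F) :
    ¬ IsMulCommutative (Matrix.ProjectiveSpecialLinearGroup (Fin 2) F) := by
  intro h
  exact not_comm_PSL2 h4 (fun a b => h.is_comm.comm a b)

/-- a proper subfield group which is not solvable -/
theorem not_minimalSimple_of_subfield {K : Type*} [Field K] [Fintype K] (m : ℕ) (hm : 2 ≤ m)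
    (hK : 4 ≤ Fintype.card K) (h : Fintype.card K ^ m = Fintype.card F) :
    ¬ Cfsg.IsMinimalSimple (Matrix.ProjectiveSpecialLinearGroup (Fin 2) F) := by
  rintro ⟨-, -, hsol⟩
  obtain ⟨j⟩ := SubfieldPSL.exists_ringHom (K := K) (F := F) m (by omega) h
  obtain ⟨H, ⟨e⟩⟩ := SubfieldPSL.exists_PSL j
  have hHtop : H ≠ ⊤ := by
    rintro rfl
    have h1 : Nat.card (Matrix.ProjectiveSpecialLinearGroup (Fin 2) F) =
        Nat.card (Matrix.ProjectiveSpecialLinearGroup (Fin 2) K) := by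
      rw [← Nat.card_congr e.toEquiv]
      exact (Nat.card_congr Subgroup.topEquiv.toEquiv).symm
    have h2 := card_PSL2_mul (F := F)
    have h3 := card_PSL2_mul (F := K)
    rw [h1] at h2
    set q₀ := Fintype.card K with hq₀
    set q := Fintype.card F with hq
    set N := Nat.card (Matrix.ProjectiveSpecialLinearGroup (Fin 2) K) with hN
    have hd1 : 1 ≤ Nat.gcd 2 (q₀ - 1) := Nat.gcd_pos_of_pos_left _ (by norm_num)
    have hd2 : Nat.gcd 2 (q - 1) ≤ 2 := Nat.le_of_dvd (by norm_num) (Nat.gcd_dvd_left _ _)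
    have hqq : q₀ ^ 2 ≤ q := by
      rw [← h]; exact Nat.pow_le_pow_right (by omega) hm
    -- `q (q-1)(q+1) ≤ 2 q₀ (q₀-1)(q₀+1)` is impossible
    have h4 : q * ((q - 1) * (q + 1)) ≤ 2 * (q₀ * ((q₀ - 1) * (q₀ + 1))) := by
      calc q * ((q - 1) * (q + 1)) = Nat.gcd 2 (q - 1) * N := h2.symm
        _ ≤ 2 * N := Nat.mul_le_mul_right _ hd2
        _ ≤ 2 * (Nat.gcd 2 (q₀ - 1) * N) :=
            Nat.mul_le_mul_left _ (Nat.le_mul_of_pos_left _ hd1)
        _ = 2 * (q₀ * ((q₀ - 1) * (q₀ + 1))) := by rw [h3]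
    have hqpos : 1 ≤ q := Fintype.card_pos
    obtain ⟨r, hr⟩ : ∃ r, q₀ = r + 4 := ⟨q₀ - 4, by omega⟩
    obtain ⟨Q, hQ⟩ : ∃ Q, q = Q + 1 := ⟨q - 1, by omega⟩
    have hQ1 : q - 1 = Q := by omega
    have hr1 : q₀ - 1 = r + 3 := by omega
    rw [hQ1, hr1, hr, hQ] at h4
    rw [hr, hQ] at hqq
    have hA : (r + 3) * (r + 4 + 1) ≤ Q := by
      have : (r + 4) ^ 2 = (r + 3) * (r + 4 + 1) + 1 := by ring
      omega
    have h6 : 2 * (r + 4) < (Q + 1) * (Q + 1 + 1) := by nlinarith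
    have h7 : (r + 3) * (r + 4 + 1) * (2 * (r + 4)) < Q * ((Q + 1) * (Q + 1 + 1)) := by
      calc (r + 3) * (r + 4 + 1) * (2 * (r + 4))
          < (r + 3) * (r + 4 + 1) * ((Q + 1) * (Q + 1 + 1)) :=
            Nat.mul_lt_mul_of_pos_left h6 (by positivity)
        _ ≤ Q * ((Q + 1) * (Q + 1 + 1)) := Nat.mul_le_mul_right _ hA
    have h8 : (Q + 1) * (Q * (Q + 1 + 1)) = Q * ((Q + 1) * (Q + 1 + 1)) := by ring
    have h9 : 2 * ((r + 4) * ((r + 3) * (r + 4 + 1))) = (r + 3) * (r + 4 + 1) * (2 * (r + 4)) := by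
      ring
    omega
  have := hsol H hHtop
  have h5 : Group.IsSolvable (Matrix.ProjectiveSpecialLinearGroup (Fin 2) K) :=
    Group.isSolvable_of_isSolvable_injective (f := e.symm.toMonoidHom) e.symm.injective
  exact not_isSolvable_PSL2 hK h5

/-- a proper icosahedral subgroup -/
theorem not_minimalSimple_of_five_dvd
    (h5 : 5 ∣ Fintype.card F * (Fintype.card F ^ 2 - 1)) (h7 : 7 ≤ Fintype.card F) :
    ¬ Cfsg.IsMinimalSimple (Matrix.ProjectiveSpecialLinearGroup (Fin 2) F) := by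
  rintro ⟨-, -, hsol⟩
  obtain ⟨H, ⟨e⟩⟩ := (Cfsg.Agent.S0804.result (F := F) rfl).mpr h5
  have hHtop : H ≠ ⊤ := by
    rintro rfl
    have h1 : Nat.card (Matrix.ProjectiveSpecialLinearGroup (Fin 2) F) = 60 := by
      rw [← card_A5, ← Nat.card_congr e.toEquiv]
      exact (Nat.card_congr Subgroup.topEquiv.toEquiv).symm
    have h2 := card_PSL2_mul (F := F)
    rw [h1] at h2
    set q := Fintype.card F with hq
    have hd2 : Nat.gcd 2 (q - 1) ≤ 2 := Nat.le_of_dvd (by norm_num) (Nat.gcd_dvd_left _ _)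
    have h3 : 7 * (6 * 8) ≤ q * ((q - 1) * (q + 1)) :=
      Nat.mul_le_mul h7 (Nat.mul_le_mul (by omega) (by omega))
    omega
  have := hsol H hHtop
  have h6 : Group.IsSolvable (alternatingGroup (Fin 5)) :=
    Group.isSolvable_of_isSolvable_injective (f := e.symm.toMonoidHom) e.symm.injective
  exact not_isSolvable_A5 h6

end Cfsg.Agent.Lib.Helper5.DicksonMinSimple
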