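import Mathlib
import Cfsg.Agent.Lib.Helper5.DicksonMax3
import Cfsg.Agent.Lib.Helper5.DicksonMinSimple
import Cfsg.Agent.S0251

set_option autoImplicit false

/-! Subfield subgroups of `PSL₂(q)`: the common part of the maximality proofs. -/

namespace Cfsg.Agent.Lib.Helper5.DicksonMax

open Matrix Cfsg.Agent.Lib.Helper4 Cfsg.Agent.Lib.Helper5.MobWild Cfsg.Agent.Lib.Helper5.DicksonBorel
  Cfsg.Agent.Lib.Helper5.DicksonMain Cfsg.Agent.Lib.Helper5.DicksonOrders
open scoped MatrixGroups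

variable {F : Type*} [Field F] [Fintype F]

/-- in the subfield case over `GF(q ^ r)`, a subgroup whose order is divisible by that of `PSL₂(q)`
comes from `GF(q)` or from `GF(q ^ r)` -/
theorem subfield_between (H : Subgroup (Matrix.ProjectiveSpecialLinearGroup (Fin 2) F))
    (h : SubfieldCase H) (p a r : ℕ) (hp : p.Prime) (ha : 1 ≤ a) (hr : r.Prime)
    (hF : Fintype.card F = (p ^ a) ^ r) (g₀ N₀ : ℕ) (hg₀ : g₀ ∣ 2)
    (hN₀ : g₀ * N₀ = p ^ a * ((p ^ a - 1) * (p ^ a + 1))) (hdvd : N₀ ∣ Nat.card H) :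
    ∃ q₀ : ℕ, (q₀ = p ^ a ∨ q₀ = (p ^ a) ^ r) ∧
      (Nat.gcd 2 (q₀ - 1) * Nat.card H = q₀ * ((q₀ - 1) * (q₀ + 1)) ∨
        (Nat.card H = q₀ * ((q₀ - 1) * (q₀ + 1)) ∧ q₀ % 2 = 1)) := by
  obtain ⟨q₀, m, hq₀, hm, hcard⟩ := card_of_subfieldCase H h
  refine ⟨q₀, ?_, hcard⟩
  rw [hF] at hm
  have hq1 : 1 ≤ p ^ a := Nat.one_le_pow _ _ hp.pos
  have hm0 : m ≠ 0 := by
    rintro rfl
    rw [pow_zero] at hm
    have : 2 ≤ Fintype.card F := Fintype.one_lt_card
    omega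
  have h1 : Nat.card H ∣ q₀ * ((q₀ - 1) * (q₀ + 1)) := by
    rcases hcard with h1 | ⟨h1, -⟩
    · exact Dvd.intro_left _ h1
    · rw [h1]
  have h2 : p ^ a * ((p ^ a - 1) * (p ^ a + 1)) ∣ 2 * (q₀ * ((q₀ - 1) * (q₀ + 1))) := by
    rw [← hN₀]
    exact Nat.mul_dvd_mul hg₀ (hdvd.trans h1)
  exact subfield_arith p a r q₀ m hp ha hr hm
    (sq_sub_one_dvd (p ^ a) q₀ m r hq1 (by omega) hm hm0 h2)

/-- a subgroup containing `PSL₂(K)` with `#K ≥ 3` is not in the first two cases of Dickson's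
theorem (for `#K = 3` the characteristic must be odd) -/
theorem not_small_of_PSL {K : Type*} [Field K] [Fintype K] (p : ℕ) [Fact p.Prime] [CharP F p]
    (H : Subgroup (Matrix.ProjectiveSpecialLinearGroup (Fin 2) F))
    (f : Matrix.ProjectiveSpecialLinearGroup (Fin 2) K →* H) (hf : Function.Injective f)
    (hK : 3 ≤ Fintype.card K) (hp : p ≠ 2 ∨ 4 ≤ Fintype.card K) :
    ¬ CycDih H ∧ ¬ InBorel p H := by
  by_cases h4 : 4 ≤ Fintype.card K
  · have hns := DicksonMinSimple.not_isSolvable_PSL2 (F := K) h4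
    exact ⟨not_cycDih_of_not_isSolvable H hns f hf, not_inBorel_of_not_isSolvable p H hns f hf⟩
  · have h3 : Fintype.card K = 3 := by omega
    have hp2 : p ≠ 2 := hp.resolve_right h4
    obtain ⟨e⟩ := Cfsg.Agent.S0251.result h3
    have hf' : Function.Injective (f.comp e.symm.toMonoidHom) := hf.comp e.symm.injective
    exact ⟨not_cycDih_of_A4 H _ hf', not_inBorel_of_A4 p hp2 H _ hf'⟩

/-- the same for a subgroup containing `PGL₂(K)` -/
theorem not_small_of_PGL {K : Type*} [Field K] [Fintype K] (p : ℕ) [Fact p.Prime] [CharP F p]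
    (H : Subgroup (Matrix.ProjectiveSpecialLinearGroup (Fin 2) F))
    (f : Matrix.ProjGenLinGroup (Fin 2) K →* H) (hf : Function.Injective f)
    (hK : 3 ≤ Fintype.card K) (hp : p ≠ 2 ∨ 4 ≤ Fintype.card K) :
    ¬ CycDih H ∧ ¬ InBorel p H :=
  not_small_of_PSL p H (f.comp (ProjectiveSpecialLinearGroup.toPGL (n := Fin 2) (R := K)))
    (hf.comp ProjectiveSpecialLinearGroup.toPGL_injective) hK hp

/-- a finite field has prime power order, and any field of a power of that order has the same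
characteristic -/
theorem exists_prime_pow (K : Type*) [Field K] [Fintype K] :
    ∃ p a : ℕ, p.Prime ∧ 1 ≤ a ∧ Fintype.card K = p ^ a := by
  obtain ⟨p, hp⟩ := CharP.exists K
  obtain ⟨n, hn, hc⟩ := FiniteField.card K p
  exact ⟨p, n, hn, n.pos, hc⟩

end Cfsg.Agent.Lib.Helper5.DicksonMax
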