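import Mathlib
import Cfsg.Agent.Lib.Helper5.DicksonMax5

set_option autoImplicit false

/-! The dihedral subgroups of order `2 (q - 1) / d` of `PSL₂(q)` are maximal. -/

namespace Cfsg.Agent.Lib.Helper5.DicksonMax

open Matrix Cfsg.Agent.Lib.Helper4 Cfsg.Agent.Lib.Helper5.MobWild Cfsg.Agent.Lib.Helper5.DicksonBorel
  Cfsg.Agent.Lib.Helper5.DicksonMain Cfsg.Agent.Lib.Helper5.DicksonOrders
open scoped MatrixGroups

theorem not_prime_pow_six (p n : ℕ) (hp : p.Prime) (h : p ^ n = 6) : False := by
  have hn : n ≠ 0 := by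
    rintro rfl
    norm_num at h
  have h1 : p ∣ 2 * 3 := by
    have : p ∣ 6 := h ▸ dvd_pow_self p hn
    exact this
  have h2n : 2 ^ n ≤ 6 := (Nat.pow_le_pow_left hp.two_le n).trans h.le
  have hlt : n < 3 := by
    by_contra hge
    push Not at hge
    have : 2 ^ 3 ≤ 2 ^ n := Nat.pow_le_pow_right (by norm_num) hge
    omega
  rcases (Nat.Prime.dvd_mul hp).mp h1 with h2 | h2
  · have := (Nat.prime_dvd_prime_iff_eq hp Nat.prime_two).mp h2
    subst this
    interval_cases n <;> omega
  · have := (Nat.prime_dvd_prime_iff_eq hp Nat.prime_three).mp h2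
    subst this
    interval_cases n <;> omega

theorem gcd_two_cases (q : ℕ) (hq : 1 ≤ q) :
    (q % 2 = 0 ∧ Nat.gcd 2 (q - 1) = 1) ∨ (q % 2 = 1 ∧ Nat.gcd 2 (q - 1) = 2) := by
  rcases Nat.mod_two_eq_zero_or_one q with h | h
  · left; exact ⟨h, gcd_two_of_even h hq⟩
  · right; exact ⟨h, gcd_two_of_odd h⟩

variable {F : Type*} [Field F] [Fintype F]

/-- a dihedral subgroup of order `2 (q - 1) / d` is maximal -/
theorem dihedral_sub_maximal {q : ℕ} (hqdef : Fintype.card F = q)
    (hq : q ∉ ({2, 3, 5, 7, 9, 11} : Finset ℕ))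
    (H₀ : Subgroup (Matrix.ProjectiveSpecialLinearGroup (Fin 2) F))
    (e : H₀ ≃* DihedralGroup ((q - 1) / Nat.gcd 2 (q - 1))) :
    IsCoatom H₀ := by
  classical
  obtain ⟨p, hp⟩ := CharP.exists F
  have hpp : p.Prime := CharP.char_is_prime F p
  have : Fact p.Prime := ⟨hpp⟩
  obtain ⟨n, -, hn⟩ := FiniteField.card F p
  have hG := card_PSL2_mul (F := F)
  rw [hqdef] at hn hG
  simp only [Finset.mem_insert, Finset.mem_singleton, not_or] at hq
  obtain ⟨hq2, hq3, hq5, hq7, hq9, hq11⟩ := hq
  have hq1 : 2 ≤ q := hqdef ▸ Fintype.one_lt_card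
  have hpq : p ∣ q := by rw [hn]; exact dvd_pow_self p n.pos.ne'
  have hdm : Nat.gcd 2 (q - 1) * ((q - 1) / Nat.gcd 2 (q - 1)) = q - 1 :=
    Nat.mul_div_cancel' (Nat.gcd_dvd_right 2 (q - 1))
  have hdc := gcd_two_cases q (by omega)
  obtain ⟨d, hddef⟩ : ∃ d, Nat.gcd 2 (q - 1) = d := ⟨_, rfl⟩
  rw [hddef] at hdm hG hdc e
  obtain ⟨m, hmdef⟩ : ∃ m, (q - 1) / d = m := ⟨_, rfl⟩
  rw [hmdef] at hdm e
  have hm3 : 3 ≤ m := by
    rcases hdc with ⟨h0, h1⟩ | ⟨h0, h1⟩ <;> rw [h1] at hdm <;> omega
  have hcop : ¬ p ∣ m := by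
    intro h
    have h1 : p ∣ q - 1 := hdm ▸ (h.trans (dvd_mul_left m d))
    have h2 : p ∣ q - (q - 1) := Nat.dvd_sub hpq h1
    have h3 : q - (q - 1) = 1 := by omega
    rw [h3] at h2
    exact hpp.one_lt.ne' (Nat.dvd_one.mp h2)
  have hc0 : Nat.card H₀ = 2 * m := by rw [Nat.card_congr e.toEquiv, DihedralGroup.nat_card]
  have hGpos : 0 < Nat.card (Matrix.ProjectiveSpecialLinearGroup (Fin 2) F) := Nat.card_pos
  apply isCoatom_of_card
  · intro h
    rw [← Subgroup.card_eq_iff_eq_top, hc0] at h
    rw [← h] at hG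
    have h1 : 2 * (q - 1) = q * ((q - 1) * (q + 1)) := by rw [← hG, ← hdm]; ring
    have h2 : 2 * (q - 1) < q * ((q - 1) * (q + 1)) := by
      have : 2 * ((q - 1) * 3) ≤ q * ((q - 1) * (q + 1)) :=
        Nat.mul_le_mul hq1 (Nat.mul_le_mul_left _ (by omega))
      have : 0 < q - 1 := by omega
      omega
    omega
  · intro H hle hne
    rw [hc0]
    obtain ⟨f, hf⟩ := exists_embedding e hle
    have hdvd : 2 * m ∣ Nat.card H := hc0 ▸ Subgroup.card_dvd_of_le hle
    have hxord : orderOf (f (DihedralGroup.r 1)) = m := by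
      rw [orderOf_injective f hf, DihedralGroup.orderOf_r_one]
    have hHG : Nat.card H ∣ Nat.card (Matrix.ProjectiveSpecialLinearGroup (Fin 2) F) :=
      Subgroup.card_subgroup_dvd_card H
    have h2H := two_mul_card_le H hne
    have hHpos : 0 < Nat.card H := Nat.card_pos
    rcases dickson p H with h | h | ⟨⟨e'⟩⟩ | ⟨⟨e'⟩⟩ | ⟨⟨e'⟩⟩ | h
    · -- cyclic or dihedral
      obtain ⟨k, hk, hcase⟩ := h
      rw [hqdef, hddef, hmdef] at hk
      rcases hcase with ⟨-, hcard⟩ | ⟨⟨e''⟩⟩
      · exfalso
        rw [hcard] at hdvd hHpos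
        have h1 : 2 * m ≤ k := Nat.le_of_dvd hHpos hdvd
        rcases hk with hk | hk
        · have hpos : 0 < (q + 1) / d := by
            apply Nat.div_pos _ (by rcases hdc with ⟨-, h1⟩ | ⟨-, h1⟩ <;> omega)
            rcases hdc with ⟨-, h1⟩ | ⟨-, h1⟩ <;> omega
          have h2 : k ≤ (q + 1) / d := Nat.le_of_dvd hpos hk
          have h3 : d * ((q + 1) / d) ≤ q + 1 := Nat.mul_div_le _ _
          have h4 : d * (2 * m) ≤ d * ((q + 1) / d) := Nat.mul_le_mul_left _ (h1.trans h2)
          have h5 : d * (2 * m) = 2 * (q - 1) := by rw [← hdm]; ring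
          omega
        · have h2 : k ≤ m := Nat.le_of_dvd (by omega) hk
          omega
      · have hcard : Nat.card H = 2 * k := by
          rw [Nat.card_congr e''.toEquiv, DihedralGroup.nat_card]
        rw [hcard] at hdvd ⊢
        have hmk : m ∣ k := Nat.dvd_of_mul_dvd_mul_left (by norm_num) hdvd
        rcases hk with hk | hk
        · exfalso
          have hd1 : d ∣ q + 1 := by
            rcases hdc with ⟨h0, h1⟩ | ⟨h0, h1⟩ <;> rw [h1] <;> omega
          have h1 : d * m ∣ d * ((q + 1) / d) := Nat.mul_dvd_mul_left d (hmk.trans hk)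
          rw [Nat.mul_div_cancel' hd1, hdm] at h1
          have h2 : q - 1 ∣ (q + 1) - (q - 1) := Nat.dvd_sub h1 (dvd_refl _)
          have h3 : (q + 1) - (q - 1) = 2 := by omega
          rw [h3] at h2
          have := Nat.le_of_dvd (by norm_num) h2
          omega
        · rw [Nat.dvd_antisymm hk hmk]
    · exact absurd h (not_inBorel_of_dihedral p H m hm3 hcop f hf)
    · exact absurd (e'.injective.comp hf) (not_injective_dihedral_A4 m hm3 (e'.toMonoidHom.comp f))
    · exfalso
      have h1 : orderOf (e' (f (DihedralGroup.r 1))) = m := by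
        rw [MulEquiv.orderOf_eq, hxord]
      have h2 := orderOf_S4 (e' (f (DihedralGroup.r 1)))
      rw [h1] at h2
      have hcard : Nat.card H = 24 := by rw [Nat.card_congr e'.toEquiv, card_S4]
      rw [hcard] at hHG
      have hm34 : m = 3 ∨ m = 4 := by
        rcases h2 with h | h | h
        · have := Nat.le_of_dvd (by norm_num) h; omega
        · have := Nat.le_of_dvd (by norm_num) h; omega
        · have := Nat.le_of_dvd (by norm_num) h; omega
      rcases hdc with ⟨h0, h1⟩ | ⟨h0, h1⟩ <;> rw [h1] at hdm hG <;> rcases hm34 with h | h <;>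
        rw [h] at hdm
      · have hq4 : q = 4 := by omega
        subst hq4
        norm_num at hG
        rw [Nat.card_eq_fintype_card, hG] at hHG
        omega
      · omega
      · omega
      · omega
    · exfalso
      have h1 : orderOf (e' (f (DihedralGroup.r 1))) = m := by
        rw [MulEquiv.orderOf_eq, hxord]
      have h2 := orderOf_A5 (e' (f (DihedralGroup.r 1)))
      rw [h1] at h2
      have hcard : Nat.card H = 60 := by rw [Nat.card_congr e'.toEquiv, card_A5]
      have hm35 : m = 3 ∨ m = 5 := by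
        rcases h2 with h | h | h
        · have := Nat.le_of_dvd (by norm_num) h; omega
        · have := Nat.le_of_dvd (by norm_num) h; omega
        · have := Nat.le_of_dvd (by norm_num) h
          have h5 : m ≠ 4 := by rintro rfl; omega
          omega
      rcases hdc with ⟨h0, h1⟩ | ⟨h0, h1⟩ <;> rw [h1] at hdm hG <;> rcases hm35 with h | h <;>
        rw [h] at hdm
      · have hq4 : q = 4 := by omega
        subst hq4
        norm_num at hG
        apply hne
        rw [← Subgroup.card_eq_iff_eq_top, hcard, Nat.card_eq_fintype_card, hG]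
      · have hq6 : q = 6 := by omega
        subst hq6
        exact not_prime_pow_six p n hpp hn.symm
      · omega
      · omega
    · obtain ⟨q₀, m', hq₀, hm', hord, hcard⟩ := subfield_order p H h (f (DihedralGroup.r 1))
        (by rw [hxord]; exact hcop)
      rw [hxord] at hord
      rw [hqdef] at hm'
      have hmle : m ≤ q₀ + 1 := by
        rcases hord with h | h
        · exact Nat.le_of_dvd (by omega) h
        · have := Nat.le_of_dvd (by omega) h
          omega
      rcases Nat.lt_or_ge m' 2 with hlt | hge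
      · exfalso
        interval_cases m'
        · rw [pow_zero] at hm'; omega
        · rw [pow_one] at hm'
          subst hm'
          rcases hcard with h1 | ⟨h1, -⟩
          · apply hne
            apply eq_top_of_card
            rw [hqdef]
            exact h1
          · rw [h1, ← hG] at h2H
            have : 1 ≤ d := by rcases hdc with ⟨-, h1⟩ | ⟨-, h1⟩ <;> omega
            nlinarith
      · have hsq : q₀ * q₀ ≤ q := by
          rw [← hm', ← pow_two]
          exact Nat.pow_le_pow_right (by omega) hge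
        rcases hdc with ⟨h0, h1⟩ | ⟨h0, h1⟩ <;> rw [h1] at hdm hG
        · have hq₀2 : q₀ = 2 := by
            by_contra hne2
            have h3 : 3 ≤ q₀ := by omega
            have h4 : 3 * q₀ ≤ q₀ * q₀ := Nat.mul_le_mul_right q₀ h3
            omega
          subst hq₀2
          have hq4 : q = 4 := by omega
          rcases hcard with h1 | ⟨-, h1⟩
          · have h5 : Nat.gcd 2 (2 - 1) = 1 := by norm_num
            have h6 : 2 * ((2 - 1) * (2 + 1)) = 6 := by norm_num
            rw [h5, h6] at h1
            omega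
          · omega
        · exfalso
          have hq₀3 : q₀ ≤ 3 := by
            by_contra hgt
            push Not at hgt
            have h4 : 4 * q₀ ≤ q₀ * q₀ := Nat.mul_le_mul_right q₀ (by omega)
            omega
          interval_cases q₀
          · have : 2 ∣ q := hm' ▸ dvd_pow_self 2 (by omega)
            omega
          · omega

end Cfsg.Agent.Lib.Helper5.DicksonMax
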