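import Mathlib
import Cfsg.Agent.Lib.Helper5.DicksonMax6

set_option autoImplicit false

/-! The dihedral subgroups of order `2 (q + 1) / d` of `PSL₂(q)` are maximal. -/

namespace Cfsg.Agent.Lib.Helper5.DicksonMax

open Matrix Cfsg.Agent.Lib.Helper4 Cfsg.Agent.Lib.Helper5.MobWild Cfsg.Agent.Lib.Helper5.DicksonBorel
  Cfsg.Agent.Lib.Helper5.DicksonMain Cfsg.Agent.Lib.Helper5.DicksonOrders
open scoped MatrixGroups

variable {F : Type*} [Field F] [Fintype F]

/-- a dihedral subgroup of order `2 (q + 1) / d` is maximal -/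
theorem dihedral_add_maximal {q : ℕ} (hqdef : Fintype.card F = q)
    (hq : q ∉ ({2, 7, 9} : Finset ℕ))
    (H₀ : Subgroup (Matrix.ProjectiveSpecialLinearGroup (Fin 2) F))
    (e : H₀ ≃* DihedralGroup ((q + 1) / Nat.gcd 2 (q - 1))) :
    IsCoatom H₀ := by
  classical
  obtain ⟨p, hp⟩ := CharP.exists F
  have hpp : p.Prime := CharP.char_is_prime F p
  have : Fact p.Prime := ⟨hpp⟩
  obtain ⟨n, -, hn⟩ := FiniteField.card F p
  have hG := card_PSL2_mul (F := F)
  rw [hqdef] at hn hG
  simp only [Finset.mem_insert, Finset.mem_singleton, not_or] at hq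
  obtain ⟨hq2, hq7, hq9⟩ := hq
  have hq1 : 3 ≤ q := by
    have : 2 ≤ q := hqdef ▸ Fintype.one_lt_card
    omega
  have hpq : p ∣ q := by rw [hn]; exact dvd_pow_self p n.pos.ne'
  have hdc := gcd_two_cases q (by omega)
  obtain ⟨d, hddef⟩ : ∃ d, Nat.gcd 2 (q - 1) = d := ⟨_, rfl⟩
  rw [hddef] at hG hdc e
  have hd1 : d ∣ q + 1 := by
    rcases hdc with ⟨h0, h1⟩ | ⟨h0, h1⟩ <;> rw [h1] <;> omega
  have hdm : d * ((q + 1) / d) = q + 1 := Nat.mul_div_cancel' hd1
  obtain ⟨m, hmdef⟩ : ∃ m, (q + 1) / d = m := ⟨_, rfl⟩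
  rw [hmdef] at hdm e
  have hc0 : Nat.card H₀ = 2 * m := by rw [Nat.card_congr e.toEquiv, DihedralGroup.nat_card]
  have hGpos : 0 < Nat.card (Matrix.ProjectiveSpecialLinearGroup (Fin 2) F) := Nat.card_pos
  have hne_top : H₀ ≠ ⊤ := by
    intro h
    rw [← Subgroup.card_eq_iff_eq_top, hc0] at h
    rw [← h] at hG
    have h1 : 2 * (q + 1) = q * ((q - 1) * (q + 1)) := by rw [← hG, ← hdm]; ring
    have h2 : 3 * (2 * (q + 1)) ≤ q * ((q - 1) * (q + 1)) :=
      Nat.mul_le_mul hq1 (Nat.mul_le_mul_right _ (by omega))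
    omega
  -- the case `q = 3`
  by_cases hq3 : q = 3
  · subst hq3
    have hm2 : m = 2 := by
      rcases hdc with ⟨h0, h1⟩ | ⟨h0, h1⟩
      · omega
      · rw [h1] at hdm; omega
    have hd2 : d = 2 := by
      rcases hdc with ⟨h0, h1⟩ | ⟨h0, h1⟩
      · omega
      · exact h1
    rw [hd2] at hG
    norm_num at hG
    apply isCoatom_of_card _ hne_top
    intro H hle hne
    rw [hc0, hm2]
    have hdvd : Nat.card H₀ ∣ Nat.card H := Subgroup.card_dvd_of_le hle
    rw [hc0, hm2] at hdvd
    have h2H := two_mul_card_le H hne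
    rw [Nat.card_eq_fintype_card (α := Matrix.ProjectiveSpecialLinearGroup (Fin 2) F)] at h2H
    have hHpos : 0 < Nat.card H := Nat.card_pos
    omega
  have hm3 : 3 ≤ m := by
    rcases hdc with ⟨h0, h1⟩ | ⟨h0, h1⟩ <;> rw [h1] at hdm <;> omega
  have hcop : ¬ p ∣ m := by
    intro h
    have h1 : p ∣ q + 1 := hdm ▸ (h.trans (dvd_mul_left m d))
    have h2 : p ∣ (q + 1) - q := Nat.dvd_sub h1 hpq
    have h3 : (q + 1) - q = 1 := by omega
    rw [h3] at h2
    exact hpp.one_lt.ne' (Nat.dvd_one.mp h2)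
  apply isCoatom_of_card _ hne_top
  intro H hle hne
  rw [hc0]
  obtain ⟨f, hf⟩ := exists_embedding e hle
  have hdvd : 2 * m ∣ Nat.card H := hc0 ▸ Subgroup.card_dvd_of_le hle
  have hxord : orderOf (f (DihedralGroup.r 1)) = m := by
    rw [orderOf_injective f hf, DihedralGroup.orderOf_r_one]
  have hHG : Nat.card H ∣ Nat.card (Matrix.ProjectiveSpecialLinearGroup (Fin 2) F) :=
    Subgroup.card_subgroup_dvd_card H
  have h2H := two_mul_card_le H hne
  have hHpos : 0 < Nat.card H := Nat.card_pos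
  have hdpos : 1 ≤ d := by rcases hdc with ⟨-, h1⟩ | ⟨-, h1⟩ <;> omega
  have hd2 : d ≤ 2 := by rcases hdc with ⟨-, h1⟩ | ⟨-, h1⟩ <;> omega
  rcases dickson p H with h | h | ⟨⟨e'⟩⟩ | ⟨⟨e'⟩⟩ | ⟨⟨e'⟩⟩ | h
  · -- cyclic or dihedral
    obtain ⟨k, hk, hcase⟩ := h
    rw [hqdef, hddef, hmdef] at hk
    have hsub : ∀ k' : ℕ, k' ∣ (q - 1) / d → m ≤ k' → False := by
      intro k' hk' hmk'
      have hpos : 0 < (q - 1) / d := Nat.div_pos (by omega) (by omega)
      have h2 : k' ≤ (q - 1) / d := Nat.le_of_dvd hpos hk'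
      have h3 : d * ((q - 1) / d) ≤ q - 1 := Nat.mul_div_le _ _
      have h4 : d * m ≤ d * ((q - 1) / d) := Nat.mul_le_mul_left _ (hmk'.trans h2)
      omega
    rcases hcase with ⟨-, hcard⟩ | ⟨⟨e''⟩⟩
    · exfalso
      rw [hcard] at hdvd hHpos
      have h1 : 2 * m ≤ k := Nat.le_of_dvd hHpos hdvd
      rcases hk with hk | hk
      · have h2 : k ≤ m := Nat.le_of_dvd (by omega) hk
        omega
      · exact hsub k hk (by omega)
    · have hcard : Nat.card H = 2 * k := by
        rw [Nat.card_congr e''.toEquiv, DihedralGroup.nat_card]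
      rw [hcard] at hdvd ⊢
      have hmk : m ∣ k := Nat.dvd_of_mul_dvd_mul_left (by norm_num) hdvd
      rcases hk with hk | hk
      · rw [Nat.dvd_antisymm hk hmk]
      · exfalso
        have hkpos : 0 < k := by
          rcases Nat.eq_zero_or_pos k with h0 | h0
          · rw [h0, mul_zero] at hcard; omega
          · exact h0
        exact hsub k hk (Nat.le_of_dvd hkpos hmk)
  · exact absurd h (not_inBorel_of_dihedral p H m hm3 hcop f hf)
  · exact absurd (e'.injective.comp hf) (not_injective_dihedral_A4 m hm3 (e'.toMonoidHom.comp f))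
  · exfalso
    have h1 : orderOf (e' (f (DihedralGroup.r 1))) = m := by
      rw [MulEquiv.orderOf_eq, hxord]
    have h2 := orderOf_S4 (e' (f (DihedralGroup.r 1)))
    rw [h1] at h2
    have hcard : Nat.card H = 24 := by rw [Nat.card_congr e'.toEquiv, card_S4]
    rw [hcard] at hHG
    have hm34 : m = 3 ∨ m = 4 := by
      rcases h2 with h | h | h
      · have := Nat.le_of_dvd (by norm_num) h; omega
      · have := Nat.le_of_dvd (by norm_num) h; omega
      · have := Nat.le_of_dvd (by norm_num) h; omega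
    rcases hdc with ⟨h0, h1⟩ | ⟨h0, h1⟩ <;> rw [h1] at hdm hG <;> rcases hm34 with h | h <;>
      rw [h] at hdm
    · omega
    · omega
    · have hq5 : q = 5 := by omega
      subst hq5
      norm_num at hG
      rw [Nat.card_eq_fintype_card] at hHG
      omega
    · omega
  · exfalso
    have h1 : orderOf (e' (f (DihedralGroup.r 1))) = m := by
      rw [MulEquiv.orderOf_eq, hxord]
    have h2 := orderOf_A5 (e' (f (DihedralGroup.r 1)))
    rw [h1] at h2
    have hcard : Nat.card H = 60 := by rw [Nat.card_congr e'.toEquiv, card_A5]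
    have hm35 : m = 3 ∨ m = 5 := by
      rcases h2 with h | h | h
      · have := Nat.le_of_dvd (by norm_num) h; omega
      · have := Nat.le_of_dvd (by norm_num) h; omega
      · have := Nat.le_of_dvd (by norm_num) h
        have h5 : m ≠ 4 := by rintro rfl; omega
        omega
    rcases hdc with ⟨h0, h1⟩ | ⟨h0, h1⟩ <;> rw [h1] at hdm hG <;> rcases hm35 with h | h <;>
      rw [h] at hdm
    · omega
    · have hq4 : q = 4 := by omega
      subst hq4
      norm_num at hG
      apply hne
      rw [← Subgroup.card_eq_iff_eq_top, hcard, Nat.card_eq_fintype_card, hG]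
    · have hq5 : q = 5 := by omega
      subst hq5
      norm_num at hG
      apply hne
      rw [← Subgroup.card_eq_iff_eq_top, hcard, Nat.card_eq_fintype_card]
      omega
    · omega
  · exfalso
    obtain ⟨q₀, m', hq₀, hm', hord, hcard⟩ := subfield_order p H h (f (DihedralGroup.r 1))
      (by rw [hxord]; exact hcop)
    rw [hxord] at hord
    rw [hqdef] at hm'
    have hmle : m ≤ q₀ + 1 := by
      rcases hord with h | h
      · exact Nat.le_of_dvd (by omega) h
      · have := Nat.le_of_dvd (by omega) h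
        omega
    rcases Nat.lt_or_ge m' 2 with hlt | hge
    · interval_cases m'
      · rw [pow_zero] at hm'; omega
      · rw [pow_one] at hm'
        subst hm'
        rcases hcard with h1 | ⟨h1, -⟩
        · apply hne
          apply eq_top_of_card
          rw [hqdef]
          exact h1
        · rw [h1, ← hG] at h2H
          nlinarith
    · have hsq : q₀ * q₀ ≤ q := by
        rw [← hm', ← pow_two]
        exact Nat.pow_le_pow_right (by omega) hge
      have h2q : 2 * q₀ ≤ q₀ * q₀ := Nat.mul_le_mul_right q₀ hq₀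
      rcases hdc with ⟨h0, h1⟩ | ⟨h0, h1⟩ <;> rw [h1] at hdm hG
      · omega
      · have hq₀2 : q₀ = 2 := by
          by_contra hne2
          have h3 : 3 ≤ q₀ := by omega
          have h4 : 3 * q₀ ≤ q₀ * q₀ := Nat.mul_le_mul_right q₀ h3
          omega
        subst hq₀2
        have : 2 ∣ q := hm' ▸ dvd_pow_self 2 (by omega)
        omega

end Cfsg.Agent.Lib.Helper5.DicksonMax
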