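import Mathlib
import Cfsg.Agent.Lib.Helper5.DicksonMinSimple
import Cfsg.Agent.S0493

set_option autoImplicit false

/-! The minimal simple groups `PSL₂(q)`: arithmetic and the two directions. -/

namespace Cfsg.Agent.Lib.Helper5.DicksonMinSimple

open Matrix Cfsg.Agent.Lib.Helper4 Cfsg.Agent.Lib.Helper5.MobWild Cfsg.Agent.Lib.Helper5.DicksonBorel
  Cfsg.Agent.Lib.Helper5.DicksonMain Cfsg.Agent.Lib.Helper5.DicksonOrders
  Cfsg.Agent.Lib.Helper5.DicksonSolv
open scoped MatrixGroups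

/-- the list of orders `q` for which `PSL₂(q)` is minimal simple -/
def InList (q : ℕ) : Prop :=
  (∃ r : ℕ, r.Prime ∧ q = 2 ^ r) ∨ (∃ r : ℕ, r.Prime ∧ r ≠ 2 ∧ q = 3 ^ r) ∨
    (q.Prime ∧ 5 < q ∧ (q % 5 = 2 ∨ q % 5 = 3)) ∨ q = 5

theorem four_pow_mod (k : ℕ) : 4 ^ k % 5 = 1 ∨ 4 ^ k % 5 = 4 := by
  induction k with
  | zero => left; rfl
  | succ k ih =>
    rw [pow_succ, Nat.mul_mod]
    rcases ih with h | h <;> rw [h] <;> simp

theorem not_five_dvd_of_mod {q : ℕ} (hq : q % 5 = 2 ∨ q % 5 = 3) :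
    ¬ 5 ∣ q * ((q - 1) * (q + 1)) := by
  intro h
  have h5 : Nat.Prime 5 := by norm_num
  rcases (Nat.Prime.dvd_mul h5).mp h with h1 | h1
  · omega
  · rcases (Nat.Prime.dvd_mul h5).mp h1 with h2 | h2 <;> omega

/-- for `q` in the list other than 4 and 5, five does not divide `q (q² - 1)` -/
theorem not_five_dvd_of_inList {q : ℕ} (h : InList q) (h4 : q ≠ 4) (h5 : q ≠ 5) :
    ¬ 5 ∣ q * ((q - 1) * (q + 1)) := by
  apply not_five_dvd_of_mod
  rcases h with ⟨r, hr, rfl⟩ | ⟨r, hr, hr2, rfl⟩ | ⟨-, -, h⟩ | h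
  · rcases hr.eq_two_or_odd' with rfl | ⟨k, rfl⟩
    · exact absurd rfl h4
    · rw [pow_succ, pow_mul, Nat.mul_mod]
      rcases four_pow_mod k with h | h <;> rw [show (2 : ℕ) ^ 2 = 4 from rfl, h] <;> simp
  · rcases hr.eq_two_or_odd' with rfl | ⟨k, rfl⟩
    · exact absurd rfl hr2
    · rw [pow_succ, pow_mul, Nat.mul_mod, show (3 : ℕ) ^ 2 = 9 from rfl, Nat.pow_mod]
      rcases four_pow_mod k with h | h <;> rw [show (9 : ℕ) % 5 = 4 from rfl, h] <;> simp
  · exact h
  · exact absurd h h5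

/-- in the list, the only subfield orders are 2, 3 and `q` -/
theorem subfield_of_inList {q q₀ m : ℕ} (h : InList q) (hq₀ : 2 ≤ q₀) (hm : q₀ ^ m = q) :
    q₀ = 2 ∨ q₀ = 3 ∨ q₀ = q := by
  have hm0 : m ≠ 0 := by
    rintro rfl
    rw [pow_zero] at hm
    rcases h with ⟨r, hr, h⟩ | ⟨r, hr, -, h⟩ | ⟨h, -⟩ | h
    · have := Nat.one_lt_two_pow hr.ne_zero
      omega
    · have : 1 < 3 ^ r := Nat.one_lt_pow hr.ne_zero (by norm_num)
      omega
    · exact Nat.not_prime_one (hm ▸ h)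
    · omega
  have hdvd : q₀ ∣ q := hm ▸ dvd_pow_self q₀ hm0
  have key : ∀ (l r : ℕ), l.Prime → r.Prime → q = l ^ r → q₀ = l ∨ q₀ = q := by
    intro l r hl hr hq
    rw [hq] at hdvd
    obtain ⟨a, -, rfl⟩ := (Nat.dvd_prime_pow hl).mp hdvd
    rw [hq, ← pow_mul] at hm
    have ham : a * m = r := Nat.pow_right_injective hl.two_le hm
    have hadvd : a ∣ r := ⟨m, ham.symm⟩
    rcases (Nat.dvd_prime hr).mp hadvd with rfl | rfl
    · left; rw [pow_one]
    · right; rw [hq]
  have keyp : q.Prime → q₀ = q := by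
    intro hq
    rcases (Nat.dvd_prime hq).mp hdvd with h1 | h1
    · omega
    · exact h1
  rcases h with ⟨r, hr, h⟩ | ⟨r, hr, -, h⟩ | ⟨h, -⟩ | h
  · rcases key 2 r Nat.prime_two hr h with h1 | h1
    · left; exact h1
    · right; right; exact h1
  · rcases key 3 r Nat.prime_three hr h with h1 | h1
    · right; left; exact h1
    · right; right; exact h1
  · right; right; exact keyp h
  · right; right; exact keyp (by rw [h]; norm_num)

theorem four_le_of_inList {q : ℕ} (h : InList q) : 4 ≤ q := by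
  rcases h with ⟨r, hr, rfl⟩ | ⟨r, hr, -, rfl⟩ | ⟨-, h, -⟩ | h
  · calc 4 = 2 ^ 2 := rfl
      _ ≤ 2 ^ r := Nat.pow_le_pow_right (by norm_num) hr.two_le
  · calc 4 ≤ 3 ^ 2 := by norm_num
      _ ≤ 3 ^ r := Nat.pow_le_pow_right (by norm_num) hr.two_le
  · omega
  · omega

variable {F : Type*} [Field F] [Fintype F]

/-- in the list, all proper subgroups are solvable -/
theorem isSolvable_of_inList (p : ℕ) [Fact p.Prime] [CharP F p] (h : InList (Fintype.card F))
    (H : Subgroup (Matrix.ProjectiveSpecialLinearGroup (Fin 2) F)) (hH : H ≠ ⊤) :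
    Group.IsSolvable H := by
  set q := Fintype.card F with hq
  have hq4 := four_le_of_inList h
  have hGcard := card_PSL2_mul (F := F)
  rw [← hq] at hGcard
  set N := Nat.card (Matrix.ProjectiveSpecialLinearGroup (Fin 2) F) with hN
  set d := Nat.gcd 2 (q - 1) with hd
  have hd1 : 1 ≤ d := Nat.gcd_pos_of_pos_left _ (by norm_num)
  have hne : Nat.card H ≠ N := fun heq => hH (Subgroup.eq_top_of_card_eq H heq)
  have hdvd : Nat.card H ∣ N := Subgroup.card_subgroup_dvd_card H
  have hNpos : 0 < N := Nat.card_pos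
  rcases dickson p H with h1 | h1 | ⟨⟨e⟩⟩ | ⟨⟨e⟩⟩ | ⟨⟨e⟩⟩ | h1
  · exact isSolvable_of_cycDih H h1
  · exact isSolvable_of_inBorel p H h1
  · exact isSolvable_of_card_12 (by rw [Nat.card_congr e.toEquiv, card_A4])
  · exact isSolvable_of_card_24 (by rw [Nat.card_congr e.toEquiv, card_S4])
  · exfalso
    have h60 : Nat.card H = 60 := by rw [Nat.card_congr e.toEquiv, card_A5]
    rw [h60] at hdvd hne
    have h5 : 5 ∣ q * ((q - 1) * (q + 1)) := by
      rw [← hGcard]
      exact Dvd.dvd.mul_left (dvd_trans (by norm_num) hdvd) _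
    by_cases hq4' : q = 4
    · rw [hq4'] at hGcard
      have : d = 1 := by rw [hd, hq4']; rfl
      rw [this] at hGcard
      omega
    by_cases hq5 : q = 5
    · rw [hq5] at hGcard
      have : d = 2 := by rw [hd, hq5]; rfl
      rw [this] at hGcard
      omega
    exact not_five_dvd_of_inList h hq4' hq5 h5
  · obtain ⟨K, _, _, m, hm, hK⟩ := h1
    have hq₀ : 2 ≤ Fintype.card K := Fintype.one_lt_card
    rcases subfield_of_inList h hq₀ hm with h2 | h2 | h2
    · -- `K` has two elements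
      rcases hK with ⟨⟨e⟩⟩ | ⟨⟨e⟩⟩
      · have hc := card_PSL2_mul (F := K)
        rw [h2] at hc
        have : Nat.gcd 2 (2 - 1) = 1 := rfl
        rw [this] at hc
        exact isSolvable_of_card_6 (by rw [Nat.card_congr e.toEquiv]; omega)
      · have hc := card_pgl (K := K) 2 h2
        exact isSolvable_of_card_6 (by rw [Nat.card_congr e.toEquiv, hc])
    · rcases hK with ⟨⟨e⟩⟩ | ⟨⟨e⟩⟩
      · have hc := card_PSL2_mul (F := K)
        rw [h2] at hc
        have : Nat.gcd 2 (3 - 1) = 2 := rfl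
        rw [this] at hc
        exact isSolvable_of_card_12 (by rw [Nat.card_congr e.toEquiv]; omega)
      · have hc := card_pgl (K := K) 3 h2
        exact isSolvable_of_card_24 (by rw [Nat.card_congr e.toEquiv, hc])
    · exfalso
      rcases hK with ⟨⟨e⟩⟩ | ⟨⟨e⟩⟩
      · have hc := card_PSL2_mul (F := K)
        rw [h2, ← hd, ← Nat.card_congr e.toEquiv, ← hGcard] at hc
        exact hne (Nat.eq_of_mul_eq_mul_left hd1 hc)
      · have hc := card_pgl (K := K) q h2
        rw [← Nat.card_congr e.toEquiv, ← hGcard] at hc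
        have hle : Nat.card H ≤ N := Nat.le_of_dvd hNpos hdvd
        have : d = 1 := by nlinarith
        rw [this, one_mul] at hc
        exact hne hc

end Cfsg.Agent.Lib.Helper5.DicksonMinSimple
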