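import Mathlib

set_option autoImplicit false

namespace Cfsg.Agent.Lib.Helper5.TensorForm

open TensorProduct Module

variable {F U W : Type*} [Field F] [AddCommGroup U] [Module F U] [AddCommGroup W] [Module F W]

theorem tmul_apply (B₁ : LinearMap.BilinForm F U) (B₂ : LinearMap.BilinForm F W) (u u' : U) (w w' : W) :
    (B₁.tmul B₂) (u ⊗ₜ[F] w) (u' ⊗ₜ[F] w') = B₁ u u' * B₂ w w' := by
  show B₂ w w' • B₁ u u' = _
  rw [smul_eq_mul, mul_comm]

theorem toMatrix_tmul {ι κ : Type*} [Fintype ι] [Fintype κ] [DecidableEq ι] [DecidableEq κ]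
    (b₁ : Basis ι F U) (b₂ : Basis κ F W)
    (B₁ : LinearMap.BilinForm F U) (B₂ : LinearMap.BilinForm F W) :
    LinearMap.BilinForm.toMatrix (b₁.tensorProduct b₂) (B₁.tmul B₂) =
      Matrix.kroneckerMap (· * ·) (LinearMap.BilinForm.toMatrix b₁ B₁) (LinearMap.BilinForm.toMatrix b₂ B₂) := by
  ext ⟨i, j⟩ ⟨i', j'⟩
  rw [LinearMap.BilinForm.toMatrix_apply, Basis.tensorProduct_apply, Basis.tensorProduct_apply, tmul_apply,
    Matrix.kroneckerMap_apply, LinearMap.BilinForm.toMatrix_apply, LinearMap.BilinForm.toMatrix_apply]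

theorem nondegenerate_tmul [FiniteDimensional F U] [FiniteDimensional F W]
    (B₁ : LinearMap.BilinForm F U) (B₂ : LinearMap.BilinForm F W)
    (h₁ : B₁.Nondegenerate) (h₂ : B₂.Nondegenerate) : (B₁.tmul B₂).Nondegenerate := by
  classical
  let b₁ := Module.finBasis F U
  let b₂ := Module.finBasis F W
  show LinearMap.BilinForm.Nondegenerate (B₁.tmul B₂)
  rw [LinearMap.BilinForm.nondegenerate_iff_det_ne_zero (b₁.tensorProduct b₂), toMatrix_tmul]
  have d₁ := (LinearMap.BilinForm.nondegenerate_iff_det_ne_zero b₁).mp h₁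
  have d₂ := (LinearMap.BilinForm.nondegenerate_iff_det_ne_zero b₂).mp h₂
  have := Matrix.det_kronecker (LinearMap.BilinForm.toMatrix b₁ B₁) (LinearMap.BilinForm.toMatrix b₂ B₂)
  rw [this]
  exact mul_ne_zero (pow_ne_zero _ d₁) (pow_ne_zero _ d₂)

theorem isSymm_tmul_of_isAlt (B₁ : LinearMap.BilinForm F U) (B₂ : LinearMap.BilinForm F W)
    (hA₁ : B₁.IsAlt) (hA₂ : B₂.IsAlt) : (B₁.tmul B₂).IsSymm := by
  rw [LinearMap.isSymm_iff_eq_flip]
  apply LinearMap.ext
  intro x
  apply LinearMap.ext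
  intro y
  induction x using TensorProduct.induction_on with
  | zero => simp
  | add x x' hx hx' =>
    simp only [map_add, LinearMap.add_apply, LinearMap.flip_apply] at hx hx' ⊢
    rw [hx, hx']
  | tmul u w =>
    induction y using TensorProduct.induction_on with
    | zero => simp
    | add y y' hy hy' =>
      simp only [map_add, LinearMap.flip_apply] at hy hy' ⊢
      rw [hy, hy']
    | tmul u' w' =>
      rw [LinearMap.flip_apply, tmul_apply, tmul_apply, ← hA₁.neg_eq u u', ← hA₂.neg_eq w w']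
      ring

theorem eq_zero_of_span {V : Type*} [AddCommGroup V] [Module F V] (B : LinearMap.BilinForm F V)
    (S : Set V) (hS : ∀ s ∈ S, ∀ t ∈ S, B s t = 0) :
    ∀ x ∈ Submodule.span F S, ∀ y ∈ Submodule.span F S, B x y = 0 := by
  intro x hx y hy
  induction hx using Submodule.span_induction with
  | mem s hs =>
    induction hy using Submodule.span_induction with
    | mem t ht => exact hS s hs t ht
    | zero => simp
    | add a b _ _ ha hb => rw [map_add, ha, hb, add_zero]
    | smul c a _ ha => rw [map_smul, ha, smul_zero]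
  | zero => simp
  | add a b _ _ ha hb => rw [map_add, LinearMap.add_apply, ha, hb, add_zero]
  | smul c a _ ha => rw [map_smul, LinearMap.smul_apply, ha, smul_zero]

/-- The span of `e i ⊗ c j` for a linearly independent family `e` and a basis `c`. -/
theorem exists_isotropic_tensor [FiniteDimensional F U] [FiniteDimensional F W]
    (B₁ : LinearMap.BilinForm F U) (B₂ : LinearMap.BilinForm F W) {k : ℕ} (e : Fin k → U)
    (he : LinearIndependent F e) (hee : ∀ i j, B₁ (e i) (e j) = 0) :
    ∃ X : Submodule F (U ⊗[F] W), finrank F X = k * finrank F W ∧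
      ∀ x ∈ X, ∀ y ∈ X, (B₁.tmul B₂) x y = 0 := by
  classical
  let c := Module.finBasis F W
  let fam : Fin k × Fin (finrank F W) → U ⊗[F] W := fun p => e p.1 ⊗ₜ[F] c p.2
  have hli : LinearIndependent F fam := he.tmul_of_isDomain c.linearIndependent
  refine ⟨Submodule.span F (Set.range fam), ?_, ?_⟩
  · rw [finrank_span_eq_card hli]
    simp
  · apply eq_zero_of_span
    rintro _ ⟨p, rfl⟩ _ ⟨p', rfl⟩
    show (B₁.tmul B₂) (e p.1 ⊗ₜ[F] c p.2) (e p'.1 ⊗ₜ[F] c p'.2) = 0
    rw [tmul_apply, hee, zero_mul]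

end Cfsg.Agent.Lib.Helper5.TensorForm
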