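import Mathlib
import Cfsg.Agent.S2616
import Cfsg.Agent.S2621
import Cfsg.Agent.Lib.Helper5.QuadStd
import Cfsg.Agent.Lib.Helper5.HypDisc
import Cfsg.Agent.Lib.Helper5.Discriminant
import Cfsg.Agent.Lib.Helper5.TensorForm

set_option autoImplicit false

namespace Cfsg.Agent.Lib.Helper5.DiscType

open Module

variable {F V : Type*} [Field F] [Fintype F] [AddCommGroup V] [Module F V] [FiniteDimensional F V]

/-- a totally isotropic subspace of half the dimension forces the discriminant to be `(-1)^m` -/
theorem isSquare_det_iff_of_isotropic (hq : Odd (Fintype.card F)) (B : LinearMap.BilinForm F V)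
    (hB : B.Nondegenerate) (hS : B.IsSymm) (m : ℕ) (hV : finrank F V = 2 * m)
    {ι : Type*} [Fintype ι] [DecidableEq ι] (b : Basis ι F V)
    (X : Submodule F V) (hX : finrank F X = m) (hiso : ∀ x ∈ X, ∀ y ∈ X, B x y = 0) :
    IsSquare (LinearMap.BilinForm.toMatrix b B).det ↔ Even (m * (Fintype.card F - 1) / 2) := by
  classical
  let B' : LinearMap.BilinForm F (ι → F) := LinearMap.BilinForm.congr b.equivFun B
  have hB'app : ∀ u v, B' u v = B (b.equivFun.symm u) (b.equivFun.symm v) := fun u v => rfl
  have hmat : LinearMap.BilinForm.toMatrix' B' = LinearMap.BilinForm.toMatrix b B := by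
    ext i j
    rw [LinearMap.BilinForm.toMatrix'_apply, LinearMap.BilinForm.toMatrix_apply, hB'app]
    simp
  have hB'nd : B'.Nondegenerate := by
    constructor
    · intro u hu
      have : b.equivFun.symm u = 0 := hB.1 _ (fun y => by
        have := hu (b.equivFun y)
        rw [hB'app] at this
        simpa using this)
      exact (LinearEquiv.map_eq_zero_iff _).mp this
    · intro u hu
      have : b.equivFun.symm u = 0 := hB.2 _ (fun y => by
        have := hu (b.equivFun y)
        rw [hB'app] at this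
        simpa using this)
      exact (LinearEquiv.map_eq_zero_iff _).mp this
  have hB'S : B'.IsSymm := ⟨fun u v => by rw [hB'app, hB'app]; exact hS.eq _ _⟩
  have hcard : Fintype.card ι = 2 * m := by
    rw [← hV, Module.finrank_eq_card_basis b]
  obtain ⟨d, hd, hdet⟩ := Cfsg.Agent.Lib.Helper5.HypDisc.neg_one_pow_eq B' hB'nd hB'S
    (X.map b.equivFun.toLinearMap) m (by
      rw [LinearEquiv.finrank_map_eq]
      exact hX) hcard (by
      rintro _ ⟨x, hx, rfl⟩ _ ⟨y, hy, rfl⟩
      rw [hB'app]
      simpa using hiso x hx y hy)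
  rw [hmat] at hdet
  rw [← Cfsg.Agent.Lib.Helper5.isSquare_mul_sq_iff d _ hd, ← hdet]
  exact Cfsg.Agent.Lib.Helper5.isSquare_neg_one_pow_iff rfl hq m

/-- conversely, the discriminant being `(-1)^m` forces a totally isotropic subspace of half the
dimension -/
theorem exists_isotropic_of_isSquare_det_iff (hq : Odd (Fintype.card F)) (B : LinearMap.BilinForm F V)
    (hB : B.Nondegenerate) (hS : B.IsSymm) (m : ℕ) (hm : 1 ≤ m) (hV : finrank F V = 2 * m)
    {ι : Type*} [Fintype ι] [DecidableEq ι] (b : Basis ι F V)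
    (h : IsSquare (LinearMap.BilinForm.toMatrix b B).det ↔ Even (m * (Fintype.card F - 1) / 2)) :
    ∃ X : Submodule F V, finrank F X = m ∧ ∀ x ∈ X, ∀ y ∈ X, B x y = 0 := by
  classical
  have h2 : (2 : F) ≠ 0 := Cfsg.Agent.Lib.Helper5.two_ne_zero_of_odd_card hq
  let Q : QuadraticForm F V := LinearMap.BilinMap.toQuadraticMap B
  have hpol : ∀ x y, QuadraticMap.polar Q x y = 2 * B x y := by
    intro x y
    rw [LinearMap.BilinMap.polar_toQuadraticMap, hS.eq y x]
    simp [two_mul]
  have hQ : (QuadraticMap.polarBilin Q).Nondegenerate := by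
    constructor
    · intro x hx
      apply hB.1 x
      intro y
      have := hx y
      rw [QuadraticMap.polarBilin_apply_apply, hpol] at this
      exact (mul_eq_zero.mp this).resolve_left h2
    · intro x hx
      apply hB.2 x
      intro y
      have := hx y
      rw [QuadraticMap.polarBilin_apply_apply, hpol] at this
      exact (mul_eq_zero.mp this).resolve_left h2
  rcases Cfsg.Agent.S2616.result hm hV Q hQ with ⟨b', h1, h2', h3⟩ | ⟨b', ζ, hirr, h1, h2', h3, h4, hx, hxy, hy⟩
  · refine ⟨Submodule.span F (Set.range (fun i : Fin m => b' (Sum.inl i))), ?_, ?_⟩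
    · have hli : LinearIndependent F (fun i : Fin m => b' (Sum.inl i)) :=
        b'.linearIndependent.comp (fun i : Fin m => (Sum.inl i : Fin m ⊕ Fin m))
          (fun i j hij => by simpa using hij)
      rw [finrank_span_eq_card hli]
      simp
    · apply Cfsg.Agent.Lib.Helper5.TensorForm.eq_zero_of_span
      rintro _ ⟨i, rfl⟩ _ ⟨j, rfl⟩
      have := (h3 i j).1
      rw [hpol] at this
      exact (mul_eq_zero.mp this).resolve_left h2
  · exfalso
    have hQv := Cfsg.Agent.Lib.Helper5.eq_quadFormMinus_of_basis Q b' ζ h1 h2' h3 h4 hx hxy hy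
    have hac : ∀ z₁ z₂ : F, z₁ ^ 2 + 1 * z₁ * z₂ + ζ * z₂ ^ 2 = 0 → z₁ = 0 ∧ z₂ = 0 := by
      intro z₁ z₂ hz
      by_cases hz2 : z₂ = 0
      · subst hz2
        simp at hz
        exact ⟨hz, rfl⟩
      · exfalso
        apply hirr (z₁ / z₂)
        field_simp
        linear_combination hz
    let b'' : Basis ι F ((Fin (m - 1) ⊕ Fin (m - 1)) ⊕ Fin 2 → F) := b.map b'.equivFun
    have key := Cfsg.Agent.S2621.result (F := F) (q := Fintype.card F) rfl hq hm 1 ζ hac b''
    have hmat : (Matrix.of (fun i j : ι => QuadraticMap.polar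
        (Cfsg.quadFormMinus (m - 1) F 1 ζ) (b'' i) (b'' j))) =
        (2 : F) • LinearMap.BilinForm.toMatrix b B := by
      ext i j
      rw [Matrix.of_apply, Matrix.smul_apply, LinearMap.BilinForm.toMatrix_apply, smul_eq_mul, ← hpol]
      simp only [QuadraticMap.polar, b'', Basis.map_apply]
      rw [hQv, hQv, hQv, map_add]
    have hcard : Fintype.card ι = 2 * m := by
      rw [← hV, Module.finrank_eq_card_basis b]
    have hpw : (2 : F) ^ (2 * m) = 2 ^ m * 2 ^ m := by rw [two_mul, pow_add]
    rw [hmat, Matrix.det_smul, hcard, hpw,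
      Cfsg.Agent.Lib.Helper5.isSquare_mul_sq_iff _ _ (pow_ne_zero _ h2)] at key
    exact (iff_not_self (key.symm.trans h).symm).elim

end Cfsg.Agent.Lib.Helper5.DiscType
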