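import Mathlib
import Cfsg.Agent.Lib.Helper5.E6MDefs

set_option autoImplicit false

/-!
Farm E6M2 (statement S2341, minimal degree of `²E₆(q)`): the abstract interface.

`K` a field with `q²` elements, `bar x = x ^ q`.  `²E₆(q)` is the group of fixed points of
`σ` (graph automorphism composed with `bar`) in `E₆(K)`.  With the notation of farm E6M over `K`:
`σ (z r) = z (bar r)`, `σ (xI I a) = xI (tauT I) (epsT I * bar a)`,
`σ (xij (i,j) t) = xij (5-j,5-i) (± bar t)`, and the fixed points of `σ` in `φ (SL₆(K))` are the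
image of the unitary group `U6` of the antidiagonal form `Jm`.  The abstract layer only sees the
fixed points: an abstract group `G` and

* `Psi r s` (`bar r = r`, `FixS bar s`): the elements of `Q^σ` (order `q^{1+20}`),
* `φ : U6 bar →* G`, acting on `Q^σ / Z^σ = {s | FixS bar s}` by the minors matrix `Mm g`,
* `xd t = φ (1 + t E₀₅)` (`bar t = t`), `n1`, `h c`.

There is no type for the field with `q` elements: it is the Finset `Fq bar` of the fixed points
of `bar`, and all sums are over the Finsets `Fq bar`, `Sfix bar`.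
-/

namespace Cfsg.Agent.Lib.Helper5.E6M2

open Matrix Cfsg.Agent.Lib.Helper5.E6M Cfsg.Agent.Lib.Helper5.E6M.T3

/-- the involution `τ` on the 3-subsets: image under `i ↦ 5 - i`, then complement -/
def tauT (I : T3) : T3 :=
  ⟨(I.1.image Fin.rev)ᶜ, by
    rw [Finset.card_compl, Finset.card_image_of_injective _ Fin.rev_injective, I.2]; rfl⟩

/-- the sign of `σ` on `X_I`: `+1` iff exactly one of `0`, `5` lies in `I` (all eight `τ`-fixed
`I` have sign `+1`) -/
def epsT (I : T3) : ℤ := if ((0 : Fin 6) ∈ I.1 ↔ (5 : Fin 6) ∈ I.1) then -1 else 1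

/-- `{0,1,3}` -/
def I013 : T3 := mk' 0 1 3
/-- `{0,2,4}` -/
def I024 : T3 := mk' 0 2 4
/-- `{0,3,4}` -/
def I034 : T3 := mk' 0 3 4
/-- `{1,2,5}` -/
def I125 : T3 := mk' 1 2 5
/-- `{1,3,5}` -/
def I135 : T3 := mk' 1 3 5
/-- `{2,4,5}` -/
def I245 : T3 := mk' 2 4 5
/-- the position `(0,5)` (the `τ`-fixed long root of the Levi part) -/
def p05 : IJ := ⟨(0, 5), by decide⟩

/-- the `τ`-stable Lagrangian (ten weights, no two complementary, contains `012` and `034`) -/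
def inLL (I : T3) : Prop :=
  ((0 : Fin 6) ∈ I.1 ∧ (5 : Fin 6) ∉ I.1) ∨ I = mk' 0 1 5 ∨ I = mk' 1 2 3 ∨ I = mk' 0 2 5 ∨
    I = mk' 1 2 4

instance : DecidablePred inLL := fun I => by unfold inLL; infer_instance

/-- the signs of the antidiagonal form -/
def jsgn : Fin 6 → ℤ := ![-1, -1, 1, -1, 1, 1]

section field

variable {K : Type*} [Field K]

/-- the antidiagonal matrix `Jm i (5 - i) = jsgn i` (`Jmᵀ = -Jm`, `Jm * Jm = -1`) -/
def Jm (K : Type*) [Field K] : Matrix (Fin 6) (Fin 6) K :=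
  Matrix.of fun i j => if j = Fin.rev i then ((jsgn i : ℤ) : K) else 0

/-- the cocycle of `Q^σ` (the cocycle `bil` of E6M for the Lagrangian `inLL`) -/
def bil2 (s s' : T3 → K) : K :=
  ∑ J : T3, if inLL J then ((J.compl.omega : ℤ) : K) * s J.compl * s' J else 0

/-- the `σ`-fixed vectors of `Q/Z = Λ³K⁶` -/
def FixS (bar : K →+* K) (s : T3 → K) : Prop :=
  ∀ I : T3, s (tauT I) = ((epsT I : ℤ) : K) * bar (s I)

instance [DecidableEq K] (bar : K →+* K) (s : T3 → K) : Decidable (FixS bar s) := by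
  unfold FixS; infer_instance

/-- the unitary group of `Jm`: the fixed points of `g ↦ Jm (bar g)⁻ᵀ Jm⁻¹` in `SL₆(K)` -/
def U6 (bar : K →+* K) : Subgroup (SL6 K) where
  carrier := {g | (g.1.map bar)ᵀ * Jm K * g.1 = Jm K}
  one_mem' := by
    show ((1 : SL6 K).1.map bar)ᵀ * Jm K * (1 : SL6 K).1 = Jm K
    rw [Matrix.SpecialLinearGroup.coe_one, Matrix.map_one _ (map_zero bar) (map_one bar),
      Matrix.transpose_one, Matrix.one_mul, Matrix.mul_one]
  mul_mem' := by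
    intro g h hg hh
    show ((g * h).1.map bar)ᵀ * Jm K * (g * h).1 = Jm K
    have hg' : (g.1.map bar)ᵀ * Jm K * g.1 = Jm K := hg
    have hh' : (h.1.map bar)ᵀ * Jm K * h.1 = Jm K := hh
    rw [Matrix.SpecialLinearGroup.coe_mul, Matrix.map_mul, Matrix.transpose_mul]
    calc (h.1.map bar)ᵀ * (g.1.map bar)ᵀ * Jm K * (g.1 * h.1)
        = (h.1.map bar)ᵀ * ((g.1.map bar)ᵀ * Jm K * g.1) * h.1 := by
          simp only [Matrix.mul_assoc]
      _ = Jm K := by rw [hg', hh']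
  inv_mem' := by
    intro g hg
    show ((g⁻¹).1.map bar)ᵀ * Jm K * (g⁻¹).1 = Jm K
    have hg' : (g.1.map bar)ᵀ * Jm K * g.1 = Jm K := hg
    have h1 : g.1 * (g⁻¹).1 = 1 := by
      rw [← Matrix.SpecialLinearGroup.coe_mul, mul_inv_cancel, Matrix.SpecialLinearGroup.coe_one]
    have h2 : ((g⁻¹).1.map bar)ᵀ * (g.1.map bar)ᵀ = 1 := by
      rw [← Matrix.transpose_mul, ← Matrix.map_mul, h1,
        Matrix.map_one _ (map_zero bar) (map_one bar), Matrix.transpose_one]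
    calc ((g⁻¹).1.map bar)ᵀ * Jm K * (g⁻¹).1
        = ((g⁻¹).1.map bar)ᵀ * ((g.1.map bar)ᵀ * Jm K * g.1) * (g⁻¹).1 := by rw [hg']
      _ = (((g⁻¹).1.map bar)ᵀ * (g.1.map bar)ᵀ) * Jm K * (g.1 * (g⁻¹).1) := by
          simp only [Matrix.mul_assoc]
      _ = Jm K := by rw [h1, h2, Matrix.one_mul, Matrix.mul_one]

theorem mem_U6 (bar : K →+* K) (g : SL6 K) :
    g ∈ U6 bar ↔ (g.1.map bar)ᵀ * Jm K * g.1 = Jm K := Iff.rfl

/-- the characters of `Q^σ/Z^σ` moved by `X₀₅`: some coordinate `I ∋ 0`, `I ∌ 5` is non-zero -/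
def moved2 (l : T3 → K) : Prop := ∃ I : T3, (0 : Fin 6) ∈ I.1 ∧ (5 : Fin 6) ∉ I.1 ∧ l I ≠ 0

instance [DecidableEq K] (l : T3 → K) : Decidable (moved2 l) := by
  unfold moved2; infer_instance

section fin

variable [Fintype K] [DecidableEq K]

/-- the fixed field of `bar` -/
def Fq (bar : K →+* K) : Finset K := Finset.univ.filter fun r => bar r = r

/-- the fixed vectors, as a Finset -/
def Sfix (bar : K →+* K) : Finset (T3 → K) := Finset.univ.filter fun s => FixS bar s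

/-- the number of elements of the fixed field (`= q`) -/
def qF (bar : K →+* K) : ℕ := (Fq bar).card

theorem mem_Fq (bar : K →+* K) (r : K) : r ∈ Fq bar ↔ bar r = r := by simp [Fq]

theorem mem_Sfix (bar : K →+* K) (s : T3 → K) : s ∈ Sfix bar ↔ FixS bar s := by simp [Sfix]

/-- the standing hypotheses on `bar` and `q` -/
structure BarOK (bar : K →+* K) (q : ℕ) : Prop where
  pow : ∀ x : K, bar x = x ^ q
  card : Fintype.card K = q ^ 2
  hq : IsPrimePow q

end fin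

end field

/-- the elements -/
structure Data2 (K : Type*) (G : Type*) [Field K] [Group G] where
  Psi : K → (T3 → K) → G
  xd : K → G
  n1 : G
  h : Kˣ → G

variable {K : Type*} [Field K] {G : Type*} [Group G]

/-- the relations (hypotheses of all abstract units; proved for `twistedE6 K q` in the concrete
part) -/
structure Rel2 (bar : K →+* K) (D : Data2 K G) : Prop where
  /-- the multiplication of `Q^σ` -/
  qlaw : ∀ (r : K) (s : T3 → K) (r' : K) (s' : T3 → K), bar r = r → FixS bar s → bar r' = r' →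
    FixS bar s' → D.Psi r s * D.Psi r' s' = D.Psi (r + r' + bil2 s s') (s + s')
  /-- the Weyl element `n1` (reflection in `γ_345`): `Z → X_012`, `X₀₅ → X_034` -/
  n1_z : ∃ e : K, e ≠ 0 ∧ bar e = e ∧ ∀ r : K, bar r = r →
    D.n1 * D.Psi r 0 * D.n1⁻¹ = D.Psi 0 (Pi.single I012 (e * r))
  n1_x : ∃ e : K, e ≠ 0 ∧ bar e = e ∧ ∀ t : K, bar t = t →
    D.n1 * D.xd t * D.n1⁻¹ = D.Psi 0 (Pi.single I034 (e * t))
  /-- the torus element -/
  h_conj : ∀ (c : Kˣ), bar c = c → ∀ (r : K) (s : T3 → K), bar r = r → FixS bar s →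
    D.h c * D.Psi r s * (D.h c)⁻¹ = D.Psi (c * r) (fun I => ((c ^ hexp I : Kˣ) : K) * s I)

/-- the homomorphism from the unitary group and its action on `Q^σ` -/
structure PhiOK (bar : K →+* K) (D : Data2 K G) (φ : U6 bar →* G) : Prop where
  xd_eq : ∀ (t : K) (hm : tv p05 t ∈ U6 bar), φ ⟨tv p05 t, hm⟩ = D.xd t
  conj : ∀ (g : U6 bar) (s : T3 → K), FixS bar s → ∃ c : K, bar c = c ∧ ∀ r : K, bar r = r →
    φ g * D.Psi r s * (φ g)⁻¹ = D.Psi (r + c) (Mm g.1.1 *ᵥ s)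

section mult

variable [Fintype K] [DecidableEq K]

/-- `dim C_V(Z)` -/
noncomputable def fZ2 (bar : K →+* K) (D : Data2 K G) (χ : G → ℂ) : ℂ :=
  (qF bar : ℂ)⁻¹ * ∑ r ∈ Fq bar, χ (D.Psi r 0)

/-- `dim C_V(X_012)` -/
noncomputable def f12 (bar : K →+* K) (D : Data2 K G) (χ : G → ℂ) : ℂ :=
  (qF bar : ℂ)⁻¹ * ∑ a ∈ Fq bar, χ (D.Psi 0 (Pi.single I012 a))

/-- `dim C_V(X_012 X_034)` -/
noncomputable def f22 (bar : K →+* K) (D : Data2 K G) (χ : G → ℂ) : ℂ :=
  ((qF bar : ℂ) * qF bar)⁻¹ * ∑ a ∈ Fq bar, ∑ b ∈ Fq bar,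
    χ (D.Psi 0 (Pi.single I012 a) * D.Psi 0 (Pi.single I034 b))

/-- `dim C_V(Z X₀₅)` -/
noncomputable def f902 (bar : K →+* K) (D : Data2 K G) (χ : G → ℂ) : ℂ :=
  ((qF bar : ℂ) * qF bar)⁻¹ * ∑ r ∈ Fq bar, ∑ t ∈ Fq bar, χ (D.Psi r 0 * D.xd t)

/-- `dim C_V(Z ∏_{I ∈ S} X_I)` (for `S` consisting of `τ`-fixed weights) -/
noncomputable def ZS2 (bar : K →+* K) (D : Data2 K G) (χ : G → ℂ) (S : Finset T3) : ℂ :=
  ((qF bar : ℂ) * (qF bar : ℂ) ^ 20)⁻¹ *
    ∑ r ∈ Fq bar, ∑ s ∈ Sfix bar, χ (D.Psi r fun I => if I ∈ S then s I else 0)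

/-- the multiplicity of the linear character `l` of `Q^σ` (trivial on `Z^σ`) -/
noncomputable def cM2 (bar : K →+* K) (D : Data2 K G) (ψ : AddChar K ℂ) (χ : G → ℂ)
    (l : T3 → K) : ℂ :=
  ((qF bar : ℂ) * (qF bar : ℂ) ^ 20)⁻¹ *
    ∑ r ∈ Fq bar, ∑ s ∈ Sfix bar, ψ (-(l ⬝ᵥ s)) * χ (D.Psi r s)

/-- the projection onto the `l`-isotypic part of `C_V(Z^σ)` under `Q^σ` -/
noncomputable def eL2 {V : Type*} [AddCommGroup V] [Module ℂ V] (bar : K →+* K) (D : Data2 K G)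
    (ψ : AddChar K ℂ) (ρ : Representation ℂ G V) (l : T3 → K) : V →ₗ[ℂ] V :=
  ((qF bar : ℂ) * (qF bar : ℂ) ^ 20)⁻¹ •
    ∑ r ∈ Fq bar, ∑ s ∈ Sfix bar, ψ (-(l ⬝ᵥ s)) • ρ (D.Psi r s)

end mult

end Cfsg.Agent.Lib.Helper5.E6M2
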