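import Mathlib
import Cfsg.Agent.Lib.Helper5.E6M2Defs
import Cfsg.Agent.Lib.Helper3.E6M2DefsC
import Cfsg.Agent.Lib.Helper2.E6M2DefsB
import Cfsg.Agent.Lib.Helper6.E6MMHOM

set_option autoImplicit false

/-!
Farm E6M2 (S2341), concrete side, part 1 (no `E₆` yet): the concrete types and maps that are fed
to layer B2 (`Helper2.E6M2B.Data F Lam L G`):

* `F := FF f`, the fixed field of `f : K →+* K` (`f x = x ^ q`), a `Subfield K`;
* `Lam := LamS f`, the `σ`-fixed lattice, an `FF f`-submodule of `T3 → K`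
  (`s ∈ LamS f ↔ InLam q s`);
* `L := RJ q` (layer C2), acting on `LamS f` by `Mm g` (`actL`);
* `betaL`: the cocycle `E6M2.bil2` (the Lagrangian `E6M2.inLL`), with values in `FF f`;
* `AL`: the vectors supported on `E6M2.inLL`; `e1L = e_012`, `e2L = e_034`; `xdL t = xl 0 t`.
-/

namespace Cfsg.Agent.Lib.Helper5.E6M2K

open Cfsg.Agent.Lib.Helper5.E6M Cfsg.Agent.Lib.Helper3.E6M2C Matrix

variable {K : Type*} [Field K] (f : K →+* K)

/-- the fixed field of `f` -/
abbrev FF : Subfield K := f.eqLocusField (RingHom.id K)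

theorem mem_FF (x : K) : x ∈ FF f ↔ f x = x := Iff.rfl

theorem FF_fix (c : FF f) : f (c : K) = c := c.2

/-- the `σ`-fixed lattice `{s | s (tauI I) = epsI I * f (s I)}` -/
def LamS : Submodule (FF f) (T3 → K) where
  carrier := {s | ∀ I : T3, s (tauI I) = ((epsI I : ℤ) : K) * f (s I)}
  add_mem' := fun {a b} ha hb I => by
    show (a + b) (tauI I) = _ * f ((a + b) I)
    rw [Pi.add_apply, Pi.add_apply, map_add, mul_add, ha I, hb I]
  zero_mem' := fun I => by simp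
  smul_mem' := fun c s hs I => by
    show (c • s) (tauI I) = _ * f ((c • s) I)
    have h1 : (c • s) (tauI I) = (c : K) * s (tauI I) := rfl
    have h2 : (c • s) I = (c : K) * s I := rfl
    rw [h1, h2, map_mul, FF_fix, hs I]
    ring

theorem mem_LamS (s : T3 → K) :
    s ∈ LamS f ↔ ∀ I : T3, s (tauI I) = ((epsI I : ℤ) : K) * f (s I) := Iff.rfl

theorem mem_LamS_iff {q : ℕ} (hf : ∀ x, f x = x ^ q) (s : T3 → K) : s ∈ LamS f ↔ InLam q s := by
  rw [mem_LamS]
  unfold InLam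
  simp only [hf]

theorem tauI_tauI : ∀ I : T3, tauI (tauI I) = I := by decide

theorem epsI_sq : ∀ I : T3, epsI I * epsI I = 1 := by decide

theorem epsI_long : ∀ I : T3, IsLong I → epsI I = 1 := by decide

/-- `e_I` scaled by a fixed scalar, for a long `I` -/
theorem single_mem (I : T3) (hI : IsLong I) (c : K) (hc : f c = c) :
    Pi.single I c ∈ LamS f := by
  intro J
  by_cases hJ : J = I
  · subst hJ
    have h1 : tauI J = J := hI
    rw [h1, Pi.single_eq_same, hc, epsI_long J hI]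
    simp
  · have h2 : tauI J ≠ I := by
      intro h
      apply hJ
      have h3 : tauI (tauI J) = tauI I := by rw [h]
      rw [tauI_tauI] at h3
      have h4 : tauI I = I := hI
      rw [h3, h4]
    rw [Pi.single_eq_of_ne h2, Pi.single_eq_of_ne hJ, map_zero, mul_zero]

/-! ### the cocycle -/

theorem bil2_add_left (s₁ s₂ s' : T3 → K) :
    E6M2.bil2 (s₁ + s₂) s' = E6M2.bil2 s₁ s' + E6M2.bil2 s₂ s' := by
  unfold E6M2.bil2
  rw [← Finset.sum_add_distrib]
  apply Finset.sum_congr rfl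
  intro J _
  split_ifs
  · rw [Pi.add_apply]; ring
  · simp

theorem bil2_add_right (s s₁ s₂ : T3 → K) :
    E6M2.bil2 s (s₁ + s₂) = E6M2.bil2 s s₁ + E6M2.bil2 s s₂ := by
  unfold E6M2.bil2
  rw [← Finset.sum_add_distrib]
  apply Finset.sum_congr rfl
  intro J _
  split_ifs
  · rw [Pi.add_apply]; ring
  · simp

theorem bil2_smul_left (c : K) (s s' : T3 → K) :
    E6M2.bil2 (c • s) s' = c * E6M2.bil2 s s' := by
  unfold E6M2.bil2
  rw [Finset.mul_sum]
  apply Finset.sum_congr rfl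
  intro J _
  split_ifs
  · rw [Pi.smul_apply, smul_eq_mul]; ring
  · simp

theorem bil2_smul_right (c : K) (s s' : T3 → K) :
    E6M2.bil2 s (c • s') = c * E6M2.bil2 s s' := by
  unfold E6M2.bil2
  rw [Finset.mul_sum]
  apply Finset.sum_congr rfl
  intro J _
  split_ifs
  · rw [Pi.smul_apply, smul_eq_mul]; ring
  · simp

theorem tab_bil : ∀ J : T3, E6M2.inLL (tauI J) ↔ E6M2.inLL J := by decide

theorem tab_compl : ∀ J : T3, (tauI J).compl = tauI J.compl := by decide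

theorem tab_omega : ∀ J : T3,
    T3.omega (tauI J).compl * epsI J.compl * epsI J = T3.omega J.compl := by decide

/-- the involution `tauI` as a permutation -/
def tauPerm : Equiv.Perm T3 := ⟨tauI, tauI, tauI_tauI, tauI_tauI⟩

/-- the cocycle has values in the fixed field -/
theorem bil2_fix (s s' : T3 → K) (hs : s ∈ LamS f) (hs' : s' ∈ LamS f) :
    f (E6M2.bil2 s s') = E6M2.bil2 s s' := by
  unfold E6M2.bil2
  rw [map_sum]
  rw [← Equiv.sum_comp tauPerm (fun J : T3 => if E6M2.inLL J then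
    ((J.compl.omega : ℤ) : K) * s J.compl * s' J else 0)]
  apply Finset.sum_congr rfl
  intro J _
  show _ = if E6M2.inLL (tauI J) then
    (((tauI J).compl.omega : ℤ) : K) * s (tauI J).compl * s' (tauI J) else 0
  by_cases hJ : E6M2.inLL J
  · rw [if_pos hJ, if_pos ((tab_bil J).2 hJ), tab_compl, hs J.compl, hs' J, map_mul, map_mul,
      map_intCast, ← tab_omega J, tab_compl]
    push_cast
    ring
  · rw [if_neg hJ, if_neg (fun h => hJ ((tab_bil J).1 h)), map_zero]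

/-- the cocycle as an `FF f`-bilinear map -/
noncomputable def betaL : LamS f →ₗ[FF f] LamS f →ₗ[FF f] FF f :=
  LinearMap.mk₂ (FF f) (fun s s' => ⟨E6M2.bil2 s.1 s'.1, bil2_fix f s.1 s'.1 s.2 s'.2⟩)
    (fun s₁ s₂ s' => Subtype.ext (bil2_add_left s₁.1 s₂.1 s'.1))
    (fun c s s' => Subtype.ext (bil2_smul_left (c : K) s.1 s'.1))
    (fun s s₁ s₂ => Subtype.ext (bil2_add_right s.1 s₁.1 s₂.1))
    (fun c s s' => Subtype.ext (bil2_smul_right (c : K) s.1 s'.1))

theorem betaL_apply (s s' : LamS f) : ((betaL f s s' : FF f) : K) = E6M2.bil2 s.1 s'.1 := rfl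

/-! ### the Lagrangian and the marked vectors -/

/-- the vectors supported on the `τ`-stable Lagrangian `E6M2.inLL` -/
def AL : Submodule (FF f) (LamS f) where
  carrier := {s | ∀ I : T3, ¬ E6M2.inLL I → s.1 I = 0}
  add_mem' := fun {a b} ha hb I hI => by
    show (a.1 + b.1) I = 0
    rw [Pi.add_apply, ha I hI, hb I hI, add_zero]
  zero_mem' := fun I _ => rfl
  smul_mem' := fun c s hs I hI => by
    show (c : K) * s.1 I = 0
    rw [hs I hI, mul_zero]

theorem mem_AL (s : LamS f) : s ∈ AL f ↔ ∀ I : T3, ¬ E6M2.inLL I → s.1 I = 0 := Iff.rfl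

/-- `e_012` -/
def e1L : LamS f := ⟨Pi.single I012 1, single_mem f I012 (by decide) 1 (map_one f)⟩

/-- `e_034` -/
def e2L : LamS f := ⟨Pi.single I034 1, single_mem f I034 (by decide) 1 (map_one f)⟩

/-! ### the Levi part -/

/-- the root subgroup `X_δ`, `δ = (0,5)` -/
def xdL {q : ℕ} (hf : ∀ x, f x = x ^ q) (t : FF f) : ↥(RJ (K := K) q) :=
  ⟨xl 0 (t : K), Subgroup.subset_closure (Or.inr ⟨0, (t : K), by rw [← hf]; exact t.2, rfl⟩)⟩

/-- the action of one element -/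
def actLin {q : ℕ} (hT : ∀ g : SL6 K, g ∈ RJ q → ∀ s ∈ LamS f, Mm g.1 *ᵥ s ∈ LamS f)
    (g : ↥(RJ (K := K) q)) : LamS f →ₗ[FF f] LamS f where
  toFun s := ⟨Mm g.1.1 *ᵥ s.1, hT g.1 g.2 s.1 s.2⟩
  map_add' s s' := Subtype.ext (by
    show Mm g.1.1 *ᵥ (s.1 + s'.1) = Mm g.1.1 *ᵥ s.1 + Mm g.1.1 *ᵥ s'.1
    rw [Matrix.mulVec_add])
  map_smul' c s := Subtype.ext (by
    show Mm g.1.1 *ᵥ ((c : K) • s.1) = (c : K) • (Mm g.1.1 *ᵥ s.1)
    rw [Matrix.mulVec_smul])

theorem actLin_one {q : ℕ} (hT : ∀ g : SL6 K, g ∈ RJ q → ∀ s ∈ LamS f, Mm g.1 *ᵥ s ∈ LamS f) :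
    actLin f hT 1 = LinearMap.id := by
  apply LinearMap.ext
  intro s
  apply Subtype.ext
  show Mm ((1 : ↥(RJ (K := K) q)) : SL6 K).1 *ᵥ s.1 = s.1
  rw [Subgroup.coe_one, Matrix.SpecialLinearGroup.coe_one, Cfsg.Agent.Lib.Helper6.E6MMHOM.Mm_one, Matrix.one_mulVec]

theorem actLin_mul {q : ℕ} (hT : ∀ g : SL6 K, g ∈ RJ q → ∀ s ∈ LamS f, Mm g.1 *ᵥ s ∈ LamS f)
    (g g' : ↥(RJ (K := K) q)) : actLin f hT (g * g') = actLin f hT g ∘ₗ actLin f hT g' := by
  apply LinearMap.ext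
  intro s
  apply Subtype.ext
  show Mm ((g * g' : ↥(RJ (K := K) q)) : SL6 K).1 *ᵥ s.1 = Mm g.1.1 *ᵥ (Mm g'.1.1 *ᵥ s.1)
  rw [Subgroup.coe_mul, Matrix.SpecialLinearGroup.coe_mul, Cfsg.Agent.Lib.Helper6.E6MMHOM.Mm_mul',
    Matrix.mulVec_mulVec]

/-- the action of `RJ q` on the lattice -/
noncomputable def actL {q : ℕ}
    (hT : ∀ g : SL6 K, g ∈ RJ q → ∀ s ∈ LamS f, Mm g.1 *ᵥ s ∈ LamS f) :
    ↥(RJ (K := K) q) →* (LamS f ≃ₗ[FF f] LamS f) :=
  MonoidHom.mk' (fun g => LinearEquiv.ofLinearMap (actLin f hT g) (actLin f hT g⁻¹)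
      (by rw [← actLin_mul, mul_inv_cancel, actLin_one])
      (by rw [← actLin_mul, inv_mul_cancel, actLin_one]))
    (fun g g' => by
      apply LinearEquiv.ext
      intro s
      show actLin f hT (g * g') s = actLin f hT g (actLin f hT g' s)
      rw [actLin_mul]
      rfl)

theorem actL_apply {q : ℕ}
    (hT : ∀ g : SL6 K, g ∈ RJ q → ∀ s ∈ LamS f, Mm g.1 *ᵥ s ∈ LamS f)
    (g : ↥(RJ (K := K) q)) (s : LamS f) : ((actL f hT g s : LamS f) : T3 → K) = Mm g.1.1 *ᵥ s.1 := by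
  show ((actLin f hT g s : LamS f) : T3 → K) = _
  rfl

end Cfsg.Agent.Lib.Helper5.E6M2K
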