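import Mathlib
import Cfsg.Agent.Lib.Helper5.E6MConcC
import Cfsg.Agent.Lib.Helper5.ChevW0
import Cfsg.Agent.Lib.Helper5.ChevGen
import Cfsg.Agent.Lib.Helper5.FieldFix.Basic

set_option autoImplicit false
set_option Elab.async false

/-!
Farm E6M (S2340), concrete unit CONC, part D: the `Data` of `chevE6.group F` and its `Rel1`.
-/

namespace Cfsg.Agent.Lib.Helper5.E6M

open Cfsg Cfsg.Lie Cfsg.Agent.Lib.Helper5.ChevSym Cfsg.Agent.Lib.Helper5.ChevStruct
  Cfsg.Agent.Lib.Helper5.FieldFix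

variable (F : Type*) [Field F]

/-- the concrete elements of `E₆(F)` -/
noncomputable def conc : Data F ↥(chevE6.group F) where
  z r := ⟨zGL r, xGL_mem_group chevE6 hE6' _ _⟩
  xI I a := ⟨xIGL I a, xGL_mem_group chevE6 hE6' _ _⟩
  xij p t := ⟨xijGL p t, xGL_mem_group chevE6 hE6' _ _⟩
  n1 := ⟨n1GL, monomial_le_group chevE6 hE6' (wGL_mem chevE6 hE6' [1] tab_w.1)⟩
  h c := ⟨hGL c, wordGL_mem_group chevE6 hE6' _⟩

variable {F}

theorem conc_rel1 : Rel1 (conc F) where
  rel0 :=
    { z_add := fun r r' => Subtype.ext (zGL_add r r')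
      xI_add := fun I a b => Subtype.ext (xIGL_add I a b)
      z_xI := fun r I a => Subtype.ext (zGL_xIGL r I a)
      xI_comm := fun I J a b hJ => Subtype.ext (xIGL_comm I J a b hJ)
      xI_compl := fun I a b => Subtype.ext (xIGL_compl I a b) }
  st_add := fun p t u => Subtype.ext (xijGL_add p t u)
  st_comm := fun a b t u h1 h2 => Subtype.ext (st_comm_GL a b t u h1 h2)
  st_r3 := fun a b h t u hab => Subtype.ext (st_r3_GL a b h t u hab)
  xij_z := fun p t r => Subtype.ext (xijGL_conj_zGL p t r)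
  xij_xI_move := fun p t I a hj hi => Subtype.ext (xijGL_conj_move p t I a hj hi)
  xij_xI_fix := fun p t I a h => Subtype.ext (xijGL_conj_fix p t I a h)
  n1_z := fun r => Subtype.ext (n1GL_conj_zGL r)
  n1_x := fun t => Subtype.ext (n1GL_conj_xijGL t)
  h_z := fun c r => Subtype.ext (hGL_conj_zGL c r)
  h_xI := fun c I a => Subtype.ext (hGL_conj_xIGL c I a)

theorem conc_z_one_ne : (conc F).z 1 ≠ 1 := by
  intro h
  have h1 : (zGL (1 : F) : GL chevE6.Idx F) = 1 := congrArg Subtype.val h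
  have h2 : chevE6.x F 71 (-1 : F) = chevE6.x F 71 0 := by
    have := congrArg (fun g : GL chevE6.Idx F => (g : Matrix chevE6.Idx chevE6.Idx F)) h1
    simp only [zGL, xGL_val, Units.val_one] at this
    rw [this, x_at_zero]
  have h3 := x_inj_param chevE6 hE6' 71 (by decide) (-1 : F) 0 h2
  exact one_ne_zero (neg_eq_zero.1 h3)

end Cfsg.Agent.Lib.Helper5.E6M
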