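import Mathlib
import Cfsg.Agent.Lib.Helper5.E6MRel

set_option autoImplicit false

/-!
Farm E6M (S2340), unit RELFULL: `Rel` from the concrete relations `Rel1` (given unit MTV).
-/

namespace Cfsg.Agent.Lib.Helper5.E6M

open T3 Matrix

variable {F : Type*} [Field F] {G : Type*} [Group G]

set_option maxRecDepth 100000 in
theorem repl_ne_compl : ∀ (I : T3) (i j : Fin 6), repl I i j ≠ I.compl := by decide +kernel

theorem bil_single_single (I K : T3) (hK : K ≠ I.compl) (a b : F) :
    bil (Pi.single I a) (Pi.single K b) = 0 := by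
  unfold bil
  apply Finset.sum_eq_zero
  intro J _
  split_ifs with h
  · by_cases hJK : J = K
    · subst hJK
      have : J.compl ≠ I := by
        intro hh
        apply hK
        rw [← hh]
        exact Subtype.ext (by simp [T3.compl])
      rw [Pi.single_eq_of_ne this]; ring
    · rw [Pi.single_eq_of_ne hJK]; ring
  · rfl

/-- unit RELFULL, with MTV as a hypothesis -/
theorem rel_of_rel1_of (D : Data F G) (h1 : Rel1 D)
    (hMTV : ∀ (p : IJ) (t : F) (I : T3) (a : F),
      Mm (Matrix.transvection p.1.1 p.1.2 t) *ᵥ Pi.single I a =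
        Pi.single I a + (if p.1.2 ∈ I.1 ∧ p.1.1 ∉ I.1 then
          Pi.single (repl I p.1.1 p.1.2) (((rsgn I p.1.1 p.1.2 : ℤ) : F) * t * a) else 0)) :
    Rel D := by
  obtain ⟨hq, hz, hx⟩ := rel_of_rel0' h1.rel0
  refine
    { qlaw := hq
      z_eq := hz
      xI_eq := hx
      st_add := h1.st_add
      st_comm := h1.st_comm
      st_r3 := h1.st_r3
      xij_z := h1.xij_z
      xij_xI := ?_
      n1_z := ⟨1, one_ne_zero, fun r => by rw [one_mul]; exact h1.n1_z r⟩
      n1_x := ⟨-1, neg_ne_zero.2 one_ne_zero, fun t => by rw [neg_one_mul]; exact h1.n1_x t⟩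
      h_z := h1.h_z
      h_xI := h1.h_xI }
  intro p t I a
  rw [hMTV]
  by_cases hc : p.1.2 ∈ I.1 ∧ p.1.1 ∉ I.1
  · rw [if_pos hc, h1.xij_xI_move p t I a hc.1 hc.2, hx, hx, hq,
      bil_single_single I _ (repl_ne_compl I p.1.1 p.1.2), add_zero, add_zero]
  · rw [if_neg hc, add_zero, h1.xij_xI_fix p t I a hc, hx]

end Cfsg.Agent.Lib.Helper5.E6M
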