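import Mathlib
import Cfsg.Agent.S1054
import Cfsg.Agent.S1063
import Cfsg.Agent.Lib.Helper1.MNDB2
import Cfsg.Agent.Lib.Helper5.E6MConcD
import Cfsg.Agent.Lib.Helper5.E6MRelFull
import Cfsg.Agent.Lib.Helper4.E6MMTV

set_option autoImplicit false

/-!
Farm E6M (S2340): the last step, given unit MTV and unit ASM (`e6m_bound`) as hypotheses.
-/

namespace Cfsg.Agent.Lib.Helper5.E6M

open Cfsg Cfsg.Lie Matrix

variable {F : Type*} [Field F] [Fintype F]

/-- `Rel (conc F)` from MTV -/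
theorem conc_rel_of
    (hMTV : ∀ (p : IJ) (t : F) (I : T3) (a : F),
      Mm (Matrix.transvection p.1.1 p.1.2 t) *ᵥ Pi.single I a =
        Pi.single I a + (if p.1.2 ∈ I.1 ∧ p.1.1 ∉ I.1 then
          Pi.single (repl I p.1.1 p.1.2) (((rsgn I p.1.1 p.1.2 : ℤ) : F) * t * a) else 0)) :
    Rel (conc F) :=
  rel_of_rel1_of (conc F) conc_rel1 hMTV

/-- `Rel (conc F)` -/
theorem conc_rel : Rel (conc F) :=
  conc_rel_of Cfsg.Agent.Lib.Helper4.E6MMTV.Mm_transvection_single

/-- faithfulness from simplicity -/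
theorem conc_faith {V : Type*} [AddCommGroup V] [Module ℂ V]
    (ρ : Representation ℂ ↥(chevE6.group F) V) (hirr : ρ.IsIrreducible)
    (h : ∀ r : F, ρ ((conc F).z r) = 1) : Module.finrank ℂ V ≤ 1 := by
  have hsimple : IsSimpleGroup ↥(chevE6.group F) :=
    (Cfsg.Agent.S1054.result (F := F) chevE6 (by simp)).1
  have hker : (ρ : ↥(chevE6.group F) →* (V →ₗ[ℂ] V)).ker = ⊤ := by
    rcases hsimple.eq_bot_or_eq_top_of_normal
      (ρ : ↥(chevE6.group F) →* (V →ₗ[ℂ] V)).ker inferInstance with h' | h'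
    · exfalso
      have h1 : (conc F).z 1 ∈ (ρ : ↥(chevE6.group F) →* (V →ₗ[ℂ] V)).ker :=
        MonoidHom.mem_ker.2 (h 1)
      rw [h', Subgroup.mem_bot] at h1
      exact conc_z_one_ne h1
    · exact h'
  have htriv : ∀ g, ρ g = LinearMap.id := by
    intro g
    have : g ∈ (ρ : ↥(chevE6.group F) →* (V →ₗ[ℂ] V)).ker := by
      rw [hker]; trivial
    exact MonoidHom.mem_ker.1 this
  exact (Cfsg.Agent.Lib.Helper1.MND.finrank_eq_one_of_trivial ρ hirr htriv).le

theorem conc_card : Nat.gcd 3 (Fintype.card F - 1) * Nat.card ↥(chevE6.group F) =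
    Fintype.card F ^ 36 * (Fintype.card F ^ 2 - 1) * (Fintype.card F ^ 5 - 1) *
      (Fintype.card F ^ 6 - 1) * (Fintype.card F ^ 8 - 1) * (Fintype.card F ^ 9 - 1) *
      (Fintype.card F ^ 12 - 1) :=
  Cfsg.Agent.S1063.result rfl

instance : Finite ↥(chevE6.group F) := by
  classical
  exact Subtype.finite

end Cfsg.Agent.Lib.Helper5.E6M
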