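import Mathlib
import Cfsg.Agent.Lib.Helper5.E6MFinal
import Cfsg.Agent.Lib.Helper5.E6MRel
import Cfsg.Agent.Lib.Helper5.Tw2E6Card
import Cfsg.Agent.Lib.Helper5.E6M2ConcDefs

set_option autoImplicit false
set_option Elab.async false

/-!
Farm E6M2 (S2341), concrete side, part 2: `σ` on the elements of farm E6M (`conc K`), and the
membership in `twistedE6 K q = (chevE6.group K)^σ` of the fixed ones.
-/

namespace Cfsg.Agent.Lib.Helper5.E6M2K

open Cfsg Cfsg.Lie Cfsg.Agent.Lib.Helper5.ChevSym Cfsg.Agent.Lib.Helper5.ChevStruct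
  Cfsg.Agent.Lib.Helper5.E6M Cfsg.Agent.Lib.Helper3.E6M2C Matrix

/-! ### tables -/

set_option maxRecDepth 1000000 in
theorem tab_sg : ∀ I : T3, gE6.pr.getD (gIdx I) 0 = gIdx (tauI I) ∧
    gE6.eps.getD (gIdx I) 1 = epsI I := by decide +kernel

set_option maxRecDepth 1000000 in
theorem tab_sd : ∀ p : IJ, gE6.pr.getD (dIdx p) 0 = dIdx (revp p) ∧
    tau (revp p) * gE6.eps.getD (dIdx p) 1 * tau p = -(mS p.1.1 * mS p.1.2) ∧
    (tau (revp p) = 1 ∨ tau (revp p) = -1) ∧ (tau p = 1 ∨ tau p = -1) := by decide +kernel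

theorem tab_sz : gE6.pr.getD 71 0 = 71 ∧ gE6.eps.getD 71 1 = 1 := by decide

set_option maxRecDepth 1000000 in
theorem tab_w5 : wAct chevE6 [1] (dIdx p05) = gIdx I034 ∧ wEps chevE6 [1] (dIdx p05) = 1 ∧
    tau p05 = -1 := by decide +kernel

theorem tab_ms : ∀ p : IJ, -(mS p.1.1 * mS p.1.2) = -(mS (revp p).1.1 * mS (revp p).1.2) ∧
    (-(mS p.1.1 * mS p.1.2)) * (-(mS p.1.1 * mS p.1.2)) = 1 ∧ revp (revp p) = p := by decide

theorem tab_lp : ∀ i : Fin 6, revp (lpos i) = lpos i ∧ -(mS (lpos i).1.1 * mS (lpos i).1.2) = 1 := by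
  decide

variable {K : Type*} [Field K] (f : K →+* K)

local notation "xx" => xGL chevE6 hE6'

/-- `σ` -/
noncomputable abbrev sig : GL chevE6.Idx K →* GL chevE6.Idx K :=
  sigma chevE6 gE6 chkGraphPerm_gE6 f

theorem sig_xx (r : ℕ) (hr : r < 72) (t : K) :
    sig f (xx r t) = xx (gE6.pr.getD r 0) (((gE6.eps.getD r 1 : ℤ) : K) * f t) :=
  sigma_xGL chevE6 hE6' gE6 chkGraphPerm_gE6 (fun r hr => chkGraph_gE6 r hr) f r hr t

theorem sig_zGL (r : K) : sig f (zGL r) = zGL (f r) := by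
  unfold zGL
  rw [sig_xx f 71 (by decide), tab_sz.1, tab_sz.2]
  congr 1
  simp

theorem sig_xIGL (I : T3) (a : K) :
    sig f (xIGL I a) = xIGL (tauI I) (((epsI I : ℤ) : K) * f a) := by
  unfold xIGL
  rw [sig_xx f (gIdx I) (tab_g_lt I), (tab_sg I).1, (tab_sg I).2]

theorem sig_xijGL (p : IJ) (t : K) :
    sig f (xijGL p t) = xijGL (revp p) (((-(mS p.1.1 * mS p.1.2) : ℤ) : K) * f t) := by
  obtain ⟨h1, h2, h3, h4⟩ := tab_sd p
  unfold xijGL
  rw [sig_xx f (dIdx p) (tab_d_lt p), h1]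
  congr 1
  rw [← h2, map_mul, map_intCast]
  have h5 : ((tau (revp p) : ℤ) : K) * (tau (revp p) : K) = 1 := tau_sq (revp p) h3
  push_cast
  calc ((gE6.eps.getD (dIdx p) 1 : ℤ) : K) * (((tau p : ℤ) : K) * f t)
      = (((tau (revp p) : ℤ) : K) * (tau (revp p) : K)) *
          (((gE6.eps.getD (dIdx p) 1 : ℤ) : K) * (((tau p : ℤ) : K) * f t)) := by
        rw [h5, one_mul]
    _ = _ := by ring


/-! ### the blocks of the `τ`-stable Lagrangian -/

/-- the weights of `E6M2.inLL`, in a fixed order -/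
def LLa : List T3 := [T3.mk' 0 1 2, T3.mk' 0 1 3, T3.mk' 0 1 4, T3.mk' 0 2 3, T3.mk' 0 2 4,
  T3.mk' 0 3 4, T3.mk' 0 1 5, T3.mk' 1 2 3, T3.mk' 0 2 5, T3.mk' 1 2 4]

/-- their complements -/
def LLb : List T3 := [T3.mk' 3 4 5, T3.mk' 2 4 5, T3.mk' 2 3 5, T3.mk' 1 4 5, T3.mk' 1 3 5,
  T3.mk' 1 2 5, T3.mk' 2 3 4, T3.mk' 0 4 5, T3.mk' 1 3 4, T3.mk' 0 3 5]

theorem tabLLa1 : ∀ I ∈ LLa, ∀ J ∈ LLa, J ≠ I.compl := by decide
theorem tabLLa2 : LLa.Nodup := by decide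
theorem tabLLa3 : ∀ J : T3, E6M2.inLL J ↔ J ∈ LLa := by decide
theorem tabLLa4 : ∀ J ∈ LLa, J.compl ∈ LLb := by decide
theorem tabLLa5 : (LLa.map tauI).Perm LLa := by decide

theorem tabLLa : (∀ I ∈ LLa, ∀ J ∈ LLa, J ≠ I.compl) ∧ LLa.Nodup ∧
    (∀ J : T3, E6M2.inLL J ↔ J ∈ LLa) ∧ (∀ J ∈ LLa, J.compl ∈ LLb) ∧
    (LLa.map tauI).Perm LLa := ⟨tabLLa1, tabLLa2, tabLLa3, tabLLa4, tabLLa5⟩

theorem tabLLb1 : ∀ I ∈ LLb, ∀ J ∈ LLb, J ≠ I.compl := by decide
theorem tabLLb2 : LLb.Nodup := by decide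
theorem tabLLb3 : (LLb.map tauI).Perm LLb := by decide
theorem tabLLb4 : ∀ J : T3, J ∈ LLa ∨ J ∈ LLb := by decide
theorem tabLLb5 : ∀ J ∈ LLa, J ∉ LLb := by decide

theorem tabLLb : (∀ I ∈ LLb, ∀ J ∈ LLb, J ≠ I.compl) ∧ LLb.Nodup ∧
    (LLb.map tauI).Perm LLb ∧ (∀ J : T3, J ∈ LLa ∨ J ∈ LLb) ∧ (∀ J ∈ LLa, J ∉ LLb) :=
  ⟨tabLLb1, tabLLb2, tabLLb3, tabLLb4, tabLLb5⟩

/-! ### the elements of `Q`, in the order `LLa ++ LLb` -/

/-- `z r ∏_{I ∈ LLa} x_I(s_I) ∏_{I ∈ LLb} x_I(s_I)` in `E₆(K)` -/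
noncomputable def PsiK (r : K) (s : T3 → K) : ↥(chevE6.group K) :=
  (conc K).z r * (E6M.prodL (conc K) LLa s * E6M.prodL (conc K) LLb s)

theorem bil2_eq (s s' : T3 → K) :
    E6M2.bil2 s s' = (LLa.map fun J => if J.compl ∈ LLb then
      ((J.compl.omega : ℤ) : K) * s J.compl * s' J else 0).sum := by
  obtain ⟨_, hnd, hmem, hc, _⟩ := tabLLa
  unfold E6M2.bil2
  have e1 : (LLa.map fun J => if J.compl ∈ LLb then ((J.compl.omega : ℤ) : K) * s J.compl * s' J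
        else 0) = LLa.map fun J => ((J.compl.omega : ℤ) : K) * s J.compl * s' J := by
    apply List.map_congr_left
    intro J hJ
    rw [if_pos (hc J hJ)]
  rw [e1, ← List.sum_toFinset _ hnd]
  rw [← Finset.sum_filter]
  apply Finset.sum_congr
  · ext J
    simp [hmem J]
  · intro J _
    rfl

theorem PsiK_mul (r : K) (s : T3 → K) (r' : K) (s' : T3 → K) :
    PsiK r s * PsiK r' s' = PsiK (r + r' + E6M2.bil2 s s') (s + s') := by
  have h0 : Rel0 (conc K) := conc_rel1.rel0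
  unfold PsiK
  rw [bil2_eq, ← h0.z_add, ← h0.z_add,
    ← prodL_add h0 LLa tabLLa.1 s s', ← prodL_add h0 LLb tabLLb.1 s s']
  have hswap := prodL_mul_prodL h0 LLb LLa tabLLb.2.1 s s'
  set c := (LLa.map fun J => if J.compl ∈ LLb then ((J.compl.omega : ℤ) : K) * s J.compl * s' J
      else 0).sum
  set D := conc K
  calc D.z r * (E6M.prodL D LLa s * E6M.prodL D LLb s) * (D.z r' * (E6M.prodL D LLa s' * E6M.prodL D LLb s'))
      = D.z r * E6M.prodL D LLa s * (E6M.prodL D LLb s * D.z r') * E6M.prodL D LLa s' * E6M.prodL D LLb s' := by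
        simp only [mul_assoc]
    _ = D.z r * E6M.prodL D LLa s * (D.z r' * E6M.prodL D LLb s) * E6M.prodL D LLa s' * E6M.prodL D LLb s' := by
        rw [z_comm_prodL h0 r' LLb s]
    _ = D.z r * (E6M.prodL D LLa s * D.z r') * (E6M.prodL D LLb s * E6M.prodL D LLa s') * E6M.prodL D LLb s' := by
        simp only [mul_assoc]
    _ = D.z r * (D.z r' * E6M.prodL D LLa s) * (D.z c * E6M.prodL D LLa s' * E6M.prodL D LLb s) *
          E6M.prodL D LLb s' := by
        rw [z_comm_prodL h0 r' LLa s, hswap]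
    _ = D.z r * D.z r' * (E6M.prodL D LLa s * D.z c) * E6M.prodL D LLa s' * E6M.prodL D LLb s *
          E6M.prodL D LLb s' := by
        simp only [mul_assoc]
    _ = D.z r * D.z r' * (D.z c * E6M.prodL D LLa s) * E6M.prodL D LLa s' * E6M.prodL D LLb s *
          E6M.prodL D LLb s' := by
        rw [z_comm_prodL h0 c LLa s]
    _ = D.z r * D.z r' * D.z c * (E6M.prodL D LLa s * E6M.prodL D LLa s' *
          (E6M.prodL D LLb s * E6M.prodL D LLb s')) := by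
        simp only [mul_assoc]

theorem PsiK_val (r : K) (s : T3 → K) :
    ((PsiK r s : ↥(chevE6.group K)) : GL chevE6.Idx K) =
      zGL r * ((LLa.map fun I => xIGL I (s I)).prod * (LLb.map fun I => xIGL I (s I)).prod) := by
  unfold PsiK E6M.prodL
  rw [Subgroup.coe_mul, Subgroup.coe_mul, Subgroup.val_list_prod, Subgroup.val_list_prod,
    List.map_map, List.map_map]
  rfl

/-- a block of pairwise commuting root elements is fixed by `σ` when `s` is -/
theorem sig_block (L : List T3) (hperm : (L.map tauI).Perm L)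
    (hL : ∀ I ∈ L, ∀ J ∈ L, J ≠ I.compl) (s : T3 → K) (hs : s ∈ LamS f) :
    sig f (L.map fun I => xIGL I (s I)).prod = (L.map fun I => xIGL I (s I)).prod := by
  rw [map_list_prod, List.map_map]
  have e : (L.map ((sig f) ∘ fun I => xIGL I (s I))) =
      (L.map tauI).map (fun J => xIGL J (s J)) := by
    rw [List.map_map]
    apply List.map_congr_left
    intro I _
    show sig f (xIGL I (s I)) = xIGL (tauI I) (s (tauI I))
    rw [sig_xIGL, hs I]
  rw [e]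
  apply List.Perm.prod_eq' (hperm.map _)
  rw [List.pairwise_map]
  have hmem : ∀ J ∈ L.map tauI, J ∈ L := fun J hJ => hperm.subset hJ
  apply List.Pairwise.imp_of_mem (R := fun _ _ => True)
  · intro a b ha hb _
    exact (xIGL_comm a b (s a) (s b) (hL a (hmem a ha) b (hmem b hb)))
  · exact List.pairwise_of_forall (fun _ _ => trivial)

theorem PsiK_fix (r : K) (hr : f r = r) (s : T3 → K) (hs : s ∈ LamS f) :
    sig f (PsiK r s : ↥(chevE6.group K)).1 = (PsiK r s : ↥(chevE6.group K)).1 := by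
  show sig f ((PsiK r s : ↥(chevE6.group K)) : GL chevE6.Idx K) = _
  rw [PsiK_val, map_mul, map_mul, sig_zGL, hr, sig_block f LLa tabLLa.2.2.2.2 tabLLa.1 s hs,
    sig_block f LLb tabLLb.2.2.1 tabLLb.1 s hs]

end Cfsg.Agent.Lib.Helper5.E6M2K
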