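import Mathlib
import Cfsg.Agent.Lib.Helper5.E6MQL
import Cfsg.Agent.Lib.Helper6.E6MGEN
import Cfsg.Agent.Lib.Helper6.E6MMHOM

set_option autoImplicit false

/-!
Farm E6M (S2340), unit LING: `φ g` normalises `Q` and acts on `Q/Z` by `Mm g`.
-/

namespace Cfsg.Agent.Lib.Helper5.E6MLING

open Cfsg.Agent.Lib.Helper5.E6M Cfsg.Agent.Lib.Helper5.E6MQL Matrix T3

variable {F : Type*} [Field F] {G : Type*} [Group G] (D : Data F G)

set_option maxRecDepth 100000 in
theorem T3list_nodup : T3list.Nodup := by decide +kernel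

set_option maxRecDepth 100000 in
theorem T3list_mem : ∀ I : T3, I ∈ T3list := by decide +kernel

theorem sum_single (s : T3 → F) : (T3list.map fun I => (Pi.single I (s I) : T3 → F)).sum = s := by
  have h1 : (T3list.map fun I => (Pi.single I (s I) : T3 → F)).sum
      = ∑ I ∈ T3list.toFinset, (Pi.single I (s I) : T3 → F) :=
    (List.sum_toFinset _ T3list_nodup).symm
  have h2 : T3list.toFinset = Finset.univ := by
    ext I
    simp [T3list_mem I]
  rw [h1, h2]
  exact Finset.univ_sum_single s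

variable (hD : Rel D)

include hD

/-- one elementary matrix -/
theorem xij_conj_Phi (p : IJ) (t : F) (s : T3 → F) :
    ∃ c : F, ∀ r : F, D.xij p t * Phi D r s * (D.xij p t)⁻¹ =
      Phi D (r + c) (Mm (tv p t).1 *ᵥ s) := by
  -- the conjugate of the product of the `xI`
  have key : ∀ L : List T3, D.xij p t * (L.map fun I => D.xI I (s I)).prod * (D.xij p t)⁻¹
      = (L.map fun I => Phi D 0 (Mm (tv p t).1 *ᵥ Pi.single I (s I))).prod := by
    intro L
    induction L with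
    | nil => simp
    | cons K L ih =>
      rw [List.map_cons, List.prod_cons, List.map_cons, List.prod_cons, ← ih]
      have := hD.xij_xI p t K (s K)
      rw [show Mm (tv p t).1 = Mm (Matrix.transvection p.1.1 p.1.2 t) from rfl, ← this]
      group
  obtain ⟨c, hc⟩ := Phi_list_prod D hD
    (T3list.map fun I => ((0 : F), Mm (tv p t).1 *ᵥ (Pi.single I (s I) : T3 → F)))
  have e1 : ((T3list.map fun I => ((0 : F), Mm (tv p t).1 *ᵥ (Pi.single I (s I) : T3 → F))).map
      fun q => Phi D q.1 q.2)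
      = T3list.map fun I => Phi D 0 (Mm (tv p t).1 *ᵥ Pi.single I (s I)) := by
    rw [List.map_map]
    rfl
  have e2 : ((T3list.map fun I => ((0 : F), Mm (tv p t).1 *ᵥ (Pi.single I (s I) : T3 → F))).map
      Prod.snd).sum = Mm (tv p t).1 *ᵥ s := by
    rw [List.map_map]
    have : (Prod.snd ∘ fun I => ((0 : F), Mm (tv p t).1 *ᵥ (Pi.single I (s I) : T3 → F)))
        = fun I => (Mm (tv p t).1).mulVecLin (Pi.single I (s I)) := rfl
    rw [this]
    have h3 : (T3list.map fun I => (Mm (tv p t).1).mulVecLin (Pi.single I (s I) : T3 → F)).sum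
        = (Mm (tv p t).1).mulVecLin (T3list.map fun I => (Pi.single I (s I) : T3 → F)).sum := by
      rw [map_list_sum, List.map_map]
      rfl
    rw [h3, sum_single]
    rfl
  rw [e1, e2] at hc
  refine ⟨c, fun r => ?_⟩
  have hP : Phi D r s = D.z r * (T3list.map fun I => D.xI I (s I)).prod := rfl
  have hconj : D.xij p t * (D.z r * (T3list.map fun I => D.xI I (s I)).prod) * (D.xij p t)⁻¹
      = (D.xij p t * D.z r * (D.xij p t)⁻¹) *
        (D.xij p t * (T3list.map fun I => D.xI I (s I)).prod * (D.xij p t)⁻¹) := by group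
  rw [hP, hconj, hD.xij_z, key, hc, z_mul_Phi D hD]

/-- unit LING -/
theorem phi_conj_Phi [Finite F] (φ : SL6 F →* G)
    (hφ : ∀ (p : IJ) (t : F), φ (tv p t) = D.xij p t) (g : SL6 F) (s : T3 → F) :
    ∃ c : F, ∀ r : F, φ g * Phi D r s * (φ g)⁻¹ = Phi D (r + c) (Mm g.1 *ᵥ s) := by
  revert s
  refine Cfsg.Agent.Lib.Helper6.E6MGEN.sl_induction 6 (by norm_num)
    (fun g => ∀ s : T3 → F, ∃ c : F, ∀ r : F,
      φ g * Phi D r s * (φ g)⁻¹ = Phi D (r + c) (Mm g.1 *ᵥ s)) ?_ ?_ g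
  · intro s
    refine ⟨0, fun r => ?_⟩
    rw [map_one, one_mul, inv_one, mul_one, add_zero]
    show Phi D r s = Phi D r (Mm (1 : Matrix (Fin 6) (Fin 6) F) *ᵥ s)
    rw [Cfsg.Agent.Lib.Helper6.E6MMHOM.Mm_one, Matrix.one_mulVec]
  · intro i j hij t g ih s
    obtain ⟨c, hc⟩ := ih s
    obtain ⟨c', hc'⟩ := xij_conj_Phi D hD ⟨(i, j), hij⟩ t (Mm g.1 *ᵥ s)
    refine ⟨c + c', fun r => ?_⟩
    have e : (⟨Matrix.transvection i j t, Matrix.det_transvection_of_ne _ _ hij t⟩ : SL6 F)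
        = tv ⟨(i, j), hij⟩ t := rfl
    rw [e, map_mul, hφ]
    have hconj : D.xij ⟨(i, j), hij⟩ t * φ g * Phi D r s * (D.xij ⟨(i, j), hij⟩ t * φ g)⁻¹
        = D.xij ⟨(i, j), hij⟩ t * (φ g * Phi D r s * (φ g)⁻¹) * (D.xij ⟨(i, j), hij⟩ t)⁻¹ := by
      group
    rw [hconj, hc, hc', add_assoc]
    congr 1
    show Mm (tv ⟨(i, j), hij⟩ t).1 *ᵥ (Mm g.1 *ᵥ s) = Mm ((tv ⟨(i, j), hij⟩ t).1 * g.1) *ᵥ s
    rw [Cfsg.Agent.Lib.Helper6.E6MMHOM.Mm_tv_mul, Matrix.mulVec_mulVec]

end Cfsg.Agent.Lib.Helper5.E6MLING
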