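import Mathlib
import Cfsg.Agent.Lib.Helper5.E6M2ConcE
import Cfsg.Agent.Lib.Helper5.E6MQL
import Cfsg.Agent.Lib.Helper5.E6MLING
import Cfsg.Agent.Lib.Helper6.E6MPHI

set_option autoImplicit false

/-!
Farm E6M2 (S2341), concrete side, part 3: the Levi homomorphism `phiK` on `RJ q`, the Weyl and
torus elements, conjugation formulas for `PsiK`; everything inside `chevE6.group K`, together with
the membership in `twistedE6 K q`.
-/

namespace Cfsg.Agent.Lib.Helper5.E6M2K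

open Cfsg Cfsg.Lie Cfsg.Agent.Lib.Helper5.ChevSym Cfsg.Agent.Lib.Helper5.ChevStruct
  Cfsg.Agent.Lib.Helper5.E6M Cfsg.Agent.Lib.Helper3.E6M2C Cfsg.Agent.Lib.Helper5.FieldFix Matrix

section general

variable (K : Type*) [Field K] [Fintype K]

/-- the Levi homomorphism of farm E6M over `K` -/
noncomputable def phiK : SL6 K →* ↥(chevE6.group K) :=
  Classical.choose (Cfsg.Agent.Lib.Helper6.E6MPHI.exists_phi (conc K) conc_rel)

theorem phiK_tv (p : IJ) (t : K) : phiK K (tv p t) = (conc K).xij p t :=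
  Classical.choose_spec (Cfsg.Agent.Lib.Helper6.E6MPHI.exists_phi (conc K) conc_rel) p t

variable {K}

theorem zGL_inj (a b : K) (h : (zGL a : GL chevE6.Idx K) = zGL b) : a = b := by
  have h2 : chevE6.x K 71 (-a) = chevE6.x K 71 (-b) := by
    have := congrArg (fun g : GL chevE6.Idx K => (g : Matrix chevE6.Idx chevE6.Idx K)) h
    simpa only [zGL, xGL_val] using this
  have h3 := x_inj_param chevE6 hE6' 71 (by decide) (-a) (-b) h2
  exact neg_injective h3

theorem prodL_append (L L' : List T3) (s : T3 → K) :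
    E6M.prodL (conc K) (L ++ L') s = E6M.prodL (conc K) L s * E6M.prodL (conc K) L' s := by
  simp [E6M.prodL, List.map_append, List.prod_append]

theorem prodL_eq_Phi (L : List T3) (hnd : L.Nodup) (s : T3 → K) :
    ∃ c : K, E6M.prodL (conc K) L s = Phi (conc K) c (fun I => if I ∈ L then s I else 0) := by
  have hD : Rel (conc K) := conc_rel
  induction L with
  | nil =>
    refine ⟨0, ?_⟩
    rw [E6M.prodL_nil]
    have : (fun I : T3 => if I ∈ ([] : List T3) then s I else 0) = 0 := by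
      funext I; simp
    rw [this, E6MQL.Phi_zero (conc K) hD]
  | cons J L ih =>
    obtain ⟨c, hc⟩ := ih (List.nodup_cons.1 hnd).2
    refine ⟨0 + c + bil (Pi.single J (s J)) (fun I => if I ∈ L then s I else 0), ?_⟩
    rw [E6M.prodL_cons, hc, hD.xI_eq, hD.qlaw]
    congr 1
    funext I
    by_cases hI : I = J
    · subst hI
      simp [(List.nodup_cons.1 hnd).1]
    · simp [hI, Pi.single_eq_of_ne hI]

theorem tabLLab : (LLa ++ LLb).Nodup ∧ ∀ J : T3, J ∈ LLa ++ LLb := by decide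

theorem PsiK_eq_Phi (s : T3 → K) : ∃ c : K, ∀ r : K, PsiK r s = Phi (conc K) (r + c) s := by
  obtain ⟨c, hc⟩ := prodL_eq_Phi (LLa ++ LLb) tabLLab.1 s
  refine ⟨c, fun r => ?_⟩
  unfold PsiK
  rw [← prodL_append, hc, E6MQL.z_mul_Phi (conc K) conc_rel]
  congr 1
  funext I
  rw [if_pos (tabLLab.2 I)]

theorem PsiK_conj (g : SL6 K) (s : T3 → K) : ∃ c : K, ∀ r : K,
    phiK K g * PsiK r s * (phiK K g)⁻¹ = PsiK (r + c) (Mm g.1 *ᵥ s) := by
  obtain ⟨c0, h0⟩ := PsiK_eq_Phi s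
  obtain ⟨c1, h1⟩ := PsiK_eq_Phi (Mm g.1 *ᵥ s)
  obtain ⟨cg, hg⟩ := E6MLING.phi_conj_Phi (conc K) conc_rel (phiK K) (phiK_tv K) g s
  refine ⟨c0 + cg - c1, fun r => ?_⟩
  rw [h0, hg, h1]
  congr 1
  ring

theorem PsiK_z (r : K) (s : T3 → K) : PsiK r s = (conc K).z r * PsiK 0 s := by
  have h0 : Rel0 (conc K) := conc_rel1.rel0
  unfold PsiK
  rw [z_zero h0, one_mul]

theorem prodL_zero (L : List T3) : E6M.prodL (conc K) L (0 : T3 → K) = 1 := by
  have h0 : Rel0 (conc K) := conc_rel1.rel0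
  induction L with
  | nil => rfl
  | cons J L ih => rw [E6M.prodL_cons, ih, Pi.zero_apply, xI_zero h0, one_mul]

theorem PsiK_zero_right (r : K) : PsiK r (0 : T3 → K) = (conc K).z r := by
  unfold PsiK
  rw [prodL_zero, prodL_zero, one_mul, mul_one]

theorem prodL_single (L : List T3) (hnd : L.Nodup) (I : T3) (a : K) :
    E6M.prodL (conc K) L (Pi.single I a) = if I ∈ L then (conc K).xI I a else 1 := by
  have h0 : Rel0 (conc K) := conc_rel1.rel0
  induction L with
  | nil => simp [E6M.prodL_nil]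
  | cons J L ih =>
    rw [E6M.prodL_cons, ih (List.nodup_cons.1 hnd).2]
    by_cases hJ : J = I
    · subst hJ
      rw [Pi.single_eq_same, if_neg (List.nodup_cons.1 hnd).1, mul_one,
        if_pos (List.mem_cons_self ..)]
    · have hIJ : I ≠ J := fun h => hJ h.symm
      rw [Pi.single_eq_of_ne hJ, xI_zero h0, one_mul]
      by_cases hI : I ∈ L
      · rw [if_pos hI, if_pos (List.mem_cons_of_mem _ hI)]
      · rw [if_neg hI, if_neg (fun h => by
          rcases List.mem_cons.1 h with h | h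
          · exact hIJ h
          · exact hI h)]

theorem PsiK_single (I : T3) (hI : I ∈ LLa) (a : K) :
    PsiK 0 (Pi.single I a) = (conc K).xI I a := by
  have h0 : Rel0 (conc K) := conc_rel1.rel0
  unfold PsiK
  rw [z_zero h0, one_mul, prodL_single LLa tabLLa.2.1 I a, if_pos hI,
    prodL_single LLb tabLLb.2.1 I a, if_neg (tabLLb.2.2.2.2 I hI), mul_one]

end general

section tw

variable {K : Type*} [Field K] [Fintype K] {q : ℕ} (f : K →+* K) (hf : ∀ x, f x = x ^ q)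
  (hf2 : ∀ x, f (f x) = x)

include hf hf2 in
theorem mem_tw (g : GL chevE6.Idx K) (hg : g ∈ chevE6.group K) (hs : sig f g = g) :
    g ∈ twistedE6 K q := by
  rw [Tw2E6.twisted_eq_fix6 f hf hf2]
  exact Subgroup.mem_inf.2 ⟨hg, hs⟩

include hf hf2 in
theorem tw_fix (g : GL chevE6.Idx K) (hg : g ∈ twistedE6 K q) : sig f g = g :=
  Tw2E6.twisted_le_fix f hf hf2 hg

theorem rev_ne : ∀ i : Fin 6, i ≠ Fin.rev i := by decide

include hf hf2 in
theorem phiK_xs_fix (p : IJ) (t : K) :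
    sig f ((phiK K (xs q p t) : ↥(chevE6.group K)) : GL chevE6.Idx K) =
      ((phiK K (xs q p t) : ↥(chevE6.group K)) : GL chevE6.Idx K) := by
  obtain ⟨e1, e2, e3⟩ := tab_ms p
  have hv : ((phiK K (xs q p t) : ↥(chevE6.group K)) : GL chevE6.Idx K) =
      xijGL p t * xijGL (revp p) (((-(mS p.1.1 * mS p.1.2) : ℤ) : K) * t ^ q) := by
    unfold xs
    rw [map_mul, phiK_tv, phiK_tv]
    rfl
  rw [hv, map_mul, sig_xijGL, sig_xijGL, e3, ← e1]
  have h2 : ((-(mS p.1.1 * mS p.1.2) : ℤ) : K) *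
      f (((-(mS p.1.1 * mS p.1.2) : ℤ) : K) * t ^ q) = t := by
    rw [map_mul, map_intCast, ← hf t, hf2, ← mul_assoc, ← Int.cast_mul, e2]
    simp
  rw [hf t, h2]
  exact xijGL_comm (revp p) p _ _ (rev_ne p.1.2).symm (rev_ne p.1.1).symm

include hf in
theorem phiK_xl_fix (i : Fin 6) (t : K) (ht : t ^ q = t) :
    sig f ((phiK K (xl i t) : ↥(chevE6.group K)) : GL chevE6.Idx K) =
      ((phiK K (xl i t) : ↥(chevE6.group K)) : GL chevE6.Idx K) := by
  obtain ⟨e1, e2⟩ := tab_lp i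
  have hv : ((phiK K (xl i t) : ↥(chevE6.group K)) : GL chevE6.Idx K) = xijGL (lpos i) t := by
    unfold xl
    rw [phiK_tv]
    rfl
  rw [hv, sig_xijGL, e1, e2, hf t, ht]
  simp

include hf hf2 in
theorem phiK_mem (g : SL6 K) (hg : g ∈ RJ (K := K) q) :
    ((phiK K g : ↥(chevE6.group K)) : GL chevE6.Idx K) ∈ twistedE6 K q := by
  unfold RJ at hg
  induction hg using Subgroup.closure_induction with
  | mem x hx =>
    rcases hx with ⟨p, t, rfl⟩ | ⟨i, t, ht, rfl⟩
    · exact mem_tw f hf hf2 _ (phiK K _).2 (phiK_xs_fix f hf hf2 p t)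
    · exact mem_tw f hf hf2 _ (phiK K _).2 (phiK_xl_fix f hf i t ht)
  | one => rw [map_one]; exact one_mem _
  | mul x y _ _ hx hy => rw [map_mul]; exact mul_mem hx hy
  | inv x _ hx => rw [map_inv]; exact inv_mem hx

include hf hf2 in
theorem PsiK_mem (r : K) (hr : f r = r) (s : T3 → K) (hs : s ∈ LamS f) :
    ((PsiK r s : ↥(chevE6.group K)) : GL chevE6.Idx K) ∈ twistedE6 K q :=
  mem_tw f hf hf2 _ (PsiK r s).2 (PsiK_fix f r hr s hs)

include hf in
theorem n1_mem : (n1GL : GL chevE6.Idx K) ∈ twistedE6 K q :=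
  Tw2E6.nJ_mem f hf [1] (by decide)

include hf in
theorem hGL_mem (c : Kˣ) (hc : f (c : K) = c) : hGL c ∈ twistedE6 K q := by
  obtain ⟨_, s1, _, _, _, _, _, n1, _⟩ := Tw2E6.simple_vals
  unfold hGL wordGL
  apply Subgroup.list_prod_mem
  intro g hg
  rw [List.mem_map] at hg
  obtain ⟨p, hp, rfl⟩ := hg
  have key : p.1 ∈ [e6p2, e6m2, e6p4, e6m4] ∧ f p.2 = p.2 := by
    simp only [ChevalleyDatum.hWord, ChevalleyDatum.nWord, List.mem_append, List.mem_cons,
      List.not_mem_nil, or_false, s1, n1] at hp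
    rcases hp with (rfl | rfl | rfl) | (rfl | rfl | rfl)
    · exact ⟨by simp, hc⟩
    · exact ⟨by simp, by rw [map_neg, map_inv₀, hc]⟩
    · exact ⟨by simp, hc⟩
    · exact ⟨by simp, by simp⟩
    · exact ⟨by simp, by simp⟩
    · exact ⟨by simp, by simp⟩
  exact Tw2E6.single_mem p.1 key.1 p.2 (by rw [← hf]; exact key.2)

include hf hf2 in
/-- the constant of `PsiK_conj` lies in the fixed field -/
theorem PsiK_conj_fix (hT : ∀ g : SL6 K, g ∈ RJ q → ∀ s ∈ LamS f, Mm g.1 *ᵥ s ∈ LamS f)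
    (g : SL6 K) (hg : g ∈ RJ (K := K) q) (s : T3 → K) (hs : s ∈ LamS f) :
    ∃ c : K, f c = c ∧ ∀ r : K,
      phiK K g * PsiK r s * (phiK K g)⁻¹ = PsiK (r + c) (Mm g.1 *ᵥ s) := by
  obtain ⟨c, hc⟩ := PsiK_conj g s
  refine ⟨c, ?_, hc⟩
  have h1 := hc 0
  rw [zero_add, PsiK_z c] at h1
  -- `z c` is a product of elements of the twisted group
  have hz : (conc K).z c = phiK K g * PsiK 0 s * (phiK K g)⁻¹ * (PsiK 0 (Mm g.1 *ᵥ s))⁻¹ := by
    rw [h1]; group
  have hzm : (zGL c : GL chevE6.Idx K) ∈ twistedE6 K q := by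
    have e : (zGL c : GL chevE6.Idx K) = (((conc K).z c : ↥(chevE6.group K)) : GL chevE6.Idx K) :=
      rfl
    rw [e, hz]
    simp only [Subgroup.coe_mul, Subgroup.coe_inv]
    exact mul_mem (mul_mem (mul_mem (phiK_mem f hf hf2 g hg)
      (PsiK_mem f hf hf2 0 (map_zero f) s hs)) (inv_mem (phiK_mem f hf hf2 g hg)))
      (inv_mem (PsiK_mem f hf hf2 0 (map_zero f) _ (hT g hg s hs)))
  have h2 := tw_fix f hf hf2 _ hzm
  rw [sig_zGL] at h2
  exact zGL_inj _ _ h2

end tw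

end Cfsg.Agent.Lib.Helper5.E6M2K
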