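import Mathlib
import Cfsg.Agent.Lib.Helper5.E6M2ConcF

set_option autoImplicit false

/-!
Farm E6M2 (S2341), concrete side, part 4: the `Data` of layer B2 for `twistedE6 K q` and the five
group-side fields of `Rel`.
-/

namespace Cfsg.Agent.Lib.Helper5.E6M2K

open Cfsg Cfsg.Lie Cfsg.Agent.Lib.Helper5.ChevSym Cfsg.Agent.Lib.Helper5.ChevStruct
  Cfsg.Agent.Lib.Helper5.E6M Cfsg.Agent.Lib.Helper3.E6M2C Matrix

theorem n1GL_conj_x05 {K : Type*} [Field K] (t : K) :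
    (n1GL : GL chevE6.Idx K) * xijGL p05 t * n1GL⁻¹ = xIGL I034 (-t) := by
  obtain ⟨a2, e2, t2⟩ := tab_w5
  have h := wGL_conj_eps (F := K) chevE6 hE6' [1] tab_w.1 (dIdx p05) (tab_d_lt p05)
    ((tau p05 : K) * t)
  rw [a2, e2] at h
  unfold n1GL xijGL xIGL
  rw [h, t2]
  congr 1
  push_cast
  ring

theorem tab_mem : I012 ∈ LLa ∧ I034 ∈ LLa := by decide

section

variable {K : Type*} [Field K] [Fintype K] {q : ℕ} (f : K →+* K) (hf : ∀ x, f x = x ^ q)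
  (hf2 : ∀ x, f (f x) = x)
  (hT : ∀ g : SL6 K, g ∈ RJ q → ∀ s ∈ LamS f, Mm g.1 *ᵥ s ∈ LamS f)

/-- the Levi homomorphism into the twisted group -/
noncomputable def phi2 : ↥(RJ (K := K) q) →* ↥(twistedE6 K q) :=
  ((chevE6.group K).subtype.comp ((phiK K).comp (RJ (K := K) q).subtype)).codRestrict
    (twistedE6 K q) (fun g => phiK_mem f hf hf2 g.1 g.2)

theorem phi2_val (g : ↥(RJ (K := K) q)) :
    ((phi2 f hf hf2 g : ↥(twistedE6 K q)) : GL chevE6.Idx K) =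
      ((phiK K g.1 : ↥(chevE6.group K)) : GL chevE6.Idx K) := rfl

/-- the units of the fixed field as units of `K` -/
noncomputable def uK (c : (FF f)ˣ) : Kˣ := Units.map ((FF f).subtype : ↥(FF f) →* K) c

theorem uK_val (c : (FF f)ˣ) : ((uK f c : Kˣ) : K) = ((c : FF f) : K) := rfl

/-- the concrete data of layer B2 -/
noncomputable def D2 : Helper2.E6M2B.Data (FF f) (LamS f) (RJ (K := K) q) ↥(twistedE6 K q) where
  Psi r s := ⟨((PsiK (r : K) s.1 : ↥(chevE6.group K)) : GL chevE6.Idx K),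
    PsiK_mem f hf hf2 r.1 r.2 s.1 s.2⟩
  beta := betaL f
  phi := phi2 f hf hf2
  act := actL f hT
  xd := xdL f hf
  n1 := ⟨n1GL, n1_mem f hf⟩
  h c := ⟨hGL (uK f c), hGL_mem f hf (uK f c) (c : FF f).2⟩
  A := AL f
  e1 := e1L f
  e2 := e2L f

theorem D2_Psi_val (r : FF f) (s : LamS f) :
    (((D2 f hf hf2 hT).Psi r s : ↥(twistedE6 K q)) : GL chevE6.Idx K) =
      ((PsiK (r : K) s.1 : ↥(chevE6.group K)) : GL chevE6.Idx K) := rfl

theorem D2_qlaw (r : FF f) (s : LamS f) (r' : FF f) (s' : LamS f) :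
    (D2 f hf hf2 hT).Psi r s * (D2 f hf hf2 hT).Psi r' s' =
      (D2 f hf hf2 hT).Psi (r + r' + (D2 f hf hf2 hT).beta s s') (s + s') := by
  apply Subtype.ext
  rw [Subgroup.coe_mul, D2_Psi_val, D2_Psi_val, D2_Psi_val, ← Subgroup.coe_mul, PsiK_mul]
  rfl

theorem D2_conj (g : ↥(RJ (K := K) q)) (s : LamS f) : ∃ c : FF f, ∀ r : FF f,
    (D2 f hf hf2 hT).phi g * (D2 f hf hf2 hT).Psi r s * ((D2 f hf hf2 hT).phi g)⁻¹ =
      (D2 f hf hf2 hT).Psi (r + c) ((D2 f hf hf2 hT).act g s) := by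
  obtain ⟨c, hc, h⟩ := PsiK_conj_fix f hf hf2 hT g.1 g.2 s.1 s.2
  refine ⟨⟨c, hc⟩, fun r => ?_⟩
  apply Subtype.ext
  rw [Subgroup.coe_mul, Subgroup.coe_mul, Subgroup.coe_inv, D2_Psi_val, D2_Psi_val]
  have h1 := congrArg (fun x : ↥(chevE6.group K) => (x : GL chevE6.Idx K)) (h (r : K))
  simp only [Subgroup.coe_mul, Subgroup.coe_inv] at h1
  exact h1

theorem smul_e1L (a : FF f) : ((a • e1L f : LamS f) : T3 → K) = Pi.single I012 (a : K) := by
  show (a : K) • (Pi.single I012 (1 : K) : T3 → K) = _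
  rw [← Pi.single_smul, smul_eq_mul, mul_one]

theorem smul_e2L (a : FF f) : ((a • e2L f : LamS f) : T3 → K) = Pi.single I034 (a : K) := by
  show (a : K) • (Pi.single I034 (1 : K) : T3 → K) = _
  rw [← Pi.single_smul, smul_eq_mul, mul_one]

theorem D2_n1_z : ∃ e : FF f, e ≠ 0 ∧ ∀ r : FF f,
    (D2 f hf hf2 hT).n1 * (D2 f hf hf2 hT).Psi r 0 * (D2 f hf hf2 hT).n1⁻¹ =
      (D2 f hf hf2 hT).Psi 0 ((e * r) • (D2 f hf hf2 hT).e1) := by
  refine ⟨1, one_ne_zero, fun r => ?_⟩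
  apply Subtype.ext
  rw [Subgroup.coe_mul, Subgroup.coe_mul, Subgroup.coe_inv, D2_Psi_val, D2_Psi_val]
  have e1 : (((0 : LamS f) : T3 → K)) = 0 := rfl
  have e2 : ((((1 * r) • (D2 f hf hf2 hT).e1 : LamS f)) : T3 → K) = Pi.single I012 (r : K) := by
    rw [one_mul]; exact smul_e1L f r
  have e3 : (((0 : FF f)) : K) = 0 := rfl
  rw [e1, e2, e3, PsiK_zero_right, PsiK_single I012 tab_mem.1]
  exact n1GL_conj_zGL (r : K)

theorem D2_n1_x : ∃ e : FF f, e ≠ 0 ∧ ∀ t : FF f,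
    (D2 f hf hf2 hT).n1 * (D2 f hf hf2 hT).phi ((D2 f hf hf2 hT).xd t) * (D2 f hf hf2 hT).n1⁻¹ =
      (D2 f hf hf2 hT).Psi 0 ((e * t) • (D2 f hf hf2 hT).e2) := by
  refine ⟨-1, neg_ne_zero.2 one_ne_zero, fun t => ?_⟩
  apply Subtype.ext
  rw [Subgroup.coe_mul, Subgroup.coe_mul, Subgroup.coe_inv, D2_Psi_val]
  have e2 : ((((-1 * t) • (D2 f hf hf2 hT).e2 : LamS f)) : T3 → K) = Pi.single I034 (-(t : K)) := by
    have h5 : ((((-1 * t) • (D2 f hf hf2 hT).e2 : LamS f)) : T3 → K) =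
        Pi.single I034 (((-1 * t : FF f)) : K) := smul_e2L f (-1 * t)
    rw [h5]
    congr 1
    push_cast
    ring
  have e3 : (((0 : FF f)) : K) = 0 := rfl
  have e4 : (((D2 f hf hf2 hT).phi ((D2 f hf hf2 hT).xd t) : ↥(twistedE6 K q)) :
      GL chevE6.Idx K) = xijGL p05 (t : K) := by
    show ((phiK K (xl 0 (t : K)) : ↥(chevE6.group K)) : GL chevE6.Idx K) = _
    unfold xl
    rw [phiK_tv]
    rfl
  rw [e2, e3, e4, PsiK_single I034 tab_mem.2]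
  exact n1GL_conj_x05 (t : K)

theorem D2_h_z (c : (FF f)ˣ) (r : FF f) :
    (D2 f hf hf2 hT).h c * (D2 f hf hf2 hT).Psi r 0 * ((D2 f hf hf2 hT).h c)⁻¹ =
      (D2 f hf hf2 hT).Psi ((c : FF f) * r) 0 := by
  apply Subtype.ext
  rw [Subgroup.coe_mul, Subgroup.coe_mul, Subgroup.coe_inv, D2_Psi_val, D2_Psi_val]
  have e1 : (((0 : LamS f) : T3 → K)) = 0 := rfl
  rw [e1, PsiK_zero_right, PsiK_zero_right]
  exact hGL_conj_zGL (uK f c) (r : K)

theorem D2_Psi_one_ne : (D2 f hf hf2 hT).Psi 1 0 ≠ 1 := by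
  intro h
  have h1 := congrArg (fun x : ↥(twistedE6 K q) => (x : GL chevE6.Idx K)) h
  simp only [D2_Psi_val, Subgroup.coe_one] at h1
  have e1 : (((0 : LamS f) : T3 → K)) = 0 := rfl
  have e2 : (((1 : FF f)) : K) = 1 := rfl
  rw [e1, e2, PsiK_zero_right] at h1
  have h2 : (zGL (1 : K) : GL chevE6.Idx K) = zGL 0 := by
    have h0 : Rel0 (conc K) := conc_rel1.rel0
    have hz : (zGL (0 : K) : GL chevE6.Idx K) = 1 :=
      congrArg (fun x : ↥(chevE6.group K) => (x : GL chevE6.Idx K)) (z_zero h0)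
    rw [hz]
    exact h1
  exact one_ne_zero (zGL_inj _ _ h2)

end

end Cfsg.Agent.Lib.Helper5.E6M2K
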