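import Mathlib
import Cfsg.Prelude.Def_Classical
import Cfsg.Agent.Lib.Helper5.E6M2Defs

set_option autoImplicit false

/-!
Farm E6M2 (S2341): STUBS (statements with `sorry`; nothing may import this file).
Protocol as in E6M: claim by tip `E6M2-CLAIM <unit>`; own file `Lib/<You>/E6M2<unit>.lean`, own
namespace, statement VERBATIM; use other units as hypotheses (`_of` form) until they land; tip
`E6M2-DONE <unit>` with import path.  Everything landed for E6M over the field `K`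
(`Lib/Helper6/E6MMHOM` : `Mm_mul'`, `pl_mul'`, `Mm_mulVec_single`; `Lib/Helper4/E6MMTV`;
`Lib/Helper2/E6MCell*`; `Lib/Helper6/E6MGEN` ...) may be used: `Mm`, `pl`, `cellMat`, `Cell`, `tv`
are those of E6M with `F := K`.
-/

namespace Cfsg.Agent.Lib.Helper5.E6M2Stubs

open Cfsg.Agent.Lib.Helper5.E6M Cfsg.Agent.Lib.Helper5.E6M2 Matrix

/-! ## Layer F: the field `K`, the fixed field `Fq bar`, the fixed vectors -/

section F

variable {K : Type*} [Field K] [Fintype K] [DecidableEq K] (bar : K →+* K) (q : ℕ)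

/-! ### unit FIELD2 -/

theorem bar_bar (hb : BarOK bar q) (x : K) : bar (bar x) = x := by sorry
theorem two_le_q (hb : BarOK bar q) : 2 ≤ q := by sorry
theorem qF_eq (hb : BarOK bar q) : qF bar = q := by sorry
theorem exists_trace (hb : BarOK bar q) (a : K) (ha : bar a = a) : ∃ b : K, b + bar b = a := by
  sorry
theorem norm_fix (hb : BarOK bar q) (x : K) : bar (x * bar x) = x * bar x := by sorry

/-! ### unit FIXS2 -/

theorem FixS_zero : FixS bar (0 : T3 → K) := by sorry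
theorem FixS_add {s s' : T3 → K} (hs : FixS bar s) (hs' : FixS bar s') : FixS bar (s + s') := by
  sorry
theorem FixS_neg {s : T3 → K} (hs : FixS bar s) : FixS bar (-s) := by sorry
theorem FixS_smul {c : K} {s : T3 → K} (hc : bar c = c) (hs : FixS bar s) : FixS bar (c • s) := by
  sorry
theorem FixS_single {I : T3} (hI : tauT I = I) {a : K} (ha : bar a = a) :
    FixS bar (Pi.single I a) := by sorry
theorem FixS_mask {S : Finset T3} (hS : ∀ I ∈ S, tauT I = I) {s : T3 → K} (hs : FixS bar s) :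
    FixS bar (fun I => if I ∈ S then s I else 0) := by sorry
theorem FixS_coord {I : T3} (hI : tauT I = I) {s : T3 → K} (hs : FixS bar s) :
    bar (s I) = s I := by sorry
theorem dot_fix (hb : BarOK bar q) {l s : T3 → K} (hl : FixS bar l) (hs : FixS bar s) :
    bar (l ⬝ᵥ s) = l ⬝ᵥ s := by sorry
theorem bil2_fix (hb : BarOK bar q) {s s' : T3 → K} (hs : FixS bar s) (hs' : FixS bar s') :
    bar (bil2 s s') = bil2 s s' := by sorry
/-- eight coordinates in `Fq`, six free coordinates in `K` -/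
theorem card_Sfix (hb : BarOK bar q) : (Sfix bar).card = q ^ 20 := by sorry

/-! ### unit FOURIER2 (nondegeneracy of the pairings `Fq × Fq → Fq`, `Sfix × Sfix → Fq`; for a
pair `{J, τJ}` the two terms of `l ⬝ᵥ s` add up to a trace) -/

theorem sum_psi_Fq (hb : BarOK bar q) (ψ : AddChar K ℂ) (hψ : ∃ a : K, bar a = a ∧ ψ a ≠ 1)
    (a : K) (ha : bar a = a) :
    ∑ r ∈ Fq bar, ψ (r * a) = if a = 0 then (q : ℂ) else 0 := by sorry
theorem sum_psi_Sfix (hb : BarOK bar q) (ψ : AddChar K ℂ) (hψ : ∃ a : K, bar a = a ∧ ψ a ≠ 1)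
    (s : T3 → K) (hs : FixS bar s) :
    ∑ l ∈ Sfix bar, ψ (l ⬝ᵥ s) = if s = 0 then (q : ℂ) ^ 20 else 0 := by sorry

/-! ### unit UMAT2: the unitary group `U6 bar` (`Jm * Jm = -1`, so both conventions agree and `U6`
is closed under transposition) -/

theorem mem_U6_iff' (hb : BarOK bar q) (g : SL6 K) :
    g ∈ U6 bar ↔ g.1 * Jm K * (g.1.map bar)ᵀ = Jm K := by sorry
theorem exists_transpose (hb : BarOK bar q) (g : U6 bar) : ∃ g' : U6 bar, g'.1.1 = g.1.1ᵀ := by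
  sorry
theorem tv_p05_mem_iff (t : K) : tv p05 t ∈ U6 bar ↔ bar t = t := by sorry
/-- the twisted root elements for the pairs `{(i,j), (5-j,5-i)}` -/
theorem pair_mem (hb : BarOK bar q) (i j : Fin 6) (hij : i ≠ j) (hj : j ≠ Fin.rev i) (t : K) :
    tv ⟨(i, j), hij⟩ t * tv ⟨(Fin.rev j, Fin.rev i), fun h => hij (Fin.rev_injective h).symm⟩
      (((-(jsgn (Fin.rev j) * jsgn (Fin.rev i)) : ℤ) : K) * bar t) ∈ U6 bar := by sorry
/-- the torus -/
theorem diag_mem (hb : BarOK bar q) (d : Fin 6 → K) (hd : ∀ i, d i * bar (d (Fin.rev i)) = 1)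
    (hdet : (Matrix.diagonal d).det = 1) : (⟨Matrix.diagonal d, hdet⟩ : SL6 K) ∈ U6 bar := by
  sorry

/-! ### unit MFIX2 (suggested: the Laplace pairing `Ω u v = ∑ I, omega I * u I * v I.compl` is
invariant under `Mm g`, `g ∈ SL₆` — by `sl_induction` and MTV —, `Mm (g.map bar) = (Mm g).map bar`,
`Mm gᵀ = (Mm g)ᵀ`, and `Mm (Jm K)` is monomial) -/

theorem Mm_fix (hb : BarOK bar q) (g : U6 bar) (s : T3 → K) (hs : FixS bar s) :
    FixS bar (Mm g.1.1 *ᵥ s) := by sorry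

end F

/-! ## Layer A: group theory from the relations -/

section A

variable {K : Type*} [Field K] [Fintype K] [DecidableEq K] (bar : K →+* K) (q : ℕ)
  {G : Type*} [Group G] (D : Data2 K G)

/-! ### unit QL2: consequences of `qlaw` -/

theorem Psi_zero (hb : BarOK bar q) (hD : Rel2 bar D) : D.Psi 0 0 = 1 := by sorry
theorem z2_mul_Psi (hb : BarOK bar q) (hD : Rel2 bar D) (r r' : K) (s : T3 → K) (hr : bar r = r)
    (hr' : bar r' = r') (hs : FixS bar s) : D.Psi r 0 * D.Psi r' s = D.Psi (r + r') s := by sorry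
theorem Psi_inv (hb : BarOK bar q) (hD : Rel2 bar D) (r : K) (s : T3 → K) (hr : bar r = r)
    (hs : FixS bar s) : (D.Psi r s)⁻¹ = D.Psi (-r + bil2 s s) (-s) := by sorry
theorem Psi_conj (hb : BarOK bar q) (hD : Rel2 bar D) (u : T3 → K) (r : K) (s : T3 → K)
    (hu : FixS bar u) (hr : bar r = r) (hs : FixS bar s) :
    D.Psi 0 u * D.Psi r s * (D.Psi 0 u)⁻¹ = D.Psi (r + bil2 u s - bil2 s u) s := by sorry
/-- the abelian subgroup `Z ∏_{I ∈ LL} X_I` -/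
theorem Psi_LL_mul (hb : BarOK bar q) (hD : Rel2 bar D) (r r' : K) (s s' : T3 → K)
    (hr : bar r = r) (hr' : bar r' = r') (hs : FixS bar s) (hs' : FixS bar s')
    (h0 : ∀ I, ¬ inLL I → s I = 0) (h0' : ∀ I, ¬ inLL I → s' I = 0) :
    D.Psi r s * D.Psi r' s' = D.Psi (r + r') (s + s') := by sorry
theorem Psi_list_prod (hb : BarOK bar q) (hD : Rel2 bar D) (l : List (K × (T3 → K)))
    (hl : ∀ p ∈ l, bar p.1 = p.1 ∧ FixS bar p.2) :
    ∃ c : K, bar c = c ∧ (l.map fun p => D.Psi p.1 p.2).prod = D.Psi c (l.map Prod.snd).sum := by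
  sorry
theorem n1_conj_pair2 (hb : BarOK bar q) (hD : Rel2 bar D) :
    ∃ e e' : K, e ≠ 0 ∧ e' ≠ 0 ∧ bar e = e ∧ bar e' = e' ∧ ∀ r t : K, bar r = r → bar t = t →
      D.n1 * (D.Psi r 0 * D.xd t) * D.n1⁻¹ =
        D.Psi 0 (Pi.single I012 (e * r)) * D.Psi 0 (Pi.single I034 (e' * t)) := by sorry

end A

/-! ## Layer B: character sums -/

section B

variable {K : Type*} [Field K] [Fintype K] [DecidableEq K] (bar : K →+* K) (q : ℕ)
  {G : Type*} [Group G] (D : Data2 K G) (ψ : AddChar K ℂ)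

/-! ### unit H2 (as unit H of E6M, on the abelian group `Z ∏_{I ∈ LL} X_I` of order `q^{11}`:
its characters `(l, n)`, `n` supported on `LL`; conjugation by `Psi 0 u`, `u` supported off `LL`,
moves `(l, n)` to `(l, n + l u*)`, by `Psi_conj`; the torus moves `l`) -/

theorem heis2 (hb : BarOK bar q) (hD : Rel2 bar D) (hψ : ∃ a : K, bar a = a ∧ ψ a ≠ 1)
    {V : Type*} [AddCommGroup V] [Module ℂ V] [FiniteDimensional ℂ V]
    (ρ : Representation ℂ G V) :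
    ∃ a : ℕ, (Module.finrank ℂ V : ℂ) = fZ2 bar D ρ.character +
        ((q : ℂ) - 1) * (q : ℂ) ^ 10 * a ∧
      f12 bar D ρ.character = ZS2 bar D ρ.character {I012} +
        ((q : ℂ) - 1) * (q : ℂ) ^ 9 * a ∧
      f22 bar D ρ.character = ZS2 bar D ρ.character {I012, I034} +
        ((q : ℂ) - 1) * (q : ℂ) ^ 8 * a := by
  sorry

/-! ### unit C12: the multiplicities `cM2` -/

theorem cM2_nat (hb : BarOK bar q) (hD : Rel2 bar D)
    {V : Type*} [AddCommGroup V] [Module ℂ V] [FiniteDimensional ℂ V]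
    (ρ : Representation ℂ G V) (l : T3 → K) (hl : FixS bar l) :
    ∃ n : ℕ, cM2 bar D ψ ρ.character l = n := by
  sorry

/-- Fourier inversion: summing `cM2` over the characters trivial on `∏_{I ∈ S} X_I` -/
theorem sum_cM2_vanish (hb : BarOK bar q) (hψ : ∃ a : K, bar a = a ∧ ψ a ≠ 1) (χ : G → ℂ)
    (S : Finset T3) (hS : ∀ I ∈ S, tauT I = I) :
    ∑ l ∈ (Sfix bar).filter (fun l : T3 → K => ∀ I ∈ S, l I = 0), cM2 bar D ψ χ l =
      ZS2 bar D χ S := by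
  sorry

theorem ZS2_empty (hb : BarOK bar q) (χ : G → ℂ) : ZS2 bar D χ ∅ = fZ2 bar D χ := by sorry

/-! ### unit CONJ2: the Weyl element -/

theorem fZ2_eq_f12 (hb : BarOK bar q) (hD : Rel2 bar D) (χ : G → ℂ)
    (hχ : ∀ x y, χ (x * y * x⁻¹) = χ y) : fZ2 bar D χ = f12 bar D χ := by sorry
theorem f902_eq_f22 (hb : BarOK bar q) (hD : Rel2 bar D) (χ : G → ℂ)
    (hχ : ∀ x y, χ (x * y * x⁻¹) = χ y) : f902 bar D χ = f22 bar D χ := by sorry

/-! ### unit INV2: `cM2` is `U6`-invariant -/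

theorem cM2_inv (hb : BarOK bar q) (hD : Rel2 bar D) (χ : G → ℂ)
    (hχ : ∀ x y, χ (x * y * x⁻¹) = χ y) (φ : U6 bar →* G) (hφ : PhiOK bar D φ) (g : U6 bar)
    (l : T3 → K) (hl : FixS bar l) :
    cM2 bar D ψ χ (Mm g.1.1 *ᵥ l) = cM2 bar D ψ χ l := by
  sorry

/-! ### unit RR2: the two relations -/

theorem char_side2 (hb : BarOK bar q) (hD : Rel2 bar D) (hψ : ∃ a : K, bar a = a ∧ ψ a ≠ 1)
    {V : Type*} [AddCommGroup V] [Module ℂ V] [FiniteDimensional ℂ V]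
    (ρ : Representation ℂ G V) :
    ∃ a : ℕ, (Module.finrank ℂ V : ℂ) = fZ2 bar D ρ.character +
        ((q : ℂ) - 1) * (q : ℂ) ^ 10 * a ∧
      fZ2 bar D ρ.character = ∑ l ∈ Sfix bar, cM2 bar D ψ ρ.character l ∧
      ∑ l ∈ (Sfix bar).filter (fun l : T3 → K => l I012 ≠ 0), cM2 bar D ψ ρ.character l =
        ((q : ℂ) - 1) * (q : ℂ) ^ 9 * a ∧
      f902 bar D ρ.character = ((q : ℂ) - 1) * (q : ℂ) ^ 8 * a +
        ∑ l ∈ (Sfix bar).filter (fun l : T3 → K => l I012 = 0 ∧ l I034 = 0),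
          cM2 bar D ψ ρ.character l := by
  sorry

end B

/-! ## Layer C: combinatorics of the fixed vectors of `Λ³K⁶` (no group `G`) -/

section C

variable {K : Type*} [Field K] [Fintype K] [DecidableEq K] (bar : K →+* K) (q : ℕ)

/-- unit CELLCARD2: the fixed vectors of the cell of a `τ`-fixed `I` are `c • pl (cellMat I A)`,
`c ∈ Fq`, `c ≠ 0`, `A` "hermitian" (3 entries in `Fq`, 3 free entries in `K`) -/
theorem cell2_card (hb : BarOK bar q) (I : T3) (hI : tauT I = I) :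
    Nat.card {l : T3 → K // l ∈ Cell I ∧ FixS bar l} = (q - 1) * q ^ 9 := by
  sorry

/-- unit CELLORBIT2 -/
theorem cell2_orbit (hb : BarOK bar q) (I : T3) (hI : tauT I = I) (l : T3 → K) (hl : l ∈ Cell I)
    (hf : FixS bar l) :
    ∃ (g : U6 bar) (c' : K), bar c' = c' ∧ c' ≠ 0 ∧ l = Mm g.1.1 *ᵥ Pi.single I012 c' := by
  sorry

variable (c : (T3 → K) → ℕ)

/-- unit SUPP2 (the shape argument: `U⁻ = {[1 0; B 1]} ∩ U6` of order `q⁹` acts freely on
`{l | FixS l, l_012 = c'}`, normal forms `(c'; 0; β; e)`, `β` hermitian `3 × 3`, `SL₃(K)` acts by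
`β ↦ A β A*`, the torus `diag (d,1,1,1,1,d⁻¹)`, `d ∈ Fq`; then `tv p05 t` kills `e`; transport to
the other `τ`-fixed `I` by monomial matrices of `U6`) -/
theorem supp2 (hb : BarOK bar q)
    (hinv : ∀ (g : U6 bar) (l : T3 → K), FixS bar l → c (Mm g.1.1 *ᵥ l) = c l)
    (hsum : ∑ l ∈ (Sfix bar).filter (fun l : T3 → K => l I012 ≠ 0), c l = (q - 1) * q ^ 9) :
    ∀ I : T3, tauT I = I → ∀ l : T3 → K, FixS bar l → l I ≠ 0 →
      (l ∈ Cell I → c l = 1) ∧ (l ∉ Cell I → c l = 0) := by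
  sorry

/-- unit NEWA2: a fixed `l ≠ 0` whose eight `τ`-fixed coordinates vanish has `l_J ≠ 0` for some
`J ≠ τJ`; a twisted root element `g = tv (a,b) t * tv (5-b,5-a) (± bar t)` gives
`(Mm g l)_I = ± (t l_J + bar (t l_J))` for a `τ`-fixed `I`, non-zero for a suitable `t` -/
theorem newa2 (hb : BarOK bar q)
    (hinv : ∀ (g : U6 bar) (l : T3 → K), FixS bar l → c (Mm g.1.1 *ᵥ l) = c l)
    (hc : ∀ I : T3, tauT I = I → ∀ l : T3 → K, FixS bar l → l I ≠ 0 →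
      (l ∈ Cell I → c l = 1) ∧ (l ∉ Cell I → c l = 0)) :
    ∀ l : T3 → K, FixS bar l → l ≠ 0 → c l = 0 ∨ (c l = 1 ∧
      ∃ (g : U6 bar) (c' : K), bar c' = c' ∧ l = Mm g.1.1 *ᵥ Pi.single I012 c') := by
  sorry

/-- unit NPAIR2 (hermitian `3 × 3` with a non-degenerate hermitian `2 × 2` block) -/
theorem npair2 (hb : BarOK bar q) :
    Nat.card {l : T3 → K // l ∈ Cell I012 ∧ FixS bar l ∧ l I034 ≠ 0} =
      (q - 1) ^ 2 * q ^ 6 * (q ^ 2 + 1) := by
  sorry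

/-- unit NMOV2 (four chain steps `012, 013, 024, 034` with `(q-1) q^9, q^8, q^6, q^5` elements;
a moved `l` with `l_012 = l_013 = l_024 = l_034 = 0` has `l_014 ≠ 0`, `l_023 = ± bar l_014`, and
`c l = 0` by the Plücker relation `l_012 l_034 - l_013 l_024 + l_014 l_023 = 0` of `hdec`) -/
theorem nmov2 (hb : BarOK bar q)
    (hc : ∀ I : T3, tauT I = I → ∀ l : T3 → K, FixS bar l → l I ≠ 0 →
      (l ∈ Cell I → c l = 1) ∧ (l ∉ Cell I → c l = 0))
    (hdec : ∀ l : T3 → K, FixS bar l → l ≠ 0 → c l = 0 ∨ (c l = 1 ∧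
      ∃ (g : U6 bar) (c' : K), bar c' = c' ∧ l = Mm g.1.1 *ᵥ Pi.single I012 c')) :
    ∑ l ∈ (Sfix bar).filter (fun l : T3 → K => moved2 l), c l =
      (q ^ 2 - 1) * (q ^ 3 + 1) * q ^ 5 := by
  sorry

/-- unit CELLS2 (the eight cells `012, 013, 024, 034, 125, 135, 245, 345` with
`(q-1) q^d`, `d = 9, 8, 6, 5, 4, 3, 1, 0`, new elements) -/
theorem cells2 (hb : BarOK bar q)
    (hc : ∀ I : T3, tauT I = I → ∀ l : T3 → K, FixS bar l → l I ≠ 0 →
      (l ∈ Cell I → c l = 1) ∧ (l ∉ Cell I → c l = 0)) :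
    (q ^ 2 - 1) * (q ^ 3 + 1) * (q ^ 5 + 1) ≤
      ∑ l ∈ (Sfix bar).filter (fun l : T3 → K => l ≠ 0), c l := by
  sorry

end C

/-! ## Layer D: the module side -/

section Dm

variable {K : Type*} [Field K] [Fintype K] [DecidableEq K] (bar : K →+* K) (q : ℕ)
  {G : Type*} [Group G] (D : Data2 K G) (ψ : AddChar K ℂ)
  {V : Type*} [AddCommGroup V] [Module ℂ V] [FiniteDimensional ℂ V] (ρ : Representation ℂ G V)
  (φ : U6 bar →* G)

/-! ### unit PROJ2 -/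

theorem eL2_idem (hb : BarOK bar q) (hD : Rel2 bar D) (l : T3 → K) (hl : FixS bar l) :
    eL2 bar D ψ ρ l ∘ₗ eL2 bar D ψ ρ l = eL2 bar D ψ ρ l := by sorry
theorem eL2_orth (hb : BarOK bar q) (hD : Rel2 bar D) (hψ : ∃ a : K, bar a = a ∧ ψ a ≠ 1)
    (l l' : T3 → K) (hl : FixS bar l) (hl' : FixS bar l') (h : l ≠ l') :
    eL2 bar D ψ ρ l ∘ₗ eL2 bar D ψ ρ l' = 0 := by sorry
theorem sum_eL2 (hb : BarOK bar q) (hD : Rel2 bar D) (hψ : ∃ a : K, bar a = a ∧ ψ a ≠ 1) :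
    ∑ l ∈ Sfix bar, eL2 bar D ψ ρ l = (q : ℂ)⁻¹ • ∑ r ∈ Fq bar, ρ (D.Psi r 0) := by sorry
theorem trace_eL2 (l : T3 → K) :
    LinearMap.trace ℂ V (eL2 bar D ψ ρ l) = cM2 bar D ψ ρ.character l := by sorry
theorem eL2_conj (hb : BarOK bar q) (hD : Rel2 bar D) (hφ : PhiOK bar D φ) (g : U6 bar)
    (l : T3 → K) (hl : FixS bar l) :
    ρ (φ g) ∘ₗ eL2 bar D ψ ρ l = eL2 bar D ψ ρ (Mm (g⁻¹).1.1ᵀ *ᵥ l) ∘ₗ ρ (φ g) := by sorry

/-! ### unit TRIVLINE2 (uses BLOCKPERF2: the stabiliser of `e_012` in `U6`,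
`{[A B; 0 A⁻*]}`, `A ∈ SL₃(K)`, is perfect: `SL₃(K)` is, and `[1 B; 0 1]`, `B` hermitian, is a
product of commutators `[diag (A, A⁻*), [1 B'; 0 1]] = [1, A B' A* - B'; 0 1]`) -/

theorem trivline2 (hb : BarOK bar q) (hD : Rel2 bar D) (hψ : ∃ a : K, bar a = a ∧ ψ a ≠ 1)
    (hφ : PhiOK bar D φ) (g g0 : U6 bar) (c' : K) (hc' : bar c' = c') (hc0 : c' ≠ 0) (l : T3 → K)
    (hl : l = Mm g0.1.1 *ᵥ Pi.single I012 c') (hfix : Mm (g⁻¹).1.1ᵀ *ᵥ l = l)
    (h1 : cM2 bar D ψ ρ.character l = 1) :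
    ρ (φ g) ∘ₗ eL2 bar D ψ ρ l = eL2 bar D ψ ρ l := by sorry

/-! ### unit TRACE2 -/

theorem trace_identity2 (hb : BarOK bar q) (hD : Rel2 bar D)
    (hψ : ∃ a : K, bar a = a ∧ ψ a ≠ 1) (hφ : PhiOK bar D φ)
    (hS : ∀ l : T3 → K, FixS bar l → l ≠ 0 → cM2 bar D ψ ρ.character l = 0 ∨
      (cM2 bar D ψ ρ.character l = 1 ∧
        ∃ (g : U6 bar) (c' : K), bar c' = c' ∧ l = Mm g.1.1 *ᵥ Pi.single I012 c'))
    (htriv : ∀ t : K, bar t = t → ρ (D.xd t) ∘ₗ eL2 bar D ψ ρ 0 = eL2 bar D ψ ρ 0) :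
    (q : ℂ) * f902 bar D ρ.character = (q : ℂ) * cM2 bar D ψ ρ.character 0 +
      (q : ℂ) * ∑ l ∈ (Sfix bar).filter (fun l : T3 → K => l ≠ 0), cM2 bar D ψ ρ.character l -
      ((q : ℂ) - 1) * ∑ l ∈ (Sfix bar).filter (fun l : T3 → K => moved2 l),
        cM2 bar D ψ ρ.character l := by sorry

/-! ### unit ISO2 (from `Lib/Helper5/MNUM0.exists_T0`: a hermitian form of non-zero determinant
over `K` is `T† T`) and unit NONTRIV2 (from S2335, perfectness of `SU₆`, Maschke) -/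

theorem iso2 (hb : BarOK bar q) : Nonempty (↥(Cfsg.SU 6 K q) ≃* ↥(U6 bar)) := by sorry

theorem nontriv2 (hb : BarOK bar q) {W : Type*} [AddCommGroup W] [Module ℂ W]
    [FiniteDimensional ℂ W] (ρ' : Representation ℂ ↥(Cfsg.SU 6 K q) W) (h : ∃ g, ρ' g ≠ 1) :
    (q ^ 6 - 1) / (q + 1) ≤ Module.finrank ℂ W := by sorry

/-! ### unit WREP2 (uses ISO2, NONTRIV2, `eL2_conj` with `l = 0`) -/

theorem c0_ge2 (hb : BarOK bar q) (hD : Rel2 bar D) (hφ : PhiOK bar D φ)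
    (hnt : ¬ ∀ t : K, bar t = t → ρ (D.xd t) ∘ₗ eL2 bar D ψ ρ 0 = eL2 bar D ψ ρ 0) :
    ∃ n : ℕ, cM2 bar D ψ ρ.character 0 = n ∧ (q ^ 6 - 1) / (q + 1) ≤ n := by sorry

end Dm

/-! ## Layer E: assembly -/

section E

variable {K : Type*} [Field K] [Fintype K] [DecidableEq K] (bar : K →+* K) (q : ℕ)
  {G : Type*} [Group G] [Finite G] (D : Data2 K G)

/-- unit ASM2: everything abstract put together (`a = 0`: `hfaith`; `a ≥ 2`: arithmetic;
`a = 1`: SUPP2, NEWA2, CELLS2, NPAIR2, NMOV2, RR2, TRACE2 contradict `htriv`, WREP2 gives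
`k ≥ D' - 2`, then `Lib/Helper8/E6M2Div.le_of_pred_le`) -/
theorem e6m2_bound (hb : BarOK bar q) (hD : Rel2 bar D) (φ : U6 bar →* G) (hφ : PhiOK bar D φ)
    {V : Type*} [AddCommGroup V] [Module ℂ V] [FiniteDimensional ℂ V]
    (ρ : Representation ℂ G V) (hirr : ρ.IsIrreducible)
    (hfaith : (∀ r : K, bar r = r → ρ (D.Psi r 0) = 1) → Module.finrank ℂ V ≤ 1)
    (hcard : Nat.gcd 3 (q + 1) * Nat.card G =
      q ^ 36 * (q ^ 2 - 1) * (q ^ 5 + 1) * (q ^ 6 - 1) * (q ^ 8 - 1) * (q ^ 9 + 1) *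
        (q ^ 12 - 1))
    (h2 : 2 ≤ Module.finrank ℂ V) :
    q * (q ^ 6 - q ^ 3 + 1) * (q ^ 4 + 1) ≤ Module.finrank ℂ V := by
  sorry

end E

end Cfsg.Agent.Lib.Helper5.E6M2Stubs
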