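import Mathlib
import Cfsg.Agent.Lib.Helper5.E6MDefs

set_option autoImplicit false

/-!
Farm E6M (S2340): STUBS (statements with `sorry`; nothing may import this file).
Protocol: claim by tip `E6M-CLAIM <unit>`; own file `Lib/<You>/E6M<unit>.lean`, own namespace,
statement VERBATIM (check `example : @Yours.foo = @Cfsg.Agent.Lib.Helper5.E6MStubs.foo := rfl`);
use other units as hypotheses (`_of` form) until they land; tip `E6M-DONE <unit>` with import path.
-/

namespace Cfsg.Agent.Lib.Helper5.E6MStubs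

open Cfsg.Agent.Lib.Helper5.E6M Matrix

/-! ## Layer A: group theory from the relations -/

section A

variable {F : Type*} [Field F] {G : Type*} [Group G] (D : Data F G)

/-- unit REL: the multiplication of `Q` from the pairwise relations (move `x_J(s'_J)`, `J ∋ 0`,
to the left past `x_{Jᶜ}(s_{Jᶜ})`; everything else commutes) -/
theorem rel_of_rel0 (h0 : Rel0 D) :
    (∀ (r : F) (s : T3 → F) (r' : F) (s' : T3 → F),
      Phi D r s * Phi D r' s' = Phi D (r + r' + bil s s') (s + s')) ∧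
    (∀ r, D.z r = Phi D r 0) ∧ (∀ I a, D.xI I a = Phi D 0 (Pi.single I a)) := by
  sorry

variable (hD : Rel D)

/-! ### unit QL: consequences of `qlaw` -/

include hD in
theorem Phi_zero : Phi D 0 0 = 1 := by sorry
include hD in
theorem z_mul_Phi (r r' : F) (s : T3 → F) : D.z r * Phi D r' s = Phi D (r + r') s := by sorry
include hD in
theorem Phi_inv (r : F) (s : T3 → F) : (Phi D r s)⁻¹ = Phi D (-r + bil s s) (-s) := by sorry
include hD in
theorem Phi_ext1_mul (r r' : F) (v v' : S1 → F) :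
    Phi D r (ext1 v) * Phi D r' (ext1 v') = Phi D (r + r') (ext1 (v + v')) := by sorry
include hD in
theorem xI_conj_ext1 (J : T3) (hJ : (0 : Fin 6) ∉ J.1) (S r : F) (v : S1 → F) :
    D.xI J S * Phi D r (ext1 v) * (D.xI J S)⁻¹ =
      Phi D (r + ((J.omega : ℤ) : F) * S * ext1 v J.compl) (ext1 v) := by sorry
include hD in
theorem h_conj_ext1 (c : Fˣ) (r : F) (v : S1 → F) :
    D.h c * Phi D r (ext1 v) * (D.h c)⁻¹ =
      Phi D (c * r) (ext1 fun I => ((c ^ hexp I.1 : Fˣ) : F) * v I) := by sorry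
include hD in
/-- a product of `Phi`s is a `Phi` with the sum of the `s`-parts -/
theorem Phi_list_prod (l : List (F × (T3 → F))) :
    ∃ c : F, (l.map fun p => Phi D p.1 p.2).prod = Phi D c (l.map Prod.snd).sum := by sorry
include hD in
theorem n1_conj_pair : ∃ e e' : F, e ≠ 0 ∧ e' ≠ 0 ∧ ∀ r t : F,
    D.n1 * (D.z r * D.xij p03 t) * D.n1⁻¹ = D.xI I012 (e * r) * D.xI I045 (e' * t) := by sorry

/-! ### unit GEN: induction on `SL_n` over a finite field from S2401 -/

theorem sl_induction {K : Type*} [Field K] [Finite K] (n : ℕ) (hn : 3 ≤ n)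
    (P : Matrix.SpecialLinearGroup (Fin n) K → Prop) (h1 : P 1)
    (hstep : ∀ (i j : Fin n) (hij : i ≠ j) (t : K) (g : Matrix.SpecialLinearGroup (Fin n) K),
      P g → P (⟨Matrix.transvection i j t, Matrix.det_transvection_of_ne _ _ hij t⟩ * g)) :
    ∀ g, P g := by
  sorry

/-! ### unit PHI: the homomorphism `SL₆(F) → G` from S2401 and the Steinberg relations -/

include hD in
theorem exists_phi [Finite F] : ∃ φ : SL6 F →* G, ∀ (p : IJ) (t : F), φ (tv p t) = D.xij p t := by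
  sorry

/-! ### unit MHOM: the minors matrix is multiplicative on `SL₆` (by GEN; the step is
row-multilinearity of `det`) -/

theorem Mm_one : Mm (1 : Matrix (Fin 6) (Fin 6) F) = 1 := by sorry
theorem Mm_transpose (g : Matrix (Fin 6) (Fin 6) F) : Mm gᵀ = (Mm g)ᵀ := by sorry
theorem Mm_tv_mul (p : IJ) (t : F) (g : Matrix (Fin 6) (Fin 6) F) :
    Mm ((tv p t).1 * g) = Mm (tv p t).1 * Mm g := by sorry
theorem Mm_mul [Finite F] (g g' : SL6 F) : Mm (g * g').1 = Mm g.1 * Mm g'.1 := by sorry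
/-- the Plücker vector is equivariant (same proof) -/
theorem pl_mul [Finite F] (g : SL6 F) (C : Matrix (Fin 6) (Fin 3) F) :
    pl (g.1 * C) = Mm g.1 *ᵥ pl C := by sorry
/-- the columns of `Mm g` are Plücker vectors -/
theorem Mm_mulVec_single (g : Matrix (Fin 6) (Fin 6) F) (I : T3) (a : F) :
    Mm g *ᵥ Pi.single I a = a • pl (g.submatrix id I.emb) := by sorry

/-! ### unit LING: `φ g` normalises `Q` and acts on `Q/Z` by `Mm g` -/

include hD in
theorem phi_conj_Phi [Finite F] (φ : SL6 F →* G) (hφ : ∀ (p : IJ) (t : F), φ (tv p t) = D.xij p t)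
    (g : SL6 F) (s : T3 → F) :
    ∃ c : F, ∀ r : F, φ g * Phi D r s * (φ g)⁻¹ = Phi D (r + c) (Mm g.1 *ᵥ s) := by
  sorry

end A

/-! ## Layer B: character sums (`χ` a class function / the character of `ρ`) -/

section B

variable {F : Type*} [Field F] [Fintype F] [DecidableEq F] {G : Type*} [Group G] (D : Data F G)
  (hD : Rel D) (ψ : AddChar F ℂ) (hψ : ψ ≠ 1)

/-! ### unit H (Landazuri–Seitz part; TDM H1-H3 pattern on the abelian group `Z ∏_{0 ∈ I} X_I`):
`∑_{l,n} aM = χ 1`; `aM l n = aM l 0 = aM 1 0` for `l ≠ 0` (`xI_conj_ext1`, `h_conj_ext1`);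
partial sums over `n` with `n_012 = 0` (and `n_045 = 0`) give `f1`, `f2`; the `l = 0` parts are
`ZS`. -/

include hD hψ in
theorem heis {V : Type*} [AddCommGroup V] [Module ℂ V] [FiniteDimensional ℂ V]
    (ρ : Representation ℂ G V) :
    ∃ a : ℕ, (Module.finrank ℂ V : ℂ) = fZ D ρ.character +
        ((Fintype.card F : ℂ) - 1) * (Fintype.card F : ℂ) ^ 10 * a ∧
      f1 D ρ.character = ZS D ρ.character {I012} +
        ((Fintype.card F : ℂ) - 1) * (Fintype.card F : ℂ) ^ 9 * a ∧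
      f2 D ρ.character = ZS D ρ.character {I012, I045} +
        ((Fintype.card F : ℂ) - 1) * (Fintype.card F : ℂ) ^ 8 * a := by
  sorry

/-! ### unit C1: the multiplicities `cM` -/

include hD in
theorem cM_nat {V : Type*} [AddCommGroup V] [Module ℂ V] [FiniteDimensional ℂ V]
    (ρ : Representation ℂ G V) (l : T3 → F) : ∃ n : ℕ, cM D ψ ρ.character l = n := by
  sorry

include hD hψ in
/-- Fourier inversion: summing `cM` over the characters trivial on `∏_{I ∈ S} X_I` -/
theorem sum_cM_vanish (χ : G → ℂ) (S : Finset T3) :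
    ∑ l ∈ Finset.univ.filter (fun l : T3 → F => ∀ I ∈ S, l I = 0), cM D ψ χ l = ZS D χ S := by
  sorry

include hD in
theorem ZS_empty (χ : G → ℂ) : ZS D χ ∅ = fZ D χ := by sorry

/-! ### unit CONJ: the Weyl element -/

include hD in
theorem fZ_eq_f1 (χ : G → ℂ) (hχ : ∀ x y, χ (x * y * x⁻¹) = χ y) : fZ D χ = f1 D χ := by sorry
include hD in
theorem f90_eq_f2 (χ : G → ℂ) (hχ : ∀ x y, χ (x * y * x⁻¹) = χ y) : f90 D χ = f2 D χ := by sorry

/-! ### unit INV: `cM` is `SL₆`-invariant -/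

include hD in
theorem cM_inv (χ : G → ℂ) (hχ : ∀ x y, χ (x * y * x⁻¹) = χ y) (φ : SL6 F →* G)
    (hφ : ∀ (p : IJ) (t : F), φ (tv p t) = D.xij p t) (g : SL6 F) (l : T3 → F) :
    cM D ψ χ (Mm g.1 *ᵥ l) = cM D ψ χ l := by
  sorry

/-! ### unit RR: the two relations -/

include hD hψ in
theorem char_side {V : Type*} [AddCommGroup V] [Module ℂ V] [FiniteDimensional ℂ V]
    (ρ : Representation ℂ G V) :
    ∃ a : ℕ, (Module.finrank ℂ V : ℂ) = fZ D ρ.character +
        ((Fintype.card F : ℂ) - 1) * (Fintype.card F : ℂ) ^ 10 * a ∧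
      fZ D ρ.character = ∑ l : T3 → F, cM D ψ ρ.character l ∧
      ∑ l ∈ Finset.univ.filter (fun l : T3 → F => l I012 ≠ 0), cM D ψ ρ.character l =
        ((Fintype.card F : ℂ) - 1) * (Fintype.card F : ℂ) ^ 9 * a ∧
      f90 D ρ.character = ((Fintype.card F : ℂ) - 1) * (Fintype.card F : ℂ) ^ 8 * a +
        ∑ l ∈ Finset.univ.filter (fun l : T3 → F => l I012 = 0 ∧ l I045 = 0),
          cM D ψ ρ.character l := by
  sorry

end B

/-! ## Layer C: combinatorics of `Λ³F⁶` (no group `G`) -/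

section C

variable {F : Type*} [Field F] [Fintype F] [DecidableEq F]

/-- unit CELLCARD -/
theorem cell_coord (I : T3) (A : Matrix (Fin 3) (Fin 3) F) : pl (cellMat I A) I = 1 := by sorry

theorem cell_card (I : T3) : Nat.card (Cell (F := F) I) = (Fintype.card F - 1) * Fintype.card F ^ 9 := by
  sorry

/-- unit CELLORBIT: the elements of the cells are in the `SL₆`-orbit of the multiples of `e_012` -/
theorem cell_orbit (I : T3) (A : Matrix (Fin 3) (Fin 3) F) (c : F) :
    ∃ g : SL6 F, c • pl (cellMat I A) = Mm g.1 *ᵥ Pi.single I012 c := by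
  sorry

variable (c : (T3 → F) → ℕ) (hinv : ∀ (g : SL6 F) (l : T3 → F), c (Mm g.1 *ᵥ l) = c l)

include hinv in
/-- unit SUPP (the shape argument) -/
theorem supp
    (hsum : ∑ l ∈ Finset.univ.filter (fun l : T3 → F => l I012 ≠ 0), c l =
      (Fintype.card F - 1) * Fintype.card F ^ 9) :
    ∀ (I : T3) (l : T3 → F), l I ≠ 0 → (l ∈ Cell I → c l = 1) ∧ (l ∉ Cell I → c l = 0) := by
  sorry

/-- unit NPAIR -/
theorem npair : Nat.card {l : T3 → F // l ∈ Cell I012 ∧ l I045 ≠ 0} =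
    (Fintype.card F - 1) * Fintype.card F ^ 5 *
      ((Fintype.card F ^ 2 - 1) * (Fintype.card F ^ 2 - Fintype.card F)) := by
  sorry

/-- unit NMOV (six chain steps `012, 014, 015, 024, 025, 045`) -/
theorem nmov
    (hc : ∀ (I : T3) (l : T3 → F), l I ≠ 0 → (l ∈ Cell I → c l = 1) ∧ (l ∉ Cell I → c l = 0)) :
    ∑ l ∈ Finset.univ.filter (fun l : T3 → F => moved l), c l =
      (Fintype.card F - 1) * (Fintype.card F ^ 9 + Fintype.card F ^ 8 + 2 * Fintype.card F ^ 7 +
        Fintype.card F ^ 6 + Fintype.card F ^ 5) := by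
  sorry

/-- unit CELLS (the twenty echelon cells) -/
theorem cells
    (hc : ∀ (I : T3) (l : T3 → F), l I ≠ 0 → (l ∈ Cell I → c l = 1) ∧ (l ∉ Cell I → c l = 0)) :
    (Fintype.card F ^ 3 + 1) * (Fintype.card F ^ 2 + 1) * (Fintype.card F ^ 5 - 1) ≤
      ∑ l ∈ Finset.univ.filter (fun l : T3 → F => l ≠ 0), c l := by
  sorry

end C

/-! ## Layer D: the module side -/

section Dm

variable {F : Type*} [Field F] [Fintype F] [DecidableEq F] {G : Type*} [Group G] (D : Data F G)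
  (hD : Rel D) (ψ : AddChar F ℂ) (hψ : ψ ≠ 1)
  {V : Type*} [AddCommGroup V] [Module ℂ V] [FiniteDimensional ℂ V] (ρ : Representation ℂ G V)
  (φ : SL6 F →* G) (hφ : ∀ (p : IJ) (t : F), φ (tv p t) = D.xij p t)

/-! ### unit PROJ -/

include hD in
theorem eL_idem (l : T3 → F) : eL D ψ ρ l ∘ₗ eL D ψ ρ l = eL D ψ ρ l := by sorry
include hD hψ in
theorem eL_orth (l l' : T3 → F) (h : l ≠ l') : eL D ψ ρ l ∘ₗ eL D ψ ρ l' = 0 := by sorry
include hD hψ in
theorem sum_eL : ∑ l : T3 → F, eL D ψ ρ l = (Fintype.card F : ℂ)⁻¹ • ∑ r : F, ρ (D.z r) := by sorry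
theorem trace_eL (l : T3 → F) : LinearMap.trace ℂ V (eL D ψ ρ l) = cM D ψ ρ.character l := by sorry
include hD hφ in
theorem eL_conj (g : SL6 F) (l : T3 → F) :
    ρ (φ g) ∘ₗ eL D ψ ρ l = eL D ψ ρ (Mm (g⁻¹).1ᵀ *ᵥ l) ∘ₗ ρ (φ g) := by sorry

/-! ### unit TRIVLINE (uses BLOCKPERF) -/

include hD hψ hφ in
theorem trivline (g g0 : SL6 F) (c : F) (l : T3 → F) (hl : l = Mm g0.1 *ᵥ Pi.single I012 c)
    (hfix : Mm (g⁻¹).1ᵀ *ᵥ l = l) (h1 : cM D ψ ρ.character l = 1) :
    ρ (φ g) ∘ₗ eL D ψ ρ l = eL D ψ ρ l := by sorry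

/-! ### unit TRACE -/

include hD hψ hφ in
theorem trace_identity
    (hS : ∀ l : T3 → F, l ≠ 0 → cM D ψ ρ.character l = 0 ∨ (cM D ψ ρ.character l = 1 ∧
      ∃ (g : SL6 F) (c : F), l = Mm g.1 *ᵥ Pi.single I012 c))
    (htriv : ∀ t : F, ρ (D.xij p03 t) ∘ₗ eL D ψ ρ 0 = eL D ψ ρ 0) :
    (Fintype.card F : ℂ) * f90 D ρ.character = (Fintype.card F : ℂ) * cM D ψ ρ.character 0 +
      (Fintype.card F : ℂ) * ∑ l ∈ Finset.univ.filter (fun l : T3 → F => l ≠ 0),
        cM D ψ ρ.character l -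
      ((Fintype.card F : ℂ) - 1) * ∑ l ∈ Finset.univ.filter (fun l : T3 → F => moved l),
        cM D ψ ρ.character l := by sorry

/-! ### unit WREP (uses NONTRIV) -/

include hD hφ in
theorem c0_ge
    (hnt : ¬ ∀ t : F, ρ (D.xij p03 t) ∘ₗ eL D ψ ρ 0 = eL D ψ ρ 0) :
    ∃ n : ℕ, cM D ψ ρ.character 0 = n ∧
      (Fintype.card F ^ 6 - Fintype.card F) / (Fintype.card F - 1) ≤ n := by sorry

end Dm

/-! ## Layer E: assembly -/

section E

variable {F : Type*} [Field F] [Fintype F] [DecidableEq F] {G : Type*} [Group G] [Finite G]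
  (D : Data F G) (hD : Rel D)

include hD in
/-- unit ASM: everything abstract put together -/
theorem e6m_bound {V : Type*} [AddCommGroup V] [Module ℂ V] [FiniteDimensional ℂ V]
    (ρ : Representation ℂ G V) (hirr : ρ.IsIrreducible)
    (hfaith : (∀ r : F, ρ (D.z r) = 1) → Module.finrank ℂ V ≤ 1)
    (hcard : Nat.gcd 3 (Fintype.card F - 1) * Nat.card G =
      Fintype.card F ^ 36 * (Fintype.card F ^ 2 - 1) * (Fintype.card F ^ 5 - 1) *
        (Fintype.card F ^ 6 - 1) * (Fintype.card F ^ 8 - 1) * (Fintype.card F ^ 9 - 1) *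
        (Fintype.card F ^ 12 - 1))
    (h2 : 2 ≤ Module.finrank ℂ V) :
    Fintype.card F * (Fintype.card F ^ 6 + Fintype.card F ^ 3 + 1) * (Fintype.card F ^ 4 + 1) ≤
      Module.finrank ℂ V := by
  sorry

end E

end Cfsg.Agent.Lib.Helper5.E6MStubs
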