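import Mathlib
import Cfsg.Agent.Lib.Helper5.E6MDefs2

set_option autoImplicit false

/-!
Farm E6M (S2340): two more STUBS (with `sorry`; nothing may import this file).
-/

namespace Cfsg.Agent.Lib.Helper5.E6MStubs2

open Cfsg.Agent.Lib.Helper5.E6M Matrix

variable {F : Type*} [Field F] {G : Type*} [Group G]

/-- unit MTV: the minors of an elementary matrix (checked by brute force for all `p`, `I`) -/
theorem Mm_transvection_single (p : IJ) (t : F) (I : T3) (a : F) :
    Mm (Matrix.transvection p.1.1 p.1.2 t) *ᵥ Pi.single I a =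
      Pi.single I a + (if p.1.2 ∈ I.1 ∧ p.1.1 ∉ I.1 then
        Pi.single (repl I p.1.1 p.1.2) (((rsgn I p.1.1 p.1.2 : ℤ) : F) * t * a) else 0) := by
  sorry

/-- unit RELFULL: `Rel` from the concrete relations `Rel1` (uses REL `rel_of_rel0` for
`qlaw`, `z_eq`, `xI_eq`, and MTV for `xij_xI`; the two factors `xI I a`, `xI (repl ..) b` are
`Phi 0 (single ..)` and multiply by `qlaw` with `bil = 0` because `repl I i j ≠ Iᶜ`) -/
theorem rel_of_rel1 (D : Data F G) (h1 : Rel1 D) : Rel D := by
  sorry

end Cfsg.Agent.Lib.Helper5.E6MStubs2
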