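import Mathlib
import Cfsg.Agent.Lib.Helper8.E8CoreDefs
import Cfsg.Agent.Lib.Helper5.ChevLevi
import Cfsg.Agent.Lib.Helper5.FieldFix.PosList

set_option autoImplicit false

/-!
# Farm E8CORE (S5751), unit PSI: the elements of the unipotent radical of the maximal parabolic
subgroup are ordered products of root elements of level at least one
-/

namespace Cfsg.Agent.Lib.Helper5.E8Core

open Cfsg Cfsg.Lie Cfsg.Agent.Lib.Helper5.ChevStruct Cfsg.Agent.Lib.Helper5.ChevSym
  Cfsg.Agent.Lib.Helper8.E8Core Cfsg.Agent.Lib.Helper5.FieldFix

/-- the positive roots of level at least one, in increasing order -/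
def radL : List ℕ := (posL chevE8).filter fun r => decide (1 ≤ lev r)

set_option maxRecDepth 1000000 in
theorem radL_good : checkGoodList chevE8 radL = true := by decide +kernel

theorem radL_nodup : radL.Nodup := (posL_nodup chevE8).filter _

set_option maxRecDepth 1000000 in
theorem lev_nonneg_posL : ∀ r ∈ posL chevE8, 0 ≤ lev r := by decide +kernel

set_option maxRecDepth 1000000 in
theorem posRoots_eq_posL : chevE8.posRoots = posL chevE8 := by decide +kernel

theorem mem_radL (r : ℕ) : r ∈ radL ↔ chevE8.IsPosRoot r ∧ 1 ≤ lev r := by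
  unfold radL
  rw [List.mem_filter, mem_posL chevE8 hE8, decide_eq_true_eq]

theorem inRootSub_JN (r : ℕ) (hr : r < chevE8.nroots) :
    chevE8.InRootSub JN r ↔ lev r = 0 := by
  unfold ChevalleyDatum.InRootSub
  constructor
  · rintro ⟨-, h⟩
    exact h node node_lt (fun hn => hn rfl)
  · intro h
    refine ⟨hr, fun i _ hi => ?_⟩
    have : i = node := by
      by_contra hne
      exact hi hne
    rw [this]
    exact h

theorem radL_set : {s | s ∈ radL} = radSet chevE8 JN := by
  ext r
  simp only [Set.mem_ofPred_eq, mem_radL, radSet]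
  constructor
  · rintro ⟨hp, h1⟩
    refine ⟨hp, fun h => ?_⟩
    rw [inRootSub_JN r hp.1] at h
    omega
  · rintro ⟨hp, h1⟩
    refine ⟨hp, ?_⟩
    rw [inRootSub_JN r hp.1] at h1
    have := lev_nonneg_posL r ((mem_posL chevE8 hE8 r).2 hp)
    omega

/-- trivial factors may be inserted -/
theorem prodL_filter {F : Type*} [Field F] (D : ChevalleyDatum) (hD : D ∈ Seven) (p : ℕ → Bool)
    (L : List ℕ) (t : ℕ → F) (h : ∀ r ∈ L, p r = false → t r = 0) :
    prodL D hD (L.filter p) t = prodL D hD L t := by
  induction L with
  | nil => rfl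
  | cons k L ih =>
    have ih' := ih fun r hr => h r (List.mem_cons_of_mem _ hr)
    rw [List.filter_cons]
    by_cases hk : p k = true
    · rw [if_pos hk, prodL_cons, prodL_cons, ih']
    · rw [if_neg hk, prodL_cons, ih']
      have : t k = 0 := h k List.mem_cons_self (by simpa using hk)
      have e : xGL D hD k (0 : F) = 1 := by
        apply Units.ext
        rw [xGL_val, x_at_zero, Units.val_one]
      rw [this, e, one_mul]

/-- the ordered product over the positive roots, with trivial factors inserted -/
theorem prodL_radL_eq (t : ℕ → F2) [DecidablePred fun r => r ∈ radL] :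
    prodL chevE8 hE8 radL t
      = prodL chevE8 hE8 (posL chevE8) (fun r => if r ∈ radL then t r else 0) := by
  have e1 : prodL chevE8 hE8 radL t
      = prodL chevE8 hE8 radL (fun r => if r ∈ radL then t r else 0) :=
    prodL_congr chevE8 hE8 radL _ _ fun r hr => by simp only [if_pos hr]
  rw [e1]
  have e2 := prodL_filter (F := F2) chevE8 hE8 (fun r => decide (1 ≤ lev r)) (posL chevE8)
    (fun r => if r ∈ radL then t r else 0) (by
      intro r hr hp
      have : r ∉ radL := by
        intro h
        have h' : r ∈ (posL chevE8).filter fun r => decide (1 ≤ lev r) := h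
        rw [List.mem_filter] at h'
        rw [h'.2] at hp
        exact Bool.noConfusion hp
      exact if_neg this)
  exact e2

/-- Unit PSI -/
theorem PSI_QQ_zero (y : GL chevE8.Idx F2) (hy : y ∈ chevE8.unipotentRadical F2 JN) :
    QQ 0 y := by
  classical
  rw [unipotentRadical_eq_rootSetSub, ← radL_set] at hy
  obtain ⟨t, ht⟩ := exists_prodL chevE8 hE8 radL radL_good radL_nodup y hy
  refine ⟨fun r => if r ∈ radL then t r else 0, ?_, ?_, ?_⟩
  · intro r hr
    have : r ∉ radL := fun h => hr ((mem_radL r).1 h).1
    simp only [if_neg this]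
  · intro r hr
    have : r ∉ radL := fun h => by
      have := ((mem_radL r).1 h).2
      omega
    simp only [if_neg this]
  · have h1 : y = prodL chevE8 hE8 (posL chevE8) (fun r => if r ∈ radL then t r else 0) :=
      ht.trans (prodL_radL_eq t)
    have h2 : (y : Matrix chevE8.Idx chevE8.Idx F2)
        = chevE8.wordMat F2 ((posL chevE8).map fun r => (r, if r ∈ radL then t r else 0)) := by
      rw [← wordGL_val chevE8 hE8]
      exact congrArg (fun g : GL chevE8.Idx F2 => (g : Matrix chevE8.Idx chevE8.Idx F2)) h1
    have h3 : chevE8.posRoots = posL chevE8 := posRoots_eq_posL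
    exact h3 ▸ h2

end Cfsg.Agent.Lib.Helper5.E8Core
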