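import Mathlib
import Cfsg.Agent.Lib.Helper2.Emb3A

/-! # The model group `3^3 : 2^2 ≤ Sym(9)` for S3701 (finite checks) -/

set_option autoImplicit false

namespace Cfsg.Agent.Lib.Helper5.Emb3Loc

open Cfsg.Agent.Lib.Helper2.Emb3

/-- the three `3`-cycles and the two involutions generating the model group -/
def c1 : Equiv.Perm (Fin 9) := Equiv.swap (0 : Fin 9) 1 * Equiv.swap 1 2
def c2 : Equiv.Perm (Fin 9) := Equiv.swap (3 : Fin 9) 4 * Equiv.swap 4 5
def c3 : Equiv.Perm (Fin 9) := Equiv.swap (6 : Fin 9) 7 * Equiv.swap 7 8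
def i1 : Equiv.Perm (Fin 9) := Equiv.swap (0 : Fin 9) 1 * Equiv.swap 3 4
def i2 : Equiv.Perm (Fin 9) := Equiv.swap (0 : Fin 9) 1 * Equiv.swap 6 7

/-- `phi` in the model -/
def mphi (v : V) : Equiv.Perm (Fin 9) := phi c1 c2 c3 v

/-- `eps` in the model -/
def meps (m : Fin 4) : Equiv.Perm (Fin 9) := eps (i1 * i2) i2 i1 m

set_option maxRecDepth 100000 in
lemma m_mul : ∀ u v : V, mphi (u + v) = mphi u * mphi v := by decide +kernel

set_option maxRecDepth 100000 in
lemma m_conj : ∀ (m : Fin 4) (v : V), meps m * mphi v * (meps m)⁻¹ = mphi (sg m v) := by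
  decide +kernel

set_option maxRecDepth 100000 in
lemma m_unique : ∀ (v : V) (m : Fin 4), mphi v * meps m = 1 → v = 0 ∧ m = 0 := by
  decide +kernel

set_option maxRecDepth 100000 in
lemma m_pow : ∀ (v : V) (m : Fin 4), (mphi v * meps m) ^ 27 = 1 → m = 0 := by
  decide +kernel

set_option maxRecDepth 100000 in
lemma m_eps_mul : ∀ m m' : Fin 4, ∃ m'' : Fin 4, meps m * meps m' = meps m'' := by
  decide +kernel

set_option maxRecDepth 100000 in
lemma m_eps_inv : ∀ m : Fin 4, (meps m)⁻¹ = meps m := by decide +kernel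

set_option maxRecDepth 100000 in
lemma m_inj : ∀ u v : V, mphi u = mphi v → u = v := by decide +kernel

lemma m_zero : mphi 0 = 1 := by decide +kernel

lemma m_eps_zero : meps 0 = 1 := by decide +kernel

lemma m_c1 : c1 = mphi (1, 0, 0) * meps 0 := by decide +kernel
lemma m_c2 : c2 = mphi (0, 1, 0) * meps 0 := by decide +kernel
lemma m_c3 : c3 = mphi (0, 0, 1) * meps 0 := by decide +kernel
lemma m_i1 : i1 = mphi 0 * meps 3 := by decide +kernel
lemma m_i2 : i2 = mphi 0 * meps 2 := by decide +kernel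

end Cfsg.Agent.Lib.Helper5.Emb3Loc
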