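import Mathlib
import Cfsg.Agent.Lib.Helper2.Emb3A
import Cfsg.Agent.Lib.Helper5.Emb3Model

/-! # Local structure of a strongly `3`-embedded `3^3 : 2^2` (farm-out piece of S3701) -/

set_option autoImplicit false

namespace Cfsg.Agent.Lib.Helper5.Emb3Loc

open Cfsg.Agent.Lib.Helper2.Emb3

section hom

variable {A B : Type*} [Group A] [Group B]

lemma map_phi (f : A →* B) (x y z : A) (v : V) :
    f (phi x y z v) = phi (f x) (f y) (f z) v := by
  simp only [phi, map_mul, map_pow]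

lemma map_eps (f : A →* B) (p q r : A) (m : Fin 4) :
    f (eps p q r m) = eps (f p) (f q) (f r) m := by
  unfold eps
  split_ifs <;> simp

end hom

lemma m_eps_sq (m : Fin 4) : meps m * meps m = 1 :=
  mul_eq_one_iff_eq_inv.mpr (m_eps_inv m).symm

/-- the subgroup of all normal forms `mphi v * meps m` -/
def formSub : Subgroup (Equiv.Perm (Fin 9)) where
  carrier := {x | ∃ (v : V) (m : Fin 4), x = mphi v * meps m}
  one_mem' := ⟨0, 0, by rw [m_zero, m_eps_zero, one_mul]⟩
  mul_mem' := by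
    rintro _ _ ⟨u, m, rfl⟩ ⟨v, m', rfl⟩
    obtain ⟨m'', hm''⟩ := m_eps_mul m m'
    refine ⟨u + sg m v, m'', ?_⟩
    rw [m_mul, ← m_conj, ← hm'']
    group
  inv_mem' := by
    rintro _ ⟨v, m, rfl⟩
    refine ⟨sg m (-v), m, ?_⟩
    have h1 : mphi v * mphi (-v) = 1 := by rw [← m_mul, add_neg_cancel, m_zero]
    have h2 : (mphi v)⁻¹ = mphi (-v) := inv_eq_of_mul_eq_one_right h1
    have hc := m_conj m (-v)
    rw [← hc, mul_inv_rev, h2, inv_mul_cancel_right, m_eps_inv]

lemma closure_le_formSub :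
    Subgroup.closure ({Equiv.swap (0 : Fin 9) 1 * Equiv.swap 1 2,
      Equiv.swap (3 : Fin 9) 4 * Equiv.swap 4 5, Equiv.swap (6 : Fin 9) 7 * Equiv.swap 7 8,
      Equiv.swap (0 : Fin 9) 1 * Equiv.swap 3 4, Equiv.swap (0 : Fin 9) 1 * Equiv.swap 6 7} :
        Set (Equiv.Perm (Fin 9))) ≤ formSub := by
  rw [Subgroup.closure_le]
  intro x hx
  simp only [Set.mem_insert_iff, Set.mem_singleton_iff] at hx
  rcases hx with rfl | rfl | rfl | rfl | rfl
  · exact ⟨(1, 0, 0), 0, m_c1⟩
  · exact ⟨(0, 1, 0), 0, m_c2⟩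
  · exact ⟨(0, 0, 1), 0, m_c3⟩
  · exact ⟨0, 3, m_i1⟩
  · exact ⟨0, 2, m_i2⟩

theorem exists_loc {G : Type*} [Group G] [Finite G] (H : Subgroup G)
    (hH : Nonempty (↥H ≃* ↥(Subgroup.closure ({Equiv.swap (0 : Fin 9) 1 * Equiv.swap 1 2,
        Equiv.swap (3 : Fin 9) 4 * Equiv.swap 4 5, Equiv.swap (6 : Fin 9) 7 * Equiv.swap 7 8,
        Equiv.swap (0 : Fin 9) 1 * Equiv.swap 3 4, Equiv.swap (0 : Fin 9) 1 * Equiv.swap 6 7} :
          Set (Equiv.Perm (Fin 9))))))
    (T : Subgroup G) (hTH : T ≤ H) (hT : Nat.card T = 27)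
    (hN : Subgroup.normalizer (T : Set G) = H)
    (hC : ∀ t ∈ T, t ≠ 1 → Subgroup.centralizer ({t} : Set G) ≤ H) :
    ∃ (P : Sylow 3 G) (a₁ a₂ a₃ e₁ e₂ e₃ : G), (P : Subgroup G) = T ∧ Nat.card H = 108 ∧
      Cfsg.Agent.Lib.Helper2.Emb3.Loc P a₁ a₂ a₃ e₁ e₂ e₃ := by
  classical
  obtain ⟨e⟩ := hH
  -- abbreviations
  set M : Subgroup (Equiv.Perm (Fin 9)) := Subgroup.closure
    ({Equiv.swap (0 : Fin 9) 1 * Equiv.swap 1 2,
      Equiv.swap (3 : Fin 9) 4 * Equiv.swap 4 5, Equiv.swap (6 : Fin 9) 7 * Equiv.swap 7 8,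
      Equiv.swap (0 : Fin 9) 1 * Equiv.swap 3 4, Equiv.swap (0 : Fin 9) 1 * Equiv.swap 6 7} :
        Set (Equiv.Perm (Fin 9))) with hM
  have hc1 : c1 ∈ M := Subgroup.subset_closure (by simp [c1])
  have hc2 : c2 ∈ M := Subgroup.subset_closure (by simp [c2])
  have hc3 : c3 ∈ M := Subgroup.subset_closure (by simp [c3])
  have hi1 : i1 ∈ M := Subgroup.subset_closure (by simp [i1])
  have hi2 : i2 ∈ M := Subgroup.subset_closure (by simp [i2])
  -- the embedding of the model into G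
  let j : ↥M →* G := H.subtype.comp e.symm.toMonoidHom
  have hj : Function.Injective j := by
    intro x y hxy
    have : (e.symm x : G) = (e.symm y : G) := hxy
    exact e.symm.injective (Subtype.ext this)
  have hjH : ∀ x : ↥M, j x ∈ H := fun x => (e.symm x).2
  have hjsurj : ∀ h ∈ H, ∃ x : ↥M, j x = h := by
    intro h hh
    refine ⟨e ⟨h, hh⟩, ?_⟩
    show ((e.symm (e ⟨h, hh⟩) : ↥H) : G) = h
    rw [MulEquiv.symm_apply_apply]
  -- model elements in M
  let A1 : ↥M := ⟨c1, hc1⟩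
  let A2 : ↥M := ⟨c2, hc2⟩
  let A3 : ↥M := ⟨c3, hc3⟩
  let I1 : ↥M := ⟨i1, hi1⟩
  let I2 : ↥M := ⟨i2, hi2⟩
  have coe_phi : ∀ v : V, ((phi A1 A2 A3 v : ↥M) : Equiv.Perm (Fin 9)) = mphi v := by
    intro v
    have := map_phi M.subtype A1 A2 A3 v
    exact this
  have coe_eps : ∀ m : Fin 4, ((eps (I1 * I2) I2 I1 m : ↥M) : Equiv.Perm (Fin 9)) = meps m := by
    intro m
    have := map_eps M.subtype (I1 * I2) I2 I1 m
    exact this
  -- every element of M is a normal form
  have hform : ∀ x : ↥M, ∃ (v : V) (m : Fin 4), x = phi A1 A2 A3 v * eps (I1 * I2) I2 I1 m := by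
    intro x
    obtain ⟨v, m, hvm⟩ := closure_le_formSub x.2
    refine ⟨v, m, Subtype.ext ?_⟩
    rw [Subgroup.coe_mul, coe_phi, coe_eps]
    exact hvm
  -- the elements of G
  set a₁ : G := j A1 with ha₁
  set a₂ : G := j A2 with ha₂
  set a₃ : G := j A3 with ha₃
  set e₃ : G := j I1 with he₃
  set e₂ : G := j I2 with he₂
  set e₁ : G := e₃ * e₂ with he₁
  have jphi : ∀ v : V, j (phi A1 A2 A3 v) = phi a₁ a₂ a₃ v := fun v => map_phi j A1 A2 A3 v
  have jeps : ∀ m : Fin 4, j (eps (I1 * I2) I2 I1 m) = eps e₁ e₂ e₃ m := by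
    intro m
    have := map_eps j (I1 * I2) I2 I1 m
    rw [map_mul] at this
    exact this
  -- transported identities
  have hmul : ∀ u v : V, phi a₁ a₂ a₃ (u + v) = phi a₁ a₂ a₃ u * phi a₁ a₂ a₃ v := by
    intro u v
    rw [← jphi, ← jphi, ← jphi, ← map_mul]
    congr 1
    apply Subtype.ext
    rw [Subgroup.coe_mul, coe_phi, coe_phi, coe_phi]
    exact m_mul u v
  have hinj : Function.Injective (phi a₁ a₂ a₃) := by
    intro u v huv
    rw [← jphi, ← jphi] at huv
    have h1 := hj huv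
    have h2 : mphi u = mphi v := by rw [← coe_phi, ← coe_phi, h1]
    exact m_inj u v h2
  have hconj : ∀ (m : Fin 4) (v : V),
      eps e₁ e₂ e₃ m * phi a₁ a₂ a₃ v * (eps e₁ e₂ e₃ m)⁻¹ = phi a₁ a₂ a₃ (sg m v) := by
    intro m v
    rw [← jphi, ← jphi, ← jeps, ← map_inv, ← map_mul, ← map_mul]
    congr 1
    apply Subtype.ext
    rw [Subgroup.coe_mul, Subgroup.coe_mul, Subgroup.coe_inv, coe_phi, coe_phi, coe_eps]
    exact m_conj m v
  -- elements of H in normal form
  have hHform : ∀ h ∈ H, ∃ (m : Fin 4) (v : V), h = phi a₁ a₂ a₃ v * eps e₁ e₂ e₃ m := by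
    intro h hh
    obtain ⟨x, rfl⟩ := hjsurj h hh
    obtain ⟨v, m, rfl⟩ := hform x
    exact ⟨m, v, by rw [map_mul, jphi, jeps]⟩
  have hpow : ∀ (v : V) (m : Fin 4),
      (phi a₁ a₂ a₃ v * eps e₁ e₂ e₃ m) ^ 27 = 1 → m = 0 := by
    intro v m h
    rw [← jphi, ← jeps, ← map_mul, ← map_pow] at h
    have h1 : (phi A1 A2 A3 v * eps (I1 * I2) I2 I1 m) ^ 27 = 1 := hj (by rw [h, map_one])
    have h2 : (mphi v * meps m) ^ 27 = 1 := by
      rw [← coe_phi, ← coe_eps, ← Subgroup.coe_mul, ← Subgroup.coe_pow, h1, Subgroup.coe_one]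
    exact m_pow v m h2
  have hpowT : ∀ t ∈ T, t ^ 27 = 1 := by
    intro t ht
    have : Finite T := Nat.finite_of_card_ne_zero (by rw [hT]; norm_num)
    have h := pow_card_eq_one' (G := T) (x := ⟨t, ht⟩)
    rw [hT] at h
    exact congrArg Subtype.val h
  have heps0 : eps e₁ e₂ e₃ 0 = 1 := by simp [eps]
  -- T = range phi
  have hTsub : (T : Set G) ⊆ Set.range (phi a₁ a₂ a₃) := by
    intro t ht
    obtain ⟨m, v, hvm⟩ := hHform t (hTH ht)
    have hm : m = 0 := hpow v m (by rw [← hvm]; exact hpowT t ht)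
    refine ⟨v, ?_⟩
    rw [hvm, hm, heps0, mul_one]
  have hTeq : (T : Set G) = Set.range (phi a₁ a₂ a₃) := by
    apply Set.eq_of_subset_of_ncard_le hTsub _ (Set.toFinite _)
    rw [← Set.image_univ, Set.ncard_image_of_injective _ hinj, Set.ncard_univ]
    have hV : Nat.card V = 27 := by
      rw [Nat.card_eq_fintype_card]; rfl
    rw [hV, ← hT]
    exact (Nat.card_coe_set_eq (T : Set G)).le
  have hmem : ∀ v : V, phi a₁ a₂ a₃ v ∈ T := by
    intro v
    have : phi a₁ a₂ a₃ v ∈ (T : Set G) := by rw [hTeq]; exact ⟨v, rfl⟩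
    exact this
  -- |H| = 108
  have hcardM : Nat.card ↥M = 108 := by
    have hbij : Function.Bijective
        (fun p : V × Fin 4 => phi A1 A2 A3 p.1 * eps (I1 * I2) I2 I1 p.2) := by
      constructor
      · rintro ⟨u, m⟩ ⟨v, m'⟩ h
        have h' : mphi u * meps m = mphi v * meps m' := by
          have := congrArg (Subtype.val) h
          simpa only [Subgroup.coe_mul, coe_phi, coe_eps] using this
        -- reduce to uniqueness
        have hneg : (mphi v)⁻¹ = mphi (-v) := by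
          apply inv_eq_of_mul_eq_one_right
          rw [← m_mul, add_neg_cancel, m_zero]
        obtain ⟨m'', hm''⟩ := m_eps_mul m m'
        have h3 : mphi (-v + u) * meps m'' = 1 := by
          rw [m_mul, ← hneg, ← hm'']
          calc (mphi v)⁻¹ * mphi u * (meps m * meps m')
              = (mphi v)⁻¹ * (mphi u * meps m) * meps m' := by group
            _ = (mphi v)⁻¹ * (mphi v * meps m') * meps m' := by rw [h']
            _ = meps m' * meps m' := by group
            _ = 1 := m_eps_sq m'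
        obtain ⟨hv0, hm0⟩ := m_unique _ _ h3
        have huv : u = v := by
          have : -v + u = 0 := hv0
          calc u = v + (-v + u) := by abel
            _ = v := by rw [this, add_zero]
        subst huv
        have h4 : meps m = meps m' := mul_left_cancel h'
        -- m = m' from h4 by decidable check
        have hdec : ∀ m m' : Fin 4, meps m = meps m' → m = m' := by decide +kernel
        rw [hdec m m' h4]
      · intro x
        obtain ⟨v, m, h⟩ := hform x
        exact ⟨(v, m), h.symm⟩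
    rw [← Nat.card_congr (Equiv.ofBijective _ hbij), Nat.card_prod]
    have hV : Nat.card V = 27 := by
      rw [Nat.card_eq_fintype_card]; rfl
    rw [hV, Nat.card_fin]
  have hcardH : Nat.card H = 108 := by
    rw [Nat.card_congr e.toEquiv, hcardM]
  -- T is a Sylow 3-subgroup
  have : Fact (Nat.Prime 3) := ⟨Nat.prime_three⟩
  have hfac : (Nat.card G).factorization 3 = 3 := by
    have hmod := Sylow.card_normalizer_modEq_card (p := 3) (n := 3) (H := T) (by rw [hT]; norm_num)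
    rw [hN, hcardH] at hmod
    have hG0 : Nat.card G ≠ 0 := Nat.card_pos.ne'
    have h27 : 3 ^ 3 ∣ Nat.card G := by
      have := Subgroup.card_subgroup_dvd_card T
      rw [hT] at this
      exact this
    have h81 : ¬ 3 ^ 4 ∣ Nat.card G := by
      intro h
      have h1 : Nat.card G % 81 = 0 := Nat.mod_eq_zero_of_dvd (by simpa using h)
      have h2 : 108 % 3 ^ (3 + 1) = Nat.card G % 3 ^ (3 + 1) := hmod
      norm_num at h2
      omega
    have hle := (Nat.Prime.pow_dvd_iff_le_factorization Nat.prime_three hG0).mp h27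
    have hlt : ¬ 4 ≤ (Nat.card G).factorization 3 := fun h =>
      h81 ((Nat.Prime.pow_dvd_iff_le_factorization Nat.prime_three hG0).mpr h)
    omega
  let P : Sylow 3 G := Sylow.ofCard T (by rw [hT, hfac]; norm_num)
  have hPT : (P : Subgroup G) = T := Sylow.coe_ofCard T _
  refine ⟨P, a₁, a₂, a₃, e₁, e₂, e₃, hPT, hcardH, ?_⟩
  refine ⟨by rw [hPT]; exact hT, ?_, hinj, hmul, hconj, ?_, ?_, ?_⟩
  · intro v; rw [hPT]; exact hmem v
  · intro m hm
    rw [hPT] at hm
    have h := hpowT _ hm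
    have h0 : phi a₁ a₂ a₃ 0 = 1 := by
      rw [← jphi]
      have : phi A1 A2 A3 0 = 1 := by
        apply Subtype.ext
        rw [coe_phi, m_zero, Subgroup.coe_one]
      rw [this, map_one]
    exact hpow 0 m (by rw [h0, one_mul]; exact h)
  · intro n hn
    rw [hPT, hN] at hn
    exact hHform n hn
  · intro s hs hs1
    rw [hPT] at hs ⊢
    rw [hN]
    exact hC s hs hs1

end Cfsg.Agent.Lib.Helper5.Emb3Loc
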