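import Mathlib
import Cfsg.Agent.Lib.Helper2.Emb4A

/-! # The model group `3^3 : S_4 ≤ Sym(9)` for S3702 (finite checks) -/

set_option autoImplicit false

namespace Cfsg.Agent.Lib.Helper5.Emb4Loc

open Cfsg.Agent.Lib.Helper2.Emb3 (V phi)
open Cfsg.Agent.Lib.Helper2.Emb4

/-- the three `3`-cycles generating the normal `3^3` of the model group -/
def d1 : Equiv.Perm (Fin 9) := Equiv.swap (0 : Fin 9) 1 * Equiv.swap 1 2
def d2 : Equiv.Perm (Fin 9) := Equiv.swap (3 : Fin 9) 4 * Equiv.swap 4 5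
def d3 : Equiv.Perm (Fin 9) := Equiv.swap (6 : Fin 9) 7 * Equiv.swap 7 8

/-- the four generators of the model group, as in the statement of S3702 -/
def g1 : Equiv.Perm (Fin 9) := Equiv.swap (0 : Fin 9) 1 * Equiv.swap 1 2
def g2 : Equiv.Perm (Fin 9) :=
  Equiv.swap (0 : Fin 9) 3 * Equiv.swap 3 6 * (Equiv.swap (1 : Fin 9) 4 * Equiv.swap 4 7) *
    (Equiv.swap (2 : Fin 9) 5 * Equiv.swap 5 8)
def g3 : Equiv.Perm (Fin 9) := Equiv.swap (0 : Fin 9) 1 * Equiv.swap 3 4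
def g4 : Equiv.Perm (Fin 9) :=
  Equiv.swap (0 : Fin 9) 3 * Equiv.swap 1 4 * Equiv.swap 2 5 * Equiv.swap 6 7

/-- `phi` in the model -/
def mphi (v : V) : Equiv.Perm (Fin 9) := phi d1 d2 d3 v

/-- the block-monomial permutation of the `k`-th signed permutation matrix -/
def msigN (k : ℕ) : Equiv.Perm (Fin 9) :=
  match k with
  | 0 => 1
  | 1 => Equiv.swap (3 : Fin 9) 4 * Equiv.swap (6 : Fin 9) 7
  | 2 => Equiv.swap (0 : Fin 9) 1 * Equiv.swap (6 : Fin 9) 7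
  | 3 => Equiv.swap (0 : Fin 9) 1 * Equiv.swap (3 : Fin 9) 4
  | 4 => Equiv.swap (3 : Fin 9) 7 * Equiv.swap (4 : Fin 9) 6 * Equiv.swap (5 : Fin 9) 8 * Equiv.swap (6 : Fin 9) 7
  | 5 => Equiv.swap (3 : Fin 9) 6 * Equiv.swap (4 : Fin 9) 7 * Equiv.swap (5 : Fin 9) 8 * Equiv.swap (6 : Fin 9) 7
  | 6 => Equiv.swap (0 : Fin 9) 1 * Equiv.swap (3 : Fin 9) 6 * Equiv.swap (4 : Fin 9) 7 * Equiv.swap (5 : Fin 9) 8
  | 7 => Equiv.swap (0 : Fin 9) 1 * Equiv.swap (3 : Fin 9) 7 * Equiv.swap (4 : Fin 9) 6 * Equiv.swap (5 : Fin 9) 8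
  | 8 => Equiv.swap (0 : Fin 9) 3 * Equiv.swap (1 : Fin 9) 4 * Equiv.swap (2 : Fin 9) 5 * Equiv.swap (6 : Fin 9) 7
  | 9 => Equiv.swap (0 : Fin 9) 4 * Equiv.swap (1 : Fin 9) 3 * Equiv.swap (2 : Fin 9) 5 * Equiv.swap (3 : Fin 9) 4
  | 10 => Equiv.swap (0 : Fin 9) 3 * Equiv.swap (1 : Fin 9) 4 * Equiv.swap (2 : Fin 9) 5 * Equiv.swap (3 : Fin 9) 4
  | 11 => Equiv.swap (0 : Fin 9) 4 * Equiv.swap (1 : Fin 9) 3 * Equiv.swap (2 : Fin 9) 5 * Equiv.swap (6 : Fin 9) 7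
  | 12 => Equiv.swap (0 : Fin 9) 6 * Equiv.swap (1 : Fin 9) 7 * Equiv.swap (2 : Fin 9) 8 * Equiv.swap (3 : Fin 9) 6 * Equiv.swap (4 : Fin 9) 7 * Equiv.swap (5 : Fin 9) 8
  | 13 => Equiv.swap (0 : Fin 9) 7 * Equiv.swap (1 : Fin 9) 6 * Equiv.swap (2 : Fin 9) 8 * Equiv.swap (3 : Fin 9) 7 * Equiv.swap (4 : Fin 9) 6 * Equiv.swap (5 : Fin 9) 8
  | 14 => Equiv.swap (0 : Fin 9) 7 * Equiv.swap (1 : Fin 9) 6 * Equiv.swap (2 : Fin 9) 8 * Equiv.swap (3 : Fin 9) 6 * Equiv.swap (4 : Fin 9) 7 * Equiv.swap (5 : Fin 9) 8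
  | 15 => Equiv.swap (0 : Fin 9) 6 * Equiv.swap (1 : Fin 9) 7 * Equiv.swap (2 : Fin 9) 8 * Equiv.swap (3 : Fin 9) 7 * Equiv.swap (4 : Fin 9) 6 * Equiv.swap (5 : Fin 9) 8
  | 16 => Equiv.swap (0 : Fin 9) 3 * Equiv.swap (1 : Fin 9) 4 * Equiv.swap (2 : Fin 9) 5 * Equiv.swap (3 : Fin 9) 6 * Equiv.swap (4 : Fin 9) 7 * Equiv.swap (5 : Fin 9) 8
  | 17 => Equiv.swap (0 : Fin 9) 4 * Equiv.swap (1 : Fin 9) 3 * Equiv.swap (2 : Fin 9) 5 * Equiv.swap (3 : Fin 9) 7 * Equiv.swap (4 : Fin 9) 6 * Equiv.swap (5 : Fin 9) 8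
  | 18 => Equiv.swap (0 : Fin 9) 3 * Equiv.swap (1 : Fin 9) 4 * Equiv.swap (2 : Fin 9) 5 * Equiv.swap (3 : Fin 9) 7 * Equiv.swap (4 : Fin 9) 6 * Equiv.swap (5 : Fin 9) 8
  | 19 => Equiv.swap (0 : Fin 9) 4 * Equiv.swap (1 : Fin 9) 3 * Equiv.swap (2 : Fin 9) 5 * Equiv.swap (3 : Fin 9) 6 * Equiv.swap (4 : Fin 9) 7 * Equiv.swap (5 : Fin 9) 8
  | 20 => Equiv.swap (0 : Fin 9) 7 * Equiv.swap (1 : Fin 9) 6 * Equiv.swap (2 : Fin 9) 8 * Equiv.swap (6 : Fin 9) 7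
  | 21 => Equiv.swap (0 : Fin 9) 6 * Equiv.swap (1 : Fin 9) 7 * Equiv.swap (2 : Fin 9) 8 * Equiv.swap (3 : Fin 9) 4
  | 22 => Equiv.swap (0 : Fin 9) 6 * Equiv.swap (1 : Fin 9) 7 * Equiv.swap (2 : Fin 9) 8 * Equiv.swap (6 : Fin 9) 7
  | _ => Equiv.swap (0 : Fin 9) 7 * Equiv.swap (1 : Fin 9) 6 * Equiv.swap (2 : Fin 9) 8 * Equiv.swap (3 : Fin 9) 4

/-- the `24` rotations in the model -/
def msig (k : Fin 24) : Equiv.Perm (Fin 9) := msigN k.val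

/-- words in the generators `3, 8, 16` for the `24` rotations -/
def wordTab : List (List (Fin 24)) :=
  [[], [8, 16, 8, 16], [16, 8, 16, 8], [3], [8, 16], [16, 16, 8], [8, 16, 3], [8, 3, 16], [8], [16, 8, 16, 3], [16, 8, 16], [8, 3], [16, 16], [8, 16, 8], [16, 16, 3], [3, 16, 16], [16], [16, 3], [3, 16, 3], [3, 16], [8, 16, 16], [3, 16, 8], [16, 8], [16, 8, 3]]

set_option maxRecDepth 100000 in
lemma m_mul : ∀ u v : V, mphi (u + v) = mphi u * mphi v := by decide +kernel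

set_option maxRecDepth 100000 in
lemma m_inj : ∀ u v : V, mphi u = mphi v → u = v := by decide +kernel

lemma m_zero : mphi 0 = 1 := by decide +kernel

lemma m_sig_zero : msig 0 = 1 := by decide +kernel

set_option maxRecDepth 100000 in
lemma m_conj : ∀ (k : Fin 24) (v : V), msig k * mphi v * (msig k)⁻¹ = mphi (act k v) := by
  decide +kernel

set_option maxRecDepth 100000 in
lemma m_sig_mul : ∀ k l : Fin 24, msig k * msig l = msig (mt k l) := by decide +kernel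

set_option maxRecDepth 100000 in
lemma m_unique : ∀ (v : V) (k : Fin 24), mphi v * msig k = 1 → v = 0 ∧ k = 0 := by
  decide +kernel

set_option maxRecDepth 100000 in
lemma m_sig_inj : ∀ k l : Fin 24, msig k = msig l → k = l := by decide +kernel

set_option maxRecDepth 100000 in
lemma m_sig_phi : ∀ (k : Fin 24) (v : V), msig k = mphi v → k = 0 := by decide +kernel

set_option maxRecDepth 100000 in
lemma mt_inv : ∀ k : Fin 24, ∃ l : Fin 24, mt k l = 0 ∧ mt l k = 0 := by decide +kernel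

/-- powers in the multiplication table of the rotations -/
def mtpow (k : Fin 24) : ℕ → Fin 24
  | 0 => 0
  | n + 1 => mt (mtpow k n) k

set_option maxRecDepth 100000 in
lemma core_idx : ∀ k kinv : Fin 24, k ≠ 0 → mt k kinv = 0 → mtpow k 81 = 0 →
    mtpow (mt kinv (mt (mt 3 k) 3)) 81 = 0 → False := by decide +kernel

set_option maxRecDepth 100000 in
lemma word_ok : ∀ k : Fin 24, (wordTab.getD k.val []).foldr mt 0 = k ∧
    ∀ l ∈ wordTab.getD k.val [], l = 3 ∨ l = 8 ∨ l = 16 := by decide +kernel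

lemma m_g1 : g1 = mphi (1, 0, 0) * msig 0 := by decide +kernel
lemma m_g2 : g2 = mphi 0 * msig 16 := by decide +kernel
lemma m_g3 : g3 = mphi 0 * msig 3 := by decide +kernel
lemma m_g4 : g4 = mphi 0 * msig 8 := by decide +kernel

lemma m_d1 : d1 = g1 := by decide +kernel
lemma m_d2 : d2 = g2 * g1 * g2⁻¹ := by decide +kernel
lemma m_d3 : d3 = g2 * (g2 * g1 * g2⁻¹) * g2⁻¹ := by decide +kernel
lemma m_s16 : msig 16 = g2 := by decide +kernel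
lemma m_s3 : msig 3 = g3 := by decide +kernel
lemma m_s8 : msig 8 = g4 := by decide +kernel

end Cfsg.Agent.Lib.Helper5.Emb4Loc
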