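import Mathlib
import Cfsg.Prelude.Def_Solvable
import Cfsg.Prelude.Def_TwoFusion
import Cfsg.Agent.Lib.Helper2.Emb4A
import Cfsg.Agent.Lib.Helper5.Emb4Model

/-! # Local structure of `3^3 : S_4` with strongly closed `3^3` (farm-out piece of S3702) -/

set_option autoImplicit false

namespace Cfsg.Agent.Lib.Helper5.Emb4Loc

open Cfsg.Agent.Lib.Helper2.Emb3 (V phi)
open Cfsg.Agent.Lib.Helper2.Emb4

section hom

variable {A B : Type*} [Group A] [Group B]

lemma map_phi4 (f : A →* B) (x y z : A) (v : V) :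
    f (phi x y z v) = phi (f x) (f y) (f z) v := by
  simp only [phi, map_mul, map_pow]

end hom

/-- the subgroup of all normal forms `mphi v * msig k` -/
def formSub4 : Subgroup (Equiv.Perm (Fin 9)) where
  carrier := {x | ∃ (v : V) (k : Fin 24), x = mphi v * msig k}
  one_mem' := ⟨0, 0, by rw [m_zero, m_sig_zero, one_mul]⟩
  mul_mem' := by
    rintro _ _ ⟨u, k, rfl⟩ ⟨v, l, rfl⟩
    refine ⟨u + act k v, mt k l, ?_⟩
    rw [m_mul, ← m_conj, ← m_sig_mul]
    group
  inv_mem' := by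
    rintro _ ⟨v, k, rfl⟩
    obtain ⟨l, hkl, hlk⟩ := mt_inv k
    have hinv : (msig k)⁻¹ = msig l := by
      apply inv_eq_of_mul_eq_one_right
      rw [m_sig_mul, hkl, m_sig_zero]
    refine ⟨act l (-v), l, ?_⟩
    have h1 : mphi v * mphi (-v) = 1 := by rw [← m_mul, add_neg_cancel, m_zero]
    have h2 : (mphi v)⁻¹ = mphi (-v) := inv_eq_of_mul_eq_one_right h1
    have hc := m_conj l (-v)
    rw [← hc, mul_inv_rev, h2, inv_mul_cancel_right, hinv]

/-- the model group -/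
def modelM : Subgroup (Equiv.Perm (Fin 9)) :=
  Subgroup.closure ({Equiv.swap (0 : Fin 9) 1 * Equiv.swap 1 2,
    Equiv.swap (0 : Fin 9) 3 * Equiv.swap 3 6 * (Equiv.swap (1 : Fin 9) 4 * Equiv.swap 4 7) *
      (Equiv.swap (2 : Fin 9) 5 * Equiv.swap 5 8),
    Equiv.swap (0 : Fin 9) 1 * Equiv.swap 3 4,
    Equiv.swap (0 : Fin 9) 3 * Equiv.swap 1 4 * Equiv.swap 2 5 * Equiv.swap 6 7} :
      Set (Equiv.Perm (Fin 9)))

lemma g1_mem : g1 ∈ modelM := Subgroup.subset_closure (by simp [g1])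
lemma g2_mem : g2 ∈ modelM := Subgroup.subset_closure (by simp [g2])
lemma g3_mem : g3 ∈ modelM := Subgroup.subset_closure (by simp [g3])
lemma g4_mem : g4 ∈ modelM := Subgroup.subset_closure (by simp [g4])

lemma modelM_le_formSub4 : modelM ≤ formSub4 := by
  unfold modelM
  rw [Subgroup.closure_le]
  intro x hx
  simp only [Set.mem_insert_iff, Set.mem_singleton_iff] at hx
  rcases hx with rfl | rfl | rfl | rfl
  · exact ⟨(1, 0, 0), 0, m_g1⟩
  · exact ⟨0, 16, m_g2⟩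
  · exact ⟨0, 3, m_g3⟩
  · exact ⟨0, 8, m_g4⟩

lemma d1_mem : d1 ∈ modelM := by rw [m_d1]; exact g1_mem
lemma d2_mem : d2 ∈ modelM := by
  rw [m_d2]
  exact Subgroup.mul_mem _ (Subgroup.mul_mem _ g2_mem g1_mem) (Subgroup.inv_mem _ g2_mem)
lemma d3_mem : d3 ∈ modelM := by
  rw [m_d3]
  exact Subgroup.mul_mem _ (Subgroup.mul_mem _ g2_mem
    (Subgroup.mul_mem _ (Subgroup.mul_mem _ g2_mem g1_mem) (Subgroup.inv_mem _ g2_mem)))
    (Subgroup.inv_mem _ g2_mem)

lemma msig_foldr_mem (w : List (Fin 24)) (hw : ∀ l ∈ w, msig l ∈ modelM) :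
    msig (w.foldr mt 0) ∈ modelM := by
  induction w with
  | nil => rw [List.foldr_nil, m_sig_zero]; exact Subgroup.one_mem _
  | cons a w ih =>
    rw [List.foldr_cons, ← m_sig_mul]
    exact Subgroup.mul_mem _ (hw a (by simp)) (ih (fun l hl => hw l (by simp [hl])))

lemma msig_mem (k : Fin 24) : msig k ∈ modelM := by
  obtain ⟨h1, h2⟩ := word_ok k
  rw [← h1]
  apply msig_foldr_mem
  intro l hl
  rcases h2 l hl with rfl | rfl | rfl
  · rw [m_s3]; exact g3_mem
  · rw [m_s8]; exact g4_mem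
  · rw [m_s16]; exact g2_mem

theorem exists_loc4 {G : Type*} [Group G] [Finite G] (H : Subgroup G)
    (hH : Nonempty (↥H ≃* ↥(Subgroup.closure ({Equiv.swap (0 : Fin 9) 1 * Equiv.swap 1 2,
        Equiv.swap (0 : Fin 9) 3 * Equiv.swap 3 6 * (Equiv.swap (1 : Fin 9) 4 * Equiv.swap 4 7) * (Equiv.swap (2 : Fin 9) 5 * Equiv.swap 5 8),
        Equiv.swap (0 : Fin 9) 1 * Equiv.swap 3 4, Equiv.swap (0 : Fin 9) 3 * Equiv.swap 1 4 * Equiv.swap 2 5 * Equiv.swap 6 7} : Set (Equiv.Perm (Fin 9))))))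
    (J : Subgroup G) (hJ : J = (Cfsg.pCore 3 ↥H).map H.subtype)
    (hC : ∀ j ∈ J, j ≠ 1 → Subgroup.centralizer ({j} : Set G) ≤ H) (hsc : Cfsg.IsStronglyClosed J H) :
    ∃ (a₁ a₂ a₃ : G) (σ : Fin 24 → G), Loc4 J H a₁ a₂ a₃ σ := by
  classical
  obtain ⟨e⟩ := hH
  change ↥H ≃* ↥modelM at e
  -- the embedding of the model into G
  let j : ↥modelM →* G := H.subtype.comp e.symm.toMonoidHom
  have hj : Function.Injective j := by
    intro x y hxy
    have : (e.symm x : G) = (e.symm y : G) := hxy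
    exact e.symm.injective (Subtype.ext this)
  have hjH : ∀ x : ↥modelM, j x ∈ H := fun x => (e.symm x).2
  have hjsurj : ∀ h ∈ H, ∃ x : ↥modelM, j x = h := by
    intro h hh
    refine ⟨e ⟨h, hh⟩, ?_⟩
    show ((e.symm (e ⟨h, hh⟩) : ↥H) : G) = h
    rw [MulEquiv.symm_apply_apply]
  -- model elements in M
  let A1 : ↥modelM := ⟨d1, d1_mem⟩
  let A2 : ↥modelM := ⟨d2, d2_mem⟩
  let A3 : ↥modelM := ⟨d3, d3_mem⟩
  let S : Fin 24 → ↥modelM := fun k => ⟨msig k, msig_mem k⟩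
  have coe_phi : ∀ v : V, ((phi A1 A2 A3 v : ↥modelM) : Equiv.Perm (Fin 9)) = mphi v := by
    intro v
    have := map_phi4 modelM.subtype A1 A2 A3 v
    exact this
  have coe_S : ∀ k : Fin 24, ((S k : ↥modelM) : Equiv.Perm (Fin 9)) = msig k := fun k => rfl
  -- every element of M is a normal form
  have hform : ∀ x : ↥modelM, ∃ (v : V) (k : Fin 24), x = phi A1 A2 A3 v * S k := by
    intro x
    obtain ⟨v, k, hvk⟩ := modelM_le_formSub4 x.2
    refine ⟨v, k, Subtype.ext ?_⟩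
    rw [Subgroup.coe_mul, coe_phi, coe_S]
    exact hvk
  -- the elements of G
  set a₁ : G := j A1 with ha₁
  set a₂ : G := j A2 with ha₂
  set a₃ : G := j A3 with ha₃
  set σ : Fin 24 → G := fun k => j (S k) with hσ
  have jphi : ∀ v : V, j (phi A1 A2 A3 v) = phi a₁ a₂ a₃ v := fun v => map_phi4 j A1 A2 A3 v
  have jS : ∀ k : Fin 24, j (S k) = σ k := fun k => rfl
  -- transported identities
  have hmul : ∀ u v : V, phi a₁ a₂ a₃ (u + v) = phi a₁ a₂ a₃ u * phi a₁ a₂ a₃ v := by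
    intro u v
    rw [← jphi, ← jphi, ← jphi, ← map_mul]
    congr 1
    apply Subtype.ext
    rw [Subgroup.coe_mul, coe_phi, coe_phi, coe_phi]
    exact m_mul u v
  have hinj : Function.Injective (phi a₁ a₂ a₃) := by
    intro u v huv
    rw [← jphi, ← jphi] at huv
    have h1 := hj huv
    have h2 : mphi u = mphi v := by rw [← coe_phi, ← coe_phi, h1]
    exact m_inj u v h2
  have hconj : ∀ (k : Fin 24) (v : V),
      σ k * phi a₁ a₂ a₃ v * (σ k)⁻¹ = phi a₁ a₂ a₃ (act k v) := by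
    intro k v
    rw [← jphi, ← jphi, ← jS, ← map_inv, ← map_mul, ← map_mul]
    congr 1
    apply Subtype.ext
    rw [Subgroup.coe_mul, Subgroup.coe_mul, Subgroup.coe_inv, coe_phi, coe_phi, coe_S]
    exact m_conj k v
  have hsigmul : ∀ k l : Fin 24, σ k * σ l = σ (mt k l) := by
    intro k l
    rw [← jS, ← jS, ← jS, ← map_mul]
    congr 1
    apply Subtype.ext
    rw [Subgroup.coe_mul, coe_S, coe_S, coe_S]
    exact m_sig_mul k l
  have hunique : ∀ (v : V) (k : Fin 24), phi a₁ a₂ a₃ v * σ k = 1 → v = 0 ∧ k = 0 := by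
    intro v k h
    rw [← jphi, ← jS, ← map_mul] at h
    have h1 : phi A1 A2 A3 v * S k = 1 := hj (by rw [h, map_one])
    have h2 : mphi v * msig k = 1 := by
      rw [← coe_phi, ← coe_S, ← Subgroup.coe_mul, h1, Subgroup.coe_one]
    exact m_unique v k h2
  have hphi0 : phi a₁ a₂ a₃ 0 = 1 := by
    have h := hmul 0 0
    rw [add_zero] at h
    exact (mul_eq_left.mp h.symm)
  have hsig0 : σ 0 = 1 := by
    have h := hsigmul 0 0
    rw [mt_zero_left] at h
    exact (mul_eq_left.mp h)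
  have hphineg : ∀ v : V, (phi a₁ a₂ a₃ v)⁻¹ = phi a₁ a₂ a₃ (-v) := by
    intro v
    apply inv_eq_of_mul_eq_one_right
    rw [← hmul, add_neg_cancel, hphi0]
  -- elements of H in normal form
  have hHform : ∀ h ∈ H, ∃ (k : Fin 24) (v : V), h = phi a₁ a₂ a₃ v * σ k := by
    intro h hh
    obtain ⟨x, rfl⟩ := hjsurj h hh
    obtain ⟨v, k, rfl⟩ := hform x
    exact ⟨k, v, by rw [map_mul, jphi, jS]⟩
  have hphiH : ∀ v : V, phi a₁ a₂ a₃ v ∈ H := fun v => by rw [← jphi]; exact hjH _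
  have hsigH : ∀ k : Fin 24, σ k ∈ H := fun k => hjH _
  have hmemH : ∀ h : G, h ∈ H ↔ ∃ (k : Fin 24) (v : V), h = phi a₁ a₂ a₃ v * σ k := by
    intro h
    constructor
    · exact hHform h
    · rintro ⟨k, v, rfl⟩
      exact H.mul_mem (hphiH v) (hsigH k)
  -- multiplication of normal forms
  have hnfmul : ∀ (u v : V) (k l : Fin 24),
      (phi a₁ a₂ a₃ u * σ k) * (phi a₁ a₂ a₃ v * σ l) =
        phi a₁ a₂ a₃ (u + act k v) * σ (mt k l) := by
    intro u v k l
    rw [hmul, ← hconj, ← hsigmul]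
    group
  have hnfuniq : ∀ (u v : V) (k l : Fin 24),
      phi a₁ a₂ a₃ u * σ k = phi a₁ a₂ a₃ v * σ l → k = l := by
    intro u v k l h
    obtain ⟨l', hll', hl'l⟩ := mt_inv l
    have hinv : (σ l)⁻¹ = σ l' := by
      apply inv_eq_of_mul_eq_one_right
      rw [hsigmul, hll', hsig0]
    -- (phi v)⁻¹ * phi u * σ k * σ l' = 1
    have h1 : phi a₁ a₂ a₃ (-v + u) * σ (mt k l') = 1 := by
      rw [hmul, ← hphineg, ← hsigmul, ← hinv]
      calc (phi a₁ a₂ a₃ v)⁻¹ * phi a₁ a₂ a₃ u * (σ k * (σ l)⁻¹)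
          = (phi a₁ a₂ a₃ v)⁻¹ * (phi a₁ a₂ a₃ u * σ k) * (σ l)⁻¹ := by group
        _ = (phi a₁ a₂ a₃ v)⁻¹ * (phi a₁ a₂ a₃ v * σ l) * (σ l)⁻¹ := by rw [h]
        _ = 1 := by group
    obtain ⟨_, hk0⟩ := hunique _ _ h1
    -- k = mt (mt k l') l = mt 0 l = l
    have : mt (mt k l') l = k := by rw [mt_assoc, hl'l, mt_zero_right]
    rw [← this, hk0, mt_zero_left]
  -- powers of normal forms
  have hnfpow : ∀ (v : V) (k : Fin 24) (n : ℕ),
      ∃ w : V, (phi a₁ a₂ a₃ v * σ k) ^ n = phi a₁ a₂ a₃ w * σ (mtpow k n) := by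
    intro v k n
    induction n with
    | zero => exact ⟨0, by rw [pow_zero, hphi0, one_mul]; exact hsig0.symm⟩
    | succ n ih =>
      obtain ⟨w, hw⟩ := ih
      refine ⟨w + act (mtpow k n) v, ?_⟩
      rw [pow_succ, hw, hnfmul]
      rfl
  -- the subgroup JJ = range phi
  let JJ : Subgroup G :=
    { carrier := Set.range (phi a₁ a₂ a₃)
      one_mem' := ⟨0, hphi0⟩
      mul_mem' := by
        rintro _ _ ⟨u, rfl⟩ ⟨v, rfl⟩
        exact ⟨u + v, hmul u v⟩
      inv_mem' := by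
        rintro _ ⟨u, rfl⟩
        exact ⟨-u, (hphineg u).symm⟩ }
  have hJJmem : ∀ x : G, x ∈ JJ ↔ ∃ v : V, phi a₁ a₂ a₃ v = x := fun x => Iff.rfl
  have hJJH : JJ ≤ H := by
    rintro _ ⟨v, rfl⟩
    exact hphiH v
  have hcardH : Nat.card H = 648 := by
    have hbij : Function.Bijective
        (fun p : V × Fin 24 => (⟨phi a₁ a₂ a₃ p.1 * σ p.2, H.mul_mem (hphiH _) (hsigH _)⟩ : ↥H)) := by
      constructor
      · rintro ⟨u, k⟩ ⟨v, l⟩ h
        have h' : phi a₁ a₂ a₃ u * σ k = phi a₁ a₂ a₃ v * σ l := congrArg Subtype.val h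
        have hkl : k = l := hnfuniq u v k l h'
        subst hkl
        have huv : u = v := hinj (mul_right_cancel h')
        rw [huv]
      · rintro ⟨h, hh⟩
        obtain ⟨k, v, hkv⟩ := hHform h hh
        exact ⟨(v, k), Subtype.ext hkv.symm⟩
    rw [← Nat.card_congr (Equiv.ofBijective _ hbij), Nat.card_prod]
    have hV : Nat.card V = 27 := by
      rw [Nat.card_eq_fintype_card]; rfl
    rw [hV, Nat.card_fin]
  -- the 3-core of H
  have hcore : Cfsg.pCore 3 ↥H = JJ.subgroupOf H := by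
    apply le_antisymm
    · apply sSup_le
      rintro N ⟨hNn, hNp⟩ ⟨x, hxH⟩ hxN
      rw [Subgroup.mem_subgroupOf]
      show x ∈ JJ
      obtain ⟨k, v, hkv⟩ := hHform x hxH
      -- elements of N have 81st power one
      have hpow81 : ∀ y : ↥H, y ∈ N → (y : G) ^ 81 = 1 := by
        intro y hy
        obtain ⟨n, hn⟩ := hNp ⟨y, hy⟩
        have hn' : y ^ 3 ^ n = 1 := by
          have := congrArg Subtype.val hn
          simpa using this
        have h1 : orderOf y ∣ 3 ^ n := orderOf_dvd_of_pow_eq_one hn'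
        have h2 : orderOf y ∣ 648 := by
          rw [← hcardH]; exact orderOf_dvd_natCard y
        obtain ⟨m, _, hm⟩ := (Nat.dvd_prime_pow Nat.prime_three).mp h1
        have h3 : orderOf y ∣ 81 := by
          rw [hm] at h2 ⊢
          have hm4 : m ≤ 4 := by
            by_contra hcon
            push Not at hcon
            have : 3 ^ 5 ∣ 648 := dvd_trans (pow_dvd_pow 3 hcon) h2
            norm_num at this
          exact (pow_dvd_pow 3 hm4)
        have h4 : y ^ 81 = 1 := orderOf_dvd_iff_pow_eq_one.mp h3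
        have := congrArg Subtype.val h4
        simpa using this
      by_cases hk : k = 0
      · subst hk
        rw [hsig0, mul_one] at hkv
        exact ⟨v, hkv.symm⟩
      · exfalso
        obtain ⟨kinv, hkk, hkk'⟩ := mt_inv k
        -- first: x ^ 81 = 1
        have hx81 : x ^ 81 = 1 := hpow81 ⟨x, hxH⟩ hxN
        obtain ⟨w, hw⟩ := hnfpow v k 81
        rw [← hkv, hx81] at hw
        have hidx1 : mtpow k 81 = 0 := (hunique w _ hw.symm).2
        -- second: y = x⁻¹ * (σ 3 * x * (σ 3)⁻¹)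
        have hs3inv : (σ 3)⁻¹ = σ 3 := by
          apply inv_eq_of_mul_eq_one_right
          rw [hsigmul]
          have : mt 3 3 = 0 := by decide
          rw [this, hsig0]
        have hxinv : x⁻¹ = phi a₁ a₂ a₃ (act kinv (-v)) * σ kinv := by
          have hinv : (σ k)⁻¹ = σ kinv := by
            apply inv_eq_of_mul_eq_one_right
            rw [hsigmul, hkk, hsig0]
          rw [hkv, mul_inv_rev, hinv, hphineg, ← hconj]
          group
        let s3 : ↥H := ⟨σ 3, hsigH 3⟩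
        have hyN : (⟨x, hxH⟩ : ↥H)⁻¹ * (s3 * ⟨x, hxH⟩ * s3⁻¹) ∈ N :=
          N.mul_mem (N.inv_mem hxN) (hNn.conj_mem _ hxN s3)
        have hy81 := hpow81 _ hyN
        have hyval : (((⟨x, hxH⟩ : ↥H)⁻¹ * (s3 * ⟨x, hxH⟩ * s3⁻¹) : ↥H) : G) =
            x⁻¹ * (σ 3 * x * (σ 3)⁻¹) := rfl
        rw [hyval] at hy81
        have hynf : ∃ w' : V, x⁻¹ * (σ 3 * x * (σ 3)⁻¹) =
            phi a₁ a₂ a₃ w' * σ (mt kinv (mt (mt 3 k) 3)) := by
          have e1 : σ 3 * x = phi a₁ a₂ a₃ (0 + act 3 v) * σ (mt 3 k) := by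
            rw [hkv, ← hnfmul, hphi0, one_mul]
          have e2 : σ 3 * x * (σ 3)⁻¹ =
              phi a₁ a₂ a₃ (0 + act 3 v + act (mt 3 k) 0) * σ (mt (mt 3 k) 3) := by
            calc σ 3 * x * (σ 3)⁻¹
                = (phi a₁ a₂ a₃ (0 + act 3 v) * σ (mt 3 k)) * (phi a₁ a₂ a₃ 0 * σ 3) := by
                  rw [e1, hs3inv, hphi0, one_mul]
              _ = phi a₁ a₂ a₃ (0 + act 3 v + act (mt 3 k) 0) * σ (mt (mt 3 k) 3) :=
                  hnfmul _ _ _ _
          exact ⟨_, by rw [e2, hxinv]; exact hnfmul _ _ _ _⟩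
        obtain ⟨w', hw'⟩ := hynf
        obtain ⟨w'', hw''⟩ := hnfpow w' (mt kinv (mt (mt 3 k) 3)) 81
        rw [← hw', hy81] at hw''
        have hidx2 : mtpow (mt kinv (mt (mt 3 k) 3)) 81 = 0 := (hunique w'' _ hw''.symm).2
        exact core_idx k kinv hk hkk hidx1 hidx2
    · apply le_sSup
      refine ⟨?_, ?_⟩
      · constructor
        rintro ⟨x, hxH⟩ hx ⟨g, hgH⟩
        rw [Subgroup.mem_subgroupOf] at hx ⊢
        obtain ⟨v, hv⟩ := hx
        obtain ⟨k, u, hku⟩ := hHform g hgH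
        show g * x * g⁻¹ ∈ JJ
        have hv' : x = phi a₁ a₂ a₃ v := hv.symm
        refine ⟨act k v, ?_⟩
        have hcomm : phi a₁ a₂ a₃ u * phi a₁ a₂ a₃ (act k v) * (phi a₁ a₂ a₃ u)⁻¹ =
            phi a₁ a₂ a₃ (act k v) := by
          rw [hphineg, ← hmul, ← hmul]
          congr 1
          abel
        symm
        calc g * x * g⁻¹
            = (phi a₁ a₂ a₃ u * σ k) * phi a₁ a₂ a₃ v * (phi a₁ a₂ a₃ u * σ k)⁻¹ := by
              rw [hv', hku]
          _ = phi a₁ a₂ a₃ u * (σ k * phi a₁ a₂ a₃ v * (σ k)⁻¹) * (phi a₁ a₂ a₃ u)⁻¹ := by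
              group
          _ = phi a₁ a₂ a₃ u * phi a₁ a₂ a₃ (act k v) * (phi a₁ a₂ a₃ u)⁻¹ := by rw [hconj]
          _ = phi a₁ a₂ a₃ (act k v) := hcomm
      · rintro ⟨⟨x, hxH⟩, hx⟩
        rw [Subgroup.mem_subgroupOf] at hx
        obtain ⟨v, hv⟩ := hx
        refine ⟨1, ?_⟩
        apply Subtype.ext
        apply Subtype.ext
        show x ^ 3 ^ 1 = 1
        have hv' : x = phi a₁ a₂ a₃ v := hv.symm
        rw [hv', pow_one, pow_succ, pow_two, ← hmul, ← hmul]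
        have : v + v + v = 0 := by
          have : ∀ v : V, v + v + v = 0 := by decide
          exact this v
        rw [this, hphi0]
  have hJeq : J = JJ := by
    rw [hJ, hcore, Subgroup.subgroupOf_map_subtype]
    exact inf_eq_left.mpr hJJH
  have hcardJ : Nat.card J = 27 := by
    rw [hJeq]
    have : Nat.card (JJ : Set G) = Nat.card V := by
      show Nat.card (Set.range (phi a₁ a₂ a₃)) = Nat.card V
      exact Nat.card_congr (Equiv.ofInjective _ hinj).symm
    have hV : Nat.card V = 27 := by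
      rw [Nat.card_eq_fintype_card]; rfl
    rw [← hV, ← this]
    rfl
  refine ⟨a₁, a₂, a₃, σ, ?_⟩
  refine ⟨hcardJ, hcardH, ?_, hinj, hmul, hconj, hsigmul, ?_, hmemH, hC, hsc.2⟩
  · intro v
    rw [hJeq]
    exact ⟨v, rfl⟩
  · intro k hk
    rw [hJeq] at hk
    obtain ⟨v, hv⟩ := hk
    -- σ k = phi v, so phi (-v) * σ k = 1
    have h1 : phi a₁ a₂ a₃ (-v) * σ k = 1 := by
      rw [← hv, ← hmul, neg_add_cancel, hphi0]
    exact (hunique _ _ h1).2

end Cfsg.Agent.Lib.Helper5.Emb4Loc
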