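import Mathlib
import Cfsg.Agent.Lib.Helper1.F4Out.Defs
import Cfsg.Agent.Lib.Helper5.F4Out.FieldAut

set_option autoImplicit false

/-!
# F4OUT farm (S2128), unit F : field automorphisms
-/

namespace Cfsg.Agent.Lib.Helper5.F4Out

open Cfsg Cfsg.Lie Cfsg.Agent.Lib.Helper5.ChevSym Cfsg.Agent.Lib.Helper5.ChevSymP
  Cfsg.Agent.Lib.Helper5.ChevStruct Cfsg.Agent.Lib.Helper5.Ree Cfsg.Agent.Lib.Helper5.TwX
  Cfsg.Agent.Lib.Helper5.MatPow Cfsg.Agent.Lib.Helper5.F4T Cfsg.Agent.Lib.Helper5.TwAut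
  Cfsg.Agent.Lib.Helper1.F4Out

section general

variable {K : Type*} [Field K]

/-- a field endomorphism preserves `U` -/
theorem glMap_pos_le (f : K →+* K) :
    (chevF4.posUnipotent K).map (Matrix.GeneralLinearGroup.map f) ≤ chevF4.posUnipotent K := by
  unfold ChevalleyDatum.posUnipotent
  rw [MonoidHom.map_closure, Subgroup.closure_le]
  rintro _ ⟨g, ⟨r, t, hr, hg⟩, rfl⟩
  apply Subgroup.subset_closure
  refine ⟨r, f t, hr, ?_⟩
  rw [← x_map, ← hg]
  rfl

/-- a field endomorphism preserves `V` -/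
theorem glMap_neg_le (f : K →+* K) :
    (chevF4.negUnipotent K).map (Matrix.GeneralLinearGroup.map f) ≤ chevF4.negUnipotent K := by
  unfold ChevalleyDatum.negUnipotent
  rw [MonoidHom.map_closure, Subgroup.closure_le]
  rintro _ ⟨g, ⟨r, t, hr, hg⟩, rfl⟩
  apply Subgroup.subset_closure
  refine ⟨r, f t, hr, ?_⟩
  rw [← x_map, ← hg]
  rfl

theorem glMap_symm_apply (ψ : K ≃+* K) (g : GL chevF4.Idx K) :
    Matrix.GeneralLinearGroup.map ψ.symm.toRingHom (Matrix.GeneralLinearGroup.map ψ.toRingHom g)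
      = g := by
  apply Units.ext
  ext i j
  exact ψ.symm_apply_apply _

theorem glMap_mem_pos (ψ : K ≃+* K) (g : GL chevF4.Idx K) :
    Matrix.GeneralLinearGroup.map ψ.toRingHom g ∈ chevF4.posUnipotent K ↔
      g ∈ chevF4.posUnipotent K := by
  constructor
  · intro h
    have := glMap_pos_le ψ.symm.toRingHom ⟨_, h, rfl⟩
    rwa [glMap_symm_apply] at this
  · intro h
    exact glMap_pos_le ψ.toRingHom ⟨_, h, rfl⟩

theorem glMap_mem_neg (ψ : K ≃+* K) (g : GL chevF4.Idx K) :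
    Matrix.GeneralLinearGroup.map ψ.toRingHom g ∈ chevF4.negUnipotent K ↔
      g ∈ chevF4.negUnipotent K := by
  constructor
  · intro h
    have := glMap_neg_le ψ.symm.toRingHom ⟨_, h, rfl⟩
    rwa [glMap_symm_apply] at this
  · intro h
    exact glMap_neg_le ψ.toRingHom ⟨_, h, rfl⟩

end general

variable {K : Type*} [Field K] [Fintype K] [CharP K 2] (m : ℕ)
  (hq : ∀ x : K, x ^ 2 ^ (2 * m + 1) = x)

omit [Fintype K] in
theorem map_ph (ψ : K ≃+* K) (t : K) : ψ (F4T.ph m t) = F4T.ph m (ψ t) := by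
  rw [F4T.ph_apply, F4T.ph_apply, map_pow]

omit [Fintype K] in
theorem map_ps (ψ : K ≃+* K) (t : K) : ψ (F4T.ps m t) = F4T.ps m (ψ t) := by
  rw [F4T.ps_apply, F4T.ps_apply, map_pow]

include hq in
theorem glMap_mem_fix (hK : Fintype.card K = 2 ^ (2 * m + 1)) (ψ : K ≃+* K)
    (g : GL chevF4.Idx K) (hg : g ∈ fixG (K := K) m) :
    Matrix.GeneralLinearGroup.map ψ.toRingHom g ∈ fixG (K := K) m := by
  rw [← twisted_eq_fixG m hK hq] at hg ⊢
  exact glMap_mem_twisted ψ.toRingHom (2 ^ m) ⟨g, hg, rfl⟩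

omit [Fintype K] in
theorem glMap_x1 (ψ : K ≃+* K) (t : K) :
    Matrix.GeneralLinearGroup.map ψ.toRingHom (x1 m t) = x1 m (ψ t) := by
  unfold x1
  rw [glMap_wordGL]
  simp only [List.map_cons, List.map_nil, RingEquiv.toRingHom_eq_coe, RingHom.coe_coe, map_ph]

omit [Fintype K] in
theorem glMap_x2 (ψ : K ≃+* K) (t u : K) :
    Matrix.GeneralLinearGroup.map ψ.toRingHom (x2 m t u) = x2 m (ψ t) (ψ u) := by
  unfold x2
  rw [glMap_wordGL]
  simp only [List.map_cons, List.map_nil, RingEquiv.toRingHom_eq_coe, RingHom.coe_coe, map_ph,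
    map_ps, map_add, map_mul]

omit [Fintype K] in
theorem glMap_y1 (ψ : K ≃+* K) (t : K) :
    Matrix.GeneralLinearGroup.map ψ.toRingHom (y1 m t) = y1 m (ψ t) := by
  unfold y1
  rw [glMap_wordGL]
  simp only [List.map_cons, List.map_nil, RingEquiv.toRingHom_eq_coe, RingHom.coe_coe, map_ph]

omit [Fintype K] in
theorem glMap_y2 (ψ : K ≃+* K) (t u : K) :
    Matrix.GeneralLinearGroup.map ψ.toRingHom (y2 m t u) = y2 m (ψ t) (ψ u) := by
  unfold y2
  rw [glMap_wordGL]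
  simp only [List.map_cons, List.map_nil, RingEquiv.toRingHom_eq_coe, RingHom.coe_coe, map_ph,
    map_ps, map_add, map_mul]

end Cfsg.Agent.Lib.Helper5.F4Out
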