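import Mathlib
import Cfsg.Prelude.Def_ChevF4
import Cfsg.Agent.Lib.Helper5.F4WCover

set_option autoImplicit false

/-!
The list of the 1152 reduced words of `W(F₄)`: well-formed, covering, pairwise distinct actions.
-/

namespace Cfsg.Agent.Lib.Helper5.F4W

open Cfsg Cfsg.Lie Cfsg.Agent.Lib.Helper5.ChevSym Cfsg.Agent.Lib.Helper5.ChevStruct

/-- the 1152 words -/
def wsF4 : List (List ℕ) := wtblF4_full.map (·.wd)

theorem wsF4_length : wsF4.length = 1152 := by
  unfold wsF4
  rw [List.length_map, wtblF4_full_length]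

theorem exists_index_of_mem (R : CosetRec) (hR : R ∈ wtblF4_full) :
    ∃ t < 1152, wtblF4_full.getD t default = R := by
  obtain ⟨t, ht, e⟩ := List.getElem_of_mem hR
  refine ⟨t, by rw [wtblF4_full_length] at ht; exact ht, ?_⟩
  rw [List.getD_eq_getElem _ _ ht, e]

theorem getD_mem (t : ℕ) (ht : t < 1152) : wtblF4_full.getD t default ∈ wtblF4_full := by
  have ht' : t < wtblF4_full.length := by rw [wtblF4_full_length]; exact ht
  rw [List.getD_eq_getElem _ _ ht']
  exact List.getElem_mem ht'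

/-- (a) the words are well formed -/
theorem wsF4_wd : ∀ w ∈ wsF4, Wd chevF4 w := by
  intro w hw
  unfold wsF4 at hw
  obtain ⟨R, hR, rfl⟩ := List.mem_map.1 hw
  obtain ⟨t, ht, rfl⟩ := exists_index_of_mem R hR
  exact (tbl_facts t ht).1

/-- (b) cover -/
theorem wsF4_cover : ∀ w, Wd chevF4 w → ∃ u ∈ wsF4, ∀ r < 48, wAct chevF4 w r = wAct chevF4 u r := by
  intro w hw
  obtain ⟨t, ht, h⟩ := cover_act w hw
  exact ⟨_, List.mem_map_of_mem (getD_mem t ht), h⟩

set_option maxRecDepth 1000000 in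
theorem wtblF4_full_nd : (wtblF4_full.map (·.img)).Nodup := by
  decide +kernel

theorem img_eq_of_act (a b : CosetRec) (ha : a ∈ wtblF4_full) (hb : b ∈ wtblF4_full)
    (h : ∀ r < 48, wAct chevF4 a.wd r = wAct chevF4 b.wd r) : a.img = b.img := by
  obtain ⟨s, hs, rfl⟩ := exists_index_of_mem a ha
  obtain ⟨t, ht, rfl⟩ := exists_index_of_mem b hb
  have fa := tbl_facts s hs
  have fb := tbl_facts t ht
  have la := (tbl_next s hs 0 (by norm_num)).2.2
  have lb := (tbl_next t ht 0 (by norm_num)).2.2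
  apply List.ext_getElem (by rw [la, lb])
  intro j h1 h2
  have hj : j < 4 := by rw [la] at h1; exact h1
  have e1 := fa.2.1 j hj
  have e2 := fb.2.1 j hj
  rw [List.getD_eq_getElem _ _ h1] at e1
  rw [List.getD_eq_getElem _ _ h2] at e2
  rw [← e1, ← e2]
  apply h
  have := simple_lt chevF4 memF4 j (by rw [rankF4]; exact hj)
  rwa [nrootsF4] at this

/-- (c) pairwise distinct actions -/
theorem wsF4_pairwise :
    wsF4.Pairwise (fun a b => ¬ ∀ r < 48, wAct chevF4 a r = wAct chevF4 b r) := by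
  unfold wsF4
  rw [List.pairwise_map]
  have hnd := wtblF4_full_nd
  unfold List.Nodup at hnd
  rw [List.pairwise_map] at hnd
  refine List.Pairwise.imp_of_mem ?_ hnd
  intro a b ha hb hab h
  exact hab (img_eq_of_act a b ha hb h)

end Cfsg.Agent.Lib.Helper5.F4W
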