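import Mathlib
import Cfsg.Agent.Lib.Helper7.FPF0
import Cfsg.Agent.Lib.Helper7.FL2

set_option autoImplicit false

/-! # S2863, unit U-SL2: `XProp p Y` for a `p`-subgroup `Y` of order `|F|` of `SL₂(F)` -/

namespace Cfsg.Agent.Lib.Helper5.FPFSL2

open Matrix Cfsg.Agent.Lib.Helper4 Cfsg.Agent.Lib.Helper7.FPF

/-- the inner part of `XProp`: `z` is a product of an element of a conjugate `Y^a` and an element of a
conjugate `Y^b`, neither normalizing the other conjugate -/
def PProp {G : Type*} [Group G] (Y : Subgroup G) (z : G) : Prop :=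
  ∃ (a b y1 y2 : G), y1 ∈ Y ∧ y2 ∈ Y ∧ z = (a * y1 * a⁻¹) * (b * y2 * b⁻¹) ∧
    a * y1 * a⁻¹ ∉ Subgroup.normalizer
      ((Y.map (MulAut.conj b).toMonoidHom : Subgroup G) : Set G) ∧
    b * y2 * b⁻¹ ∉ Subgroup.normalizer
      ((Y.map (MulAut.conj a).toMonoidHom : Subgroup G) : Set G)

theorem mem_normalizer_map_conj_iff {G : Type*} [Group G] (H : Subgroup G) (a g : G) :
    g ∈ Subgroup.normalizer ((H.map (MulAut.conj a).toMonoidHom : Subgroup G) : Set G) ↔
      a⁻¹ * g * a ∈ Subgroup.normalizer (H : Set G) := by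
  rw [← Subgroup.map_equiv_normalizer_eq, Subgroup.mem_map_equiv]
  simp [MulAut.conj_symm_apply]

theorem PProp_of_conj {G : Type*} [Group G] (Y : Subgroup G) (g z : G)
    (h : PProp Y (g * z * g⁻¹)) : PProp Y z := by
  obtain ⟨a, b, y1, y2, hy1, hy2, heq, hu, hv⟩ := h
  refine ⟨g⁻¹ * a, g⁻¹ * b, y1, y2, hy1, hy2, ?_, ?_, ?_⟩
  · have h1 : z = g⁻¹ * (g * z * g⁻¹) * g := by group
    rw [h1, heq]; group
  · intro hmem
    apply hu
    rw [mem_normalizer_map_conj_iff] at hmem ⊢
    convert hmem using 1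
    group
  · intro hmem
    apply hv
    rw [mem_normalizer_map_conj_iff] at hmem ⊢
    convert hmem using 1
    group

section General

variable {F : Type*} [Field F]

/-- the element of `SL₂(F)` with the given entries -/
def mk2 (a b c d : F) (h : a * d - b * c = 1) : Matrix.SpecialLinearGroup (Fin 2) F :=
  ⟨!![a, b; c, d], by rw [Matrix.det_fin_two_of]; exact h⟩

theorem mk2_coe (a b c d : F) (h : a * d - b * c = 1) :
    (mk2 a b c d h : Matrix (Fin 2) (Fin 2) F) = !![a, b; c, d] := rfl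

theorem exists_mk2 (g : Matrix.SpecialLinearGroup (Fin 2) F) :
    ∃ (a b c d : F) (h : a * d - b * c = 1), g = mk2 a b c d h := by
  have hd : (g : Matrix (Fin 2) (Fin 2) F) 0 0 * (g : Matrix (Fin 2) (Fin 2) F) 1 1 -
      (g : Matrix (Fin 2) (Fin 2) F) 0 1 * (g : Matrix (Fin 2) (Fin 2) F) 1 0 = 1 := by
    have := g.det_coe
    rw [Matrix.det_fin_two] at this
    exact this
  refine ⟨_, _, _, _, hd, ?_⟩
  apply Matrix.SpecialLinearGroup.ext
  intro i j
  fin_cases i <;> fin_cases j <;> rfl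

omit [Field F] in
theorem mat2_ext {a b c d a' b' c' d' : F} (h1 : a = a') (h2 : b = b') (h3 : c = c')
    (h4 : d = d') : (!![a, b; c, d] : Matrix (Fin 2) (Fin 2) F) = !![a', b'; c', d'] := by
  subst h1 h2 h3 h4; rfl

omit [Field F] in
theorem mat2_inj {a b c d a' b' c' d' : F}
    (h : (!![a, b; c, d] : Matrix (Fin 2) (Fin 2) F) = !![a', b'; c', d']) :
    a = a' ∧ b = b' ∧ c = c' ∧ d = d' := by
  refine ⟨?_, ?_, ?_, ?_⟩
  · simpa using congrFun (congrFun h 0) 0
  · simpa using congrFun (congrFun h 0) 1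
  · simpa using congrFun (congrFun h 1) 0
  · simpa using congrFun (congrFun h 1) 1

theorem sl2_eq_of_coe {x y : Matrix.SpecialLinearGroup (Fin 2) F}
    (h : (x : Matrix (Fin 2) (Fin 2) F) = y) : x = y := Subtype.ext h

theorem coe_eq_of_eq {x y : Matrix.SpecialLinearGroup (Fin 2) F} (h : x = y) :
    (x : Matrix (Fin 2) (Fin 2) F) = y := by rw [h]

theorem upperU_mem (s : F) : upperU s ∈ unipSL F := (mem_unipSL_iff _).mpr ⟨s, rfl⟩

theorem c_eq_zero_of_mem_normalizer {a b c d : F} {h : a * d - b * c = 1}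
    (hg : mk2 a b c d h ∈ Subgroup.normalizer
      ((unipSL F : Subgroup (Matrix.SpecialLinearGroup (Fin 2) F)) :
        Set (Matrix.SpecialLinearGroup (Fin 2) F))) : c = 0 := by
  have h1 : upperU (1 : F) ∈ unipSL F := upperU_mem 1
  have h2 := (Subgroup.mem_normalizer_iff.mp hg (upperU 1)).mp h1
  obtain ⟨t, ht⟩ := (mem_unipSL_iff _).mp h2
  have h3 : mk2 a b c d h * upperU 1 = upperU t * mk2 a b c d h := by
    rw [← ht]; group
  have h4 := coe_eq_of_eq h3
  simp only [Matrix.SpecialLinearGroup.coe_mul, mk2_coe, upperU_coe, Matrix.mul_fin_two] at h4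
  obtain ⟨-, -, -, h44⟩ := mat2_inj h4
  linear_combination h44

/-- the main computation: lower left entry nonzero, trace different from `2` -/
theorem pprop_core (α β γ δ : F) (h : α * δ - β * γ = 1) (hγ : γ ≠ 0) (htr : α + δ ≠ 2) :
    PProp (unipSL F) (mk2 α β γ δ h) := by
  have hβ : β = (α * δ - 1) / γ := by
    field_simp
    linear_combination -h
  subst hβ
  have hb : (δ - 1) * 0 - (1 / γ) * (-γ) = 1 := by
    have h1 : (1 / γ) * γ = 1 := by field_simp
    linear_combination h1
  set b : Matrix.SpecialLinearGroup (Fin 2) F := mk2 (δ - 1) (1 / γ) (-γ) 0 hb with hbdef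
  set s : F := (α + δ - 2) / γ with hs
  set t : F := -(1 / γ) with ht
  have hsγ : s * γ = α + δ - 2 := by rw [hs]; field_simp
  have key : mk2 α ((α * δ - 1) / γ) γ δ h * b = upperU s * b * upperU t := by
    apply sl2_eq_of_coe
    simp only [Matrix.SpecialLinearGroup.coe_mul, mk2_coe, upperU_coe, Matrix.mul_fin_two, hbdef]
    apply mat2_ext
    · rw [hs]; field_simp; ring
    · rw [hs, ht]; field_simp; ring
    · ring
    · rw [ht]; field_simp; ring
  have heq : mk2 α ((α * δ - 1) / γ) γ δ h =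
      (1 * upperU s * 1⁻¹) * (b * upperU t * b⁻¹) := by
    calc mk2 α ((α * δ - 1) / γ) γ δ h
        = (mk2 α ((α * δ - 1) / γ) γ δ h * b) * b⁻¹ := by group
      _ = (upperU s * b * upperU t) * b⁻¹ := by rw [key]
      _ = (1 * upperU s * 1⁻¹) * (b * upperU t * b⁻¹) := by group
  refine ⟨1, b, upperU s, upperU t, upperU_mem s, upperU_mem t, heq, ?_, ?_⟩
  · intro hmem
    rw [mem_normalizer_map_conj_iff] at hmem
    obtain ⟨a', b', c', d', h', hn⟩ := exists_mk2 (b⁻¹ * (1 * upperU s * 1⁻¹) * b)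
    rw [hn] at hmem
    have hc := c_eq_zero_of_mem_normalizer hmem
    have hbn : b * mk2 a' b' c' d' h' = upperU s * b := by
      rw [← hn]; group
    have h4 := coe_eq_of_eq hbn
    simp only [Matrix.SpecialLinearGroup.coe_mul, mk2_coe, upperU_coe, Matrix.mul_fin_two,
      hbdef] at h4
    obtain ⟨e00, -, e10, -⟩ := mat2_inj h4
    rw [hc] at e00 e10
    have ha' : a' = 1 := by
      have h5 : γ * (a' - 1) = 0 := by linear_combination (-1 : F) * e10
      rcases mul_eq_zero.mp h5 with h6 | h6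
      · exact absurd h6 hγ
      · linear_combination h6
    rw [ha'] at e00
    apply htr
    have h7 : s * γ = 0 := by linear_combination e00
    rw [hsγ] at h7
    linear_combination h7
  · intro hmem
    rw [mem_normalizer_map_conj_iff] at hmem
    obtain ⟨a', b', c', d', h', hn⟩ := exists_mk2 (1⁻¹ * (b * upperU t * b⁻¹) * 1)
    rw [hn] at hmem
    have hc := c_eq_zero_of_mem_normalizer hmem
    have hun : upperU s * mk2 a' b' c' d' h' = mk2 α ((α * δ - 1) / γ) γ δ h := by
      rw [← hn, heq]; group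
    have h4 := coe_eq_of_eq hun
    simp only [Matrix.SpecialLinearGroup.coe_mul, mk2_coe, upperU_coe, Matrix.mul_fin_two] at h4
    obtain ⟨-, -, e10, -⟩ := mat2_inj h4
    rw [hc] at e10
    apply hγ
    linear_combination (-1 : F) * e10

/-- a non-scalar element is conjugate to one with nonzero lower left entry -/
theorem exists_conj_lower_ne_zero (α β γ δ : F) (h : α * δ - β * γ = 1)
    (hns : ¬ (β = 0 ∧ γ = 0 ∧ α = δ)) :
    ∃ (g : Matrix.SpecialLinearGroup (Fin 2) F) (α' β' γ' δ' : F) (h' : α' * δ' - β' * γ' = 1),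
      g * mk2 α β γ δ h * g⁻¹ = mk2 α' β' γ' δ' h' ∧ γ' ≠ 0 ∧ α' + δ' = α + δ := by
  by_cases hγ : γ = 0
  · by_cases hβ : β = 0
    · have hαδ : α ≠ δ := fun hh => hns ⟨hβ, hγ, hh⟩
      subst hγ hβ
      have hg : (1 : F) * 1 - 0 * 1 = 1 := by ring
      have h' : α * δ - 0 * (α - δ) = 1 := by linear_combination h
      refine ⟨mk2 1 0 1 1 hg, α, 0, α - δ, δ, h', ?_, sub_ne_zero.mpr hαδ, rfl⟩
      rw [mul_inv_eq_iff_eq_mul]
      apply sl2_eq_of_coe
      simp only [Matrix.SpecialLinearGroup.coe_mul, mk2_coe, Matrix.mul_fin_two]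
      apply mat2_ext <;> ring
    · subst hγ
      have hg : (0 : F) * 0 - 1 * (-1) = 1 := by ring
      have h' : δ * α - (-0) * (-β) = 1 := by linear_combination h
      refine ⟨mk2 0 1 (-1) 0 hg, δ, -0, -β, α, h', ?_, neg_ne_zero.mpr hβ, by ring⟩
      rw [mul_inv_eq_iff_eq_mul]
      apply sl2_eq_of_coe
      simp only [Matrix.SpecialLinearGroup.coe_mul, mk2_coe, Matrix.mul_fin_two]
      apply mat2_ext <;> ring
  · exact ⟨1, α, β, γ, δ, h, by group, hγ, rfl⟩

theorem pprop_unip (α β γ δ : F) (h : α * δ - β * γ = 1)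
    (hns : ¬ (β = 0 ∧ γ = 0 ∧ α = δ)) (htr : α + δ ≠ 2) :
    PProp (unipSL F) (mk2 α β γ δ h) := by
  obtain ⟨g, α', β', γ', δ', h', hconj, hγ', htr'⟩ := exists_conj_lower_ne_zero α β γ δ h hns
  apply PProp_of_conj _ g
  rw [hconj]
  exact pprop_core α' β' γ' δ' h' hγ' (by rw [htr']; exact htr)

/-- powers of an element of trace `2` -/
theorem pow_of_trace_two (α β γ δ : F) (h : α * δ - β * γ = 1) (htr : α + δ = 2) (n : ℕ) :
    (!![α, β; γ, δ] : Matrix (Fin 2) (Fin 2) F) ^ n =
      !![1 + n * (α - 1), n * β; n * γ, 1 + n * (δ - 1)] := by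
  have hδ : δ = 2 - α := by linear_combination htr
  subst hδ
  induction n with
  | zero =>
    rw [pow_zero, Matrix.one_fin_two]
    apply mat2_ext <;> simp
  | succ n ih =>
    rw [pow_succ, ih, Matrix.mul_fin_two]
    apply mat2_ext
    · push_cast; linear_combination (-(n : F)) * h
    · push_cast; ring
    · push_cast; ring
    · push_cast; linear_combination (-(n : F)) * h

theorem pow_char_eq_one (p : ℕ) [CharP F p] (α β γ δ : F) (h : α * δ - β * γ = 1)
    (htr : α + δ = 2) : mk2 α β γ δ h ^ p = 1 := by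
  apply sl2_eq_of_coe
  rw [Matrix.SpecialLinearGroup.coe_pow, mk2_coe, pow_of_trace_two α β γ δ h htr,
    Matrix.SpecialLinearGroup.coe_one, Matrix.one_fin_two, CharP.cast_eq_zero F p]
  apply mat2_ext <;> ring

theorem xprop_unip (p : ℕ) [hp : Fact p.Prime] [CharP F p] : XProp p (unipSL F) := by
  intro x hx
  obtain ⟨α, β, γ, δ, h, rfl⟩ := exists_mk2 x
  by_cases hsc : β = 0 ∧ γ = 0 ∧ α = δ
  · obtain ⟨rfl, rfl, rfl⟩ := hsc
    have hα : (α - 1) * (α + 1) = 0 := by linear_combination h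
    have hone : ∀ h1 : (1 : F) * 1 - 0 * 0 = 1, mk2 (1 : F) 0 0 1 h1 = 1 := by
      intro h1
      apply sl2_eq_of_coe
      rw [mk2_coe, Matrix.SpecialLinearGroup.coe_one, Matrix.one_fin_two]
    rcases mul_eq_zero.mp hα with h1 | h1
    · have hα1 : α = 1 := by linear_combination h1
      subst hα1
      exfalso
      apply hx
      refine ⟨0, ?_⟩
      rw [hone h, orderOf_one, pow_zero]
    · have hα1 : α = -1 := by linear_combination h1
      subst hα1
      by_cases h2 : (2 : F) = 0
      · exfalso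
        apply hx
        refine ⟨0, ?_⟩
        have hm : (-1 : F) = 1 := by linear_combination (-1 : F) * h2
        have : mk2 (-1 : F) 0 0 (-1) h = 1 := by
          apply sl2_eq_of_coe
          rw [mk2_coe, Matrix.SpecialLinearGroup.coe_one, Matrix.one_fin_two]
          apply mat2_ext <;> simp [hm]
        rw [this, orderOf_one, pow_zero]
      · have hcen : mk2 (-1 : F) 0 0 (-1) h ^ 1 ∈
            Subgroup.center (Matrix.SpecialLinearGroup (Fin 2) F) := by
          rw [pow_one, Subgroup.mem_center_iff]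
          intro g
          obtain ⟨a', b', c', d', h', rfl⟩ := exists_mk2 g
          apply sl2_eq_of_coe
          simp only [Matrix.SpecialLinearGroup.coe_mul, mk2_coe, Matrix.mul_fin_two]
          apply mat2_ext <;> ring
        have h' : (-1 : F) * (-1) - (-1) * 0 = 1 := by ring
        have hprod : mk2 (-1 : F) 0 0 (-1) h ^ 1 * upperU 1 = mk2 (-1) (-1) 0 (-1) h' := by
          rw [pow_one]
          apply sl2_eq_of_coe
          simp only [Matrix.SpecialLinearGroup.coe_mul, mk2_coe, upperU_coe, Matrix.mul_fin_two]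
          apply mat2_ext <;> ring
        refine ⟨1, upperU 1, upperU_mem 1, Or.inr hcen, ?_⟩
        rw [hprod]
        refine pprop_unip (-1) (-1) 0 (-1) h' ?_ ?_
        · rintro ⟨hh, -, -⟩
          exact one_ne_zero (neg_eq_zero.mp hh)
        · intro hh
          apply h2
          have h4 : (2 : F) * 2 = 0 := by linear_combination (-1 : F) * hh
          rcases mul_eq_zero.mp h4 with h5 | h5 <;> exact h5
  · by_cases htr : α + δ = 2
    · exfalso
      apply hx
      have hpow := pow_char_eq_one p α β γ δ h htr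
      have hdvd := orderOf_dvd_of_pow_eq_one hpow
      rcases (Nat.dvd_prime hp.out).mp hdvd with h1 | h1
      · exact ⟨0, by rw [h1, pow_zero]⟩
      · exact ⟨1, by rw [h1, pow_one]⟩
    · refine ⟨1, 1, one_mem _, Or.inl rfl, ?_⟩
      rw [pow_one, mul_one]
      exact pprop_unip α β γ δ h hsc htr

end General

/-- **Unit U-SL2 of S2863.** -/
theorem xprop_sl2 {F : Type} [Field F] [Fintype F] {p : ℕ} [Fact p.Prime]
    (Y : Subgroup (Matrix.SpecialLinearGroup (Fin 2) F)) (hYp : IsPGroup p Y)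
    (hcard : Nat.card Y = Fintype.card F) : XProp p Y := by
  obtain ⟨k, hk⟩ := hYp.exists_card_eq
  have hcp : CharP F p :=
    Cfsg.Agent.Lib.Helper7.FL.charP_of_card_pow (k := k) (by rw [← hcard, hk])
  obtain ⟨P, hYP⟩ := hYp.exists_le_sylow
  obtain ⟨g, hg⟩ := MulAction.exists_smul_eq (Matrix.SpecialLinearGroup (Fin 2) F)
    (sylowUnipSL (F := F) p) P
  have hP : (P : Subgroup (Matrix.SpecialLinearGroup (Fin 2) F)) =
      (unipSL F).map (MulAut.conj g).toMonoidHom := by
    rw [← hg, Sylow.coe_subgroup_smul]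
    rfl
  have hPc : Nat.card (P : Subgroup (Matrix.SpecialLinearGroup (Fin 2) F)) = Fintype.card F := by
    rw [hP, Subgroup.card_map_of_injective (MulAut.conj g).injective, card_unipSL]
  have hYeq : Y = (P : Subgroup (Matrix.SpecialLinearGroup (Fin 2) F)) :=
    Subgroup.eq_of_le_of_card_ge hYP (by rw [hPc, hcard])
  rw [hYeq, hP]
  exact (xprop_unip p).map_equiv (MulAut.conj g)

end Cfsg.Agent.Lib.Helper5.FPFSL2
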