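import Mathlib
import Cfsg.Agent.Lib.Helper7.FPF0
import Cfsg.Agent.Lib.Helper7.FL5
import Cfsg.Agent.Lib.Helper5.FPFSL2

set_option autoImplicit false

/-! # S2863, unit U-SZ0: `XProp 2 Y` for a subgroup `Y` of order `2` of `Sz(2)` (order `20`) -/

namespace Cfsg.Agent.Lib.Helper5.FPFSz0

open Matrix Cfsg.Agent.Lib.Helper7.FPF Cfsg.Agent.Lib.Helper5.FPFSL2 Cfsg.Agent.Lib.Helper7.FL

/-- `Y = {1, t}`: an element normalizing the conjugate `Y^b` centralizes `b t b⁻¹` -/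
theorem comm_of_mem_normalizer {G : Type*} [Group G] (Y : Subgroup G) (t : G) (htY : t ∈ Y)
    (hY : ∀ y ∈ Y, y = 1 ∨ y = t) (ht1 : t ≠ 1) (b g : G)
    (hg : g ∈ Subgroup.normalizer ((Y.map (MulAut.conj b).toMonoidHom : Subgroup G) : Set G)) :
    g * (b * t * b⁻¹) = (b * t * b⁻¹) * g := by
  rw [mem_normalizer_map_conj_iff] at hg
  have h1 := (Subgroup.mem_normalizer_iff.mp hg t).mp htY
  rcases hY _ h1 with h | h
  · exfalso
    apply ht1
    have h2 : t = (b⁻¹ * g * b)⁻¹ * ((b⁻¹ * g * b) * t * (b⁻¹ * g * b)⁻¹) * (b⁻¹ * g * b) := by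
      group
    rw [h2, h]
    group
  · have h2 : (b⁻¹ * g * b) * t = t * (b⁻¹ * g * b) := by
      calc (b⁻¹ * g * b) * t
          = ((b⁻¹ * g * b) * t * (b⁻¹ * g * b)⁻¹) * (b⁻¹ * g * b) := by group
        _ = t * (b⁻¹ * g * b) := by rw [h]
    calc g * (b * t * b⁻¹) = b * ((b⁻¹ * g * b) * t) * b⁻¹ := by group
      _ = b * (t * (b⁻¹ * g * b)) * b⁻¹ := by rw [h2]
      _ = (b * t * b⁻¹) * g := by group

/-- the abstract computation: `Y = {1, t}`, `t` an involution inverting `x ≠ 1` of order `5` -/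
theorem pprop_invol {G : Type*} [Group G] (Y : Subgroup G) (t x : G) (htY : t ∈ Y)
    (hY : ∀ y ∈ Y, y = 1 ∨ y = t) (ht1 : t ≠ 1) (htt : t * t = 1) (hx5 : x ^ 5 = 1)
    (hinv : t * x * t = x⁻¹) (hx1 : x ≠ 1) : PProp Y x := by
  have tinv : t⁻¹ = t := inv_eq_of_mul_eq_one_left htt
  have hc : t * (x * x) * t = (x * x)⁻¹ := by
    calc t * (x * x) * t = t * x * 1 * x * t := by group
      _ = t * x * (t * t) * x * t := by rw [htt]
      _ = (t * x * t) * (t * x * t) := by group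
      _ = x⁻¹ * x⁻¹ := by rw [hinv]
      _ = (x * x)⁻¹ := by group
  have hc' : t * (x * x)⁻¹ * t = x * x := by
    calc t * (x * x)⁻¹ * t = (t⁻¹ * (x * x) * t⁻¹)⁻¹ := by group
      _ = (t * (x * x) * t)⁻¹ := by rw [tinv]
      _ = x * x := by rw [hc, inv_inv]
  have h5 : (x * x) * (x * x) * x = 1 := by
    rw [← hx5]; simp only [pow_succ, pow_zero, one_mul, mul_assoc]
  have hxcc : x = ((x * x) * (x * x))⁻¹ := eq_inv_of_mul_eq_one_right h5
  have hxcc' : x⁻¹ = (x * x) * (x * x) := inv_eq_of_mul_eq_one_left h5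
  have hxx : x * x ≠ 1 := by
    intro h
    apply hx1
    rw [h, one_mul, one_mul] at h5
    exact h5
  have hL : (1 * t * 1⁻¹) * ((x * x) * t * (x * x)⁻¹) = x := by
    calc (1 * t * 1⁻¹) * ((x * x) * t * (x * x)⁻¹) = (t * (x * x) * t) * (x * x)⁻¹ := by group
      _ = (x * x)⁻¹ * (x * x)⁻¹ := by rw [hc]
      _ = ((x * x) * (x * x))⁻¹ := by group
      _ = x := hxcc.symm
  have hR : ((x * x) * t * (x * x)⁻¹) * (1 * t * 1⁻¹) = x⁻¹ := by
    calc ((x * x) * t * (x * x)⁻¹) * (1 * t * 1⁻¹) = (x * x) * (t * (x * x)⁻¹ * t) := by group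
      _ = (x * x) * (x * x) := by rw [hc']
      _ = x⁻¹ := hxcc'.symm
  refine ⟨1, x * x, t, t, htY, htY, hL.symm, ?_, ?_⟩
  · intro hmem
    have h := comm_of_mem_normalizer Y t htY hY ht1 (x * x) _ hmem
    rw [hL, hR] at h
    exact hxx (mul_eq_one_iff_eq_inv.mpr h)
  · intro hmem
    have h := comm_of_mem_normalizer Y t htY hY ht1 1 _ hmem
    rw [hL, hR] at h
    exact hxx (mul_eq_one_iff_eq_inv.mpr h.symm)

set_option maxRecDepth 100000 in
/-- in the list of the `20` elements of `Sz(2)`: an element whose fourth power is not `1` has order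
`5` and is inverted by every involution -/
theorem bfact : ∀ a ∈ L20b, BM.mul (BM.mul a a) (BM.mul a a) ≠ BM.one →
    (BM.mul (BM.mul (BM.mul a a) (BM.mul a a)) a = BM.one ∧
      ∀ b ∈ L20b, BM.mul b b = BM.one → b ≠ BM.one →
        BM.mul (BM.mul (BM.mul b a) b) a = BM.one) := by
  decide +kernel

section transfer

variable {F : Type} [Field F] [CharP F 2]

/-- the matrix over `F` of a bit-mask matrix -/
def theta (F : Type) [Field F] [CharP F 2] (b : BM) : Matrix (Fin 4) (Fin 4) F :=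
  (BM.toMat b).map (ZMod.castHom (dvd_refl 2) F)

theorem theta_mul (a b : BM) : theta F (BM.mul a b) = theta F a * theta F b := by
  unfold theta
  rw [BM.toMat_mul, Matrix.map_mul]

theorem theta_one : theta F BM.one = 1 := by
  unfold theta
  rw [BM.toMat_one, Matrix.map_one _ (map_zero _) (map_one _)]

theorem theta_inj : ∀ a ∈ L20b, ∀ b ∈ L20b, theta F a = theta F b → a = b := by
  intro a ha b hb h
  apply toMat_inj a ha b hb
  exact Matrix.map_injective (ZMod.castHom (dvd_refl 2) F).injective h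

theorem exists_theta [Fintype F] (hF : Fintype.card F = 2) (u : ↥(Cfsg.Lie.Sz F (2 ^ (0 + 1)))) :
    ∃ b ∈ L20b, ((u : GL (Fin 4) F) : Matrix (Fin 4) (Fin 4) F) = theta F b := by
  obtain ⟨l, hl, h⟩ := mem_of_mem_Sz2 hF (u : GL (Fin 4) F) u.2
  obtain ⟨b, hb, rfl⟩ := (mem_L20_iff l).mp hl
  exact ⟨b, hb, h⟩

theorem sz2_facts [Fintype F] (hF : Fintype.card F = 2) (x t : ↥(Cfsg.Lie.Sz F (2 ^ (0 + 1))))
    (hx : x ^ 4 ≠ 1) (ht : t * t = 1) (ht1 : t ≠ 1) : x ^ 5 = 1 ∧ t * x * t * x = 1 := by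
  obtain ⟨bx, hbx, hX⟩ := exists_theta hF x
  obtain ⟨bt, hbt, hT⟩ := exists_theta hF t
  have ofMat : ∀ {u v : ↥(Cfsg.Lie.Sz F (2 ^ (0 + 1)))},
      ((u : GL (Fin 4) F) : Matrix (Fin 4) (Fin 4) F) =
        ((v : GL (Fin 4) F) : Matrix (Fin 4) (Fin 4) F) → u = v :=
    fun h => Subtype.ext (Units.ext h)
  have cmul : ∀ (u v : ↥(Cfsg.Lie.Sz F (2 ^ (0 + 1)))),
      (((u * v : ↥(Cfsg.Lie.Sz F (2 ^ (0 + 1)))) : GL (Fin 4) F) : Matrix (Fin 4) (Fin 4) F) =
        ((u : GL (Fin 4) F) : Matrix (Fin 4) (Fin 4) F) *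
          ((v : GL (Fin 4) F) : Matrix (Fin 4) (Fin 4) F) := fun u v => rfl
  have cone : (((1 : ↥(Cfsg.Lie.Sz F (2 ^ (0 + 1)))) : GL (Fin 4) F) :
      Matrix (Fin 4) (Fin 4) F) = 1 := rfl
  have h4 : BM.mul (BM.mul bx bx) (BM.mul bx bx) ≠ BM.one := by
    intro h
    apply hx
    apply ofMat
    have h0 : x ^ 4 = (x * x) * (x * x) := by
      simp only [pow_succ, pow_zero, one_mul, mul_assoc]
    rw [h0, cmul, cmul, cone, hX, ← theta_mul, ← theta_mul, h, theta_one]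
  obtain ⟨h5, hinv⟩ := bfact bx hbx h4
  have htt : BM.mul bt bt = BM.one := by
    apply theta_inj (F := F) _ (bmul_mem bt hbt bt hbt) _ bone_mem
    rw [theta_mul, theta_one, ← hT, ← cmul, ht, cone]
  have hne : bt ≠ BM.one := by
    intro h
    apply ht1
    apply ofMat
    rw [hT, h, theta_one, cone]
  have h6 := hinv bt hbt htt hne
  constructor
  · apply ofMat
    have h0 : x ^ 5 = ((x * x) * (x * x)) * x := by
      simp only [pow_succ, pow_zero, one_mul, mul_assoc]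
    rw [h0, cmul, cmul, cmul, cone, hX, ← theta_mul, ← theta_mul, ← theta_mul, h5, theta_one]
  · apply ofMat
    rw [cmul, cmul, cmul, cone, hX, hT, ← theta_mul, ← theta_mul, ← theta_mul, h6, theta_one]

end transfer

/-- **U-SZ0** of the S2863 farm (statement verbatim as posted by helper7). -/
theorem xprop_sz0 {F : Type} [Field F] [Fintype F] (hF : Fintype.card F = 2 ^ (2 * 0 + 1))
    (Y : Subgroup (Cfsg.Lie.Sz F (2 ^ (0 + 1)))) (hY : Cfsg.IsElementaryAbelian 2 Y)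
    (hcard : Nat.card Y = Fintype.card F) : Cfsg.Agent.Lib.Helper7.FPF.XProp 2 Y := by
  have hF' : Fintype.card F = 2 := by rw [hF]; norm_num
  have hcp : CharP F 2 := charP_of_card_pow (p := 2) (k := 1) (by rw [hF])
  have hc2 : Nat.card Y = 2 := by rw [hcard, hF']
  obtain ⟨t0, ht0, huniq⟩ := (Nat.card_eq_two_iff' (1 : Y)).mp hc2
  have htY : (t0 : ↥(Cfsg.Lie.Sz F (2 ^ (0 + 1)))) ∈ Y := t0.2
  have ht1 : (t0 : ↥(Cfsg.Lie.Sz F (2 ^ (0 + 1)))) ≠ 1 := by
    intro h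
    apply ht0
    exact Subtype.ext h
  have hall : ∀ y ∈ Y, y = 1 ∨ y = (t0 : ↥(Cfsg.Lie.Sz F (2 ^ (0 + 1)))) := by
    intro y hy
    by_cases h1 : y = 1
    · exact Or.inl h1
    · right
      have h2 : (⟨y, hy⟩ : Y) ≠ 1 := by
        intro h
        apply h1
        exact congrArg Subtype.val h
      have h3 := huniq ⟨y, hy⟩ h2
      exact congrArg Subtype.val h3
  have htt : (t0 : ↥(Cfsg.Lie.Sz F (2 ^ (0 + 1)))) * t0 = 1 := by
    have := hY.2 _ htY
    rwa [pow_two] at this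
  intro x hx
  have hx4 : x ^ 4 ≠ 1 := by
    intro h
    apply hx
    have hdvd : orderOf x ∣ 2 ^ 2 := orderOf_dvd_of_pow_eq_one h
    obtain ⟨k, -, hk⟩ := (Nat.dvd_prime_pow Nat.prime_two).mp hdvd
    exact ⟨k, hk⟩
  obtain ⟨hx5, hinv⟩ := sz2_facts hF' x t0 hx4 htt ht1
  have hx1 : x ≠ 1 := by
    intro h
    apply hx4
    rw [h, one_pow]
  have hinv' : (t0 : ↥(Cfsg.Lie.Sz F (2 ^ (0 + 1)))) * x * t0 = x⁻¹ :=
    eq_inv_of_mul_eq_one_left hinv
  refine ⟨1, 1, Y.one_mem, Or.inl rfl, ?_⟩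
  have hx1eq : x ^ 1 * 1 = x := (mul_one (x ^ 1)).trans (pow_one x)
  rw [hx1eq]
  exact pprop_invol Y t0 x htY hall ht1 htt hx5 hinv' hx1

end Cfsg.Agent.Lib.Helper5.FPFSz0
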