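import Mathlib
import Cfsg.Prelude.Def_Solvable
import Cfsg.Agent.S0035
import Cfsg.Agent.S0042

/-!
# S3390 piece for (I.5) (helper5): a Frobenius group whose complement has order prime to `p`
has a normal Sylow `p`-subgroup
-/

set_option autoImplicit false
set_option linter.style.haveILetI false
set_option linter.unusedVariables false

namespace Cfsg.Agent.Lib.Helper5.Fx2

/-- the Frobenius kernel as a normal nilpotent complement -/
theorem exists_kernel {X : Type*} [Group X] [Finite X] (H : Subgroup X)
    (hH : Cfsg.IsFrobeniusComplement H) :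
    ∃ N : Subgroup X, (N : Set X) = Cfsg.frobeniusKernel H ∧ N.Normal ∧
      Subgroup.IsComplement' N H ∧ Group.IsNilpotent N := by
  obtain ⟨N, hN, hNn, hc⟩ := Cfsg.Agent.S0035.result H hH
  obtain ⟨N', hN', _, hnil⟩ := Cfsg.Agent.S0042.result H hH
  have : N' = N := SetLike.coe_injective (hN'.trans hN.symm)
  subst this
  exact ⟨N', hN, hNn, hc, hnil⟩

/-- In a Frobenius group with complement `H`, every Sylow `p`-subgroup with `p ∤ |H|` is normal. -/
theorem sylow_normal_of_frobeniusComplement {X : Type*} [Group X] [Finite X] (H : Subgroup X)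
    (hH : Cfsg.IsFrobeniusComplement H) {p : ℕ} [hp : Fact p.Prime] (hpH : ¬ p ∣ Nat.card H)
    (P : Sylow p X) : (P : Subgroup X).Normal := by
  obtain ⟨N, _, hNn, hc, hnil⟩ := exists_kernel H hH
  haveI := hNn
  haveI := hnil
  have hidx : N.index = Nat.card H := hc.symm.index_eq_card
  have hPN : (P : Subgroup X) ≤ N := by
    intro x hx
    obtain ⟨k, hk⟩ := P.isPGroup' ⟨x, hx⟩
    have hk' : x ^ p ^ k = 1 := by
      have := congrArg Subtype.val hk
      simpa using this
    have h1 : (QuotientGroup.mk x : X ⧸ N) ^ p ^ k = 1 := by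
      rw [← QuotientGroup.mk_pow, hk']; rfl
    have h2 : (QuotientGroup.mk x : X ⧸ N) ^ Nat.card H = 1 := by
      rw [← hidx, Subgroup.index_eq_card]; exact pow_card_eq_one'
    have h3 : orderOf (QuotientGroup.mk x : X ⧸ N) ∣ Nat.gcd (p ^ k) (Nat.card H) :=
      Nat.dvd_gcd (orderOf_dvd_of_pow_eq_one h1) (orderOf_dvd_of_pow_eq_one h2)
    have h4 : Nat.gcd (p ^ k) (Nat.card H) = 1 :=
      Nat.Coprime.pow_left k ((Nat.Prime.coprime_iff_not_dvd hp.out).mpr hpH)
    rw [h4, Nat.dvd_one, orderOf_eq_one_iff] at h3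
    exact (QuotientGroup.eq_one_iff x).mp h3
  have hn : ((P.subtype hPN : Sylow p N) : Subgroup N).Normal :=
    Sylow.normal_of_normalizerCondition Group.normalizerCondition_of_isNilpotent _
  haveI hchar : ((P.subtype hPN : Sylow p N) : Subgroup N).Characteristic :=
    Sylow.characteristic_of_normal _ hn
  have hmap : ((P.subtype hPN : Sylow p N) : Subgroup N).map N.subtype = (P : Subgroup X) := by
    rw [Sylow.coe_subtype, Subgroup.subgroupOf_map_subtype]
    exact inf_eq_left.mpr hPN
  rw [← hmap]
  exact ConjAct.normal_of_characteristic_of_normal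

/-- the special case used in S3390 (I.5): odd complement, `p = 2`. -/
theorem sylow_two_normal_of_frobeniusComplement_odd {X : Type*} [Group X] [Finite X]
    (H : Subgroup X) (hH : Cfsg.IsFrobeniusComplement H) (hodd : Odd (Nat.card H))
    (P : Sylow 2 X) : (P : Subgroup X).Normal := by
  haveI : Fact (Nat.Prime 2) := ⟨Nat.prime_two⟩
  apply sylow_normal_of_frobeniusComplement H hH _ P
  intro h2
  rcases hodd with ⟨m, hm⟩
  omega

end Cfsg.Agent.Lib.Helper5.Fx2
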