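import Mathlib
import Cfsg.Prelude.Def_ChevStructure
import Cfsg.Prelude.Def_ChevG2
import Cfsg.Agent.Lib.Helper5.ChevWKer
import Cfsg.Agent.Lib.Helper5.ChevWeylHom
import Cfsg.Agent.Lib.Helper5.ChevNormal
import Cfsg.Agent.Lib.Helper5.ChevMonoN

set_option autoImplicit false

/-!
Weyl group bookkeeping for involutions of `N` in type `G₂`: an involution of `N` lies in `H`, or is
`N`-conjugate to an element of `n_i H` (`i = 0, 1`), or lies in `n_{w₀} H`.
-/

namespace Cfsg.Agent.Lib.Helper5.G2InvW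

open Cfsg Cfsg.Lie Cfsg.Agent.Lib.Helper5.ChevSym Cfsg.Agent.Lib.Helper5.ChevStruct

variable {F : Type*} [Field F]

theorem memG2 : chevG2 ∈ Seven := List.mem_cons_self ..

theorem nrootsG2 : chevG2.nroots = 12 := rfl

theorem rankG2 : chevG2.rank = 2 := rfl

/-- the action of a word on the twelve roots, as a table -/
def tbl (w : List ℕ) : List ℕ := (List.range 12).map (wAct chevG2 w)

/-- the longest word -/
def w0 : List ℕ := [0, 1, 0, 1, 0, 1]

def stdWords : List (List ℕ) :=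
  [[], [0], [1], [0, 1], [1, 0], [0, 1, 0], [1, 0, 1], [0, 1, 0, 1], [1, 0, 1, 0],
    [0, 1, 0, 1, 0], [1, 0, 1, 0, 1], [0, 1, 0, 1, 0, 1]]

def tables : List (List ℕ) := stdWords.map tbl

theorem tables_closed : ∀ T ∈ tables, ∀ i < 2, T.map (chevG2.reflectRoot i) ∈ tables := by
  decide +kernel

theorem tbl_cons (i : ℕ) (u : List ℕ) : tbl (i :: u) = (tbl u).map (chevG2.reflectRoot i) := by
  unfold tbl wAct
  simp [List.map_map, Function.comp_def]

theorem tbl_mem (u : List ℕ) (hu : Wd chevG2 u) : tbl u ∈ tables := by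
  induction u with
  | nil => decide +kernel
  | cons i u ih =>
    rw [tbl_cons]
    exact tables_closed _ (ih hu.tail) i hu.head

theorem act_eq_of_tbl (a b : List ℕ) (h : tbl a = tbl b) :
    ∀ r < chevG2.nroots, wAct chevG2 a r = wAct chevG2 b r := by
  intro r hr
  rw [nrootsG2] at hr
  have := congrArg (fun l => l.getD r 0) h
  simpa [tbl, hr] using this

theorem tbl_of_act (a b : List ℕ) (h : ∀ r < chevG2.nroots, wAct chevG2 a r = wAct chevG2 b r) :
    tbl a = tbl b := by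
  unfold tbl
  apply List.map_congr_left
  intro r hr
  exact h r (by rw [nrootsG2]; simpa using hr)

/-- the tables of the involutions -/
theorem invol_tables : ∀ T ∈ tables, T.map (fun x => T.getD x 0) = List.range 12 →
    T = tbl [] ∨ T = tbl [0] ∨ T = tbl [1] ∨ T = tbl [0, 1, 0] ∨ T = tbl [1, 0, 1] ∨
      T = tbl [0, 1, 0, 1, 0] ∨ T = tbl [1, 0, 1, 0, 1] ∨ T = tbl w0 := by
  decide +kernel

theorem tbl_sq (u : List ℕ) (hu : Wd chevG2 u)
    (h : ∀ r < chevG2.nroots, wAct chevG2 (u ++ u) r = r) :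
    (tbl u).map (fun x => (tbl u).getD x 0) = List.range 12 := by
  unfold tbl
  rw [List.map_map]
  conv_rhs => rw [← List.map_id (List.range 12)]
  apply List.map_congr_left
  intro r hr
  have hr' : r < 12 := by simpa using hr
  have h1 := h r (by rw [nrootsG2]; exact hr')
  rw [wAct_append] at h1
  have h2 : wAct chevG2 u r < 12 := wAct_lt chevG2 memG2 u hu r hr'
  simp [h2, h1]

theorem tbl_congr_mid (a u u' b : List ℕ) (hb : Wd chevG2 b) (h : tbl u = tbl u') :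
    tbl (a ++ u ++ b) = tbl (a ++ u' ++ b) := by
  apply tbl_of_act
  intro r hr
  rw [wAct_append, wAct_append, wAct_append, wAct_append]
  congr 1
  exact act_eq_of_tbl u u' h _ (wAct_lt chevG2 memG2 b hb r hr)

/-- words with the same table give the same coset of `H` -/
theorem wGL_eq_mul_of_tbl (a b : List ℕ) (ha : Wd chevG2 a) (hb : Wd chevG2 b)
    (h : tbl a = tbl b) : ∃ d ∈ chevG2.diagonalSubgroup F,
      (wGL chevG2 memG2 a : GL chevG2.Idx F) = d * wGL chevG2 memG2 b := by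
  refine ⟨_, hrel_of_act_eq chevG2 memG2 a b ha hb (act_eq_of_tbl a b h), ?_⟩
  group

theorem wd_of_lt (w : List ℕ) (h : ∀ i ∈ w, i < 2) : Wd chevG2 w := h

/-- conjugating `n_u h₀` by `n_v` into `n_i H` -/
theorem conj_core (u v : List ℕ) (hu : Wd chevG2 u) (hv : Wd chevG2 v) (i : ℕ) (hi : i < 2)
    (ht : tbl (v ++ u ++ v.reverse) = tbl [i]) (h0 : GL chevG2.Idx F)
    (hh0 : h0 ∈ chevG2.diagonalSubgroup F) :
    ∃ h ∈ chevG2.diagonalSubgroup F,
      wGL chevG2 memG2 v * (wGL chevG2 memG2 u * h0) * (wGL chevG2 memG2 v)⁻¹ =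
        nGL chevG2 memG2 i * h := by
  obtain ⟨h', hh', e⟩ := wGL_inv (F := F) chevG2 memG2 v hv
  have hi' : Wd chevG2 [i] := Wd.single hi
  obtain ⟨d, hd, e2⟩ := wGL_eq_mul_of_tbl (F := F) (v ++ u ++ v.reverse) [i]
    ((hv.append hu).append hv.reverse) hi' ht
  rw [wGL_append, wGL_append, wGL_cons, wGL_nil, mul_one] at e2
  have hn : (nGL chevG2 memG2 i : GL chevG2.Idx F) ∈ chevG2.monomialSubgroup F :=
    nGL_mem chevG2 memG2 i hi
  have hX : (wGL chevG2 memG2 v : GL chevG2.Idx F) ∈ chevG2.monomialSubgroup F :=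
    wGL_mem chevG2 memG2 v hv
  have k1 := (conj_monomial_diag_mem chevG2 memG2 _ hn d hd).2
  have k2 := (conj_monomial_diag_mem chevG2 memG2 _ hX h0 hh0).1
  refine ⟨(nGL chevG2 memG2 i)⁻¹ * d * nGL chevG2 memG2 i * h' *
    (wGL chevG2 memG2 v * h0 * (wGL chevG2 memG2 v)⁻¹),
    mul_mem (mul_mem k1 hh') k2, ?_⟩
  have e3 : wGL chevG2 memG2 v * (wGL chevG2 memG2 u * h0) * (wGL chevG2 memG2 v)⁻¹ =
      (wGL chevG2 memG2 v * wGL chevG2 memG2 u * wGL chevG2 memG2 v.reverse) * h' *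
        (wGL chevG2 memG2 v * h0 * (wGL chevG2 memG2 v)⁻¹) := by
    rw [mul_assoc (wGL chevG2 memG2 v * wGL chevG2 memG2 u) _ h', ← e]
    group
  rw [e3, e2]
  group

/-- **W1**: an involution of `N` lies in `H`, or is `N`-conjugate into `n_i H`, or lies in
`n_{w₀} H`. -/
theorem invol_cases (m : GL chevG2.Idx F) (hm : m ∈ chevG2.monomialSubgroup F) (hm2 : m * m = 1) :
    m ∈ chevG2.diagonalSubgroup F ∨
    (∃ v, Wd chevG2 v ∧ ∃ i < 2, ∃ h ∈ chevG2.diagonalSubgroup F,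
      wGL chevG2 memG2 v * m * (wGL chevG2 memG2 v)⁻¹ = nGL chevG2 memG2 i * h) ∨
    (∃ h ∈ chevG2.diagonalSubgroup F, m = wGL chevG2 memG2 w0 * h) := by
  obtain ⟨u, hu', h0, hh0, rfl⟩ := exists_word_of_mem_monomial chevG2 memG2 m hm
  have hu : Wd chevG2 u := hu'
  have hU : (wGL chevG2 memG2 u : GL chevG2.Idx F) ∈ chevG2.monomialSubgroup F :=
    wGL_mem chevG2 memG2 u hu
  have k1 := (conj_monomial_diag_mem chevG2 memG2 _ hU h0 hh0).2
  have huu : (wGL chevG2 memG2 (u ++ u) : GL chevG2.Idx F) ∈ chevG2.diagonalSubgroup F := by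
    have e : (wGL chevG2 memG2 (u ++ u) : GL chevG2.Idx F) =
        (((wGL chevG2 memG2 u)⁻¹ * h0 * wGL chevG2 memG2 u) * h0)⁻¹ := by
      rw [wGL_append]
      rw [eq_inv_iff_mul_eq_one]
      rw [← hm2]
      group
    rw [e]
    exact inv_mem (mul_mem k1 hh0)
  have hact := act_of_wGL_mem_diagonal chevG2 memG2 (u ++ u) (hu.append hu) huu
  have hT := invol_tables _ (tbl_mem u hu) (tbl_sq u hu hact)
  have w0wd : Wd chevG2 w0 := wd_of_lt w0 (by decide)
  rcases hT with hT | hT | hT | hT | hT | hT | hT | hT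
  · left
    obtain ⟨d, hd, e⟩ := wGL_eq_mul_of_tbl (F := F) u [] hu (Wd.nil _) hT
    rw [e, wGL_nil, mul_one]
    exact mul_mem hd hh0
  · right; left
    refine ⟨[], Wd.nil _, 0, by norm_num, ?_⟩
    exact conj_core u [] hu (Wd.nil _) 0 (by norm_num) (by simpa using hT) h0 hh0
  · right; left
    refine ⟨[], Wd.nil _, 1, by norm_num, ?_⟩
    exact conj_core u [] hu (Wd.nil _) 1 (by norm_num) (by simpa using hT) h0 hh0
  · right; left
    have hv : Wd chevG2 [0] := wd_of_lt _ (by decide)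
    refine ⟨[0], hv, 1, by norm_num, ?_⟩
    refine conj_core u [0] hu hv 1 (by norm_num) ?_ h0 hh0
    rw [tbl_congr_mid [0] u [0, 1, 0] [0].reverse hv.reverse hT]
    decide +kernel
  · right; left
    have hv : Wd chevG2 [1] := wd_of_lt _ (by decide)
    refine ⟨[1], hv, 0, by norm_num, ?_⟩
    refine conj_core u [1] hu hv 0 (by norm_num) ?_ h0 hh0
    rw [tbl_congr_mid [1] u [1, 0, 1] [1].reverse hv.reverse hT]
    decide +kernel
  · right; left
    have hv : Wd chevG2 [1, 0] := wd_of_lt _ (by decide)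
    refine ⟨[1, 0], hv, 0, by norm_num, ?_⟩
    refine conj_core u [1, 0] hu hv 0 (by norm_num) ?_ h0 hh0
    rw [tbl_congr_mid [1, 0] u [0, 1, 0, 1, 0] [1, 0].reverse hv.reverse hT]
    decide +kernel
  · right; left
    have hv : Wd chevG2 [0, 1] := wd_of_lt _ (by decide)
    refine ⟨[0, 1], hv, 1, by norm_num, ?_⟩
    refine conj_core u [0, 1] hu hv 1 (by norm_num) ?_ h0 hh0
    rw [tbl_congr_mid [0, 1] u [1, 0, 1, 0, 1] [0, 1].reverse hv.reverse hT]
    decide +kernel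
  · right; right
    obtain ⟨d, hd, e⟩ := wGL_eq_mul_of_tbl (F := F) u w0 hu w0wd hT
    have hW : (wGL chevG2 memG2 w0 : GL chevG2.Idx F) ∈ chevG2.monomialSubgroup F :=
      wGL_mem chevG2 memG2 w0 w0wd
    have k2 := (conj_monomial_diag_mem chevG2 memG2 _ hW d hd).2
    refine ⟨(wGL chevG2 memG2 w0)⁻¹ * d * wGL chevG2 memG2 w0 * h0, mul_mem k2 hh0, ?_⟩
    rw [e]
    group

/-- **W2**: an element of `n₀ n_{w₀} H` (with `n₀ ∈ H n_0`) is `N`-conjugate into `n_1 H`. -/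
theorem drop_w0_conj (n0 h' : GL chevG2.Idx F)
    (hn0 : n0 * (nGL chevG2 memG2 0)⁻¹ ∈ chevG2.diagonalSubgroup F)
    (hh' : h' ∈ chevG2.diagonalSubgroup F) :
    ∃ v, Wd chevG2 v ∧ ∃ h ∈ chevG2.diagonalSubgroup F,
      wGL chevG2 memG2 v * (n0 * wGL chevG2 memG2 w0 * h') * (wGL chevG2 memG2 v)⁻¹ =
        nGL chevG2 memG2 1 * h := by
  have hu : Wd chevG2 (0 :: w0) := wd_of_lt _ (by decide)
  have hv : Wd chevG2 [0, 1] := wd_of_lt _ (by decide)
  have hU : (wGL chevG2 memG2 (0 :: w0) : GL chevG2.Idx F) ∈ chevG2.monomialSubgroup F :=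
    wGL_mem chevG2 memG2 _ hu
  have k1 := (conj_monomial_diag_mem chevG2 memG2 _ hU _ hn0).2
  obtain ⟨h, hh, e⟩ := conj_core (F := F) (0 :: w0) [0, 1] hu hv 1 (by norm_num)
    (by decide +kernel)
    ((wGL chevG2 memG2 (0 :: w0))⁻¹ * (n0 * (nGL chevG2 memG2 0)⁻¹) * wGL chevG2 memG2 (0 :: w0) * h')
    (mul_mem k1 hh')
  refine ⟨[0, 1], hv, h, hh, ?_⟩
  have ec : (wGL chevG2 memG2 (0 :: w0) : GL chevG2.Idx F) =
      nGL chevG2 memG2 0 * wGL chevG2 memG2 w0 := wGL_cons chevG2 memG2 0 w0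
  rw [← e, ec]
  group

end Cfsg.Agent.Lib.Helper5.G2InvW
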