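import Mathlib
import Cfsg.Prelude.Def_ChevStructure
import Cfsg.Prelude.Def_ChevG2
import Cfsg.Agent.Lib.Helper5.G2InvW
import Cfsg.Agent.Lib.Helper1.InvolN
import Cfsg.Agent.Lib.Helper1.G2InvC0
import Cfsg.Agent.Lib.Helper6.G2InvR
import Cfsg.Agent.Lib.Helper7.ChG2A

set_option autoImplicit false

/-!
In `G₂(q)`, `q` odd, every involution is conjugate to an involution of `H`, and any two involutions
are conjugate.
-/

namespace Cfsg.Agent.Lib.Helper5.G2InvZ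

open Cfsg Cfsg.Lie Cfsg.Agent.Lib.Helper5.ChevSym Cfsg.Agent.Lib.Helper5.ChevStruct
open Cfsg.Agent.Lib.Helper5.G2InvW

variable {F : Type*} [Field F] [Fintype F]

/-- an element of `n_i H` that is an involution is conjugate into `H` -/
theorem refl_to_diag (hodd : Odd (Fintype.card F)) (i : ℕ) (hi : i < 2) (h m : GL chevG2.Idx F)
    (hh : h ∈ chevG2.diagonalSubgroup F) (hm : m = nGL chevG2 memG2 i * h) (hmm : m * m = 1) :
    ∃ g ∈ chevG2.group F, g * m * g⁻¹ ∈ chevG2.diagonalSubgroup F :=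
  Cfsg.Agent.Lib.Helper6.G2InvR.refl_conj_diag hodd memG2 i hi h m hh hm hmm

omit [Fintype F] in
theorem conj_sq (g m : GL chevG2.Idx F) (hmm : m * m = 1) : (g * m * g⁻¹) * (g * m * g⁻¹) = 1 := by
  have : (g * m * g⁻¹) * (g * m * g⁻¹) = g * (m * m) * g⁻¹ := by group
  rw [this, hmm]
  group

/-- every involution of `N` is conjugate into `H` -/
theorem mono_to_diag (hodd : Odd (Fintype.card F)) (n : GL chevG2.Idx F)
    (hn : n ∈ chevG2.monomialSubgroup F) (hnn : n * n = 1) :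
    ∃ g ∈ chevG2.group F, g * n * g⁻¹ ∈ chevG2.diagonalSubgroup F := by
  rcases invol_cases n hn hnn with h | ⟨v, hv, i, hi, h, hh, e⟩ | ⟨h, hh, e⟩
  · exact ⟨1, one_mem _, by simpa using h⟩
  · have hvG : (wGL chevG2 memG2 v : GL chevG2.Idx F) ∈ chevG2.group F :=
      monomial_le_group chevG2 memG2 (wGL_mem chevG2 memG2 v hv)
    obtain ⟨g, hg, hgm⟩ := refl_to_diag hodd i hi h _ hh e (conj_sq _ n hnn)
    refine ⟨g * wGL chevG2 memG2 v, mul_mem hg hvG, ?_⟩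
    have : g * wGL chevG2 memG2 v * n * (g * wGL chevG2 memG2 v)⁻¹ =
        g * (wGL chevG2 memG2 v * n * (wGL chevG2 memG2 v)⁻¹) * g⁻¹ := by group
    rw [this]
    exact hgm
  · subst e
    obtain ⟨g, hg, m', hm', hm'2, e1, n0, hn0, hn0d, h', hh', e2⟩ :=
      Cfsg.Agent.Lib.Helper1.G2InvC0.c0 memG2 hodd h hh hnn
    obtain ⟨v, hv, h'', hh'', e3⟩ := drop_w0_conj (F := F) n0 h' hn0d hh'
    have hvG : (wGL chevG2 memG2 v : GL chevG2.Idx F) ∈ chevG2.group F :=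
      monomial_le_group chevG2 memG2 (wGL_mem chevG2 memG2 v hv)
    have e2' : m' = n0 * wGL chevG2 memG2 w0 * h' := e2
    rw [← e2'] at e3
    obtain ⟨g2, hg2, hgm⟩ := refl_to_diag hodd 1 (by norm_num) h'' _ hh'' e3 (conj_sq _ m' hm'2)
    refine ⟨g2 * wGL chevG2 memG2 v * g, mul_mem (mul_mem hg2 hvG) hg, ?_⟩
    have : g2 * wGL chevG2 memG2 v * g * (wGL chevG2 memG2 w0 * h) *
        (g2 * wGL chevG2 memG2 v * g)⁻¹ =
        g2 * (wGL chevG2 memG2 v * (g * (wGL chevG2 memG2 w0 * h) * g⁻¹) *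
          (wGL chevG2 memG2 v)⁻¹) * g2⁻¹ := by group
    rw [this]
    have e1' : g * (wGL chevG2 memG2 w0 * h) * g⁻¹ = m' := e1
    rw [e1']
    exact hgm

/-- every involution of `G` is conjugate into `H` -/
theorem invol_to_diag (hodd : Odd (Fintype.card F)) (t : GL chevG2.Idx F)
    (ht : t ∈ chevG2.group F) (htt : t * t = 1) :
    ∃ g ∈ chevG2.group F, g * t * g⁻¹ ∈ chevG2.diagonalSubgroup F := by
  obtain ⟨g1, hg1, n, hn, hnn, e⟩ :=
    Cfsg.Agent.Lib.Helper1.InvolN.invol_conj_monomial chevG2 memG2 hodd t ht htt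
  obtain ⟨g2, hg2, hd⟩ := mono_to_diag hodd n hn hnn
  refine ⟨g2 * g1, mul_mem hg2 hg1, ?_⟩
  have : g2 * g1 * t * (g2 * g1)⁻¹ = g2 * (g1 * t * g1⁻¹) * g2⁻¹ := by group
  rw [this, e]
  exact hd

/-- any two involutions of `G₂(q)`, `q` odd, are conjugate -/
theorem invol_conj (hodd : Odd (Fintype.card F)) (s t : GL chevG2.Idx F)
    (hs : s ∈ chevG2.group F) (ht : t ∈ chevG2.group F) (hss : s * s = 1) (hs1 : s ≠ 1)
    (htt : t * t = 1) (ht1 : t ≠ 1) : ∃ g ∈ chevG2.group F, g * s * g⁻¹ = t := by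
  obtain ⟨a, ha, had⟩ := invol_to_diag hodd s hs hss
  obtain ⟨b, hb, hbd⟩ := invol_to_diag hodd t ht htt
  have ha1 : a * s * a⁻¹ ≠ 1 := by
    intro h
    apply hs1
    have : s = a⁻¹ * (a * s * a⁻¹) * a := by group
    rw [this, h]
    group
  have hb1 : b * t * b⁻¹ ≠ 1 := by
    intro h
    apply ht1
    have : t = b⁻¹ * (b * t * b⁻¹) * b := by group
    rw [this, h]
    group
  obtain ⟨n, hn, e⟩ := Cfsg.Agent.Lib.Helper7.ChG2.invol_diag_conj (a * s * a⁻¹) (b * t * b⁻¹)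
    had hbd (conj_sq a s hss) ha1 (conj_sq b t htt) hb1
  have hnG : n ∈ chevG2.group F := monomial_le_group chevG2 memG2 hn
  refine ⟨b⁻¹ * n * a, mul_mem (mul_mem (inv_mem hb) hnG) ha, ?_⟩
  have : b⁻¹ * n * a * s * (b⁻¹ * n * a)⁻¹ = b⁻¹ * (n * (a * s * a⁻¹) * n⁻¹) * b := by group
  rw [this, e]
  group

end Cfsg.Agent.Lib.Helper5.G2InvZ
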