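import Mathlib
import Cfsg.Agent.Lib.Lead.PTrans
import Cfsg.Agent.Lib.Lead.Imp3
import Cfsg.Agent.Lib.Helper7.HalfTrDefs
import Cfsg.Agent.Lib.Helper4.StabTwo2

set_option autoImplicit false

/-!
# Piece D1 of S3371: a half-transitive dihedral group gives alternative 2
-/

namespace Cfsg.Agent.Lib.Helper5.HalfTr

open Cfsg.Agent.Lib.Lead.PTrans (stab mem_stab)
open Cfsg.Agent.Lib.Lead
open DihedralGroup

section Dih

variable {n : ℕ}

theorem r_central {i : ZMod n} (hi : i + i = 0) :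
    (r i : DihedralGroup n) ∈ Subgroup.center (DihedralGroup n) := by
  have hneg : -i = i := neg_eq_of_add_eq_zero_left hi
  rw [Subgroup.mem_center_iff]
  rintro (j | j)
  · rw [r_mul_r, r_mul_r, add_comm]
  · rw [sr_mul_r, r_mul_sr, sub_eq_add_neg, hneg]

theorem sr_not_central (h2 : (2 : ZMod n) ≠ 0) (i : ZMod n) :
    (sr i : DihedralGroup n) ∉ Subgroup.center (DihedralGroup n) := by
  intro hc
  have h := Subgroup.mem_center_iff.1 hc (r 1)
  rw [r_mul_sr, sr_mul_r] at h
  have h' : i - 1 = i + 1 := sr.inj h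
  apply h2
  have h3 : (2 : ZMod n) = (i + 1) - (i - 1) := by ring
  rw [h3, h', sub_self]

theorem comm_of_two_eq_zero (h2 : (2 : ZMod n) = 0) (a b : DihedralGroup n) :
    a * b = b * a := by
  have hneg : ∀ i : ZMod n, -i = i := by
    intro i
    have h : i + i = 0 := by rw [← two_mul, h2, zero_mul]
    exact neg_eq_of_add_eq_zero_left h
  rcases a with i | i <;> rcases b with j | j
  · rw [r_mul_r, r_mul_r, add_comm]
  · rw [r_mul_sr, sr_mul_r, sub_eq_add_neg, hneg]
  · rw [sr_mul_r, r_mul_sr, sub_eq_add_neg, hneg]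
  · rw [sr_mul_sr, sr_mul_sr, sub_eq_add_neg, sub_eq_add_neg, hneg, hneg, add_comm]

theorem r_sq_eq_one {i : ZMod n} (h : (r i : DihedralGroup n) ^ 2 = 1) : i + i = 0 := by
  rw [pow_two, r_mul_r, one_def] at h
  exact r.inj h

end Dih

variable {q : ℕ} [Fact q.Prime] {V : Type*} [AddCommGroup V] [Module (ZMod q) V] [Finite V]
  {G : Type*} [Group G] [Finite G]

theorem alt2_of_dihedral [Nontrivial V] (p : ℕ) [Fact p.Prime] (hG : IsPGroup p G)
    (ρ : G →* (V ≃ₗ[ZMod q] V)) (hρ : Function.Injective ρ)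
    (hirr : ∀ W : Submodule (ZMod q) V, (∀ g : G, ∀ w ∈ W, ρ g w ∈ W) → W = ⊥ ∨ W = ⊤)
    (s : ℕ) (hs : ∀ v : V, v ≠ 0 → Nat.card (stab ρ v) = s) (hs1 : s ≠ 1)
    (n : ℕ) (hn : Nonempty (G ≃* DihedralGroup n)) :
    Nat.card V = q ^ 2 ∧ ∃ m : ℕ, q = 2 ^ m - 1 ∧ Nonempty (G ≃* DihedralGroup (2 ^ m)) := by
  classical
  obtain ⟨e⟩ := hn
  have hcardG : Nat.card G = 2 * n := by
    rw [Nat.card_congr e.toEquiv, DihedralGroup.nat_card]
  have hn0 : n ≠ 0 := by
    intro h
    have := Nat.card_pos (α := G)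
    omega
  have : NeZero n := ⟨hn0⟩
  obtain ⟨k, hk⟩ := hG.exists_card_eq
  have hp : p.Prime := Fact.out
  have hp2 : p = 2 := by
    have h2 : 2 ∣ p ^ k := by rw [← hk, hcardG]; exact dvd_mul_right 2 n
    exact ((Nat.prime_dvd_prime_iff_eq Nat.prime_two hp).1
      (Nat.Prime.dvd_of_dvd_pow Nat.prime_two h2)).symm
  subst hp2
  have hk0 : k ≠ 0 := by
    rintro rfl
    rw [pow_zero] at hk; omega
  obtain ⟨k', rfl⟩ : ∃ k', k = k' + 1 := ⟨k - 1, by omega⟩
  have hnk : n = 2 ^ k' := by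
    rw [hcardG, pow_succ'] at hk
    exact Nat.eq_of_mul_eq_mul_left (by norm_num) hk
  -- central non-identity elements fix no nonzero vector
  have hcen : ∀ g : G, g ∈ Subgroup.center G → g ≠ 1 → ∀ v : V, v ≠ 0 → g ∉ stab ρ v := by
    intro g hgc hg1 v hv hgv
    have hfix := Imp.fixedSub_central ρ hρ hirr g hgc hg1
    have : v ∈ Imp.fixedSub ρ g := mem_stab.1 hgv
    rw [hfix, Submodule.mem_bot] at this
    exact hv this
  have hcenD : ∀ g : G, e g ∈ Subgroup.center (DihedralGroup n) → g ∈ Subgroup.center G := by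
    intro g hg
    rw [Subgroup.mem_center_iff] at hg ⊢
    intro x
    apply e.injective
    rw [map_mul, map_mul]
    exact hg (e x)
  have hcenD' : ∀ d : DihedralGroup n, e.symm d ∈ Subgroup.center G →
      d ∈ Subgroup.center (DihedralGroup n) := by
    intro d hd
    rw [Subgroup.mem_center_iff] at hd ⊢
    intro y
    have := hd (e.symm y)
    rw [← map_mul, ← map_mul] at this
    exact e.symm.injective this
  obtain ⟨v0, hv0⟩ := exists_ne (0 : V)
  have hne : ∀ v : V, v ≠ 0 → ∃ g ∈ stab ρ v, g ≠ 1 := by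
    intro v hv
    by_contra hcon
    push Not at hcon
    have : stab ρ v = ⊥ := (Subgroup.eq_bot_iff_forall _).2 hcon
    have hcard := hs v hv
    rw [this, Subgroup.card_bot] at hcard
    exact hs1 hcard.symm
  have h2 : (2 : ZMod n) ≠ 0 := by
    intro h2
    obtain ⟨g, hg, hg1⟩ := hne v0 hv0
    refine hcen g (hcenD g ?_) hg1 v0 hv0 hg
    rw [Subgroup.mem_center_iff]
    intro x
    exact comm_of_two_eq_zero h2 x (e g)
  -- stabilizers contain no non-identity rotation
  have hmeet : ∀ v : V, v ≠ 0 → ∀ g ∈ stab ρ v, ∀ i : ZMod n, e g = r i → g = 1 := by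
    intro v hv g hgv i hi
    by_contra hg1
    have hdvd : orderOf g ∣ 2 ^ (k' + 1) := by rw [← hk]; exact orderOf_dvd_natCard g
    obtain ⟨j, -, hj⟩ := (Nat.dvd_prime_pow Nat.prime_two).1 hdvd
    have hj0 : j ≠ 0 := by
      rintro rfl
      rw [pow_zero, orderOf_eq_one_iff] at hj
      exact hg1 hj
    obtain ⟨j', rfl⟩ : ∃ j', j = j' + 1 := ⟨j - 1, by omega⟩
    have ht2 : (g ^ (2 ^ j')) ^ 2 = 1 := by
      rw [← pow_mul, ← pow_succ, ← hj, pow_orderOf_eq_one]
    have ht1 : g ^ (2 ^ j') ≠ 1 := by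
      intro h
      have h3 := orderOf_dvd_of_pow_eq_one h
      rw [hj] at h3
      have h4 := Nat.le_of_dvd (by positivity) h3
      have h5 : 0 < 2 ^ j' := by positivity
      rw [pow_succ] at h4; omega
    have htv : g ^ (2 ^ j') ∈ stab ρ v := (stab ρ v).pow_mem hgv _
    have het : e (g ^ (2 ^ j')) = r (i * ((2 ^ j' : ℕ) : ZMod n)) := by
      rw [map_pow, hi, r_pow]
    have hcent : e (g ^ (2 ^ j')) ∈ Subgroup.center (DihedralGroup n) := by
      rw [het]
      apply r_central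
      apply r_sq_eq_one
      rw [← het, ← map_pow, ht2, map_one]
    exact hcen _ (hcenD _ hcent) ht1 v hv htv
  -- every stabilizer has exactly 2 elements
  have hstab : ∀ v : V, v ≠ 0 → Nat.card {g : G // ρ g v = v} = 2 := by
    intro v hv
    obtain ⟨g, hg, hg1⟩ := hne v hv
    obtain ⟨a, ha⟩ : ∃ a, e g = sr a := by
      rcases h : e g with i | a
      · exact absurd (hmeet v hv g hg i h) hg1
      · exact ⟨a, rfl⟩
    have huniq : ∀ g' ∈ stab ρ v, g' = 1 ∨ g' = g := by
      intro g' hg'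
      rcases h : e g' with i | b
      · left; exact hmeet v hv g' hg' i h
      · right
        have h2' : g⁻¹ * g' ∈ stab ρ v := (stab ρ v).mul_mem ((stab ρ v).inv_mem hg) hg'
        have h3 : e (g⁻¹ * g') = r (b - a) := by
          rw [map_mul, map_inv, ha, h, inv_sr, sr_mul_sr]
        have := hmeet v hv _ h2' _ h3
        exact (inv_mul_eq_one.1 this).symm
    rw [Nat.card_eq_two_iff]
    refine ⟨⟨1, mem_stab.1 (stab ρ v).one_mem⟩, ⟨g, mem_stab.1 hg⟩, ?_, ?_⟩
    · intro h
      have h' := congrArg Subtype.val h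
      exact hg1 h'.symm
    · ext ⟨g', hg'⟩
      simp only [Set.mem_insert_iff, Set.mem_singleton_iff, Set.mem_univ, iff_true]
      rcases huniq g' (mem_stab.2 hg') with h | h
      · left; exact Subtype.ext h
      · right; exact Subtype.ext h
  have hk'1 : 1 ≤ k' := by
    by_contra h
    have hk0' : k' = 0 := by omega
    apply h2
    have h3 : ((2 : ℕ) : ZMod n) = 0 := by
      rw [ZMod.natCast_eq_zero_iff, hnk, hk0', pow_zero]
      exact one_dvd 2
    exact_mod_cast h3
  -- the central involution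
  have hpp : 2 ^ (k' - 1) + 2 ^ (k' - 1) = 2 ^ k' := by
    rw [← two_mul, ← pow_succ']; congr 1; omega
  have hxx : (((2 ^ (k' - 1) : ℕ) : ZMod n)) + (((2 ^ (k' - 1) : ℕ) : ZMod n)) = 0 := by
    rw [← Nat.cast_add, ZMod.natCast_eq_zero_iff, hpp, hnk]
  have hx0 : (((2 ^ (k' - 1) : ℕ) : ZMod n)) ≠ 0 := by
    rw [Ne, ZMod.natCast_eq_zero_iff, hnk]
    intro hd
    have h4 := Nat.le_of_dvd (by positivity) hd
    have hpos : 0 < 2 ^ (k' - 1) := by positivity
    omega
  have hzc : e.symm (r ((2 ^ (k' - 1) : ℕ) : ZMod n)) ∈ Subgroup.center G :=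
    hcenD _ (by rw [e.apply_symm_apply]; exact r_central hxx)
  have hzo : orderOf (e.symm (r ((2 ^ (k' - 1) : ℕ) : ZMod n))) = 2 := by
    apply orderOf_eq_prime
    · rw [← map_pow, pow_two, r_mul_r, hxx, r_zero, map_one]
    · intro h
      apply hx0
      have h5 := congrArg e h
      rw [e.apply_symm_apply, map_one, one_def] at h5
      exact r.inj h5
  obtain ⟨r', hV, hcnt⟩ := Cfsg.Agent.Lib.Helper4.StabTwo.main ρ hstab hρ _ hzo hzc
  -- the noncentral involutions are the reflections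
  have hbij : Nat.card {g : G // orderOf g = 2 ∧ g ∉ Subgroup.center G} = n := by
    refine Eq.trans (Nat.card_congr ?_).symm (Nat.card_zmod n)
    refine Equiv.ofBijective
      (fun i : ZMod n => ⟨e.symm (sr i), ?_, ?_⟩) ⟨?_, ?_⟩
    · rw [e.symm.orderOf_eq (sr i), orderOf_sr]
    · intro hc
      exact sr_not_central h2 i (hcenD' _ hc)
    · intro i j hij
      have h' := congrArg Subtype.val hij
      exact sr.inj (e.symm.injective h')
    · rintro ⟨t, ht, htc⟩
      rcases h : e t with i | a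
      · exfalso
        apply htc
        apply hcenD
        rw [h]
        apply r_central
        apply r_sq_eq_one
        rw [← h, ← map_pow, ← ht, pow_orderOf_eq_one, map_one]
      · refine ⟨a, Subtype.ext ?_⟩
        show e.symm (sr a) = t
        rw [← h, e.symm_apply_apply]
  have heq : 2 ^ k' = q ^ r' + 1 := by rw [← hnk, ← hbij, hcnt]
  have hr' : 1 ≤ r' := by
    rcases Nat.eq_zero_or_pos r' with h0 | h0
    · exfalso
      rw [h0, pow_zero] at heq
      apply h2
      have h3 : ((2 : ℕ) : ZMod n) = 0 := by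
        rw [ZMod.natCast_eq_zero_iff, hnk, heq]
      exact_mod_cast h3
    · exact h0
  have hqp : q.Prime := Fact.out
  rcases Cfsg.Agent.Lib.Lead.PTrans.nt Nat.prime_two hqp hk'1 hr' heq with
    ⟨_, h⟩ | ⟨hq2, h⟩ | ⟨_, h, _⟩
  · subst h
    refine ⟨by simpa using hV, k', ?_, ?_⟩
    · rw [pow_one] at heq; omega
    · rw [← hnk]; exact ⟨e⟩
  · exfalso
    rw [hq2, h] at heq
    have := Nat.one_lt_two_pow (by omega : r' ≠ 0)
    omega
  · omega

end Cfsg.Agent.Lib.Helper5.HalfTr
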