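import Mathlib

/-!
# Arithmetic of the `{2,3}`-part of `q² - 1`
-/

namespace Cfsg.Agent.Lib.Helper5.Hall23Arith

/-- the `{2,3}`-part of `q² - 1` -/
def T23 (q : ℕ) : ℕ := 2 ^ (q ^ 2 - 1).factorization 2 * 3 ^ (q ^ 2 - 1).factorization 3

theorem sq_sub_one_eq (q : ℕ) (hq : 1 ≤ q) : q ^ 2 - 1 = (q - 1) * (q + 1) := by
  obtain ⟨r, rfl⟩ : ∃ r, q = r + 1 := ⟨q - 1, by omega⟩
  have : (r + 1) ^ 2 = r * (r + 1 + 1) + 1 := by ring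
  rw [this]
  simp

theorem T23_pos (q : ℕ) : 0 < T23 q := by
  unfold T23
  positivity

theorem exists_M (q : ℕ) (hq : 2 ≤ q) : ∃ M, q ^ 2 - 1 = T23 q * M ∧ ¬ 2 ∣ M ∧ ¬ 3 ∣ M := by
  have hN : q ^ 2 - 1 ≠ 0 := by
    have : 2 * 2 ≤ q ^ 2 := by nlinarith
    omega
  set N := q ^ 2 - 1 with hNdef
  set N1 := N / 2 ^ N.factorization 2 with hN1
  have e1 : 2 ^ N.factorization 2 * N1 = N := Nat.ordProj_mul_ordCompl_eq_self N 2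
  have h2 : ¬ 2 ∣ N1 := Nat.not_dvd_ordCompl Nat.prime_two hN
  have hN1' : N1 ≠ 0 := by
    intro h
    rw [h, mul_zero] at e1
    exact hN e1.symm
  have hf : N1.factorization 3 = N.factorization 3 := by
    rw [hN1, Nat.factorization_ordCompl]
    exact Finsupp.erase_ne (by norm_num)
  set M := N1 / 3 ^ N1.factorization 3 with hM
  have e2 : 3 ^ N1.factorization 3 * M = N1 := Nat.ordProj_mul_ordCompl_eq_self N1 3
  have h3 : ¬ 3 ∣ M := Nat.not_dvd_ordCompl Nat.prime_three hN1'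
  refine ⟨M, ?_, ?_, h3⟩
  · unfold T23
    rw [← hNdef, ← hf, mul_assoc, e2, e1]
  · intro h
    apply h2
    rw [← e2]
    exact Dvd.dvd.mul_left h _

theorem coprime_T23 (q u : ℕ) (h2 : ¬ 2 ∣ u) (h3 : ¬ 3 ∣ u) : Nat.Coprime (T23 q) u := by
  unfold T23
  refine Nat.Coprime.mul_left ?_ ?_
  · exact Nat.Coprime.pow_left _ ((Nat.Prime.coprime_iff_not_dvd Nat.prime_two).2 h2)
  · exact Nat.Coprime.pow_left _ ((Nat.Prime.coprime_iff_not_dvd Nat.prime_three).2 h3)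

theorem prime_dvd_T23 (q r : ℕ) (hr : r.Prime) (h : r ∣ T23 q) : r = 2 ∨ r = 3 := by
  unfold T23 at h
  rcases (Nat.Prime.dvd_mul hr).1 h with h | h
  · left
    exact (Nat.prime_dvd_prime_iff_eq hr Nat.prime_two).1 (hr.dvd_of_dvd_pow h)
  · right
    exact (Nat.prime_dvd_prime_iff_eq hr Nat.prime_three).1 (hr.dvd_of_dvd_pow h)

theorem eight_dvd_sq_sub_one (q : ℕ) (hq2 : ¬ 2 ∣ q) : 8 ∣ q ^ 2 - 1 := by
  obtain ⟨j, rfl⟩ : ∃ j, q = 2 * j + 1 := ⟨q / 2, by omega⟩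
  have h1 : (2 * j + 1) ^ 2 - 1 = 4 * (j * (j + 1)) := by
    have : (2 * j + 1) ^ 2 = 4 * (j * (j + 1)) + 1 := by ring
    rw [this]; simp
  rw [h1]
  obtain ⟨c, hc⟩ : 2 ∣ j * (j + 1) := (Nat.even_mul_succ_self j).two_dvd
  exact ⟨c, by rw [hc]; ring⟩

theorem three_dvd_sq_sub_one (q : ℕ) (hq3 : ¬ 3 ∣ q) : 3 ∣ q ^ 2 - 1 := by
  have hq1 : 1 ≤ q := by
    rcases Nat.eq_zero_or_pos q with h | h
    · subst h; simp at hq3
    · exact h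
  rw [sq_sub_one_eq q hq1]
  have : (q - 1) % 3 = 0 ∨ (q + 1) % 3 = 0 := by omega
  rcases this with h | h
  · exact Dvd.dvd.mul_right (Nat.dvd_of_mod_eq_zero h) _
  · exact Dvd.dvd.mul_left (Nat.dvd_of_mod_eq_zero h) _

theorem eight_dvd_T23 (q : ℕ) (hq : 2 ≤ q) (hq2 : ¬ 2 ∣ q) : 8 ∣ T23 q := by
  obtain ⟨M, hM, hM2, -⟩ := exists_M q hq
  have h8 := eight_dvd_sq_sub_one q hq2
  rw [hM] at h8
  have hc : Nat.Coprime 8 M := by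
    have : (8 : ℕ) = 2 ^ 3 := by norm_num
    rw [this]
    exact Nat.Coprime.pow_left _ ((Nat.Prime.coprime_iff_not_dvd Nat.prime_two).2 hM2)
  exact hc.dvd_of_dvd_mul_right h8

/-- if `x y = q² - 1` with `y` even then `T23 q ∤ x` -/
theorem T23_not_dvd (q x y : ℕ) (hq : 2 ≤ q) (hxy : x * y = q ^ 2 - 1) (hy : 2 ∣ y) :
    ¬ T23 q ∣ x := by
  rintro ⟨e, he⟩
  obtain ⟨M, hM, hM2, -⟩ := exists_M q hq
  rw [hM, he, mul_assoc] at hxy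
  have := Nat.eq_of_mul_eq_mul_left (T23_pos q) hxy
  apply hM2
  rw [← this]
  exact Dvd.dvd.mul_left hy _

/-- if `x y = q² - 1` and `T23 q ∣ 2 x` then `y / 2` is prime to `6` -/
theorem not_dvd_of_T23_dvd (q x y : ℕ) (hq : 2 ≤ q) (hxy : x * y = q ^ 2 - 1)
    (h : T23 q ∣ 2 * x) : ¬ 4 ∣ y ∧ ¬ 3 ∣ y := by
  obtain ⟨e, he⟩ := h
  obtain ⟨M, hM, hM2, hM3⟩ := exists_M q hq
  have h1 : T23 q * (e * y) = T23 q * (2 * M) := by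
    calc T23 q * (e * y) = (2 * x) * y := by rw [he]; ring
      _ = 2 * (x * y) := by ring
      _ = T23 q * (2 * M) := by rw [hxy, hM]; ring
  have h2 := Nat.eq_of_mul_eq_mul_left (T23_pos q) h1
  constructor
  · rintro ⟨c, hc⟩
    apply hM2
    rw [hc] at h2
    exact ⟨e * c, by
      have : 2 * (2 * (e * c)) = 2 * M := by rw [← h2]; ring
      omega⟩
  · intro h3
    have h4 : 3 ∣ 2 * M := by
      rw [← h2]; exact Dvd.dvd.mul_left h3 _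
    exact hM3 ((Nat.Coprime.dvd_of_dvd_mul_left (by norm_num) h4))

/-- if `x (2u) = q² - 1` with `u` prime to `6` then `T23 q = 4 k` with `k ∣ x / 2` -/
theorem exists_k_of_coprime (q x u : ℕ) (hq : 2 ≤ q) (hq2 : ¬ 2 ∣ q) (hxu : x * (2 * u) = q ^ 2 - 1)
    (hu2 : ¬ 2 ∣ u) (hu3 : ¬ 3 ∣ u) : ∃ k, T23 q = 4 * k ∧ k ∣ x / 2 := by
  obtain ⟨M, hM, -, -⟩ := exists_M q hq
  have h1 : T23 q ∣ (x * 2) * u := ⟨M, by rw [← hM, ← hxu]; ring⟩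
  have h2 : T23 q ∣ x * 2 := (coprime_T23 q u hu2 hu3).dvd_of_dvd_mul_right h1
  obtain ⟨k', hk'⟩ := eight_dvd_T23 q hq hq2
  refine ⟨2 * k', by rw [hk']; ring, ?_⟩
  obtain ⟨c, hc⟩ := h2
  rw [hk'] at hc
  refine ⟨c, ?_⟩
  have : x * 2 = 4 * (2 * k' * c) := by rw [hc]; ring
  generalize 2 * k' * c = w at this ⊢
  omega

theorem mod_eight_of_sixteen_dvd (q : ℕ) (hq : 1 ≤ q) (h : 16 ∣ q ^ 2 - 1) :
    q % 8 = 1 ∨ q % 8 = 7 := by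
  have h1 : q ^ 2 % 16 = 1 := by
    have : 1 ≤ q ^ 2 := Nat.one_le_pow _ _ hq
    omega
  rw [pow_two, Nat.mul_mod] at h1
  have h2 : q % 16 < 16 := Nat.mod_lt _ (by norm_num)
  have h3 : q % 8 = (q % 16) % 8 := by omega
  rw [h3]
  generalize q % 16 = r at h1 h2
  interval_cases r <;> simp_all

theorem three_dvd_add_one (q : ℕ) (hq : 1 ≤ q) (h3 : ¬ 3 ∣ q) (h : ¬ 3 ∣ q - 1) : 3 ∣ q + 1 := by
  apply Nat.dvd_of_mod_eq_zero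
  omega

theorem three_dvd_sub_one (q : ℕ) (hq : 1 ≤ q) (h3 : ¬ 3 ∣ q) (h : ¬ 3 ∣ q + 1) : 3 ∣ q - 1 := by
  apply Nat.dvd_of_mod_eq_zero
  omega

theorem mod_four_eq_three (q : ℕ) (hq : 1 ≤ q) (h2 : ¬ 2 ∣ q) (h : ¬ 4 ∣ q - 1) : q % 4 = 3 := by
  omega

theorem mod_four_eq_one (q : ℕ) (hq : 1 ≤ q) (h2 : ¬ 2 ∣ q) (h : ¬ 4 ∣ q + 1) : q % 4 = 1 := by
  omega

end Cfsg.Agent.Lib.Helper5.Hall23Arith
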