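import Mathlib

/-!
# Subgroups of dihedral groups of every even order `2k`, `k ∣ n`
-/

namespace Cfsg.Agent.Lib.Helper5.Hall23Dih

open DihedralGroup

/-- the additive embedding `ZMod k → ZMod n`, `i ↦ (n/k) i`, for `k ∣ n` -/
noncomputable def zEmb (n k : ℕ) (hk : k ∣ n) : ZMod k →+ ZMod n :=
  ZMod.lift k ⟨(AddMonoidHom.mulLeft (((n / k : ℕ) : ZMod n))).comp (Int.castAddHom (ZMod n)), by
    show ((n / k : ℕ) : ZMod n) * (((k : ℕ) : ℤ) : ZMod n) = 0
    rw [Int.cast_natCast, ← Nat.cast_mul, Nat.div_mul_cancel hk, ZMod.natCast_self]⟩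

theorem zEmb_injective (n k : ℕ) (hn : 0 < n) (hk : k ∣ n) : Function.Injective (zEmb n k hk) := by
  unfold zEmb
  rw [ZMod.lift_injective]
  intro m hm
  have hm' : ((n / k : ℕ) : ZMod n) * ((m : ℤ) : ZMod n) = 0 := hm
  have h1 : (((n / k : ℕ) : ℤ) * m : ℤ) = (((n / k : ℕ) : ℤ) * m : ℤ) := rfl
  have h2 : ((((n / k : ℕ) : ℤ) * m : ℤ) : ZMod n) = 0 := by
    rw [Int.cast_mul, Int.cast_natCast]
    exact hm'
  rw [ZMod.intCast_zmod_eq_zero_iff_dvd] at h2 ⊢
  obtain ⟨c, hc⟩ := hk
  have hk0 : 0 < k := by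
    rcases Nat.eq_zero_or_pos k with h | h
    · subst h; omega
    · exact h
  have hnk : n / k = c := by
    rw [hc]; exact Nat.mul_div_cancel_left c hk0
  have hc0 : 0 < c := by
    rcases Nat.eq_zero_or_pos c with h | h
    · subst h; omega
    · exact h
  rw [hnk, hc] at h2
  have h3 : ((k * c : ℕ) : ℤ) = (c : ℤ) * (k : ℤ) := by push_cast; ring
  rw [h3] at h2
  exact (mul_dvd_mul_iff_left (by exact_mod_cast hc0.ne')).1 h2

/-- the embedding `D_k → D_n` for `k ∣ n` -/
noncomputable def dEmb (n k : ℕ) (hk : k ∣ n) : DihedralGroup k →* DihedralGroup n where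
  toFun g := match g with
    | r i => r (zEmb n k hk i)
    | sr i => sr (zEmb n k hk i)
  map_one' := by
    show (match (r 0 : DihedralGroup k) with
      | r i => r (zEmb n k hk i)
      | sr i => sr (zEmb n k hk i)) = 1
    simp only [map_zero, r_zero]
  map_mul' := by
    rintro (i | i) (j | j)
    · simp only [r_mul_r, map_add]
    · simp only [r_mul_sr, map_sub]
    · simp only [sr_mul_r, map_add]
    · simp only [sr_mul_sr, map_sub]

theorem dEmb_injective (n k : ℕ) (hn : 0 < n) (hk : k ∣ n) : Function.Injective (dEmb n k hk) := by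
  have hz := zEmb_injective n k hn hk
  rintro (i | i) (j | j) h
  · have h' : (r (zEmb n k hk i) : DihedralGroup n) = r (zEmb n k hk j) := h
    rw [r.injEq] at h'
    rw [hz h']
  · have h' : (r (zEmb n k hk i) : DihedralGroup n) = sr (zEmb n k hk j) := h
    exact absurd h' (by simp)
  · have h' : (sr (zEmb n k hk i) : DihedralGroup n) = r (zEmb n k hk j) := h
    exact absurd h' (by simp)
  · have h' : (sr (zEmb n k hk i) : DihedralGroup n) = sr (zEmb n k hk j) := h
    rw [sr.injEq] at h'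
    rw [hz h']

/-- `D_n` has a subgroup of order `2k` for each `k ∣ n` -/
theorem exists_subgroup_card (n k : ℕ) (hn : 0 < n) (hk : k ∣ n) :
    ∃ K : Subgroup (DihedralGroup n), Nat.card K = 2 * k := by
  refine ⟨(dEmb n k hk).range, ?_⟩
  rw [← DihedralGroup.nat_card (n := k)]
  exact (Nat.card_congr (MonoidHom.ofInjective (dEmb_injective n k hn hk)).toEquiv).symm

/-- transfer along an isomorphism from a subgroup -/
theorem exists_subgroup_card_of_iso {G : Type*} [Group G] (H : Subgroup G) (n k : ℕ) (hn : 0 < n)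
    (hk : k ∣ n) (e : H ≃* DihedralGroup n) : ∃ K : Subgroup G, Nat.card K = 2 * k := by
  obtain ⟨K, hK⟩ := exists_subgroup_card n k hn hk
  refine ⟨(K.map e.symm.toMonoidHom).map H.subtype, ?_⟩
  rw [← hK]
  have h1 : Nat.card ((K.map e.symm.toMonoidHom).map H.subtype) =
      Nat.card (K.map e.symm.toMonoidHom) :=
    Nat.card_congr ((K.map e.symm.toMonoidHom).equivMapOfInjective H.subtype
      H.subtype_injective).toEquiv.symm
  rw [h1]
  exact Nat.card_congr (K.equivMapOfInjective e.symm.toMonoidHom e.symm.injective).toEquiv.symm
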