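import Mathlib
import Cfsg.Prelude.Def_OddOrderLocal
import Cfsg.Agent.Lib.Helper5.Hall23Dih
import Cfsg.Agent.Lib.Helper5.Hall23Arith
import Cfsg.Agent.Lib.Helper5.DicksonOrders
import Cfsg.Agent.Lib.Helper5.PSL2Tori
import Cfsg.Agent.Lib.Helper5.PSL2A4
import Cfsg.Agent.Lib.Helper5.PSL2S4

/-!
# Hall `{2,3}`-subgroups of `PSL₂(q)`, `q` prime to `6`
-/

set_option autoImplicit false

namespace Cfsg.Agent.Lib.Helper5.Hall23

open Cfsg.Agent.Lib.Helper5.Hall23Arith Cfsg.Agent.Lib.Helper5.Hall23Dih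
  Cfsg.Agent.Lib.Helper5.DicksonOrders

variable {F : Type*} [Field F] [Fintype F] {p : ℕ} [Fact p.Prime] [CharP F p]

local notation "PSL2" => Matrix.ProjectiveSpecialLinearGroup (Fin 2) F

omit [Fact p.Prime] in
theorem card_facts (hp : 5 ≤ p) :
    ¬ 2 ∣ Fintype.card F ∧ ¬ 3 ∣ Fintype.card F ∧ 5 ≤ Fintype.card F := by
  obtain ⟨n, hpp, hn⟩ := FiniteField.card F p
  rw [hn]
  refine ⟨?_, ?_, ?_⟩
  · intro h
    have := (Nat.prime_dvd_prime_iff_eq Nat.prime_two hpp).1 (Nat.prime_two.dvd_of_dvd_pow h)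
    omega
  · intro h
    have := (Nat.prime_dvd_prime_iff_eq Nat.prime_three hpp).1 (Nat.prime_three.dvd_of_dvd_pow h)
    omega
  · calc 5 ≤ p := hp
      _ = p ^ 1 := (pow_one p).symm
      _ ≤ p ^ (n : ℕ) := Nat.pow_le_pow_right (by omega) n.pos

theorem gcd_two_eq (q : ℕ) (hq2 : ¬ 2 ∣ q) : Nat.gcd 2 (q - 1) = 2 :=
  Nat.gcd_eq_left (by omega)

omit [Fact p.Prime] in
theorem two_mul_card (hp : 5 ≤ p) :
    2 * Nat.card PSL2 = Fintype.card F * (Fintype.card F ^ 2 - 1) := by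
  obtain ⟨h2, -, h5⟩ := card_facts (F := F) hp
  have := card_PSL2_mul (F := F)
  rw [gcd_two_eq _ h2] at this
  rw [this, sq_sub_one_eq _ (by omega)]

omit [Fact p.Prime] in
theorem isPiHall_iff (hp : 5 ≤ p) (H : Subgroup PSL2) :
    Cfsg.IsPiHall ({2, 3} : Set ℕ) H ↔ 2 * Nat.card H = T23 (Fintype.card F) := by
  obtain ⟨hq2, hq3, hq5⟩ := card_facts (F := F) hp
  set q := Fintype.card F with hqdef
  obtain ⟨M, hM, hM2, hM3⟩ := exists_M q (by omega)
  have hG := two_mul_card (F := F) hp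
  rw [← hqdef, hM] at hG
  have hidx : 2 * Nat.card H * H.index = T23 q * (q * M) := by
    rw [mul_assoc, Subgroup.card_mul_index, hG]; ring
  have hqM2 : ¬ 2 ∣ q * M := fun h => (Nat.prime_two.dvd_mul.1 h).elim hq2 hM2
  have hqM3 : ¬ 3 ∣ q * M := fun h => (Nat.prime_three.dvd_mul.1 h).elim hq3 hM3
  constructor
  · rintro ⟨h1, h2⟩
    have hi2 : ¬ 2 ∣ H.index := h2 2 Nat.prime_two (by simp)
    have hi3 : ¬ 3 ∣ H.index := h2 3 Nat.prime_three (by simp)
    apply Nat.dvd_antisymm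
    · have hc : Nat.Coprime (2 * Nat.card H) (q * M) := by
        apply Nat.coprime_of_dvd
        intro k hk hk1 hk2
        have hk23 : k = 2 ∨ k = 3 := by
          rcases (Nat.Prime.dvd_mul hk).1 hk1 with h | h
          · left; exact (Nat.prime_dvd_prime_iff_eq hk Nat.prime_two).1 h
          · have := h1 k hk h
            simpa using this
        rcases hk23 with rfl | rfl
        · exact hqM2 hk2
        · exact hqM3 hk2
      have hd : 2 * Nat.card H ∣ T23 q * (q * M) := ⟨H.index, hidx.symm⟩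
      exact hc.dvd_of_dvd_mul_right hd
    · have hc : Nat.Coprime (T23 q) H.index := coprime_T23 q _ hi2 hi3
      have hd : T23 q ∣ 2 * Nat.card H * H.index := ⟨q * M, hidx⟩
      exact hc.dvd_of_dvd_mul_right hd
  · intro h
    rw [h] at hidx
    have hi : H.index = q * M := Nat.eq_of_mul_eq_mul_left (T23_pos q) hidx
    constructor
    · intro k hk hk1
      have : k ∣ T23 q := by rw [← h]; exact Dvd.dvd.mul_left hk1 _
      rcases prime_dvd_T23 q k hk this with rfl | rfl <;> simp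
    · intro k hk hk1
      rw [hi]
      have : k = 2 ∨ k = 3 := by simpa using hk1
      rcases this with rfl | rfl
      · exact hqM2
      · exact hqM3

omit [Fact p.Prime] in
/-- existence part, given a subgroup of the right order -/
theorem exists_hall_of_card (hp : 5 ≤ p) (H : Subgroup PSL2)
    (h : 2 * Nat.card H = T23 (Fintype.card F)) :
    ∃ H : Subgroup PSL2, Cfsg.IsPiHall ({2, 3} : Set ℕ) H :=
  ⟨H, (isPiHall_iff hp H).2 h⟩

omit [Fact p.Prime] in
theorem exists_of_case1 (hp : 5 ≤ p) (h3 : 3 ∣ Fintype.card F - 1) (h4 : Fintype.card F % 4 = 1) :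
    ∃ H : Subgroup PSL2, 2 * Nat.card H = T23 (Fintype.card F) := by
  obtain ⟨hq2, hq3, hq5⟩ := card_facts (F := F) hp
  obtain ⟨H, ⟨e⟩⟩ := Cfsg.Agent.Lib.Helper5.PSL2Tori.exists_psl_dihedral_sub (F := F)
  set q := Fintype.card F with hqdef
  rw [gcd_two_eq q hq2] at e
  obtain ⟨u, hu⟩ : ∃ u, q + 1 = 2 * u := ⟨(q + 1) / 2, by omega⟩
  obtain ⟨k, hk, hkd⟩ := exists_k_of_coprime q (q - 1) u (by omega) hq2
    (by rw [← hu, sq_sub_one_eq q (by omega)]) (by omega) (by omega)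
  obtain ⟨K, hK⟩ := exists_subgroup_card_of_iso H ((q - 1) / 2) k (by omega) hkd e
  exact ⟨K, by rw [hK, hk]; ring⟩

omit [Fact p.Prime] in
theorem exists_of_case2 (hp : 5 ≤ p) (h3 : 3 ∣ Fintype.card F + 1) (h4 : Fintype.card F % 4 = 3) :
    ∃ H : Subgroup PSL2, 2 * Nat.card H = T23 (Fintype.card F) := by
  obtain ⟨hq2, hq3, hq5⟩ := card_facts (F := F) hp
  obtain ⟨H, ⟨e⟩⟩ := Cfsg.Agent.Lib.Helper5.PSL2Tori.exists_psl_dihedral_add (F := F)
  set q := Fintype.card F with hqdef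
  rw [gcd_two_eq q hq2] at e
  obtain ⟨u, hu⟩ : ∃ u, q - 1 = 2 * u := ⟨(q - 1) / 2, by omega⟩
  obtain ⟨k, hk, hkd⟩ := exists_k_of_coprime q (q + 1) u (by omega) hq2
    (by rw [← hu, sq_sub_one_eq q (by omega)]; ring) (by omega) (by omega)
  obtain ⟨K, hK⟩ := exists_subgroup_card_of_iso H ((q + 1) / 2) k (by omega) hkd e
  exact ⟨K, by rw [hK, hk]; ring⟩

omit [Fact p.Prime] in
theorem exists_of_case3 (hp : 5 ≤ p) (h : T23 (Fintype.card F) = 24) :
    ∃ H : Subgroup PSL2, 2 * Nat.card H = T23 (Fintype.card F) := by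
  obtain ⟨hq2, hq3, hq5⟩ := card_facts (F := F) hp
  obtain ⟨H, ⟨e⟩⟩ := Cfsg.Agent.Lib.Helper5.PSL2A4.exists_A4_odd (F := F) (by omega)
  refine ⟨H, ?_⟩
  rw [Nat.card_congr e.toEquiv, card_A4, h]

omit [Fact p.Prime] in
theorem exists_of_case4 (hp : 5 ≤ p) (h : T23 (Fintype.card F) = 48) :
    ∃ H : Subgroup PSL2, 2 * Nat.card H = T23 (Fintype.card F) := by
  obtain ⟨hq2, hq3, hq5⟩ := card_facts (F := F) hp
  obtain ⟨M, hM, -, -⟩ := exists_M (Fintype.card F) (by omega)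
  have h16 : 16 ∣ Fintype.card F ^ 2 - 1 := by
    rw [hM, h]; exact Dvd.dvd.mul_right (by norm_num) _
  have h8 := mod_eight_of_sixteen_dvd _ (by omega) h16
  obtain ⟨s, hs⟩ : IsSquare (2 : F) := FiniteField.isSquare_two_iff.2 (by omega)
  obtain ⟨H, ⟨e⟩⟩ := Cfsg.Agent.Lib.Helper5.PSL2S4.exists_S4 (F := F) (by omega) s hs.symm
  refine ⟨H, ?_⟩
  rw [Nat.card_congr e.toEquiv, card_S4, h]

/-- necessity -/
theorem cases_of_card (hp : 5 ≤ p) (H : Subgroup PSL2)
    (h : 2 * Nat.card H = T23 (Fintype.card F)) :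
    (3 ∣ Fintype.card F - 1 ∧ Fintype.card F % 4 = 1) ∨
    (3 ∣ Fintype.card F + 1 ∧ Fintype.card F % 4 = 3) ∨
    T23 (Fintype.card F) = 24 ∨ T23 (Fintype.card F) = 48 := by
  obtain ⟨hq2, hq3, hq5⟩ := card_facts (F := F) hp
  have hD := dickson_card p H
  set q := Fintype.card F with hqdef
  rw [gcd_two_eq q hq2] at hD
  have hN1 : (q + 1) * (q - 1) = q ^ 2 - 1 := by rw [sq_sub_one_eq q (by omega)]; ring
  have hN2 : (q - 1) * (q + 1) = q ^ 2 - 1 := by rw [sq_sub_one_eq q (by omega)]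
  rcases hD with ⟨k, hk, hc⟩ | hD | hD | hD | hD | ⟨q₀, m, hq₀, hm, hc⟩
  · rcases hk with ⟨c, hc'⟩ | ⟨c, hc'⟩
    · -- k ∣ (q + 1) / 2
      have hx : q + 1 = 2 * (k * c) := by
        generalize k * c = w at hc'; omega
      rcases hc with hc | hc
      · exfalso
        refine T23_not_dvd q (q + 1) (q - 1) (by omega) hN1 (by omega) ⟨c, ?_⟩
        rw [← h, hc, hx]; ring
      · have := not_dvd_of_T23_dvd q (q + 1) (q - 1) (by omega) hN1 ⟨c, by
          rw [← h, hc, hx]; ring⟩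
        right; left
        exact ⟨three_dvd_add_one q (by omega) hq3 this.2, mod_four_eq_three q (by omega) hq2 this.1⟩
    · -- k ∣ (q - 1) / 2
      have hx : q - 1 = 2 * (k * c) := by
        generalize k * c = w at hc'; omega
      rcases hc with hc | hc
      · exfalso
        refine T23_not_dvd q (q - 1) (q + 1) (by omega) hN2 (by omega) ⟨c, ?_⟩
        rw [← h, hc, hx]; ring
      · have := not_dvd_of_T23_dvd q (q - 1) (q + 1) (by omega) hN2 ⟨c, by
          rw [← h, hc, hx]; ring⟩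
        left
        exact ⟨three_dvd_sub_one q (by omega) hq3 this.2, mod_four_eq_one q (by omega) hq2 this.1⟩
  · exfalso
    rw [h] at hD
    have hc : Nat.Coprime (T23 q) q := coprime_T23 q q hq2 hq3
    have hd : T23 q ∣ (q - 1) * q := by rw [mul_comm]; exact hD
    exact T23_not_dvd q (q - 1) (q + 1) (by omega) hN2 (by omega) (hc.dvd_of_dvd_mul_right hd)
  · right; right; left
    rw [← h, hD]
  · right; right; right
    rw [← h, hD]
  · exfalso
    have h5 : 5 ∣ T23 q := ⟨24, by rw [← h, hD]⟩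
    rcases prime_dvd_T23 q 5 (by norm_num) h5 with h | h <;> omega
  · exfalso
    have hm0 : m ≠ 0 := by
      rintro rfl
      rw [pow_zero] at hm
      omega
    obtain ⟨r, hr, hrd⟩ := Nat.exists_prime_and_dvd (show q₀ ≠ 1 by omega)
    have hrq : r ∣ q := by
      rw [← hm]; exact Dvd.dvd.trans hrd (dvd_pow_self _ hm0)
    have hr23 : r = 2 ∨ r = 3 := by
      rcases hc with hc | hc
      · have h1 : r ∣ Nat.gcd 2 (q₀ - 1) * Nat.card H := by
          rw [hc]; exact Dvd.dvd.mul_right hrd _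
        rcases (Nat.Prime.dvd_mul hr).1 h1 with h2 | h2
        · left
          exact (Nat.prime_dvd_prime_iff_eq hr Nat.prime_two).1
            (Dvd.dvd.trans h2 (Nat.gcd_dvd_left _ _))
        · exact prime_dvd_T23 q r hr (by rw [← h]; exact Dvd.dvd.mul_left h2 _)
      · have h2 : r ∣ Nat.card H := by
          rw [hc]; exact Dvd.dvd.mul_right hrd _
        exact prime_dvd_T23 q r hr (by rw [← h]; exact Dvd.dvd.mul_left h2 _)
    rcases hr23 with rfl | rfl
    · exact hq2 hrq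
    · exact hq3 hrq

/-- **Hall `{2,3}`-subgroups of `PSL₂(q)`** for `q` prime to `6`. -/
theorem hall23_iff (hp : 5 ≤ p) :
    (∃ H : Subgroup PSL2, Cfsg.IsPiHall ({2, 3} : Set ℕ) H) ↔
      (3 ∣ Fintype.card F - 1 ∧ Fintype.card F % 4 = 1) ∨
      (3 ∣ Fintype.card F + 1 ∧ Fintype.card F % 4 = 3) ∨
      T23 (Fintype.card F) = 24 ∨ T23 (Fintype.card F) = 48 := by
  constructor
  · rintro ⟨H, hH⟩
    exact cases_of_card hp H ((isPiHall_iff hp H).1 hH)
  · rintro (⟨h3, h4⟩ | ⟨h3, h4⟩ | h | h)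
    · obtain ⟨H, hH⟩ := exists_of_case1 hp h3 h4
      exact ⟨H, (isPiHall_iff hp H).2 hH⟩
    · obtain ⟨H, hH⟩ := exists_of_case2 hp h3 h4
      exact ⟨H, (isPiHall_iff hp H).2 hH⟩
    · obtain ⟨H, hH⟩ := exists_of_case3 hp h
      exact ⟨H, (isPiHall_iff hp H).2 hH⟩
    · obtain ⟨H, hH⟩ := exists_of_case4 hp h
      exact ⟨H, (isPiHall_iff hp H).2 hH⟩

end Cfsg.Agent.Lib.Helper5.Hall23
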