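import Mathlib
import Cfsg.Prelude
import Cfsg.Agent.Lib.Helper5.HermTv
import Cfsg.Agent.Lib.Helper5.HermCenter
import Cfsg.Agent.Lib.Helper4.SLCard

set_option autoImplicit false
set_option linter.unusedSectionVars false
set_option linter.unusedVariables false
set_option linter.unusedSimpArgs false
open Cfsg

/-! `SU_2(q) ≅ SL_2(q)`. -/

namespace Cfsg.Agent.Lib.Helper5.SU2

open Matrix Cfsg.Agent.Lib.Helper5.Herm Cfsg.Agent.Lib.Helper5.HermBlock
  Cfsg.Agent.Lib.Helper5.HermBridge Cfsg.Agent.Lib.Helper5.HermCount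
  Cfsg.Agent.Lib.Helper5.HermCard Cfsg.Agent.Lib.Helper5.HermTv
  Cfsg.Agent.Lib.Helper5.HermCenter

section fixed
variable {F : Type*} [Field F] [Fintype F] {q : ℕ} (hF : Fintype.card F = q ^ 2)

/-- the subfield of elements fixed by `x ↦ x ^ q` -/
def fixedField : Subfield F where
  carrier := {x | x ^ q = x}
  mul_mem' := by
    intro a b ha hb
    show (a * b) ^ q = a * b
    rw [mul_pow, ha, hb]
  one_mem' := one_pow q
  add_mem' := by
    intro a b ha hb
    show (a + b) ^ q = a + b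
    rw [pow_q_add hF, ha, hb]
  zero_mem' := zero_pow (q_ne_zero hF)
  neg_mem' := by
    intro a ha
    show (-a) ^ q = -a
    rw [pow_q_neg hF, ha]
  inv_mem' := by
    intro a ha
    show (a⁻¹) ^ q = a⁻¹
    rw [inv_pow, ha]

theorem mem_fixedField (x : F) : x ∈ fixedField hF ↔ x ^ q = x := Iff.rfl

theorem card_fixedField : Nat.card ↥(fixedField hF) = q := by
  have h2 := two_le_q hF
  have h1 := card_fixed hF
  have hS : ((fixedField hF : Subfield F) : Set F) = insert 0 {c : F | c ≠ 0 ∧ c ^ q = c} := by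
    ext x
    simp only [SetLike.mem_coe, mem_fixedField, Set.mem_insert_iff, Set.mem_ofPred_eq]
    constructor
    · intro hx
      by_cases h0 : x = 0
      · exact Or.inl h0
      · exact Or.inr ⟨h0, hx⟩
    · rintro (rfl | ⟨-, hx⟩)
      · exact zero_pow (q_ne_zero hF)
      · exact hx
  have h3 : Nat.card ↥(fixedField hF) = Set.ncard ((fixedField hF : Subfield F) : Set F) :=
    Nat.card_coe_set_eq _
  rw [h3, hS, Set.ncard_insert_of_notMem (by simp) (Set.toFinite _)]
  have h4 : Set.ncard {c : F | c ≠ 0 ∧ c ^ q = c} = q - 1 := by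
    rw [← Nat.card_coe_set_eq]
    exact h1
  rw [h4]
  omega

end fixed

section hom
variable {F K : Type*} [Field F] [Fintype F] [Field K] [Fintype K] {q : ℕ}
  (hF : Fintype.card F = q ^ 2) (hK : Fintype.card K = q)

include hF hK in
/-- an embedding of the field with `q` elements in the field with `q ^ 2` elements -/
theorem exists_hom : Nonempty (K →+* F) := by
  classical
  have hc : Fintype.card K = Fintype.card ↥(fixedField hF) := by
    rw [hK, ← Nat.card_eq_fintype_card, card_fixedField hF]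
  exact ⟨(fixedField hF).subtype.comp (FiniteField.ringEquivOfCardEq hc).toRingHom⟩

include hK in
theorem hom_fixed (j : K →+* F) (a : K) : (j a) ^ q = j a := by
  rw [← map_pow, ← hK, FiniteField.pow_card]

end hom

section mat
variable {F : Type*} [Field F] [Fintype F] {q : ℕ} (hF : Fintype.card F = q ^ 2)

/-- the Gram matrix of a twisted hyperbolic pair -/
def gram (ε : F) : Matrix (Fin 2) (Fin 2) F := !![0, -ε; ε, 0]

include hF in
theorem exists_P : ∃ (P : Matrix (Fin 2) (Fin 2) F) (ε : F), ε ≠ 0 ∧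
    Pᵀ * P.map (· ^ q) = gram ε := by
  obtain ⟨e, f, he, hf, hef⟩ := exists_hyp_pair hF 2 (le_refl 2)
  obtain ⟨ε, hε0, hε⟩ := exists_trace_zero hF
  have hfe := herm_fe hF hef
  refine ⟨(Matrix.of ![e, ε • f])ᵀ, ε, hε0, ?_⟩
  have key : ∀ i k, ((Matrix.of ![e, ε • f])ᵀᵀ * ((Matrix.of ![e, ε • f])ᵀ).map (· ^ q)) i k =
      hermForm 2 F q (![e, ε • f] i) (![e, ε • f] k) := by
    intro i k
    rw [mul_apply]
    rfl
  ext i k
  rw [key]
  unfold gram
  fin_cases i <;> fin_cases k
  · show hermForm 2 F q e e = 0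
    exact he
  · show hermForm 2 F q e (ε • f) = -ε
    rw [hermForm_smul_right, hef, hε]
    ring
  · show hermForm 2 F q (ε • f) e = ε
    rw [hermForm_smul_left, hfe]
    ring
  · show hermForm 2 F q (ε • f) (ε • f) = 0
    rw [hermForm_smul_left, hermForm_smul_right, hf]
    ring

omit [Fintype F] in
theorem key_two (N : Matrix (Fin 2) (Fin 2) F) (hdet : N.det = 1) (ε : F) :
    Nᵀ * gram ε * N = gram ε := by
  rw [det_fin_two] at hdet
  unfold gram
  ext i j
  fin_cases i <;> fin_cases j <;> simp [mul_apply, Fin.sum_univ_two]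
  · ring
  · linear_combination (-ε) * hdet
  · linear_combination ε * hdet
  · ring

omit [Fintype F] in
theorem det_ne (P : Matrix (Fin 2) (Fin 2) F) (ε : F) (hε0 : ε ≠ 0)
    (hP : Pᵀ * P.map (· ^ q) = gram ε) : P.det ≠ 0 := by
  intro h
  have := congrArg Matrix.det hP
  rw [det_mul, det_transpose, h, zero_mul] at this
  unfold gram at this
  rw [det_fin_two] at this
  simp at this
  exact hε0 this

include hF in
theorem map_mul_sigma (A B : Matrix (Fin 2) (Fin 2) F) :
    (A * B).map (· ^ q) = A.map (· ^ q) * B.map (· ^ q) := by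
  show (A * B).map (Cfsg.Agent.Lib.Helper5.HermBridge.sigma hF) = A.map (Cfsg.Agent.Lib.Helper5.HermBridge.sigma hF) * B.map (Cfsg.Agent.Lib.Helper5.HermBridge.sigma hF)
  exact Matrix.map_mul

include hF in
theorem isU_conj (P : Matrix (Fin 2) (Fin 2) F) (ε : F) (hε0 : ε ≠ 0)
    (hP : Pᵀ * P.map (· ^ q) = gram ε) (N : Matrix (Fin 2) (Fin 2) F) (hdet : N.det = 1)
    (hN : N.map (· ^ q) = N) : IsU q (P * N * P⁻¹) := by
  have hPdet := det_ne P ε hε0 hP
  have hunit : IsUnit P.det := isUnit_iff_ne_zero.mpr hPdet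
  have hPQ : P * P⁻¹ = 1 := mul_nonsing_inv P hunit
  have hone : (1 : Matrix (Fin 2) (Fin 2) F).map (· ^ q) = 1 := by
    show (1 : Matrix (Fin 2) (Fin 2) F).map (Cfsg.Agent.Lib.Helper5.HermBridge.sigma hF) = 1
    exact Matrix.map_one _ (map_zero _) (map_one _)
  have hPQσ : P.map (· ^ q) * P⁻¹.map (· ^ q) = 1 := by
    rw [← map_mul_sigma hF, hPQ, hone]
  unfold IsU
  rw [map_mul_sigma hF, map_mul_sigma hF, hN, transpose_mul, transpose_mul]
  calc P⁻¹ᵀ * (Nᵀ * Pᵀ) * (P.map (· ^ q) * N * P⁻¹.map (· ^ q))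
      = P⁻¹ᵀ * (Nᵀ * (Pᵀ * P.map (· ^ q)) * N) * P⁻¹.map (· ^ q) := by
        simp only [Matrix.mul_assoc]
    _ = P⁻¹ᵀ * (Pᵀ * P.map (· ^ q)) * P⁻¹.map (· ^ q) := by rw [hP, key_two N hdet ε]
    _ = (P * P⁻¹)ᵀ * (P.map (· ^ q) * P⁻¹.map (· ^ q)) := by
        rw [transpose_mul]; simp only [Matrix.mul_assoc]
    _ = 1 := by rw [hPQ, hPQσ, transpose_one, Matrix.mul_one]

end mat

section iso
variable {F K : Type*} [Field F] [Fintype F] [Field K] [Fintype K] {q : ℕ}
  (hF : Fintype.card F = q ^ 2) (hK : Fintype.card K = q)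

/-- conjugating `SL_2(K)` into the unitary group -/
noncomputable def conjMat (P : Matrix (Fin 2) (Fin 2) F) (j : K →+* F)
    (M : Matrix.SpecialLinearGroup (Fin 2) K) : Matrix (Fin 2) (Fin 2) F :=
  P * (M : Matrix (Fin 2) (Fin 2) K).map j * P⁻¹

omit [Fintype F] [Fintype K] in
theorem det_conjMat (P : Matrix (Fin 2) (Fin 2) F) (hP : P.det ≠ 0) (j : K →+* F)
    (M : Matrix.SpecialLinearGroup (Fin 2) K) : (conjMat P j M).det = 1 := by
  unfold conjMat
  have h1 : ((M : Matrix (Fin 2) (Fin 2) K).map j).det = 1 := by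
    have := RingHom.map_det j (M : Matrix (Fin 2) (Fin 2) K)
    rw [M.2, map_one] at this
    exact this.symm
  rw [det_mul, det_mul, h1, mul_one, det_nonsing_inv, Ring.inverse_eq_inv', mul_inv_cancel₀ hP]

include hF hK in
theorem conjMat_mem (P : Matrix (Fin 2) (Fin 2) F) (ε : F) (hε0 : ε ≠ 0)
    (hP : Pᵀ * P.map (· ^ q) = gram ε) (j : K →+* F)
    (M : Matrix.SpecialLinearGroup (Fin 2) K) : IsU q (conjMat P j M) := by
  apply isU_conj hF P ε hε0 hP
  · have := RingHom.map_det j (M : Matrix (Fin 2) (Fin 2) K)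
    rw [M.2, map_one] at this
    exact this.symm
  · ext a b
    simp only [map_apply]
    exact hom_fixed hK j _

/-- the isomorphism, as a homomorphism -/
noncomputable def phi (P : Matrix (Fin 2) (Fin 2) F) (ε : F) (hε0 : ε ≠ 0)
    (hP : Pᵀ * P.map (· ^ q) = gram ε) (j : K →+* F) :
    Matrix.SpecialLinearGroup (Fin 2) K →* ↥(Cfsg.SU 2 F q) where
  toFun M := ⟨⟨conjMat P j M, det_conjMat P (det_ne P ε hε0 hP) j M⟩,
    (mem_SU_iff hF _).mpr (conjMat_mem hF hK P ε hε0 hP j M)⟩
  map_one' := by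
    apply Subtype.ext
    apply Subtype.ext
    show conjMat P j 1 = 1
    unfold conjMat
    have hunit : IsUnit P.det := isUnit_iff_ne_zero.mpr (det_ne P ε hε0 hP)
    rw [Matrix.SpecialLinearGroup.coe_one, Matrix.map_one _ (map_zero _) (map_one _),
      Matrix.mul_one, mul_nonsing_inv P hunit]
  map_mul' M M' := by
    apply Subtype.ext
    apply Subtype.ext
    show conjMat P j (M * M') = conjMat P j M * conjMat P j M'
    unfold conjMat
    have hunit : IsUnit P.det := isUnit_iff_ne_zero.mpr (det_ne P ε hε0 hP)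
    rw [Matrix.SpecialLinearGroup.coe_mul, Matrix.map_mul]
    calc P * ((M : Matrix (Fin 2) (Fin 2) K).map j * (M' : Matrix (Fin 2) (Fin 2) K).map j) * P⁻¹
        = P * (M : Matrix (Fin 2) (Fin 2) K).map j * 1 *
            (M' : Matrix (Fin 2) (Fin 2) K).map j * P⁻¹ := by
          simp only [Matrix.mul_assoc, Matrix.one_mul]
      _ = P * (M : Matrix (Fin 2) (Fin 2) K).map j * (P⁻¹ * P) *
            (M' : Matrix (Fin 2) (Fin 2) K).map j * P⁻¹ := by rw [nonsing_inv_mul P hunit]
      _ = _ := by simp only [Matrix.mul_assoc]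

theorem phi_injective (P : Matrix (Fin 2) (Fin 2) F) (ε : F) (hε0 : ε ≠ 0)
    (hP : Pᵀ * P.map (· ^ q) = gram ε) (j : K →+* F) :
    Function.Injective (phi hF hK P ε hε0 hP j) := by
  intro M M' h
  have h1 : conjMat P j M = conjMat P j M' := congrArg (fun x => x.1.1) h
  unfold conjMat at h1
  have hunit : IsUnit P.det := isUnit_iff_ne_zero.mpr (det_ne P ε hε0 hP)
  have h2 : (M : Matrix (Fin 2) (Fin 2) K).map j = (M' : Matrix (Fin 2) (Fin 2) K).map j := by
    have := congrArg (fun X => P⁻¹ * X * P) h1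
    simp only [Matrix.mul_assoc, nonsing_inv_mul P hunit, Matrix.mul_one] at this
    simp only [← Matrix.mul_assoc, nonsing_inv_mul P hunit, Matrix.one_mul] at this
    exact this
  apply Subtype.ext
  ext a b
  have := congrFun (congrFun h2 a) b
  simp only [map_apply] at this
  exact j.injective this

include hF in
theorem card_SU2 : Nat.card ↥(Cfsg.SU 2 F q) = q * (q ^ 2 - 1) := by
  have h1 := card_SU hF 2 (by norm_num)
  rw [card_GU hF 2] at h1
  simp only [Finset.prod_range_succ, Finset.prod_range_zero, one_mul] at h1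
  norm_num at h1
  have h2 : (q + 1) * Nat.card ↥(Cfsg.SU 2 F q) = (q + 1) * (q * (q ^ 2 - 1)) := by
    rw [h1]; ring
  exact Nat.eq_of_mul_eq_mul_left (by omega) h2

include hF hK in
/-- `SU_2(q) ≅ SL_2(q)` -/
theorem nonempty_mulEquiv : Nonempty (↥(Cfsg.SU 2 F q) ≃* Matrix.SpecialLinearGroup (Fin 2) K) := by
  obtain ⟨P, ε, hε0, hP⟩ := exists_P hF
  obtain ⟨j⟩ := exists_hom hF hK
  have hinj := phi_injective hF hK P ε hε0 hP j
  have hcard : Nat.card ↥(Cfsg.SU 2 F q) ≤ Nat.card (Matrix.SpecialLinearGroup (Fin 2) K) := by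
    rw [card_SU2 hF, Cfsg.Agent.Lib.Helper4.card_SL2, hK]
  have hbij := hinj.bijective_of_nat_card_le hcard
  exact ⟨(MulEquiv.ofBijective (phi hF hK P ε hε0 hP j) hbij).symm⟩

end iso

end Cfsg.Agent.Lib.Helper5.SU2
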