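import Mathlib
import Cfsg.Prelude
import Cfsg.Agent.Lib.Helper5.SU2

set_option autoImplicit false
open Cfsg

/-! The quadratic extension `K / F` of finite fields with an explicit generator. -/

namespace Cfsg.Agent.Lib.Helper5.QuadExt

open Polynomial Cfsg.Agent.Lib.Helper5.Herm

/-- data of a quadratic extension of finite fields generated by a root of `X^2 - aX + b` -/
structure Data (F K : Type*) [Field F] [Fintype F] [Field K] [Fintype K] (q : ℕ) (a b : F) where
  hF : Fintype.card F = q
  hK : Fintype.card K = q ^ 2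
  hab : ∀ z₁ z₂ : F, z₁ ^ 2 + a * z₁ * z₂ + b * z₂ ^ 2 = 0 → z₁ = 0 ∧ z₂ = 0
  j : F →+* K
  θ : K
  hθ : θ ^ 2 - j a * θ + j b = 0

section exist
variable {F K : Type*} [Field F] [Fintype F] [Field K] [Fintype K] {q : ℕ}
  (hF : Fintype.card F = q) (hK : Fintype.card K = q ^ 2) (a b : F)
  (hab : ∀ z₁ z₂ : F, z₁ ^ 2 + a * z₁ * z₂ + b * z₂ ^ 2 = 0 → z₁ = 0 ∧ z₂ = 0)

omit [Fintype F] in
theorem eval₂_quad {R : Type*} [CommRing R] (f : F →+* R) (x : R) :
    (X ^ 2 - C a * X + C b : F[X]).eval₂ f x = x ^ 2 - f a * x + f b := by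
  simp [eval₂_add, eval₂_sub, eval₂_mul, eval₂_pow]

include hF hK hab in
theorem exists_theta : ∃ (j : F →+* K) (θ : K), θ ^ 2 - j a * θ + j b = 0 := by
  classical
  obtain ⟨P, hPdef⟩ : ∃ P : F[X], P = X ^ 2 - C a * X + C b := ⟨_, rfl⟩
  have hdeg : P.natDegree = 2 := by
    rw [hPdef]
    compute_degree!
  have hirr : Irreducible P := by
    apply irreducible_of_degree_le_three_of_not_isRoot
    · rw [hdeg]; simp
    · intro t ht
      have h1 : t ^ 2 - a * t + b = 0 := by simpa [hPdef, IsRoot] using ht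
      have := hab t (-1) (by linear_combination h1)
      have h2 : (-1 : F) = 0 := this.2
      simp at h2
  have : Fact (Irreducible P) := ⟨hirr⟩
  have hP0 : P ≠ 0 := hirr.ne_zero
  have : Module.Finite F (AdjoinRoot P) := (AdjoinRoot.powerBasis hP0).finite
  have : Finite (AdjoinRoot P) := Module.finite_of_finite F
  let _ : Fintype (AdjoinRoot P) := Fintype.ofFinite _
  have hcard : Fintype.card (AdjoinRoot P) = Fintype.card K := by
    rw [Module.card_eq_pow_finrank (K := F) (V := AdjoinRoot P),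
      (AdjoinRoot.powerBasis hP0).finrank, AdjoinRoot.powerBasis_dim, hdeg, hK, hF]
  let e := FiniteField.ringEquivOfCardEq hcard
  refine ⟨e.toRingHom.comp (AdjoinRoot.of P), e (AdjoinRoot.root P), ?_⟩
  have h := AdjoinRoot.eval₂_root P
  have h' : (AdjoinRoot.root P) ^ 2 - AdjoinRoot.of P a * AdjoinRoot.root P +
      AdjoinRoot.of P b = 0 := by
    have h4 : P.eval₂ (AdjoinRoot.of P) (AdjoinRoot.root P) =
        (AdjoinRoot.root P) ^ 2 - AdjoinRoot.of P a * AdjoinRoot.root P + AdjoinRoot.of P b := by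
      have h5 := eval₂_quad a b (AdjoinRoot.of P) (AdjoinRoot.root P)
      rw [← hPdef] at h5
      exact h5
    rw [← h4, h]
  have h3 := congrArg e h'
  simpa using h3

include hF hK hab in
theorem nonempty_data : Nonempty (Data F K q a b) := by
  obtain ⟨j, θ, hθ⟩ := exists_theta hF hK a b hab
  exact ⟨⟨hF, hK, hab, j, θ, hθ⟩⟩

end exist

namespace Data

variable {F K : Type*} [Field F] [Fintype F] [Field K] [Fintype K] {q : ℕ} {a b : F}
  (D : Data F K q a b)

/-- the Frobenius `x ↦ x ^ q` -/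
def frob : K →+* K where
  toFun x := x ^ q
  map_one' := one_pow q
  map_mul' x y := mul_pow x y q
  map_zero' := zero_pow (q_ne_zero D.hK)
  map_add' := pow_q_add D.hK

theorem frob_apply (x : K) : D.frob x = x ^ q := rfl

theorem frob_frob (x : K) : D.frob (D.frob x) = x := pow_q_pow_q D.hK x

theorem frob_j (t : F) : D.frob (D.j t) = D.j t := by
  have h := FiniteField.pow_card t
  rw [D.hF] at h
  rw [frob_apply, ← map_pow, h]

theorem j_injective : Function.Injective D.j := D.j.injective

theorem mem_range_of_frob (x : K) (hx : D.frob x = x) : ∃ t, D.j t = x := by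
  have hsub : Set.range D.j ⊆ ((Cfsg.Agent.Lib.Helper5.SU2.fixedField D.hK : Subfield K) : Set K) := by
    rintro _ ⟨t, rfl⟩
    exact D.frob_j t
  have hc1 : (Set.range D.j).ncard = q := by
    rw [← Nat.card_coe_set_eq, Nat.card_range_of_injective D.j_injective, Nat.card_eq_fintype_card,
      D.hF]
  have hc2 : ((Cfsg.Agent.Lib.Helper5.SU2.fixedField D.hK : Subfield K) : Set K).ncard = q := by
    rw [← Nat.card_coe_set_eq]
    exact Cfsg.Agent.Lib.Helper5.SU2.card_fixedField D.hK
  have heq := Set.eq_of_subset_of_ncard_le hsub (by rw [hc1, hc2]) (Set.toFinite _)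
  have : x ∈ Set.range D.j := by
    rw [heq]
    exact hx
  exact this

theorem theta_ne (t : F) : D.j t ≠ D.θ := by
  intro h
  have h1 := D.hθ
  rw [← h, ← map_pow, ← map_mul, ← map_sub, ← map_add] at h1
  have h2 : t ^ 2 - a * t + b = 0 := D.j_injective (by rw [h1, map_zero])
  have := D.hab t (-1) (by linear_combination h2)
  have h3 : (-1 : F) = 0 := this.2
  simp at h3

theorem frob_theta : D.frob D.θ = D.j a - D.θ := by
  have h1 : (D.frob D.θ) ^ 2 - D.j a * D.frob D.θ + D.j b = 0 := by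
    have := congrArg D.frob D.hθ
    rw [map_add, map_sub, map_mul, map_pow, frob_j, frob_j, map_zero] at this
    exact this
  have h2 : (D.frob D.θ - D.θ) * (D.frob D.θ - (D.j a - D.θ)) = 0 := by
    linear_combination h1 - D.hθ
  rcases mul_eq_zero.mp h2 with h | h
  · exfalso
    obtain ⟨t, ht⟩ := D.mem_range_of_frob D.θ (by linear_combination h)
    exact D.theta_ne t ht
  · linear_combination h

/-- the coordinates `(z0, z1) ↦ z0 + z1 θ` -/
def coord (z0 z1 : F) : K := D.j z0 + D.j z1 * D.θ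

theorem coord_add (z0 z1 w0 w1 : F) :
    D.coord (z0 + w0) (z1 + w1) = D.coord z0 z1 + D.coord w0 w1 := by
  simp only [coord, map_add]
  ring

theorem coord_smul (c z0 z1 : F) : D.coord (c * z0) (c * z1) = D.j c * D.coord z0 z1 := by
  simp only [coord, map_mul]
  ring

theorem coord_eq_zero (z0 z1 : F) (h : D.coord z0 z1 = 0) : z0 = 0 ∧ z1 = 0 := by
  by_cases h1 : z1 = 0
  · subst h1
    refine ⟨?_, rfl⟩
    apply D.j_injective
    simpa [coord] using h
  · exfalso
    apply D.theta_ne (-(z0 / z1))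
    have hj : D.j z1 ≠ 0 := by
      intro h0
      exact h1 (D.j_injective (by rw [h0, map_zero]))
    rw [map_neg, map_div₀]
    field_simp
    unfold coord at h
    linear_combination -h

theorem coord_injective (z0 z1 w0 w1 : F) (h : D.coord z0 z1 = D.coord w0 w1) :
    z0 = w0 ∧ z1 = w1 := by
  have h1 : D.coord (z0 - w0) (z1 - w1) = 0 := by
    unfold coord at h ⊢
    rw [map_sub, map_sub]
    linear_combination h
  obtain ⟨h2, h3⟩ := D.coord_eq_zero _ _ h1
  exact ⟨sub_eq_zero.mp h2, sub_eq_zero.mp h3⟩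

theorem coord_surjective (z : K) : ∃ z0 z1, D.coord z0 z1 = z := by
  have hinj : Function.Injective (fun p : F × F => D.coord p.1 p.2) := by
    rintro ⟨z0, z1⟩ ⟨w0, w1⟩ h
    obtain ⟨h1, h2⟩ := D.coord_injective _ _ _ _ h
    exact Prod.ext h1 h2
  have hbij : Function.Bijective (fun p : F × F => D.coord p.1 p.2) := by
    rw [Fintype.bijective_iff_injective_and_card]
    refine ⟨hinj, ?_⟩
    rw [Fintype.card_prod, D.hF, D.hK, sq]
  obtain ⟨p, hp⟩ := hbij.2 z
  exact ⟨p.1, p.2, hp⟩

theorem frob_coord (z0 z1 : F) : D.frob (D.coord z0 z1) = D.j z0 + D.j z1 * (D.j a - D.θ) := by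
  unfold coord
  rw [map_add, map_mul, frob_j, frob_j, frob_theta]

theorem norm_coord (z0 z1 : F) :
    D.coord z0 z1 * D.frob (D.coord z0 z1) = D.j (z0 ^ 2 + a * z0 * z1 + b * z1 ^ 2) := by
  rw [frob_coord]
  unfold coord
  simp only [map_add, map_mul, map_pow]
  linear_combination (-(D.j z1) ^ 2) * D.hθ

end Data

end Cfsg.Agent.Lib.Helper5.QuadExt
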