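import Mathlib
import Cfsg.Prelude
import Cfsg.Agent.Lib.Helper5.QuadExt
import Cfsg.Agent.Lib.Helper5.QuadStd
import Cfsg.Agent.Lib.Helper5.OrthCard

set_option autoImplicit false
open Cfsg

/-! The action of `SL_2(q^2)` on Hermitian `2 × 2` matrices: `Ω_4^-(q)`. -/

namespace Cfsg.Agent.Lib.Helper5.QuadExt.Data

open Matrix Cfsg.Agent.Lib.Helper5.QuadExt Cfsg.Agent.Lib.Helper5.OrthCard

variable {F K : Type*} [Field F] [Fintype F] [Field K] [Fintype K] {q : ℕ} {a b : F}
  (D : Data F K q a b)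

/-- the index type of the four-dimensional minus form -/
abbrev I4m : Type := (Fin 1 ⊕ Fin 1) ⊕ Fin 2

/-- the Hermitian matrix of a vector -/
def Hmat (v : I4m → F) : Matrix (Fin 2) (Fin 2) K :=
  !![D.j (v (.inl (.inl 0))), D.coord (v (.inr 0)) (v (.inr 1));
     D.frob (D.coord (v (.inr 0)) (v (.inr 1))), -D.j (v (.inl (.inr 0)))]

/-- conjugate transpose -/
def hstar (M : Matrix (Fin 2) (Fin 2) K) : Matrix (Fin 2) (Fin 2) K := (M.map D.frob)ᵀ

theorem hstar_apply (M : Matrix (Fin 2) (Fin 2) K) (i k : Fin 2) :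
    D.hstar M i k = D.frob (M k i) := rfl

theorem hstar_mul (M N : Matrix (Fin 2) (Fin 2) K) :
    D.hstar (M * N) = D.hstar N * D.hstar M := by
  unfold hstar
  rw [Matrix.map_mul, Matrix.transpose_mul]

theorem hstar_hstar (M : Matrix (Fin 2) (Fin 2) K) : D.hstar (D.hstar M) = M := by
  ext i k
  rw [hstar_apply, hstar_apply, D.frob_frob]

theorem hstar_one : D.hstar (1 : Matrix (Fin 2) (Fin 2) K) = 1 := by
  unfold hstar
  rw [Matrix.map_one _ (map_zero _) (map_one _), Matrix.transpose_one]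

theorem det_hstar (M : Matrix (Fin 2) (Fin 2) K) : (D.hstar M).det = D.frob M.det := by
  unfold hstar
  rw [Matrix.det_transpose, ← RingHom.mapMatrix_apply, ← RingHom.map_det]

theorem hstar_Hmat (v : I4m → F) : D.hstar (D.Hmat v) = D.Hmat v := by
  ext i k
  rw [hstar_apply]
  fin_cases i <;> fin_cases k <;> simp [Hmat, D.frob_j, D.frob_frob]

theorem exists_Hmat (X : Matrix (Fin 2) (Fin 2) K) (hX : D.hstar X = X) :
    ∃ v, D.Hmat v = X := by
  have h00 : D.frob (X 0 0) = X 0 0 := by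
    have := congrFun (congrFun hX 0) 0
    rwa [hstar_apply] at this
  have h11 : D.frob (X 1 1) = X 1 1 := by
    have := congrFun (congrFun hX 1) 1
    rwa [hstar_apply] at this
  have h10 : D.frob (X 0 1) = X 1 0 := by
    have := congrFun (congrFun hX 1) 0
    rwa [hstar_apply] at this
  obtain ⟨x, hx⟩ := D.mem_range_of_frob _ h00
  obtain ⟨y, hy⟩ := D.mem_range_of_frob _ h11
  obtain ⟨z0, z1, hz⟩ := D.coord_surjective (X 0 1)
  refine ⟨Sum.elim (Sum.elim (fun _ => x) (fun _ => -y)) ![z0, z1], ?_⟩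
  ext i k
  fin_cases i <;> fin_cases k <;> simp [Hmat, hx, hy, hz, h10]

theorem Hmat_injective : Function.Injective D.Hmat := by
  intro u v h
  have h00 := congrFun (congrFun h 0) 0
  have h01 := congrFun (congrFun h 0) 1
  have h11 := congrFun (congrFun h 1) 1
  simp [Hmat] at h00 h01 h11
  obtain ⟨h2, h3⟩ := D.coord_injective _ _ _ _ h01
  ext i
  rcases i with (i | i) | i
  · have : i = 0 := Subsingleton.elim _ _
    subst this
    exact D.j_injective h00
  · have : i = 0 := Subsingleton.elim _ _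
    subst this
    exact D.j_injective h11
  · fin_cases i
    · exact h2
    · exact h3

theorem Hmat_add (u v : I4m → F) : D.Hmat (u + v) = D.Hmat u + D.Hmat v := by
  ext i k
  fin_cases i <;> fin_cases k <;> simp [Hmat, D.coord_add] <;> ring

theorem Hmat_smul (c : F) (v : I4m → F) : D.Hmat (c • v) = D.j c • D.Hmat v := by
  ext i k
  fin_cases i <;> fin_cases k <;> simp [Hmat, D.coord_smul, D.frob_j]

theorem det_Hmat (v : I4m → F) :
    (D.Hmat v).det = -D.j (Cfsg.quadFormMinus 1 F a b v) := by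
  have h := D.norm_coord (v (.inr 0)) (v (.inr 1))
  simp only [Hmat, Matrix.det_fin_two_of, Cfsg.quadFormMinus, Finset.univ_unique,
    Finset.sum_singleton, map_add, map_mul] at h ⊢
  simp only [Fin.default_eq_zero, Fin.isValue]
  rw [h]
  simp only [map_add, map_mul, map_pow]
  ring

theorem herm_act (M X : Matrix (Fin 2) (Fin 2) K) (hX : D.hstar X = X) :
    D.hstar (M * X * D.hstar M) = M * X * D.hstar M := by
  rw [hstar_mul, hstar_mul, hstar_hstar, hX, Matrix.mul_assoc]

/-- the bijection between vectors and Hermitian matrices -/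
noncomputable def Hequiv : (I4m → F) ≃ {X : Matrix (Fin 2) (Fin 2) K // D.hstar X = X} :=
  Equiv.ofBijective (fun v => ⟨D.Hmat v, D.hstar_Hmat v⟩) (by
    constructor
    · intro u v h
      exact D.Hmat_injective (congrArg Subtype.val h)
    · rintro ⟨X, hX⟩
      obtain ⟨v, hv⟩ := D.exists_Hmat X hX
      exact ⟨v, Subtype.ext hv⟩)

/-- the action of a matrix on vectors -/
noncomputable def rhoFun (M : Matrix (Fin 2) (Fin 2) K) (v : I4m → F) : I4m → F :=
  D.Hequiv.symm ⟨M * D.Hmat v * D.hstar M, D.herm_act M _ (D.hstar_Hmat v)⟩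

theorem Hmat_rhoFun (M : Matrix (Fin 2) (Fin 2) K) (v : I4m → F) :
    D.Hmat (D.rhoFun M v) = M * D.Hmat v * D.hstar M := by
  have := D.Hequiv.apply_symm_apply ⟨M * D.Hmat v * D.hstar M,
    D.herm_act M _ (D.hstar_Hmat v)⟩
  exact congrArg Subtype.val this

/-- the action as a linear map -/
noncomputable def rhoLin (M : Matrix (Fin 2) (Fin 2) K) : (I4m → F) →ₗ[F] (I4m → F) where
  toFun := D.rhoFun M
  map_add' u v := by
    apply D.Hmat_injective
    rw [Hmat_rhoFun, Hmat_add, Hmat_add, Hmat_rhoFun, Hmat_rhoFun, Matrix.mul_add,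
      Matrix.add_mul]
  map_smul' c v := by
    apply D.Hmat_injective
    simp only [RingHom.id_apply]
    rw [Hmat_rhoFun, Hmat_smul, Hmat_smul, Hmat_rhoFun, Matrix.mul_smul, Matrix.smul_mul]

theorem Hmat_rhoLin (M : Matrix (Fin 2) (Fin 2) K) (v : I4m → F) :
    D.Hmat (D.rhoLin M v) = M * D.Hmat v * D.hstar M := D.Hmat_rhoFun M v

theorem rhoLin_one : D.rhoLin 1 = 1 := by
  apply LinearMap.ext
  intro v
  apply D.Hmat_injective
  rw [Hmat_rhoLin, hstar_one, Matrix.one_mul, Matrix.mul_one]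
  rfl

theorem rhoLin_mul (M N : Matrix (Fin 2) (Fin 2) K) :
    D.rhoLin (M * N) = D.rhoLin M * D.rhoLin N := by
  apply LinearMap.ext
  intro v
  apply D.Hmat_injective
  rw [Module.End.mul_apply, Hmat_rhoLin, Hmat_rhoLin, Hmat_rhoLin, hstar_mul]
  simp only [Matrix.mul_assoc]

theorem quad_rhoLin (M : Matrix (Fin 2) (Fin 2) K) (hM : M.det = 1) (v : I4m → F) :
    Cfsg.quadFormMinus 1 F a b (D.rhoLin M v) = Cfsg.quadFormMinus 1 F a b v := by
  apply D.j_injective
  have h1 := D.det_Hmat (D.rhoLin M v)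
  rw [Hmat_rhoLin, det_mul, det_mul, det_hstar, hM, map_one, one_mul, mul_one, det_Hmat] at h1
  exact neg_injective h1.symm

/-- the matrix of the action -/
noncomputable def rhoHom : Matrix.SpecialLinearGroup (Fin 2) K →* Matrix I4m I4m F where
  toFun M := LinearMap.toMatrix' (D.rhoLin (M : Matrix (Fin 2) (Fin 2) K))
  map_one' := by
    rw [Matrix.SpecialLinearGroup.coe_one, rhoLin_one, LinearMap.toMatrix'_one]
  map_mul' M N := by
    rw [Matrix.SpecialLinearGroup.coe_mul, rhoLin_mul, LinearMap.toMatrix'_mul]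

/-- the homomorphism `SL_2(q^2) → O_4^-(q)` -/
noncomputable def tau : Matrix.SpecialLinearGroup (Fin 2) K →*
    ↥(isometryGroup F ⇑(minusForm 1 F a b)) :=
  (D.rhoHom).toHomUnits.codRestrict (isometryGroup F ⇑(minusForm 1 F a b)) (by
    intro M
    rw [mem_isometryGroup_iff]
    intro v
    rw [coe_minusForm]
    show Cfsg.quadFormMinus 1 F a b
      (LinearMap.toMatrix' (D.rhoLin (M : Matrix (Fin 2) (Fin 2) K)) *ᵥ v) = _
    rw [LinearMap.toMatrix'_mulVec]
    exact D.quad_rhoLin _ M.det_coe v)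

theorem tau_coe (M : Matrix.SpecialLinearGroup (Fin 2) K) :
    (((D.tau M : ↥(isometryGroup F ⇑(minusForm 1 F a b))) : Matrix.GeneralLinearGroup I4m F) :
      Matrix I4m I4m F) = LinearMap.toMatrix' (D.rhoLin (M : Matrix (Fin 2) (Fin 2) K)) := rfl

theorem fix_of_tau_eq_one (M : Matrix.SpecialLinearGroup (Fin 2) K) (h : D.tau M = 1)
    (X : Matrix (Fin 2) (Fin 2) K) (hX : D.hstar X = X) :
    (M : Matrix (Fin 2) (Fin 2) K) * X * D.hstar (M : Matrix (Fin 2) (Fin 2) K) = X := by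
  have h1 : LinearMap.toMatrix' (D.rhoLin (M : Matrix (Fin 2) (Fin 2) K)) = 1 := by
    rw [← tau_coe, h]; rfl
  have h2 : D.rhoLin (M : Matrix (Fin 2) (Fin 2) K) = 1 := by
    apply LinearMap.toMatrix'.injective
    rw [h1, LinearMap.toMatrix'_one]
  obtain ⟨v, rfl⟩ := D.exists_Hmat X hX
  rw [← Hmat_rhoLin, h2]
  rfl

theorem scalar_of_fix (M : Matrix (Fin 2) (Fin 2) K) (hM : M.det = 1)
    (h : ∀ X : Matrix (Fin 2) (Fin 2) K, D.hstar X = X → M * X * D.hstar M = X) :
    M = M 0 0 • (1 : Matrix (Fin 2) (Fin 2) K) ∧ M 0 0 ^ 2 = 1 := by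
  have hs : D.hstar M = !![D.frob (M 0 0), D.frob (M 1 0); D.frob (M 0 1), D.frob (M 1 1)] := by
    ext i k
    rw [hstar_apply]
    fin_cases i <;> fin_cases k <;> rfl
  have hE1 : D.hstar (!![1, 0; 0, 0] : Matrix (Fin 2) (Fin 2) K) = !![1, 0; 0, 0] := by
    ext i k
    rw [hstar_apply]
    fin_cases i <;> fin_cases k <;> simp
  have hE2 : D.hstar (!![0, 0; 0, 1] : Matrix (Fin 2) (Fin 2) K) = !![0, 0; 0, 1] := by
    ext i k
    rw [hstar_apply]
    fin_cases i <;> fin_cases k <;> simp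
  have hE3 : D.hstar (!![0, 1; 1, 0] : Matrix (Fin 2) (Fin 2) K) = !![0, 1; 1, 0] := by
    ext i k
    rw [hstar_apply]
    fin_cases i <;> fin_cases k <;> simp
  have h1 := h _ hE1
  have h2 := h _ hE2
  have h3 := h _ hE3
  rw [hs] at h1 h2 h3
  rw [Matrix.eta_fin_two M] at h1 h2 h3
  simp only [Matrix.of_apply, Matrix.cons_val_zero, Matrix.cons_val_one, Matrix.cons_val',
    Matrix.mul_fin_two] at h1 h2 h3
  have h1_11 := congrFun (congrFun h1 1) 1
  have h2_00 := congrFun (congrFun h2 0) 0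
  have h2_11 := congrFun (congrFun h2 1) 1
  have h3_01 := congrFun (congrFun h3 0) 1
  simp at h1_11 h2_00 h2_11 h3_01
  have hg : M 1 0 = 0 := h1_11
  have hb : M 0 1 = 0 := h2_00
  rw [hb, zero_mul, zero_add] at h3_01
  have had : M 0 0 = M 1 1 := by
    have h5 : (M 0 0 - M 1 1) * D.frob (M 1 1) = 0 := by linear_combination h3_01 - h2_11
    rcases mul_eq_zero.mp h5 with h0 | h0
    · exact sub_eq_zero.mp h0
    · rw [h0, mul_zero] at h2_11
      exact absurd h2_11 zero_ne_one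
  have hdet := hM
  rw [Matrix.det_fin_two, hb, hg, ← had] at hdet
  constructor
  · ext i k
    fin_cases i <;> fin_cases k <;> simp [hb, hg, had]
  · linear_combination hdet

theorem tau_eq_one (M : Matrix.SpecialLinearGroup (Fin 2) K) (h : D.tau M = 1) :
    (M : Matrix (Fin 2) (Fin 2) K) = (M : Matrix (Fin 2) (Fin 2) K) 0 0 • 1 ∧
      (M : Matrix (Fin 2) (Fin 2) K) 0 0 ^ 2 = 1 :=
  D.scalar_of_fix _ M.det_coe (D.fix_of_tau_eq_one M h)

theorem ker_tau_le_center :
    (D.tau).ker ≤ Subgroup.center (Matrix.SpecialLinearGroup (Fin 2) K) := by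
  intro M hM
  rw [MonoidHom.mem_ker] at hM
  obtain ⟨h1, -⟩ := D.tau_eq_one M hM
  rw [Subgroup.mem_center_iff]
  intro N
  apply Subtype.ext
  rw [Matrix.SpecialLinearGroup.coe_mul, Matrix.SpecialLinearGroup.coe_mul, h1, Matrix.mul_smul,
    Matrix.smul_mul, Matrix.mul_one, Matrix.one_mul]

end Cfsg.Agent.Lib.Helper5.QuadExt.Data
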