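import Mathlib
import Cfsg.Prelude
import Cfsg.Agent.Lib.Helper5.HermOrth
import Cfsg.Agent.Lib.Helper5.SL4Orth2
import Cfsg.Agent.Lib.Helper5.SL2Perfect
import Cfsg.Agent.Lib.Helper5.SpinorNorm
import Cfsg.Agent.Lib.Helper5.PerfectCentral
import Cfsg.Agent.Lib.Helper5.OrthPlane
import Cfsg.Agent.Lib.Helper4.SLCard
import Cfsg.Agent.S0288

set_option autoImplicit false
open Cfsg

namespace Cfsg.Agent.Lib.Helper5.QuadExt

theorem commutator_le_of_index_two {G : Type*} [Group G] (N : Subgroup G) (h : N.index = 2) :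
    commutator G ≤ N := by
  have := Subgroup.normal_of_index_eq_two h
  rw [← Subgroup.Normal.quotient_commutative_iff_commutator_le]
  have hc : Nat.card (G ⧸ N) = 2 := by rw [← Subgroup.index_eq_card]; exact h
  have : Fact (Nat.Prime 2) := ⟨Nat.prime_two⟩
  have := isCyclic_of_prime_card hc
  exact IsCyclic.isMulCommutative

theorem exists_t {K : Type*} [Field K] [Fintype K] (h4 : 4 ≤ Fintype.card K) :
    ∃ t : K, t ≠ 0 ∧ t ^ 2 ≠ 1 := by
  classical
  by_contra hcon
  push Not at hcon
  have hsub : (Finset.univ : Finset K) ⊆ {0, 1, -1} := by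
    intro t _
    by_cases h0 : t = 0
    · simp [h0]
    · have := hcon t h0
      have h5 : (t - 1) * (t + 1) = 0 := by linear_combination this
      rcases mul_eq_zero.mp h5 with h | h
      · have : t = 1 := by linear_combination h
        simp [this]
      · have : t = -1 := by linear_combination h
        simp [this]
  have := Finset.card_le_card hsub
  rw [Finset.card_univ] at this
  have h3 : ({0, 1, -1} : Finset K).card ≤ 3 := Finset.card_le_three
  omega

namespace Data

open Matrix QuadraticMap Cfsg.Agent.Lib.Helper5.OrthCard Cfsg.Agent.Lib.Helper5.OrthPlane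
  Cfsg.Agent.Lib.Helper5.SL2SL2Orth Cfsg.Agent.Lib.Helper5.SL4Orth

variable {F K : Type*} [Field F] [Fintype F] [Field K] [Fintype K] {q : ℕ} {a b : F}
  (D : Data F K q a b)

include D in
theorem two_le_q : 2 ≤ q := by
  rw [← D.hF]
  exact Fintype.one_lt_card

theorem card_ker_tau_le : Nat.card ↥(D.tau).ker ≤ Nat.gcd 2 (Fintype.card K - 1) := by
  rw [← card_sq_eq_one]
  apply Nat.card_le_card_of_injective
    (fun g : ↥(D.tau).ker =>
      (⟨((g : Matrix.SpecialLinearGroup (Fin 2) K) : Matrix (Fin 2) (Fin 2) K) 0 0,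
        (D.tau_eq_one g.1 (MonoidHom.mem_ker.mp g.2)).2⟩ : {x : K // x ^ 2 = 1}))
  intro g g' hgg
  have h1 : ((g : Matrix.SpecialLinearGroup (Fin 2) K) : Matrix (Fin 2) (Fin 2) K) 0 0 =
      ((g' : Matrix.SpecialLinearGroup (Fin 2) K) : Matrix (Fin 2) (Fin 2) K) 0 0 :=
    congrArg Subtype.val hgg
  have h2 := (D.tau_eq_one g.1 (MonoidHom.mem_ker.mp g.2)).1
  have h3 := (D.tau_eq_one g'.1 (MonoidHom.mem_ker.mp g'.2)).1
  apply Subtype.ext
  apply Subtype.ext
  rw [h2, h3, h1]

include D in
theorem SL2K_perfect : commutator (Matrix.SpecialLinearGroup (Fin 2) K) = ⊤ := by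
  apply Cfsg.Agent.Lib.Helper5.SL2Perfect.commutator_eq_top
  apply exists_t
  rw [D.hK]
  have := D.two_le_q
  nlinarith

theorem tau_mem_commutator (g : Matrix.SpecialLinearGroup (Fin 2) K) :
    D.tau g ∈ commutator ↥(isometryGroup F ⇑(minusForm 1 F a b)) := by
  have hg : g ∈ commutator (Matrix.SpecialLinearGroup (Fin 2) K) := by
    rw [D.SL2K_perfect]; trivial
  rw [commutator_def] at hg ⊢
  have := Subgroup.mem_map_of_mem D.tau hg
  rw [Subgroup.map_commutator] at this
  exact Subgroup.commutator_mono le_top le_top this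

include D in
theorem card_O4m :
    Nat.card ↥(isometryGroup F ⇑(minusForm 1 F a b)) = 2 * (q ^ 2 * (q ^ 4 - 1)) := by
  have := Cfsg.Agent.S0288.result (F := F) D.hF 2 (by norm_num) a b D.hab
  rw [coe_minusForm]
  have h1 : (2 : ℕ) - 1 = 1 := rfl
  rw [h1] at this
  rw [this]
  have h2 : 1 ≤ q ^ 2 := Nat.one_le_pow _ _ (by have := D.two_le_q; omega)
  have h3 : q ^ 4 - 1 = (q ^ 2 + 1) * (q ^ 2 - 1) := by
    have : q ^ 4 = q ^ 2 * q ^ 2 := by ring
    rw [this]
    zify [h2, Nat.one_le_iff_ne_zero.mpr (Nat.mul_ne_zero (by omega) (by omega) : q ^ 2 * q ^ 2 ≠ 0)]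
    ring
  rw [h3]
  simp [Finset.prod_range_succ]
  ring

include D in
theorem card_SL2K :
    Nat.card (Matrix.SpecialLinearGroup (Fin 2) K) = q ^ 2 * (q ^ 4 - 1) := by
  rw [Cfsg.Agent.Lib.Helper4.card_SL2, D.hK]
  congr 2
  ring

include D in
theorem minus_nondegenerate : (polarBilin (minusForm 1 F a b)).Nondegenerate := by
  have h := genForm_nondegenerate _ (binForm_nondegenerate a b (anisotropic_of a b D.hab)) 1
  have h2 : minusForm 1 F a b = genForm (binForm a b) 1 := by
    apply DFunLike.coe_injective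
    rw [coe_minusForm, Cfsg.Agent.S0288.minus_eq]
  rw [h2]
  exact h

theorem range_tau :
    (D.tau).range = commutator ↥(isometryGroup F ⇑(minusForm 1 F a b)) := by
  have : Finite ↥(isometryGroup F ⇑(minusForm 1 F a b)) := inferInstance
  have hle : (D.tau).range ≤ commutator ↥(isometryGroup F ⇑(minusForm 1 F a b)) := by
    rintro _ ⟨p, rfl⟩
    exact D.tau_mem_commutator p
  have h1 := Subgroup.card_mul_index (D.tau).ker
  rw [Subgroup.index_ker, D.card_SL2K] at h1
  have hpos : 0 < q ^ 2 * (q ^ 4 - 1) := by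
    have := D.two_le_q
    have h4 : 2 ^ 4 ≤ q ^ 4 := Nat.pow_le_pow_left this 4
    have : 0 < q ^ 2 := by positivity
    have : 0 < q ^ 4 - 1 := by omega
    positivity
  have hk := D.card_ker_tau_le
  rw [gcd_two _ Fintype.card_pos, D.hK] at hk
  by_cases h2 : (2 : F) = 0
  · -- even characteristic
    have he : Even q := by
      rw [← D.hF]; exact two_eq_zero_iff_even.mp h2
    have he2 : Even (q ^ 2) := by
      rw [Nat.even_pow]; exact ⟨he, by norm_num⟩
    rw [if_pos he2] at hk
    have hk1 : Nat.card ↥(D.tau).ker = 1 := by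
      have : 0 < Nat.card ↥(D.tau).ker := Nat.card_pos
      omega
    rw [hk1, one_mul] at h1
    have h3 := Subgroup.card_mul_index (D.tau).range
    rw [h1, D.card_O4m] at h3
    have hidx : (D.tau).range.index = 2 := by
      have : q ^ 2 * (q ^ 4 - 1) * (D.tau).range.index = q ^ 2 * (q ^ 4 - 1) * 2 := by
        rw [h3]; ring
      exact Nat.eq_of_mul_eq_mul_left hpos this
    exact le_antisymm hle (commutator_le_of_index_two _ hidx)
  · -- odd characteristic
    apply Subgroup.eq_of_le_of_card_ge hle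
    have hn : 2 ≤ Fintype.card I4m := by
      simp only [Fintype.card_sum, Fintype.card_fin]; omega
    have h3 := Subgroup.card_mul_index (commutator ↥(isometryGroup F ⇑(minusForm 1 F a b)))
    rw [Cfsg.Agent.Lib.Helper5.SpinorNorm.index_commutator (minusForm 1 F a b) h2
      D.minus_nondegenerate hn, D.card_O4m] at h3
    have hk2 : Nat.card ↥(D.tau).ker ≤ 2 := by
      split_ifs at hk <;> omega
    have h5 : Nat.card ↥(D.tau).ker * Nat.card ↥(D.tau).range ≤
        2 * Nat.card ↥(D.tau).range := Nat.mul_le_mul_right _ hk2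
    omega

include D in
/-- `PΩ_4^-(q) ≅ PSL_2(q^2)` -/
theorem nonempty_mulEquiv :
    Nonempty (Cfsg.POmega F ⇑(minusForm 1 F a b) ≃*
      Matrix.ProjectiveSpecialLinearGroup (Fin 2) K) := by
  let f : Matrix.SpecialLinearGroup (Fin 2) K →*
      ↥(commutator ↥(isometryGroup F ⇑(minusForm 1 F a b))) :=
    D.tau.codRestrict _ D.tau_mem_commutator
  have hf : Function.Surjective f := by
    rintro ⟨x, hx⟩
    rw [← D.range_tau] at hx
    obtain ⟨p, hp⟩ := hx
    exact ⟨p, Subtype.ext hp⟩
  have hker : f.ker ≤ Subgroup.center (Matrix.SpecialLinearGroup (Fin 2) K) := by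
    intro g hg
    apply D.ker_tau_le_center
    rw [MonoidHom.mem_ker] at hg ⊢
    exact congrArg Subtype.val hg
  exact Cfsg.Agent.Lib.Helper5.PerfectCentral.nonempty_quotient_center_equiv D.SL2K_perfect f hf
    hker

end Data

end Cfsg.Agent.Lib.Helper5.QuadExt
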