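import Mathlib

set_option autoImplicit false

namespace Cfsg.Agent.Lib.Helper5.InvolComb

open Finset Function

section lin
variable {ι : Type*} [LinearOrder ι] (τ : ι → ι) (hτ : Involutive τ)

include hτ in
theorem card_decomp (S : Finset ι) (hS : ∀ i ∈ S, τ i ∈ S) :
    S.card = (S.filter (fun i => τ i = i)).card + 2 * (S.filter (fun i => i < τ i)).card := by
  have h1 : S = S.filter (fun i => τ i = i) ∪ (S.filter (fun i => i < τ i) ∪
      (S.filter (fun i => i < τ i)).image τ) := by
    ext i
    simp only [mem_union, mem_filter, mem_image]
    constructor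
    · intro hi
      rcases lt_trichotomy (τ i) i with h | h | h
      · right; right
        exact ⟨τ i, ⟨hS i hi, by rw [hτ i]; exact h⟩, hτ i⟩
      · left; exact ⟨hi, h⟩
      · right; left; exact ⟨hi, h⟩
    · rintro (h | h | ⟨j, hj, rfl⟩)
      · exact h.1
      · exact h.1
      · exact hS j hj.1
  have hd1 : Disjoint (S.filter (fun i => i < τ i)) ((S.filter (fun i => i < τ i)).image τ) := by
    rw [disjoint_left]
    intro i hi hi'
    simp only [mem_filter, mem_image] at hi hi'
    obtain ⟨j, hj, rfl⟩ := hi'
    have := hi.2
    rw [hτ j] at this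
    exact lt_asymm this hj.2
  have hd2 : Disjoint (S.filter (fun i => τ i = i)) (S.filter (fun i => i < τ i) ∪
      (S.filter (fun i => i < τ i)).image τ) := by
    rw [disjoint_left]
    intro i hi hi'
    simp only [mem_filter, mem_image, mem_union] at hi hi'
    rcases hi' with h | ⟨j, hj, rfl⟩
    · have := h.2; rw [hi.2] at this; exact lt_irrefl _ this
    · have := hi.2; rw [hτ j] at this
      have h2 := hj.2; rw [← this] at h2; exact lt_irrefl _ h2
  conv_lhs => rw [h1]
  rw [card_union_of_disjoint hd2, card_union_of_disjoint hd1, card_image_of_injective _ hτ.injective]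
  ring

include hτ in
theorem exists_invariant (S : Finset ι) (j k : ℕ)
    (hj : j ≤ (S.filter (fun i => i < τ i)).card) (hk : k ≤ (S.filter (fun i => τ i = i)).card) :
    ∃ T ⊆ S ∪ S.image τ, T.card = 2 * j + k ∧ ∀ i ∈ T, τ i ∈ T := by
  obtain ⟨J, hJ, hJc⟩ := exists_subset_card_eq hj
  obtain ⟨K, hK, hKc⟩ := exists_subset_card_eq hk
  refine ⟨(J ∪ J.image τ) ∪ K, ?_, ?_, ?_⟩
  · intro i hi
    simp only [mem_union, mem_image] at hi ⊢
    rcases hi with (h | ⟨l, hl, rfl⟩) | h
    · left; exact (mem_filter.mp (hJ h)).1
    · right; exact ⟨l, (mem_filter.mp (hJ hl)).1, rfl⟩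
    · left; exact (mem_filter.mp (hK h)).1
  · have hd1 : Disjoint J (J.image τ) := by
      rw [disjoint_left]
      intro i hi hi'
      simp only [mem_image] at hi'
      obtain ⟨l, hl, rfl⟩ := hi'
      have h1 := (mem_filter.mp (hJ hi)).2
      have h2 := (mem_filter.mp (hJ hl)).2
      rw [hτ l] at h1
      exact lt_asymm h1 h2
    have hd2 : Disjoint (J ∪ J.image τ) K := by
      rw [disjoint_left]
      intro i hi hi'
      have h3 := (mem_filter.mp (hK hi')).2
      simp only [mem_union, mem_image] at hi
      rcases hi with h | ⟨l, hl, rfl⟩
      · have h1 := (mem_filter.mp (hJ h)).2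
        rw [h3] at h1; exact lt_irrefl _ h1
      · have h2 := (mem_filter.mp (hJ hl)).2
        rw [hτ l] at h3
        rw [← h3] at h2; exact lt_irrefl _ h2
    rw [card_union_of_disjoint hd2, card_union_of_disjoint hd1,
      card_image_of_injective _ hτ.injective, hJc, hKc]
    ring
  · intro i hi
    simp only [mem_union, mem_image] at hi ⊢
    rcases hi with (h | ⟨l, hl, rfl⟩) | h
    · left; right; exact ⟨i, h, rfl⟩
    · left; left; rw [hτ l]; exact hl
    · right
      have h3 := (mem_filter.mp (hK h)).2
      rw [h3]; exact h

include hτ in
theorem exists_moved (S : Finset ι) (j : ℕ)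
    (hj : j ≤ (S.filter (fun i => i < τ i)).card) :
    ∃ T ⊆ S, T.card = j ∧ ∀ i ∈ T, τ i ∉ T := by
  obtain ⟨J, hJ, hJc⟩ := exists_subset_card_eq hj
  refine ⟨J, fun i hi => (mem_filter.mp (hJ hi)).1, hJc, ?_⟩
  intro i hi hi'
  have h1 := (mem_filter.mp (hJ hi)).2
  have h2 := (mem_filter.mp (hJ hi')).2
  rw [hτ i] at h2
  exact lt_asymm h1 h2

include hτ in
theorem exists_piece (S : Finset ι) (hS : ∀ i ∈ S, τ i ∈ S) (a t : ℕ) (ha : 1 ≤ a) (ht : 1 ≤ t)
    (hcard : S.card = a * t) :
    (∃ T ⊆ S, T.card = a ∧ ∀ i ∈ T, τ i ∈ T) ∨
      (2 ≤ t ∧ ∃ T ⊆ S, T.card = a ∧ ∀ i ∈ T, τ i ∉ T) := by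
  have hc := card_decomp τ hτ S hS
  set I := (S.filter (fun i => τ i = i)).card with hI
  set P := (S.filter (fun i => i < τ i)).card with hP
  have hSS : S ∪ S.image τ = S := by
    apply union_eq_left.mpr
    intro i hi
    obtain ⟨l, hl, rfl⟩ := mem_image.mp hi
    exact hS l hl
  have hat : a ≤ a * t := Nat.le_mul_of_pos_right a ht
  by_cases hcase : ∃ j k, j ≤ P ∧ k ≤ I ∧ 2 * j + k = a
  · obtain ⟨j, k, hj, hk, hjk⟩ := hcase
    obtain ⟨T, hT, hTc, hTi⟩ := exists_invariant τ hτ S j k hj hk
    rw [hSS] at hT
    left
    exact ⟨T, hT, by rw [hTc, hjk], hTi⟩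
  · right
    push Not at hcase
    have h1 : I < a := by
      by_contra hcon
      push Not at hcon
      exact hcase 0 a (Nat.zero_le _) hcon (by ring)
    have h2 : I = 0 ∧ a % 2 = 1 := by
      by_contra hcon
      rcases Nat.even_or_odd (a - I) with ⟨c, hc'⟩ | ⟨c, hc'⟩
      · apply hcase c I _ le_rfl (by omega)
        have : 2 * c ≤ 2 * P := by
          have : a - I ≤ a * t - I := Nat.sub_le_sub_right hat I
          omega
        omega
      · have hI1 : 1 ≤ I := by
          by_contra h0
          apply hcon
          omega
        have ht2 : 2 ≤ t := by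
          by_contra h0
          have : t = 1 := by omega
          subst this
          omega
        have : 2 * a ≤ a * t := by
          rw [mul_comm]; exact Nat.mul_le_mul_left a ht2
        apply hcase (c + 1) (I - 1) _ (by omega) (by omega)
        omega
    obtain ⟨hI0, hodd⟩ := h2
    have ht2 : 2 ≤ t := by
      by_contra h0
      have : t = 1 := by omega
      subst this
      omega
    refine ⟨ht2, ?_⟩
    apply exists_moved τ hτ S a
    rw [← hP]
    have : 2 * a ≤ a * t := by
      rw [mul_comm]; exact Nat.mul_le_mul_left a ht2
    omega

include hτ in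
theorem chunk_aux (a : ℕ) (ha : 1 ≤ a) :
    ∀ (t : ℕ) (S : Finset ι), S.card = a * t → (∀ i ∈ S, τ i ∈ S) →
      ∃ (f : ι → ℕ) (σ : ℕ → ℕ), (∀ i ∈ S, f i < t) ∧
        (∀ j < t, (S.filter (fun i => f i = j)).card = a) ∧ (∀ i ∈ S, f (τ i) = σ (f i)) := by
  intro t
  induction t using Nat.strong_induction_on with
  | _ t ih =>
    intro S hcard hS
    rcases Nat.eq_zero_or_pos t with rfl | htpos
    · refine ⟨fun _ => 0, id, ?_, ?_, ?_⟩
      · intro i hi
        rw [mul_zero, card_eq_zero] at hcard
        rw [hcard] at hi; simp at hi
      · intro j hj; omega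
      · intro i hi; rfl
    · rcases exists_piece τ hτ S hS a t ha htpos hcard with ⟨T, hTS, hTc, hTi⟩ | ⟨ht2, T, hTS, hTc, hTi⟩
      · -- invariant chunk
        have hcard' : (S \ T).card = a * (t - 1) := by
          rw [card_sdiff_of_subset hTS, hcard, hTc, Nat.mul_sub, mul_one]
        have hS' : ∀ i ∈ S \ T, τ i ∈ S \ T := by
          intro i hi
          rw [mem_sdiff] at hi ⊢
          refine ⟨hS i hi.1, fun h => hi.2 ?_⟩
          have := hTi _ h
          rwa [hτ i] at this
        obtain ⟨f', σ', h1, h2, h3⟩ := ih (t - 1) (by omega) (S \ T) hcard' hS'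
        refine ⟨fun i => if i ∈ T then t - 1 else f' i,
          fun j => if j = t - 1 then t - 1 else σ' j, ?_, ?_, ?_⟩
        · intro i hi
          by_cases hiT : i ∈ T
          · simp only [hiT, if_true]; omega
          · simp only [hiT, if_false]
            have := h1 i (mem_sdiff.mpr ⟨hi, hiT⟩)
            omega
        · intro j hj
          by_cases hjt : j = t - 1
          · subst hjt
            have : S.filter (fun i => (if i ∈ T then t - 1 else f' i) = t - 1) = T := by
              ext i
              simp only [mem_filter]
              constructor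
              · rintro ⟨hi, h⟩
                by_contra hiT
                simp only [hiT, if_false] at h
                have := h1 i (mem_sdiff.mpr ⟨hi, hiT⟩)
                omega
              · intro hi
                exact ⟨hTS hi, by simp [hi]⟩
            rw [this, hTc]
          · have : S.filter (fun i => (if i ∈ T then t - 1 else f' i) = j) =
                (S \ T).filter (fun i => f' i = j) := by
              ext i
              simp only [mem_filter, mem_sdiff]
              constructor
              · rintro ⟨hi, h⟩
                by_cases hiT : i ∈ T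
                · simp only [hiT, if_true] at h; exact absurd h.symm hjt
                · simp only [hiT, if_false] at h; exact ⟨⟨hi, hiT⟩, h⟩
              · rintro ⟨⟨hi, hiT⟩, h⟩
                exact ⟨hi, by simp [hiT, h]⟩
            rw [this]
            exact h2 j (by omega)
        · intro i hi
          by_cases hiT : i ∈ T
          · have := hTi i hiT
            simp [hiT, this]
          · have hi' : i ∈ S \ T := mem_sdiff.mpr ⟨hi, hiT⟩
            have hτi : τ i ∉ T := (mem_sdiff.mp (hS' i hi')).2
            have hne : f' i ≠ t - 1 := by
              have := h1 i hi'; omega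
            simp only [hiT, hτi, if_false, hne]
            exact h3 i hi'
      · -- swapped pair of chunks
        have hdisj : Disjoint T (T.image τ) := by
          rw [disjoint_left]
          intro i hi hi'
          obtain ⟨l, hl, rfl⟩ := mem_image.mp hi'
          exact hTi l hl hi
        have hTτS : T.image τ ⊆ S := by
          intro i hi
          obtain ⟨l, hl, rfl⟩ := mem_image.mp hi
          exact hS l (hTS hl)
        have hUS : T ∪ T.image τ ⊆ S := union_subset hTS hTτS
        have hUc : (T ∪ T.image τ).card = 2 * a := by
          rw [card_union_of_disjoint hdisj, card_image_of_injective _ hτ.injective, hTc]; ring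
        have hcard' : (S \ (T ∪ T.image τ)).card = a * (t - 2) := by
          rw [card_sdiff_of_subset hUS, hcard, hUc, Nat.mul_sub]; ring_nf
        have hUi : ∀ i ∈ T ∪ T.image τ, τ i ∈ T ∪ T.image τ := by
          intro i hi
          rw [mem_union] at hi ⊢
          rcases hi with h | h
          · right; exact mem_image_of_mem τ h
          · left
            obtain ⟨l, hl, rfl⟩ := mem_image.mp h
            rw [hτ l]; exact hl
        have hS' : ∀ i ∈ S \ (T ∪ T.image τ), τ i ∈ S \ (T ∪ T.image τ) := by
          intro i hi
          rw [mem_sdiff] at hi ⊢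
          refine ⟨hS i hi.1, fun h => hi.2 ?_⟩
          have := hUi _ h
          rwa [hτ i] at this
        obtain ⟨f', σ', h1, h2, h3⟩ := ih (t - 2) (by omega) _ hcard' hS'
        refine ⟨fun i => if i ∈ T then t - 2 else if i ∈ T.image τ then t - 1 else f' i,
          fun j => if j = t - 2 then t - 1 else if j = t - 1 then t - 2 else σ' j, ?_, ?_, ?_⟩
        · intro i hi
          by_cases hiT : i ∈ T
          · simp only [hiT, if_true]; omega
          · by_cases hiT' : i ∈ T.image τ
            · simp only [hiT, hiT', if_true, if_false]; omega
            · simp only [hiT, hiT', if_false]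
              have := h1 i (mem_sdiff.mpr ⟨hi, by rw [mem_union]; tauto⟩)
              omega
        · intro j hj
          by_cases hjt : j = t - 2
          · subst hjt
            have : S.filter (fun i => (if i ∈ T then t - 2 else if i ∈ T.image τ then t - 1
                else f' i) = t - 2) = T := by
              ext i
              simp only [mem_filter]
              constructor
              · rintro ⟨hi, h⟩
                by_contra hiT
                by_cases hiT' : i ∈ T.image τ
                · simp only [hiT, hiT', if_true, if_false] at h; omega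
                · simp only [hiT, hiT', if_false] at h
                  have := h1 i (mem_sdiff.mpr ⟨hi, by rw [mem_union]; tauto⟩)
                  omega
              · intro hi
                exact ⟨hTS hi, by simp [hi]⟩
            rw [this, hTc]
          · by_cases hjt' : j = t - 1
            · subst hjt'
              have : S.filter (fun i => (if i ∈ T then t - 2 else if i ∈ T.image τ then t - 1
                  else f' i) = t - 1) = T.image τ := by
                ext i
                simp only [mem_filter]
                constructor
                · rintro ⟨hi, h⟩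
                  by_contra hiT'
                  by_cases hiT : i ∈ T
                  · simp only [hiT, if_true] at h; omega
                  · simp only [hiT, hiT', if_false] at h
                    have := h1 i (mem_sdiff.mpr ⟨hi, by rw [mem_union]; tauto⟩)
                    omega
                · intro hi
                  have hiT : i ∉ T := fun h => (disjoint_left.mp hdisj) h hi
                  exact ⟨hTτS hi, by simp [hi, hiT]⟩
              rw [this, card_image_of_injective _ hτ.injective, hTc]
            · have : S.filter (fun i => (if i ∈ T then t - 2 else if i ∈ T.image τ then t - 1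
                  else f' i) = j) = (S \ (T ∪ T.image τ)).filter (fun i => f' i = j) := by
                ext i
                simp only [mem_filter, mem_sdiff, mem_union]
                constructor
                · rintro ⟨hi, h⟩
                  by_cases hiT : i ∈ T
                  · simp only [hiT, if_true] at h; exact absurd h.symm hjt
                  · by_cases hiT' : i ∈ T.image τ
                    · simp only [hiT, hiT', if_true, if_false] at h; exact absurd h.symm hjt'
                    · simp only [hiT, hiT', if_false] at h
                      exact ⟨⟨hi, by tauto⟩, h⟩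
                · rintro ⟨⟨hi, hiT⟩, h⟩
                  push Not at hiT
                  exact ⟨hi, by simp [hiT.1, hiT.2, h]⟩
              rw [this]
              exact h2 j (by omega)
        · intro i hi
          by_cases hiT : i ∈ T
          · have h1' : τ i ∉ T := hTi i hiT
            have h2' : τ i ∈ T.image τ := mem_image_of_mem τ hiT
            simp [hiT, h1', h2']
          · by_cases hiT' : i ∈ T.image τ
            · have h1' : τ i ∈ T := by
                obtain ⟨l, hl, rfl⟩ := mem_image.mp hiT'
                rw [hτ l]; exact hl
              have : t - 1 ≠ t - 2 := by omega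
              simp [hiT, hiT', h1', this]
            · have hi' : i ∈ S \ (T ∪ T.image τ) := mem_sdiff.mpr ⟨hi, by rw [mem_union]; tauto⟩
              have hτi := (mem_sdiff.mp (hS' i hi')).2
              rw [mem_union] at hτi
              push Not at hτi
              have hne := h1 i hi'
              have hne1 : f' i ≠ t - 2 := by omega
              have hne2 : f' i ≠ t - 1 := by omega
              simp only [hiT, hiT', hτi.1, hτi.2, if_false, hne1, hne2]
              exact h3 i hi'

end lin

/-- chunking of a finite set with an involution into `t` parts of size `a` permuted by the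
involution -/
theorem exists_chunking {ι : Type*} [Fintype ι] (τ : ι → ι) (hτ : Involutive τ) (a t : ℕ)
    (ha : 1 ≤ a) (hcard : Fintype.card ι = a * t) :
    ∃ (f : ι → Fin t) (σ : Equiv.Perm (Fin t)),
      (∀ j, Fintype.card {i // f i = j} = a) ∧ ∀ i, f (τ i) = σ (f i) := by
  classical
  let _ : LinearOrder ι := LinearOrder.lift' (Fintype.equivFin ι) (Equiv.injective _)
  obtain ⟨f, σ, h1, h2, h3⟩ := chunk_aux τ hτ a ha t Finset.univ
    (by rw [Finset.card_univ]; exact hcard) (fun i _ => Finset.mem_univ _)
  have hsurj : ∀ j < t, ∃ i, f i = j := by
    intro j hj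
    have := h2 j hj
    have hne : (Finset.univ.filter (fun i => f i = j)).Nonempty := by
      rw [← Finset.card_pos, this]; exact ha
    obtain ⟨i, hi⟩ := hne
    exact ⟨i, (Finset.mem_filter.mp hi).2⟩
  have hσlt : ∀ j < t, σ j < t := by
    intro j hj
    obtain ⟨i, rfl⟩ := hsurj j hj
    rw [← h3 i (Finset.mem_univ _)]
    exact h1 _ (Finset.mem_univ _)
  have hσσ : ∀ j < t, σ (σ j) = j := by
    intro j hj
    obtain ⟨i, rfl⟩ := hsurj j hj
    rw [← h3 i (Finset.mem_univ _), ← h3 _ (Finset.mem_univ _), hτ i]
  let σ' : Fin t → Fin t := fun j => ⟨σ j, hσlt j j.2⟩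
  have hσ' : Involutive σ' := fun j => Fin.ext (hσσ j j.2)
  refine ⟨fun i => ⟨f i, h1 i (Finset.mem_univ _)⟩, hσ'.toPerm, ?_, ?_⟩
  · intro j
    rw [Fintype.card_subtype, ← h2 j j.2]
    congr 1
    ext i
    simp only [Finset.mem_filter, Finset.mem_univ, true_and]
    exact ⟨fun h => by rw [← h], fun h => Fin.ext h⟩
  · intro i
    apply Fin.ext
    exact h3 i (Finset.mem_univ _)

end Cfsg.Agent.Lib.Helper5.InvolComb
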