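import Mathlib

set_option autoImplicit false

namespace Cfsg.Agent.Lib.Helper5.InvolLinear

open Module Submodule Function

variable {F : Type*} [Field F] {V : Type*} [AddCommGroup V] [Module F V]
variable (x : V →ₗ[F] V) (z : F)

section
variable (hz : z ≠ 0) (hx : ∀ v, x (x v) = z • v)

include hz hx in
theorem injective_of_sq : Function.Injective x := by
  intro u v h
  have : z • u = z • v := by rw [← hx, ← hx, h]
  exact smul_right_injective V hz this

include hz hx in
theorem exists_family_of_subspaces [FiniteDimensional F V] (W K₁ K₂ : Submodule F V) (l₁ l₂ : F)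
    (h1 : Disjoint W (W.map x)) (h2 : Disjoint (W ⊔ W.map x) K₁)
    (h3 : Disjoint (W ⊔ W.map x ⊔ K₁) K₂) (htop : W ⊔ W.map x ⊔ K₁ ⊔ K₂ = ⊤)
    (hK₁ : ∀ v ∈ K₁, x v = l₁ • v) (hK₂ : ∀ v ∈ K₂, x v = l₂ • v) :
    ∃ (ι : Type) (_ : Fintype ι) (b : ι → V) (τ : ι → ι), Involutive τ ∧ LinearIndependent F b ∧
      span F (Set.range b) = ⊤ ∧ ∀ i, x (b i) ∈ span F {b (τ i)} := by
  classical
  have hinj := injective_of_sq x z hz hx
  have key : ∀ (K : Submodule F V), ∃ k : Fin (finrank F K) → V, LinearIndependent F k ∧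
      span F (Set.range k) = K ∧ ∀ i, k i ∈ K := by
    intro K
    refine ⟨fun i => (Module.finBasis F K i : V),
      (Module.finBasis F K).linearIndependent.map' K.subtype (ker_subtype K), ?_, fun i => (Module.finBasis F K i).2⟩
    have : Set.range (fun i => (Module.finBasis F K i : V)) = K.subtype '' Set.range (Module.finBasis F K) := by
      rw [← Set.range_comp]; rfl
    rw [this, ← Submodule.map_span, (Module.finBasis F K).span_eq, Submodule.map_top, range_subtype]
  obtain ⟨w, hw, sw, hwW⟩ := key W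
  obtain ⟨k1, hk1, sk1, hk1K⟩ := key K₁
  obtain ⟨k2, hk2, sk2, hk2K⟩ := key K₂
  have hxw : LinearIndependent F (x ∘ w) := hw.map' x (LinearMap.ker_eq_bot.mpr hinj)
  have sxw : span F (Set.range (x ∘ w)) = W.map x := by
    rw [Set.range_comp, ← Submodule.map_span, sw]
  have hli1 : LinearIndependent F (Sum.elim w (x ∘ w)) :=
    hw.sum_type hxw (by rw [sw, sxw]; exact h1)
  have s1 : span F (Set.range (Sum.elim w (x ∘ w))) = W ⊔ W.map x := by
    rw [Set.Sum.elim_range, span_union, sw, sxw]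
  have hli2 : LinearIndependent F (Sum.elim (Sum.elim w (x ∘ w)) k1) :=
    hli1.sum_type hk1 (by rw [s1, sk1]; exact h2)
  have s2 : span F (Set.range (Sum.elim (Sum.elim w (x ∘ w)) k1)) = W ⊔ W.map x ⊔ K₁ := by
    rw [Set.Sum.elim_range, span_union, s1, sk1]
  have hli3 : LinearIndependent F (Sum.elim (Sum.elim (Sum.elim w (x ∘ w)) k1) k2) :=
    hli2.sum_type hk2 (by rw [s2, sk2]; exact h3)
  have s3 : span F (Set.range (Sum.elim (Sum.elim (Sum.elim w (x ∘ w)) k1) k2)) = ⊤ := by
    rw [Set.Sum.elim_range, span_union, s2, sk2, htop]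
  refine ⟨((Fin (finrank F W) ⊕ Fin (finrank F W)) ⊕ Fin (finrank F K₁)) ⊕ Fin (finrank F K₂),
    inferInstance, Sum.elim (Sum.elim (Sum.elim w (x ∘ w)) k1) k2,
    Sum.map (Sum.map Sum.swap id) id, ?_, hli3, s3, ?_⟩
  · rintro (((i | i) | i) | i) <;> rfl
  · rintro (((i | i) | i) | i)
    · exact subset_span rfl
    · change x (x (w i)) ∈ span F {w i}
      rw [hx]
      exact smul_mem _ _ (subset_span rfl)
    · change x (k1 i) ∈ span F {k1 i}
      rw [hK₁ _ (hk1K i)]
      exact smul_mem _ _ (subset_span rfl)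
    · change x (k2 i) ∈ span F {k2 i}
      rw [hK₂ _ (hk2K i)]
      exact smul_mem _ _ (subset_span rfl)

include hx in
theorem map_sup_map (W : Submodule F V) : ∀ u ∈ W ⊔ W.map x, x u ∈ W ⊔ W.map x := by
  intro u hu
  obtain ⟨w₁, hw₁, y, hy, rfl⟩ := mem_sup.mp hu
  obtain ⟨w₂, hw₂, rfl⟩ := mem_map.mp hy
  rw [map_add, hx]
  exact add_mem (mem_sup_right (mem_map_of_mem hw₁)) (mem_sup_left (smul_mem _ _ hw₂))

include hz hx in
/-- when `W` is maximal with `W ∩ xW = 0`, every vector outside `W + xW` is an eigenvector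
modulo `W + xW` -/
theorem max_free [FiniteDimensional F V] (W : Submodule F V)
    (hW : Maximal (fun W : Submodule F V => Disjoint W (W.map x)) W) (v : V)
    (hv : v ∉ W ⊔ W.map x) : ∃ u ∈ W ⊔ W.map x, ∃ l : F, x v = u + l • v := by
  by_contra hcon
  push Not at hcon
  have hinj := injective_of_sq x z hz hx
  have hP : Disjoint (W ⊔ span F {v}) ((W ⊔ span F {v}).map x) := by
    rw [disjoint_def]
    intro y hy hy'
    obtain ⟨w, hw, y₂, hy₂, rfl⟩ := mem_sup.mp hy
    obtain ⟨α, rfl⟩ := mem_span_singleton.mp hy₂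
    obtain ⟨y₃, hy₃, hy₃'⟩ := mem_map.mp hy'
    obtain ⟨w', hw', y₄, hy₄, rfl⟩ := mem_sup.mp hy₃
    obtain ⟨β, rfl⟩ := mem_span_singleton.mp hy₄
    rw [map_add, map_smul] at hy₃'
    have hβ : β = 0 := by
      by_contra hβ
      apply hcon (β⁻¹ • (w - x w')) (smul_mem _ _ (sub_mem (mem_sup_left hw)
        (mem_sup_right (mem_map_of_mem hw')))) (β⁻¹ * α)
      have : β • x v = w + α • v - x w' := by rw [← hy₃']; abel
      calc x v = β⁻¹ • (β • x v) := by rw [smul_smul, inv_mul_cancel₀ hβ, one_smul]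
        _ = _ := by rw [this, smul_sub, smul_sub, smul_add, smul_smul]; abel
    subst hβ
    rw [zero_smul, add_zero] at hy₃'
    have hα : α = 0 := by
      by_contra hα
      apply hv
      have : v = α⁻¹ • (x w' - w) := by
        rw [hy₃']
        rw [add_sub_cancel_left, smul_smul, inv_mul_cancel₀ hα, one_smul]
      rw [this]
      exact smul_mem _ _ (sub_mem (mem_sup_right (mem_map_of_mem hw')) (mem_sup_left hw))
    subst hα
    rw [zero_smul, add_zero] at hy₃' ⊢
    have : w ∈ W ⊓ W.map x := ⟨hw, by rw [← hy₃']; exact mem_map_of_mem hw'⟩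
    rw [hW.prop.eq_bot] at this
    exact this
  have hle : W ⊔ span F {v} ≤ W := hW.le_of_ge hP le_sup_left
  exact hv (mem_sup_left (hle (mem_sup_right (mem_span_singleton_self v))))

include hz hx in
/-- correcting a vector outside `W + xW` to an eigenvector -/
theorem correct (W : Submodule F V) (hW : Disjoint W (W.map x)) (v : V)
    (hv : v ∉ W ⊔ W.map x) (u : V) (hu : u ∈ W ⊔ W.map x) (l : F) (hxv : x v = u + l • v) :
    l * l = z ∧ ∃ w₂ ∈ W, x (v - w₂) = l • (v - w₂) := by
  have hinj := injective_of_sq x z hz hx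
  have h1 : (z - l * l) • v = x u + l • u := by
    have := hx v
    rw [hxv, map_add, map_smul, hxv] at this
    rw [sub_smul, ← this, smul_add, smul_smul]; abel
  have hll : l * l = z := by
    by_contra hne
    have hne' : z - l * l ≠ 0 := sub_ne_zero.mpr (Ne.symm hne)
    apply hv
    have : v = (z - l * l)⁻¹ • (x u + l • u) := by
      rw [← h1, smul_smul, inv_mul_cancel₀ hne', one_smul]
    rw [this]
    exact smul_mem _ _ (add_mem (map_sup_map x z hx W u hu) (smul_mem _ _ hu))
  refine ⟨hll, ?_⟩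
  rw [hll, sub_self, zero_smul] at h1
  obtain ⟨w₁, hw₁, y, hy, rfl⟩ := mem_sup.mp hu
  obtain ⟨w₂, hw₂, rfl⟩ := mem_map.mp hy
  rw [map_add, hx, smul_add] at h1
  have h2 : z • w₂ + l • w₁ = x (-(w₁ + l • w₂)) := by
    rw [map_neg, map_add, map_smul]
    have : z • w₂ + l • w₁ + (x w₁ + l • x w₂) = 0 := by rw [h1]; abel
    rw [eq_neg_iff_add_eq_zero]; exact this
  have h3 : z • w₂ + l • w₁ ∈ W ⊓ W.map x :=
    ⟨add_mem (smul_mem _ _ hw₂) (smul_mem _ _ hw₁), by
      rw [h2]; exact mem_map_of_mem (neg_mem (add_mem hw₁ (smul_mem _ _ hw₂)))⟩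
  rw [hW.eq_bot, mem_bot] at h3
  rw [h3] at h2
  have h4 : -(w₁ + l • w₂) = 0 := hinj (by rw [← h2, map_zero])
  have h5 : w₁ = -(l • w₂) := by
    rw [neg_eq_zero] at h4
    exact eq_neg_of_add_eq_zero_left h4
  refine ⟨w₂, hw₂, ?_⟩
  rw [map_sub, hxv, h5, smul_sub]
  abel

include hz hx in
/-- the structure of a linear map with scalar square, when all eigenvalues coincide -/
theorem exists_family_single [FiniteDimensional F V] (l₀ : F)
    (H : ∀ v : V, v ≠ 0 → ∀ l : F, x v = l • v → l = l₀) :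
    ∃ (ι : Type) (_ : Fintype ι) (b : ι → V) (τ : ι → ι), Involutive τ ∧ LinearIndependent F b ∧
      span F (Set.range b) = ⊤ ∧ ∀ i, x (b i) ∈ span F {b (τ i)} := by
  obtain ⟨W, hW⟩ := exists_maximal_of_wellFoundedGT
    (fun W : Submodule F V => Disjoint W (W.map x)) ⟨⊥, by simp⟩
  set U := W ⊔ W.map x with hU
  set E : Submodule F V := LinearMap.ker (x - l₀ • LinearMap.id) with hE
  have hEmem : ∀ v, v ∈ E ↔ x v = l₀ • v := by
    intro v
    rw [hE, LinearMap.mem_ker, LinearMap.sub_apply, LinearMap.smul_apply, LinearMap.id_apply,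
      sub_eq_zero]
  have hUE : U ⊔ E = ⊤ := by
    rw [eq_top_iff]
    intro v _
    by_cases hv : v ∈ U
    · exact mem_sup_left hv
    · obtain ⟨u, hu, l, hxv⟩ := max_free x z hz hx W hW v hv
      obtain ⟨hll, w₂, hw₂, hw⟩ := correct x z hz hx W hW.prop v hv u hu l hxv
      have hne : v - w₂ ≠ 0 := by
        intro h
        apply hv
        rw [sub_eq_zero] at h
        rw [h]; exact mem_sup_left hw₂
      have hl := H _ hne l hw
      subst hl
      have : v = w₂ + (v - w₂) := by abel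
      rw [this]
      exact add_mem (mem_sup_left (mem_sup_left hw₂)) (mem_sup_right ((hEmem _).mpr hw))
  obtain ⟨C, hC⟩ := Submodule.exists_isCompl (U ⊓ E)
  have h2 : Disjoint U (C ⊓ E) := by
    rw [disjoint_iff]
    have : U ⊓ (C ⊓ E) = (U ⊓ E) ⊓ C := by
      rw [inf_comm C E, ← inf_assoc]
    rw [this]
    exact hC.inf_eq_bot
  have h3 : U ⊔ (C ⊓ E) = ⊤ := by
    have h4 : (U ⊓ E) ⊔ (C ⊓ E) = E := by
      rw [← sup_inf_assoc_of_le C (inf_le_right : U ⊓ E ≤ E), hC.sup_eq_top, top_inf_eq]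
    rw [eq_top_iff, ← hUE]
    apply sup_le le_sup_left
    calc E = (U ⊓ E) ⊔ (C ⊓ E) := h4.symm
      _ ≤ U ⊔ (C ⊓ E) := sup_le_sup_right inf_le_left _
  apply exists_family_of_subspaces x z hz hx W (C ⊓ E) ⊥ l₀ 0 hW.prop h2 (by simp)
    (by rw [sup_bot_eq]; exact h3) (fun v hv => (hEmem v).mp hv.2)
    (fun v hv => by rw [mem_bot] at hv; rw [hv]; simp)

include hz hx in
/-- the diagonalisable case -/
theorem exists_family_diag [FiniteDimensional F V] (h2 : (2 : F) ≠ 0) (μ : F) (hμ : μ * μ = z) :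
    ∃ (ι : Type) (_ : Fintype ι) (b : ι → V) (τ : ι → ι), Involutive τ ∧ LinearIndependent F b ∧
      span F (Set.range b) = ⊤ ∧ ∀ i, x (b i) ∈ span F {b (τ i)} := by
  have hμ0 : μ ≠ 0 := by
    rintro rfl
    rw [mul_zero] at hμ
    exact hz hμ.symm
  set E₁ : Submodule F V := LinearMap.ker (x - μ • LinearMap.id) with hE₁
  set E₂ : Submodule F V := LinearMap.ker (x - (-μ) • LinearMap.id) with hE₂
  have hmem : ∀ (l : F) (v : V), v ∈ LinearMap.ker (x - l • LinearMap.id) ↔ x v = l • v := by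
    intro l v
    rw [LinearMap.mem_ker, LinearMap.sub_apply, LinearMap.smul_apply, LinearMap.id_apply,
      sub_eq_zero]
  apply exists_family_of_subspaces x z hz hx ⊥ E₁ E₂ μ (-μ) (by simp) (by simp) ?_ ?_
    (fun v hv => (hmem μ v).mp hv) (fun v hv => (hmem (-μ) v).mp hv)
  · rw [Submodule.map_bot, bot_sup_eq, bot_sup_eq, disjoint_def]
    intro v hv1 hv2
    have e1 := (hmem μ v).mp hv1
    have e2 := (hmem (-μ) v).mp hv2
    have : (2 * μ) • v = 0 := by
      rw [e1] at e2
      rw [two_mul, add_smul]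
      nth_rewrite 1 [e2]
      rw [neg_smul, neg_add_cancel]
    rcases smul_eq_zero.mp this with h | h
    · exact absurd h (mul_ne_zero h2 hμ0)
    · exact h
  · rw [Submodule.map_bot, bot_sup_eq, bot_sup_eq, eq_top_iff]
    intro v _
    have h2μ : (2 * μ) ≠ 0 := mul_ne_zero h2 hμ0
    have : v = (2 * μ)⁻¹ • (x v + μ • v) + (2 * μ)⁻¹ • (-(x v) + μ • v) := by
      rw [← smul_add]
      have : x v + μ • v + (-(x v) + μ • v) = (2 * μ) • v := by
        rw [two_mul, add_smul]; abel
      rw [this, smul_smul, inv_mul_cancel₀ h2μ, one_smul]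
    rw [this]
    apply add_mem
    · apply mem_sup_left
      apply smul_mem
      rw [hE₁, hmem, map_add, map_smul, hx, smul_add, smul_smul, hμ]
      abel
    · apply mem_sup_right
      apply smul_mem
      rw [hE₂, hmem, map_add, map_smul, map_neg, hx, smul_add, smul_smul, neg_mul, hμ, neg_smul,
        smul_neg, neg_smul, neg_neg]
      abel

end

/-- the structure of a linear map with scalar square over a finite field -/
theorem exists_family [Finite F] [FiniteDimensional F V] (hz : z ≠ 0) (hx : ∀ v, x (x v) = z • v) :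
    ∃ (ι : Type) (_ : Fintype ι) (b : ι → V) (τ : ι → ι), Involutive τ ∧ LinearIndependent F b ∧
      span F (Set.range b) = ⊤ ∧ ∀ i, x (b i) ∈ span F {b (τ i)} := by
  by_cases hsq : ∃ μ : F, μ * μ = z
  · obtain ⟨μ, hμ⟩ := hsq
    by_cases h2 : (2 : F) = 0
    · apply exists_family_single x z hz hx μ
      intro v hv l hl
      have h1 : (z - l * l) • v = 0 := by
        have := hx v
        rw [hl, map_smul, hl, smul_smul] at this
        rw [sub_smul, this, sub_self]
      have h3 : z = l * l := by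
        rcases smul_eq_zero.mp h1 with h | h
        · exact sub_eq_zero.mp h
        · exact absurd h hv
      have h4 : (l - μ) * (l - μ) = 0 := by
        have : (l - μ) * (l - μ) = l * l - 2 * (l * μ) + μ * μ := by ring
        rw [this, h2, zero_mul, sub_zero, ← h3, hμ, ← two_mul, h2, zero_mul]
      have := mul_self_eq_zero.mp h4
      exact sub_eq_zero.mp this
    · exact exists_family_diag x z hz hx h2 μ hμ
  · apply exists_family_single x z hz hx 0
    intro v hv l hl
    exfalso
    apply hsq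
    refine ⟨l, ?_⟩
    have h1 : (z - l * l) • v = 0 := by
      have := hx v
      rw [hl, map_smul, hl, smul_smul] at this
      rw [sub_smul, this, sub_self]
    rcases smul_eq_zero.mp h1 with h | h
    · exact (sub_eq_zero.mp h).symm
    · exact absurd h hv

end Cfsg.Agent.Lib.Helper5.InvolLinear
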