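import Mathlib
import Cfsg.Agent.Lib.Helper4.ES2A

/-!
# S1721 / S5382, part A7: the inversion trick

`C` a group with a normal extraspecial subgroup `Q` of order 32 (datum `Data Q z`), acting on five
pairs `{u i, u i * z}` of noncentral involutions of `Q` through `phi : C → Perm (Fin 5)` with kernel
`Q` and image `A5`.  For an involution `v` of `C` outside `Q`: `C_Q(v) = ⟨z, u m⟩` (`m` the fixed
point of `phi v`), the coset `v Q` contains exactly 8 involutions, all `Q`-conjugate to `v`, the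
involutions of `C \ Q` form a single `C`-class of 120 elements and `|C_C(v)| = 16`.
-/

set_option autoImplicit false

namespace Cfsg.Agent.Lib.Helper5.J2A7

open Cfsg.Agent.Lib.Helper4.ES2

set_option maxRecDepth 1000000 in
set_option synthInstance.maxSize 4096 in
set_option synthInstance.maxHeartbeats 0 in
theorem perm_shape : ∀ σ : Equiv.Perm (Fin 5), Equiv.Perm.sign σ = 1 → σ * σ = 1 → σ ≠ 1 →
    ∃ i k m : Fin 5, σ m = m ∧ i ≠ m ∧ σ i ≠ m ∧ k ≠ m ∧ σ k ≠ m ∧ σ i ≠ i ∧ σ k ≠ k ∧ k ≠ i ∧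
      k ≠ σ i ∧ σ k ≠ i ∧ σ k ≠ σ i ∧ (∀ j, σ j = j → j = m) := by decide +kernel

set_option maxRecDepth 1000000 in
theorem perm_conj : ∀ σ : Equiv.Perm (Fin 5), Equiv.Perm.sign σ = 1 → σ * σ = 1 → σ ≠ 1 →
    ∃ τ : Equiv.Perm (Fin 5), Equiv.Perm.sign τ = 1 ∧
      τ * σ * τ⁻¹ = Equiv.swap 0 1 * Equiv.swap 2 3 := by decide +kernel

set_option maxRecDepth 1000000 in
theorem perm_count : (Finset.univ.filter (fun σ : Equiv.Perm (Fin 5) =>
    Equiv.Perm.sign σ = 1 ∧ σ * σ = 1 ∧ σ ≠ 1)).card = 15 := by decide +kernel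

/-- any two involutions of `A5` are conjugate in `A5` -/
theorem perm_conj2 (σ σ' : Equiv.Perm (Fin 5)) (h1 : Equiv.Perm.sign σ = 1) (h2 : σ * σ = 1)
    (h3 : σ ≠ 1) (h1' : Equiv.Perm.sign σ' = 1) (h2' : σ' * σ' = 1) (h3' : σ' ≠ 1) :
    ∃ τ : Equiv.Perm (Fin 5), Equiv.Perm.sign τ = 1 ∧ τ * σ' * τ⁻¹ = σ := by
  obtain ⟨τ, hτ, e⟩ := perm_conj σ h1 h2 h3
  obtain ⟨τ', hτ', e'⟩ := perm_conj σ' h1' h2' h3'
  refine ⟨τ⁻¹ * τ', by simp [hτ, hτ'], ?_⟩
  have : σ = τ⁻¹ * (τ * σ * τ⁻¹) * τ := by group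
  rw [this, e, ← e']
  group

variable {G : Type*} [Group G] {Q : Subgroup G} {z : G}

theorem cm_conj (hD : Data Q z) {c a b : G} (hcz : c * z = z * c) (ha : a ∈ Q) (hb : b ∈ Q) :
    cm (c * a * c⁻¹) (c * b * c⁻¹) = cm a b := by
  have h1 : cm (c * a * c⁻¹) (c * b * c⁻¹) = c * cm a b * c⁻¹ := by unfold cm; group
  rw [h1]
  rcases hD.comm_mem a ha b hb with h | h <;> rw [h]
  · group
  · rw [hcz]; group

theorem cm_mul_z_right (hD : Data Q z) {q x : G} (hq : q ∈ Q) (hx : x ∈ Q) :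
    cm q (x * z) = cm q x := by
  rw [hD.cm_mul_right hq hx hD.zQ, hD.cm_z_right hq, mul_one]

theorem cm_mul_z_left (hD : Data Q z) {q x : G} (hq : q ∈ Q) (hx : x ∈ Q) :
    cm (q * z) x = cm q x := by
  rw [hD.cm_mul_left hq hD.zQ hx, hD.cm_z_left hx, mul_one]

theorem cm_sq (hD : Data Q z) {a b : G} (ha : a ∈ Q) (hb : b ∈ Q) : cm a b * cm a b = 1 := by
  rcases hD.comm_mem a ha b hb with h | h <;> rw [h]
  · rw [mul_one]
  · exact hD.z_sq

/-- if `v` (an involution centralizing `z`) fixes `q` modulo `z` and maps `x` to `y` modulo `z`, then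
`q` has the same commutator with `x` and `y` -/
theorem cm_twist (hD : Data Q z) {v q x y : G} (hvz : v * z = z * v) (hv2 : v * v = 1)
    (hq : q ∈ Q) (hx : x ∈ Q) (hy : y ∈ Q)
    (hP : v * q * v⁻¹ = q ∨ v * q * v⁻¹ = q * z)
    (hxy : v * x * v⁻¹ = y ∨ v * x * v⁻¹ = y * z) : cm q y = cm q x := by
  have hq' : v * q * v⁻¹ ∈ Q := by
    rcases hP with h | h <;> rw [h]
    · exact hq
    · exact Q.mul_mem hq hD.zQ
  have e1 : q = v * (v * q * v⁻¹) * v⁻¹ := by
    calc q = (v * v) * q * (v * v)⁻¹ := by rw [hv2]; group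
      _ = v * (v * q * v⁻¹) * v⁻¹ := by group
  have h1 : cm q (v * x * v⁻¹) = cm q x := by
    calc cm q (v * x * v⁻¹) = cm (v * (v * q * v⁻¹) * v⁻¹) (v * x * v⁻¹) := by rw [← e1]
      _ = cm (v * q * v⁻¹) x := cm_conj hD hvz hq' hx
      _ = cm q x := by
        rcases hP with h | h <;> rw [h]
        exact cm_mul_z_left hD hq hx
  rcases hxy with h | h
  · rw [← h, h1]
  · rw [← cm_mul_z_right hD hq hy, ← h, h1]

/-- `v` swaps `x` and `y` modulo `z`: it maps `x * y` to `y * x` -/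
theorem swap_pair (hD : Data Q z) {v x y : G} (hvz : v * z = z * v) (hv2 : v * v = 1)
    (hx : x ∈ Q) (hxy : v * x * v⁻¹ = y ∨ v * x * v⁻¹ = y * z) :
    v * (x * y) * v⁻¹ = y * x := by
  have e1 : x = v * (v * x * v⁻¹) * v⁻¹ := by
    calc x = (v * v) * x * (v * v)⁻¹ := by rw [hv2]; group
      _ = v * (v * x * v⁻¹) * v⁻¹ := by group
  have hzc : v * z * v⁻¹ = z := by rw [hvz]; group
  rcases hxy with h | h
  · have h2 : v * y * v⁻¹ = x := by rw [← h, ← e1]
    calc v * (x * y) * v⁻¹ = (v * x * v⁻¹) * (v * y * v⁻¹) := by group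
      _ = y * x := by rw [h, h2]
  · have h2 : v * y * v⁻¹ = x * z := by
      have h3 : v * (y * z) * v⁻¹ = x := by rw [← h, ← e1]
      have h4 : v * (y * z) * v⁻¹ = (v * y * v⁻¹) * (v * z * v⁻¹) := by group
      rw [h4, hzc] at h3
      rw [← h3, mul_assoc (v * y * v⁻¹) z z, hD.z_sq, mul_one]
    calc v * (x * y) * v⁻¹ = (v * x * v⁻¹) * (v * y * v⁻¹) := by group
      _ = y * z * (x * z) := by rw [h, h2]
      _ = y * (z * x) * z := by group
      _ = y * (x * z) * z := by rw [← hD.z_comm x hx]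
      _ = y * x * (z * z) := by group
      _ = y * x := by rw [hD.z_sq, mul_one]

omit [Group G] in
theorem card_sub [Fintype G] (p : G → Prop) [DecidablePred p] :
    Nat.card {q : G // p q} = (Finset.univ.filter p).card := by
  rw [Nat.card_eq_fintype_card, Fintype.card_subtype]

open Classical in
theorem local_part [Finite G] (C : Subgroup G) (hD : Data Q z) (hQ : Nat.card Q = 32)
    (hCz : ∀ c ∈ C, c * z = z * c) (hQn : ∀ c ∈ C, ∀ q ∈ Q, c * q * c⁻¹ ∈ Q)
    (phi : ↥C →* Equiv.Perm (Fin 5)) (u : Fin 5 → G)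
    (hker : ∀ c : ↥C, phi c = 1 ↔ (c : G) ∈ Q)
    (hran : phi.range = alternatingGroup (Fin 5))
    (hu : ∀ i, u i ∈ Q ∧ u i * u i = 1 ∧ u i ≠ 1 ∧ u i ≠ z)
    (hcm : ∀ i j, i ≠ j → cm (u i) (u j) = z)
    (hact : ∀ (c : ↥C) (i : Fin 5), (c : G) * u i * (c : G)⁻¹ = u (phi c i) ∨
      (c : G) * u i * (c : G)⁻¹ = u (phi c i) * z)
    (v : G) (hvC : v ∈ C) (hvQ : v ∉ Q) (hv2 : v * v = 1) :
    ∃ m : Fin 5, phi ⟨v, hvC⟩ m = m ∧ (∀ j, phi ⟨v, hvC⟩ j = j → j = m) ∧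
      (∀ q ∈ Q, v * q = q * v ↔ (q = 1 ∨ q = z ∨ q = u m ∨ q = u m * z)) ∧
      Nat.card {q : G // q ∈ Q ∧ (v * q) * (v * q) = 1} = 8 ∧
      (∀ q ∈ Q, (v * q) * (v * q) = 1 → v * q * v⁻¹ = q⁻¹) ∧
      (∀ q ∈ Q, (v * q) * (v * q) = 1 → ∃ r ∈ Q, r * v * r⁻¹ = v * q) := by
  have := Fintype.ofFinite G
  have hvinv : v⁻¹ = v := inv_eq_of_mul_eq_one_left hv2
  have hvz : v * z = z * v := hCz v hvC
  have huQ : ∀ x, u x ∈ Q := fun x => (hu x).1
  set σ := phi ⟨v, hvC⟩ with hσ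
  have hσA : Equiv.Perm.sign σ = 1 := by
    have : σ ∈ alternatingGroup (Fin 5) := by rw [← hran]; exact ⟨_, rfl⟩
    exact Equiv.Perm.mem_alternatingGroup.1 this
  have hσ2 : σ * σ = 1 := by
    rw [hσ, ← map_mul]
    have : (⟨v, hvC⟩ : ↥C) * ⟨v, hvC⟩ = 1 := Subtype.ext hv2
    rw [this, map_one]
  have hσ1 : σ ≠ 1 := fun h => hvQ ((hker _).1 h)
  obtain ⟨i, k, m, hm, him, hjm, hkm, hlm, hji, hlk, hki, hkj, hli, hlj, hfix⟩ :=
    perm_shape σ hσA hσ2 hσ1
  have hact' : ∀ x, v * u x * v⁻¹ = u (σ x) ∨ v * u x * v⁻¹ = u (σ x) * z :=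
    fun x => hact ⟨v, hvC⟩ x
  refine ⟨m, hm, hfix, ?_⟩
  -- the elements a, b
  have haQ : u i * u (σ i) ∈ Q := Q.mul_mem (huQ i) (huQ _)
  have hbQ : u k * u (σ k) ∈ Q := Q.mul_mem (huQ k) (huQ _)
  have cma : ∀ x, x ≠ i → x ≠ σ i → cm (u x) (u i * u (σ i)) = 1 := by
    intro x hxi hxj
    rw [hD.cm_mul_right (huQ x) (huQ i) (huQ _), hcm x i hxi, hcm x _ hxj, hD.z_sq]
  have cmb : ∀ x, x ≠ k → x ≠ σ k → cm (u x) (u k * u (σ k)) = 1 := by
    intro x hxi hxj
    rw [hD.cm_mul_right (huQ x) (huQ k) (huQ _), hcm x k hxi, hcm x _ hxj, hD.z_sq]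
  have cmia : cm (u i) (u i * u (σ i)) = z := by
    rw [hD.cm_mul_right (huQ i) (huQ i) (huQ _), cm_self, one_mul, hcm i _ (Ne.symm hji)]
  have cmkb : cm (u k) (u k * u (σ k)) = z := by
    rw [hD.cm_mul_right (huQ k) (huQ k) (huQ _), cm_self, one_mul, hcm k _ (Ne.symm hlk)]
  -- W0
  set W0 : Subgroup G := (Q ⊓ Subgroup.centralizer {u i * u (σ i)}) ⊓
    Subgroup.centralizer {u k * u (σ k)} with hW0def
  have hW0 : Nat.card W0 = 8 := by
    have c1 := hD.card_centralizer (M := Q) le_rfl haQ (huQ i) cmia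
    have hk_mem : u k ∈ Q ⊓ Subgroup.centralizer {u i * u (σ i)} := by
      rw [Subgroup.mem_inf, Subgroup.mem_centralizer_singleton_iff]
      exact ⟨huQ k, cm_eq_one_iff.1 (cma k hki hkj)⟩
    have c2 := hD.card_centralizer (M := Q ⊓ Subgroup.centralizer {u i * u (σ i)}) inf_le_left hbQ
      hk_mem cmkb
    rw [hW0def]
    omega
  have memW0 : ∀ q, q ∈ W0 ↔ (q ∈ Q ∧ q * (u i * u (σ i)) = (u i * u (σ i)) * q ∧
      q * (u k * u (σ k)) = (u k * u (σ k)) * q) := by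
    intro q
    rw [hW0def, Subgroup.mem_inf, Subgroup.mem_inf, Subgroup.mem_centralizer_singleton_iff,
      Subgroup.mem_centralizer_singleton_iff, and_assoc]
  -- P q implies q ∈ W0
  have hPW0 : ∀ q ∈ Q, (v * q * v⁻¹ = q ∨ v * q * v⁻¹ = q * z) → q ∈ W0 := by
    intro q hq hP
    rw [memW0]
    refine ⟨hq, ?_, ?_⟩
    · apply cm_eq_one_iff.1
      rw [hD.cm_mul_right hq (huQ i) (huQ _),
        cm_twist hD hvz hv2 hq (huQ i) (huQ _) hP (hact' i)]
      exact cm_sq hD hq (huQ i)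
    · apply cm_eq_one_iff.1
      rw [hD.cm_mul_right hq (huQ k) (huQ _),
        cm_twist hD hvz hv2 hq (huQ k) (huQ _) hP (hact' k)]
      exact cm_sq hD hq (huQ k)
  have hN_P : ∀ q ∈ Q, (v * q) * (v * q) = 1 → v * q * v⁻¹ = q⁻¹ := by
    intro q _ h
    rw [hvinv]
    apply eq_inv_of_mul_eq_one_left
    rw [← h]; group
  have hinvP : ∀ q ∈ Q, q⁻¹ = q ∨ q⁻¹ = q * z := by
    intro q hq
    rcases hD.sq_mem q hq with h | h
    · left; exact inv_eq_of_mul_eq_one_left h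
    · right
      apply inv_eq_of_mul_eq_one_right
      rw [← mul_assoc, h, hD.z_sq]
  -- finsets
  set Qf : Finset G := Finset.univ.filter (fun q => q ∈ Q) with hQfdef
  have hQf : Qf.card = 32 := by rw [← hQ]; exact (card_sub (fun q => q ∈ Q)).symm
  set Nf : Finset G := Qf.filter (fun q => (v * q) * (v * q) = 1) with hNfdef
  set Ff : Finset G := Qf.filter (fun q => v * q = q * v) with hFfdef
  set W0f : Finset G := Finset.univ.filter (fun q => q ∈ W0) with hW0fdef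
  have hW0f : W0f.card = 8 := by rw [← hW0]; exact (card_sub (fun q => q ∈ W0)).symm
  have memQf : ∀ q, q ∈ Qf ↔ q ∈ Q := by intro q; simp [hQfdef]
  have memNf : ∀ q, q ∈ Nf ↔ (q ∈ Q ∧ (v * q) * (v * q) = 1) := by
    intro q; simp [hNfdef, memQf]
  have memFf : ∀ q, q ∈ Ff ↔ (q ∈ Q ∧ v * q = q * v) := by
    intro q; simp [hFfdef, memQf]
  have memW0f : ∀ q, q ∈ W0f ↔ q ∈ W0 := by intro q; simp [hW0fdef]
  have hNW : Nf ⊆ W0f := by
    intro q hq
    rw [memNf] at hq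
    rw [memW0f]
    apply hPW0 q hq.1
    rw [hN_P q hq.1 hq.2]
    exact hinvP q hq.1
  -- the map γ
  let γ : G → G := fun r => v⁻¹ * (r * v * r⁻¹)
  have hγ : ∀ r, v * γ r = r * v * r⁻¹ := fun r => by simp only [γ]; group
  have hγN : ∀ r ∈ Qf, γ r ∈ Nf := by
    intro r hr
    rw [memQf] at hr
    rw [memNf]
    refine ⟨?_, ?_⟩
    · have h1 : v⁻¹ * r * v⁻¹⁻¹ ∈ Q := hQn v⁻¹ (C.inv_mem hvC) r hr
      rw [inv_inv] at h1
      have : γ r = (v⁻¹ * r * v) * r⁻¹ := by simp only [γ]; group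
      rw [this]
      exact Q.mul_mem h1 (Q.inv_mem hr)
    · rw [hγ]
      calc r * v * r⁻¹ * (r * v * r⁻¹) = r * (v * v) * r⁻¹ := by group
        _ = 1 := by rw [hv2]; group
  have himg : Qf.image γ ⊆ Nf := by
    intro y hy
    rw [Finset.mem_image] at hy
    obtain ⟨r, hr, rfl⟩ := hy
    exact hγN r hr
  have hfib : ∀ y ∈ Qf.image γ, (Qf.filter (fun x => γ x = y)).card ≤ Ff.card := by
    intro y hy
    rw [Finset.mem_image] at hy
    obtain ⟨r, hr, rfl⟩ := hy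
    rw [memQf] at hr
    apply Finset.card_le_card_of_injOn (fun x => r⁻¹ * x)
    · intro x hx
      rw [Finset.mem_coe, Finset.mem_filter, memQf] at hx
      rw [Finset.mem_coe, memFf]
      refine ⟨Q.mul_mem (Q.inv_mem hr) hx.1, ?_⟩
      have h1 : x * v * x⁻¹ = r * v * r⁻¹ := by
        have := hx.2
        simp only [γ] at this
        exact mul_left_cancel this
      calc v * (r⁻¹ * x) = r⁻¹ * (r * v * r⁻¹) * x := by group
        _ = r⁻¹ * (x * v * x⁻¹) * x := by rw [h1]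
        _ = r⁻¹ * x * v := by group
    · intro x _ x' _ h
      exact mul_left_cancel h
  have h32 : 32 ≤ Ff.card * (Qf.image γ).card := by
    rw [← hQf]
    exact Finset.card_le_mul_card_image Qf Ff.card hfib
  -- F as a subgroup
  set Fsub : Subgroup G := Q ⊓ Subgroup.centralizer {v} with hFsubdef
  have memFsub : ∀ q, q ∈ Fsub ↔ (q ∈ Q ∧ v * q = q * v) := by
    intro q
    rw [hFsubdef, Subgroup.mem_inf, Subgroup.mem_centralizer_singleton_iff]
    constructor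
    · rintro ⟨h1, h2⟩; exact ⟨h1, h2.symm⟩
    · rintro ⟨h1, h2⟩; exact ⟨h1, h2.symm⟩
  have hFfc : Ff.card = Nat.card Fsub := by
    rw [show Nat.card Fsub = _ from card_sub (fun q => q ∈ Fsub)]
    congr 1
    ext q
    rw [memFf, Finset.mem_filter, memFsub]
    simp
  have hFW : Fsub ≤ W0 := by
    intro q hq
    rw [memFsub] at hq
    apply hPW0 q hq.1
    left
    rw [hq.2]; group
  have haW0 : u i * u (σ i) ∈ W0 := by
    rw [memW0]
    refine ⟨haQ, rfl, ?_⟩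
    apply cm_eq_one_iff.1
    rw [hD.cm_mul_left (huQ i) (huQ _) hbQ, hD.cm_symm (huQ i) hbQ, hD.cm_symm (huQ (σ i)) hbQ]
    have e1 : cm (u k * u (σ k)) (u i) = 1 := by
      rw [hD.cm_mul_left (huQ k) (huQ _) (huQ i), hcm k i hki, hcm _ i hli, hD.z_sq]
    have e2 : cm (u k * u (σ k)) (u (σ i)) = 1 := by
      rw [hD.cm_mul_left (huQ k) (huQ _) (huQ _), hcm k _ hkj, hcm _ _ hlj, hD.z_sq]
    rw [e1, e2, mul_one]
  have haF : u i * u (σ i) ∉ Fsub := by
    intro h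
    rw [memFsub] at h
    have h1 : v * (u i * u (σ i)) * v⁻¹ = u (σ i) * u i := swap_pair hD hvz hv2 (huQ i) (hact' i)
    have h2 : v * (u i * u (σ i)) * v⁻¹ = u i * u (σ i) := by rw [h.2]; group
    have h3 : cm (u i) (u (σ i)) = 1 := cm_eq_one_iff.2 (by rw [← h2, h1])
    rw [hcm i _ (Ne.symm hji)] at h3
    exact hD.z_ne h3
  have hF4 : Ff.card ≤ 4 := by
    rw [hFfc]
    have hdvd : Nat.card Fsub ∣ 8 := by rw [← hW0]; exact Subgroup.card_dvd_of_le hFW
    have hne : Nat.card Fsub ≠ 8 := by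
      intro h8
      have : Fsub = W0 := Subgroup.eq_of_le_of_card_ge hFW (by rw [hW0, h8])
      exact haF (this ▸ haW0)
    have h8 : (8 : ℕ) = 2 ^ 3 := by norm_num
    rw [h8, Nat.dvd_prime_pow Nat.prime_two] at hdvd
    obtain ⟨e, he, hee⟩ := hdvd
    have he2 : e ≤ 2 := by
      by_contra hcon
      have h3 : e = 3 := by omega
      rw [h3] at hee
      exact hne (by rw [hee]; norm_num)
    calc Nat.card Fsub = 2 ^ e := hee
      _ ≤ 2 ^ 2 := Nat.pow_le_pow_right (by norm_num) he2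
      _ = 4 := by norm_num
  have hN8 : Nf.card ≤ 8 := by rw [← hW0f]; exact Finset.card_le_card hNW
  have himgc : (Qf.image γ).card ≤ Nf.card := Finset.card_le_card himg
  have hNc : Nf.card = 8 := by nlinarith
  have hFc : Ff.card = 4 := by nlinarith
  have himgc8 : (Qf.image γ).card = 8 := by nlinarith
  have hNeq : Nf = W0f := Finset.eq_of_subset_of_card_le hNW (by rw [hNc, hW0f])
  have himgeq : Qf.image γ = Nf := Finset.eq_of_subset_of_card_le himg (by rw [hNc, himgc8])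
  refine ⟨?_, ?_, hN_P, ?_⟩
  · -- description of C_Q(v)
    have humW0 : u m ∈ W0 := by
      rw [memW0]
      exact ⟨huQ m, cm_eq_one_iff.1 (cma m (Ne.symm him) (Ne.symm hjm)),
        cm_eq_one_iff.1 (cmb m (Ne.symm hkm) (Ne.symm hlm))⟩
    have humN : u m ∈ Nf := by rw [hNeq, memW0f]; exact humW0
    have humv : v * u m = u m * v := by
      have h1 := hN_P (u m) (huQ m) ((memNf _).1 humN).2
      have h2 : (u m)⁻¹ = u m := inv_eq_of_mul_eq_one_left (hu m).2.1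
      rw [h2] at h1
      calc v * u m = (v * u m * v⁻¹) * v := by group
        _ = u m * v := by rw [h1]
    set S4 : Finset G := {1, z, u m, u m * z} with hS4
    have hS4c : S4.card = 4 := by
      have n1 : (1 : G) ≠ z := Ne.symm hD.z_ne
      have n2 : (1 : G) ≠ u m := Ne.symm (hu m).2.2.1
      have n3 : (1 : G) ≠ u m * z := by
        intro h
        have : u m = z := by
          have h' : u m * z = 1 := h.symm
          calc u m = u m * (z * z) := by rw [hD.z_sq, mul_one]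
            _ = (u m * z) * z := by group
            _ = z := by rw [h', one_mul]
        exact (hu m).2.2.2 this
      have n4 : z ≠ u m := Ne.symm (hu m).2.2.2
      have n5 : z ≠ u m * z := by
        intro h
        have : u m = 1 := by
          have := mul_right_cancel (a := (1 : G)) (b := z) (c := u m) (by rw [one_mul]; exact h)
          exact this.symm
        exact (hu m).2.2.1 this
      have n6 : u m ≠ u m * z := by
        intro h
        have : z = 1 := by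
          have := mul_left_cancel (a := u m) (b := (1 : G)) (c := z) (by rw [mul_one]; exact h)
          exact this.symm
        exact hD.z_ne this
      rw [hS4]
      rw [Finset.card_insert_of_notMem, Finset.card_insert_of_notMem, Finset.card_insert_of_notMem,
        Finset.card_singleton]
      · simp only [Finset.mem_singleton]; exact n6
      · simp only [Finset.mem_insert, Finset.mem_singleton, not_or]; exact ⟨n4, n5⟩
      · simp only [Finset.mem_insert, Finset.mem_singleton, not_or]; exact ⟨n1, n2, n3⟩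
    have hS4F : S4 ⊆ Ff := by
      intro q hq
      rw [hS4] at hq
      simp only [Finset.mem_insert, Finset.mem_singleton] at hq
      rw [memFf]
      rcases hq with rfl | rfl | rfl | rfl
      · exact ⟨Q.one_mem, by rw [mul_one, one_mul]⟩
      · exact ⟨hD.zQ, hvz⟩
      · exact ⟨huQ m, humv⟩
      · refine ⟨Q.mul_mem (huQ m) hD.zQ, ?_⟩
        calc v * (u m * z) = (v * u m) * z := by group
          _ = u m * (v * z) := by rw [humv]; group
          _ = u m * z * v := by rw [hvz]; group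
    have hS4eq : S4 = Ff := Finset.eq_of_subset_of_card_le hS4F (by rw [hS4c, hFc])
    intro q hq
    constructor
    · intro h
      have : q ∈ S4 := by rw [hS4eq, memFf]; exact ⟨hq, h⟩
      rw [hS4] at this
      simpa only [Finset.mem_insert, Finset.mem_singleton] using this
    · intro h
      have : q ∈ S4 := by
        rw [hS4]
        simpa only [Finset.mem_insert, Finset.mem_singleton] using h
      rw [hS4eq, memFf] at this
      exact this.2
  · rw [← hNc, card_sub]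
    congr 1
    ext q
    rw [memNf, Finset.mem_filter]
    simp
  · intro q hq h
    have : q ∈ Qf.image γ := by rw [himgeq, memNf]; exact ⟨hq, h⟩
    rw [Finset.mem_image] at this
    obtain ⟨r, hr, hrq⟩ := this
    exact ⟨r, (memQf r).1 hr, by rw [← hγ r, hrq]⟩

open Classical in
theorem inv_trick [Finite G] (C Q : Subgroup G) (z : G) (hD : Data Q z) (hQ : Nat.card Q = 32)
    (hQC : Q ≤ C)
    (hCz : ∀ c ∈ C, c * z = z * c) (hQn : ∀ c ∈ C, ∀ q ∈ Q, c * q * c⁻¹ ∈ Q)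
    (phi : ↥C →* Equiv.Perm (Fin 5)) (u : Fin 5 → G)
    (hker : ∀ c : ↥C, phi c = 1 ↔ (c : G) ∈ Q)
    (hran : phi.range = alternatingGroup (Fin 5))
    (hu : ∀ i, u i ∈ Q ∧ u i * u i = 1 ∧ u i ≠ 1 ∧ u i ≠ z)
    (hcm : ∀ i j, i ≠ j → cm (u i) (u j) = z)
    (hact : ∀ (c : ↥C) (i : Fin 5), (c : G) * u i * (c : G)⁻¹ = u (phi c i) ∨
      (c : G) * u i * (c : G)⁻¹ = u (phi c i) * z)
    (v : G) (hvC : v ∈ C) (hvQ : v ∉ Q) (hv2 : v * v = 1) :
    ∃ m : Fin 5, phi ⟨v, hvC⟩ m = m ∧ (∀ j, phi ⟨v, hvC⟩ j = j → j = m) ∧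
      (∀ q ∈ Q, v * q = q * v ↔ (q = 1 ∨ q = z ∨ q = u m ∨ q = u m * z)) ∧
      Nat.card {q : G // q ∈ Q ∧ (v * q) * (v * q) = 1} = 8 ∧
      (∀ q ∈ Q, (v * q) * (v * q) = 1 → v * q * v⁻¹ = q⁻¹) ∧
      (∀ q ∈ Q, (v * q) * (v * q) = 1 → ∃ r ∈ Q, r * v * r⁻¹ = v * q) ∧
      (∀ v' ∈ C, v' ∉ Q → v' * v' = 1 → ∃ c ∈ C, c * v' * c⁻¹ = v) ∧
      Nat.card {c : G // c ∈ C ∧ c * v = v * c} = 16 ∧
      Nat.card {x : G // x ∈ C ∧ x ∉ Q ∧ x * x = 1} = 120 ∧ Nat.card C = 1920 := by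
  have := Fintype.ofFinite G
  obtain ⟨m, hm1, hm2, hF, hN8, hinv, htr⟩ :=
    local_part C hD hQ hCz hQn phi u hker hran hu hcm hact v hvC hvQ hv2
  -- facts about phi of involutions
  have hsign : ∀ c : ↥C, Equiv.Perm.sign (phi c) = 1 := by
    intro c
    have : phi c ∈ alternatingGroup (Fin 5) := by rw [← hran]; exact ⟨_, rfl⟩
    exact Equiv.Perm.mem_alternatingGroup.1 this
  have hinvol : ∀ (x : G) (hx : x ∈ C), x ∉ Q → x * x = 1 →
      phi ⟨x, hx⟩ * phi ⟨x, hx⟩ = 1 ∧ phi ⟨x, hx⟩ ≠ 1 := by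
    intro x hx hxQ hx2
    refine ⟨?_, fun h => hxQ ((hker _).1 h)⟩
    rw [← map_mul]
    have : (⟨x, hx⟩ : ↥C) * ⟨x, hx⟩ = 1 := Subtype.ext hx2
    rw [this, map_one]
  have hlift : ∀ τ : Equiv.Perm (Fin 5), Equiv.Perm.sign τ = 1 → ∃ c : ↥C, phi c = τ := by
    intro τ hτ
    have : τ ∈ phi.range := by rw [hran]; exact Equiv.Perm.mem_alternatingGroup.2 hτ
    exact this
  -- conjugacy: general form
  have hconj : ∀ (w : G) (hwC : w ∈ C), w ∉ Q → w * w = 1 →
      (∀ q ∈ Q, (w * q) * (w * q) = 1 → ∃ r ∈ Q, r * w * r⁻¹ = w * q) →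
      ∀ v' ∈ C, v' ∉ Q → v' * v' = 1 → ∃ c ∈ C, c * v' * c⁻¹ = w := by
    intro w hwC hwQ hw2 htrw v' hv'C hv'Q hv'2
    obtain ⟨h1, h2⟩ := hinvol w hwC hwQ hw2
    obtain ⟨h1', h2'⟩ := hinvol v' hv'C hv'Q hv'2
    obtain ⟨τ, hτ, hτe⟩ := perm_conj2 _ _ (hsign ⟨w, hwC⟩) h1 h2 (hsign ⟨v', hv'C⟩) h1' h2'
    obtain ⟨c, hc⟩ := hlift τ hτ
    -- x = c v' c⁻¹
    have hxC : (c : G) * v' * (c : G)⁻¹ ∈ C := C.mul_mem (C.mul_mem c.2 hv'C) (C.inv_mem c.2)
    have hphix : phi ⟨(c : G) * v' * (c : G)⁻¹, hxC⟩ = phi ⟨w, hwC⟩ := by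
      have : (⟨(c : G) * v' * (c : G)⁻¹, hxC⟩ : ↥C) = c * ⟨v', hv'C⟩ * c⁻¹ := Subtype.ext rfl
      rw [this, map_mul, map_mul, map_inv, hc, hτe]
    have hqQ : w⁻¹ * ((c : G) * v' * (c : G)⁻¹) ∈ Q := by
      have h3 : phi (⟨w, hwC⟩⁻¹ * ⟨(c : G) * v' * (c : G)⁻¹, hxC⟩) = 1 := by
        rw [map_mul, map_inv, hphix, inv_mul_cancel]
      exact (hker _).1 h3
    have hwq : w * (w⁻¹ * ((c : G) * v' * (c : G)⁻¹)) = (c : G) * v' * (c : G)⁻¹ := by group
    have hx2 : (w * (w⁻¹ * ((c : G) * v' * (c : G)⁻¹))) *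
        (w * (w⁻¹ * ((c : G) * v' * (c : G)⁻¹))) = 1 := by
      rw [hwq]
      calc (c : G) * v' * (c : G)⁻¹ * ((c : G) * v' * (c : G)⁻¹)
          = (c : G) * (v' * v') * (c : G)⁻¹ := by group
        _ = 1 := by rw [hv'2]; group
    obtain ⟨r, hr, hre⟩ := htrw _ hqQ hx2
    rw [hwq] at hre
    refine ⟨r⁻¹ * (c : G), C.mul_mem (C.inv_mem (hQC hr)) c.2, ?_⟩
    calc r⁻¹ * (c : G) * v' * (r⁻¹ * (c : G))⁻¹ = r⁻¹ * ((c : G) * v' * (c : G)⁻¹) * r := by group
      _ = r⁻¹ * (r * w * r⁻¹) * r := by rw [hre]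
      _ = w := by group
  have hconjv := hconj v hvC hvQ hv2 htr
  -- |C| = 1920
  have hC : Nat.card C = 1920 := by
    have h1 := Subgroup.card_eq_card_quotient_mul_card_subgroup phi.ker
    have h2 : Nat.card (↥C ⧸ phi.ker) = 60 := by
      rw [Nat.card_congr (QuotientGroup.quotientKerEquivRange phi).toEquiv, hran,
        nat_card_alternatingGroup]
      simp [Nat.factorial]
    have h3 : Nat.card phi.ker = 32 := by
      have : phi.ker = Q.subgroupOf C := by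
        ext c
        rw [MonoidHom.mem_ker, hker, Subgroup.mem_subgroupOf]
      rw [this, Nat.card_congr (Subgroup.subgroupOfEquivOfLe hQC).toEquiv, hQ]
    rw [h1, h2, h3]
  -- the map ph on G
  let ph : G → Equiv.Perm (Fin 5) := fun x => if h : x ∈ C then phi ⟨x, h⟩ else 1
  have hph : ∀ (x : G) (hx : x ∈ C), ph x = phi ⟨x, hx⟩ := fun x hx => dif_pos hx
  -- |I| = 120
  set IG : Finset G := Finset.univ.filter (fun x => x ∈ C ∧ x ∉ Q ∧ x * x = 1) with hIG
  set T : Finset (Equiv.Perm (Fin 5)) := Finset.univ.filter (fun σ : Equiv.Perm (Fin 5) =>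
    Equiv.Perm.sign σ = 1 ∧ σ * σ = 1 ∧ σ ≠ 1) with hT
  have memIG : ∀ x, x ∈ IG ↔ (x ∈ C ∧ x ∉ Q ∧ x * x = 1) := by intro x; simp [hIG]
  have hmaps : (IG : Set G).MapsTo ph T := by
    intro x hx
    rw [Finset.mem_coe, memIG] at hx
    rw [Finset.mem_coe, hT, Finset.mem_filter]
    rw [hph x hx.1]
    exact ⟨Finset.mem_univ _, hsign _, hinvol x hx.1 hx.2.1 hx.2.2⟩
  have hfiber : ∀ τ ∈ T, (IG.filter (fun x => ph x = τ)).card = 8 := by
    intro τ hτ
    rw [hT, Finset.mem_filter] at hτ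
    obtain ⟨h1, h2⟩ := hinvol v hvC hvQ hv2
    obtain ⟨ρ, hρ, hρe⟩ := perm_conj2 τ _ hτ.2.1 hτ.2.2.1 hτ.2.2.2 (hsign ⟨v, hvC⟩) h1 h2
    obtain ⟨c, hc⟩ := hlift ρ hρ
    -- w = c v c⁻¹ has ph w = τ
    set w : G := (c : G) * v * (c : G)⁻¹ with hw
    have hwC : w ∈ C := C.mul_mem (C.mul_mem c.2 hvC) (C.inv_mem c.2)
    have hphw : phi ⟨w, hwC⟩ = τ := by
      have : (⟨w, hwC⟩ : ↥C) = c * ⟨v, hvC⟩ * c⁻¹ := Subtype.ext rfl
      rw [this, map_mul, map_mul, map_inv, hc, hρe]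
    have hw2 : w * w = 1 := by
      calc w * w = (c : G) * (v * v) * (c : G)⁻¹ := by rw [hw]; group
        _ = 1 := by rw [hv2]; group
    have hwQ : w ∉ Q := fun h => hτ.2.2.2 (by rw [← hphw]; exact (hker _).2 h)
    obtain ⟨m', _, _, _, hN8w, _, _⟩ :=
      local_part C hD hQ hCz hQn phi u hker hran hu hcm hact w hwC hwQ hw2
    rw [card_sub] at hN8w
    rw [← hN8w]
    refine Finset.card_nbij' (fun x => w⁻¹ * x) (fun q => w * q) ?_ ?_ ?_ ?_
    · intro x hx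
      rw [Finset.mem_coe, Finset.mem_filter, memIG] at hx
      rw [Finset.mem_coe, Finset.mem_filter]
      refine ⟨Finset.mem_univ _, ?_, ?_⟩
      · have h3 : phi (⟨w, hwC⟩⁻¹ * ⟨x, hx.1.1⟩) = 1 := by
          rw [map_mul, map_inv, hphw, ← hph x hx.1.1, hx.2, inv_mul_cancel]
        exact (hker _).1 h3
      · have : w * (w⁻¹ * x) = x := by group
        rw [this]; exact hx.1.2.2
    · intro q hq
      rw [Finset.mem_coe, Finset.mem_filter] at hq
      rw [Finset.mem_coe, Finset.mem_filter, memIG]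
      have hwqC : w * q ∈ C := C.mul_mem hwC (hQC hq.2.1)
      have hphq : ph (w * q) = τ := by
        rw [hph _ hwqC]
        have : (⟨w * q, hwqC⟩ : ↥C) = ⟨w, hwC⟩ * ⟨q, hQC hq.2.1⟩ := Subtype.ext rfl
        rw [this, map_mul, hphw, (hker ⟨q, hQC hq.2.1⟩).2 hq.2.1, mul_one]
      refine ⟨⟨hwqC, ?_, hq.2.2⟩, hphq⟩
      intro hcon
      apply hwQ
      have : w = (w * q) * q⁻¹ := by group
      rw [this]
      exact Q.mul_mem hcon (Q.inv_mem hq.2.1)
    · intro x _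
      group
    · intro q _
      group
  have hTc : T.card = 15 := perm_count
  have hIc : IG.card = 120 := by
    rw [Finset.card_eq_sum_card_fiberwise hmaps, Finset.sum_congr rfl hfiber]
    simp [hTc]
  have hI : Nat.card {x : G // x ∈ C ∧ x ∉ Q ∧ x * x = 1} = 120 := by
    rw [card_sub]; exact hIc
  -- |C_C(v)| = 16
  set CG : Finset G := Finset.univ.filter (fun c => c ∈ C) with hCG
  have hCGc : CG.card = 1920 := by rw [← hC]; exact (card_sub (fun c => c ∈ C)).symm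
  set Cv : Finset G := Finset.univ.filter (fun c => c ∈ C ∧ c * v = v * c) with hCv
  have hmaps2 : (CG : Set G).MapsTo (fun c => c * v * c⁻¹) IG := by
    intro c hc
    rw [Finset.mem_coe, hCG, Finset.mem_filter] at hc
    rw [Finset.mem_coe, memIG]
    refine ⟨C.mul_mem (C.mul_mem hc.2 hvC) (C.inv_mem hc.2), ?_, ?_⟩
    · intro hcon
      apply hvQ
      have h1 := hQn c⁻¹ (C.inv_mem hc.2) _ hcon
      have : c⁻¹ * (c * v * c⁻¹) * c⁻¹⁻¹ = v := by group
      rw [this] at h1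
      exact h1
    · calc c * v * c⁻¹ * (c * v * c⁻¹) = c * (v * v) * c⁻¹ := by group
        _ = 1 := by rw [hv2]; group
  have hfiber2 : ∀ x ∈ IG, (CG.filter (fun c => c * v * c⁻¹ = x)).card = Cv.card := by
    intro x hx
    rw [memIG] at hx
    obtain ⟨c0, hc0, hc0e⟩ := hconjv x hx.1 hx.2.1 hx.2.2
    -- c0 x c0⁻¹ = v
    refine Finset.card_nbij' (fun c => c0 * c) (fun c => c0⁻¹ * c) ?_ ?_ ?_ ?_
    · intro c hc
      rw [Finset.mem_coe, Finset.mem_filter, hCG, Finset.mem_filter] at hc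
      rw [Finset.mem_coe, hCv, Finset.mem_filter]
      refine ⟨Finset.mem_univ _, C.mul_mem hc0 hc.1.2, ?_⟩
      have h1 : c * v * c⁻¹ = x := hc.2
      calc c0 * c * v = c0 * (c * v * c⁻¹) * c := by group
        _ = c0 * x * c := by rw [h1]
        _ = (c0 * x * c0⁻¹) * c0 * c := by group
        _ = v * (c0 * c) := by rw [hc0e]; group
    · intro c hc
      rw [Finset.mem_coe, hCv, Finset.mem_filter] at hc
      rw [Finset.mem_coe, Finset.mem_filter, hCG, Finset.mem_filter]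
      refine ⟨⟨Finset.mem_univ _, C.mul_mem (C.inv_mem hc0) hc.2.1⟩, ?_⟩
      have h1 : c * v = v * c := hc.2.2
      calc c0⁻¹ * c * v * (c0⁻¹ * c)⁻¹ = c0⁻¹ * (c * v) * c⁻¹ * c0 := by group
        _ = c0⁻¹ * (v * c) * c⁻¹ * c0 := by rw [h1]
        _ = c0⁻¹ * v * c0 := by group
        _ = c0⁻¹ * (c0 * x * c0⁻¹) * c0 := by rw [hc0e]
        _ = x := by group
    · intro c _
      group
    · intro c _
      group
  have hCvc : Cv.card = 16 := by
    have h1 := Finset.card_eq_sum_card_fiberwise hmaps2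
    rw [Finset.sum_congr rfl hfiber2, Finset.sum_const, hIc, hCGc, smul_eq_mul] at h1
    omega
  have hCv16 : Nat.card {c : G // c ∈ C ∧ c * v = v * c} = 16 := by
    rw [card_sub]; exact hCvc
  exact ⟨m, hm1, hm2, hF, hN8, hinv, htr, hconjv, hCv16, hI, hC⟩

end Cfsg.Agent.Lib.Helper5.J2A7
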