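import Mathlib

/-!
# S1722 (type J2, Sylow 5-subgroups): facts about `A5`, transported along an isomorphism
-/

set_option autoImplicit false

namespace Cfsg.Agent.Lib.Helper5.J2S5

set_option maxRecDepth 1000000 in
theorem perm_inv5 : ∃ f z : Equiv.Perm (Fin 5), Equiv.Perm.sign f = 1 ∧ Equiv.Perm.sign z = 1 ∧
    f ^ 5 = 1 ∧ f ≠ 1 ∧ z * z = 1 ∧ z ≠ 1 ∧ z * f * z⁻¹ = f⁻¹ := by
  refine ⟨finRotate 5, Equiv.swap 1 4 * Equiv.swap 2 3, ?_⟩
  decide +kernel

set_option maxRecDepth 1000000 in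
theorem perm_cent5 : ∀ f g : Equiv.Perm (Fin 5), Equiv.Perm.sign f = 1 → Equiv.Perm.sign g = 1 →
    f ^ 5 = 1 → f ≠ 1 → g * f = f * g →
    (g = 1 ∨ g = f ∨ g = f ^ 2 ∨ g = f ^ 3 ∨ g = f ^ 4) := by decide +kernel

theorem orderOf_eq_five_iff {H : Type*} [Group H] (x : H) : orderOf x = 5 ↔ (x ^ 5 = 1 ∧ x ≠ 1) := by
  constructor
  · intro h
    refine ⟨by rw [← h]; exact pow_orderOf_eq_one x, ?_⟩
    rintro rfl
    rw [orderOf_one] at h
    omega
  · rintro ⟨h5, h1⟩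
    have hp : Fact (Nat.Prime 5) := ⟨by norm_num⟩
    exact orderOf_eq_prime h5 h1

theorem orderOf_eq_two_iff' {H : Type*} [Group H] (x : H) : orderOf x = 2 ↔ (x * x = 1 ∧ x ≠ 1) := by
  constructor
  · intro h
    refine ⟨by rw [← pow_two, ← h]; exact pow_orderOf_eq_one x, ?_⟩
    rintro rfl
    rw [orderOf_one] at h
    omega
  · rintro ⟨h5, h1⟩
    have hp : Fact (Nat.Prime 2) := ⟨by norm_num⟩
    exact orderOf_eq_prime (by rw [pow_two]; exact h5) h1

variable {G : Type*} [Group G]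

/-- in a subgroup isomorphic to `A5`: an element of order 5 inverted by an involution -/
theorem exists_inv5 (Y : Subgroup G) (hY : Nonempty (↥Y ≃* alternatingGroup (Fin 5))) :
    ∃ f ∈ Y, ∃ s ∈ Y, orderOf f = 5 ∧ orderOf s = 2 ∧ s * f * s⁻¹ = f⁻¹ := by
  obtain ⟨w⟩ := hY
  obtain ⟨f, s, hf, hs, hf5, hf1, hs2, hs1, hsf⟩ := perm_inv5
  let f' : alternatingGroup (Fin 5) := ⟨f, Equiv.Perm.mem_alternatingGroup.2 hf⟩
  let s' : alternatingGroup (Fin 5) := ⟨s, Equiv.Perm.mem_alternatingGroup.2 hs⟩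
  refine ⟨(w.symm f' : ↥Y), (w.symm f').2, (w.symm s' : ↥Y), (w.symm s').2, ?_, ?_, ?_⟩
  · rw [Subgroup.orderOf_coe, MulEquiv.orderOf_eq, orderOf_eq_five_iff]
    refine ⟨Subtype.ext ?_, fun h => hf1 ?_⟩
    · simpa [f'] using hf5
    · simpa [f'] using congrArg Subtype.val h
  · rw [Subgroup.orderOf_coe, MulEquiv.orderOf_eq, orderOf_eq_two_iff']
    refine ⟨Subtype.ext ?_, fun h => hs1 ?_⟩
    · simpa [s'] using hs2
    · simpa [s'] using congrArg Subtype.val h
  · have h1 : s' * f' * s'⁻¹ = f'⁻¹ := Subtype.ext (by simpa [s', f'] using hsf)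
    have h2 := congrArg (fun x => ((w.symm x : ↥Y) : G)) h1
    simpa using h2

/-- in a subgroup isomorphic to `A5`, the centralizer of an element of order 5 is generated by it -/
theorem cent5 (Y : Subgroup G) (hY : Nonempty (↥Y ≃* alternatingGroup (Fin 5)))
    (f : G) (hfY : f ∈ Y) (hf : orderOf f = 5) (g : G) (hgY : g ∈ Y) (hgf : g * f = f * g) :
    g = 1 ∨ g = f ∨ g = f ^ 2 ∨ g = f ^ 3 ∨ g = f ^ 4 := by
  obtain ⟨w⟩ := hY
  have hf' : orderOf (w ⟨f, hfY⟩) = 5 := by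
    rw [MulEquiv.orderOf_eq, ← Subgroup.orderOf_coe]; exact hf
  rw [orderOf_eq_five_iff] at hf'
  have h1 := perm_cent5 (w ⟨f, hfY⟩ : Equiv.Perm (Fin 5)) (w ⟨g, hgY⟩ : Equiv.Perm (Fin 5))
    (Equiv.Perm.mem_alternatingGroup.1 (w ⟨f, hfY⟩).2)
    (Equiv.Perm.mem_alternatingGroup.1 (w ⟨g, hgY⟩).2)
    (by have := congrArg Subtype.val hf'.1; simpa using this)
    (fun h => hf'.2 (Subtype.ext (by simpa using h)))
    (by
      have h2 : (⟨g, hgY⟩ : ↥Y) * ⟨f, hfY⟩ = ⟨f, hfY⟩ * ⟨g, hgY⟩ := Subtype.ext hgf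
      have h3 : w ⟨g, hgY⟩ * w ⟨f, hfY⟩ = w ⟨f, hfY⟩ * w ⟨g, hgY⟩ := by
        rw [← map_mul, ← map_mul, h2]
      have h4 := congrArg Subtype.val h3
      simpa only [Subgroup.coe_mul] using h4)
  have key : ∀ k : ℕ, (w ⟨g, hgY⟩ : Equiv.Perm (Fin 5)) = (w ⟨f, hfY⟩ : Equiv.Perm (Fin 5)) ^ k →
      g = f ^ k := by
    intro k hk
    have h4 : w ⟨g, hgY⟩ = w (⟨f, hfY⟩ ^ k) := by
      rw [map_pow]
      exact Subtype.ext (by simpa using hk)
    have h5 := w.injective h4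
    have := congrArg Subtype.val h5
    simpa using this
  rcases h1 with h | h | h | h | h
  · left
    have := key 0 (by simpa using h)
    simpa using this
  · right; left
    have := key 1 (by simpa using h)
    simpa using this
  · right; right; left; exact key 2 h
  · right; right; right; left; exact key 3 h
  · right; right; right; right; exact key 4 h

/-- consequence: an element of `Y ≅ A5` of order dividing 4 commuting with an element of order 5
is trivial -/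
theorem cent5_two (Y : Subgroup G) (hY : Nonempty (↥Y ≃* alternatingGroup (Fin 5)))
    (f : G) (hfY : f ∈ Y) (hf : orderOf f = 5) (g : G) (hgY : g ∈ Y) (hgf : g * f = f * g)
    (hg4 : g ^ 4 = 1) : g = 1 := by
  have hmem : g ∈ Subgroup.zpowers f := by
    rcases cent5 Y hY f hfY hf g hgY hgf with h | h | h | h | h <;> rw [h]
    · exact Subgroup.one_mem _
    · exact Subgroup.mem_zpowers f
    · exact Subgroup.npow_mem_zpowers f 2
    · exact Subgroup.npow_mem_zpowers f 3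
    · exact Subgroup.npow_mem_zpowers f 4
  have h1 : orderOf g ∣ 5 := by
    rw [← hf]
    exact orderOf_dvd_of_mem_zpowers hmem
  have h2 : orderOf g ∣ 4 := orderOf_dvd_of_pow_eq_one hg4
  have h3 : orderOf g ∣ Nat.gcd 5 4 := Nat.dvd_gcd h1 h2
  have h4 : orderOf g = 1 := Nat.eq_one_of_dvd_one (by simpa using h3)
  exact orderOf_eq_one_iff.1 h4

end Cfsg.Agent.Lib.Helper5.J2S5
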