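import Mathlib
import Cfsg.Prelude.Def_TwoFusion
import Cfsg.Agent.Lib.Helper5.J2S5a

/-!
# S1722 (type J2, Sylow 5-subgroups): the exported facts of the S1721/S5382 analysis, and
centralizers inside `C_G(t) = V0 × R1`
-/

set_option autoImplicit false

namespace Cfsg.Agent.Lib.Helper5.J2S5

/-- what S1722 needs from the analysis of a group of type `J2` -/
structure Exports (G : Type*) [Group G] (z t : G) (V0 R1 D : Subgroup G) : Prop where
  card : Nat.card G = 604800
  hz : orderOf z = 2
  ht : orderOf t = 2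
  hcl : ∀ s : G, orderOf s = 2 → IsConj s z ∨ IsConj s t
  hz5 : ∀ f g : G, orderOf f = 5 → f * z = z * f → g * z = z * g → g * f = f * g → g ^ 4 = 1 →
    g = 1 ∨ g = z
  hVB : Cfsg.IsInternalDirectProduct V0 R1 (Subgroup.centralizer ({t} : Set G))
  hV : Nat.card V0 = 4
  htV : t ∈ V0
  hR1 : Nonempty (↥R1 ≃* alternatingGroup (Fin 5))
  hfuse : ∀ t1 ∈ V0, t1 ≠ 1 → ∃ c : G, c * t * c⁻¹ = t1
  hD : Nat.card D = 12
  hDR : ∀ d ∈ D, ∀ r ∈ R1, d * r = r * d

variable {G : Type*} [Group G]

/-- elementwise commuting subgroups: the join is the set of products -/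
theorem mem_sup_comm (V B : Subgroup G) (hcomm : ∀ a ∈ V, ∀ b ∈ B, a * b = b * a) (x : G)
    (hx : x ∈ V ⊔ B) : ∃ a ∈ V, ∃ b ∈ B, x = a * b := by
  let S : Subgroup G :=
    { carrier := {x | ∃ a ∈ V, ∃ b ∈ B, x = a * b}
      one_mem' := ⟨1, V.one_mem, 1, B.one_mem, by simp⟩
      mul_mem' := by
        rintro x y ⟨a, ha, b, hb, rfl⟩ ⟨a', ha', b', hb', rfl⟩
        refine ⟨a * a', V.mul_mem ha ha', b * b', B.mul_mem hb hb', ?_⟩
        have h := hcomm a' ha' b hb
        calc a * b * (a' * b') = a * (b * a') * b' := by group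
          _ = a * (a' * b) * b' := by rw [h]
          _ = a * a' * (b * b') := by group
      inv_mem' := by
        rintro x ⟨a, ha, b, hb, rfl⟩
        refine ⟨a⁻¹, V.inv_mem ha, b⁻¹, B.inv_mem hb, ?_⟩
        have h := hcomm a⁻¹ (V.inv_mem ha) b⁻¹ (B.inv_mem hb)
        rw [mul_inv_rev, h] }
  have h1 : V ⊔ B ≤ S := by
    apply sup_le
    · intro a ha; exact ⟨a, ha, 1, B.one_mem, by simp⟩
    · intro b hb; exact ⟨1, V.one_mem, b, hb, by simp⟩
  exact h1 hx

theorem orderOf_conj_elt (c x : G) : orderOf (c * x * c⁻¹) = orderOf x := by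
  have := MulEquiv.orderOf_eq (MulAut.conj c) x
  simpa [MulAut.conj_apply] using this

namespace Exports

variable {z t : G} {V0 R1 D : Subgroup G}

theorem mem_cent_t (E : Exports G z t V0 R1 D) {x : G} (hx : x * t = t * x) :
    ∃ v ∈ V0, ∃ r ∈ R1, x = v * r := by
  apply mem_sup_comm V0 R1 E.hVB.2.2.1
  rw [E.hVB.2.2.2.2, Subgroup.mem_centralizer_singleton_iff]
  exact hx

theorem V0_comm_t (E : Exports G z t V0 R1 D) {v : G} (hv : v ∈ V0) : v * t = t * v := by
  have := E.hVB.1 hv
  rwa [Subgroup.mem_centralizer_singleton_iff] at this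

theorem R1_comm_t (E : Exports G z t V0 R1 D) {r : G} (hr : r ∈ R1) : r * t = t * r := by
  have := E.hVB.2.1 hr
  rwa [Subgroup.mem_centralizer_singleton_iff] at this

theorem V0_sq (E : Exports G z t V0 R1 D) {v : G} (hv : v ∈ V0) : v * v = 1 := by
  by_cases h1 : v = 1
  · rw [h1, mul_one]
  · obtain ⟨c, hc⟩ := E.hfuse v hv h1
    have h2 : orderOf v = 2 := by rw [← hc, orderOf_conj_elt, E.ht]
    exact ((orderOf_eq_two_iff' v).1 h2).1

theorem V0_comm (E : Exports G z t V0 R1 D) {a b : G} (ha : a ∈ V0) (hb : b ∈ V0) :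
    a * b = b * a := by
  have h1 := E.V0_sq ha
  have h2 := E.V0_sq hb
  have h3 := E.V0_sq (V0.mul_mem ha hb)
  have ha' : a⁻¹ = a := inv_eq_of_mul_eq_one_left h1
  have hb' : b⁻¹ = b := inv_eq_of_mul_eq_one_left h2
  have hab : (a * b)⁻¹ = a * b := inv_eq_of_mul_eq_one_left h3
  calc a * b = (a * b)⁻¹ := hab.symm
    _ = b⁻¹ * a⁻¹ := mul_inv_rev a b
    _ = b * a := by rw [ha', hb']

theorem V0_inf_R1 (E : Exports G z t V0 R1 D) {x : G} (hv : x ∈ V0) (hr : x ∈ R1) : x = 1 := by
  have : x ∈ V0 ⊓ R1 := ⟨hv, hr⟩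
  rw [E.hVB.2.2.2.1, Subgroup.mem_bot] at this
  exact this

/-- the involutions of `V0` all have the same centralizer -/
theorem cent_eq [Finite G] (E : Exports G z t V0 R1 D) {t1 : G} (ht1 : t1 ∈ V0) (h1 : t1 ≠ 1)
    (x : G) : x * t1 = t1 * x ↔ x * t = t * x := by
  obtain ⟨c, hc⟩ := E.hfuse t1 ht1 h1
  have hle : Subgroup.centralizer ({t} : Set G) ≤ Subgroup.centralizer ({t1} : Set G) := by
    intro y hy
    rw [Subgroup.mem_centralizer_singleton_iff] at hy ⊢
    obtain ⟨v, hv, r, hr, rfl⟩ := E.mem_cent_t hy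
    have e1 := E.V0_comm hv ht1
    have e2 := E.hVB.2.2.1 t1 ht1 r hr
    calc v * r * t1 = v * (r * t1) := by group
      _ = v * (t1 * r) := by rw [e2]
      _ = (v * t1) * r := by group
      _ = t1 * (v * r) := by rw [e1]; group
  have hcard : Nat.card (Subgroup.centralizer ({t1} : Set G)) =
      Nat.card (Subgroup.centralizer ({t} : Set G)) := by
    have hmap : Subgroup.centralizer ({t1} : Set G) =
        (Subgroup.centralizer ({t} : Set G)).map (MulAut.conj c).toMonoidHom := by
      ext y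
      rw [Subgroup.mem_map, Subgroup.mem_centralizer_singleton_iff]
      constructor
      · intro hy
        refine ⟨c⁻¹ * y * c, ?_, ?_⟩
        · rw [Subgroup.mem_centralizer_singleton_iff]
          rw [← hc] at hy
          calc c⁻¹ * y * c * t = c⁻¹ * (y * (c * t * c⁻¹)) * c := by group
            _ = c⁻¹ * ((c * t * c⁻¹) * y) * c := by rw [hy]
            _ = t * (c⁻¹ * y * c) := by group
        · simp [MulAut.conj_apply]
          group
      · rintro ⟨w, hw, rfl⟩
        rw [Subgroup.mem_centralizer_singleton_iff] at hw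
        simp only [MulEquiv.coe_toMonoidHom, MulAut.conj_apply]
        rw [← hc]
        calc c * w * c⁻¹ * (c * t * c⁻¹) = c * (w * t) * c⁻¹ := by group
          _ = c * (t * w) * c⁻¹ := by rw [hw]
          _ = c * t * c⁻¹ * (c * w * c⁻¹) := by group
    rw [hmap]
    exact Subgroup.card_map_of_injective (MulAut.conj c).injective
  have heq : Subgroup.centralizer ({t} : Set G) = Subgroup.centralizer ({t1} : Set G) :=
    Subgroup.eq_of_le_of_card_ge hle (le_of_eq hcard)
  constructor
  · intro h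
    have : x ∈ Subgroup.centralizer ({t1} : Set G) := by
      rw [Subgroup.mem_centralizer_singleton_iff]; exact h
    rw [← heq, Subgroup.mem_centralizer_singleton_iff] at this
    exact this
  · intro h
    have : x ∈ Subgroup.centralizer ({t} : Set G) := by
      rw [Subgroup.mem_centralizer_singleton_iff]; exact h
    rw [heq, Subgroup.mem_centralizer_singleton_iff] at this
    exact this

/-- the centralizer in `C_G(t)` of an element of order 5 of `R1` -/
theorem cent_t_five (E : Exports G z t V0 R1 D) {f : G} (hfR : f ∈ R1) (hf : orderOf f = 5)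
    {x : G} (hxt : x * t = t * x) (hxf : x * f = f * x) :
    ∃ v ∈ V0, ∃ r ∈ Subgroup.zpowers f, x = v * r := by
  obtain ⟨v, hv, r, hr, rfl⟩ := E.mem_cent_t hxt
  refine ⟨v, hv, r, ?_, rfl⟩
  have e1 := E.hVB.2.2.1 v hv f hfR
  have hrf : r * f = f * r := by
    have h1 : v * (r * f) = v * (f * r) := by
      calc v * (r * f) = v * r * f := by group
        _ = f * (v * r) := hxf
        _ = (f * v) * r := by group
        _ = (v * f) * r := by rw [e1]
        _ = v * (f * r) := by group
    exact mul_left_cancel h1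
  rcases cent5 R1 E.hR1 f hfR hf r hr hrf with h | h | h | h | h <;> rw [h]
  · exact Subgroup.one_mem _
  · exact Subgroup.mem_zpowers f
  · exact Subgroup.npow_mem_zpowers f 2
  · exact Subgroup.npow_mem_zpowers f 3
  · exact Subgroup.npow_mem_zpowers f 4

/-- an element of order 5 of `C_G(t)` lies in `R1` -/
theorem five_mem_R1 (E : Exports G z t V0 R1 D) {f : G} (hf : orderOf f = 5)
    (hft : f * t = t * f) : f ∈ R1 := by
  obtain ⟨v, hv, r, hr, rfl⟩ := E.mem_cent_t hft
  have e1 := E.hVB.2.2.1 v hv r hr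
  have hpow : ∀ n : ℕ, (v * r) ^ n = v ^ n * r ^ n := fun n => (Commute.mul_pow e1 n)
  have h5 : (v * r) ^ 5 = 1 := by rw [← hf]; exact pow_orderOf_eq_one _
  rw [hpow] at h5
  have hv5 : v ^ 5 = v := by
    have := E.V0_sq hv
    have h2 : v ^ 2 = 1 := by rw [pow_two]; exact this
    calc v ^ 5 = (v ^ 2) ^ 2 * v := by rw [← pow_mul, ← pow_succ]
      _ = v := by rw [h2, one_pow, one_mul]
  rw [hv5] at h5
  have hvr : v = (r ^ 5)⁻¹ := eq_inv_of_mul_eq_one_left h5
  have hv1 : v = 1 := E.V0_inf_R1 hv (by rw [hvr]; exact R1.inv_mem (R1.pow_mem hr 5))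
  rw [hv1, one_mul]
  exact hr

/-- 2-elements of `C_G(t)` centralizing an element of order 5 lie in `V0` -/
theorem two_cent_five (E : Exports G z t V0 R1 D) {f : G} (hf : orderOf f = 5)
    (hft : f * t = t * f) {x : G} (hxt : x * t = t * x) (hxf : x * f = f * x) (hx4 : x ^ 4 = 1) :
    x ∈ V0 := by
  have hfR := E.five_mem_R1 hf hft
  obtain ⟨v, hv, r, hr, rfl⟩ := E.mem_cent_t hxt
  have e1 := E.hVB.2.2.1 v hv f hfR
  have e2 := E.hVB.2.2.1 v hv r hr
  have hrf : r * f = f * r := by
    have h1 : v * (r * f) = v * (f * r) := by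
      calc v * (r * f) = v * r * f := by group
        _ = f * (v * r) := hxf
        _ = (f * v) * r := by group
        _ = (v * f) * r := by rw [e1]
        _ = v * (f * r) := by group
    exact mul_left_cancel h1
  have hpow : (v * r) ^ 4 = v ^ 4 * r ^ 4 := Commute.mul_pow e2 4
  have hv4 : v ^ 4 = 1 := by
    have := E.V0_sq hv
    have h2 : v ^ 2 = 1 := by rw [pow_two]; exact this
    calc v ^ 4 = (v ^ 2) ^ 2 := by rw [← pow_mul]
      _ = 1 := by rw [h2, one_pow]
  rw [hpow, hv4, one_mul] at hx4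
  have hr1 := cent5_two R1 E.hR1 f hfR hf r hr hrf hx4
  rw [hr1, mul_one]
  exact hv

end Exports

end Cfsg.Agent.Lib.Helper5.J2S5
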