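import Mathlib
import Cfsg.Agent.Lib.Helper5.J2S5b

/-!
# S1722 (type J2, Sylow 5-subgroups): generic lemmas (Sylow 5-subgroups of order 25, conjugating
centralizers, splitting off a coprime part)
-/

set_option autoImplicit false

namespace Cfsg.Agent.Lib.Helper5.J2S5

variable {G : Type*} [Group G]

theorem sylow5_card [Finite G] (hG : Nat.card G = 604800) (P : Sylow 5 G) :
    Nat.card (P : Subgroup G) = 25 := by
  have hp5 : Fact (Nat.Prime 5) := ⟨by norm_num⟩
  rw [Sylow.card_eq_multiplicity, hG]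
  have h1 : (604800 : ℕ) = 25 * 24192 := by norm_num
  rw [h1, Nat.factorization_mul (by norm_num) (by norm_num)]
  have h25 : (25 : ℕ).factorization 5 = 2 := by
    have : (25 : ℕ) = 5 ^ 2 := by norm_num
    rw [this, Nat.Prime.factorization_pow hp5.out]
    simp
  have h2 : (24192 : ℕ).factorization 5 = 0 :=
    Nat.factorization_eq_zero_of_not_dvd (by norm_num)
  simp [h25, h2]

/-- a subgroup of order 25 is abelian -/
theorem comm_of_card25 (P : Subgroup G) (hP : Nat.card P = 25) {a b : G} (ha : a ∈ P) (hb : b ∈ P) :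
    a * b = b * a := by
  have hp5 : Fact (Nat.Prime 5) := ⟨by norm_num⟩
  have h := IsPGroup.commutative_of_card_eq_prime_sq (p := 5) (G := ↥P) (by rw [hP]; norm_num)
    ⟨a, ha⟩ ⟨b, hb⟩
  exact congrArg Subtype.val h

/-- conjugating a centralizer -/
theorem card_centralizer_conj [Finite G] (c x : G) :
    Nat.card (Subgroup.centralizer ({c * x * c⁻¹} : Set G)) =
      Nat.card (Subgroup.centralizer ({x} : Set G)) := by
  have hmap : Subgroup.centralizer ({c * x * c⁻¹} : Set G) =
      (Subgroup.centralizer ({x} : Set G)).map (MulAut.conj c).toMonoidHom := by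
    ext y
    rw [Subgroup.mem_map, Subgroup.mem_centralizer_singleton_iff]
    constructor
    · intro hy
      refine ⟨c⁻¹ * y * c, ?_, ?_⟩
      · rw [Subgroup.mem_centralizer_singleton_iff]
        calc c⁻¹ * y * c * x = c⁻¹ * (y * (c * x * c⁻¹)) * c := by group
          _ = c⁻¹ * ((c * x * c⁻¹) * y) * c := by rw [hy]
          _ = x * (c⁻¹ * y * c) := by group
      · simp [MulAut.conj_apply]
        group
    · rintro ⟨w, hw, rfl⟩
      rw [Subgroup.mem_centralizer_singleton_iff] at hw
      simp only [MulEquiv.coe_toMonoidHom, MulAut.conj_apply]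
      calc c * w * c⁻¹ * (c * x * c⁻¹) = c * (w * x) * c⁻¹ := by group
        _ = c * (x * w) * c⁻¹ := by rw [hw]
        _ = c * x * c⁻¹ * (c * w * c⁻¹) := by group
  rw [hmap]
  exact Subgroup.card_map_of_injective (MulAut.conj c).injective

/-- if `g` maps `f` (of prime order 5) into `⟨f⟩` then `g` normalizes `C_G(f)` -/
theorem map_centralizer_eq [Finite G] (f g : G)
    (hg : g * f * g⁻¹ ∈ Subgroup.zpowers f) :
    (Subgroup.centralizer ({f} : Set G)).map (MulAut.conj g).toMonoidHom =
      Subgroup.centralizer ({f} : Set G) := by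
  have h1 : (Subgroup.centralizer ({f} : Set G)).map (MulAut.conj g).toMonoidHom ≤
      Subgroup.centralizer ({g * f * g⁻¹} : Set G) := by
    rintro y ⟨w, hw, rfl⟩
    rw [SetLike.mem_coe, Subgroup.mem_centralizer_singleton_iff] at hw
    rw [Subgroup.mem_centralizer_singleton_iff]
    simp only [MulEquiv.coe_toMonoidHom, MulAut.conj_apply]
    calc g * w * g⁻¹ * (g * f * g⁻¹) = g * (w * f) * g⁻¹ := by group
      _ = g * (f * w) * g⁻¹ := by rw [hw]
      _ = g * f * g⁻¹ * (g * w * g⁻¹) := by group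
  have h2 : Subgroup.centralizer ({f} : Set G) ≤ Subgroup.centralizer ({g * f * g⁻¹} : Set G) := by
    intro y hy
    rw [Subgroup.mem_centralizer_singleton_iff] at hy ⊢
    obtain ⟨k, hk⟩ := Subgroup.mem_zpowers_iff.1 hg
    rw [← hk]
    exact ((Commute.zpow_right (show Commute y f from hy) k)).eq
  have hc1 : Nat.card ((Subgroup.centralizer ({f} : Set G)).map (MulAut.conj g).toMonoidHom) =
      Nat.card (Subgroup.centralizer ({f} : Set G)) :=
    Subgroup.card_map_of_injective (MulAut.conj g).injective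
  have hc2 := card_centralizer_conj g f
  have e1 : (Subgroup.centralizer ({f} : Set G)).map (MulAut.conj g).toMonoidHom =
      Subgroup.centralizer ({g * f * g⁻¹} : Set G) :=
    Subgroup.eq_of_le_of_card_ge h1 (by rw [hc1, hc2])
  have e2 : Subgroup.centralizer ({f} : Set G) = Subgroup.centralizer ({g * f * g⁻¹} : Set G) :=
    Subgroup.eq_of_le_of_card_ge h2 (by rw [hc2])
  rw [e1, ← e2]

/-- an element of `A ⊔ B` (commuting, trivial intersection) killed by `n`, where `n` is prime to the
orders of the elements of `A`, lies in `B` -/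
theorem mem_right_of_pow (A B : Subgroup G) (hc : ∀ a ∈ A, ∀ b ∈ B, a * b = b * a)
    (hd : A ⊓ B = ⊥) (n : ℕ) (hA : ∀ a ∈ A, a ^ n = 1 → a = 1) {k : G} (hk : k ∈ A ⊔ B)
    (hkn : k ^ n = 1) : k ∈ B := by
  obtain ⟨a, ha, b, hb, rfl⟩ := mem_sup_comm A B hc k hk
  have hpow : (a * b) ^ n = a ^ n * b ^ n := Commute.mul_pow (hc a ha b hb) n
  rw [hpow] at hkn
  have h1 : a ^ n = (b ^ n)⁻¹ := eq_inv_of_mul_eq_one_left hkn
  have h2 : a ^ n ∈ A ⊓ B := ⟨A.pow_mem ha n, by rw [h1]; exact B.inv_mem (B.pow_mem hb n)⟩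
  rw [hd, Subgroup.mem_bot] at h2
  rw [hA a ha h2, one_mul]
  exact hb

end Cfsg.Agent.Lib.Helper5.J2S5
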