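import Mathlib
import Cfsg.Agent.Lib.Helper5.J2S5c0
import Cfsg.Agent.Lib.Helper7.A5aut
import Cfsg.Agent.Lib.Helper3.J2S5a
import Cfsg.Agent.Lib.Helper3.J2S5b

/-!
# S1722 (type J2, Sylow 5-subgroups): the centralizer of an element of order 5 of `R1`
is `⟨f⟩ × Y` with `Y ≅ A5`
-/

set_option autoImplicit false

namespace Cfsg.Agent.Lib.Helper5.J2S5

open Cfsg.Agent.Lib.Helper3.J2S5

variable {G : Type*} [Group G] {z t : G} {V0 R1 D : Subgroup G}

/-- the centralizer of an element of order 5 of `R1` -/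
theorem X_structure [Finite G] (E : Exports G z t V0 R1 D) (f : G) (hfR : f ∈ R1)
    (hf : orderOf f = 5) :
    ∃ Y : Subgroup G, Nonempty (↥Y ≃* alternatingGroup (Fin 5)) ∧
      (∀ y ∈ Y, y * f = f * y) ∧
      Subgroup.zpowers f ⊓ Y = ⊥ ∧
      Subgroup.zpowers f ⊔ Y = Subgroup.centralizer ({f} : Set G) ∧
      (∀ g : G, g * f * g⁻¹ ∈ Subgroup.zpowers f → Y.map (MulAut.conj g).toMonoidHom = Y) ∧
      (∀ s ∈ R1, s * f * s⁻¹ ∈ Subgroup.zpowers f → ∀ y ∈ Y, s * y = y * s) := by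
  classical
  have hp5 : Fact (Nat.Prime 5) := ⟨by norm_num⟩
  set X : Subgroup G := Subgroup.centralizer ({f} : Set G) with hX
  have memX : ∀ x, x ∈ X ↔ x * f = f * x := fun x => Subgroup.mem_centralizer_singleton_iff
  have hfX : f ∈ X := (memX f).2 rfl
  set fX : ↥X := ⟨f, hfX⟩ with hfXdef
  have hfXc : ∀ x : ↥X, x * fX = fX * x := fun x => Subtype.ext ((memX x).1 x.2)
  have hfX5 : orderOf fX = 5 := by rw [← Subgroup.orderOf_coe]; exact hf
  set N : Subgroup ↥X := Subgroup.zpowers fX with hN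
  have hNcent : ∀ n ∈ N, ∀ g : ↥X, g * n = n * g := by
    intro n hn g
    obtain ⟨k, rfl⟩ := Subgroup.mem_zpowers_iff.1 hn
    exact (Commute.zpow_right (show Commute g fX from hfXc g) k).eq
  have hNn : N.Normal := by
    constructor
    intro n hn g
    have : g * n * g⁻¹ = n := by rw [hNcent n hn g]; group
    rw [this]; exact hn
  have hNcard : Nat.card N = 5 := by rw [hN, Nat.card_zpowers, hfX5]
  -- 25 ∣ |X|
  have h25 : 25 ∣ Nat.card X := by
    have hpg : IsPGroup 5 (Subgroup.zpowers f) := by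
      apply IsPGroup.of_card (n := 1)
      rw [Nat.card_zpowers, hf]; norm_num
    obtain ⟨P5, hP5⟩ := hpg.exists_le_sylow
    have hc : Nat.card (P5 : Subgroup G) = 25 := sylow5_card E.card P5
    have hle : (P5 : Subgroup G) ≤ X := by
      intro x hx
      rw [memX]
      exact comm_of_card25 _ hc hx (hP5 (Subgroup.mem_zpowers f))
    rw [← hc]; exact Subgroup.card_dvd_of_le hle
  have hXcard : Nat.card X = Nat.card (↥X ⧸ N) * 5 := by
    rw [← hNcard]; exact Subgroup.card_eq_card_quotient_mul_card_subgroup N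
  have h5q : 5 ∣ Nat.card (↥X ⧸ N) := by
    rw [hXcard] at h25
    have : (25 : ℕ) = 5 * 5 := by norm_num
    rw [this] at h25
    exact Nat.dvd_of_mul_dvd_mul_right (by norm_num) h25
  -- V0 ≤ X
  have hV0X : V0 ≤ X := by
    intro v hv
    rw [memX]
    exact E.hVB.2.2.1 v hv f hfR
  -- the image of V0
  set V : Subgroup (↥X ⧸ N) := (V0.subgroupOf X).map (QuotientGroup.mk' N) with hVdef
  have hinj : ∀ v w : ↥X, (v : G) ∈ V0 → (w : G) ∈ V0 →
      (QuotientGroup.mk' N v = QuotientGroup.mk' N w) → v = w := by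
    intro v w hv hw h
    rw [QuotientGroup.mk'_eq_mk'] at h
    obtain ⟨n, hn, hvn⟩ := h
    -- v * n = w, n ∈ N
    have hnV : (n : G) ∈ V0 := by
      have : (n : G) = (v : G)⁻¹ * (w : G) := by rw [← hvn]; simp
      rw [this]; exact V0.mul_mem (V0.inv_mem hv) hw
    have hn2 : n ^ 2 = 1 := by
      apply Subtype.ext
      rw [Subgroup.coe_pow, pow_two]
      exact E.V0_sq hnV
    have hn5 : n ^ 5 = 1 := by
      have h1 : orderOf n ∣ 5 := by rw [← hfX5]; exact orderOf_dvd_of_mem_zpowers hn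
      exact orderOf_dvd_iff_pow_eq_one.1 h1
    have hn1 : n = 1 := by
      have : n = n ^ 5 * ((n ^ 2) ^ 2)⁻¹ := by group
      rw [this, hn5, hn2]; group
    rw [← hvn, hn1, mul_one]
  have hVcard : Nat.card V = 4 := by
    rw [← E.hV]
    symm
    refine Nat.card_congr (Equiv.ofBijective
      (fun v : V0 => (⟨QuotientGroup.mk' N ⟨v, hV0X v.2⟩, ?_⟩ : V)) ⟨?_, ?_⟩)
    · exact Subgroup.mem_map_of_mem _ (Subgroup.mem_subgroupOf.2 v.2)
    · intro v w h
      have h1 := congrArg Subtype.val h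
      have h2 := hinj ⟨v, hV0X v.2⟩ ⟨w, hV0X w.2⟩ v.2 w.2 h1
      have h3 : (v : G) = (w : G) := congrArg (fun x : ↥X => (x : G)) h2
      exact Subtype.ext h3
    · rintro ⟨_, ⟨x, hx, rfl⟩⟩
      exact ⟨⟨x, Subgroup.mem_subgroupOf.1 hx⟩, rfl⟩
  have hV2 : ∀ v ∈ V, v * v = 1 := by
    rintro _ ⟨x, hx, rfl⟩
    rw [← map_mul]
    have : x * x = 1 := Subtype.ext (E.V0_sq (Subgroup.mem_subgroupOf.1 hx))
    rw [this, map_one]
  have hVC : ∀ v ∈ V, v ≠ 1 → ∀ x : ↥X ⧸ N, x * v = v * x → x ∈ V := by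
    rintro _ ⟨v, hv, rfl⟩ hv1 xb hxv
    obtain ⟨x, rfl⟩ := QuotientGroup.mk'_surjective N xb
    have hvV0 : (v : G) ∈ V0 := Subgroup.mem_subgroupOf.1 hv
    have hvne : (v : G) ≠ 1 := by
      intro h
      apply hv1
      have : v = 1 := Subtype.ext h
      rw [this, map_one]
    -- x v x⁻¹ v⁻¹ ∈ N
    have hmem : x * v * x⁻¹ * v⁻¹ ∈ N := by
      rw [← QuotientGroup.eq_one_iff]
      have h1 : ((x * v * x⁻¹ * v⁻¹ : ↥X) : ↥X ⧸ N) =
          QuotientGroup.mk' N x * QuotientGroup.mk' N v * (QuotientGroup.mk' N x)⁻¹ *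
            (QuotientGroup.mk' N v)⁻¹ := by simp
      rw [h1, hxv]; group
    set n := x * v * x⁻¹ * v⁻¹ with hn
    have hxvx : x * v * x⁻¹ = n * v := by rw [hn]; group
    have hv2 : v * v = 1 := Subtype.ext (E.V0_sq hvV0)
    have hsq : (n * v) * (n * v) = 1 := by
      rw [← hxvx]
      calc x * v * x⁻¹ * (x * v * x⁻¹) = x * (v * v) * x⁻¹ := by group
        _ = 1 := by rw [hv2]; group
    have hn2 : n ^ 2 = 1 := by
      have h1 : n * v = v * n := (hNcent n hmem v).symm
      calc n ^ 2 = (n * v) * (n * v) * (v * v)⁻¹ := by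
            rw [pow_two]
            calc n * n = n * n * (v * v) * (v * v)⁻¹ := by group
              _ = n * (n * v) * v * (v * v)⁻¹ := by group
              _ = n * (v * n) * v * (v * v)⁻¹ := by rw [h1]
              _ = (n * v) * (n * v) * (v * v)⁻¹ := by group
        _ = 1 := by rw [hsq, hv2]; group
    have hn5 : n ^ 5 = 1 := by
      have h1 : orderOf n ∣ 5 := by rw [← hfX5]; exact orderOf_dvd_of_mem_zpowers hmem
      exact orderOf_dvd_iff_pow_eq_one.1 h1
    have hn1 : n = 1 := by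
      have : n = n ^ 5 * ((n ^ 2) ^ 2)⁻¹ := by group
      rw [this, hn5, hn2]; group
    have hcomm : x * v = v * x := by
      have : x * v * x⁻¹ = v := by rw [hxvx, hn1, one_mul]
      calc x * v = (x * v * x⁻¹) * x := by group
        _ = v * x := by rw [this]
    have hcommG : (x : G) * (v : G) = (v : G) * (x : G) := congrArg Subtype.val hcomm
    have hxt : (x : G) * t = t * (x : G) := (E.cent_eq hvV0 hvne (x : G)).1 hcommG
    obtain ⟨v', hv', r, hr, hxe⟩ := E.cent_t_five hfR hf hxt ((memX _).1 x.2)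
    obtain ⟨k, hk⟩ := Subgroup.mem_zpowers_iff.1 hr
    have hxe' : x = ⟨v', hV0X hv'⟩ * fX ^ k := by
      apply Subtype.ext
      rw [Subgroup.coe_mul, Subgroup.coe_zpow, hxe, ← hk]
    rw [hxe', map_mul]
    have hk1 : QuotientGroup.mk' N (fX ^ k) = 1 := by
      rw [QuotientGroup.mk'_apply, QuotientGroup.eq_one_iff]
      exact Subgroup.zpow_mem _ (Subgroup.mem_zpowers fX) k
    rw [hk1, mul_one]
    exact Subgroup.mem_map_of_mem _ (Subgroup.mem_subgroupOf.2 hv')
  -- the quotient is A5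
  have hq : Nonempty ((↥X ⧸ N) ≃* alternatingGroup (Fin 5)) :=
    fourgroup_A5 V hVcard hV2 hVC h5q
  obtain ⟨⟨w⟩, hbot, htop⟩ := central5_split fX hfX5 hfXc N hN hq
  -- Y
  set Y : Subgroup G := (commutator ↥X).map X.subtype with hY
  have hYX : Y ≤ X := Subgroup.map_subtype_le _
  have hYbr : Y = ⁅X, X⁆ := Subgroup.map_subtype_commutator X
  have hYiso : Nonempty (↥Y ≃* alternatingGroup (Fin 5)) :=
    ⟨((commutator ↥X).equivMapOfInjective X.subtype X.subtype_injective).symm.trans w⟩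
  have hYcard : Nat.card Y = 60 := by
    obtain ⟨w'⟩ := hYiso
    rw [Nat.card_congr w'.toEquiv, nat_card_alternatingGroup]
    simp [Nat.factorial]
  have hzY : Subgroup.zpowers f ⊓ Y = ⊥ := by
    rw [eq_bot_iff]
    rintro x ⟨hx1, hx2⟩
    rw [Subgroup.mem_bot]
    obtain ⟨y, hy, rfl⟩ := hx2
    have : y ∈ Subgroup.zpowers fX ⊓ commutator ↥X := by
      rw [Subgroup.mem_inf]
      refine ⟨?_, hy⟩
      obtain ⟨k, hk⟩ := Subgroup.mem_zpowers_iff.1 hx1
      rw [Subgroup.mem_zpowers_iff]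
      refine ⟨k, Subtype.ext ?_⟩
      rw [Subgroup.coe_zpow]
      exact hk
    rw [hbot, Subgroup.mem_bot] at this
    rw [this]; rfl
  have hsup : Subgroup.zpowers f ⊔ Y = X := by
    have h1 : (Subgroup.zpowers fX ⊔ commutator ↥X).map X.subtype = X := by
      rw [htop, ← MonoidHom.range_eq_map, Subgroup.range_subtype]
    rw [Subgroup.map_sup, MonoidHom.map_zpowers] at h1
    exact h1
  have hconj : ∀ g : G, g * f * g⁻¹ ∈ Subgroup.zpowers f →
      Y.map (MulAut.conj g).toMonoidHom = Y := by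
    intro g hg
    rw [hYbr, Subgroup.map_commutator, map_centralizer_eq f g hg]
  have hDY : D ≤ Y := by
    intro d hd
    have hdX : d ∈ Subgroup.zpowers f ⊔ Y := by
      rw [hsup, memX]; exact E.hDR d hd f hfR
    apply mem_right_of_pow (Subgroup.zpowers f) Y ?_ hzY 12 ?_ hdX
    · have : d ^ Nat.card D = 1 := by
        have h1 : (⟨d, hd⟩ : ↥D) ^ Nat.card D = 1 := pow_card_eq_one'
        have h2 := congrArg Subtype.val h1
        simpa only [Subgroup.coe_pow, Subgroup.coe_one] using h2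
      rw [← E.hD]; exact this
    · intro a ha b hb
      have hb' := hYX hb
      rw [memX] at hb'
      obtain ⟨k, rfl⟩ := Subgroup.mem_zpowers_iff.1 ha
      exact ((Commute.zpow_right (show Commute b f from hb') k)).eq.symm
    · intro a ha ha12
      have h1 : orderOf a ∣ 5 := by rw [← hf]; exact orderOf_dvd_of_mem_zpowers ha
      have h2 : orderOf a ∣ 12 := orderOf_dvd_of_pow_eq_one ha12
      have h3 : orderOf a ∣ Nat.gcd 5 12 := Nat.dvd_gcd h1 h2
      have h4 : orderOf a = 1 := Nat.eq_one_of_dvd_one (by simpa using h3)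
      exact orderOf_eq_one_iff.1 h4
  refine ⟨Y, hYiso, ?_, hzY, hsup, hconj, ?_⟩
  · intro y hy
    exact (memX y).1 (hYX hy)
  · intro s hs hsf y hy
    have hnorm : s ∈ Subgroup.normalizer (Y : Set G) := by
      rw [Subgroup.mem_normalizer_iff_map_conj_eq]
      exact hconj s hsf
    exact Cfsg.Agent.Lib.Helper7.A5aut.normalizer_centralizes Y D hYiso hDY
      (by rw [E.hD]; norm_num) s hnorm (fun d hd => (E.hDR d hd s hs).symm) y hy

end Cfsg.Agent.Lib.Helper5.J2S5
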