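import Mathlib
import Cfsg.Agent.Lib.Helper5.J2S5c

/-!
# S1722 (type J2, Sylow 5-subgroups): a self-centralizing subgroup `⟨a⟩ × ⟨b⟩` of order 25 with two
commuting involutions acting as `diag(-1,1)` and `diag(1,-1)`
-/

set_option autoImplicit false

namespace Cfsg.Agent.Lib.Helper5.J2S5

variable {G : Type*} [Group G] {z t : G} {V0 R1 D : Subgroup G}

theorem P0_exists [Finite G] (E : Exports G z t V0 R1 D) :
    ∃ a b s1 s2 : G, orderOf a = 5 ∧ orderOf b = 5 ∧ a * b = b * a ∧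
      Subgroup.zpowers a ⊓ Subgroup.zpowers b = ⊥ ∧
      (∀ x : G, x * a = a * x → x * b = b * x → x ∈ Subgroup.zpowers a ⊔ Subgroup.zpowers b) ∧
      s1 * s1 = 1 ∧ s1 * a * s1⁻¹ = a⁻¹ ∧ s1 * b = b * s1 ∧
      s2 * s2 = 1 ∧ s2 * a = a * s2 ∧ s2 * b * s2⁻¹ = b⁻¹ ∧ s1 * s2 = s2 * s1 := by
  obtain ⟨a, haR, s1, hs1R, ha, hs1, hs1a⟩ := exists_inv5 R1 E.hR1
  obtain ⟨Y, hYiso, hYa, hzY, hsup, _, hcentY⟩ := X_structure E a haR ha
  obtain ⟨b, hbY, s2, hs2Y, hb, hs2, hs2b⟩ := exists_inv5 Y hYiso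
  have hs1Y : ∀ y ∈ Y, s1 * y = y * s1 := by
    apply hcentY s1 hs1R
    rw [hs1a]
    exact Subgroup.inv_mem _ (Subgroup.mem_zpowers a)
  refine ⟨a, b, s1, s2, ha, hb, (hYa b hbY).symm, ?_, ?_, ((orderOf_eq_two_iff' s1).1 hs1).1, hs1a,
    hs1Y b hbY, ((orderOf_eq_two_iff' s2).1 hs2).1, hYa s2 hs2Y, hs2b, hs1Y s2 hs2Y⟩
  · rw [eq_bot_iff]
    intro x hx
    rw [← hzY]
    refine ⟨hx.1, ?_⟩
    have : Subgroup.zpowers b ≤ Y := by
      rw [Subgroup.zpowers_le]; exact hbY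
    exact this hx.2
  · intro x hxa hxb
    have hxX : x ∈ Subgroup.zpowers a ⊔ Y := by
      rw [hsup, Subgroup.mem_centralizer_singleton_iff]; exact hxa
    have hcomm : ∀ p ∈ Subgroup.zpowers a, ∀ y ∈ Y, p * y = y * p := by
      intro p hp y hy
      obtain ⟨k, rfl⟩ := Subgroup.mem_zpowers_iff.1 hp
      exact ((Commute.zpow_right (show Commute y a from hYa y hy) k)).eq.symm
    obtain ⟨p, hp, y, hy, rfl⟩ := mem_sup_comm _ _ hcomm x hxX
    have hpb : p * b = b * p := hcomm p hp b hbY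
    have hyb : y * b = b * y := by
      have h1 : p * (y * b) = p * (b * y) := by
        calc p * (y * b) = p * y * b := by group
          _ = b * (p * y) := hxb
          _ = (b * p) * y := by group
          _ = (p * b) * y := by rw [hpb]
          _ = p * (b * y) := by group
      exact mul_left_cancel h1
    have hyz : y ∈ Subgroup.zpowers b := by
      rcases cent5 Y hYiso b hbY hb y hy hyb with h | h | h | h | h <;> rw [h]
      · exact Subgroup.one_mem _
      · exact Subgroup.mem_zpowers b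
      · exact Subgroup.npow_mem_zpowers b 2
      · exact Subgroup.npow_mem_zpowers b 3
      · exact Subgroup.npow_mem_zpowers b 4
    exact Subgroup.mul_mem _ (Subgroup.mem_sup_left hp) (Subgroup.mem_sup_right hyz)

end Cfsg.Agent.Lib.Helper5.J2S5
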