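import Mathlib
import Cfsg.Agent.Lib.Helper5.J2S5c0

/-!
# S1722 piece G1: the normalizer of a self-centralizing `5 × 5` contains no subgroup of order 32
-/

set_option autoImplicit false

namespace Cfsg.Agent.Lib.Helper5.J2S5

variable {G : Type*} [Group G]

open Classical in
/-- orbit-stabilizer for the conjugation action of a subgroup on an element -/
theorem card_orbit_mul [Fintype G] (S : Subgroup G) (v : G) :
    ((Finset.univ.filter (fun s => s ∈ S)).image (fun s => s * v * s⁻¹)).card *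
      Nat.card ↥(S ⊓ Subgroup.centralizer {v}) = Nat.card S := by
  set Sf : Finset G := Finset.univ.filter (fun s => s ∈ S) with hSf
  have memSf : ∀ s, s ∈ Sf ↔ s ∈ S := by intro s; simp [hSf]
  set Cf : Finset G := Finset.univ.filter (fun s => s ∈ S ⊓ Subgroup.centralizer {v}) with hCf
  have memCf : ∀ s, s ∈ Cf ↔ (s ∈ S ∧ s * v = v * s) := by
    intro s
    simp only [hCf, Finset.mem_filter, Finset.mem_univ, true_and, Subgroup.mem_inf,
      Subgroup.mem_centralizer_singleton_iff]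
  have hCfc : Nat.card ↥(S ⊓ Subgroup.centralizer {v}) = Cf.card := by
    rw [Nat.card_eq_fintype_card, Fintype.card_subtype]
  have hSfc : Nat.card S = Sf.card := by
    rw [Nat.card_eq_fintype_card, Fintype.card_subtype]
  rw [hCfc, hSfc]
  have hmaps : (Sf : Set G).MapsTo (fun s => s * v * s⁻¹) (Sf.image (fun s => s * v * s⁻¹)) := by
    intro s hs
    exact Finset.mem_image_of_mem _ hs
  have hfib : ∀ y ∈ Sf.image (fun s => s * v * s⁻¹),
      (Sf.filter (fun s => s * v * s⁻¹ = y)).card = Cf.card := by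
    intro y hy
    rw [Finset.mem_image] at hy
    obtain ⟨s0, hs0, rfl⟩ := hy
    rw [memSf] at hs0
    refine Finset.card_nbij' (fun s => s0⁻¹ * s) (fun c => s0 * c) ?_ ?_ ?_ ?_
    · intro s hs
      rw [Finset.mem_coe, Finset.mem_filter, memSf] at hs
      rw [Finset.mem_coe, memCf]
      refine ⟨S.mul_mem (S.inv_mem hs0) hs.1, ?_⟩
      have h1 := hs.2
      calc s0⁻¹ * s * v = s0⁻¹ * (s * v * s⁻¹) * s := by group
        _ = s0⁻¹ * (s0 * v * s0⁻¹) * s := by rw [h1]
        _ = v * (s0⁻¹ * s) := by group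
    · intro c hc
      rw [Finset.mem_coe, memCf] at hc
      rw [Finset.mem_coe, Finset.mem_filter, memSf]
      refine ⟨S.mul_mem hs0 hc.1, ?_⟩
      calc s0 * c * v * (s0 * c)⁻¹ = s0 * (c * v) * c⁻¹ * s0⁻¹ := by group
        _ = s0 * (v * c) * c⁻¹ * s0⁻¹ := by rw [hc.2]
        _ = s0 * v * s0⁻¹ := by group
    · intro s _
      group
    · intro c _
      group
  rw [Finset.card_eq_sum_card_fiberwise hmaps, Finset.sum_congr rfl hfib, Finset.sum_const,
    smul_eq_mul]

open Classical in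
/-- a group of order 32 acting on `P0 \ 1` (24 points) has a point stabilizer of order at least 4 -/
theorem exists_big_stab [Finite G] (P0 : Subgroup G) (hP0 : Nat.card P0 = 25)
    (S : Subgroup G) (hS : Nat.card S = 32) (hSN : S ≤ Subgroup.normalizer (P0 : Set G)) :
    ∃ v ∈ P0, v ≠ 1 ∧ 4 ≤ Nat.card ↥(S ⊓ Subgroup.centralizer {v}) := by
  have := Fintype.ofFinite G
  by_contra hcon
  push Not at hcon
  set Sf : Finset G := Finset.univ.filter (fun s => s ∈ S) with hSf
  have memSf : ∀ s, s ∈ Sf ↔ s ∈ S := by intro s; simp [hSf]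
  set Pf : Finset G := (Finset.univ.filter (fun x => x ∈ P0)).erase 1 with hPf
  have memPf : ∀ x, x ∈ Pf ↔ (x ≠ 1 ∧ x ∈ P0) := by intro x; simp [hPf]
  have hPfc : Pf.card = 24 := by
    rw [hPf, Finset.card_erase_of_mem (by simp [P0.one_mem])]
    have : (Finset.univ.filter (fun x => x ∈ P0)).card = 25 := by
      rw [← hP0, Nat.card_eq_fintype_card, Fintype.card_subtype]
    rw [this]
  let O : G → Finset G := fun v => Sf.image (fun s => s * v * s⁻¹)
  have hOsub : ∀ v ∈ Pf, O v ⊆ Pf := by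
    intro v hv y hy
    rw [Finset.mem_image] at hy
    obtain ⟨s, hs, rfl⟩ := hy
    rw [memSf] at hs
    rw [memPf] at hv ⊢
    refine ⟨?_, (Subgroup.mem_normalizer_iff.1 (hSN hs) v).1 hv.2⟩
    intro h
    apply hv.1
    have : v = s⁻¹ * (s * v * s⁻¹) * s := by group
    rw [this, h]; group
  have hO16 : ∀ v ∈ Pf, 16 ≤ (O v).card := by
    intro v hv
    rw [memPf] at hv
    have h1 := card_orbit_mul S v
    rw [hS] at h1
    have h2 := hcon v hv.2 hv.1
    have h3 : Nat.card ↥(S ⊓ Subgroup.centralizer {v}) ∣ 32 := by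
      rw [← hS]; exact Subgroup.card_dvd_of_le inf_le_left
    have h8 : (32 : ℕ) = 2 ^ 5 := by norm_num
    rw [h8, Nat.dvd_prime_pow Nat.prime_two] at h3
    obtain ⟨k, hk, hkk⟩ := h3
    have hk1 : k ≤ 1 := by
      by_contra hk2
      have : 2 ^ 2 ≤ 2 ^ k := Nat.pow_le_pow_right (by norm_num) (by omega)
      rw [hkk] at h2
      omega
    have hc2 : Nat.card ↥(S ⊓ Subgroup.centralizer {v}) ≤ 2 := by
      rw [hkk]
      calc 2 ^ k ≤ 2 ^ 1 := Nat.pow_le_pow_right (by norm_num) hk1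
        _ = 2 := by norm_num
    show 16 ≤ (Sf.image (fun s => s * v * s⁻¹)).card
    nlinarith
  -- pick v1
  have hne : Pf.Nonempty := by
    rw [← Finset.card_pos, hPfc]; norm_num
  obtain ⟨v1, hv1⟩ := hne
  have h1 := hO16 v1 hv1
  have h1' := Finset.card_le_card (hOsub v1 hv1)
  rw [hPfc] at h1'
  -- v1 ∈ O v1
  -- pick v2 outside O v1
  have hne2 : (Pf \ O v1).Nonempty := by
    rw [← Finset.card_pos, Finset.card_sdiff_of_subset (hOsub v1 hv1), hPfc]
    -- |O v1| ≠ 24: it divides 32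
    have h2 := card_orbit_mul S v1
    rw [hS] at h2
    have hd : (O v1).card ∣ 32 := Dvd.intro _ h2
    have h8 : (32 : ℕ) = 2 ^ 5 := by norm_num
    rw [h8, Nat.dvd_prime_pow Nat.prime_two] at hd
    obtain ⟨k, hk, hkk⟩ := hd
    rw [hkk] at h1 h1' ⊢
    interval_cases k <;> omega
  obtain ⟨v2, hv2⟩ := hne2
  rw [Finset.mem_sdiff] at hv2
  have h2 := hO16 v2 hv2.1
  have hdisj : Disjoint (O v1) (O v2) := by
    rw [Finset.disjoint_left]
    intro y hy1 hy2
    rw [Finset.mem_image] at hy1 hy2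
    obtain ⟨s, hs, rfl⟩ := hy1
    obtain ⟨s', hs', hss⟩ := hy2
    rw [memSf] at hs hs'
    apply hv2.2
    rw [Finset.mem_image]
    refine ⟨s'⁻¹ * s, (memSf _).2 (S.mul_mem (S.inv_mem hs') hs), ?_⟩
    calc s'⁻¹ * s * v1 * (s'⁻¹ * s)⁻¹ = s'⁻¹ * (s * v1 * s⁻¹) * s' := by group
      _ = s'⁻¹ * (s' * v2 * s'⁻¹) * s' := by rw [hss]
      _ = v2 := by group
  have hun : (O v1 ∪ O v2).card ≤ 24 := by
    rw [← hPfc]
    exact Finset.card_le_card (Finset.union_subset (hOsub v1 hv1) (hOsub v2 hv2.1))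
  rw [Finset.card_union_of_disjoint hdisj] at hun
  omega

theorem conj_comm {x y : G} (c : G) (h : x * y = y * x) :
    (c * x * c⁻¹) * (c * y * c⁻¹) = (c * y * c⁻¹) * (c * x * c⁻¹) := by
  calc (c * x * c⁻¹) * (c * y * c⁻¹) = c * (x * y) * c⁻¹ := by group
    _ = c * (y * x) * c⁻¹ := by rw [h]
    _ = (c * y * c⁻¹) * (c * x * c⁻¹) := by group

theorem pow_four_of_sq {g : G} (h : g * g = 1) : g ^ 4 = 1 := by
  have h2 : g ^ 2 = 1 := by rw [pow_two]; exact h
  calc g ^ 4 = (g ^ 2) ^ 2 := by rw [← pow_mul]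
    _ = 1 := by rw [h2, one_pow]

theorem conj_eq_one {c x : G} (h : c * x * c⁻¹ = 1) : x = 1 := by
  have : x = c⁻¹ * (c * x * c⁻¹) * c := by group
  rw [this, h]; group

variable {z t : G} {V0 R1 D : Subgroup G}

/-- a 2-element `g` (`g ^ 4 = 1`) commuting with an involution `s` and with an element `v` of order
5 that commutes with `s` is an involution or trivial -/
theorem sq_eq_one_of_comm [Finite G] (E : Exports G z t V0 R1 D) {s v g : G} (hs : orderOf s = 2)
    (hv : orderOf v = 5) (hvs : v * s = s * v) (hgs : g * s = s * g) (hgv : g * v = v * g)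
    (hg4 : g ^ 4 = 1) : g * g = 1 := by
  have hz2 : z * z = 1 := ((orderOf_eq_two_iff' z).1 E.hz).1
  have key : ∀ c : G, (c * g * c⁻¹) * (c * g * c⁻¹) = 1 → g * g = 1 := by
    intro c h
    apply conj_eq_one (c := c)
    rw [← h]; group
  rcases E.hcl s hs with h | h
  · obtain ⟨c, hc⟩ := isConj_iff.1 h
    have h1 := E.hz5 (c * v * c⁻¹) (c * g * c⁻¹) (by rw [orderOf_conj_elt, hv])
      (by rw [← hc]; exact conj_comm c hvs) (by rw [← hc]; exact conj_comm c hgs)
      (conj_comm c hgv) (by rw [conj_pow, hg4]; group)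
    apply key c
    rcases h1 with h1 | h1 <;> rw [h1]
    · rw [mul_one]
    · exact hz2
  · obtain ⟨c, hc⟩ := isConj_iff.1 h
    have h1 := E.two_cent_five (f := c * v * c⁻¹) (x := c * g * c⁻¹)
      (by rw [orderOf_conj_elt, hv])
      (by rw [← hc]; exact conj_comm c hvs) (by rw [← hc]; exact conj_comm c hgs)
      (conj_comm c hgv) (by rw [conj_pow, hg4]; group)
    exact key c (E.V0_sq h1)

/-- second involution, `z`-type case -/
theorem inv_of_z_type [Finite G] (E : Exports G z t V0 R1 D) {s v g : G} (hsz : IsConj s z)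
    (hv : orderOf v = 5) (hvs : v * s = s * v) (hgs : g * s = s * g) (hgv : g * v = v * g)
    (hg2 : g * g = 1) : g = 1 ∨ g = s := by
  obtain ⟨c, hc⟩ := isConj_iff.1 hsz
  have h1 := E.hz5 (c * v * c⁻¹) (c * g * c⁻¹) (by rw [orderOf_conj_elt, hv])
    (by rw [← hc]; exact conj_comm c hvs) (by rw [← hc]; exact conj_comm c hgs)
    (conj_comm c hgv) (by
      rw [conj_pow]
      rw [pow_four_of_sq hg2]; group)
  rcases h1 with h1 | h1
  · left; exact conj_eq_one h1
  · right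
    rw [← hc] at h1
    have : c * (g * s⁻¹) * c⁻¹ = 1 := by
      calc c * (g * s⁻¹) * c⁻¹ = (c * g * c⁻¹) * (c * s * c⁻¹)⁻¹ := by group
        _ = 1 := by rw [h1]; group
    have h2 := conj_eq_one this
    calc g = (g * s⁻¹) * s := by group
      _ = s := by rw [h2, one_mul]

/-- second involution, `t`-type case: the three involutions have the same centralizer -/
theorem cent_of_t_type [Finite G] (E : Exports G z t V0 R1 D) {s v g : G} (hst : IsConj s t)
    (hv : orderOf v = 5) (hvs : v * s = s * v) (hgs : g * s = s * g) (hgv : g * v = v * g)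
    (hg2 : g * g = 1) (hg1 : g ≠ 1) (hgne : g ≠ s) :
    (∀ x : G, x * g = g * x ↔ x * s = s * x) ∧
      (∀ x : G, x * (s * g) = (s * g) * x ↔ x * s = s * x) := by
  obtain ⟨c, hc⟩ := isConj_iff.1 hst
  have hg4 : g ^ 4 = 1 := pow_four_of_sq hg2
  have hgV : c * g * c⁻¹ ∈ V0 := E.two_cent_five (f := c * v * c⁻¹) (x := c * g * c⁻¹)
      (by rw [orderOf_conj_elt, hv])
      (by rw [← hc]; exact conj_comm c hvs) (by rw [← hc]; exact conj_comm c hgs)
      (conj_comm c hgv) (by rw [conj_pow, hg4]; group)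
  have hg1' : c * g * c⁻¹ ≠ 1 := fun h => hg1 (conj_eq_one h)
  have hsgV : c * (s * g) * c⁻¹ ∈ V0 := by
    have : c * (s * g) * c⁻¹ = (c * s * c⁻¹) * (c * g * c⁻¹) := by group
    rw [this, hc]
    exact V0.mul_mem E.htV hgV
  have hsg1' : c * (s * g) * c⁻¹ ≠ 1 := by
    intro h
    have h2 := conj_eq_one h
    apply hgne
    have hs2 : s * s = 1 := by
      have : orderOf s = 2 := by rw [← orderOf_conj_elt c s, hc, E.ht]
      exact ((orderOf_eq_two_iff' s).1 this).1
    calc g = s * s * g := by rw [hs2, one_mul]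
      _ = s * (s * g) := by group
      _ = s := by rw [h2, mul_one]
  have transport : ∀ (y : G), (c * y * c⁻¹ ∈ V0) → c * y * c⁻¹ ≠ 1 →
      ∀ x : G, x * y = y * x ↔ x * s = s * x := by
    intro y hyV hy1 x
    have h1 := E.cent_eq hyV hy1 (c * x * c⁻¹)
    constructor
    · intro h
      have h2 := h1.1 (conj_comm c h)
      rw [← hc] at h2
      have h3 := conj_comm c⁻¹ h2
      have e1 : c⁻¹ * (c * x * c⁻¹) * c⁻¹⁻¹ = x := by group
      have e2 : c⁻¹ * (c * s * c⁻¹) * c⁻¹⁻¹ = s := by group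
      rw [e1, e2] at h3
      exact h3
    · intro h
      have h2 : c * x * c⁻¹ * t = t * (c * x * c⁻¹) := by
        rw [← hc]; exact conj_comm c h
      have h3 := conj_comm c⁻¹ (h1.2 h2)
      have e1 : c⁻¹ * (c * x * c⁻¹) * c⁻¹⁻¹ = x := by group
      have e2 : c⁻¹ * (c * y * c⁻¹) * c⁻¹⁻¹ = y := by group
      rw [e1, e2] at h3
      exact h3
  exact ⟨transport g hgV hg1', transport (s * g) hsgV hsg1'⟩

theorem reorder3 {w w1 w2 w3 : G} (h01 : w * w1 = w1 * w) (h02 : w * w2 = w2 * w) :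
    (w * w1) * (w * w2) * (w * w3) = (w * w) * (w * w1 * w2 * w3) := by
  calc (w * w1) * (w * w2) * (w * w3) = w * (w1 * w) * w2 * (w * w3) := by group
    _ = w * (w * w1) * w2 * (w * w3) := by rw [h01]
    _ = w * w * w1 * (w2 * w) * w3 := by group
    _ = w * w * w1 * (w * w2) * w3 := by rw [h02]
    _ = w * w * (w1 * w) * w2 * w3 := by group
    _ = w * w * (w * w1) * w2 * w3 := by rw [h01]
    _ = (w * w) * (w * w1 * w2 * w3) := by group

/-- a four-group `{1, a1, a2, a1 a2}` normalizing an abelian group `P0` of exponent 5, whose three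
involutions have the same centralizer, centralizes `P0` -/
theorem v4_centralizes (P0 : Subgroup G) (hab : ∀ x ∈ P0, ∀ y ∈ P0, x * y = y * x)
    (hexp : ∀ p ∈ P0, p ^ 5 = 1) {a1 a2 : G} (h1 : a1 * a1 = 1) (h2 : a2 * a2 = 1)
    (h12 : a1 * a2 = a2 * a1)
    (hn1 : ∀ p ∈ P0, a1 * p * a1⁻¹ ∈ P0) (hn2 : ∀ p ∈ P0, a2 * p * a2⁻¹ ∈ P0)
    (hc2 : ∀ x : G, x * a2 = a2 * x ↔ x * a1 = a1 * x)
    (hc3 : ∀ x : G, x * (a1 * a2) = (a1 * a2) * x ↔ x * a1 = a1 * x) :
    ∀ w ∈ P0, w * a1 = a1 * w := by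
  intro w hw
  have hi1 : a1⁻¹ = a1 := inv_eq_of_mul_eq_one_left h1
  have hi2 : a2⁻¹ = a2 := inv_eq_of_mul_eq_one_left h2
  set w1 := a1 * w * a1⁻¹ with hw1
  set w2 := a2 * w * a2⁻¹ with hw2
  set w3 := (a1 * a2) * w * (a1 * a2)⁻¹ with hw3
  have hw1P : w1 ∈ P0 := hn1 w hw
  have hw2P : w2 ∈ P0 := hn2 w hw
  have hw3P : w3 ∈ P0 := by
    have : w3 = a1 * (a2 * w * a2⁻¹) * a1⁻¹ := by rw [hw3]; group
    rw [this]; exact hn1 _ (hn2 w hw)
  -- conjugation formulas
  have c11 : a1 * w1 * a1⁻¹ = w := by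
    rw [hw1, hi1]
    calc a1 * (a1 * w * a1) * a1 = (a1 * a1) * w * (a1 * a1) := by group
      _ = w := by rw [h1]; group
  have c22 : a2 * w2 * a2⁻¹ = w := by
    rw [hw2, hi2]
    calc a2 * (a2 * w * a2) * a2 = (a2 * a2) * w * (a2 * a2) := by group
      _ = w := by rw [h2]; group
  have c33 : (a1 * a2) * w3 * (a1 * a2)⁻¹ = w := by
    rw [hw3]
    have e : (a1 * a2) * (a1 * a2) = 1 := by
      calc (a1 * a2) * (a1 * a2) = a1 * (a2 * a1) * a2 := by group
        _ = a1 * (a1 * a2) * a2 := by rw [h12]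
        _ = (a1 * a1) * (a2 * a2) := by group
        _ = 1 := by rw [h1, h2, mul_one]
    have ei : (a1 * a2)⁻¹ = a1 * a2 := inv_eq_of_mul_eq_one_left e
    rw [ei]
    calc a1 * a2 * (a1 * a2 * w * (a1 * a2)) * (a1 * a2)
        = ((a1 * a2) * (a1 * a2)) * w * ((a1 * a2) * (a1 * a2)) := by group
      _ = w := by rw [e]; group
  have c12 : a1 * w2 * a1⁻¹ = w3 := by rw [hw2, hw3]; group
  have c13 : a1 * w3 * a1⁻¹ = w2 := by
    rw [hw3, hw2, hi1, hi2]
    have : (a1 * a2)⁻¹ = a2 * a1 := by rw [mul_inv_rev, hi1, hi2]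
    rw [this]
    calc a1 * (a1 * a2 * w * (a2 * a1)) * a1 = (a1 * a1) * a2 * w * a2 * (a1 * a1) := by group
      _ = a2 * w * a2 := by rw [h1]; group
  -- the elements u1, u2, u3, n commute with a1
  have comm_of_conj : ∀ {a x : G}, a * x * a⁻¹ = x → x * a = a * x := by
    intro a x h
    calc x * a = (a * x * a⁻¹) * a := by rw [h]
      _ = a * x := by group
  have hu1 : (w * w1) * a1 = a1 * (w * w1) := by
    apply comm_of_conj
    calc a1 * (w * w1) * a1⁻¹ = (a1 * w * a1⁻¹) * (a1 * w1 * a1⁻¹) := by group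
      _ = w1 * w := by rw [c11]
      _ = w * w1 := (hab w hw w1 hw1P).symm
  have hu2 : (w * w2) * a1 = a1 * (w * w2) := by
    rw [← hc2]
    apply comm_of_conj
    calc a2 * (w * w2) * a2⁻¹ = (a2 * w * a2⁻¹) * (a2 * w2 * a2⁻¹) := by group
      _ = w2 * w := by rw [c22]
      _ = w * w2 := (hab w hw w2 hw2P).symm
  have hu3 : (w * w3) * a1 = a1 * (w * w3) := by
    rw [← hc3]
    apply comm_of_conj
    calc (a1 * a2) * (w * w3) * (a1 * a2)⁻¹
        = ((a1 * a2) * w * (a1 * a2)⁻¹) * ((a1 * a2) * w3 * (a1 * a2)⁻¹) := by group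
      _ = w3 * w := by rw [c33]
      _ = w * w3 := (hab w hw w3 hw3P).symm
  have hn : (w * w1 * w2 * w3) * a1 = a1 * (w * w1 * w2 * w3) := by
    apply comm_of_conj
    calc a1 * (w * w1 * w2 * w3) * a1⁻¹
        = (a1 * w * a1⁻¹) * (a1 * w1 * a1⁻¹) * (a1 * w2 * a1⁻¹) * (a1 * w3 * a1⁻¹) := by group
      _ = w1 * w * w3 * w2 := by rw [c11, c12, c13]
      _ = (w * w1) * (w2 * w3) := by
          rw [hab w1 hw1P w hw, mul_assoc (w * w1), hab w3 hw3P w2 hw2P]
      _ = w * w1 * w2 * w3 := by group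
  -- w * w commutes with a1
  have hww : (w * w) * a1 = a1 * (w * w) := by
    have e := reorder3 (w3 := w3) (hab w hw w1 hw1P) (hab w hw w2 hw2P)
    have e2 : w * w = (w * w1) * (w * w2) * (w * w3) * (w * w1 * w2 * w3)⁻¹ := by
      rw [e]; group
    have hC : ∀ x y : G, x * a1 = a1 * x → y * a1 = a1 * y → (x * y) * a1 = a1 * (x * y) := by
      intro x y hx hy
      calc x * y * a1 = x * (y * a1) := by group
        _ = x * (a1 * y) := by rw [hy]
        _ = (x * a1) * y := by group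
        _ = a1 * (x * y) := by rw [hx]; group
    have hCi : ∀ x : G, x * a1 = a1 * x → x⁻¹ * a1 = a1 * x⁻¹ := by
      intro x hx
      calc x⁻¹ * a1 = x⁻¹ * (a1 * x) * x⁻¹ := by group
        _ = x⁻¹ * (x * a1) * x⁻¹ := by rw [hx]
        _ = a1 * x⁻¹ := by group
    rw [e2]
    exact hC _ _ (hC _ _ (hC _ _ hu1 hu2) hu3) (hCi _ hn)
  -- w = (w*w)^3
  have hw6 : w = (w * w) * (w * w) * (w * w) := by
    have h5 := hexp w hw
    calc w = w ^ 5 * w := by rw [h5, one_mul]
      _ = (w * w) * (w * w) * (w * w) := by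
          simp only [pow_succ, pow_zero, one_mul, mul_assoc]
  have hC : ∀ x y : G, x * a1 = a1 * x → y * a1 = a1 * y → (x * y) * a1 = a1 * (x * y) := by
    intro x y hx hy
    calc x * y * a1 = x * (y * a1) := by group
      _ = x * (a1 * y) := by rw [hy]
      _ = (x * a1) * y := by group
      _ = a1 * (x * y) := by rw [hx]; group
  rw [hw6]
  exact hC _ _ (hC _ _ hww hww) hww

theorem no_sub32 [Finite G] (E : Exports G z t V0 R1 D) (P0 : Subgroup G)
    (hP0 : Nat.card P0 = 25) (hexp : ∀ p ∈ P0, p ^ 5 = 1)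
    (hcent : ∀ x : G, (∀ p ∈ P0, x * p = p * x) → x ∈ P0)
    (S : Subgroup G) (hS : Nat.card S = 32)
    (hSN : S ≤ Subgroup.normalizer (P0 : Set G)) : False := by
  classical
  have hab : ∀ x ∈ P0, ∀ y ∈ P0, x * y = y * x := fun x hx y hy => comm_of_card25 P0 hP0 hx hy
  obtain ⟨v, hvP, hv1, hA4⟩ := exists_big_stab P0 hP0 S hS hSN
  have hv5 : orderOf v = 5 := (orderOf_eq_five_iff v).2 ⟨hexp v hvP, hv1⟩
  set A : Subgroup G := S ⊓ Subgroup.centralizer {v} with hA
  have memA : ∀ g, g ∈ A ↔ (g ∈ S ∧ g * v = v * g) := by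
    intro g
    rw [hA, Subgroup.mem_inf, Subgroup.mem_centralizer_singleton_iff]
  have hS32 : ∀ g ∈ S, g ^ 32 = 1 := by
    intro g hg
    have h1 : (⟨g, hg⟩ : ↥S) ^ Nat.card S = 1 := pow_card_eq_one'
    have h2 := congrArg Subtype.val h1
    rw [hS] at h2
    simpa only [Subgroup.coe_pow, Subgroup.coe_one] using h2
  by_cases hexp2 : ∀ g ∈ A, g * g = 1
  · -- Case B: A has exponent 2
    have hfinA : Finite ↥A := inferInstance
    have := Fintype.ofFinite ↥A
    have h3 : 2 < Fintype.card ↥A := by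
      rw [← Nat.card_eq_fintype_card]; omega
    obtain ⟨x, y, w, hxy, hxw, hyw⟩ := Fintype.two_lt_card_iff.1 h3
    -- two distinct non-identity elements
    have hpick : ∃ a1 a2 : ↥A, a1 ≠ 1 ∧ a2 ≠ 1 ∧ a1 ≠ a2 := by
      by_cases hx1 : x = 1
      · refine ⟨y, w, ?_, ?_, hyw⟩
        · rw [← hx1]; exact Ne.symm hxy
        · rw [← hx1]; exact Ne.symm hxw
      · by_cases hy1 : y = 1
        · refine ⟨x, w, hx1, ?_, hxw⟩
          rw [← hy1]; exact Ne.symm hyw
        · exact ⟨x, y, hx1, hy1, hxy⟩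
    obtain ⟨⟨a1, ha1A⟩, ⟨a2, ha2A⟩, hne1, hne2, hne12⟩ := hpick
    have ha1 : a1 ≠ 1 := fun h => hne1 (Subtype.ext h)
    have ha2 : a2 ≠ 1 := fun h => hne2 (Subtype.ext h)
    have ha12 : a1 ≠ a2 := fun h => hne12 (Subtype.ext h)
    have hsq1 := hexp2 a1 ha1A
    have hsq2 := hexp2 a2 ha2A
    have hsq12 := hexp2 (a1 * a2) (A.mul_mem ha1A ha2A)
    have hcomm12 : a1 * a2 = a2 * a1 := by
      have hi1 : a1⁻¹ = a1 := inv_eq_of_mul_eq_one_left hsq1
      have hi2 : a2⁻¹ = a2 := inv_eq_of_mul_eq_one_left hsq2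
      have hi12 : (a1 * a2)⁻¹ = a1 * a2 := inv_eq_of_mul_eq_one_left hsq12
      calc a1 * a2 = (a1 * a2)⁻¹ := hi12.symm
        _ = a2⁻¹ * a1⁻¹ := mul_inv_rev a1 a2
        _ = a2 * a1 := by rw [hi1, hi2]
    have ho1 : orderOf a1 = 2 := (orderOf_eq_two_iff' a1).2 ⟨hsq1, ha1⟩
    have hm1 := (memA a1).1 ha1A
    have hm2 := (memA a2).1 ha2A
    rcases E.hcl a1 ho1 with hz | ht
    · rcases inv_of_z_type E hz hv5 hm1.2.symm hcomm12.symm hm2.2 hsq2 with h | h
      · exact ha2 h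
      · exact ha12 h.symm
    · obtain ⟨hc2, hc3⟩ := cent_of_t_type E ht hv5 hm1.2.symm hcomm12.symm hm2.2 hsq2 ha2
        (fun h => ha12 h.symm)
      have hn1 : ∀ p ∈ P0, a1 * p * a1⁻¹ ∈ P0 := fun p hp =>
        (Subgroup.mem_normalizer_iff.1 (hSN hm1.1) p).1 hp
      have hn2 : ∀ p ∈ P0, a2 * p * a2⁻¹ ∈ P0 := fun p hp =>
        (Subgroup.mem_normalizer_iff.1 (hSN hm2.1) p).1 hp
      have hcentr := v4_centralizes P0 hab hexp hsq1 hsq2 hcomm12 hn1 hn2 hc2 hc3
      have ha1P : a1 ∈ P0 := hcent a1 (fun p hp => (hcentr p hp).symm)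
      have h5 := hexp a1 ha1P
      have h2 : a1 ^ 2 = 1 := by rw [pow_two]; exact hsq1
      apply ha1
      calc a1 = a1 ^ 5 * ((a1 ^ 2) ^ 2)⁻¹ := by group
        _ = 1 := by rw [h5, h2]; group
  · -- Case A: an element of order at least 4
    push Not at hexp2
    obtain ⟨g, hgA, hg2⟩ := hexp2
    have hmg := (memA g).1 hgA
    have hord : orderOf g ∣ 2 ^ 5 := by
      have := orderOf_dvd_of_pow_eq_one (hS32 g hmg.1)
      simpa using this
    rw [Nat.dvd_prime_pow Nat.prime_two] at hord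
    obtain ⟨k, hk, hkk⟩ := hord
    have hk2 : 2 ≤ k := by
      by_contra hcon
      have hk1 : k ≤ 1 := by omega
      have : orderOf g ∣ 2 := by
        rw [hkk]
        calc 2 ^ k ∣ 2 ^ 1 := pow_dvd_pow 2 hk1
          _ = 2 := by norm_num
      have h2 : g ^ 2 = 1 := orderOf_dvd_iff_pow_eq_one.1 this
      rw [pow_two] at h2
      exact hg2 h2
    set h := g ^ (2 ^ (k - 2)) with hh
    have hhA : h ∈ A := A.pow_mem hgA _
    have hh4 : h ^ 4 = 1 := by
      rw [hh, ← pow_mul]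
      have : 2 ^ (k - 2) * 4 = 2 ^ k := by
        have : (4 : ℕ) = 2 ^ 2 := by norm_num
        rw [this, ← pow_add]
        congr 1
        omega
      rw [this, ← hkk]
      exact pow_orderOf_eq_one g
    have hh2 : h * h ≠ 1 := by
      rw [hh, ← pow_add]
      have : 2 ^ (k - 2) + 2 ^ (k - 2) = 2 ^ (k - 1) := by
        have : k - 1 = (k - 2) + 1 := by omega
        rw [this, pow_succ]
        ring
      rw [this]
      apply pow_ne_one_of_lt_orderOf (by positivity)
      rw [hkk]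
      exact Nat.pow_lt_pow_right (by norm_num) (by omega)
    have hmh := (memA h).1 hhA
    set s := h * h with hs
    have hs2 : s * s = 1 := by
      calc s * s = h ^ 4 := by rw [hs]; simp only [pow_succ, pow_zero, one_mul, mul_assoc]
        _ = 1 := hh4
    have hso : orderOf s = 2 := (orderOf_eq_two_iff' s).2 ⟨hs2, hh2⟩
    have hvs : v * s = s * v := by
      rw [hs]
      calc v * (h * h) = (v * h) * h := by group
        _ = (h * v) * h := by rw [hmh.2]
        _ = h * (v * h) := by group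
        _ = h * (h * v) := by rw [hmh.2]
        _ = h * h * v := by group
    have hhs : h * s = s * h := by rw [hs]; group
    exact hh2 (sq_eq_one_of_comm E hso hv5 hvs hhs hmh.2 hh4)

end Cfsg.Agent.Lib.Helper5.J2S5
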