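import Mathlib
import Cfsg.Agent.Lib.Helper5.J2S5c0

/-!
# S1722 piece G2: the normalizer of a self-centralizing `5 × 5` has order dividing `25 * 480`
-/

set_option autoImplicit false

namespace Cfsg.Agent.Lib.Helper5.J2S5

open MulAction in
/-- class formula when all stabilizers have the same order -/
theorem div_card_dvd_of_stab {α β : Type*} [Group α] [MulAction α β] [Finite α] [Finite β] (s : ℕ)
    (hs : ∀ b : β, Nat.card (stabilizer α b) = s) : (Nat.card α / s) ∣ Nat.card β := by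
  classical
  have := Fintype.ofFinite α
  have := Fintype.ofFinite β
  have h := card_eq_sum_card_group_div_card_stabilizer α β
  have h2 : ∀ ω : Quotient (orbitRel α β),
      Fintype.card α / Fintype.card (stabilizer α ω.out) = Nat.card α / s := by
    intro ω
    rw [← Nat.card_eq_fintype_card, ← Nat.card_eq_fintype_card, hs]
  rw [Finset.sum_congr rfl (fun ω _ => h2 ω), Finset.sum_const, smul_eq_mul] at h
  rw [Nat.card_eq_fintype_card (α := β), h]
  exact Dvd.intro_left _ rfl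

variable {G : Type*} [Group G]

/-- the pairs `(x, y)` of `P0` with `x ≠ 1` and `y ∉ ⟨x⟩` -/
def Pairs (P0 : Subgroup G) : Type _ :=
  {ω : G × G // ω.1 ∈ P0 ∧ ω.2 ∈ P0 ∧ ω.1 ≠ 1 ∧ ω.2 ∉ Subgroup.zpowers ω.1}

theorem conj_mem_normalizer {P0 : Subgroup G} {n x : G} (hn : n ∈ Subgroup.normalizer (P0 : Set G))
    (hx : x ∈ P0) : n * x * n⁻¹ ∈ P0 := (Subgroup.mem_normalizer_iff.1 hn x).1 hx

theorem pairs_conj_mem {P0 : Subgroup G} {n x y : G} (hn : n ∈ Subgroup.normalizer (P0 : Set G))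
    (hx : x ∈ P0) (hy : y ∈ P0) (hx1 : x ≠ 1) (hyx : y ∉ Subgroup.zpowers x) :
    (n * x * n⁻¹, n * y * n⁻¹).1 ∈ P0 ∧ (n * x * n⁻¹, n * y * n⁻¹).2 ∈ P0 ∧
      (n * x * n⁻¹, n * y * n⁻¹).1 ≠ 1 ∧
      (n * x * n⁻¹, n * y * n⁻¹).2 ∉ Subgroup.zpowers (n * x * n⁻¹, n * y * n⁻¹).1 := by
  refine ⟨conj_mem_normalizer hn hx, conj_mem_normalizer hn hy, ?_, ?_⟩
  · intro h
    have h' : n * x * n⁻¹ = 1 := h
    apply hx1
    have : x = n⁻¹ * (n * x * n⁻¹) * n := by group
    rw [this, h']; group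
  · intro h
    have h' : n * y * n⁻¹ ∈ Subgroup.zpowers (n * x * n⁻¹) := h
    apply hyx
    obtain ⟨k, hk⟩ := Subgroup.mem_zpowers_iff.1 h'
    rw [Subgroup.mem_zpowers_iff]
    refine ⟨k, ?_⟩
    have h1 : (n * x * n⁻¹) ^ k = n * x ^ k * n⁻¹ := conj_zpow
    rw [h1] at hk
    exact mul_left_cancel (mul_right_cancel hk)

instance pairsAction (P0 : Subgroup G) :
    MulAction ↥(Subgroup.normalizer (P0 : Set G)) (Pairs P0) where
  smul n ω := ⟨((n : G) * ω.1.1 * (n : G)⁻¹, (n : G) * ω.1.2 * (n : G)⁻¹),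
    pairs_conj_mem n.2 ω.2.1 ω.2.2.1 ω.2.2.2.1 ω.2.2.2.2⟩
  one_smul ω := by
    apply Subtype.ext
    apply Prod.ext
    · show ((1 : ↥(Subgroup.normalizer (P0 : Set G))) : G) * ω.1.1 *
        ((1 : ↥(Subgroup.normalizer (P0 : Set G))) : G)⁻¹ = ω.1.1
      simp
    · show ((1 : ↥(Subgroup.normalizer (P0 : Set G))) : G) * ω.1.2 *
        ((1 : ↥(Subgroup.normalizer (P0 : Set G))) : G)⁻¹ = ω.1.2
      simp
  mul_smul m n ω := by
    apply Subtype.ext
    apply Prod.ext
    · show ((m * n : ↥(Subgroup.normalizer (P0 : Set G))) : G) * ω.1.1 *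
        ((m * n : ↥(Subgroup.normalizer (P0 : Set G))) : G)⁻¹ =
        (m : G) * ((n : G) * ω.1.1 * (n : G)⁻¹) * (m : G)⁻¹
      rw [Subgroup.coe_mul]; group
    · show ((m * n : ↥(Subgroup.normalizer (P0 : Set G))) : G) * ω.1.2 *
        ((m * n : ↥(Subgroup.normalizer (P0 : Set G))) : G)⁻¹ =
        (m : G) * ((n : G) * ω.1.2 * (n : G)⁻¹) * (m : G)⁻¹
      rw [Subgroup.coe_mul]; group

theorem smul_pairs_fst (P0 : Subgroup G) (n : ↥(Subgroup.normalizer (P0 : Set G))) (ω : Pairs P0) :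
    (n • ω).1.1 = (n : G) * ω.1.1 * (n : G)⁻¹ := rfl

theorem smul_pairs_snd (P0 : Subgroup G) (n : ↥(Subgroup.normalizer (P0 : Set G))) (ω : Pairs P0) :
    (n • ω).1.2 = (n : G) * ω.1.2 * (n : G)⁻¹ := rfl

theorem orderOf_five_of_pow {x : G} (h5 : x ^ 5 = 1) (h1 : x ≠ 1) : orderOf x = 5 :=
  (orderOf_eq_five_iff x).2 ⟨h5, h1⟩

open Classical in
theorem card_pairs [Finite G] (P0 : Subgroup G) (hP0 : Nat.card P0 = 25)
    (hexp : ∀ p ∈ P0, p ^ 5 = 1) : Nat.card (Pairs P0) = 480 := by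
  have := Fintype.ofFinite G
  set P0f : Finset G := Finset.univ.filter (fun x => x ∈ P0) with hP0f
  have hP0fc : P0f.card = 25 := by
    rw [← hP0, Nat.card_eq_fintype_card, Fintype.card_subtype]
  have memP0f : ∀ x, x ∈ P0f ↔ x ∈ P0 := by intro x; simp [hP0f]
  set Ωf : Finset (G × G) := (P0f ×ˢ P0f).filter
    (fun ω => ω.1 ≠ 1 ∧ ω.2 ∉ Subgroup.zpowers ω.1) with hΩf
  have h1 : Nat.card (Pairs P0) = Ωf.card := by
    unfold Pairs
    rw [Nat.card_eq_fintype_card, Fintype.card_subtype]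
    congr 1
    ext ω
    simp only [Finset.mem_filter, Finset.mem_univ, true_and, hΩf, Finset.mem_product, memP0f]
    tauto
  rw [h1]
  have hmaps : (Ωf : Set (G × G)).MapsTo Prod.fst (P0f.erase 1) := by
    intro ω hω
    rw [Finset.mem_coe, hΩf, Finset.mem_filter, Finset.mem_product] at hω
    rw [Finset.mem_coe, Finset.mem_erase]
    exact ⟨hω.2.1, hω.1.1⟩
  have hfib : ∀ x ∈ P0f.erase 1, (Ωf.filter (fun ω => ω.1 = x)).card = 20 := by
    intro x hx
    rw [Finset.mem_erase, memP0f] at hx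
    have hx5 : orderOf x = 5 := orderOf_five_of_pow (hexp x hx.2) hx.1
    -- the fibre is in bijection with P0f \ zpowers x
    have hbij : (Ωf.filter (fun ω => ω.1 = x)).card =
        (P0f.filter (fun y => y ∉ Subgroup.zpowers x)).card := by
      refine Finset.card_nbij' (fun ω => ω.2) (fun y => (x, y)) ?_ ?_ ?_ ?_
      · intro ω hω
        rw [Finset.mem_coe, Finset.mem_filter, hΩf, Finset.mem_filter, Finset.mem_product] at hω
        rw [Finset.mem_coe, Finset.mem_filter]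
        obtain ⟨⟨⟨_, h2⟩, _, h4⟩, h5⟩ := hω
        rw [h5] at h4
        exact ⟨h2, h4⟩
      · intro y hy
        rw [Finset.mem_coe, Finset.mem_filter] at hy
        rw [Finset.mem_coe, Finset.mem_filter, hΩf, Finset.mem_filter, Finset.mem_product]
        exact ⟨⟨⟨(memP0f x).2 hx.2, hy.1⟩, hx.1, hy.2⟩, rfl⟩
      · intro ω hω
        rw [Finset.mem_coe, Finset.mem_filter] at hω
        exact Prod.ext hω.2.symm rfl
      · intro y _
        rfl
    rw [hbij]
    have hsplit := Finset.card_filter_add_card_filter_not (s := P0f)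
      (fun y => y ∈ Subgroup.zpowers x)
    have hz : (P0f.filter (fun y => y ∈ Subgroup.zpowers x)).card = 5 := by
      have h2 : Nat.card (Subgroup.zpowers x) = 5 := by rw [Nat.card_zpowers, hx5]
      rw [← h2, Nat.card_eq_fintype_card, Fintype.card_subtype]
      congr 1
      ext y
      simp only [Finset.mem_filter, Finset.mem_univ, true_and, memP0f]
      constructor
      · intro h; exact h.2
      · intro h
        refine ⟨?_, h⟩
        have : Subgroup.zpowers x ≤ P0 := (Subgroup.zpowers_le).2 hx.2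
        exact this h
    rw [hz, hP0fc] at hsplit
    omega
  rw [Finset.card_eq_sum_card_fiberwise hmaps, Finset.sum_congr rfl hfib, Finset.sum_const,
    smul_eq_mul]
  have h1mem : (1 : G) ∈ P0f := (memP0f 1).2 P0.one_mem
  rw [Finset.card_erase_of_mem h1mem, hP0fc]

theorem card_stabilizer_pairs [Finite G] (P0 : Subgroup G) (hP0 : Nat.card P0 = 25)
    (hexp : ∀ p ∈ P0, p ^ 5 = 1)
    (hcent : ∀ x : G, (∀ p ∈ P0, x * p = p * x) → x ∈ P0) (ω : Pairs P0) :
    Nat.card (MulAction.stabilizer ↥(Subgroup.normalizer (P0 : Set G)) ω) = 25 := by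
  have hab : ∀ x ∈ P0, ∀ y ∈ P0, x * y = y * x := fun x hx y hy => comm_of_card25 P0 hP0 hx hy
  have hstab : MulAction.stabilizer ↥(Subgroup.normalizer (P0 : Set G)) ω =
      P0.subgroupOf (Subgroup.normalizer (P0 : Set G)) := by
    ext n
    rw [MulAction.mem_stabilizer_iff, Subgroup.mem_subgroupOf]
    constructor
    · intro h
      have h1 : (n : G) * ω.1.1 * (n : G)⁻¹ = ω.1.1 := by
        rw [← smul_pairs_fst, h]
      have h2 : (n : G) * ω.1.2 * (n : G)⁻¹ = ω.1.2 := by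
        rw [← smul_pairs_snd, h]
      -- M = elements of P0 commuting with n
      set M : Subgroup G := P0 ⊓ Subgroup.centralizer {(n : G)} with hM
      have memM : ∀ p, p ∈ M ↔ (p ∈ P0 ∧ p * (n : G) = (n : G) * p) := by
        intro p
        rw [hM, Subgroup.mem_inf, Subgroup.mem_centralizer_singleton_iff]
      have hω1M : ω.1.1 ∈ M := by
        rw [memM]
        refine ⟨ω.2.1, ?_⟩
        calc ω.1.1 * (n : G) = ((n : G) * ω.1.1 * (n : G)⁻¹) * (n : G) := by rw [h1]
          _ = (n : G) * ω.1.1 := by group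
      have hω2M : ω.1.2 ∈ M := by
        rw [memM]
        refine ⟨ω.2.2.1, ?_⟩
        calc ω.1.2 * (n : G) = ((n : G) * ω.1.2 * (n : G)⁻¹) * (n : G) := by rw [h2]
          _ = (n : G) * ω.1.2 := by group
      have hx5 : orderOf ω.1.1 = 5 := orderOf_five_of_pow (hexp _ ω.2.1) ω.2.2.2.1
      have hzM : Subgroup.zpowers ω.1.1 ≤ M := (Subgroup.zpowers_le).2 hω1M
      have hzc : Nat.card (Subgroup.zpowers ω.1.1) = 5 := by rw [Nat.card_zpowers, hx5]
      have hMP : M ≤ P0 := inf_le_left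
      have hMd : Nat.card M ∣ 25 := by rw [← hP0]; exact Subgroup.card_dvd_of_le hMP
      have h5M : 5 ∣ Nat.card M := by rw [← hzc]; exact Subgroup.card_dvd_of_le hzM
      have hM5 : Nat.card M ≠ 5 := by
        intro h5
        have : Subgroup.zpowers ω.1.1 = M := Subgroup.eq_of_le_of_card_ge hzM (by rw [h5, hzc])
        exact ω.2.2.2.2 (this ▸ hω2M)
      have hM25 : Nat.card M = 25 := by
        have hle : Nat.card M ≤ 25 := Nat.le_of_dvd (by norm_num) hMd
        have hpos : 0 < Nat.card M := Nat.card_pos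
        obtain ⟨k, hk⟩ := h5M
        rw [hk] at hMd hM5 hle hpos ⊢
        have hk5 : k ≤ 5 := by omega
        interval_cases k <;> omega
      have hMeq : M = P0 := Subgroup.eq_of_le_of_card_ge hMP (by rw [hM25, hP0])
      apply hcent
      intro p hp
      have : p ∈ M := by rw [hMeq]; exact hp
      rw [memM] at this
      exact this.2.symm
    · intro hn
      apply Subtype.ext
      apply Prod.ext
      · rw [smul_pairs_fst, hab _ hn _ ω.2.1]; group
      · rw [smul_pairs_snd, hab _ hn _ ω.2.2.1]; group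
  rw [hstab, Nat.card_congr (Subgroup.subgroupOfEquivOfLe Subgroup.le_normalizer).toEquiv, hP0]

theorem index_dvd_480 [Finite G] (P0 : Subgroup G) (hP0 : Nat.card P0 = 25)
    (hexp : ∀ p ∈ P0, p ^ 5 = 1)
    (hcent : ∀ x : G, (∀ p ∈ P0, x * p = p * x) → x ∈ P0) :
    Nat.card (Subgroup.normalizer (P0 : Set G)) ∣ 25 * 480 := by
  have hfin : Finite (Pairs P0) := by
    unfold Pairs
    infer_instance
  have h1 := div_card_dvd_of_stab (α := ↥(Subgroup.normalizer (P0 : Set G))) (β := Pairs P0) 25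
    (card_stabilizer_pairs P0 hP0 hexp hcent)
  rw [card_pairs P0 hP0 hexp] at h1
  have h25 : 25 ∣ Nat.card (Subgroup.normalizer (P0 : Set G)) := by
    rw [← hP0]; exact Subgroup.card_dvd_of_le Subgroup.le_normalizer
  obtain ⟨k, hk⟩ := h25
  rw [hk] at h1 ⊢
  rw [Nat.mul_div_cancel_left _ (by norm_num : 0 < 25)] at h1
  exact Nat.mul_dvd_mul_left 25 h1

end Cfsg.Agent.Lib.Helper5.J2S5
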