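import Mathlib
import Cfsg.Agent.Lib.Helper5.J2S5d
import Cfsg.Agent.Lib.Helper1.Fusion
import Cfsg.Agent.Lib.Helper2.J2G3
import Cfsg.Agent.Lib.Helper5.J2S5g2
import Cfsg.Agent.Lib.Helper5.J2S5g1

/-!
# S1722 (type J2, Sylow 5-subgroups): the theorem from the exported facts
-/

set_option autoImplicit false

namespace Cfsg.Agent.Lib.Helper5.J2S5

open scoped Pointwise

variable {G : Type*} [Group G] {z t : G} {V0 R1 D : Subgroup G}

/-- commuting subgroups with trivial intersection -/
theorem card_sup_comm (A B : Subgroup G) (hc : ∀ a ∈ A, ∀ b ∈ B, a * b = b * a) (hd : A ⊓ B = ⊥) :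
    Nat.card ↥(A ⊔ B) = Nat.card A * Nat.card B := by
  rw [← Nat.card_prod]
  symm
  refine Nat.card_congr (Equiv.ofBijective
    (fun p : A × B => (⟨(p.1 : G) * (p.2 : G),
      Subgroup.mul_mem _ (Subgroup.mem_sup_left p.1.2) (Subgroup.mem_sup_right p.2.2)⟩ : ↥(A ⊔ B)))
    ⟨?_, ?_⟩)
  · rintro ⟨a, b⟩ ⟨a', b'⟩ h
    have h1 : (a : G) * (b : G) = (a' : G) * (b' : G) := congrArg Subtype.val h
    have h2 : (a' : G)⁻¹ * (a : G) = (b' : G) * (b : G)⁻¹ := by
      calc (a' : G)⁻¹ * (a : G) = (a' : G)⁻¹ * ((a : G) * (b : G)) * (b : G)⁻¹ := by group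
        _ = (a' : G)⁻¹ * ((a' : G) * (b' : G)) * (b : G)⁻¹ := by rw [h1]
        _ = (b' : G) * (b : G)⁻¹ := by group
    have h3 : (a' : G)⁻¹ * (a : G) ∈ A ⊓ B :=
      ⟨A.mul_mem (A.inv_mem a'.2) a.2, by rw [h2]; exact B.mul_mem b'.2 (B.inv_mem b.2)⟩
    rw [hd, Subgroup.mem_bot] at h3
    have ha : (a : G) = (a' : G) := by
      calc (a : G) = (a' : G) * ((a' : G)⁻¹ * (a : G)) := by group
        _ = (a' : G) := by rw [h3, mul_one]
    have hb : (b : G) = (b' : G) := by
      rw [ha] at h1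
      exact mul_left_cancel h1
    exact Prod.ext (Subtype.ext ha) (Subtype.ext hb)
  · rintro ⟨x, hx⟩
    obtain ⟨a, ha, b, hb, rfl⟩ := mem_sup_comm A B hc x hx
    exact ⟨(⟨a, ha⟩, ⟨b, hb⟩), rfl⟩

theorem card_zpowers_two {s : G} (hs : s * s = 1) (hs1 : s ≠ 1) :
    Nat.card (Subgroup.zpowers s) = 2 := by
  rw [Nat.card_zpowers]
  exact (orderOf_eq_two_iff' s).2 ⟨hs, hs1⟩

theorem mem_zpowers_two {s x : G} (hs : s * s = 1) (hx : x ∈ Subgroup.zpowers s) :
    x = 1 ∨ x = s := by
  obtain ⟨k, rfl⟩ := Subgroup.mem_zpowers_iff.1 hx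
  have h2 : s ^ (2 : ℤ) = 1 := by
    rw [zpow_two]; exact hs
  rcases Int.even_or_odd' k with ⟨j, hj | hj⟩
  · left
    rw [hj, zpow_mul, h2, one_zpow]
  · right
    rw [hj, zpow_add, zpow_mul, h2, one_zpow, one_mul, zpow_one]

/-- arithmetic: the order of the normalizer -/
theorem arith300 (n : ℕ) (h1 : n ∣ 25 * 480) (h2 : n ∣ 604800) (h3 : 25 ∣ n) (h4 : 4 ∣ n)
    (h5 : (604800 / n) % 5 = 1) (h6 : ¬ 32 ∣ n) : n = 300 := by
  obtain ⟨m, rfl⟩ := h3
  have hm1 : m ∣ 480 := Nat.dvd_of_mul_dvd_mul_left (by norm_num) h1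
  have hm2 : m ∣ 24192 := by
    have : (604800 : ℕ) = 25 * 24192 := by norm_num
    rw [this] at h2
    exact Nat.dvd_of_mul_dvd_mul_left (by norm_num) h2
  have hm3 : m ∣ 96 := by
    have := Nat.dvd_gcd hm1 hm2
    simpa using this
  have hm4 : 4 ∣ m := by
    have : Nat.Coprime 4 25 := by norm_num
    exact this.dvd_of_dvd_mul_left h4
  have hm6 : ¬ 32 ∣ m := fun h => h6 (Dvd.dvd.mul_left h 25)
  have hmle : m ≤ 96 := Nat.le_of_dvd (by norm_num) hm3
  have hmpos : 0 < m := Nat.pos_of_dvd_of_pos hm3 (by norm_num)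
  interval_cases m <;> first | rfl | omega

theorem main [Finite G] (E : Exports G z t V0 R1 D) (P : Sylow 5 G) :
    Subgroup.centralizer ((P : Subgroup G) : Set G) = P ∧ Nat.card (P : Subgroup G) = 25 ∧
    Nat.card (Subgroup.normalizer ((P : Subgroup G) : Set G)) = 300 ∧
    ∃ X Y : Subgroup G, Nat.card X = 5 ∧ Nat.card Y = 5 ∧
      (∀ g : G, X.map (MulAut.conj g).toMonoidHom ≠ Y) ∧
      ∀ W : Subgroup G, Nat.card W = 5 →
        ∃ g : G, W.map (MulAut.conj g).toMonoidHom = X ∨ W.map (MulAut.conj g).toMonoidHom = Y := by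
  classical
  have hp5 : Fact (Nat.Prime 5) := ⟨by norm_num⟩
  have hp2 : Fact (Nat.Prime 2) := ⟨by norm_num⟩
  obtain ⟨a, b, s1, s2, ha, hb, hab, hd, hcent0, hs1, hs1a, hs1b, hs2, hs2a, hs2b, hs12⟩ :=
    P0_exists E
  set P0 : Subgroup G := Subgroup.zpowers a ⊔ Subgroup.zpowers b with hP0
  have hcomm : ∀ x ∈ Subgroup.zpowers a, ∀ y ∈ Subgroup.zpowers b, x * y = y * x := by
    intro x hx y hy
    obtain ⟨i, rfl⟩ := Subgroup.mem_zpowers_iff.1 hx
    obtain ⟨j, rfl⟩ := Subgroup.mem_zpowers_iff.1 hy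
    exact ((Commute.zpow_zpow (show Commute a b from hab) i j)).eq
  have hP0card : Nat.card P0 = 25 := by
    rw [hP0, card_sup_comm _ _ hcomm hd, Nat.card_zpowers, Nat.card_zpowers, ha, hb]
  have haP0 : a ∈ P0 := Subgroup.mem_sup_left (Subgroup.mem_zpowers a)
  have hbP0 : b ∈ P0 := Subgroup.mem_sup_right (Subgroup.mem_zpowers b)
  have hcent : ∀ x : G, (∀ p ∈ P0, x * p = p * x) → x ∈ P0 :=
    fun x hx => hcent0 x (hx a haP0) (hx b hbP0)
  have hexp : ∀ p ∈ P0, p ^ 5 = 1 := by
    intro p hp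
    obtain ⟨x, hx, y, hy, rfl⟩ := mem_sup_comm _ _ hcomm p hp
    rw [Commute.mul_pow (hcomm x hx y hy) 5]
    have h1 : x ^ 5 = 1 := by
      have : orderOf x ∣ 5 := by rw [← ha]; exact orderOf_dvd_of_mem_zpowers hx
      exact orderOf_dvd_iff_pow_eq_one.1 this
    have h2 : y ^ 5 = 1 := by
      have : orderOf y ∣ 5 := by rw [← hb]; exact orderOf_dvd_of_mem_zpowers hy
      exact orderOf_dvd_iff_pow_eq_one.1 this
    rw [h1, h2, one_mul]
  -- P0 is a Sylow 5-subgroup
  have hfac : (Nat.card G).factorization 5 = 2 := by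
    rw [E.card]
    have h1 : (604800 : ℕ) = 25 * 24192 := by norm_num
    rw [h1, Nat.factorization_mul (by norm_num) (by norm_num)]
    have h25 : (25 : ℕ).factorization 5 = 2 := by
      have : (25 : ℕ) = 5 ^ 2 := by norm_num
      rw [this, Nat.Prime.factorization_pow hp5.out]
      simp
    have h2 : (24192 : ℕ).factorization 5 = 0 :=
      Nat.factorization_eq_zero_of_not_dvd (by norm_num)
    simp [h25, h2]
  set P0S : Sylow 5 G := Sylow.ofCard P0 (by rw [hP0card, hfac]; norm_num) with hP0S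
  have hP0Sc : (P0S : Subgroup G) = P0 := Sylow.coe_ofCard _ _
  -- the normalizer
  set N : Subgroup G := Subgroup.normalizer (P0 : Set G) with hN
  have hs1ne : s1 ≠ 1 := by
    rintro rfl
    have h1 : a = a⁻¹ := by simpa using hs1a
    have h2 : a * a = 1 := by
      calc a * a = a * a⁻¹ := by rw [← h1]
        _ = 1 := mul_inv_cancel a
    have h3 : orderOf a ∣ 2 := orderOf_dvd_of_pow_eq_one (by rw [pow_two]; exact h2)
    rw [ha] at h3
    omega
  have hs2ne : s2 ≠ 1 := by
    rintro rfl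
    have h1 : b = b⁻¹ := by simpa using hs2b
    have h2 : b * b = 1 := by
      calc b * b = b * b⁻¹ := by rw [← h1]
        _ = 1 := mul_inv_cancel b
    have h3 : orderOf b ∣ 2 := orderOf_dvd_of_pow_eq_one (by rw [pow_two]; exact h2)
    rw [hb] at h3
    omega
  have hs12ne : s1 ≠ s2 := by
    intro h
    have h1 : a⁻¹ = a := by
      rw [← hs1a, h, hs2a]; group
    have h2 : a * a = 1 := by
      calc a * a = a * a⁻¹ := by rw [h1]
        _ = 1 := mul_inv_cancel a
    have h3 : orderOf a ∣ 2 := orderOf_dvd_of_pow_eq_one (by rw [pow_two]; exact h2)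
    rw [ha] at h3
    omega
  have hs1N : s1 ∈ N := by
    rw [hN, Subgroup.mem_normalizer_iff_map_conj_eq, hP0, Subgroup.map_sup, MonoidHom.map_zpowers,
      MonoidHom.map_zpowers]
    have e1 : (MulAut.conj s1 : G →* G) a = a⁻¹ := by
      simpa [MulAut.conj_apply] using hs1a
    have e2 : (MulAut.conj s1 : G →* G) b = b := by
      simp only [MonoidHom.coe_coe, MulAut.conj_apply]
      rw [hs1b]; group
    rw [e1, e2, Subgroup.zpowers_inv]
  have hs2N : s2 ∈ N := by
    rw [hN, Subgroup.mem_normalizer_iff_map_conj_eq, hP0, Subgroup.map_sup, MonoidHom.map_zpowers,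
      MonoidHom.map_zpowers]
    have e1 : (MulAut.conj s2 : G →* G) b = b⁻¹ := by
      simpa [MulAut.conj_apply] using hs2b
    have e2 : (MulAut.conj s2 : G →* G) a = a := by
      simp only [MonoidHom.coe_coe, MulAut.conj_apply]
      rw [hs2a]; group
    rw [e1, e2, Subgroup.zpowers_inv]
  have h4N : 4 ∣ Nat.card N := by
    set K : Subgroup G := Subgroup.zpowers s1 ⊔ Subgroup.zpowers s2 with hK
    have hKc : ∀ x ∈ Subgroup.zpowers s1, ∀ y ∈ Subgroup.zpowers s2, x * y = y * x := by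
      intro x hx y hy
      obtain ⟨i, rfl⟩ := Subgroup.mem_zpowers_iff.1 hx
      obtain ⟨j, rfl⟩ := Subgroup.mem_zpowers_iff.1 hy
      exact ((Commute.zpow_zpow (show Commute s1 s2 from hs12) i j)).eq
    have hKd : Subgroup.zpowers s1 ⊓ Subgroup.zpowers s2 = ⊥ := by
      rw [eq_bot_iff]
      rintro x ⟨hx1, hx2⟩
      rw [Subgroup.mem_bot]
      rcases mem_zpowers_two hs1 hx1 with h | h
      · exact h
      · rcases mem_zpowers_two hs2 hx2 with h' | h'
        · exact h'
        · exact absurd (h.symm.trans h') hs12ne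
    have hKcard : Nat.card K = 4 := by
      rw [hK, card_sup_comm _ _ hKc hKd, card_zpowers_two hs1 hs1ne, card_zpowers_two hs2 hs2ne]
    have hKN : K ≤ N := by
      rw [hK]
      exact sup_le ((Subgroup.zpowers_le).2 hs1N) ((Subgroup.zpowers_le).2 hs2N)
    rw [← hKcard]
    exact Subgroup.card_dvd_of_le hKN
  have h25N : 25 ∣ Nat.card N := by
    rw [← hP0card]
    exact Subgroup.card_dvd_of_le Subgroup.le_normalizer
  have hNdvd : Nat.card N ∣ 604800 := by
    rw [← E.card]; exact Subgroup.card_subgroup_dvd_card N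
  have hN480 : Nat.card N ∣ 25 * 480 := index_dvd_480 P0 hP0card hexp hcent
  have hNidx : (604800 / Nat.card N) % 5 = 1 := by
    have h1 : Nat.card (Sylow 5 G) = N.index := Sylow.card_eq_index_normalizer P0S
    have h2 : Nat.card (Sylow 5 G) ≡ 1 [MOD 5] := card_sylow_modEq_one 5 G
    have h3 : Nat.card N * N.index = 604800 := by rw [← E.card]; exact Subgroup.card_mul_index N
    have h4 : N.index = 604800 / Nat.card N := by
      rw [← h3, Nat.mul_div_cancel_left _ Nat.card_pos]
    rw [← h4, ← h1]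
    exact h2
  have hN32 : ¬ 32 ∣ Nat.card N := by
    intro h32
    have h32' : 2 ^ 5 ∣ Nat.card ↥N := by simpa using h32
    obtain ⟨S', hS'⟩ := Sylow.exists_subgroup_card_pow_prime 2 h32'
    refine no_sub32 E P0 hP0card hexp hcent (S'.map N.subtype) ?_ (Subgroup.map_subtype_le _)
    rw [Subgroup.card_map_of_injective N.subtype_injective, hS']
    norm_num
  have hN300 : Nat.card N = 300 := arith300 _ hN480 hNdvd h25N h4N hNidx hN32
  -- the two classes
  obtain ⟨horb1, horb2⟩ := Cfsg.Agent.Lib.Helper2.J2G3.two_orbits P0 a b s1 s2 ha hb hab hd hP0 hcent hN300 hs1 hs1a hs1b hs2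
    hs2a hs2b hs12
  have hP0ab : ∀ x ∈ P0, ∀ y ∈ P0, x * y = y * x := fun x hx y hy =>
    comm_of_card25 P0 hP0card hx hy
  -- conjugation of P
  obtain ⟨g, hg⟩ := MulAction.exists_smul_eq G P0S P
  have hPmap : (P : Subgroup G) = P0.map (MulAut.conj g).toMonoidHom := by
    rw [← hg]
    have h2 : ((g • P0S : Sylow 5 G) : Subgroup G) = MulAut.conj g • (P0S : Subgroup G) :=
      Sylow.coe_subgroup_smul
    rw [h2, hP0Sc]
    rfl
  have hPcard : Nat.card (P : Subgroup G) = 25 := sylow5_card E.card P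
  refine ⟨?_, hPcard, ?_, Subgroup.zpowers a, Subgroup.zpowers b, ?_, ?_, ?_, ?_⟩
  · -- centralizer
    apply le_antisymm
    · intro x hx
      rw [Subgroup.mem_centralizer_iff] at hx
      rw [hPmap, Subgroup.mem_map]
      refine ⟨g⁻¹ * x * g, ?_, ?_⟩
      · apply hcent
        intro p hp
        have hp' : g * p * g⁻¹ ∈ (P : Subgroup G) := by
          rw [hPmap]
          exact ⟨p, hp, by simp [MulAut.conj_apply]⟩
        have h1 := hx _ hp'
        calc g⁻¹ * x * g * p = g⁻¹ * (x * (g * p * g⁻¹)) * g := by group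
          _ = g⁻¹ * ((g * p * g⁻¹) * x) * g := by rw [h1]
          _ = p * (g⁻¹ * x * g) := by group
      · simp [MulAut.conj_apply]
        group
    · intro x hx
      rw [Subgroup.mem_centralizer_iff]
      intro y hy
      exact comm_of_card25 _ hPcard hy hx
  · -- normalizer
    have h1 : Nat.card (Sylow 5 G) =
        (Subgroup.normalizer ((P : Subgroup G) : Set G)).index := Sylow.card_eq_index_normalizer P
    have h2 : Nat.card (Sylow 5 G) = N.index := Sylow.card_eq_index_normalizer P0S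
    have h3 := Subgroup.card_mul_index (Subgroup.normalizer ((P : Subgroup G) : Set G))
    have h4 := Subgroup.card_mul_index N
    rw [← h1] at h3
    rw [← h2, hN300] at h4
    have hpos : 0 < Nat.card (Sylow 5 G) := Nat.card_pos
    rw [← h4] at h3
    exact Nat.eq_of_mul_eq_mul_right hpos h3
  · rw [Nat.card_zpowers, ha]
  · rw [Nat.card_zpowers, hb]
  · -- not conjugate
    intro c hc
    have hX : ∀ x ∈ P0S, MulAut.conj x • ((Subgroup.zpowers a : Subgroup G) : Set G) =
        ((Subgroup.zpowers a : Subgroup G) : Set G) := by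
      intro x hx
      have hx' : x ∈ P0 := by rw [← hP0Sc]; exact hx
      rw [← Cfsg.Agent.Lib.Helper1.conj_image_eq_smul]
      ext y
      constructor
      · rintro ⟨w, hw, rfl⟩
        have hwP : w ∈ P0 := Subgroup.mem_sup_left hw
        have : x * w * x⁻¹ = w := by rw [hP0ab x hx' w hwP]; group
        show x * w * x⁻¹ ∈ _
        rw [this]; exact hw
      · intro hy
        have hyP : y ∈ P0 := Subgroup.mem_sup_left hy
        refine ⟨y, hy, ?_⟩
        show x * y * x⁻¹ = y
        rw [hP0ab x hx' y hyP]; group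
    have hY : ∀ x ∈ P0S, MulAut.conj x • ((Subgroup.zpowers b : Subgroup G) : Set G) =
        ((Subgroup.zpowers b : Subgroup G) : Set G) := by
      intro x hx
      have hx' : x ∈ P0 := by rw [← hP0Sc]; exact hx
      rw [← Cfsg.Agent.Lib.Helper1.conj_image_eq_smul]
      ext y
      constructor
      · rintro ⟨w, hw, rfl⟩
        have hwP : w ∈ P0 := Subgroup.mem_sup_right hw
        have : x * w * x⁻¹ = w := by rw [hP0ab x hx' w hwP]; group
        show x * w * x⁻¹ ∈ _
        rw [this]; exact hw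
      · intro hy
        have hyP : y ∈ P0 := Subgroup.mem_sup_right hy
        refine ⟨y, hy, ?_⟩
        show x * y * x⁻¹ = y
        rw [hP0ab x hx' y hyP]; group
    have hcset : MulAut.conj c • ((Subgroup.zpowers a : Subgroup G) : Set G) =
        ((Subgroup.zpowers b : Subgroup G) : Set G) := by
      rw [← hc, ← Cfsg.Agent.Lib.Helper1.conj_image_eq_smul, Subgroup.coe_map]
      rfl
    obtain ⟨n, hn, hnset⟩ := Cfsg.Agent.Lib.Helper1.burnside_fusion_sets P0S _ _ hX hY c hcset
    have hn' : n ∈ N := hn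
    apply horb1 n hn'
    apply SetLike.coe_injective
    rw [← hnset, ← Cfsg.Agent.Lib.Helper1.conj_image_eq_smul, Subgroup.coe_map]
    rfl
  · -- every subgroup of order 5
    intro W hW
    have hpg : IsPGroup 5 W := IsPGroup.of_card (n := 1) (by rw [hW]; norm_num)
    obtain ⟨Q, hQ⟩ := hpg.exists_le_sylow
    obtain ⟨c, hc⟩ := MulAction.exists_smul_eq G Q P0S
    -- c • Q = P0S, so c W c⁻¹ ≤ P0
    have hQmap : P0 = (Q : Subgroup G).map (MulAut.conj c).toMonoidHom := by
      rw [← hP0Sc, ← hc]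
      have h2 : ((c • Q : Sylow 5 G) : Subgroup G) = MulAut.conj c • (Q : Subgroup G) :=
        Sylow.coe_subgroup_smul
      rw [h2]
      rfl
    have hWP0 : W.map (MulAut.conj c).toMonoidHom ≤ P0 := by
      rw [hQmap]
      exact Subgroup.map_mono hQ
    have hWc : Nat.card (W.map (MulAut.conj c).toMonoidHom) = 5 := by
      rw [Subgroup.card_map_of_injective (MulAut.conj c).injective, hW]
    obtain ⟨n, _, hn⟩ := horb2 _ hWP0 hWc
    refine ⟨n * c, ?_⟩
    have hcomp : ∀ H : Subgroup G, (H.map (MulAut.conj c).toMonoidHom).map (MulAut.conj n).toMonoidHom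
        = H.map (MulAut.conj (n * c)).toMonoidHom := by
      intro H
      rw [Subgroup.map_map]
      congr 1
      ext y
      simp only [MonoidHom.coe_comp, MulEquiv.coe_toMonoidHom, Function.comp_apply,
        MulAut.conj_apply]
      group
    rw [← hcomp]
    exact hn

end Cfsg.Agent.Lib.Helper5.J2S5
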