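import Mathlib
import Cfsg.Agent.Lib.Helper7.J2D8b

/-!
# S1724 piece W2: the centralizer of an element of order 3 of `d`-type has order 1080
-/

set_option autoImplicit false

namespace Cfsg.Agent.Lib.Helper5.J2W2

variable {G : Type*} [Group G]

/-- centralizers inside a subgroup -/
theorem card_centralizer_sub (H : Subgroup G) (x : ↥H) :
    Nat.card ↥(Subgroup.centralizer ({x} : Set ↥H)) =
      Nat.card ↥(Subgroup.centralizer ({(x : G)} : Set G) ⊓ H) := by
  have h1 : (Subgroup.centralizer ({x} : Set ↥H)) =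
      (Subgroup.centralizer ({(x : G)} : Set G) ⊓ H).subgroupOf H := by
    ext y
    rw [Subgroup.mem_subgroupOf, Subgroup.mem_inf, Subgroup.mem_centralizer_singleton_iff,
      Subgroup.mem_centralizer_singleton_iff]
    constructor
    · intro h
      exact ⟨by simpa only [Subgroup.coe_mul] using congrArg Subtype.val h, y.2⟩
    · intro h
      exact Subtype.ext (by simpa only [Subgroup.coe_mul] using h.1)
  rw [h1]
  exact Nat.card_congr (Subgroup.subgroupOfEquivOfLe inf_le_right).toEquiv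

/-- conjugating a double centralizer -/
theorem card_cent2_conj (g s d : G) :
    Nat.card ↥(Subgroup.centralizer ({g * s * g⁻¹} : Set G) ⊓
      Subgroup.centralizer ({g * d * g⁻¹} : Set G)) =
    Nat.card ↥(Subgroup.centralizer ({s} : Set G) ⊓ Subgroup.centralizer ({d} : Set G)) := by
  have key : ∀ (c x y : G), y * x = x * y → (c * y * c⁻¹) * (c * x * c⁻¹) =
      (c * x * c⁻¹) * (c * y * c⁻¹) := by
    intro c x y h
    calc (c * y * c⁻¹) * (c * x * c⁻¹) = c * (y * x) * c⁻¹ := by group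
      _ = c * (x * y) * c⁻¹ := by rw [h]
      _ = (c * x * c⁻¹) * (c * y * c⁻¹) := by group
  symm
  refine Nat.card_congr
    { toFun := fun y => ⟨g * (y : G) * g⁻¹, ?_⟩
      invFun := fun y => ⟨g⁻¹ * (y : G) * g, ?_⟩
      left_inv := ?_
      right_inv := ?_ }
  · have hy := y.2
    rw [Subgroup.mem_inf, Subgroup.mem_centralizer_singleton_iff,
      Subgroup.mem_centralizer_singleton_iff] at hy ⊢
    exact ⟨key g s y hy.1, key g d y hy.2⟩
  · have hy := y.2
    rw [Subgroup.mem_inf, Subgroup.mem_centralizer_singleton_iff,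
      Subgroup.mem_centralizer_singleton_iff] at hy ⊢
    have h1 := key g⁻¹ _ _ hy.1
    have h2 := key g⁻¹ _ _ hy.2
    have e1 : g⁻¹ * (g * s * g⁻¹) * g⁻¹⁻¹ = s := by group
    have e2 : g⁻¹ * (g * d * g⁻¹) * g⁻¹⁻¹ = d := by group
    have e3 : g⁻¹ * (y : G) * g⁻¹⁻¹ = g⁻¹ * (y : G) * g := by group
    rw [e1, e3] at h1
    rw [e2, e3] at h2
    exact ⟨h1, h2⟩
  · intro y
    apply Subtype.ext
    show g⁻¹ * (g * (y : G) * g⁻¹) * g = (y : G)
    group
  · intro y
    apply Subtype.ext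
    show g * (g⁻¹ * (y : G) * g) * g⁻¹ = (y : G)
    group

theorem card_cent_dtype [Finite G] (z : G) (hz : orderOf z = 2)
    (h24 : ∀ d : G, d * z = z * d → orderOf d = 3 →
      Nat.card ↥(Subgroup.centralizer ({z} : Set G) ⊓ Subgroup.centralizer ({d} : Set G)) = 24 ∧
      ∃ a b : G, a * a = 1 ∧ b * b = 1 ∧ a * d = d * a ∧ b * d = d * b ∧ a * z = z * a ∧
        b * z = z * b ∧ a * b ≠ b * a)
    (hinv : ∀ d : G, d * z = z * d → orderOf d = 3 → ∀ s : G, orderOf s = 2 → s * d = d * s →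
      IsConj s z)
    (d : G) (hdz : d * z = z * d) (hd3 : orderOf d = 3)
    (h27 : 27 ∣ Nat.card (Subgroup.centralizer ({d} : Set G))) :
    Nat.card (Subgroup.centralizer ({d} : Set G)) = 1080 := by
  obtain ⟨h24d, a, b, ha, hb, had, hbd, haz, hbz, hab⟩ := h24 d hdz hd3
  set X : Subgroup G := Subgroup.centralizer ({d} : Set G) with hX
  have memX : ∀ x, x ∈ X ↔ x * d = d * x := fun x => Subgroup.mem_centralizer_singleton_iff
  have hdX : d ∈ X := (memX d).2 rfl
  have hzX : z ∈ X := (memX z).2 hdz.symm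
  have haX : a ∈ X := (memX a).2 had
  have hbX : b ∈ X := (memX b).2 hbd
  have hcentX : ∀ s : ↥X, Nat.card ↥(Subgroup.centralizer ({s} : Set ↥X)) =
      Nat.card ↥(Subgroup.centralizer ({(s : G)} : Set G) ⊓ Subgroup.centralizer ({d} : Set G)) :=
    fun s => card_centralizer_sub X s
  apply Cfsg.Agent.Lib.Helper7.J2D8.card_of_central_three (X := ↥X) ⟨d, hdX⟩ ⟨z, hzX⟩ ⟨a, haX⟩
    ⟨b, hbX⟩
  · rw [← Subgroup.orderOf_coe]; exact hd3
  · intro x
    exact Subtype.ext ((memX x).1 x.2)
  · rw [← Subgroup.orderOf_coe]; exact hz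
  · rw [hcentX]; exact h24d
  · exact Subtype.ext ha
  · exact Subtype.ext hb
  · exact Subtype.ext haz
  · exact Subtype.ext hbz
  · intro h
    exact hab (congrArg Subtype.val h)
  · intro s hs
    have hs2 : orderOf (s : G) = 2 := by rw [Subgroup.orderOf_coe]; exact hs
    have hsd : (s : G) * d = d * (s : G) := (memX s).1 s.2
    obtain ⟨g, hg⟩ := isConj_iff.1 (hinv d hdz hd3 (s : G) hs2 hsd)
    rw [hcentX]
    have hd'z : (g * d * g⁻¹) * z = z * (g * d * g⁻¹) := by
      rw [← hg]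
      calc g * d * g⁻¹ * (g * (s : G) * g⁻¹) = g * (d * (s : G)) * g⁻¹ := by group
        _ = g * ((s : G) * d) * g⁻¹ := by rw [hsd]
        _ = g * (s : G) * g⁻¹ * (g * d * g⁻¹) := by group
    have hd'3 : orderOf (g * d * g⁻¹) = 3 := by
      have := MulEquiv.orderOf_eq (MulAut.conj g) d
      rw [MulAut.conj_apply] at this
      rw [this, hd3]
    have h1 := (h24 _ hd'z hd'3).1
    rw [← hg, card_cent2_conj] at h1
    exact h1
  · exact h27

end Cfsg.Agent.Lib.Helper5.J2W2
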