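import Mathlib
import Cfsg.Agent.Lib.Helper9.JRDefs
import Cfsg.Agent.Lib.Helper5.AutPSL2.Main
import Cfsg.Agent.Lib.Helper5.PSL2KleinClasses

/-!
# Farm JR (S3206), unit P2: a 2-power-order automorphism of `PSL₂(q)`, `q ≡ 3, 5 (mod 8)`, fixing a
Sylow 2-subgroup elementwise is conjugation by an element of that Sylow 2-subgroup.
-/

set_option autoImplicit false

namespace Cfsg.Agent.Lib.Helper5.JRP2

open Matrix Cfsg.Agent.Lib.Helper5.AutPSL2 Cfsg.Agent.Lib.Helper5.SL2Quat
  Cfsg.Agent.Lib.Helper5.SumTwoSq Cfsg.Agent.Lib.Helper5.KleinPairs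
  Cfsg.Agent.Lib.Helper5.PairOrbits Cfsg.Agent.Lib.Helper5.PSL2KleinClasses
  Cfsg.Agent.Lib.Helper9.JRDefs

section matrix
variable {F : Type*} [Field F]

theorem mulI (M : Matrix (Fin 2) (Fin 2) F) :
    M * !![0, 1; -1, 0] = !![-M 0 1, M 0 0; -M 1 1, M 1 0] := by
  ext i j
  fin_cases i <;> fin_cases j <;> simp [mul_apply, Fin.sum_univ_two]

theorem Imul (M : Matrix (Fin 2) (Fin 2) F) :
    !![0, 1; -1, 0] * M = !![M 1 0, M 1 1; -M 0 0, -M 0 1] := by
  ext i j
  fin_cases i <;> fin_cases j <;> simp [mul_apply, Fin.sum_univ_two]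

theorem mulJ (p r : F) (M : Matrix (Fin 2) (Fin 2) F) :
    M * !![p, r; r, -p] = !![M 0 0 * p + M 0 1 * r, M 0 0 * r - M 0 1 * p;
      M 1 0 * p + M 1 1 * r, M 1 0 * r - M 1 1 * p] := by
  ext i j
  fin_cases i <;> fin_cases j <;> simp [mul_apply, Fin.sum_univ_two] <;> ring

theorem Jmul (p r : F) (M : Matrix (Fin 2) (Fin 2) F) :
    !![p, r; r, -p] * M = !![p * M 0 0 + r * M 1 0, p * M 0 1 + r * M 1 1;
      r * M 0 0 - p * M 1 0, r * M 0 1 - p * M 1 1] := by
  ext i j
  fin_cases i <;> fin_cases j <;> simp [mul_apply, Fin.sum_univ_two] <;> ring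

theorem mulIJ (p r : F) (M : Matrix (Fin 2) (Fin 2) F) :
    M * !![r, -p; -p, -r] = !![M 0 0 * r - M 0 1 * p, -(M 0 0 * p) - M 0 1 * r;
      M 1 0 * r - M 1 1 * p, -(M 1 0 * p) - M 1 1 * r] := by
  ext i j
  fin_cases i <;> fin_cases j <;> simp [mul_apply, Fin.sum_univ_two] <;> ring

theorem smul_one_eq (lam : F) : lam • (1 : Matrix (Fin 2) (Fin 2) F) = !![lam, 0; 0, lam] := by
  ext i j
  fin_cases i <;> fin_cases j <;> simp

theorem eq_of_entries (A B : Matrix (Fin 2) (Fin 2) F) (h00 : A 0 0 = B 0 0) (h01 : A 0 1 = B 0 1)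
    (h10 : A 1 0 = B 1 0) (h11 : A 1 1 = B 1 1) : A = B := by
  ext i j
  fin_cases i <;> fin_cases j <;> assumption

/-- The matrix computation: a matrix commuting or anticommuting with `i` and with `j` becomes scalar
after multiplication by one of `1, i, j, i j`. -/
theorem exists_scalar (h2 : (2 : F) ≠ 0) (p r : F) (hpr : p ^ 2 + r ^ 2 = -1)
    (M : Matrix (Fin 2) (Fin 2) F)
    (h1 : M * !![0, 1; -1, 0] = !![0, 1; -1, 0] * M ∨ M * !![0, 1; -1, 0] = -(!![0, 1; -1, 0] * M))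
    (h3 : M * !![p, r; r, -p] = !![p, r; r, -p] * M ∨ M * !![p, r; r, -p] = -(!![p, r; r, -p] * M)) :
    ∃ lam : F, M = lam • (1 : Matrix (Fin 2) (Fin 2) F) ∨
      M * !![0, 1; -1, 0] = lam • (1 : Matrix (Fin 2) (Fin 2) F) ∨
      M * !![p, r; r, -p] = lam • (1 : Matrix (Fin 2) (Fin 2) F) ∨
      M * !![r, -p; -p, -r] = lam • (1 : Matrix (Fin 2) (Fin 2) F) := by
  rw [mulI, Imul] at h1
  rw [mulJ, Jmul] at h3
  rcases h1 with h1 | h1 <;> rcases h3 with h3 | h3
  · -- (+,+): M scalar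
    have a00 := congrFun (congrFun h1 0) 0
    have a01 := congrFun (congrFun h1 0) 1
    have b00 := congrFun (congrFun h3 0) 0
    have b01 := congrFun (congrFun h3 0) 1
    simp at a00 a01 b00 b01
    have hbr : M 0 1 * r = 0 := by
      have : (2 : F) * (M 0 1 * r) = 0 := by linear_combination b00 - r * a00
      exact (mul_eq_zero.mp this).resolve_left h2
    have hbp : M 0 1 * p = 0 := by
      have : (2 : F) * (M 0 1 * p) = 0 := by linear_combination -b01 + r * a01
      exact (mul_eq_zero.mp this).resolve_left h2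
    have hb : M 0 1 = 0 := by
      have : M 0 1 * (p ^ 2 + r ^ 2) = 0 := by linear_combination p * hbp + r * hbr
      rw [hpr] at this
      linear_combination -this
    refine ⟨M 0 0, Or.inl ?_⟩
    rw [smul_one_eq]
    apply eq_of_entries <;> simp
    · exact hb
    · linear_combination -a00 - hb
    · linear_combination -a01
  · -- (+,-): M * i scalar
    have a00 := congrFun (congrFun h1 0) 0
    have a01 := congrFun (congrFun h1 0) 1
    have b00 := congrFun (congrFun h3 0) 0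
    have b01 := congrFun (congrFun h3 0) 1
    simp at a00 a01 b00 b01
    have hap : M 0 0 * p = 0 := by
      have : (2 : F) * (M 0 0 * p) = 0 := by linear_combination b00 + r * a00
      exact (mul_eq_zero.mp this).resolve_left h2
    have har : M 0 0 * r = 0 := by
      have : (2 : F) * (M 0 0 * r) = 0 := by linear_combination b01 + r * a01
      exact (mul_eq_zero.mp this).resolve_left h2
    have ha : M 0 0 = 0 := by
      have : M 0 0 * (p ^ 2 + r ^ 2) = 0 := by linear_combination p * hap + r * har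
      rw [hpr] at this
      linear_combination -this
    refine ⟨-M 0 1, Or.inr (Or.inl ?_)⟩
    rw [mulI, smul_one_eq]
    apply eq_of_entries <;> simp
    · exact ha
    · linear_combination ha - a01
    · linear_combination -a00
  · -- (-,+): M * j scalar
    have a00 := congrFun (congrFun h1 0) 0
    have a01 := congrFun (congrFun h1 0) 1
    have b00 := congrFun (congrFun h3 0) 0
    have b01 := congrFun (congrFun h3 0) 1
    simp at a00 a01 b00 b01
    have hrel : M 0 0 * r = M 0 1 * p := by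
      have : (2 : F) * (M 0 0 * r - M 0 1 * p) = 0 := by linear_combination b01 + r * a01
      have := (mul_eq_zero.mp this).resolve_left h2
      linear_combination this
    refine ⟨M 0 0 * p + M 0 1 * r, Or.inr (Or.inr (Or.inl ?_))⟩
    rw [mulJ, smul_one_eq]
    apply eq_of_entries <;> simp
    · linear_combination hrel
    · linear_combination -hrel - p * a00 + r * a01
    · linear_combination -r * a00 - p * a01
  · -- (-,-): M * (i j) scalar
    have a00 := congrFun (congrFun h1 0) 0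
    have a01 := congrFun (congrFun h1 0) 1
    have b00 := congrFun (congrFun h3 0) 0
    have b01 := congrFun (congrFun h3 0) 1
    simp at a00 a01 b00 b01
    have hrel : M 0 0 * p + M 0 1 * r = 0 := by
      have : (2 : F) * (M 0 0 * p + M 0 1 * r) = 0 := by linear_combination b00 + r * a00
      exact (mul_eq_zero.mp this).resolve_left h2
    refine ⟨M 0 0 * r - M 0 1 * p, Or.inr (Or.inr (Or.inr ?_))⟩
    rw [mulIJ, smul_one_eq]
    apply eq_of_entries <;> simp
    · linear_combination -hrel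
    · linear_combination hrel - r * a00 - p * a01
    · linear_combination p * a00 - r * a01

end matrix

section core
variable {F : Type*} [Field F]

local notation "SL2" => Matrix.SpecialLinearGroup (Fin 2) F
local notation "PSL2" => Matrix.ProjectiveSpecialLinearGroup (Fin 2) F

theorem negOne_mul_val (g : SL2) : (AutPSL2.negOne F * g).1 = -g.1 := by
  show (!![-1, 0; 0, -1] : Matrix (Fin 2) (Fin 2) F) * g.1 = -g.1
  ext i j
  fin_cases i <;> fin_cases j <;> simp [mul_apply, Fin.sum_univ_two]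

/-- if `A * e` is scalar then conjugation by `A` is conjugation by `e⁻¹` -/
theorem cG_eq_conj_of_scalar (A : GL (Fin 2) F) (e : SL2) (lam : F)
    (h : (A : Matrix (Fin 2) (Fin 2) F) * e.1 = lam • (1 : Matrix (Fin 2) (Fin 2) F)) (x : PSL2) :
    cG F A x = (pr F e)⁻¹ * x * pr F e := by
  obtain ⟨g, rfl⟩ := pr_surjective x
  rw [cG_pr, ← map_inv, ← map_mul, ← map_mul]
  congr 1
  apply glConj_eq_of_mul_eq
  have hEE : e.1 * (e⁻¹ : SL2).1 = 1 := by
    rw [← Matrix.SpecialLinearGroup.coe_mul, mul_inv_cancel, Matrix.SpecialLinearGroup.coe_one]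
  have hA : (A : Matrix (Fin 2) (Fin 2) F) = lam • (e⁻¹ : SL2).1 := by
    calc (A : Matrix (Fin 2) (Fin 2) F) = (A : Matrix (Fin 2) (Fin 2) F) * (e.1 * (e⁻¹ : SL2).1) := by
          rw [hEE, Matrix.mul_one]
      _ = lam • (e⁻¹ : SL2).1 := by
          rw [← Matrix.mul_assoc, h, Matrix.smul_mul, Matrix.one_mul]
  rw [Matrix.SpecialLinearGroup.coe_mul, Matrix.SpecialLinearGroup.coe_mul, hA, Matrix.smul_mul,
    Matrix.mul_smul, Matrix.mul_assoc, Matrix.mul_assoc, hEE, Matrix.mul_one]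

/-- the hypothesis for `exists_scalar` from a fixed element -/
theorem comm_or_anti (A : GL (Fin 2) F) (g : SL2) (h : cG F A (pr F g) = pr F g) :
    (A : Matrix (Fin 2) (Fin 2) F) * g.1 = g.1 * (A : Matrix (Fin 2) (Fin 2) F) ∨
      (A : Matrix (Fin 2) (Fin 2) F) * g.1 = -(g.1 * (A : Matrix (Fin 2) (Fin 2) F)) := by
  rw [cG_pr, pr_eq_iff] at h
  have e := glConj_mul_eq A g
  rcases h with h | h
  · left
    rw [← e, ← h]
  · right
    have h' : glConj F A g = AutPSL2.negOne F * g := by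
      calc glConj F A g = AutPSL2.negOne F * (AutPSL2.negOne F * glConj F A g) := by
            rw [← mul_assoc, AutPSL2.negOne_sq, one_mul]
        _ = AutPSL2.negOne F * g := by rw [← h]
    rw [← e, h', negOne_mul_val, Matrix.neg_mul]

theorem std_fix (h2 : (2 : F) ≠ 0) (p r : F) (hpr : p ^ 2 + r ^ 2 = -1) (A : GL (Fin 2) F)
    (h1 : cG F A (QuotientGroup.mk (qi F)) = QuotientGroup.mk (qi F))
    (h3 : cG F A (QuotientGroup.mk (qj p r hpr)) = QuotientGroup.mk (qj p r hpr)) :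
    ∃ w ∈ kvP (Pw p r hpr) (Pw_mem h2 p r hpr), ∀ x : PSL2, cG F A x = w * x * w⁻¹ := by
  have c1 := comm_or_anti A (qi F) h1
  have c3 := comm_or_anti A (qj p r hpr) h3
  rw [qi_val] at c1
  rw [qj_val] at c3
  obtain ⟨lam, hl⟩ := exists_scalar h2 p r hpr _ c1 c3
  have key : ∀ e : SL2, pr F e ∈ kvP (Pw p r hpr) (Pw_mem h2 p r hpr) →
      (A : Matrix (Fin 2) (Fin 2) F) * e.1 = lam • (1 : Matrix (Fin 2) (Fin 2) F) →
      ∃ w ∈ kvP (Pw p r hpr) (Pw_mem h2 p r hpr), ∀ x : PSL2, cG F A x = w * x * w⁻¹ := by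
    intro e he h
    refine ⟨(pr F e)⁻¹, inv_mem he, fun x => ?_⟩
    rw [inv_inv]
    exact cG_eq_conj_of_scalar A e lam h x
  rcases hl with hl | hl | hl | hl
  · apply key 1
    · rw [map_one]; exact one_mem _
    · rw [Matrix.SpecialLinearGroup.coe_one, Matrix.mul_one]; exact hl
  · apply key (qi F)
    · rw [mem_kvP]; right; left; rfl
    · rw [qi_val]; exact hl
  · apply key (qj p r hpr)
    · rw [mem_kvP]; right; right; left; rfl
    · rw [qj_val]; exact hl
  · apply key (qi F * qj p r hpr)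
    · rw [mem_kvP]; right; right; right; rw [map_mul]; rfl
    · rw [qi_mul_qj_val]; exact hl

end core

section finite
variable {F : Type*} [Field F] [Fintype F]

local notation "SL2" => Matrix.SpecialLinearGroup (Fin 2) F
local notation "PSL2" => Matrix.ProjectiveSpecialLinearGroup (Fin 2) F

theorem sq_mod_eight (s : ℕ) : s * s % 8 = 0 ∨ s * s % 8 = 1 ∨ s * s % 8 = 4 := by
  rw [Nat.mul_mod]
  have : s % 8 < 8 := Nat.mod_lt _ (by norm_num)
  interval_cases s % 8 <;> simp

/-- an automorphism of 2-power order of `PSL₂(q)`, `q ≡ 3, 5 (mod 8)`, is induced by `GL₂(q)` -/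
theorem exists_cG (hq : Fintype.card F % 8 = 3 ∨ Fintype.card F % 8 = 5)
    (α : MulAut PSL2) (k : ℕ) (hα : α ^ (2 ^ k) = 1) : ∃ A : GL (Fin 2) F, α = cG F A := by
  obtain ⟨p, hchar, n, hp, hF⟩ := FiniteField.card' F
  haveI : Fact p.Prime := ⟨hp⟩
  have hF' : Nat.card F = p ^ (n : ℕ) := by rw [Nat.card_eq_fintype_card]; exact hF
  obtain ⟨-, hcard⟩ := ringAut_cyclic_card p (n : ℕ) hF'
  have hodd : ¬ 2 ∣ (n : ℕ) := by
    rintro ⟨m, hm⟩
    have : Fintype.card F = p ^ m * p ^ m := by rw [hF, hm, two_mul, pow_add]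
    have h8 := sq_mod_eight (p ^ m)
    rw [← this] at h8
    omega
  have hs : (sig p α) ^ (2 ^ k) = 1 := by rw [← map_pow, hα, map_one]
  have h1 : orderOf (sig p α) ∣ 2 ^ k := orderOf_dvd_of_pow_eq_one hs
  have h2 : orderOf (sig p α) ∣ (n : ℕ) := by rw [← hcard]; exact orderOf_dvd_natCard _
  have hcop : Nat.gcd (2 ^ k) (n : ℕ) = 1 :=
    Nat.Coprime.pow_left k ((Nat.Prime.coprime_iff_not_dvd Nat.prime_two).mpr hodd)
  have h3 : orderOf (sig p α) = 1 := by
    have := Nat.dvd_gcd h1 h2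
    rw [hcop] at this
    exact Nat.dvd_one.mp this
  rw [orderOf_eq_one_iff] at h3
  have hmem : α ∈ (sig (F := F) p).ker := h3
  rw [sig_ker] at hmem
  obtain ⟨A, hA⟩ := hmem
  exact ⟨A, hA.symm⟩

theorem P2_psl (hq : Fintype.card F % 8 = 3 ∨ Fintype.card F % 8 = 5) (V : Sylow 2 PSL2)
    (α : MulAut PSL2) (k : ℕ) (hα : α ^ (2 ^ k) = 1) (hfix : ∀ v ∈ V, α v = v) :
    ∃ v ∈ V, ∀ x : PSL2, α x = v * x * v⁻¹ := by
  have hodd : Fintype.card F % 2 = 1 := by omega
  have h2 : (2 : F) ≠ 0 := two_ne_zero_of_odd hodd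
  have hV := PSL2Klein.isKleinFour_sylow hq V
  obtain ⟨x, hx, hxV⟩ := exists_pair (V : Subgroup PSL2) hV
  obtain ⟨p, r, hpr, g, hg⟩ := exists_rel_Pw hodd x hx
  have hx1 : x.1 ∈ (V : Subgroup PSL2) := by rw [← hxV, mem_kvP]; right; left; rfl
  have hx2 : x.2 ∈ (V : Subgroup PSL2) := by rw [← hxV, mem_kvP]; right; right; left; rfl
  have hg1 : g * x.1 * g⁻¹ = QuotientGroup.mk (qi F) := congrArg Prod.fst hg
  have hg2 : g * x.2 * g⁻¹ = QuotientGroup.mk (qj p r hpr) := congrArg Prod.snd hg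
  obtain ⟨α', hα'⟩ : ∃ α' : MulAut PSL2, α' = MulAut.conj g * α * (MulAut.conj g)⁻¹ := ⟨_, rfl⟩
  have hpow : α' ^ (2 ^ k) = 1 := by rw [hα', conj_pow, hα, mul_one, mul_inv_cancel]
  obtain ⟨A, hA⟩ := exists_cG hq α' k hpow
  have happ : ∀ y, α' y = g * α (g⁻¹ * y * g) * g⁻¹ := by
    intro y
    rw [hα']
    simp [MulAut.mul_apply, MulAut.conj_apply]
  have f1 : cG F A (QuotientGroup.mk (qi F)) = QuotientGroup.mk (qi F) := by
    rw [← hA, happ, ← hg1]
    have : g⁻¹ * (g * x.1 * g⁻¹) * g = x.1 := by group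
    rw [this, hfix _ hx1]
  have f3 : cG F A (QuotientGroup.mk (qj p r hpr)) = QuotientGroup.mk (qj p r hpr) := by
    rw [← hA, happ, ← hg2]
    have : g⁻¹ * (g * x.2 * g⁻¹) * g = x.2 := by group
    rw [this, hfix _ hx2]
  obtain ⟨w, hw, hwc⟩ := std_fix h2 p r hpr A f1 f3
  have hwV : g⁻¹ * w * g ∈ (V : Subgroup PSL2) := by
    have e1 : kvP (Pw p r hpr) (Pw_mem h2 p r hpr) =
        kvP (conjP g x) (conjP_mem_pairSet g x hx) := kvP_congr hg.symm _ _
    rw [e1, kvP_conjP g x hx, hxV] at hw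
    obtain ⟨v, hv, rfl⟩ := hw
    simp only [MulEquiv.coe_toMonoidHom, MulAut.conj_apply]
    have : g⁻¹ * (g * v * g⁻¹) * g = v := by group
    rw [this]; exact hv
  refine ⟨g⁻¹ * w * g, hwV, fun y => ?_⟩
  have hy : α y = g⁻¹ * α' (g * y * g⁻¹) * g := by
    rw [happ]
    have : g⁻¹ * (g * y * g⁻¹) * g = y := by group
    rw [this]; group
  rw [hy, hA, hwc]; group

end finite

section psl
variable {F : Type*} [Field F] [Fintype F] {N : Type*} [Group N]

/-- Farm JR, unit P2. -/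
theorem P2 (hq : Fintype.card F % 8 = 3 ∨ Fintype.card F % 8 = 5) (e : N ≃* PSL2 F)
    (V : Sylow 2 N) (α : N ≃* N) (k : ℕ) (hα : α ^ (2 ^ k) = 1) (hfix : ∀ v ∈ V, α v = v) :
    ∃ v ∈ V, ∀ x : N, α x = v * x * v⁻¹ := by
  have hrange : (V : Subgroup N) ≤ e.symm.toMonoidHom.range := by
    intro v _
    exact ⟨e v, e.symm_apply_apply v⟩
  obtain ⟨V', hV'⟩ : ∃ V' : Sylow 2 (PSL2 F), ∀ w, w ∈ V' ↔ e.symm w ∈ V :=
    ⟨V.comapOfInjective e.symm.toMonoidHom e.symm.injective hrange, fun w => Iff.rfl⟩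
  obtain ⟨α', hα'⟩ : ∃ α' : MulAut (PSL2 F), α' = MulAut.congr e α := ⟨_, rfl⟩
  have happ : ∀ y, α' y = e (α (e.symm y)) := by
    intro y
    rw [hα']
    rfl
  have hpow : α' ^ (2 ^ k) = 1 := by rw [hα', ← map_pow, hα, map_one]
  have hfix' : ∀ w ∈ V', α' w = w := by
    intro w hw
    rw [happ, hfix _ ((hV' w).mp hw), e.apply_symm_apply]
  obtain ⟨w, hw, hwc⟩ := P2_psl hq V' α' k hpow hfix'
  refine ⟨e.symm w, (hV' w).mp hw, fun x => ?_⟩
  have h1 := hwc (e x)
  rw [happ, e.symm_apply_apply] at h1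
  apply e.injective
  rw [h1, map_mul, map_mul, map_inv, e.apply_symm_apply]

end psl

end Cfsg.Agent.Lib.Helper5.JRP2
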