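import Mathlib
import Cfsg.Agent.Lib.Helper6.KHom6
import Cfsg.Agent.Lib.Helper1.Wl10

set_option autoImplicit false
set_option maxHeartbeats 4000000
set_option maxRecDepth 100000
set_option linter.unusedVariables false
set_option linter.unusedSectionVars false
set_option linter.style.longLine false
set_option linter.unusedSimpArgs false
set_option linter.deprecated false
set_option linter.style.haveILetI false

/-! # S0747, piece N3: a sharply `(k-1)`-transitive group of degree `k + 6` (`k = 5, 6`) induces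
at least the alternating group on some `k`-set -/

namespace Cfsg.Agent.Lib.Helper5.KHom

open MulAction Cfsg.Agent.Lib.Helper6.KHom
open scoped Pointwise

variable {β : Type*} [Fintype β] [DecidableEq β] (Y : Subgroup (Equiv.Perm β))

/-- the setwise stabiliser of a finset, as a subgroup of `Perm β` -/
def setStab (Δ : Finset β) : Subgroup (Equiv.Perm β) := (stabilizer Y Δ).map Y.subtype

theorem setStab_le (Δ : Finset β) : setStab Y Δ ≤ Y := by
  rintro _ ⟨y, _, rfl⟩
  exact y.2

theorem setStab_maps (Δ : Finset β) : ∀ n ∈ setStab Y Δ, ∀ x ∈ Δ, n x ∈ Δ := by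
  rintro _ ⟨y, hy, rfl⟩ x hx
  have h1 : y • x ∈ y • Δ := Finset.smul_mem_smul_finset hx
  rw [mem_stabilizer_iff.mp hy] at h1
  exact h1

theorem card_setStab (Δ : Finset β) : Nat.card (setStab Y Δ) = Nat.card (stabilizer Y Δ) :=
  Subgroup.card_map_of_injective Y.subtype_injective

theorem stab_bound {k : ℕ} (hk5 : 5 ≤ k)
    (hrig : ∀ Γ : Finset β, Γ.card = k - 1 → fixingSubgroup Y (Γ : Set β) = ⊥)
    (Δ : Finset β) (hΔ : Δ.card = k)
    (hno : ¬ ∀ σ : Equiv.Perm ↥Δ, σ ∈ alternatingGroup ↥Δ → ∃ y ∈ Y, ∀ x : ↥Δ, y (x : β) = σ x) :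
    Nat.card (stabilizer Y Δ) * k ≤ k.factorial := by
  let ρ := restrictHom (setStab Y Δ) Δ (setStab_maps Y Δ)
  have hinj : Function.Injective ρ := by
    rw [injective_iff_map_eq_one]
    intro a ha
    have hfix : ∀ x ∈ Δ, a.1 x = x := by
      intro x hx
      have h1 := congrArg (fun σ : Equiv.Perm ↥Δ => ((σ ⟨x, hx⟩ : ↥Δ) : β)) ha
      exact h1
    obtain ⟨Γ, hΓs, hΓc⟩ := Finset.exists_subset_card_eq (show k - 1 ≤ Δ.card by omega)
    have hmem : (⟨a.1, setStab_le Y Δ a.2⟩ : Y) ∈ fixingSubgroup Y (Γ : Set β) := by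
      rw [mem_fixingSubgroup_iff]
      intro x hx
      exact hfix x (hΓs hx)
    rw [hrig Γ hΓc, Subgroup.mem_bot] at hmem
    have h2 := congrArg Subtype.val hmem
    apply Subtype.ext
    exact h2
  have hcard : Nat.card ρ.range = Nat.card (stabilizer Y Δ) := by
    rw [← card_setStab]
    exact (Nat.card_congr (MonoidHom.ofInjective hinj).toEquiv).symm
  have hidx : ρ.range.index * Nat.card ρ.range = k.factorial := by
    rw [Subgroup.index_mul_card, Nat.card_perm, Nat.card_eq_fintype_card, Fintype.card_coe, hΔ]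
  have hnalt : ¬ alternatingGroup ↥Δ ≤ ρ.range := by
    intro hle
    apply hno
    intro σ hσ
    obtain ⟨a, ha⟩ := hle hσ
    refine ⟨a.1, setStab_le Y Δ a.2, fun x => ?_⟩
    rw [← ha]
    rfl
  have hi0 : ρ.range.index ≠ 0 := Subgroup.index_ne_zero_of_finite
  have hi1 : ρ.range.index ≠ 1 := by
    intro h
    rw [Subgroup.index_eq_one] at h
    apply hnalt
    rw [h]
    exact le_top
  have hi2 : ρ.range.index ≠ 2 := by
    intro h
    apply hnalt
    rw [Equiv.Perm.eq_alternatingGroup_of_index_eq_two h]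
  have hik : k ≤ ρ.range.index := by
    by_contra hlt
    push Not at hlt
    exact Cfsg.Agent.Lib.Helper1.Wl.no_small_index ρ.range
      (by rw [Fintype.card_coe, hΔ]; exact hk5) (by omega)
      (by rw [Fintype.card_coe, hΔ]; exact hlt)
  rw [← hcard, ← hidx, mul_comm]
  exact Nat.mul_le_mul_right _ hik

theorem orbit_mul_stab (Δ : Finset β) :
    (orbit Y Δ).ncard * Nat.card (stabilizer Y Δ) = Nat.card Y := by
  rw [← MulAction.index_stabilizer]
  exact Subgroup.index_mul_card _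

theorem orbit_sub {k : ℕ} (Δ : Finset β) (hΔ : Δ.card = k) :
    orbit Y Δ ⊆ ((Finset.powersetCard k Finset.univ : Finset (Finset β)) : Set (Finset β)) := by
  rintro _ ⟨y, rfl⟩
  rw [Finset.mem_coe, Finset.mem_powersetCard]
  refine ⟨Finset.subset_univ _, ?_⟩
  show (y • Δ).card = k
  rw [Finset.card_smul_finset]
  exact hΔ

theorem ncard_le_choose {k : ℕ} (S : Set (Finset β))
    (hS : S ⊆ ((Finset.powersetCard k Finset.univ : Finset (Finset β)) : Set (Finset β))) :
    S.ncard ≤ (Fintype.card β).choose k := by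
  have h1 := Set.ncard_le_ncard hS (Finset.finite_toSet _)
  rw [Set.ncard_coe_finset, Finset.card_powersetCard, Finset.card_univ] at h1
  exact h1

/-- the structural part: either two disjoint orbits, or one orbit of full size -/
theorem orbit_dichotomy {k : ℕ} (Δ₀ : Finset β) (hΔ₀ : Δ₀.card = k) :
    (∃ Δ₁ : Finset β, Δ₁.card = k ∧
      (orbit Y Δ₀).ncard + (orbit Y Δ₁).ncard ≤ (Fintype.card β).choose k) ∨
    (orbit Y Δ₀).ncard = (Fintype.card β).choose k := by
  by_cases hall : ∀ Δ₁ : Finset β, Δ₁.card = k → Δ₁ ∈ orbit Y Δ₀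
  · right
    have heq : orbit Y Δ₀ =
        ((Finset.powersetCard k Finset.univ : Finset (Finset β)) : Set (Finset β)) := by
      apply Set.Subset.antisymm (orbit_sub Y Δ₀ hΔ₀)
      intro Δ₁ h1
      rw [Finset.mem_coe, Finset.mem_powersetCard] at h1
      exact hall Δ₁ h1.2
    rw [heq, Set.ncard_coe_finset, Finset.card_powersetCard, Finset.card_univ]
  · left
    push Not at hall
    obtain ⟨Δ₁, hΔ₁, hnot⟩ := hall
    refine ⟨Δ₁, hΔ₁, ?_⟩
    have hdisj : Disjoint (orbit Y Δ₀) (orbit Y Δ₁) := by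
      rw [Set.disjoint_left]
      rintro s ⟨g, hg⟩ ⟨h, hh⟩
      apply hnot
      refine ⟨h⁻¹ * g, ?_⟩
      show (h⁻¹ * g) • Δ₀ = Δ₁
      have hg' : g • Δ₀ = s := hg
      have hh' : h • Δ₁ = s := hh
      rw [mul_smul, hg', ← hh', inv_smul_smul]
    have hfin0 : (orbit Y Δ₀).Finite := Set.toFinite _
    have hfin1 : (orbit Y Δ₁).Finite := Set.toFinite _
    rw [← Set.ncard_union_eq hdisj hfin0 hfin1]
    exact ncard_le_choose (orbit Y Δ₀ ∪ orbit Y Δ₁)
      (Set.union_subset (orbit_sub Y Δ₀ hΔ₀) (orbit_sub Y Δ₁ hΔ₁))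

/-- **Piece N3** (verbatim) -/
theorem exists_induces_sharp {β : Type*} [Fintype β] [DecidableEq β] (Y : Subgroup (Equiv.Perm β)) {k : ℕ} (hk : k = 5 ∨ k = 6) (hcard : Fintype.card β = k + 6)
    (ht : IsMultiplyPretransitive Y β (k - 1)) (hrig : ∀ Γ : Finset β, Γ.card = k - 1 → fixingSubgroup Y (Γ : Set β) = ⊥) :
    ∃ Δ : Finset β, Δ.card = k ∧ ∀ σ : Equiv.Perm ↥Δ, σ ∈ alternatingGroup ↥Δ → ∃ y ∈ Y, ∀ x : ↥Δ, y (x : β) = σ x := by
  by_contra hno
  have hno' : ∀ Δ : Finset β, Δ.card = k →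
      ¬ ∀ σ : Equiv.Perm ↥Δ, σ ∈ alternatingGroup ↥Δ → ∃ y ∈ Y, ∀ x : ↥Δ, y (x : β) = σ x :=
    fun Δ hΔ h => hno ⟨Δ, hΔ, h⟩
  have hk5 : 5 ≤ k := by rcases hk with rfl | rfl <;> omega
  have hst : ∀ Δ : Finset β, Δ.card = k → Nat.card (stabilizer Y Δ) * k ≤ k.factorial :=
    fun Δ hΔ => stab_bound Y hk5 hrig Δ hΔ (hno' Δ hΔ)
  -- the order of `Y`
  obtain ⟨s, -, hs⟩ := Finset.exists_subset_card_eq
    (show k - 1 ≤ (Finset.univ : Finset β).card by rw [Finset.card_univ, hcard]; omega)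
  have hY := Cfsg.Agent.Lib.Helper1.Wl.card_mul_factorial Y ht s hs
  rw [hrig s hs, Subgroup.card_bot, mul_one, hcard] at hY
  -- a `k`-set
  obtain ⟨Δ₀, -, hΔ₀⟩ := Finset.exists_subset_card_eq
    (show k ≤ (Finset.univ : Finset β).card by rw [Finset.card_univ, hcard]; omega)
  have hdich := orbit_dichotomy Y Δ₀ hΔ₀
  rw [hcard] at hdich
  rcases hk with rfl | rfl
  · -- `k = 5`, `|Y| = 7920`
    have hYc : Nat.card Y = 7920 := by
      norm_num [Nat.factorial] at hY
      omega
    have hch : (5 + 6).choose 5 = 462 := by decide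
    rw [hch] at hdich
    have hlow : ∀ Δ : Finset β, Δ.card = 5 → 330 ≤ (orbit Y Δ).ncard := by
      intro Δ hΔ
      have h1 := hst Δ hΔ
      have h2 := orbit_mul_stab Y Δ
      rw [hYc] at h2
      have hf : Nat.factorial 5 = 120 := by decide
      rw [hf] at h1
      by_contra hlt
      push Not at hlt
      have h3 : (orbit Y Δ).ncard * Nat.card (stabilizer Y Δ) ≤ 329 * 24 :=
        Nat.mul_le_mul (by omega) (by omega)
      omega
    rcases hdich with ⟨Δ₁, hΔ₁, hsum⟩ | hfull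
    · have := hlow Δ₀ hΔ₀
      have := hlow Δ₁ hΔ₁
      omega
    · have h2 := orbit_mul_stab Y Δ₀
      rw [hYc, hfull] at h2
      omega
  · -- `k = 6`, `|Y| = 95040`
    have hYc : Nat.card Y = 95040 := by
      norm_num [Nat.factorial] at hY
      omega
    have hch : (6 + 6).choose 6 = 924 := by decide
    rw [hch] at hdich
    have hlow : ∀ Δ : Finset β, Δ.card = 6 → 792 ≤ (orbit Y Δ).ncard := by
      intro Δ hΔ
      have h1 := hst Δ hΔ
      have h2 := orbit_mul_stab Y Δ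
      rw [hYc] at h2
      have hf : Nat.factorial 6 = 720 := by decide
      rw [hf] at h1
      by_contra hlt
      push Not at hlt
      have h3 : (orbit Y Δ).ncard * Nat.card (stabilizer Y Δ) ≤ 791 * 120 :=
        Nat.mul_le_mul (by omega) (by omega)
      omega
    rcases hdich with ⟨Δ₁, hΔ₁, hsum⟩ | hfull
    · have := hlow Δ₀ hΔ₀
      have := hlow Δ₁ hΔ₁
      omega
    · have h2 := orbit_mul_stab Y Δ₀
      rw [hYc, hfull] at h2
      omega

end Cfsg.Agent.Lib.Helper5.KHom
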