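import Mathlib
import Cfsg.Agent.Lib.Helper8.L34Defs
import Cfsg.Agent.Lib.Helper4.SLCard

/-!
# Farm L34 (S3154), unit UD: the Levi complements `L1`, `L2` of `SL₃(4)` are `≅ PSL₂(4)` and meet the
unitriangular group in a Sylow 2-subgroup.
-/

set_option autoImplicit false

namespace Cfsg.Agent.Lib.Helper5.L34UD

open Matrix
open Cfsg.Agent.Lib.Helper9.JRDefs (IsSylowIn)
open Cfsg.Agent.Lib.Helper8.L34

section concrete
variable {F : Type*} [Field F]

theorem emb1_injective : Function.Injective (emb1 (F := F)) := by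
  intro A B h
  have h' := congrArg (fun g : SpecialLinearGroup (Fin 3) F => (g : Matrix (Fin 3) (Fin 3) F)) h
  simp only [emb1_coe] at h'
  apply Subtype.ext
  ext i j
  fin_cases i <;> fin_cases j
  · simpa using congrFun (congrFun h' 0) 0
  · simpa using congrFun (congrFun h' 0) 1
  · simpa using congrFun (congrFun h' 1) 0
  · simpa using congrFun (congrFun h' 1) 1

theorem emb2_injective : Function.Injective (emb2 (F := F)) := by
  intro A B h
  have h' := congrArg (fun g : SpecialLinearGroup (Fin 3) F => (g : Matrix (Fin 3) (Fin 3) F)) h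
  simp only [emb2_coe] at h'
  apply Subtype.ext
  ext i j
  fin_cases i <;> fin_cases j
  · simpa using congrFun (congrFun h' 1) 1
  · simpa using congrFun (congrFun h' 1) 2
  · simpa using congrFun (congrFun h' 2) 1
  · simpa using congrFun (congrFun h' 2) 2

/-- a field with four elements has characteristic two -/
theorem charTwo [Fintype F] (hF : Fintype.card F = 4) : CharP F 2 := by
  obtain ⟨p, hchar, n, hp, hpn⟩ := FiniteField.card' F
  have h4 : p ∣ 2 ^ 2 := by
    have : p ∣ p ^ (n : ℕ) := dvd_pow_self p n.ne_zero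
    rw [← hpn, hF] at this
    exact this
  have hp2 : p = 2 := (Nat.prime_dvd_prime_iff_eq hp Nat.prime_two).mp (hp.dvd_of_dvd_pow h4)
  rw [← hp2]
  exact hchar

theorem center_SL2_eq_bot [CharP F 2] : Subgroup.center (SpecialLinearGroup (Fin 2) F) = ⊥ := by
  rw [eq_bot_iff]
  intro z hz
  rw [Matrix.SpecialLinearGroup.mem_center_iff] at hz
  obtain ⟨r, hr, hr2⟩ := hz
  rw [Fintype.card_fin] at hr
  have h2 : (2 : F) = 0 := CharTwo.two_eq_zero
  have hr' : (r - 1) * (r - 1) = 0 := by linear_combination hr - (r - 1) * h2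
  have hr1 : r = 1 := by
    rcases mul_eq_zero.mp hr' with h | h <;> exact sub_eq_zero.mp h
  rw [Subgroup.mem_bot]
  apply Subtype.ext
  rw [← hr2, hr1]
  simp

/-- `SL₂(F) ≃* PSL₂(F)` in characteristic two -/
theorem sl2_equiv_psl2 [CharP F 2] :
    Nonempty (SpecialLinearGroup (Fin 2) F ≃* Matrix.ProjectiveSpecialLinearGroup (Fin 2) F) := by
  refine ⟨MulEquiv.ofBijective
    (QuotientGroup.mk' (Subgroup.center (SpecialLinearGroup (Fin 2) F))) ⟨?_, ?_⟩⟩
  · intro a b hab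
    have h : a⁻¹ * b ∈ Subgroup.center (SpecialLinearGroup (Fin 2) F) := QuotientGroup.eq.mp hab
    rw [center_SL2_eq_bot, Subgroup.mem_bot] at h
    exact inv_mul_eq_one.mp h
  · exact QuotientGroup.mk'_surjective _

theorem UD_L1_iso [Fintype F] (hF : Fintype.card F = 4) :
    Nonempty (↥(L1 F) ≃* Matrix.ProjectiveSpecialLinearGroup (Fin 2) F) := by
  have := charTwo hF
  obtain ⟨e2⟩ := sl2_equiv_psl2 (F := F)
  exact ⟨(MonoidHom.ofInjective (emb1_injective (F := F))).symm.trans e2⟩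

theorem UD_L2_iso [Fintype F] (hF : Fintype.card F = 4) :
    Nonempty (↥(L2 F) ≃* Matrix.ProjectiveSpecialLinearGroup (Fin 2) F) := by
  have := charTwo hF
  obtain ⟨e2⟩ := sl2_equiv_psl2 (F := F)
  exact ⟨(MonoidHom.ofInjective (emb2_injective (F := F))).symm.trans e2⟩

/-- `|SL₂(4)| = 60` -/
theorem card_SL2 [Fintype F] (hF : Fintype.card F = 4) :
    Nat.card (SpecialLinearGroup (Fin 2) F) = 60 := by
  have h1 := Cfsg.Agent.Lib.Helper4.card_SL_mul (F := F) 2 (by norm_num)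
  rw [Matrix.card_GL_field, Fin.prod_univ_two, hF] at h1
  norm_num at h1
  omega

theorem card_L1 [Fintype F] (hF : Fintype.card F = 4) : Nat.card ↥(L1 F) = 60 := by
  rw [← card_SL2 hF]
  exact (Nat.card_congr (MonoidHom.ofInjective (emb1_injective (F := F))).toEquiv).symm

theorem card_L2 [Fintype F] (hF : Fintype.card F = 4) : Nat.card ↥(L2 F) = 60 := by
  rw [← card_SL2 hF]
  exact (Nat.card_congr (MonoidHom.ofInjective (emb2_injective (F := F))).toEquiv).symm

theorem card_X12 [Fintype F] (hF : Fintype.card F = 4) : Nat.card ↥(X12 F) = 4 := by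
  rw [← hF, ← Nat.card_eq_fintype_card]
  symm
  apply Nat.card_congr
  refine Equiv.ofBijective (fun a : F => (⟨hS a 0 0, a, rfl⟩ : ↥(X12 F))) ⟨?_, ?_⟩
  · intro a b h
    exact (hS_inj (congrArg Subtype.val h)).1
  · rintro ⟨_, a, rfl⟩
    exact ⟨a, rfl⟩

theorem card_X23 [Fintype F] (hF : Fintype.card F = 4) : Nat.card ↥(X23 F) = 4 := by
  rw [← hF, ← Nat.card_eq_fintype_card]
  symm
  apply Nat.card_congr
  refine Equiv.ofBijective (fun b : F => (⟨hS 0 b 0, b, rfl⟩ : ↥(X23 F))) ⟨?_, ?_⟩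
  · intro a b h
    exact (hS_inj (congrArg Subtype.val h)).2.1
  · rintro ⟨_, b, rfl⟩
    exact ⟨b, rfl⟩

theorem X12_le_L1 : X12 F ≤ L1 F := by
  rintro _ ⟨a, rfl⟩
  refine ⟨⟨!![1, a; 0, 1], by simp [det_fin_two]⟩, ?_⟩
  apply Subtype.ext
  show e1M (!![1, a; 0, 1] : Matrix (Fin 2) (Fin 2) F) = hM a 0 0
  ext i j
  fin_cases i <;> fin_cases j <;> simp [e1M, hM]

theorem X23_le_L2 : X23 F ≤ L2 F := by
  rintro _ ⟨b, rfl⟩
  refine ⟨⟨!![1, b; 0, 1], by simp [det_fin_two]⟩, ?_⟩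
  apply Subtype.ext
  show e2M (!![1, b; 0, 1] : Matrix (Fin 2) (Fin 2) F) = hM 0 b 0
  ext i j
  fin_cases i <;> fin_cases j <;> simp [e2M, hM]

theorem isPGroup_X12 [CharP F 2] : IsPGroup 2 ↥(X12 F) := by
  rintro ⟨_, a, rfl⟩
  refine ⟨1, ?_⟩
  apply Subtype.ext
  show (hS a 0 0) ^ (2 ^ 1) = 1
  rw [pow_one, pow_two, hS_mul, ← hS_zero]
  congr 1
  · exact CharTwo.add_self_eq_zero a
  · ring
  · ring

theorem isPGroup_X23 [CharP F 2] : IsPGroup 2 ↥(X23 F) := by
  rintro ⟨_, b, rfl⟩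
  refine ⟨1, ?_⟩
  apply Subtype.ext
  show (hS 0 b 0) ^ (2 ^ 1) = 1
  rw [pow_one, pow_two, hS_mul, ← hS_zero]
  congr 1
  · ring
  · exact CharTwo.add_self_eq_zero b
  · ring

theorem UD_X12_sylow [Fintype F] (hF : Fintype.card F = 4) : IsSylowIn 2 (X12 F) (L1 F) := by
  have := charTwo hF
  refine ⟨X12_le_L1, isPGroup_X12, ?_⟩
  have h := Subgroup.relIndex_mul_relIndex ⊥ (X12 F) (L1 F) bot_le X12_le_L1
  rw [Subgroup.relIndex_bot_left, Subgroup.relIndex_bot_left, card_X12 hF, card_L1 hF] at h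
  omega

theorem UD_X23_sylow [Fintype F] (hF : Fintype.card F = 4) : IsSylowIn 2 (X23 F) (L2 F) := by
  have := charTwo hF
  refine ⟨X23_le_L2, isPGroup_X23, ?_⟩
  have h := Subgroup.relIndex_mul_relIndex ⊥ (X23 F) (L2 F) bot_le X23_le_L2
  rw [Subgroup.relIndex_bot_left, Subgroup.relIndex_bot_left, card_X23 hF, card_L2 hF] at h
  omega

end concrete

end Cfsg.Agent.Lib.Helper5.L34UD
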