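import Mathlib
import Cfsg.Agent.Lib.Helper9.OutM2
import Cfsg.Agent.Lib.Helper9.IdxA1
import Cfsg.Agent.Lib.Helper9.Syl2M22b
import Cfsg.Agent.Lib.Helper9.M24L1

/-!
# S5005, unit C3 (HC): in `M22` the centralizer of every non-identity element of odd order has
index divisible by `2 ^ 5`.

Fixed-point counting on the 24 points: commuting permutations `z, u` with `z ^ r = 1`
satisfy `|Fix u| ≡ |Fix u ∩ Fix z| (mod r)`.
-/

set_option autoImplicit false

namespace Cfsg.Agent.Lib.Helper5.M22HC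

open Cfsg Finset Cfsg.Agent.Lib.Helper9.OutM

section perm

variable {α : Type*} [Fintype α] [DecidableEq α]

theorem h5_fix_invariant (z u : Equiv.Perm α) (h : u * z = z * u) :
    ∀ b ∈ fixF u, z b ∈ fixF u := by
  intro b hb
  rw [mem_fixF] at hb ⊢
  have : u (z b) = z (u b) := by
    have := congrArg (fun f : Equiv.Perm α => f b) h
    simpa [Equiv.Perm.mul_apply] using this
  rw [this, hb]

theorem h5_card_modEq (z u : Equiv.Perm α) (r : ℕ) [Fact r.Prime] (hz : z ^ r = 1)
    (h : u * z = z * u) : (fixF u).card ≡ (fixF u ∩ fixF z).card [MOD r] :=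
  card_modEq_fix z r hz (fixF u) (h5_fix_invariant z u h)

/-- a permutation `u` commuting with `z` cannot fix all but one of the fixed points of `z` -/
theorem h5_card_ne_pred (z u : Equiv.Perm α) (h : u * z = z * u) :
    (fixF u ∩ fixF z).card + 1 ≠ (fixF z).card := by
  intro hcard
  have h1 : (fixF z \ fixF u).card + (fixF z ∩ fixF u).card = (fixF z).card :=
    Finset.card_sdiff_add_card_inter _ _
  rw [Finset.inter_comm] at h1
  have h2 : (fixF z \ fixF u).card = 1 := by omega
  obtain ⟨a, ha⟩ := Finset.card_eq_one.mp h2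
  have haA : a ∈ fixF z \ fixF u := by rw [ha]; exact Finset.mem_singleton_self a
  rw [Finset.mem_sdiff, mem_fixF, mem_fixF] at haA
  have hua : u a ∈ fixF z \ fixF u := by
    rw [Finset.mem_sdiff, mem_fixF, mem_fixF]
    constructor
    · have : z (u a) = u (z a) := by
        have := congrArg (fun f : Equiv.Perm α => f a) h
        simpa [Equiv.Perm.mul_apply] using this.symm
      rw [this, haA.1]
    · intro h3
      exact haA.2 (u.injective h3)
  rw [ha, Finset.mem_singleton] at hua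
  exact haA.2 hua

end perm

/-- membership data of an element of `M22` -/
theorem h5_mem (x : Equiv.Perm GolayPt) (hx : x ∈ Spor.M22) :
    x ∈ M24 ∧ x none = none ∧ x (some 0) = some 0 :=
  (Cfsg.Agent.Lib.Helper9.M24L1.mem_M22 x).mp hx

theorem h5_two_le (z u : Equiv.Perm GolayPt) (hz : z ∈ Spor.M22) (hu : u ∈ Spor.M22) :
    2 ≤ (fixF u ∩ fixF z).card := by
  obtain ⟨_, hz1, hz2⟩ := h5_mem z hz
  obtain ⟨_, hu1, hu2⟩ := h5_mem u hu
  have hsub : ({none, some 0} : Finset GolayPt) ⊆ fixF u ∩ fixF z := by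
    intro b hb
    rw [Finset.mem_insert, Finset.mem_singleton] at hb
    rw [Finset.mem_inter, mem_fixF, mem_fixF]
    rcases hb with rfl | rfl
    · exact ⟨hu1, hz1⟩
    · exact ⟨hu2, hz2⟩
  have hc : ({none, some 0} : Finset GolayPt).card = 2 := by decide
  calc 2 = ({none, some 0} : Finset GolayPt).card := hc.symm
    _ ≤ _ := Finset.card_le_card hsub

theorem h5_card_invol (u : Equiv.Perm GolayPt) (hu : u ∈ Spor.M22) (hu1 : u ≠ 1)
    (hu2 : u ^ 2 = 1) : (fixF u).card = 8 := by
  obtain ⟨hM, h1, _⟩ := h5_mem u hu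
  rcases card_fixF_involution u hM hu2 hu1 with h | h
  · exfalso
    have : (none : GolayPt) ∈ fixF u := (mem_fixF u none).mpr h1
    rw [Finset.card_eq_zero] at h
    rw [h] at this
    exact absurd this (Finset.notMem_empty _)
  · exact h

/-- no involution of `M22` commutes with an element of order `5`, `7` or `11` -/
theorem h5_no_invol (z u : Equiv.Perm GolayPt) (hz : z ∈ Spor.M22) (hu : u ∈ Spor.M22) (r : ℕ)
    (hr : r = 5 ∨ r = 7 ∨ r = 11) (hz1 : z ≠ 1) (hzr : z ^ r = 1) (hu1 : u ≠ 1)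
    (hu2 : u ^ 2 = 1) (hc : u * z = z * u) : False := by
  obtain ⟨hzM, _, _⟩ := h5_mem z hz
  have hu8 := h5_card_invol u hu hu1 hu2
  have hk2 := h5_two_le z u hz hu
  have hkle : (fixF u ∩ fixF z).card ≤ (fixF z).card := Finset.card_le_card Finset.inter_subset_right
  have hne := h5_card_ne_pred z u hc
  have hFz : (fixF z).card = 24 % r :=
    card_fixF_prime z hzM hz1 r (by rcases hr with h | h | h <;> simp [h]) hzr
  rcases hr with rfl | rfl | rfl
  · haveI : Fact (Nat.Prime 5) := ⟨by norm_num⟩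
    have hmod := h5_card_modEq z u 5 hzr hc
    rw [hu8] at hmod
    unfold Nat.ModEq at hmod
    omega
  · haveI : Fact (Nat.Prime 7) := ⟨by norm_num⟩
    have hmod := h5_card_modEq z u 7 hzr hc
    rw [hu8] at hmod
    unfold Nat.ModEq at hmod
    omega
  · haveI : Fact (Nat.Prime 11) := ⟨by norm_num⟩
    have hmod := h5_card_modEq z u 11 hzr hc
    rw [hu8] at hmod
    unfold Nat.ModEq at hmod
    omega

/-- no involution of `M22` commutes with an element `z` of order `3` and fixes a third fixed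
point of `z` -/
theorem h5_no_invol_three (z u : Equiv.Perm GolayPt) (hz : z ∈ Spor.M22) (hu : u ∈ Spor.M22)
    (hz1 : z ≠ 1) (hz3 : z ^ 3 = 1) (hu1 : u ≠ 1) (hu2 : u ^ 2 = 1) (hc : u * z = z * u)
    (δ : GolayPt) (hδ1 : δ ≠ none) (hδ0 : δ ≠ some 0) (hzδ : z δ = δ) (huδ : u δ = δ) :
    False := by
  obtain ⟨hzM, hz1', hz2'⟩ := h5_mem z hz
  obtain ⟨_, hu1', hu2'⟩ := h5_mem u hu
  have hu8 := h5_card_invol u hu hu1 hu2
  have hkle : (fixF u ∩ fixF z).card ≤ (fixF z).card := Finset.card_le_card Finset.inter_subset_right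
  have hne := h5_card_ne_pred z u hc
  have hFz : (fixF z).card = 0 ∨ (fixF z).card = 6 :=
    Cfsg.Agent.Lib.Helper9.Idx.card_fixF_three z hzM hz1 hz3
  have hsub : ({none, some 0, δ} : Finset GolayPt) ⊆ fixF u ∩ fixF z := by
    intro b hb
    rw [Finset.mem_insert, Finset.mem_insert, Finset.mem_singleton] at hb
    rw [Finset.mem_inter, mem_fixF, mem_fixF]
    rcases hb with rfl | rfl | rfl
    · exact ⟨hu1', hz1'⟩
    · exact ⟨hu2', hz2'⟩
    · exact ⟨huδ, hzδ⟩
  have hc3 : ({none, some 0, δ} : Finset GolayPt).card = 3 := by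
    rw [Finset.card_insert_of_notMem, Finset.card_insert_of_notMem, Finset.card_singleton]
    · rw [Finset.mem_singleton]; exact fun h => hδ0 h.symm
    · rw [Finset.mem_insert, Finset.mem_singleton]
      rintro (h | h)
      · exact absurd h (by decide)
      · exact hδ1 h.symm
  have hk3 : 3 ≤ (fixF u ∩ fixF z).card := hc3 ▸ Finset.card_le_card hsub
  haveI : Fact (Nat.Prime 3) := ⟨by norm_num⟩
  have hmod := h5_card_modEq z u 3 hz3 hc
  rw [hu8] at hmod
  unfold Nat.ModEq at hmod
  omega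


/-! ## Group level -/

theorem h5_card_G : Nat.card ↥Spor.M22 = 2 ^ 7 * 3465 := Cfsg.Agent.Lib.Helper9.Syl2M22.card_G

theorem h5_coe_data (x : ↥Spor.M22) (n : ℕ) (hx : orderOf x = n) (hn : n ≠ 1) :
    (x : Equiv.Perm GolayPt) ≠ 1 ∧ (x : Equiv.Perm GolayPt) ^ n = 1 := by
  constructor
  · intro h
    apply hn
    rw [← hx, orderOf_eq_one_iff]
    exact Subtype.ext h
  · rw [← Subgroup.coe_pow, ← hx, pow_orderOf_eq_one]
    rfl

theorem h5_commute_of_mem (z c : ↥Spor.M22)
    (hc : c ∈ Subgroup.centralizer ({z} : Set ↥Spor.M22)) :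
    (c : Equiv.Perm GolayPt) * (z : Equiv.Perm GolayPt) = (z : Equiv.Perm GolayPt) * c := by
  rw [Subgroup.mem_centralizer_iff] at hc
  have := hc z (Set.mem_singleton z)
  have h2 := congrArg Subtype.val this
  simpa using h2.symm

/-- the centralizer in `M22` of an element of order `5`, `7` or `11` has odd order -/
theorem centralizer_odd (z : ↥Spor.M22) (r : ℕ) (hr : r = 5 ∨ r = 7 ∨ r = 11)
    (hz : orderOf z = r) :
    ¬ 2 ∣ Nat.card (Subgroup.centralizer ({z} : Set ↥Spor.M22)) := by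
  intro h2
  haveI : Fact (Nat.Prime 2) := ⟨Nat.prime_two⟩
  obtain ⟨u, hu⟩ := exists_prime_orderOf_dvd_card' 2 h2
  have hu' : orderOf (u : ↥Spor.M22) = 2 := by rw [Subgroup.orderOf_coe]; exact hu
  obtain ⟨hu1, hu2⟩ := h5_coe_data (u : ↥Spor.M22) 2 hu' (by norm_num)
  obtain ⟨hz1, hzr⟩ := h5_coe_data z r hz (by rcases hr with h | h | h <;> omega)
  exact h5_no_invol (z : Equiv.Perm GolayPt) ((u : ↥Spor.M22) : Equiv.Perm GolayPt) z.2
    (u : ↥Spor.M22).2 r hr hz1 hzr hu1 hu2 (h5_commute_of_mem z u u.2)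

/-- the centralizer in `M22` of an element of order `3` has order not divisible by `8` -/
theorem centralizer_three (z : ↥Spor.M22) (hz : orderOf z = 3) :
    ¬ 8 ∣ Nat.card (Subgroup.centralizer ({z} : Set ↥Spor.M22)) := by
  classical
  intro h8
  obtain ⟨hz1, hz3⟩ := h5_coe_data z 3 hz (by norm_num)
  obtain ⟨hzM, hzn, hz0⟩ := h5_mem (z : Equiv.Perm GolayPt) z.2
  -- six fixed points
  have hFz : (fixF (z : Equiv.Perm GolayPt)).card = 6 := by
    rcases Cfsg.Agent.Lib.Helper9.Idx.card_fixF_three _ hzM hz1 hz3 with h | h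
    · exfalso
      have : (none : GolayPt) ∈ fixF (z : Equiv.Perm GolayPt) := (mem_fixF _ none).mpr hzn
      rw [Finset.card_eq_zero] at h
      rw [h] at this
      exact absurd this (Finset.notMem_empty _)
    · exact h
  set Δ : Finset GolayPt := fixF (z : Equiv.Perm GolayPt) \ {none, some 0} with hΔ
  have hsub : ({none, some 0} : Finset GolayPt) ⊆ fixF (z : Equiv.Perm GolayPt) := by
    intro b hb
    rw [Finset.mem_insert, Finset.mem_singleton] at hb
    rw [mem_fixF]
    rcases hb with rfl | rfl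
    · exact hzn
    · exact hz0
  have hΔcard : Δ.card = 4 := by
    rw [hΔ, Finset.card_sdiff_of_subset hsub, hFz]
    decide
  have hΔne : Δ.Nonempty := by
    rw [← Finset.card_pos, hΔcard]; norm_num
  obtain ⟨δ, hδ⟩ := hΔne
  have hδ' := hδ
  rw [hΔ, Finset.mem_sdiff, mem_fixF, Finset.mem_insert, Finset.mem_singleton, not_or] at hδ'
  obtain ⟨hzδ, hδ1, hδ0⟩ := hδ'
  -- the centralizer acts on Δ
  set C := Subgroup.centralizer ({z} : Set ↥Spor.M22) with hC
  have horb : MulAction.orbit ↥C δ ⊆ (Δ : Set GolayPt) := by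
    rintro _ ⟨c, rfl⟩
    have hcomm := h5_commute_of_mem z c c.2
    obtain ⟨_, hcn, hc0⟩ := h5_mem ((c : ↥Spor.M22) : Equiv.Perm GolayPt) (c : ↥Spor.M22).2
    show ((c : ↥Spor.M22) : Equiv.Perm GolayPt) δ ∈ (Δ : Set GolayPt)
    rw [Finset.mem_coe, hΔ, Finset.mem_sdiff, mem_fixF, Finset.mem_insert, Finset.mem_singleton,
      not_or]
    refine ⟨?_, ?_, ?_⟩
    · have := congrArg (fun f : Equiv.Perm GolayPt => f δ) hcomm
      simp only [Equiv.Perm.mul_apply] at this
      rw [← this, hzδ]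
    · intro h
      apply hδ1
      apply ((c : ↥Spor.M22) : Equiv.Perm GolayPt).injective
      rw [h, hcn]
    · intro h
      apply hδ0
      apply ((c : ↥Spor.M22) : Equiv.Perm GolayPt).injective
      rw [h, hc0]
  have hn4 : (MulAction.orbit ↥C δ).ncard ≤ 4 := by
    have := Set.ncard_le_ncard horb (Finset.finite_toSet Δ)
    rwa [Set.ncard_coe_finset, hΔcard] at this
  have hn1 : 1 ≤ (MulAction.orbit ↥C δ).ncard := by
    rw [Nat.succ_le_iff, Set.ncard_pos (Set.Finite.subset (Finset.finite_toSet Δ) horb)]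
    exact ⟨δ, MulAction.mem_orbit_self δ⟩
  have hidx := MulAction.index_stabilizer ↥C δ
  have hmul := (MulAction.stabilizer ↥C δ).card_mul_index
  rw [hidx] at hmul
  have h2 : 2 ∣ Nat.card (MulAction.stabilizer ↥C δ) := by
    rw [← hmul] at h8
    generalize (MulAction.orbit ↥C δ).ncard = n at hn4 hn1 h8
    generalize Nat.card (MulAction.stabilizer ↥C δ) = s at h8
    interval_cases n <;> omega
  haveI : Fact (Nat.Prime 2) := ⟨Nat.prime_two⟩
  obtain ⟨u, hu⟩ := exists_prime_orderOf_dvd_card' 2 h2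
  have hu' : orderOf ((u : ↥C) : ↥Spor.M22) = 2 := by
    rw [Subgroup.orderOf_coe, Subgroup.orderOf_coe]; exact hu
  obtain ⟨hu1, hu2⟩ := h5_coe_data ((u : ↥C) : ↥Spor.M22) 2 hu' (by norm_num)
  have huδ : (((u : ↥C) : ↥Spor.M22) : Equiv.Perm GolayPt) δ = δ := by
    have := u.2
    rw [MulAction.mem_stabilizer_iff] at this
    exact this
  exact h5_no_invol_three (z : Equiv.Perm GolayPt) (((u : ↥C) : ↥Spor.M22) : Equiv.Perm GolayPt)
    z.2 ((u : ↥C) : ↥Spor.M22).2 hz1 hz3 hu1 hu2 (h5_commute_of_mem z (u : ↥C) (u : ↥C).2)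
    δ hδ1 hδ0 hzδ huδ

/-- arithmetic: `c * i = 2^7 * 3465` and `8 ∤ c` give `2^5 ∣ i` -/
theorem h5_arith (c i : ℕ) (h : c * i = 2 ^ 7 * 3465) (h8 : ¬ 8 ∣ c) : 2 ^ 5 ∣ i := by
  have hc0 : c ≠ 0 := by rintro rfl; simp at h
  have hi0 : i ≠ 0 := by rintro rfl; simp at h
  have hf := Nat.factorization_mul hc0 hi0
  have h7 : (c * i).factorization 2 = 7 := by
    rw [h]
    have e1 : (2 ^ 7 * 3465 : ℕ).factorization 2 = (2 ^ 7).factorization 2 + (3465).factorization 2 := by
      rw [Nat.factorization_mul (by norm_num) (by norm_num)]; rfl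
    rw [e1, Nat.Prime.factorization_pow Nat.prime_two,
      Nat.factorization_eq_zero_of_not_dvd (by norm_num : ¬ 2 ∣ 3465)]
    simp
  have hc2 : c.factorization 2 ≤ 2 := by
    by_contra hlt
    push Not at hlt
    apply h8
    have : 2 ^ 3 ∣ c := (Nat.Prime.pow_dvd_iff_le_factorization Nat.prime_two hc0).mpr hlt
    simpa using this
  have hi5 : 5 ≤ i.factorization 2 := by
    have := congrArg (fun f => f 2) hf
    simp only [Finsupp.add_apply] at this
    omega
  exact (Nat.Prime.pow_dvd_iff_le_factorization Nat.prime_two hi0).mpr hi5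

/-- prime-order case -/
theorem h5_index_prime (z : ↥Spor.M22) (r : ℕ) (hr : r = 3 ∨ r = 5 ∨ r = 7 ∨ r = 11)
    (hz : orderOf z = r) :
    2 ^ 5 ∣ (Subgroup.centralizer ({z} : Set ↥Spor.M22)).index := by
  have hmul := (Subgroup.centralizer ({z} : Set ↥Spor.M22)).card_mul_index
  rw [h5_card_G] at hmul
  apply h5_arith _ _ hmul
  rcases hr with rfl | hr
  · exact centralizer_three z hz
  · intro h8
    exact centralizer_odd z r hr hz (Dvd.dvd.trans (by norm_num) h8)

/-- **C3 / HC**: in `M22` the centralizer of every non-identity element of odd order has index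
divisible by `2 ^ 5`. -/
theorem hC : ∀ y : ↥Spor.M22, y ≠ 1 → ¬ 2 ∣ orderOf y →
    2 ^ 5 ∣ (Subgroup.centralizer ({y} : Set ↥Spor.M22)).index := by
  intro y hy1 hy2
  haveI : Finite ↥Spor.M22 := Nat.finite_of_card_ne_zero (by rw [h5_card_G]; norm_num)
  have hn1 : orderOf y ≠ 1 := fun h => hy1 (orderOf_eq_one_iff.mp h)
  have hn0 : orderOf y ≠ 0 := (orderOf_pos y).ne'
  set r := (orderOf y).minFac with hr
  have hrp : r.Prime := Nat.minFac_prime hn1
  have hrd : r ∣ orderOf y := Nat.minFac_dvd _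
  have hr2 : r ≠ 2 := fun h => hy2 (h ▸ hrd)
  have hrG : r ∣ 2 ^ 7 * 3465 := by
    rw [← h5_card_G]; exact hrd.trans (orderOf_dvd_natCard y)
  have hr' : r = 3 ∨ r = 5 ∨ r = 7 ∨ r = 11 := by
    have h3465 : (2 ^ 7 * 3465 : ℕ) = 2 ^ 7 * (3 ^ 2 * 5 * 7 * 11) := by norm_num
    rw [h3465] at hrG
    rcases (Nat.Prime.dvd_mul hrp).mp hrG with h | h
    · exact absurd ((Nat.prime_dvd_prime_iff_eq hrp Nat.prime_two).mp (hrp.dvd_of_dvd_pow h)) hr2
    · rcases (Nat.Prime.dvd_mul hrp).mp h with h | h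
      · rcases (Nat.Prime.dvd_mul hrp).mp h with h | h
        · rcases (Nat.Prime.dvd_mul hrp).mp h with h | h
          · left
            exact (Nat.prime_dvd_prime_iff_eq hrp Nat.prime_three).mp (hrp.dvd_of_dvd_pow h)
          · right; left
            exact (Nat.prime_dvd_prime_iff_eq hrp (by norm_num)).mp h
        · right; right; left
          exact (Nat.prime_dvd_prime_iff_eq hrp (by norm_num)).mp h
      · right; right; right
        exact (Nat.prime_dvd_prime_iff_eq hrp (by norm_num)).mp h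
  set z := y ^ (orderOf y / r) with hz
  have hzo : orderOf z = r := orderOf_pow_orderOf_div hn0 hrd
  have hle : Subgroup.centralizer ({y} : Set ↥Spor.M22) ≤
      Subgroup.centralizer ({z} : Set ↥Spor.M22) := by
    intro c hc
    rw [Subgroup.mem_centralizer_iff] at hc ⊢
    intro h hh
    rw [Set.mem_singleton_iff] at hh
    subst hh
    have hcy : y * c = c * y := hc y (Set.mem_singleton y)
    exact ((Commute.pow_left (show Commute y c from hcy) _).eq)
  exact (h5_index_prime z r hr' hzo).trans (Subgroup.index_dvd_of_le hle)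

end Cfsg.Agent.Lib.Helper5.M22HC
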