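import Mathlib
import Cfsg.Agent.Lib.Helper5.M22HC

/-!
# S5005, unit C2: Sylow `p`-subgroups of `M22` are self-centralizing for `p = 5, 7, 11`.
-/

set_option autoImplicit false

namespace Cfsg.Agent.Lib.Helper5.M22C2

open Cfsg Finset Cfsg.Agent.Lib.Helper9.OutM Cfsg.Agent.Lib.Helper5.M22HC

theorem h5_card_fix_three (y : Equiv.Perm GolayPt) (hy : y ∈ Spor.M22) (hy1 : y ≠ 1)
    (hy3 : y ^ 3 = 1) : (fixF y).card = 6 := by
  obtain ⟨hM, hn, _⟩ := h5_mem y hy
  rcases Cfsg.Agent.Lib.Helper9.Idx.card_fixF_three y hM hy1 hy3 with h | h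
  · exfalso
    have : (none : GolayPt) ∈ fixF y := (mem_fixF _ none).mpr hn
    rw [Finset.card_eq_zero] at h
    rw [h] at this
    exact absurd this (Finset.notMem_empty _)
  · exact h

/-- no element of order `3` of `M22` commutes with an element of order `5`, `7` or `11` -/
theorem h5_no_three (z y : Equiv.Perm GolayPt) (hz : z ∈ Spor.M22) (hy : y ∈ Spor.M22) (p : ℕ)
    (hp : p = 5 ∨ p = 7 ∨ p = 11) (hz1 : z ≠ 1) (hzp : z ^ p = 1) (hy1 : y ≠ 1)
    (hy3 : y ^ 3 = 1) (hc : y * z = z * y) : False := by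
  obtain ⟨hzM, _, _⟩ := h5_mem z hz
  have hy6 := h5_card_fix_three y hy hy1 hy3
  have hk2 := h5_two_le z y hz hy
  have hkle : (fixF y ∩ fixF z).card ≤ (fixF z).card := Finset.card_le_card Finset.inter_subset_right
  have hFz : (fixF z).card = 24 % p :=
    card_fixF_prime z hzM hz1 p (by rcases hp with h | h | h <;> simp [h]) hzp
  rcases hp with rfl | rfl | rfl
  · have : Fact (Nat.Prime 5) := ⟨by norm_num⟩
    have hmod := h5_card_modEq z y 5 hzp hc
    rw [hy6] at hmod
    unfold Nat.ModEq at hmod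
    omega
  · have : Fact (Nat.Prime 7) := ⟨by norm_num⟩
    have hmod := h5_card_modEq z y 7 hzp hc
    rw [hy6] at hmod
    unfold Nat.ModEq at hmod
    omega
  · have : Fact (Nat.Prime 11) := ⟨by norm_num⟩
    have hmod := h5_card_modEq z y 11 hzp hc
    rw [hy6] at hmod
    unfold Nat.ModEq at hmod
    omega

/-- no two commuting elements of `M22` have distinct orders in `{5, 7, 11}` -/
theorem h5_no_pq (z y : Equiv.Perm GolayPt) (hz : z ∈ Spor.M22) (hy : y ∈ Spor.M22) (p q : ℕ)
    (hp : p = 5 ∨ p = 7 ∨ p = 11) (hq : q = 5 ∨ q = 7 ∨ q = 11) (hpq : p ≠ q)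
    (hz1 : z ≠ 1) (hzp : z ^ p = 1) (hy1 : y ≠ 1) (hyq : y ^ q = 1) (hc : y * z = z * y) :
    False := by
  obtain ⟨hzM, _, _⟩ := h5_mem z hz
  obtain ⟨hyM, _, _⟩ := h5_mem y hy
  have hk2 := h5_two_le z y hz hy
  have hkz : (fixF y ∩ fixF z).card ≤ (fixF z).card := Finset.card_le_card Finset.inter_subset_right
  have hky : (fixF y ∩ fixF z).card ≤ (fixF y).card := Finset.card_le_card Finset.inter_subset_left
  have hFz : (fixF z).card = 24 % p :=
    card_fixF_prime z hzM hz1 p (by rcases hp with h | h | h <;> simp [h]) hzp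
  have hFy : (fixF y).card = 24 % q :=
    card_fixF_prime y hyM hy1 q (by rcases hq with h | h | h <;> simp [h]) hyq
  have hpp : p.Prime := by rcases hp with rfl | rfl | rfl <;> norm_num
  have hqp : q.Prime := by rcases hq with rfl | rfl | rfl <;> norm_num
  have : Fact p.Prime := ⟨hpp⟩
  have : Fact q.Prime := ⟨hqp⟩
  have hmod1 := h5_card_modEq z y p hzp hc
  have hmod2 := h5_card_modEq y z q hyq hc.symm
  rw [Finset.inter_comm] at hmod2
  rw [hFy] at hmod1
  rw [hFz] at hmod2
  unfold Nat.ModEq at hmod1 hmod2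
  rcases hp with rfl | rfl | rfl <;> rcases hq with rfl | rfl | rfl <;>
    first | exact absurd rfl hpq | omega

/-- the centralizer of an element of order `p ∈ {5, 7, 11}` of `M22` has order `p` -/
theorem card_centralizer (z : ↥Spor.M22) (p : ℕ) (hp : p = 5 ∨ p = 7 ∨ p = 11)
    (hz : orderOf z = p) :
    Nat.card (Subgroup.centralizer ({z} : Set ↥Spor.M22)) = p := by
  haveI : Finite ↥Spor.M22 := Nat.finite_of_card_ne_zero (by rw [h5_card_G]; norm_num)
  have hpp : p.Prime := by rcases hp with rfl | rfl | rfl <;> norm_num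
  set C := Subgroup.centralizer ({z} : Set ↥Spor.M22) with hC
  obtain ⟨hz1, hzp⟩ := h5_coe_data z p hz hpp.one_lt.ne'
  have hn0 : Nat.card C ≠ 0 := Nat.card_pos.ne'
  have hdvdG : Nat.card C ∣ 2 ^ 7 * 3465 := by
    rw [← h5_card_G]; exact Subgroup.card_subgroup_dvd_card C
  -- the only prime divisor of |C| is p
  have honly : ∀ {q : ℕ}, q.Prime → q ∣ Nat.card C → q = p := by
    intro q hq hqd
    by_contra hne
    have : Fact q.Prime := ⟨hq⟩
    obtain ⟨y, hy⟩ := exists_prime_orderOf_dvd_card' q hqd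
    have hy' : orderOf (y : ↥Spor.M22) = q := by rw [Subgroup.orderOf_coe]; exact hy
    obtain ⟨hy1, hyq⟩ := h5_coe_data (y : ↥Spor.M22) q hy' hq.one_lt.ne'
    have hcomm := h5_commute_of_mem z y y.2
    have hqG : q ∣ 2 ^ 7 * (3 ^ 2 * 5 * 7 * 11) := by
      have : (2 ^ 7 * 3465 : ℕ) = 2 ^ 7 * (3 ^ 2 * 5 * 7 * 11) := by norm_num
      rw [← this]; exact hqd.trans hdvdG
    have hq' : q = 2 ∨ q = 3 ∨ q = 5 ∨ q = 7 ∨ q = 11 := by
      rcases (Nat.Prime.dvd_mul hq).mp hqG with h | h
      · left; exact (Nat.prime_dvd_prime_iff_eq hq Nat.prime_two).mp (hq.dvd_of_dvd_pow h)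
      · rcases (Nat.Prime.dvd_mul hq).mp h with h | h
        · rcases (Nat.Prime.dvd_mul hq).mp h with h | h
          · rcases (Nat.Prime.dvd_mul hq).mp h with h | h
            · right; left
              exact (Nat.prime_dvd_prime_iff_eq hq Nat.prime_three).mp (hq.dvd_of_dvd_pow h)
            · right; right; left
              exact (Nat.prime_dvd_prime_iff_eq hq (by norm_num)).mp h
          · right; right; right; left
            exact (Nat.prime_dvd_prime_iff_eq hq (by norm_num)).mp h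
        · right; right; right; right
          exact (Nat.prime_dvd_prime_iff_eq hq (by norm_num)).mp h
    rcases hq' with rfl | rfl | hq'
    · exact centralizer_odd z p hp hz hqd
    · exact h5_no_three (z : Equiv.Perm GolayPt) ((y : ↥Spor.M22) : Equiv.Perm GolayPt) z.2
        (y : ↥Spor.M22).2 p hp hz1 hzp hy1 hyq hcomm
    · exact h5_no_pq (z : Equiv.Perm GolayPt) ((y : ↥Spor.M22) : Equiv.Perm GolayPt) z.2
        (y : ↥Spor.M22).2 p q hp hq' (fun h => hne h.symm) hz1 hzp hy1 hyq hcomm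
  have hpow := Nat.eq_prime_pow_of_unique_prime_dvd hn0 honly
  set k := (Nat.card C).primeFactorsList.length with hk
  -- p divides |C|
  have hzC : z ∈ C := by
    rw [hC, Subgroup.mem_centralizer_iff]
    intro h hh
    rw [Set.mem_singleton_iff] at hh
    rw [hh]
  have hpd : p ∣ Nat.card C := by
    have := orderOf_dvd_natCard (⟨z, hzC⟩ : ↥C)
    rwa [← Subgroup.orderOf_coe, hz] at this
  -- p^2 does not divide |G|
  have hk1 : k ≤ 1 := by
    by_contra hlt
    push Not at hlt
    have h2 : p ^ 2 ∣ 2 ^ 7 * 3465 := by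
      refine Dvd.dvd.trans ?_ hdvdG
      rw [hpow]
      exact pow_dvd_pow p hlt
    rcases hp with rfl | rfl | rfl <;> norm_num at h2
  have hk0 : k ≠ 0 := by
    intro h0
    rw [hpow, h0, pow_zero] at hpd
    exact hpp.one_lt.ne' (Nat.dvd_one.mp hpd)
  have : k = 1 := by omega
  rw [hpow, this, pow_one]

/-- **C2**: Sylow `p`-subgroups of `M22` are self-centralizing for `p = 5, 7, 11`. -/
theorem sylow_self_centralizing (p : ℕ) [Fact p.Prime] (hp : p = 5 ∨ p = 7 ∨ p = 11)
    (P : Sylow p ↥Spor.M22) :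
    Subgroup.centralizer ((P : Subgroup ↥Spor.M22) : Set ↥Spor.M22) = (P : Subgroup ↥Spor.M22) := by
  haveI : Finite ↥Spor.M22 := Nat.finite_of_card_ne_zero (by rw [h5_card_G]; norm_num)
  have hpp : p.Prime := Fact.out
  -- P is nontrivial
  have hpG : p ∣ Nat.card ↥Spor.M22 := by
    rw [h5_card_G]
    rcases hp with rfl | rfl | rfl <;> norm_num
  have hpP : p ∣ Nat.card (P : Subgroup ↥Spor.M22) := P.dvd_card_of_dvd_card hpG
  obtain ⟨z0, hz0⟩ := exists_prime_orderOf_dvd_card' p hpP
  set z : ↥Spor.M22 := (z0 : ↥Spor.M22) with hzdef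
  have hz : orderOf z = p := by rw [hzdef, Subgroup.orderOf_coe]; exact hz0
  have hzP : z ∈ (P : Subgroup ↥Spor.M22) := z0.2
  have hcard := card_centralizer z p hp hz
  set C := Subgroup.centralizer ({z} : Set ↥Spor.M22) with hC
  -- zpowers z = C
  have hzC : Subgroup.zpowers z ≤ C := by
    rw [Subgroup.zpowers_le, hC, Subgroup.mem_centralizer_iff]
    intro h hh
    rw [Set.mem_singleton_iff] at hh
    rw [hh]
  have hzpow : Subgroup.zpowers z = C := by
    apply Subgroup.eq_of_le_of_card_ge hzC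
    rw [hcard, Nat.card_zpowers, hz]
  -- P ≤ C: P is a p-group containing z ... use cardinalities: |P| = p
  have hPcard : Nat.card (P : Subgroup ↥Spor.M22) = p := by
    obtain ⟨k, hk⟩ := (IsPGroup.iff_card.mp P.isPGroup')
    have hkd : p ^ k ∣ 2 ^ 7 * 3465 := by
      rw [← hk, ← h5_card_G]; exact Subgroup.card_subgroup_dvd_card _
    have hk1 : k ≤ 1 := by
      by_contra hlt
      push Not at hlt
      have h2 : p ^ 2 ∣ 2 ^ 7 * 3465 := (pow_dvd_pow p hlt).trans hkd
      rcases hp with rfl | rfl | rfl <;> norm_num at h2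
    have hk0 : k ≠ 0 := by
      intro h0
      rw [hk, h0, pow_zero] at hpP
      exact hpp.one_lt.ne' (Nat.dvd_one.mp hpP)
    have : k = 1 := by omega
    rw [hk, this, pow_one]
  have hzP' : Subgroup.zpowers z = (P : Subgroup ↥Spor.M22) := by
    apply Subgroup.eq_of_le_of_card_ge (Subgroup.zpowers_le.mpr hzP)
    rw [hPcard, Nat.card_zpowers, hz]
  -- conclude
  apply le_antisymm
  · intro c hc
    rw [← hzP', hzpow, hC, Subgroup.mem_centralizer_iff]
    intro h hh
    rw [Set.mem_singleton_iff] at hh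
    rw [hh]
    rw [Subgroup.mem_centralizer_iff] at hc
    exact hc z hzP
  · intro c hc
    rw [Subgroup.mem_centralizer_iff]
    intro h hh
    have hc' : c ∈ Subgroup.zpowers z := by rw [hzP']; exact hc
    have hh' : h ∈ Subgroup.zpowers z := by rw [hzP']; exact hh
    obtain ⟨i, rfl⟩ := Subgroup.mem_zpowers_iff.mp hc'
    obtain ⟨j, rfl⟩ := Subgroup.mem_zpowers_iff.mp hh'
    rw [← zpow_add, ← zpow_add, add_comm]

end Cfsg.Agent.Lib.Helper5.M22C2
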