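import Cfsg.Agent.Lib.Helper7.CentrallyLarge3

/-!
# Chermak–Delgado lattice: abelian members, maximal abelian members (farm MCL, S3008(b))
-/

set_option autoImplicit false

namespace Cfsg.Agent.Lib.Helper5.MCL

open Cfsg Cfsg.Agent.Lib.Helper7
open scoped Pointwise

variable {G : Type*} [Group G]

/-- centralizer of a subgroup, as a subgroup -/
abbrev Cz (H : Subgroup G) : Subgroup G := Subgroup.centralizer (H : Set G)

/-- member of the Chermak–Delgado lattice -/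
def Mem (H : Subgroup G) : Prop := cdMeasure H = maxCentralizerProduct G

/-- abelian member -/
def AbMem (Z : Subgroup G) : Prop := Mem Z ∧ Z ≤ Cz Z

/-- maximal abelian member -/
def MaxAb (Z : Subgroup G) : Prop := AbMem Z ∧ ∀ Y : Subgroup G, AbMem Y → Z ≤ Y → Y ≤ Z

theorem cz_anti {H K : Subgroup G} (h : H ≤ K) : Cz K ≤ Cz H :=
  Subgroup.centralizer_le (by exact_mod_cast h)

theorem le_cz_comm {H K : Subgroup G} (h : H ≤ Cz K) : K ≤ Cz H :=
  Subgroup.le_centralizer_iff.mp h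

theorem cz_sup (H K : Subgroup G) : Cz (H ⊔ K) = Cz H ⊓ Cz K := centralizer_sup_eq H K

theorem le_cz_cz (H : Subgroup G) : H ≤ Cz (Cz H) := le_cz_comm le_rfl

section fin
variable [Finite G]

theorem Mem.card_mul {H : Subgroup G} (h : Mem H) :
    Nat.card H * Nat.card (Cz H) = maxCentralizerProduct G := h

theorem card_mul_le (H : Subgroup G) :
    Nat.card H * Nat.card (Cz H) ≤ maxCentralizerProduct G := cdMeasure_le_max H

theorem mem_of_le {H : Subgroup G}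
    (h : maxCentralizerProduct G ≤ Nat.card H * Nat.card (Cz H)) : Mem H :=
  le_antisymm (cdMeasure_le_max H) h

theorem Mem.sup {H K : Subgroup G} (hH : Mem H) (hK : Mem K) : Mem (H ⊔ K) :=
  (chermak_delgado H K hH hK).2.1

theorem Mem.inf {H K : Subgroup G} (hH : Mem H) (hK : Mem K) : Mem (H ⊓ K) :=
  (chermak_delgado H K hH hK).2.2.1

theorem Mem.sup_coe {H K : Subgroup G} (hH : Mem H) (hK : Mem K) :
    ((H ⊔ K : Subgroup G) : Set G) = (H : Set G) * (K : Set G) :=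
  (chermak_delgado H K hH hK).1

theorem Mem.cz_inf {H K : Subgroup G} (hH : Mem H) (hK : Mem K) :
    Cz (H ⊓ K) = Cz H ⊔ Cz K :=
  (chermak_delgado H K hH hK).2.2.2.2

theorem Mem.cz {H : Subgroup G} (hH : Mem H) : Mem (Cz H) :=
  (chermak_delgado_centralizer H hH).1

theorem Mem.cz_cz {H : Subgroup G} (hH : Mem H) : Cz (Cz H) = H :=
  (chermak_delgado_centralizer H hH).2.symm

theorem Mem.card_sup_mul_card_inf {H K : Subgroup G} (hH : Mem H) (hK : Mem K) :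
    Nat.card (H ⊔ K : Subgroup G) * Nat.card (H ⊓ K : Subgroup G) = Nat.card H * Nat.card K := by
  rw [← card_mul_set_mul_card_inf H K, ← hH.sup_coe hK]
  rfl

theorem Mem.exists_mul {H K : Subgroup G} (hH : Mem H) (hK : Mem K) {x : G} (hx : x ∈ H ⊔ K) :
    ∃ h ∈ H, ∃ k ∈ K, h * k = x := by
  have : x ∈ ((H ⊔ K : Subgroup G) : Set G) := hx
  rw [hH.sup_coe hK] at this
  exact Set.mem_mul.mp this

theorem Mem.le_of_cz_le {H K : Subgroup G} (hH : Mem H) (hK : Mem K) (h : Cz K ≤ Cz H) :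
    H ≤ K := by
  rw [← hH.cz_cz, ← hK.cz_cz]; exact cz_anti h

theorem isCentrallyLarge_iff_mem (Q : Subgroup G) : IsCentrallyLarge Q ↔ Mem Q ∧ Cz Q ≤ Q :=
  ⟨fun h => centrallyLarge_cd Q h, fun h => centrallyLarge_of_cd Q h.1 h.2⟩

theorem AbMem.cl {Z : Subgroup G} (hZ : AbMem Z) : IsCentrallyLarge (Cz Z) := by
  rw [isCentrallyLarge_iff_mem]
  refine ⟨hZ.1.cz, ?_⟩
  rw [hZ.1.cz_cz]; exact hZ.2

theorem abMem_cz_of_cl {Q : Subgroup G} (hQ : IsCentrallyLarge Q) : AbMem (Cz Q) := by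
  obtain ⟨h1, h2⟩ := (isCentrallyLarge_iff_mem Q).mp hQ
  refine ⟨h1.cz, ?_⟩
  rw [h1.cz_cz]; exact h2

theorem AbMem.of_le {Y Z : Subgroup G} (hY : Mem Y) (hZ : Z ≤ Cz Z) (h : Y ≤ Z) : AbMem Y :=
  ⟨hY, h.trans (hZ.trans (cz_anti h))⟩

theorem AbMem.isMulCommutative {Z : Subgroup G} (hZ : AbMem Z) : IsMulCommutative Z :=
  Subgroup.le_centralizer_iff_isMulCommutative.mp hZ.2

/-- the join of two commuting abelian members is an abelian member -/
theorem AbMem.sup {Y Z : Subgroup G} (hY : AbMem Y) (hZ : AbMem Z) (h : Y ≤ Cz Z) :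
    AbMem (Y ⊔ Z) := by
  refine ⟨hY.1.sup hZ.1, ?_⟩
  rw [cz_sup]
  exact sup_le (le_inf hY.2 h) (le_inf (le_cz_comm h) hZ.2)

/-- Lemma B -/
theorem MaxAb.le_of_comm {Z Y : Subgroup G} (hZ : MaxAb Z) (hY : AbMem Y) (h : Y ≤ Cz Z) :
    Y ≤ Z :=
  le_sup_left.trans (hZ.2 _ (hY.sup hZ.1 h) le_sup_right)

theorem MaxAb.inf_cz_le {Z1 Z2 : Subgroup G} (h1 : MaxAb Z1) (h2 : MaxAb Z2) :
    Z1 ⊓ Cz Z2 = Z1 ⊓ Z2 := by
  apply le_antisymm
  · refine le_inf inf_le_left ?_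
    apply h2.le_of_comm _ inf_le_right
    exact AbMem.of_le (h1.1.1.inf h2.1.1.cz) h1.1.2 inf_le_left
  · exact inf_le_inf_left _ h2.1.2

/-- Lemma C: all maximal abelian members have the same order -/
theorem MaxAb.card_eq {Z1 Z2 : Subgroup G} (h1 : MaxAb Z1) (h2 : MaxAb Z2) :
    Nat.card Z1 = Nat.card Z2 := by
  have hQ1 : Mem (Cz Z1) := h1.1.1.cz
  have hH : Mem (Cz Z1 ⊔ Z2) := hQ1.sup h2.1.1
  have e1 := hQ1.card_sup_mul_card_inf h2.1.1
  have e2 := hH.card_mul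
  rw [cz_sup, h1.1.1.cz_cz, h1.inf_cz_le h2] at e2
  rw [inf_comm, h2.inf_cz_le h1, inf_comm] at e1
  have e3 := h1.1.1.card_mul
  have hpos : 0 < Nat.card (Cz Z1) := Nat.card_pos
  have : Nat.card (Cz Z1) * Nat.card Z2 = Nat.card (Cz Z1) * Nat.card Z1 := by
    rw [← e1, e2, ← e3, mul_comm]
  exact (Nat.eq_of_mul_eq_mul_left hpos this).symm

theorem AbMem.exists_maxAb {Y : Subgroup G} (hY : AbMem Y) : ∃ Z, MaxAb Z ∧ Y ≤ Z := by
  obtain ⟨Z, hYZ, hZ⟩ := Set.Finite.exists_le_maximal (s := {Z : Subgroup G | AbMem Z})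
    (Set.toFinite _) hY
  exact ⟨Z, ⟨hZ.1, fun W hW h => hZ.2 hW h⟩, hYZ⟩

theorem AbMem.card_le {Y Z : Subgroup G} (hY : AbMem Y) (hZ : MaxAb Z) :
    Nat.card Y ≤ Nat.card Z := by
  obtain ⟨Z', hZ', hle⟩ := hY.exists_maxAb
  rw [hZ.card_eq hZ']
  exact Subgroup.card_le_of_le hle

theorem AbMem.maxAb_of_card {Y Z : Subgroup G} (hY : AbMem Y) (hZ : MaxAb Z)
    (h : Nat.card Z ≤ Nat.card Y) : MaxAb Y := by
  refine ⟨hY, fun W hW hle => ?_⟩
  have h1 := hW.card_le hZ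
  have : Y = W := Subgroup.eq_of_le_of_card_ge hle (h1.trans h)
  rw [this]

/-- Lemma D -/
theorem MaxAb.replace {Z R : Subgroup G} (hZ : MaxAb Z) (hR : IsCentrallyLarge R) :
    MaxAb ((Z ⊓ R) ⊔ Cz R) := by
  obtain ⟨hRm, hRc⟩ := (isCentrallyLarge_iff_mem R).mp hR
  have hU : AbMem (Cz R) := abMem_cz_of_cl hR
  have hZR : AbMem (Z ⊓ R) := AbMem.of_le (hZ.1.1.inf hRm) hZ.1.2 inf_le_left
  have hcomm : Z ⊓ R ≤ Cz (Cz R) := by rw [hRm.cz_cz]; exact inf_le_right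
  have hY : AbMem ((Z ⊓ R) ⊔ Cz R) := hZR.sup hU hcomm
  apply hY.maxAb_of_card hZ
  have e1 := hZR.1.card_sup_mul_card_inf hU.1
  have hinf : (Z ⊓ R) ⊓ Cz R = Z ⊓ Cz R := by
    rw [inf_assoc, inf_eq_right.mpr hRc]
  rw [hinf] at e1
  have e2 := hZ.1.1.card_sup_mul_card_inf hRm
  have e3 := (hZ.1.1.sup hRm).card_mul
  rw [cz_sup] at e3
  have e4 := hRm.card_mul
  have hle : Nat.card (Z ⊓ Cz R : Subgroup G) ≤ Nat.card (Cz Z ⊓ Cz R : Subgroup G) :=
    Subgroup.card_le_of_le (inf_le_inf_right _ hZ.1.2)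
  set y := Nat.card ((Z ⊓ R) ⊔ Cz R : Subgroup G)
  set a := Nat.card (Z ⊓ Cz R : Subgroup G)
  set b := Nat.card (Z ⊓ R : Subgroup G)
  set u := Nat.card (Cz R)
  set h := Nat.card (Z ⊔ R : Subgroup G)
  set z := Nat.card Z
  set r := Nat.card R
  set c := Nat.card (Cz Z ⊓ Cz R : Subgroup G)
  have hr : 0 < r := Nat.card_pos
  have hc : 0 < c := Nat.card_pos
  -- z * c = u * b
  have k1 : r * (z * c) = r * (u * b) := by
    calc r * (z * c) = (z * r) * c := by ring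
      _ = (h * b) * c := by rw [e2]
      _ = (h * c) * b := by ring
      _ = (r * u) * b := by rw [e3, e4]
      _ = r * (u * b) := by ring
  have k2 : z * c = u * b := Nat.eq_of_mul_eq_mul_left hr k1
  -- y * a = b * u
  have k3 : z * c ≤ y * c := by
    calc z * c = y * a := by rw [k2, e1]; ring
      _ ≤ y * c := Nat.mul_le_mul_left _ hle
  exact Nat.le_of_mul_le_mul_right k3 hc

end fin

end Cfsg.Agent.Lib.Helper5.MCL
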