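import Cfsg.Agent.Lib.Helper5.MCLBase

/-!
# Conjugation API and the Glauberman product lemma in cardinal form (farm MCL, S3008(b))
-/

set_option autoImplicit false

namespace Cfsg.Agent.Lib.Helper5.MCL

open Cfsg Cfsg.Agent.Lib.Helper7
open scoped Pointwise

variable {G : Type*} [Group G]

/-- the conjugate `g H g⁻¹` -/
def cj (g : G) (H : Subgroup G) : Subgroup G := H.map (MulAut.conj g).toMonoidHom

theorem mem_cj {g x : G} {H : Subgroup G} : x ∈ cj g H ↔ g⁻¹ * x * g ∈ H := by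
  unfold cj
  rw [Subgroup.mem_map_equiv]
  simp [MulAut.conj_symm_apply]

theorem conj_mem_cj {g x : G} {H : Subgroup G} (hx : x ∈ H) : g * x * g⁻¹ ∈ cj g H := by
  rw [mem_cj]; simpa [mul_assoc] using hx

@[simp] theorem cj_one (H : Subgroup G) : cj 1 H = H := by
  ext x; simp [mem_cj]

theorem cj_mul (g h : G) (H : Subgroup G) : cj (g * h) H = cj g (cj h H) := by
  ext x
  simp only [mem_cj, mul_inv_rev, mul_assoc]

theorem cj_inv_cj (g : G) (H : Subgroup G) : cj g⁻¹ (cj g H) = H := by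
  rw [← cj_mul]; simp

theorem cj_cj_inv (g : G) (H : Subgroup G) : cj g (cj g⁻¹ H) = H := by
  rw [← cj_mul]; simp

theorem cj_mono {g : G} {H K : Subgroup G} (h : H ≤ K) : cj g H ≤ cj g K :=
  Subgroup.map_mono h

theorem cj_le_cj_iff {g : G} {H K : Subgroup G} : cj g H ≤ cj g K ↔ H ≤ K := by
  refine ⟨fun h => ?_, cj_mono⟩
  have := cj_mono (g := g⁻¹) h
  rwa [cj_inv_cj, cj_inv_cj] at this

theorem cj_le_iff {g : G} {H K : Subgroup G} : cj g H ≤ K ↔ H ≤ cj g⁻¹ K := by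
  rw [← cj_le_cj_iff (g := g⁻¹), cj_inv_cj]

theorem card_cj (g : G) (H : Subgroup G) : Nat.card (cj g H) = Nat.card H :=
  Subgroup.card_map_of_injective (MulAut.conj g).injective

theorem cj_sup (g : G) (H K : Subgroup G) : cj g (H ⊔ K) = cj g H ⊔ cj g K :=
  Subgroup.map_sup H K _

theorem cj_inf (g : G) (H K : Subgroup G) : cj g (H ⊓ K) = cj g H ⊓ cj g K :=
  Subgroup.map_inf H K _ (MulAut.conj g).injective

theorem cj_iSup {ι : Sort*} (g : G) (f : ι → Subgroup G) : cj g (⨆ i, f i) = ⨆ i, cj g (f i) :=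
  Subgroup.map_iSup _ f

theorem cj_iInf {ι : Sort*} (g : G) (f : ι → Subgroup G) : cj g (⨅ i, f i) = ⨅ i, cj g (f i) := by
  ext x
  simp only [mem_cj, Subgroup.mem_iInf]

theorem cz_cj (g : G) (H : Subgroup G) : Cz (cj g H) = cj g (Cz H) := by
  ext x
  rw [mem_cj, Subgroup.mem_centralizer_iff, Subgroup.mem_centralizer_iff]
  constructor
  · intro h y hy
    have := h (g * y * g⁻¹) (conj_mem_cj hy)
    calc y * (g⁻¹ * x * g) = g⁻¹ * ((g * y * g⁻¹) * x) * g := by group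
      _ = g⁻¹ * (x * (g * y * g⁻¹)) * g := by rw [this]
      _ = g⁻¹ * x * g * y := by group
  · intro h y hy
    have hy' : g⁻¹ * y * g ∈ H := mem_cj.mp hy
    have := h _ hy'
    calc y * x = g * ((g⁻¹ * y * g) * (g⁻¹ * x * g)) * g⁻¹ := by group
      _ = g * ((g⁻¹ * x * g) * (g⁻¹ * y * g)) * g⁻¹ := by rw [this]
      _ = x * y := by group

theorem mem_normalizer_iff_cj {g : G} {H : Subgroup G} :
    g ∈ Subgroup.normalizer (H : Set G) ↔ cj g H = H := by
  rw [Subgroup.mem_normalizer_iff]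
  constructor
  · intro h
    ext x
    rw [mem_cj]
    have := h (g⁻¹ * x * g)
    rw [this]
    have e : g * (g⁻¹ * x * g) * g⁻¹ = x := by group
    rw [e]
  · intro h x
    constructor
    · intro hx
      rw [← h]; exact conj_mem_cj hx
    · intro hx
      rw [← h, mem_cj] at hx
      have e : g⁻¹ * (g * x * g⁻¹) * g = x := by group
      rwa [e] at hx

theorem cj_eq_of_mem_normalizer {g : G} {H : Subgroup G}
    (h : g ∈ Subgroup.normalizer (H : Set G)) : cj g H = H := mem_normalizer_iff_cj.mp h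

theorem cj_eq_of_mem {g : G} {H : Subgroup G} (h : g ∈ H) : cj g H = H :=
  cj_eq_of_mem_normalizer (Subgroup.le_normalizer h)

theorem normalizer_le_normalizer_cz (H : Subgroup G) :
    Subgroup.normalizer (H : Set G) ≤ Subgroup.normalizer ((Cz H : Subgroup G) : Set G) := by
  intro g hg
  rw [mem_normalizer_iff_cj] at hg ⊢
  rw [← cz_cj, hg]

section fin
variable [Finite G]

theorem mem_cj_iff (g : G) (H : Subgroup G) : Mem (cj g H) ↔ Mem H := by
  unfold Mem cdMeasure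
  change Nat.card (cj g H) * Nat.card (Cz (cj g H)) = _ ↔ Nat.card H * Nat.card (Cz H) = _
  rw [cz_cj, card_cj, card_cj]

theorem abMem_cj_iff (g : G) (H : Subgroup G) : AbMem (cj g H) ↔ AbMem H := by
  unfold AbMem
  rw [mem_cj_iff, cz_cj, cj_le_cj_iff]

theorem MaxAb.cj {Z : Subgroup G} (hZ : MaxAb Z) (g : G) : MaxAb (cj g Z) := by
  refine ⟨(abMem_cj_iff g Z).mpr hZ.1, fun Y hY hle => ?_⟩
  have h1 : AbMem (MCL.cj g⁻¹ Y) := (abMem_cj_iff g⁻¹ Y).mpr hY
  have h2 : Z ≤ MCL.cj g⁻¹ Y := cj_le_iff.mp hle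
  have := hZ.2 _ h1 h2
  rw [cj_le_iff, inv_inv] at this
  exact this

theorem maxAbelian_cj {A : Subgroup G} (hA : A ∈ maxAbelianSubgroups G) (g : G) :
    cj g A ∈ maxAbelianSubgroups G := by
  obtain ⟨h1, h2⟩ := hA
  refine ⟨?_, fun B hB => ?_⟩
  · rw [← Subgroup.le_centralizer_iff_isMulCommutative] at h1 ⊢
    change cj g A ≤ Cz (cj g A)
    rw [cz_cj]; exact cj_mono h1
  · rw [card_cj]; exact h2 B hB

/-! ### Glauberman's product lemma, cardinal form -/

variable {Q A : Subgroup G}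

theorem clA_cl (hQ : IsCentrallyLarge Q) (hA : A ∈ maxAbelianSubgroups G) :
    IsCentrallyLarge (Q ⊔ A) := (centrallyLarge_sup_maxAbelian Q A hQ hA).2.1

theorem clA_coe (hQ : IsCentrallyLarge Q) (hA : A ∈ maxAbelianSubgroups G) :
    ((Q ⊔ A : Subgroup G) : Set G) = (Q : Set G) * (A : Set G) :=
  (centrallyLarge_sup_maxAbelian Q A hQ hA).1

theorem clA_cz (hA : A ∈ maxAbelianSubgroups G) : Cz (Q ⊔ A) = Cz Q ⊓ A := by
  rw [cz_sup]
  have : Cz A = A := maxAbelian_centralizer_eq A hA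
  rw [this]

theorem clA_card (hQ : IsCentrallyLarge Q) (hA : A ∈ maxAbelianSubgroups G) :
    Nat.card A * Nat.card (Cz Q ⊓ A : Subgroup G)
      = Nat.card (Cz Q) * Nat.card (Q ⊓ A : Subgroup G) := by
  obtain ⟨hQm, -⟩ := (isCentrallyLarge_iff_mem Q).mp hQ
  obtain ⟨hSm, -⟩ := (isCentrallyLarge_iff_mem _).mp (clA_cl hQ hA)
  have e1 : Nat.card (Q ⊔ A : Subgroup G) * Nat.card (Q ⊓ A : Subgroup G)
      = Nat.card Q * Nat.card A := by
    rw [← card_mul_set_mul_card_inf Q A, ← clA_coe hQ hA]; rfl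
  have e2 := hSm.card_mul
  rw [clA_cz hA] at e2
  have e3 := hQm.card_mul
  have hq : 0 < Nat.card Q := Nat.card_pos
  apply Nat.eq_of_mul_eq_mul_left hq
  calc Nat.card Q * (Nat.card A * Nat.card (Cz Q ⊓ A : Subgroup G))
      = (Nat.card Q * Nat.card A) * Nat.card (Cz Q ⊓ A : Subgroup G) := by ring
    _ = (Nat.card (Q ⊔ A : Subgroup G) * Nat.card (Cz Q ⊓ A : Subgroup G))
          * Nat.card (Q ⊓ A : Subgroup G) := by rw [← e1]; ring
    _ = (Nat.card Q * Nat.card (Cz Q)) * Nat.card (Q ⊓ A : Subgroup G) := by rw [e2, e3]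
    _ = Nat.card Q * (Nat.card (Cz Q) * Nat.card (Q ⊓ A : Subgroup G)) := by ring

theorem clA_maxAbelian (hQ : IsCentrallyLarge Q) (hA : A ∈ maxAbelianSubgroups G) :
    (Q ⊓ A) ⊔ Cz Q ∈ maxAbelianSubgroups G := by
  obtain ⟨hQm, hQc⟩ := (isCentrallyLarge_iff_mem Q).mp hQ
  have hAc : A ≤ Cz A := Subgroup.le_centralizer_iff_isMulCommutative.mpr hA.1
  have hZ : Cz Q ≤ Cz (Cz Q) := (abMem_cz_of_cl hQ).2
  have hab : (Q ⊓ A) ⊔ Cz Q ≤ Cz ((Q ⊓ A) ⊔ Cz Q) := by
    rw [cz_sup]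
    apply sup_le
    · apply le_inf
      · exact inf_le_right.trans (hAc.trans (cz_anti inf_le_right))
      · rw [hQm.cz_cz]; exact inf_le_left
    · apply le_inf
      · exact cz_anti inf_le_left
      · exact hZ
  have hcard : Nat.card A ≤ Nat.card ((Q ⊓ A) ⊔ Cz Q : Subgroup G) := by
    have i1 := card_mul_card_le_card_sup_mul_card_inf (Q ⊓ A) (Cz Q)
    have hinf : (Q ⊓ A) ⊓ Cz Q = Cz Q ⊓ A := by
      rw [inf_comm, ← inf_assoc, inf_eq_left.mpr hQc]
    rw [hinf] at i1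
    have e := clA_card hQ hA
    have hpos : 0 < Nat.card (Cz Q ⊓ A : Subgroup G) := Nat.card_pos
    apply Nat.le_of_mul_le_mul_right _ hpos
    calc Nat.card A * Nat.card (Cz Q ⊓ A : Subgroup G)
        = Nat.card (Q ⊓ A : Subgroup G) * Nat.card (Cz Q) := by rw [e, mul_comm]
      _ ≤ _ := i1
  exact ⟨Subgroup.le_centralizer_iff_isMulCommutative.mp hab,
    fun B hB => (hA.2 B hB).trans hcard⟩

/-! ### maximal abelian members and minimal centrally large subgroups -/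

theorem MaxAb.minimalCL {Z : Subgroup G} (hZ : MaxAb Z) : IsMinimalCentrallyLarge (Cz Z) := by
  refine ⟨hZ.1.cl, fun R' hle hR' => ?_⟩
  obtain ⟨hRm, -⟩ := (isCentrallyLarge_iff_mem R').mp hR'
  have h1 : AbMem (Cz R') := abMem_cz_of_cl hR'
  have h2 : Z ≤ Cz R' := by
    have := cz_anti hle
    rwa [hZ.1.1.cz_cz] at this
  have h3 : Cz R' ≤ Z := hZ.2 _ h1 h2
  have h4 : Cz R' = Z := le_antisymm h3 h2
  rw [← hRm.cz_cz, h4]

theorem maxAb_cz_of_minimalCL {Q : Subgroup G} (hQ : IsMinimalCentrallyLarge Q) :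
    MaxAb (Cz Q) ∧ Cz (Cz Q) = Q := by
  obtain ⟨hQm, hQc⟩ := (isCentrallyLarge_iff_mem Q).mp hQ.1
  refine ⟨⟨abMem_cz_of_cl hQ.1, fun Y hY hle => ?_⟩, hQm.cz_cz⟩
  have h1 : Cz Y ≤ Q := by
    have := cz_anti hle
    rwa [hQm.cz_cz] at this
  have h2 : Cz Y = Q := hQ.2 _ h1 hY.cl
  rw [← hY.1.cz_cz, h2]

end fin

end Cfsg.Agent.Lib.Helper5.MCL
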