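import Cfsg.Agent.Lib.Helper5.MCLBase2

/-!
# Farm MCL (S3008(b)): shared definitions
-/

set_option autoImplicit false

namespace Cfsg.Agent.Lib.Helper5.MCL

open Cfsg Cfsg.Agent.Lib.Helper7
open scoped Pointwise

variable {G : Type*} [Group G]

/-- product of the `A`-conjugates of `Z` -/
def Mof (Z A : Subgroup G) : Subgroup G := ⨆ a : A, cj (a : G) Z

/-- intersection of the `A`-conjugates of `Z` -/
def Dof (Z A : Subgroup G) : Subgroup G := ⨅ a : A, cj (a : G) Z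

/-- the replacement `(A ∩ M) D` -/
def Zr (Z A : Subgroup G) : Subgroup G := (A ⊓ Mof Z A) ⊔ Dof Z A

/-- join of the abelian subgroups of largest order inside `T` -/
def JT (T : Subgroup G) : Subgroup G := sSup {A | A ∈ maxAbelianSubgroups G ∧ A ≤ T}

/-- `T = C(Z) J(T)` for some maximal abelian member `Z` -/
def Good (T : Subgroup G) : Prop := ∃ Z, MaxAb Z ∧ T = Cz Z ⊔ JT T

theorem cj_le_Mof {Z A : Subgroup G} {a : G} (ha : a ∈ A) : cj a Z ≤ Mof Z A :=
  le_iSup (fun a : A => cj (a : G) Z) ⟨a, ha⟩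

theorem Dof_le_cj {Z A : Subgroup G} {a : G} (ha : a ∈ A) : Dof Z A ≤ cj a Z :=
  iInf_le (fun a : A => cj (a : G) Z) ⟨a, ha⟩

theorem le_Mof (Z A : Subgroup G) : Z ≤ Mof Z A := by
  have := cj_le_Mof (Z := Z) (A := A) (one_mem A)
  rwa [cj_one] at this

theorem Dof_le (Z A : Subgroup G) : Dof Z A ≤ Z := by
  have := Dof_le_cj (Z := Z) (A := A) (one_mem A)
  rwa [cj_one] at this

theorem Dof_le_Zr (Z A : Subgroup G) : Dof Z A ≤ Zr Z A := le_sup_right

theorem cj_Mof {Z A : Subgroup G} {a : G} (ha : a ∈ A) : cj a (Mof Z A) = Mof Z A := by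
  unfold Mof
  rw [cj_iSup]
  apply le_antisymm
  · apply iSup_le
    intro b
    rw [← cj_mul]
    exact cj_le_Mof (A.mul_mem ha b.2)
  · apply iSup_le
    intro b
    have : cj (b : G) Z = cj a (cj (a⁻¹ * b) Z) := by rw [← cj_mul]; simp
    rw [this]
    exact le_iSup (fun b : A => cj a (cj (b : G) Z)) ⟨a⁻¹ * b, A.mul_mem (A.inv_mem ha) b.2⟩

theorem cj_Dof {Z A : Subgroup G} {a : G} (ha : a ∈ A) : cj a (Dof Z A) = Dof Z A := by
  unfold Dof
  rw [cj_iInf]
  apply le_antisymm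
  · apply le_iInf
    intro b
    have : cj (b : G) Z = cj a (cj (a⁻¹ * b) Z) := by rw [← cj_mul]; simp
    rw [this]
    exact iInf_le (fun b : A => cj a (cj (b : G) Z)) ⟨a⁻¹ * b, A.mul_mem (A.inv_mem ha) b.2⟩
  · apply le_iInf
    intro b
    rw [← cj_mul]
    exact Dof_le_cj (A.mul_mem ha b.2)

theorem le_JT {A T : Subgroup G} (hA : A ∈ maxAbelianSubgroups G) (h : A ≤ T) : A ≤ JT T :=
  le_sSup ⟨hA, h⟩

theorem JT_le (T : Subgroup G) : JT T ≤ T := sSup_le (fun _ h => h.2)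

theorem JT_mono {S T : Subgroup G} (h : S ≤ T) : JT S ≤ JT T :=
  sSup_le (fun _ hA => le_JT hA.1 (hA.2.trans h))

end Cfsg.Agent.Lib.Helper5.MCL
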