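import Cfsg.Agent.Lib.Helper5.MCLDefs

/-!
# Farm MCL (S3008(b)), unit U3: the family of good subgroups `T = C(Z) J(T)`
-/

set_option autoImplicit false

namespace Cfsg.Agent.Lib.Helper5.MCL

open Cfsg Cfsg.Agent.Lib.Helper7
open scoped Pointwise

variable {G : Type*} [Group G] [Finite G]

theorem cl_sup_sSup {Q : Subgroup G} (hQ : IsCentrallyLarge Q) (S : Set (Subgroup G))
    (hS : ∀ A ∈ S, A ∈ maxAbelianSubgroups G) : IsCentrallyLarge (Q ⊔ sSup S) := by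
  have hfin : S.Finite := Set.toFinite S
  induction S, hfin using Set.Finite.induction_on with
  | empty => simpa using hQ
  | @insert A S _ _ ih =>
    have h1 := ih (fun B hB => hS B (Set.mem_insert_of_mem _ hB))
    have h2 := clA_cl h1 (hS A (Set.mem_insert _ _))
    rw [sSup_insert]
    have : Q ⊔ (A ⊔ sSup S) = (Q ⊔ sSup S) ⊔ A := by
      rw [sup_comm A, sup_assoc]
    rw [this]; exact h2

theorem cl_sup_JT {Q : Subgroup G} (hQ : IsCentrallyLarge Q) (T : Subgroup G) :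
    IsCentrallyLarge (Q ⊔ JT T) := cl_sup_sSup hQ _ (fun _ h => h.1)

theorem Good.cl {T : Subgroup G} (h : Good T) : IsCentrallyLarge T := by
  obtain ⟨Z, hZ, hT⟩ := h
  rw [hT]; exact cl_sup_JT hZ.1.cl T

/-- an abelian subgroup of largest order between `Z` and `C(Z)` -/
theorem MaxAb.exists_large {Z : Subgroup G} (hZ : MaxAb Z) :
    ∃ A0 ∈ maxAbelianSubgroups G, Z ≤ A0 ∧ A0 ≤ Cz Z := by
  obtain ⟨A, hA⟩ := Cfsg.Agent.Lib.Helper7.exists_maxAbelian G
  have h := clA_maxAbelian hZ.1.cl hA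
  rw [hZ.1.1.cz_cz] at h
  exact ⟨_, h, le_sup_right, sup_le inf_le_left hZ.1.2⟩

theorem Good.eq_of_le {T Z : Subgroup G} (h : Good T) (hZ : MaxAb Z) (hle : Cz Z ≤ T) :
    T = Cz Z ⊔ JT T := by
  have hTcl := h.cl
  obtain ⟨Z1, hZ1, hT⟩ := h
  have hT''cl : IsCentrallyLarge (Cz Z ⊔ JT T) := cl_sup_JT hZ.1.cl T
  have hle' : Cz Z ⊔ JT T ≤ T := sup_le hle (JT_le T)
  apply le_antisymm _ hle'
  obtain ⟨hTm, -⟩ := (isCentrallyLarge_iff_mem T).mp hTcl
  obtain ⟨hT''m, -⟩ := (isCentrallyLarge_iff_mem _).mp hT''cl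
  apply hTm.le_of_cz_le hT''m
  have hY : AbMem (Cz (Cz Z ⊔ JT T)) := abMem_cz_of_cl hT''cl
  obtain ⟨A0, hA0, hZA0, hA0Q⟩ := hZ1.exists_large
  have hA0T : A0 ≤ T := by rw [hT]; exact hA0Q.trans le_sup_left
  have hA0J : A0 ≤ JT T := le_JT hA0 hA0T
  have h1 : Cz (Cz Z ⊔ JT T) ≤ Cz Z1 := by
    rw [cz_sup]
    refine inf_le_right.trans ((cz_anti hA0J).trans ?_)
    have : Cz A0 = A0 := maxAbelian_centralizer_eq A0 hA0
    rw [this]; exact hA0Q
  have h2 : Cz (Cz Z ⊔ JT T) ≤ Z1 := hZ1.le_of_comm hY h1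
  conv_rhs => rw [hT, cz_sup, hZ1.1.1.cz_cz]
  refine le_inf h2 ?_
  rw [cz_sup]; exact inf_le_right

theorem Good.sup {T A : Subgroup G} (h : Good T) (hA : A ∈ maxAbelianSubgroups G) :
    Good (T ⊔ A) := by
  obtain ⟨Z, hZ, hT⟩ := h
  refine ⟨Z, hZ, le_antisymm ?_ ?_⟩
  · apply sup_le
    · rw [hT]
      exact sup_le le_sup_left ((JT_mono (by rw [← hT]; exact le_sup_left)).trans le_sup_right)
    · exact (le_JT hA le_sup_right).trans le_sup_right
  · apply sup_le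
    · have : Cz Z ≤ T := by rw [hT]; exact le_sup_left
      exact this.trans le_sup_left
    · exact JT_le _

theorem good_K {T Z : Subgroup G} (hZ : MaxAb Z) :
    Good (Cz Z ⊔ JT (T ⊓ Subgroup.normalizer (Z : Set G))) := by
  refine ⟨Z, hZ, le_antisymm ?_ ?_⟩
  · apply sup_le le_sup_left
    refine le_trans ?_ le_sup_right
    apply sSup_le
    rintro A ⟨hA, hAle⟩
    exact le_JT hA ((le_JT hA hAle).trans le_sup_right)
  · exact sup_le le_sup_left (JT_le _)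

theorem cj_JT_le {K : Subgroup G} {y : G}
    (hy : ∀ A ∈ maxAbelianSubgroups G, A ≤ K → cj y A ≤ K) : cj y (JT K) ≤ JT K := by
  have e : JT K = ⨆ A : {A | A ∈ maxAbelianSubgroups G ∧ A ≤ K}, (A : Subgroup G) := sSup_eq_iSup'  _
  conv_lhs => rw [e, cj_iSup]
  apply iSup_le
  rintro ⟨A, hA, hAK⟩
  exact le_JT (maxAbelian_cj hA y) (hy A hA hAK)

/-- anything permuting the large abelian subgroups of a good `K` normalizes `K` -/
theorem Good.cj_eq {K : Subgroup G} (h : Good K) {y : G}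
    (hy : ∀ A ∈ maxAbelianSubgroups G, A ≤ K → cj y A ≤ K) : cj y K = K := by
  have hKcl := h.cl
  obtain ⟨Z, hZ, hK⟩ := h
  obtain ⟨hKm, -⟩ := (isCentrallyLarge_iff_mem K).mp hKcl
  have hJ : cj y (JT K) = JT K :=
    Subgroup.eq_of_le_of_card_ge (cj_JT_le hy) (card_cj y _).ge
  have hK'm : Mem (cj y K) := (mem_cj_iff y K).mpr hKm
  have hY : AbMem (Cz (cj y K)) := by
    rw [cz_cj, abMem_cj_iff]; exact abMem_cz_of_cl hKcl
  obtain ⟨A0, hA0, hZA0, hA0Q⟩ := hZ.exists_large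
  have hA0K : A0 ≤ K := by rw [hK]; exact hA0Q.trans le_sup_left
  have hA0J : A0 ≤ JT K := le_JT hA0 hA0K
  have hJK' : JT K ≤ cj y K := by rw [← hJ]; exact cj_mono (JT_le K)
  have h1 : Cz (cj y K) ≤ Cz Z := by
    refine (cz_anti hJK').trans ((cz_anti hA0J).trans ?_)
    have : Cz A0 = A0 := maxAbelian_centralizer_eq A0 hA0
    rw [this]; exact hA0Q
  have h2 : Cz (cj y K) ≤ Z := hZ.le_of_comm hY h1
  have h3 : Cz (cj y K) ≤ Cz K := by
    conv_rhs => rw [hK, cz_sup, hZ.1.1.cz_cz]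
    exact le_inf h2 (cz_anti hJK')
  have h4 : Cz (cj y K) = Cz K := by
    apply Subgroup.eq_of_le_of_card_ge h3
    rw [cz_cj, card_cj]
  rw [← hK'm.cz_cz, h4, hKm.cz_cz]

end Cfsg.Agent.Lib.Helper5.MCL
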