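import Cfsg.Agent.Lib.Helper5.MCLRepl2

/-!
# Farm MCL (S3008(b)), unit U1 (owner's backup), part 3: counting and the replacement theorem
-/

set_option autoImplicit false

namespace Cfsg.Agent.Lib.Helper5.MCL.Repl

open Cfsg Cfsg.Agent.Lib.Helper7 Cfsg.Agent.Lib.Helper5.MCL
open scoped Pointwise

variable {G : Type*} [Group G] [Finite G]

theorem A_inf_D {Z A : Subgroup G} (hZ : MaxAb Z) (hA : A ∈ maxAbelianSubgroups G) :
    A ⊓ Dof Z A = A ⊓ Z :=
  le_antisymm (inf_le_inf_left _ (Dof_le Z A)) (le_inf inf_le_left (data hZ hA).E_le_D)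

theorem C_inf_A0 {Z A : Subgroup G} (hZ : MaxAb Z) (hA : A ∈ maxAbelianSubgroups G) :
    (A ⊓ Mof Z A) ⊓ (A ⊓ Cz Z) = A ⊓ Z := by
  have d := data hZ hA
  apply le_antisymm
  · rw [← A_inf_D hZ hA]
    refine le_inf (inf_le_left.trans inf_le_left) ?_
    exact d.MI_le_D.trans' (le_inf (inf_le_left.trans inf_le_right) (inf_le_right.trans d.A0_le_I))
  · exact le_inf (inf_le_inf_left _ (le_Mof Z A)) (inf_le_inf_left _ hZ.1.2)

theorem C_inf_D {Z A : Subgroup G} (hZ : MaxAb Z) (hA : A ∈ maxAbelianSubgroups G) :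
    (A ⊓ Mof Z A) ⊓ Dof Z A = A ⊓ Z := by
  rw [← A_inf_D hZ hA]
  apply le_antisymm
  · exact le_inf (inf_le_left.trans inf_le_left) inf_le_right
  · exact le_inf (le_inf inf_le_left (inf_le_right.trans ((Dof_le Z A).trans (le_Mof Z A))))
      inf_le_right

theorem Z_inf_C {Z A : Subgroup G} : Z ⊓ (A ⊓ Mof Z A) = A ⊓ Z := by
  apply le_antisymm
  · exact le_inf (inf_le_right.trans inf_le_left) inf_le_left
  · exact le_inf inf_le_right (le_inf inf_le_left (inf_le_right.trans (le_Mof Z A)))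

theorem Z_inf_I {Z A : Subgroup G} (hZ : MaxAb Z) (hA : A ∈ maxAbelianSubgroups G) :
    Z ⊓ Cz (Mof Z A) = Dof Z A :=
  le_antisymm (data hZ hA).ZI_le_D (le_inf (Dof_le Z A) (data hZ hA).D_le_I)

theorem C_le_czD {Z A : Subgroup G} (hZ : MaxAb Z) (hA : A ∈ maxAbelianSubgroups G) :
    A ⊓ Mof Z A ≤ Cz (Dof Z A) :=
  inf_le_right.trans (le_cz_comm (data hZ hA).D_le_I)

/-- the numerical facts -/
theorem counts {Z A : Subgroup G} (hZ : MaxAb Z) (hA : A ∈ maxAbelianSubgroups G) :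
    Nat.card Z * Nat.card (A ⊓ Z : Subgroup G)
        = Nat.card (Dof Z A) * Nat.card (A ⊓ Mof Z A : Subgroup G) ∧
    Nat.card (Zr Z A) = Nat.card Z ∧
    Nat.card Z * Nat.card Z = Nat.card (Mof Z A) * Nat.card (Dof Z A) ∧
    Nat.card (Cz Z) * Nat.card (Dof Z A) = Nat.card Z * Nat.card (Cz (Mof Z A)) := by
  have d := data hZ hA
  have hAc : A ≤ Cz A := Subgroup.le_centralizer_iff_isMulCommutative.mpr hA.1
  have hDab : AbMem (Dof Z A) := AbMem.of_le d.memD hZ.1.2 (Dof_le Z A)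
  -- (E1)
  have E1 := clA_card hZ.1.cl hA
  rw [hZ.1.1.cz_cz, inf_comm Z A, inf_comm (Cz Z) A] at E1
  -- (E2)
  have E2 := clA_card hDab.cl hA
  rw [hDab.1.cz_cz, inf_comm (Dof Z A) A, A_inf_D hZ hA, inf_comm (Cz (Dof Z A)) A] at E2
  -- (E3)
  have hCA0 : A ⊓ Mof Z A ≤ Cz (A ⊓ Cz Z) :=
    inf_le_left.trans (hAc.trans (cz_anti inf_le_left))
  have E3 := comm_card hCA0
  rw [← key hZ hA, C_inf_A0 hZ hA] at E3
  -- (E5)
  have E5 := comm_card (C_le_czD hZ hA)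
  rw [C_inf_D hZ hA] at E5
  -- (E6)
  have E6 := hZ.1.1.card_sup_mul_card_inf d.memM.cz
  rw [← czZ_eq hZ hA, Z_inf_I hZ hA] at E6
  -- (E7)
  have E7a := hZ.1.1.card_mul
  have E7b := d.memM.card_mul
  change Nat.card (Zr Z A) * Nat.card (A ⊓ Z : Subgroup G) = _ at E5
  set a := Nat.card A
  set z := Nat.card Z
  set e := Nat.card (A ⊓ Z : Subgroup G)
  set a0 := Nat.card (A ⊓ Cz Z : Subgroup G)
  set dd := Nat.card (Dof Z A)
  set r := Nat.card (A ⊓ Cz (Dof Z A) : Subgroup G)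
  set c := Nat.card (A ⊓ Mof Z A : Subgroup G)
  set mm := Nat.card (Mof Z A)
  set ii := Nat.card (Cz (Mof Z A))
  set q := Nat.card (Cz Z)
  set z' := Nat.card (Zr Z A)
  have ha0 : 0 < a0 := Nat.card_pos
  have he : 0 < e := Nat.card_pos
  have hii : 0 < ii := Nat.card_pos
  have E4 : z * e = dd * c := by
    apply Nat.eq_of_mul_eq_mul_right ha0
    calc z * e * a0 = (z * a0) * e := by ring
      _ = (a * e) * e := by rw [E1]
      _ = (dd * r) * e := by rw [E2]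
      _ = dd * (r * e) := by ring
      _ = dd * (c * a0) := by rw [E3]
      _ = dd * c * a0 := by ring
  have E5' : z' = z := by
    apply Nat.eq_of_mul_eq_mul_right he
    rw [E5, E4]; ring
  have E8 : z * z = mm * dd := by
    apply Nat.eq_of_mul_eq_mul_right hii
    calc z * z * ii = z * (z * ii) := by ring
      _ = z * (q * dd) := by rw [E6]
      _ = (z * q) * dd := by ring
      _ = (mm * ii) * dd := by rw [E7a, E7b]
      _ = mm * dd * ii := by ring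
  exact ⟨E4, E5', E8, E6⟩

theorem Zr_abelian {Z A : Subgroup G} (hZ : MaxAb Z) (hA : A ∈ maxAbelianSubgroups G) :
    Zr Z A ≤ Cz (Zr Z A) := by
  have d := data hZ hA
  have hAc : A ≤ Cz A := Subgroup.le_centralizer_iff_isMulCommutative.mpr hA.1
  unfold Zr
  rw [cz_sup]
  apply sup_le
  · exact le_inf (inf_le_left.trans (hAc.trans (cz_anti inf_le_left))) (C_le_czD hZ hA)
  · exact le_inf (le_cz_comm (C_le_czD hZ hA))
      ((Dof_le Z A).trans (hZ.1.2.trans (cz_anti (Dof_le Z A))))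

theorem Zr_le_M {Z A : Subgroup G} : Zr Z A ≤ Mof Z A :=
  sup_le inf_le_right ((Dof_le Z A).trans (le_Mof Z A))

theorem repl_maxAb {Z A : Subgroup G} (hZ : MaxAb Z) (hA : A ∈ maxAbelianSubgroups G) :
    MaxAb (Zr Z A) := by
  have d := data hZ hA
  obtain ⟨-, E5', -, E6⟩ := counts hZ hA
  have hab := Zr_abelian hZ hA
  have hmem : Mem (Zr Z A) := by
    apply mem_of_le
    have h1 : Zr Z A ⊔ Cz (Mof Z A) ≤ Cz (Zr Z A) := sup_le hab (cz_anti Zr_le_M)
    have h2 : Zr Z A ⊓ Cz (Mof Z A) ≤ Dof Z A :=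
      (inf_le_inf_right _ Zr_le_M).trans d.MI_le_D
    have i1 := card_mul_card_le_card_sup_mul_card_inf (Zr Z A) (Cz (Mof Z A))
    have i2 := Subgroup.card_le_of_le h1
    have i3 := Subgroup.card_le_of_le h2
    have E7a := hZ.1.1.card_mul
    rw [E5'] at i1 ⊢
    set z := Nat.card Z
    set ii := Nat.card (Cz (Mof Z A))
    set dd := Nat.card (Dof Z A)
    set q := Nat.card (Cz Z)
    set cz' := Nat.card (Cz (Zr Z A))
    have hdd : 0 < dd := Nat.card_pos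
    have i4 : z * ii ≤ cz' * dd := i1.trans (Nat.mul_le_mul i2 i3)
    apply Nat.le_of_mul_le_mul_right _ hdd
    calc maxCentralizerProduct G * dd = (z * q) * dd := by rw [E7a]
      _ = z * (q * dd) := by ring
      _ = z * (z * ii) := by rw [E6]
      _ ≤ z * (cz' * dd) := Nat.mul_le_mul_left _ i4
      _ = z * cz' * dd := by ring
  exact AbMem.maxAb_of_card ⟨hmem, hab⟩ hZ E5'.ge

/-- `M = Z (A ∩ M)` -/
theorem M_eq {Z A : Subgroup G} (hZ : MaxAb Z) (hA : A ∈ maxAbelianSubgroups G) {m : G}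
    (hm : m ∈ Mof Z A) : ∃ z1 ∈ Z, ∃ c1 ∈ A ⊓ Mof Z A, z1 * c1 = m := by
  obtain ⟨E4, -, E8, -⟩ := counts hZ hA
  have hsub : (Z : Set G) * ((A ⊓ Mof Z A : Subgroup G) : Set G) ⊆ (Mof Z A : Set G) := by
    rintro x ⟨z1, hz1, c1, hc1, rfl⟩
    exact Subgroup.mul_mem _ (le_Mof Z A hz1) (Subgroup.mem_inf.mp hc1).2
  have hcard := card_mul_set_mul_card_inf Z (A ⊓ Mof Z A)
  rw [Z_inf_C] at hcard
  have heq : Nat.card ((Z : Set G) * ((A ⊓ Mof Z A : Subgroup G) : Set G) : Set G)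
      = Nat.card (Mof Z A) := by
    set z := Nat.card Z
    set e := Nat.card (A ⊓ Z : Subgroup G)
    set dd := Nat.card (Dof Z A)
    set c := Nat.card (A ⊓ Mof Z A : Subgroup G)
    set mm := Nat.card (Mof Z A)
    set s := Nat.card ((Z : Set G) * ((A ⊓ Mof Z A : Subgroup G) : Set G) : Set G)
    have he : 0 < e := Nat.card_pos
    have hdd : 0 < dd := Nat.card_pos
    apply Nat.eq_of_mul_eq_mul_right he
    apply Nat.eq_of_mul_eq_mul_right hdd
    calc s * e * dd = (z * c) * dd := by rw [hcard]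
      _ = z * (dd * c) := by ring
      _ = z * (z * e) := by rw [E4]
      _ = (z * z) * e := by ring
      _ = (mm * dd) * e := by rw [E8]
      _ = mm * e * dd := by ring
  have hset : (Z : Set G) * ((A ⊓ Mof Z A : Subgroup G) : Set G) = (Mof Z A : Set G) := by
    apply Set.eq_of_subset_of_ncard_le hsub _ (Set.toFinite _)
    rw [← Nat.card_coe_set_eq, ← Nat.card_coe_set_eq]
    exact heq.ge
  have : m ∈ (Z : Set G) * ((A ⊓ Mof Z A : Subgroup G) : Set G) := by rw [hset]; exact hm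
  exact Set.mem_mul.mp this

theorem repl_fixed {Z A : Subgroup G} (hZ : MaxAb Z) (hA : A ∈ maxAbelianSubgroups G) {m : G}
    (hm : m ∈ Mof Z A) (h : ∀ a ∈ A, m⁻¹ * (a⁻¹ * m * a) ∈ Dof Z A) : m ∈ Zr Z A := by
  have d := data hZ hA
  have hAc : A ≤ Cz A := Subgroup.le_centralizer_iff_isMulCommutative.mpr hA.1
  obtain ⟨z1, hz1, c1, hc1, rfl⟩ := M_eq hZ hA hm
  obtain ⟨hc1A, hc1M⟩ := Subgroup.mem_inf.mp hc1
  have hz1D : z1 ∈ Dof Z A := by
    unfold Dof
    rw [Subgroup.mem_iInf]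
    intro a
    rw [mem_cj]
    have h1 := h a a.2
    have hcomm : (a : G) * c1 = c1 * a := (Subgroup.mem_centralizer_iff.mp (hAc hc1A) a a.2)
    -- c1 (m⁻¹ (a⁻¹ m a)) c1⁻¹ = z1⁻¹ (a⁻¹ z1 a)
    have h2 : z1⁻¹ * ((a : G)⁻¹ * z1 * a) =
        c1 * ((z1 * c1)⁻¹ * ((a : G)⁻¹ * (z1 * c1) * a)) * c1⁻¹ := by
      have : (a : G)⁻¹ * (z1 * c1) * a = (a : G)⁻¹ * z1 * ((a : G) * c1) := by
        rw [hcomm]; group
      rw [this]; group
    have hδ := h1
    set δ := (z1 * c1)⁻¹ * ((a : G)⁻¹ * (z1 * c1) * a) with hδdef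
    have hδc : c1 * δ = δ * c1 :=
      (Subgroup.mem_centralizer_iff.mp (d.D_le_I hδ) c1 hc1M)
    have h3 : z1⁻¹ * ((a : G)⁻¹ * z1 * a) = δ := by
      rw [h2, hδc]; group
    have h4 : (a : G)⁻¹ * z1 * a = z1 * δ := by rw [← h3]; group
    rw [h4]
    exact Z.mul_mem hz1 (Dof_le Z A hδ)
  unfold Zr
  have : z1 * c1 = c1 * (c1⁻¹ * z1 * c1) := by group
  have hcz : c1⁻¹ * z1 * c1 = z1 := by
    have := (Subgroup.mem_centralizer_iff.mp (d.D_le_I hz1D) c1 hc1M)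
    calc c1⁻¹ * z1 * c1 = c1⁻¹ * (z1 * c1) := by group
      _ = c1⁻¹ * (c1 * z1) := by rw [this]
      _ = z1 := by group
  rw [this, hcz]
  exact Subgroup.mul_mem_sup hc1 hz1D

end Cfsg.Agent.Lib.Helper5.MCL.Repl
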