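import Cfsg.Agent.Lib.Helper5.MCLGood
import Cfsg.Agent.Lib.Helper1.MaxInter
import Cfsg.Agent.Lib.Helper5.MCLRepl3
import Cfsg.Agent.Lib.Helper3.MCLU2

/-!
# Farm MCL (S3008(b)), unit U4: the main induction
-/

set_option autoImplicit false

namespace Cfsg.Agent.Lib.Helper5.MCL

open Cfsg Cfsg.Agent.Lib.Helper7
open Cfsg.Agent.Lib.Helper5.MCL.Repl
open scoped Pointwise

variable {G : Type*} [Group G] [Finite G]

theorem mem_iInf {ι : Type*} [Finite ι] [Nonempty ι] {f : ι → Subgroup G}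
    (hf : ∀ i, Mem (f i)) : Mem (⨅ i, f i) := by
  have hs : InfClosed {H : Subgroup G | Mem H} := fun a ha b hb => Mem.inf ha hb
  exact hs.iInf_mem_of_nonempty hf

theorem mem_Dof {Z A : Subgroup G} (hZ : Mem Z) : Mem (Dof Z A) :=
  mem_iInf (fun a => (mem_cj_iff (a : G) Z).mpr hZ)

theorem cj_mul_mem_eq {K A Z1 : Subgroup G} (hAK : A ≤ Subgroup.normalizer (K : Set G))
    (hKZ : K ≤ Subgroup.normalizer (Z1 : Set G)) {k a : G} (hk : k ∈ K) (ha : a ∈ A) :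
    cj k (cj a Z1) = cj a Z1 := by
  have h1 : a⁻¹ * k * a ∈ K := by
    have := (Subgroup.mem_normalizer_iff.mp (Subgroup.inv_mem _ (hAK ha))) k
    rw [inv_inv] at this
    exact this.mp hk
  have e : k * a = a * (a⁻¹ * k * a) := by group
  rw [← cj_mul, e, cj_mul, cj_eq_of_mem_normalizer (hKZ h1)]

theorem main_aux {p : ℕ} [Fact p.Prime] (hG : IsPGroup p G) :
    ∀ n : ℕ, ∀ T : Subgroup G, Good T → Nat.card T = n →
      ∃ Z0, MaxAb Z0 ∧ Cz Z0 ≤ T ∧ T ≤ Subgroup.normalizer (Z0 : Set G) := by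
  intro n
  induction n using Nat.strong_induction_on with
  | _ n ih =>
  intro T hT hn
  by_contra hcon
  push Not at hcon
  -- the set of candidates
  set S : Set (Subgroup G) := {Z | MaxAb Z ∧ Cz Z ≤ T} with hS
  have hSne : S.Nonempty := by
    obtain ⟨Z, hZ, hTZ⟩ := hT
    exact ⟨Z, hZ, by rw [hTZ]; exact le_sup_left⟩
  let KK : Subgroup G → Subgroup G :=
    fun Z => Cz Z ⊔ JT (T ⊓ Subgroup.normalizer (Z : Set G))
  obtain ⟨Z, hZS, hmax⟩ := Set.Finite.exists_maximalFor (fun Z => Nat.card (KK Z)) S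
    (Set.toFinite S) hSne
  obtain ⟨hZ, hZT⟩ := hZS
  set K := KK Z with hK
  have hKgood : Good K := good_K hZ
  have hKcl : IsCentrallyLarge K := hKgood.cl
  obtain ⟨hKm, hKc⟩ := (isCentrallyLarge_iff_mem K).mp hKcl
  have hKT : K ≤ T := sup_le hZT ((JT_le _).trans inf_le_left)
  have hKN : K ≤ Subgroup.normalizer (Z : Set G) :=
    sup_le (Subgroup.centralizer_le_normalizer _) ((JT_le _).trans inf_le_right)
  have hKneT : K ≠ T := fun h => hcon Z hZ hZT (h ▸ hKN)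
  -- Step 2
  have step2 : ∃ A ∈ maxAbelianSubgroups G, A ≤ T ∧ A ≤ Subgroup.normalizer (K : Set G)
      ∧ ¬ A ≤ K := by
    by_contra hno
    push Not at hno
    have hN1 : T ≤ Subgroup.normalizer (K : Set G) := by
      by_contra hnot
      have hlt : T ⊓ Subgroup.normalizer (K : Set G) < T :=
        lt_of_le_of_ne inf_le_left (fun h => hnot (h ▸ inf_le_right))
      have hnil : Group.IsNilpotent T := (hG.to_subgroup T).isNilpotent
      obtain ⟨y, hyT, hyN, hynot⟩ :=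
        Cfsg.Agent.Lib.Helper1.exists_mem_normalizer_not_mem_of_lt hnil hlt
      apply hynot
      refine Subgroup.mem_inf.mpr ⟨hyT, ?_⟩
      rw [mem_normalizer_iff_cj]
      apply hKgood.cj_eq
      intro A hA hAK
      have h1 : cj y A ≤ T ⊓ Subgroup.normalizer (K : Set G) := by
        rw [← cj_eq_of_mem_normalizer hyN]
        exact cj_mono (le_inf (hAK.trans hKT) (hAK.trans Subgroup.le_normalizer))
      exact hno _ (maxAbelian_cj hA y) (h1.trans inf_le_left) (h1.trans inf_le_right)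
    have hJ : JT T ≤ K := sSup_le (fun A hA => hno A hA.1 hA.2 (hA.2.trans hN1))
    have := hT.eq_of_le hZ hZT
    apply hKneT
    apply le_antisymm hKT
    rw [this]
    exact sup_le le_sup_left hJ
  obtain ⟨A, hA, hAT, hAK, hAnK⟩ := step2
  -- Step 3
  have hT1good : Good (K ⊔ A) := hKgood.sup hA
  have hT1T : K ⊔ A ≤ T := sup_le hKT hAT
  have hKlt : Nat.card K < Nat.card (K ⊔ A : Subgroup G) := by
    apply Set.ncard_lt_ncard (s := (K : Set G)) (t := ((K ⊔ A : Subgroup G) : Set G)) ?_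
      (Set.toFinite _)
    exact (lt_of_le_of_ne le_sup_left (fun h => hAnK (h ▸ le_sup_right)) : K < K ⊔ A)
  have hT1 : K ⊔ A = T := by
    by_contra hne
    have hlt : Nat.card (K ⊔ A : Subgroup G) < n := by
      rw [← hn]
      apply Set.ncard_lt_ncard (s := ((K ⊔ A : Subgroup G) : Set G)) (t := (T : Set G)) ?_
        (Set.toFinite _)
      exact (lt_of_le_of_ne hT1T hne : K ⊔ A < T)
    obtain ⟨Z0, hZ0, hZ0T1, hT1N⟩ := ih _ hlt (K ⊔ A) hT1good rfl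
    have hZ0S : Z0 ∈ S := ⟨hZ0, hZ0T1.trans hT1T⟩
    have hle : K ⊔ A ≤ KK Z0 := by
      have e := hT1good.eq_of_le hZ0 hZ0T1
      calc K ⊔ A = Cz Z0 ⊔ JT (K ⊔ A) := e
        _ ≤ KK Z0 := sup_le_sup_left (JT_mono (le_inf hT1T hT1N)) _
    have h1 : Nat.card K ≤ Nat.card (KK Z0) :=
      hKlt.le.trans (Subgroup.card_le_of_le hle)
    have h2 : Nat.card (KK Z0) ≤ Nat.card K := hmax hZ0S h1
    have h3 : Nat.card (K ⊔ A : Subgroup G) ≤ Nat.card (KK Z0) := Subgroup.card_le_of_le hle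
    omega
  have hTNK : T ≤ Subgroup.normalizer (K : Set G) := by
    rw [← hT1]; exact sup_le Subgroup.le_normalizer hAK
  -- Step 4
  set F : Set (Subgroup G) :=
    {U | AbMem U ∧ T ≤ Subgroup.normalizer (U : Set G) ∧ Cz K ≤ U} with hF
  have hYF : Cz K ∈ F :=
    ⟨abMem_cz_of_cl hKcl, hTNK.trans (normalizer_le_normalizer_cz K), le_rfl⟩
  obtain ⟨U, hYU, hUmax⟩ := Set.Finite.exists_le_maximal (Set.toFinite F) hYF
  obtain ⟨⟨hUab, hTNU, -⟩, hUm⟩ := hUmax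
  have hRcl : IsCentrallyLarge (Cz U) := hUab.cl
  have hRK : Cz U ≤ K := by
    have := cz_anti hYU
    rwa [hKm.cz_cz] at this
  have hZ1 : MaxAb ((Z ⊓ Cz U) ⊔ U) := by
    have := hZ.replace hRcl
    rwa [hUab.1.cz_cz] at this
  set Z1 := (Z ⊓ Cz U) ⊔ U with hZ1def
  have hUZ1 : U ≤ Z1 := le_sup_right
  have hZ1T : Cz Z1 ≤ T := (cz_anti hUZ1).trans (hRK.trans hKT)
  have hKZ1 : K ≤ Subgroup.normalizer (Z1 : Set G) := by
    intro k hk
    rw [mem_normalizer_iff_cj, hZ1def, cj_sup, cj_inf, ← cz_cj,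
      cj_eq_of_mem_normalizer (hKN hk), cj_eq_of_mem_normalizer (hTNU (hKT hk))]
  -- Step 5
  have hkM : ∀ k ∈ K, cj k (Mof Z1 A) = Mof Z1 A := by
    intro k hk
    unfold Mof
    rw [cj_iSup]
    congr 1
    funext a
    exact cj_mul_mem_eq hAK hKZ1 hk a.2
  have hkD : ∀ k ∈ K, cj k (Dof Z1 A) = Dof Z1 A := by
    intro k hk
    unfold Dof
    rw [cj_iInf]
    congr 1
    funext a
    exact cj_mul_mem_eq hAK hKZ1 hk a.2
  have hTdec : ∀ t ∈ T, ∃ k ∈ K, ∃ a ∈ A, k * a = t := by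
    intro t ht
    have : t ∈ ((K ⊔ A : Subgroup G) : Set G) := by rw [hT1]; exact ht
    rw [clA_coe hKcl hA] at this
    exact Set.mem_mul.mp this
  have hTM : T ≤ Subgroup.normalizer ((Mof Z1 A : Subgroup G) : Set G) := by
    intro t ht
    obtain ⟨k, hk, a, ha, rfl⟩ := hTdec t ht
    rw [mem_normalizer_iff_cj, cj_mul, cj_Mof ha, hkM k hk]
  have hTD : T ≤ Subgroup.normalizer ((Dof Z1 A : Subgroup G) : Set G) := by
    intro t ht
    obtain ⟨k, hk, a, ha, rfl⟩ := hTdec t ht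
    rw [mem_normalizer_iff_cj, cj_mul, cj_Dof ha, hkD k hk]
  have hDab : AbMem (Dof Z1 A) := AbMem.of_le (mem_Dof hZ1.1.1) hZ1.1.2 (Dof_le Z1 A)
  have hUD : U ≤ Dof Z1 A := by
    unfold Dof
    apply le_iInf
    intro a
    rw [← cj_eq_of_mem_normalizer (hTNU (hAT a.2))]
    exact cj_mono hUZ1
  have hDU : Dof Z1 A ≤ U := hUm ⟨hDab, hTD, hYU.trans hUD⟩ hUD
  have hne : ¬ Mof Z1 A ≤ Dof Z1 A := by
    intro hle
    have h1 : Z1 ≤ U := (le_Mof Z1 A).trans (hle.trans hDU)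
    have h2 : Z1 = U := le_antisymm h1 hUZ1
    exact hcon Z1 hZ1 hZ1T (h2 ▸ hTNU)
  -- Step 6
  have hMT : Mof Z1 A ≤ T := by
    unfold Mof
    apply iSup_le
    intro a
    rw [← cj_eq_of_mem (hAT a.2)]
    exact cj_mono (hZ1.1.2.trans hZ1T)
  obtain ⟨m, hmM, hmD, hmfix⟩ := Cfsg.Agent.Lib.Helper3.MCL.exists_fixed_mod hG hMT hTM hne
  have hmZr : m ∈ Zr Z1 A := repl_fixed hZ1 hA hmM (fun a ha => hmfix a (hAT ha))
  have hZr : MaxAb (Zr Z1 A) := repl_maxAb hZ1 hA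
  have hX0ab : AbMem (Dof (Zr Z1 A) T) :=
    AbMem.of_le (mem_Dof hZr.1.1) hZr.1.2 (Dof_le _ T)
  have hX0N : T ≤ Subgroup.normalizer ((Dof (Zr Z1 A) T : Subgroup G) : Set G) := by
    intro t ht
    rw [mem_normalizer_iff_cj, cj_Dof ht]
  have hDX0 : Dof Z1 A ≤ Dof (Zr Z1 A) T := by
    unfold Dof
    apply le_iInf
    intro t
    have : (⨅ a : A, cj (a : G) Z1) = Dof Z1 A := rfl
    rw [this, ← cj_eq_of_mem_normalizer (hTD t.2)]
    exact cj_mono (Dof_le_Zr Z1 A)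
  have hX0U : Dof (Zr Z1 A) T ≤ U :=
    hUm ⟨hX0ab, hX0N, hYU.trans (hUD.trans hDX0)⟩ (hUD.trans hDX0)
  have hmX0 : m ∈ Dof (Zr Z1 A) T := by
    unfold Dof
    rw [Subgroup.mem_iInf]
    intro t
    rw [mem_cj]
    have h1 := hmfix t t.2
    have h2 : (t : G)⁻¹ * m * t = m * (m⁻¹ * ((t : G)⁻¹ * m * t)) := by group
    rw [h2]
    exact Subgroup.mul_mem _ hmZr (Dof_le_Zr Z1 A h1)
  exact hmD (hUD (hX0U hmX0))

theorem main {p : ℕ} [Fact p.Prime] (hG : IsPGroup p G) {T : Subgroup G} (h : Good T) :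
    ∃ Z0, MaxAb Z0 ∧ Cz Z0 ≤ T ∧ T ≤ Subgroup.normalizer (Z0 : Set G) :=
  main_aux hG _ T h rfl

end Cfsg.Agent.Lib.Helper5.MCL
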