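import Cfsg.Agent.Lib.Helper5.MCLMain

/-!
# Farm MCL (S3008(b)), unit U5: part (b) of S3008
-/

set_option autoImplicit false

namespace Cfsg.Agent.Lib.Helper5.MCL

open Cfsg Cfsg.Agent.Lib.Helper7
open scoped Pointwise

variable {G : Type*} [Group G] [Finite G]

theorem JT_top : JT (⊤ : Subgroup G) = thompsonSubgroupA G := by
  unfold JT thompsonSubgroupA
  congr 1
  ext A
  simp

theorem exists_maxAb (G : Type*) [Group G] [Finite G] : ∃ Z : Subgroup G, MaxAb Z := by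
  obtain ⟨Q, hQ⟩ := exists_isCentrallyLarge G
  obtain ⟨Z, hZ, -⟩ := (abMem_cz_of_cl hQ).exists_maxAb
  exact ⟨Z, hZ⟩

theorem partB {p : ℕ} [Fact p.Prime] (hG : IsPGroup p G) :
    ∃ Q : Subgroup G, IsMinimalCentrallyLarge Q ∧
      thompsonSubgroupA G ≤ Subgroup.normalizer (Q : Set G) ∧
      minimalCentrallyLargeJoin G ≤ Subgroup.normalizer (Q : Set G) := by
  obtain ⟨Z, hZ⟩ := exists_maxAb G
  set T : Subgroup G := Cz Z ⊔ JT ⊤ with hT
  have hJT : JT T = JT ⊤ := by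
    apply le_antisymm (JT_mono le_top)
    apply sSup_le
    rintro A ⟨hA, -⟩
    exact le_JT hA ((le_JT hA le_top).trans le_sup_right)
  have hgood : Good T := ⟨Z, hZ, by rw [hJT]⟩
  have hTcl := hgood.cl
  obtain ⟨hTm, -⟩ := (isCentrallyLarge_iff_mem T).mp hTcl
  obtain ⟨Z0, hZ0, hZ0T, hTN⟩ := main hG hgood
  have hN : T ≤ Subgroup.normalizer ((Cz Z0 : Subgroup G) : Set G) :=
    hTN.trans (normalizer_le_normalizer_cz Z0)
  refine ⟨Cz Z0, hZ0.minimalCL, ?_, ?_⟩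
  · rw [← JT_top]; exact le_sup_right.trans hN
  · refine le_trans ?_ hN
    unfold minimalCentrallyLargeJoin
    apply sSup_le
    intro R hR
    obtain ⟨hZR, hRR⟩ := maxAb_cz_of_minimalCL hR
    obtain ⟨A0, hA0, hZA0, hA0Q⟩ := hZR.exists_large
    have hA0J : A0 ≤ JT T := by rw [hJT]; exact le_JT hA0 le_top
    have hY : AbMem (Cz T) := abMem_cz_of_cl hTcl
    have h1 : Cz T ≤ Cz (Cz R) := by
      refine (cz_anti ((hA0J.trans (JT_le T)))).trans ?_
      have : Cz A0 = A0 := maxAbelian_centralizer_eq A0 hA0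
      rw [this]; exact hA0Q
    have h2 : Cz T ≤ Cz R := hZR.le_of_comm hY h1
    have h3 := cz_anti h2
    rwa [hTm.cz_cz, hRR] at h3

end Cfsg.Agent.Lib.Helper5.MCL
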