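import Cfsg.Agent.Lib.Helper5.MCLDefs

/-!
# Farm MCL (S3008(b)), unit U1 (owner's backup): the replacement theorem
-/

set_option autoImplicit false

namespace Cfsg.Agent.Lib.Helper5.MCL.Repl

open Cfsg Cfsg.Agent.Lib.Helper7 Cfsg.Agent.Lib.Helper5.MCL
open scoped Pointwise

variable {G : Type*} [Group G]

/-- commuting subgroups: the join is the product set -/
theorem comm_sup_coe {H K : Subgroup G} (h : H ≤ Cz K) :
    ((H ⊔ K : Subgroup G) : Set G) = (H : Set G) * (K : Set G) :=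
  Subgroup.coe_mul_of_left_le_normalizer_right H K
    (h.trans (Subgroup.centralizer_le_normalizer _))

theorem comm_card {H K : Subgroup G} (h : H ≤ Cz K) :
    Nat.card (H ⊔ K : Subgroup G) * Nat.card (H ⊓ K : Subgroup G) = Nat.card H * Nat.card K := by
  rw [← card_mul_set_mul_card_inf H K, ← comm_sup_coe h]
  rfl

theorem comm_exists_mul {H K : Subgroup G} (h : H ≤ Cz K) {x : G} (hx : x ∈ H ⊔ K) :
    ∃ a ∈ H, ∃ b ∈ K, a * b = x := by
  have : x ∈ ((H ⊔ K : Subgroup G) : Set G) := hx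
  rw [comm_sup_coe h] at this
  exact Set.mem_mul.mp this

theorem repl_normalizer {Z A : Subgroup G} :
    A ≤ Subgroup.normalizer ((Zr Z A : Subgroup G) : Set G) := by
  intro a ha
  rw [mem_normalizer_iff_cj]
  unfold Zr
  rw [cj_sup, cj_inf, cj_Mof ha, cj_Dof ha, cj_eq_of_mem ha]

section fin
variable [Finite G]

theorem mem_iSup' {ι : Type*} [Finite ι] [Nonempty ι] {f : ι → Subgroup G}
    (hf : ∀ i, Mem (f i)) : Mem (⨆ i, f i) := by
  have hs : SupClosed {H : Subgroup G | Mem H} := fun a ha b hb => Mem.sup ha hb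
  exact hs.iSup_mem_of_nonempty hf

theorem mem_iInf' {ι : Type*} [Finite ι] [Nonempty ι] {f : ι → Subgroup G}
    (hf : ∀ i, Mem (f i)) : Mem (⨅ i, f i) := by
  have hs : InfClosed {H : Subgroup G | Mem H} := fun a ha b hb => Mem.inf ha hb
  exact hs.iInf_mem_of_nonempty hf

/-- all the structural and numerical facts of the replacement theorem -/
structure Data (Z A : Subgroup G) : Prop where
  memM : Mem (Mof Z A)
  memD : Mem (Dof Z A)
  D_le_I : Dof Z A ≤ Cz (Mof Z A)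
  MI_le_D : Mof Z A ⊓ Cz (Mof Z A) ≤ Dof Z A
  ZI_le_D : Z ⊓ Cz (Mof Z A) ≤ Dof Z A
  E_le_D : A ⊓ Z ≤ Dof Z A
  A0_le_I : A ⊓ Cz Z ≤ Cz (Mof Z A)
  I_le_Q : Cz (Mof Z A) ≤ Cz Z

theorem data {Z A : Subgroup G} (hZ : MaxAb Z) (hA : A ∈ maxAbelianSubgroups G) : Data Z A := by
  have hAc : A ≤ Cz A := Subgroup.le_centralizer_iff_isMulCommutative.mpr hA.1
  have hcjZ : ∀ a : G, MaxAb (cj a Z) := fun a => hZ.cj a
  have hmemM : Mem (Mof Z A) := mem_iSup' (fun a : A => (hcjZ a).1.1)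
  have hmemD : Mem (Dof Z A) := mem_iInf' (fun a : A => (hcjZ a).1.1)
  have hI_le : ∀ a ∈ A, Cz (Mof Z A) ≤ Cz (cj a Z) := fun a ha => cz_anti (cj_le_Mof ha)
  have hD_le_I : Dof Z A ≤ Cz (Mof Z A) := by
    apply le_cz_comm
    unfold Mof
    apply iSup_le
    intro a
    apply le_cz_comm
    exact (Dof_le_cj a.2).trans (hcjZ a).1.2
  have hMIab : AbMem (Mof Z A ⊓ Cz (Mof Z A)) :=
    ⟨hmemM.inf hmemM.cz, inf_le_right.trans (cz_anti inf_le_left)⟩
  have hMI : Mof Z A ⊓ Cz (Mof Z A) ≤ Dof Z A := by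
    unfold Dof
    apply le_iInf
    intro a
    exact (hcjZ a).le_of_comm hMIab (inf_le_right.trans (hI_le a a.2))
  refine ⟨hmemM, hmemD, hD_le_I, hMI, ?_, ?_, ?_, ?_⟩
  · exact (inf_le_inf_right _ (le_Mof Z A)).trans hMI
  · unfold Dof
    apply le_iInf
    intro a x hx
    obtain ⟨hxA, hxZ⟩ := Subgroup.mem_inf.mp hx
    rw [mem_cj]
    have hc : (a : G) * x = x * a := (Subgroup.mem_centralizer_iff.mp (hAc hxA) a a.2)
    have : (a : G)⁻¹ * x * a = x := by
      rw [mul_assoc, ← hc]; group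
    rw [this]; exact hxZ
  · apply le_cz_comm
    unfold Mof
    apply iSup_le
    intro a y hy
    rw [Subgroup.mem_centralizer_iff]
    intro e he
    obtain ⟨heA, heQ⟩ := Subgroup.mem_inf.mp he
    have hy' : (a : G)⁻¹ * y * a ∈ Z := mem_cj.mp hy
    have h1 : (a : G)⁻¹ * y * a * e = e * ((a : G)⁻¹ * y * a) :=
      (Subgroup.mem_centralizer_iff.mp heQ _ hy')
    have h2 : (a : G) * e = e * a := (Subgroup.mem_centralizer_iff.mp (hAc heA) a a.2)
    have h2' : (a : G)⁻¹ * e = e * (a : G)⁻¹ := by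
      calc (a : G)⁻¹ * e = (a : G)⁻¹ * (e * a) * (a : G)⁻¹ := by group
        _ = (a : G)⁻¹ * ((a : G) * e) * (a : G)⁻¹ := by rw [h2]
        _ = e * (a : G)⁻¹ := by group
    calc e * y = (a : G) * (((a : G)⁻¹ * e) * y * a) * (a : G)⁻¹ := by group
      _ = (a : G) * ((e * (a : G)⁻¹) * y * a) * (a : G)⁻¹ := by rw [h2']
      _ = (a : G) * (e * ((a : G)⁻¹ * y * a)) * (a : G)⁻¹ := by group
      _ = (a : G) * (((a : G)⁻¹ * y * a) * e) * (a : G)⁻¹ := by rw [h1]
      _ = y * ((a : G) * e) * (a : G)⁻¹ := by group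
      _ = y * (e * a) * (a : G)⁻¹ := by rw [h2]
      _ = y * e := by group
  · have := hI_le 1 (one_mem A)
    rwa [cj_one] at this

end fin

end Cfsg.Agent.Lib.Helper5.MCL.Repl
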