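import Cfsg.Agent.Lib.Helper5.MCLRepl

/-!
# Farm MCL (S3008(b)), unit U1 (owner's backup), part 2: the key decomposition and the counting
-/

set_option autoImplicit false

namespace Cfsg.Agent.Lib.Helper5.MCL.Repl

open Cfsg Cfsg.Agent.Lib.Helper7 Cfsg.Agent.Lib.Helper5.MCL
open scoped Pointwise

variable {G : Type*} [Group G] [Finite G]

/-- `B_Z = (C(Z) ∩ A) Z` is an abelian subgroup of largest order -/
theorem BZ_mem {Z A : Subgroup G} (hZ : MaxAb Z) (hA : A ∈ maxAbelianSubgroups G) :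
    (Cz Z ⊓ A) ⊔ Z ∈ maxAbelianSubgroups G := by
  have := clA_maxAbelian hZ.1.cl hA
  rwa [hZ.1.1.cz_cz] at this

/-- membership in `B_Z` from commuting with `Z` and with `C(Z) ∩ A` -/
theorem mem_BZ {Z A : Subgroup G} (hZ : MaxAb Z) (hA : A ∈ maxAbelianSubgroups G) {x : G}
    (h1 : x ∈ Cz Z) (h2 : x ∈ Cz (Cz Z ⊓ A)) : ∃ e ∈ Cz Z ⊓ A, ∃ z ∈ Z, e * z = x := by
  have hB := BZ_mem hZ hA
  have hCB : Cz ((Cz Z ⊓ A) ⊔ Z) = (Cz Z ⊓ A) ⊔ Z := maxAbelian_centralizer_eq _ hB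
  have hx : x ∈ (Cz Z ⊓ A) ⊔ Z := by
    rw [← hCB, cz_sup]; exact Subgroup.mem_inf.mpr ⟨h2, h1⟩
  exact comm_exists_mul inf_le_left hx

/-- `R = C(D) = M I` -/
theorem czD_eq {Z A : Subgroup G} (hZ : MaxAb Z) (hA : A ∈ maxAbelianSubgroups G) :
    Cz (Dof Z A) = Mof Z A ⊔ Cz (Mof Z A) := by
  have d := data hZ hA
  have hDM : Dof Z A ≤ Mof Z A := (Dof_le Z A).trans (le_Mof Z A)
  have e : Dof Z A = Mof Z A ⊓ Cz (Mof Z A) := le_antisymm (le_inf hDM d.D_le_I) d.MI_le_D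
  rw [e, d.memM.cz_inf d.memM.cz, d.memM.cz_cz, sup_comm]

/-- KEY: `A ∩ R = (A ∩ M)(A ∩ C(Z))` -/
theorem key {Z A : Subgroup G} (hZ : MaxAb Z) (hA : A ∈ maxAbelianSubgroups G) :
    A ⊓ Cz (Dof Z A) = (A ⊓ Mof Z A) ⊔ (A ⊓ Cz Z) := by
  have d := data hZ hA
  have hAc : A ≤ Cz A := Subgroup.le_centralizer_iff_isMulCommutative.mpr hA.1
  have hDM : Dof Z A ≤ Mof Z A := (Dof_le Z A).trans (le_Mof Z A)
  apply le_antisymm
  · intro c hc
    obtain ⟨hcA, hcR⟩ := Subgroup.mem_inf.mp hc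
    rw [czD_eq hZ hA] at hcR
    obtain ⟨m, hm, i, hi, rfl⟩ := d.memM.exists_mul d.memM.cz hcR
    -- `i` commutes with `Z` and with `A0`
    have hi1 : i ∈ Cz Z := d.I_le_Q hi
    have hi2 : i ∈ Cz (Cz Z ⊓ A) := by
      rw [Subgroup.mem_centralizer_iff]
      intro e he
      have heA0 : e ∈ A ⊓ Cz Z := by rw [inf_comm]; exact he
      have heI : e ∈ Cz (Mof Z A) := d.A0_le_I heA0
      have h1 : e * (m * i) = (m * i) * e :=
        (Subgroup.mem_centralizer_iff.mp (hAc hcA) e (Subgroup.mem_inf.mp he).2)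
      have h2 : m * e = e * m := (Subgroup.mem_centralizer_iff.mp heI m hm)
      calc e * i = m⁻¹ * (m * e) * i := by group
        _ = m⁻¹ * (e * m) * i := by rw [h2]
        _ = m⁻¹ * (e * (m * i)) := by group
        _ = m⁻¹ * ((m * i) * e) := by rw [h1]
        _ = i * e := by group
    obtain ⟨e, he, z0, hz0, hez⟩ := mem_BZ hZ hA hi1 hi2
    have heA0 : e ∈ A ⊓ Cz Z := by rw [inf_comm]; exact he
    have heI : e ∈ Cz (Mof Z A) := d.A0_le_I heA0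
    have hz0I : z0 ∈ Cz (Mof Z A) := by
      have : z0 = e⁻¹ * i := by rw [← hez]; group
      rw [this]; exact Subgroup.mul_mem _ (Subgroup.inv_mem _ heI) hi
    have hz0D : z0 ∈ Dof Z A := d.ZI_le_D (Subgroup.mem_inf.mpr ⟨hz0, hz0I⟩)
    have hcomm : z0 * e = e * z0 := (Subgroup.mem_centralizer_iff.mp heI z0 (hDM hz0D))
    have hmz : m * z0 ∈ Mof Z A := Subgroup.mul_mem _ hm (hDM hz0D)
    have hrew : m * i = (m * z0) * e := by
      rw [← hez, mul_assoc m z0 e, hcomm]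
    have hmzA : m * z0 ∈ A := by
      have : m * z0 = (m * i) * e⁻¹ := by rw [hrew]; group
      rw [this]; exact A.mul_mem hcA (A.inv_mem (Subgroup.mem_inf.mp heA0).1)
    rw [hrew]
    exact Subgroup.mul_mem_sup (Subgroup.mem_inf.mpr ⟨hmzA, hmz⟩) heA0
  · apply sup_le
    · exact inf_le_inf_left _ (by rw [czD_eq hZ hA]; exact le_sup_left)
    · exact inf_le_inf_left _ (cz_anti (Dof_le Z A))

/-- `C(Z) ∩ M = Z` -/
theorem czZ_inf_M {Z A : Subgroup G} (hZ : MaxAb Z) (hA : A ∈ maxAbelianSubgroups G) :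
    Cz Z ⊓ Mof Z A ≤ Z := by
  have d := data hZ hA
  intro x hx
  obtain ⟨hxQ, hxM⟩ := Subgroup.mem_inf.mp hx
  have hx2 : x ∈ Cz (Cz Z ⊓ A) := by
    have h1 : Cz Z ⊓ A ≤ Cz (Mof Z A) := by rw [inf_comm]; exact d.A0_le_I
    exact le_cz_comm h1 hxM
  obtain ⟨e, he, z0, hz0, hez⟩ := mem_BZ hZ hA hxQ hx2
  have heA0 : e ∈ A ⊓ Cz Z := by rw [inf_comm]; exact he
  have heI : e ∈ Cz (Mof Z A) := d.A0_le_I heA0
  have heM : e ∈ Mof Z A := by
    have : e = x * z0⁻¹ := by rw [← hez]; group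
    rw [this]; exact Subgroup.mul_mem _ hxM (Subgroup.inv_mem _ (le_Mof Z A hz0))
  have heZ : e ∈ Z := Dof_le Z A (d.MI_le_D (Subgroup.mem_inf.mpr ⟨heM, heI⟩))
  rw [← hez]; exact Z.mul_mem heZ hz0

/-- `C(Z) = Z I` -/
theorem czZ_eq {Z A : Subgroup G} (hZ : MaxAb Z) (hA : A ∈ maxAbelianSubgroups G) :
    Cz Z = Z ⊔ Cz (Mof Z A) := by
  have d := data hZ hA
  apply le_antisymm
  · intro q hq
    have hqR : q ∈ Cz (Dof Z A) := cz_anti (Dof_le Z A) hq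
    rw [czD_eq hZ hA] at hqR
    obtain ⟨m, hm, i, hi, rfl⟩ := d.memM.exists_mul d.memM.cz hqR
    have hmQ : m ∈ Cz Z := by
      have : m = (m * i) * i⁻¹ := by group
      rw [this]; exact Subgroup.mul_mem _ hq (Subgroup.inv_mem _ (d.I_le_Q hi))
    exact Subgroup.mul_mem_sup (czZ_inf_M hZ hA (Subgroup.mem_inf.mpr ⟨hmQ, hm⟩)) hi
  · exact sup_le hZ.1.2 d.I_le_Q

end Cfsg.Agent.Lib.Helper5.MCL.Repl
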