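import Cfsg.Agent.Lib.Helper5.MCLBase2

/-!
# Farm MCL (S3008(b)): unit statements (stubs only, never imported by a graded file)
-/

set_option autoImplicit false

namespace Cfsg.Agent.Lib.Helper5.MCLStubs

open Cfsg Cfsg.Agent.Lib.Helper7 Cfsg.Agent.Lib.Helper5.MCL
open scoped Pointwise

variable {G : Type*} [Group G] [Finite G]

/-- product of the `A`-conjugates of `Z` -/
def Mof (Z A : Subgroup G) : Subgroup G := ⨆ a : A, cj (a : G) Z

/-- intersection of the `A`-conjugates of `Z` -/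
def Dof (Z A : Subgroup G) : Subgroup G := ⨅ a : A, cj (a : G) Z

/-- the replacement `(A ∩ M) D` -/
def Zr (Z A : Subgroup G) : Subgroup G := (A ⊓ Mof Z A) ⊔ Dof Z A

/-! ## U1: the replacement theorem (Theorem 2 of the tip) -/

theorem repl_maxAb {Z A : Subgroup G} (hZ : MaxAb Z) (hA : A ∈ maxAbelianSubgroups G) :
    MaxAb (Zr Z A) := sorry

theorem repl_normalizer {Z A : Subgroup G} (hA : A ∈ maxAbelianSubgroups G) :
    A ≤ Subgroup.normalizer ((Zr Z A : Subgroup G) : Set G) := sorry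

theorem repl_fixed {Z A : Subgroup G} (hZ : MaxAb Z) (hA : A ∈ maxAbelianSubgroups G) {m : G}
    (hm : m ∈ Mof Z A) (h : ∀ a ∈ A, m⁻¹ * (a⁻¹ * m * a) ∈ Dof Z A) : m ∈ Zr Z A := sorry

/-! ## U2: fixed points of a p-group on a section -/

theorem exists_fixed_mod {p : ℕ} [Fact p.Prime] (hG : IsPGroup p G) {D M T : Subgroup G}
    (hMT : M ≤ T) (hTM : T ≤ Subgroup.normalizer (M : Set G))
    (hne : ¬ M ≤ D) :
    ∃ m ∈ M, m ∉ D ∧ ∀ t ∈ T, m⁻¹ * (t⁻¹ * m * t) ∈ D := sorry

/-! ## U3: the family `calC` -/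

/-- join of the abelian subgroups of largest order inside `T` -/
def JT (T : Subgroup G) : Subgroup G := sSup {A | A ∈ maxAbelianSubgroups G ∧ A ≤ T}

/-- `T = C(Z) J(T)` for some maximal abelian member `Z` -/
def Good (T : Subgroup G) : Prop := ∃ Z, MaxAb Z ∧ T = Cz Z ⊔ JT T

theorem Good.cl {T : Subgroup G} (h : Good T) : IsCentrallyLarge T := sorry

theorem Good.eq_of_le {T Z : Subgroup G} (h : Good T) (hZ : MaxAb Z) (hle : Cz Z ≤ T) :
    T = Cz Z ⊔ JT T := sorry

theorem Good.sup {T A : Subgroup G} (h : Good T) (hA : A ∈ maxAbelianSubgroups G) :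
    Good (T ⊔ A) := sorry

theorem good_K {T Z : Subgroup G} (hZ : MaxAb Z) :
    Good (Cz Z ⊔ JT (T ⊓ Subgroup.normalizer (Z : Set G))) := sorry

/-- anything permuting the large abelian subgroups of a good `K` normalizes `K` -/
theorem Good.cj_eq {K : Subgroup G} (h : Good K) {y : G}
    (hy : ∀ A ∈ maxAbelianSubgroups G, A ≤ K → cj y A ≤ K) : cj y K = K := sorry

/-! ## U4: the main induction -/

theorem main {p : ℕ} [Fact p.Prime] (hG : IsPGroup p G) {T : Subgroup G} (h : Good T) :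
    ∃ Z0, MaxAb Z0 ∧ Cz Z0 ≤ T ∧ T ≤ Subgroup.normalizer (Z0 : Set G) := sorry

/-! ## U5: part (b) of S3008 -/

theorem partB {p : ℕ} [Fact p.Prime] (hG : IsPGroup p G) :
    ∃ Q : Subgroup G, IsMinimalCentrallyLarge Q ∧
      thompsonSubgroupA G ≤ Subgroup.normalizer (Q : Set G) ∧
      minimalCentrallyLargeJoin G ≤ Subgroup.normalizer (Q : Set G) := sorry

/-! ## U6: parts (a), (c), (d) of S3008 (helper7) -/

theorem partA (Q : Subgroup G) (hQ : IsCentrallyLarge Q) :
    Subgroup.centralizer ((thompsonSubgroupA G ⊓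
      Subgroup.centralizer (thompsonSubgroupA G : Set G) : Subgroup G) : Set G)
      ≤ Q ⊔ thompsonSubgroupA G := sorry

theorem partC (hJ : thompsonSubgroupA G = ⊤)
    (hd : ∀ A ∈ maxAbelianSubgroups G,
      Nat.card ↥A ^ 2 = Nat.card G * Nat.card ↥(Subgroup.center G))
    (Q : Subgroup G) (hQ : IsMinimalCentrallyLarge Q) : IsMulCommutative ↥Q := sorry

theorem partD (h : ∀ Q : Subgroup G, IsMinimalCentrallyLarge Q → IsMulCommutative ↥Q) :
    Subgroup.centralizer ((thompsonSubgroupA G ⊓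
      Subgroup.centralizer (thompsonSubgroupA G : Set G) : Subgroup G) : Set G)
      = thompsonSubgroupA G := sorry

end Cfsg.Agent.Lib.Helper5.MCLStubs
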