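import Cfsg.Agent.Lib.Helper6.MIdxDefs
import Cfsg.Agent.Lib.Helper9.MIdxQ9b

/-! S1589 farm, piece Q9c: a subgroup of `M24` of order 138240 is a sextet stabilizer. -/

set_option autoImplicit false

namespace Cfsg.Agent.Lib.Helper6.MIdx

open Cfsg Finset MulAction Cfsg.Agent.Lib.Helper9.OutM Cfsg.Agent.Lib.Helper9.M24T3
  Cfsg.Agent.Lib.Helper9.M24T9 Cfsg.Agent.Lib.Helper9.M24P1
open scoped Pointwise

/-- the subgroup of `M24` preserving a family `S` of subsets -/
def h5_stabS (S : Finset (Finset GolayPt)) : Subgroup (Equiv.Perm GolayPt) where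
  carrier := {g | g ∈ M24 ∧ g • S = S}
  one_mem' := ⟨M24.one_mem, one_smul _ _⟩
  mul_mem' := by
    rintro a b ⟨ha, ha'⟩ ⟨hb, hb'⟩
    exact ⟨M24.mul_mem ha hb, by rw [mul_smul, hb', ha']⟩
  inv_mem' := by
    rintro a ⟨ha, ha'⟩
    refine ⟨M24.inv_mem ha, ?_⟩
    rw [inv_smul_eq_iff, ha']

theorem h5_mem_stabS (S : Finset (Finset GolayPt)) (g : Equiv.Perm GolayPt) :
    g ∈ h5_stabS S ↔ g ∈ M24 ∧ g • S = S := Iff.rfl

theorem h5_card_stabS (S : Finset (Finset GolayPt)) :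
    Nat.card ↥(h5_stabS S) = Nat.card ↥(MulAction.stabilizer M24 S) := by
  apply Nat.card_congr
  exact
    { toFun := fun y => ⟨⟨y.1, y.2.1⟩, MulAction.mem_stabilizer_iff.mpr y.2.2⟩
      invFun := fun x => ⟨x.1.1, ⟨x.1.2, MulAction.mem_stabilizer_iff.mp x.2⟩⟩
      left_inv := fun x => rfl
      right_inv := fun y => rfl }

theorem index1771 (K : Subgroup (Equiv.Perm GolayPt)) (hK : K ≤ M24) (hc : Nat.card K = 138240) :
    ∃ S ∈ sextets, ∀ g : Equiv.Perm GolayPt, g ∈ K ↔ g ∈ M24 ∧ g • S = S := by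
  obtain ⟨T, hT1, hT2, hT3, hT4⟩ := tetrads K hK hc
  obtain ⟨S, hSdef⟩ : ∃ S : Finset (Finset GolayPt), S = Finset.univ.image T := ⟨_, rfl⟩
  have hmemS : ∀ t, t ∈ S ↔ ∃ c, T c = t := by
    intro t
    rw [hSdef, Finset.mem_image]
    simp
  -- pairwise disjoint
  have hdisj : (S : Set (Finset GolayPt)).PairwiseDisjoint id := by
    intro t ht u hu hne
    obtain ⟨c, rfl⟩ := (hmemS t).mp (by exact_mod_cast ht)
    obtain ⟨d, rfl⟩ := (hmemS u).mp (by exact_mod_cast hu)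
    change Disjoint (T c) (T d)
    rw [Finset.disjoint_left]
    intro e he1 he2
    exact hne ((hT2 c e he1).symm.trans (hT2 d e he2))
  have hunion : S.biUnion id = Finset.univ := by
    ext c
    simp only [Finset.mem_biUnion, id, Finset.mem_univ, iff_true]
    exact ⟨T c, (hmemS _).mpr ⟨c, rfl⟩, (hT1 c).2⟩
  have hcard4 : ∀ t ∈ S, t.card = 4 := by
    intro t ht
    obtain ⟨c, rfl⟩ := (hmemS t).mp ht
    exact (hT1 c).1
  have hcard6 : S.card = 6 := by
    have h1 : (S.biUnion id).card = ∑ t ∈ S, (id t).card := Finset.card_biUnion hdisj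
    rw [hunion] at h1
    have h2 : ∑ t ∈ S, (id t).card = ∑ _t ∈ S, 4 := Finset.sum_congr rfl (fun t ht => hcard4 t ht)
    rw [h2, Finset.sum_const, smul_eq_mul] at h1
    have h3 : (Finset.univ : Finset GolayPt).card = 24 := by
      rw [Finset.card_univ]; rfl
    omega
  have hSsext : S ∈ sextets := by
    refine ⟨hcard6, hcard4, ?_⟩
    intro t ht u hu hne
    obtain ⟨c, rfl⟩ := (hmemS t).mp ht
    obtain ⟨d, rfl⟩ := (hmemS u).mp hu
    exact hT4 c d hne
  have hKS : ∀ g ∈ K, g • S = S := by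
    intro g hg
    apply Finset.eq_of_subset_of_card_le
    · intro t ht
      obtain ⟨t0, ht0, rfl⟩ := Finset.mem_smul_finset.mp ht
      obtain ⟨c, rfl⟩ := (hmemS t0).mp ht0
      rw [hT3 g hg c]
      exact (hmemS _).mpr ⟨g c, rfl⟩
    · rw [Finset.card_smul_finset]
  have hle : K ≤ h5_stabS S := fun g hg => ⟨hK hg, hKS g hg⟩
  have hcardS : Nat.card ↥(h5_stabS S) = 138240 := by
    rw [h5_card_stabS, Cfsg.Agent.Lib.Helper9.M24SK2.card_stab_sextet S hSsext]
  have hfin : Finite ↥(h5_stabS S) := Nat.finite_of_card_ne_zero (by rw [hcardS]; norm_num)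
  have heq : K = h5_stabS S :=
    Subgroup.eq_of_le_of_card_ge hle (by rw [hcardS, hc])
  refine ⟨S, hSsext, fun g => ?_⟩
  rw [heq]
  exact h5_mem_stabS S g

end Cfsg.Agent.Lib.Helper6.MIdx
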