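import Mathlib
import Cfsg.Agent.Lib.Helper3.MSL0
import Cfsg.Agent.Lib.Helper1.StSLH1

set_option autoImplicit false

/-!
Farm MSL (statement S2086), unit A2: commuting root elements lift to commuting elements, the cases
settled by the torus (`h_conj`).
-/

namespace Cfsg.Agent.Lib.Helper5.MSL

open Cfsg.Agent.Lib.Helper6.StSL Cfsg.Agent.Lib.Helper3.MSL

variable {I : Type*} [DecidableEq I] [Fintype I] {K : Type*} [Field K] {G : Type*} [Group G]
  {Γ : Type*} [Group Γ] (S : StA I K G) (L : CExt G Γ)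

theorem chi_left (p q : I) (s : K) : chi p q s p = s := by simp [chi]

theorem chi_right {p q : I} (hpq : p ≠ q) (s : K) : chi p q s q = s⁻¹ := by
  simp [chi, hpq.symm]

theorem chi_other {p q k : I} (hkp : k ≠ p) (hkq : k ≠ q) (s : K) : chi p q s k = 1 := by
  simp [chi, hkp, hkq]

/-- a map that is additive in the first variable and invariant under `t ↦ μ t`, `μ ≠ 1`, is
trivial -/
theorem triv_of_left {Γ : Type*} [Group Γ] (f : K → K → Γ)
    (hl : ∀ t t' u, f (t + t') u = f t u * f t' u) (μ : K) (hμ : μ ≠ 1)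
    (hinv : ∀ t u, f (μ * t) u = f t u) : ∀ t u, f t u = 1 := by
  have h0 : ∀ u, f 0 u = 1 := by
    intro u
    have := hl 0 0 u
    rw [add_zero] at this
    exact mul_eq_left.1 this.symm
  have hneg : ∀ t u, f (-t) u = (f t u)⁻¹ := by
    intro t u
    rw [eq_inv_iff_mul_eq_one, ← hl, neg_add_cancel, h0]
  intro t u
  have hμ' : μ - 1 ≠ 0 := sub_ne_zero.2 hμ
  have key : f ((μ - 1) * (t / (μ - 1))) u = 1 := by
    have : (μ - 1) * (t / (μ - 1)) = μ * (t / (μ - 1)) + -(t / (μ - 1)) := by ring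
    rw [this, hl, hinv, hneg, mul_inv_cancel]
  rwa [mul_div_cancel₀ _ hμ'] at key

/-- torus invariance of `F` on commuting root elements -/
theorem F_torus (h3 : 3 ≤ Fintype.card I) {i j k l : I} (hij : i ≠ j) (hkl : k ≠ l) (hil : i ≠ l)
    (hjk : j ≠ k) {p q : I} (hpq : p ≠ q) {s : K} (hs : s ≠ 0) (t u : K) :
    L.F (S.x i j (chi p q s i * (chi p q s j)⁻¹ * t)) (S.x k l (chi p q s k * (chi p q s l)⁻¹ * u))
      = L.F (S.x i j t) (S.x k l u) := by
  have hc := S.comm_ne i j k l hij hkl hil hjk t u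
  have := L.F_conj_comm hc (S.h p q s)
  rwa [Cfsg.Agent.Lib.Helper1.StSL.h_conj S h3 hpq hs hij,
    Cfsg.Agent.Lib.Helper1.StSL.h_conj S h3 hpq hs hkl] at this

/-- additivity in the first variable -/
theorem F_add_left {i j k l : I} (hij : i ≠ j) (hkl : k ≠ l) (hil : i ≠ l) (hjk : j ≠ k)
    (t t' u : K) :
    L.F (S.x i j (t + t')) (S.x k l u)
      = L.F (S.x i j t) (S.x k l u) * L.F (S.x i j t') (S.x k l u) := by
  rw [← S.x_add i j hij t t']
  exact L.F_mul_left (S.comm_ne i j k l hij hkl hil hjk t' u)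

/-- additivity in the second variable -/
theorem F_add_right {i j k l : I} (hij : i ≠ j) (hkl : k ≠ l) (hil : i ≠ l) (hjk : j ≠ k)
    (t u u' : K) :
    L.F (S.x i j t) (S.x k l (u + u'))
      = L.F (S.x i j t) (S.x k l u) * L.F (S.x i j t) (S.x k l u') := by
  rw [← S.x_add k l hkl u u']
  exact L.F_mul_right (S.comm_ne i j k l hij hkl hil hjk t u')

theorem ha_row_torus (h3 : 3 ≤ Fintype.card I) {s : K} (hs : s ≠ 0) (hs3 : s ^ 3 ≠ 1) {i j l : I}
    (hij : i ≠ j) (hil : i ≠ l) (hjl : j ≠ l) (t u : K) : L.LC (S.x i j t) (S.x i l u) := by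
  have h1 : ∀ a b : K, L.F (S.x i j (s⁻¹ * a)) (S.x i l (s * b))
      = L.F (S.x i j a) (S.x i l b) := by
    intro a b
    have := F_torus S L h3 hij hil hil hij.symm hjl hs a b
    rwa [chi_other hij hil, chi_left, chi_right hjl, one_mul, one_mul, inv_inv] at this
  have h2 : ∀ a b : K, L.F (S.x i j (s * s * a)) (S.x i l (s * b))
      = L.F (S.x i j a) (S.x i l b) := by
    intro a b
    have := F_torus S L h3 hij hil hil hij.symm hij hs a b
    rwa [chi_left, chi_right hij, chi_other hil.symm hjl.symm, inv_inv, inv_one, mul_one] at this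
  have h3' : ∀ a b : K, L.F (S.x i j (s ^ 3 * a)) (S.x i l b) = L.F (S.x i j a) (S.x i l b) := by
    intro a b
    have e1 := h2 (s * a) (s⁻¹ * b)
    have e2 := h1 (s * a) (s⁻¹ * b)
    have c1 : s * s * (s * a) = s ^ 3 * a := by ring
    have c2 : s * (s⁻¹ * b) = b := by rw [← mul_assoc, mul_inv_cancel₀ hs, one_mul]
    have c3 : s⁻¹ * (s * a) = a := by rw [← mul_assoc, inv_mul_cancel₀ hs, one_mul]
    rw [c1, c2] at e1
    rw [c3, c2] at e2
    rw [e1, ← e2]
  exact triv_of_left (fun a b => L.F (S.x i j a) (S.x i l b))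
    (fun a a' b => F_add_left S L hij hil hil hij.symm a a' b) (s ^ 3) hs3 h3' t u

theorem ha_col_torus (h3 : 3 ≤ Fintype.card I) {s : K} (hs : s ≠ 0) (hs3 : s ^ 3 ≠ 1) {i k j : I}
    (hij : i ≠ j) (hkj : k ≠ j) (hik : i ≠ k) (t u : K) : L.LC (S.x i j t) (S.x k j u) := by
  have h1 : ∀ a b : K, L.F (S.x i j (s * a)) (S.x k j (s⁻¹ * b))
      = L.F (S.x i j a) (S.x k j b) := by
    intro a b
    have := F_torus S L h3 hij hkj hij hkj.symm hik hs a b
    rwa [chi_left, chi_other hij.symm hkj.symm, chi_right hik, inv_one, mul_one, mul_one] at this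
  have h2 : ∀ a b : K, L.F (S.x i j (s * s * a)) (S.x k j (s * b))
      = L.F (S.x i j a) (S.x k j b) := by
    intro a b
    have := F_torus S L h3 hij hkj hij hkj.symm hij hs a b
    rwa [chi_left, chi_right hij, chi_other hik.symm hkj, inv_inv, one_mul] at this
  have h3' : ∀ a b : K, L.F (S.x i j (s ^ 3 * a)) (S.x k j b) = L.F (S.x i j a) (S.x k j b) := by
    intro a b
    have e1 := h2 (s * a) (s⁻¹ * b)
    have e2 := h1 a b
    have c1 : s * s * (s * a) = s ^ 3 * a := by ring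
    have c2 : s * (s⁻¹ * b) = b := by rw [← mul_assoc, mul_inv_cancel₀ hs, one_mul]
    rw [c1, c2] at e1
    rw [e1, e2]
  exact triv_of_left (fun a b => L.F (S.x i j a) (S.x k j b))
    (fun a a' b => F_add_left S L hij hkj hij hkj.symm a a' b) (s ^ 3) hs3 h3' t u

theorem ha_four_torus (h3 : 3 ≤ Fintype.card I) {s : K} (hs : s ≠ 0) (hs2 : s ^ 2 ≠ 1)
    {i j k l : I} (hij : i ≠ j) (hkl : k ≠ l) (hik : i ≠ k) (hil : i ≠ l) (hjk : j ≠ k)
    (hjl : j ≠ l) (t u : K) : L.LC (S.x i j t) (S.x k l u) := by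
  have h2 : ∀ a b : K, L.F (S.x i j (s ^ 2 * a)) (S.x k l b)
      = L.F (S.x i j a) (S.x k l b) := by
    intro a b
    have := F_torus S L h3 hij hkl hil hjk hij hs a b
    rw [chi_left, chi_right hij, chi_other hik.symm hjk.symm, chi_other hil.symm hjl.symm,
      inv_inv, inv_one, one_mul, one_mul] at this
    have c1 : s ^ 2 * a = s * s * a := by ring
    rw [c1]
    exact this
  exact triv_of_left (fun a b => L.F (S.x i j a) (S.x k l b))
    (fun a a' b => F_add_left S L hij hkl hil hjk a a' b) (s ^ 2) hs2 h2 t u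

end Cfsg.Agent.Lib.Helper5.MSL
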