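import Mathlib
import Cfsg.Agent.Lib.Helper5.MSLA2
import Cfsg.Agent.Lib.Helper2.StSLW

set_option autoImplicit false
set_option linter.unusedSectionVars false

/-!
Farm MSL (statement S2086), unit A4: four distinct indices over the field with three elements
(`w_conj`).
-/

namespace Cfsg.Agent.Lib.Helper5.MSL

open Cfsg.Agent.Lib.Helper6.StSL Cfsg.Agent.Lib.Helper3.MSL Cfsg.Agent.Lib.Helper2.StSL

variable {I : Type*} [DecidableEq I] [Fintype I] {K : Type*} [Field K] {G : Type*} [Group G]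
  {Γ : Type*} [Group Γ] (S : StA I K G) (L : CExt G Γ)

/-- `w_ik(1) w_jl(1)` conjugates `x_ij(v)` to `x_kl(v)` -/
theorem swap_conj₁ (h3 : 3 ≤ Fintype.card I) {i j k l : I} (hij : i ≠ j) (hkl : k ≠ l)
    (hik : i ≠ k) (hil : i ≠ l) (hjk : j ≠ k) (hjl : j ≠ l) (v : K) :
    S.w i k 1 * S.w j l 1 * S.x i j v * (S.w i k 1 * S.w j l 1)⁻¹ = S.x k l v := by
  have e : S.w i k 1 * S.w j l 1 * S.x i j v * (S.w i k 1 * S.w j l 1)⁻¹
      = S.w i k 1 * (S.w j l 1 * S.x i j v * (S.w j l 1)⁻¹) * (S.w i k 1)⁻¹ := by group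
  have a1 : Equiv.swap j l i = i := Equiv.swap_apply_of_ne_of_ne hij hil
  have a2 : Equiv.swap j l j = l := Equiv.swap_apply_left j l
  have c1 : wc j l (1 : K) i * (wc j l (1 : K) j)⁻¹ * v = -v := by
    rw [wc_of_ne hij hil, wc_left]
    simp
  have b1 : Equiv.swap i k i = k := Equiv.swap_apply_left i k
  have b2 : Equiv.swap i k l = l := Equiv.swap_apply_of_ne_of_ne hil.symm hkl.symm
  have c2 : wc i k (1 : K) i * (wc i k (1 : K) l)⁻¹ * -v = v := by
    rw [wc_left, wc_of_ne hil.symm hkl.symm]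
    simp
  rw [e, w_conj S h3 hjl one_ne_zero hij, a1, a2, c1, w_conj S h3 hik one_ne_zero hil, b1, b2, c2]

/-- `w_ik(1) w_jl(1)` conjugates `x_kl(v)` to `x_ij(v)` -/
theorem swap_conj₂ (h3 : 3 ≤ Fintype.card I) {i j k l : I} (hij : i ≠ j) (hkl : k ≠ l)
    (hik : i ≠ k) (hil : i ≠ l) (hjk : j ≠ k) (hjl : j ≠ l) (v : K) :
    S.w i k 1 * S.w j l 1 * S.x k l v * (S.w i k 1 * S.w j l 1)⁻¹ = S.x i j v := by
  have e : S.w i k 1 * S.w j l 1 * S.x k l v * (S.w i k 1 * S.w j l 1)⁻¹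
      = S.w i k 1 * (S.w j l 1 * S.x k l v * (S.w j l 1)⁻¹) * (S.w i k 1)⁻¹ := by group
  have a1 : Equiv.swap j l k = k := Equiv.swap_apply_of_ne_of_ne hjk.symm hkl
  have a2 : Equiv.swap j l l = j := Equiv.swap_apply_right j l
  have c1 : wc j l (1 : K) k * (wc j l (1 : K) l)⁻¹ * v = v := by
    rw [wc_of_ne hjk.symm hkl, wc_right hjl]
    simp
  have b1 : Equiv.swap i k k = i := Equiv.swap_apply_right i k
  have b2 : Equiv.swap i k j = j := Equiv.swap_apply_of_ne_of_ne hij.symm hjk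
  have c2 : wc i k (1 : K) k * (wc i k (1 : K) j)⁻¹ * v = v := by
    rw [wc_right hik, wc_of_ne hij.symm hjk]
    simp
  rw [e, w_conj S h3 hjl one_ne_zero hkl, a1, a2, c1, w_conj S h3 hik one_ne_zero hjk.symm, b1, b2,
    c2]

theorem ha_four_swap (h3 : 3 ≤ Fintype.card I) (hK : ∀ t : K, t = 0 ∨ t = 1 ∨ t = -1)
    (h3K : (3 : K) = 0) {i j k l : I} (hij : i ≠ j) (hkl : k ≠ l) (hik : i ≠ k) (hil : i ≠ l)
    (hjk : j ≠ k) (hjl : j ≠ l) (t u : K) : L.LC (S.x i j t) (S.x k l u) := by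
  -- the symmetry
  have hsym : ∀ v v' : K, L.F (S.x i j v) (S.x k l v') = (L.F (S.x i j v') (S.x k l v))⁻¹ := by
    intro v v'
    have hc := S.comm_ne i j k l hij hkl hil hjk v' v
    have := L.F_conj_comm hc (S.w i k 1 * S.w j l 1)
    rw [swap_conj₁ S h3 hij hkl hik hil hjk hjl, swap_conj₂ S h3 hij hkl hik hil hjk hjl] at this
    rw [← this, L.F_symm]
  have hl := fun a a' b => F_add_left S L hij hkl hil hjk a a' b
  have hr := fun a b b' => F_add_right S L hij hkl hil hjk a b b'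
  have h0l : ∀ b, L.F (S.x i j 0) (S.x k l b) = 1 := by
    intro b
    rw [S.x_zero hij, L.F_one_left]
  have h0r : ∀ a, L.F (S.x i j a) (S.x k l 0) = 1 := by
    intro a
    rw [S.x_zero hkl, L.F_one_right]
  have hnl : ∀ a b, L.F (S.x i j (-a)) (S.x k l b) = (L.F (S.x i j a) (S.x k l b))⁻¹ := by
    intro a b
    rw [eq_inv_iff_mul_eq_one, ← hl, neg_add_cancel, h0l]
  have hnr : ∀ a b, L.F (S.x i j a) (S.x k l (-b)) = (L.F (S.x i j a) (S.x k l b))⁻¹ := by
    intro a b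
    rw [eq_inv_iff_mul_eq_one, ← hr, neg_add_cancel, h0r]
  -- `f(1,1) = 1`
  have h11 : L.F (S.x i j 1) (S.x k l 1) = 1 := by
    set z := L.F (S.x i j 1) (S.x k l 1) with hz
    have hz2 : z * z = 1 := by
      have := hsym 1 1
      rw [← hz] at this
      calc z * z = z * z⁻¹ := by rw [← this]
        _ = 1 := mul_inv_cancel z
    have hz3 : z * z * z = 1 := by
      have e : L.F (S.x i j (1 + 1 + 1)) (S.x k l 1) = z * z * z := by
        rw [hl, hl]
      have e3 : (1 + 1 + 1 : K) = 0 := by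
        rw [← h3K]; norm_num
      rw [e3, h0l] at e
      exact e.symm
    rw [hz2, one_mul] at hz3
    exact hz3
  show L.F (S.x i j t) (S.x k l u) = 1
  rcases hK t with rfl | rfl | rfl
  · exact h0l u
  · rcases hK u with rfl | rfl | rfl
    · exact h0r 1
    · exact h11
    · rw [hnr, h11, inv_one]
  · rcases hK u with rfl | rfl | rfl
    · exact h0r (-1)
    · rw [hnl, h11, inv_one]
    · rw [hnl, hnr, h11, inv_one, inv_one]

end Cfsg.Agent.Lib.Helper5.MSL
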