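import Mathlib

/-! Definitions for Mann's bound on the order of a `p`-group of given derived length (S4009). -/

set_option autoImplicit false
open scoped commutatorElement

namespace Cfsg.Agent.Lib.Helper5.Mann

variable {P : Type*} [Group P]

/-- iterated commutator with `⊤`: `itc M m = [M, P, ..., P]` (`m` copies of `P`). -/
def itc (M : Subgroup P) : ℕ → Subgroup P
  | 0 => M
  | m + 1 => ⁅itc M m, (⊤ : Subgroup P)⁆

/-- derived series of a subgroup, recursing at the front. -/
def dsub : Subgroup P → ℕ → Subgroup P
  | H, 0 => H
  | H, t + 1 => dsub ⁅H, H⁆ t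

end Cfsg.Agent.Lib.Helper5.Mann
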