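import Mathlib
import Cfsg.Agent.Lib.Helper5.MannDefs
import Cfsg.Agent.Lib.Helper4.HP3

set_option autoImplicit false
open scoped commutatorElement

namespace Cfsg.Agent.Lib.Helper5.Mann

variable {P : Type*} [Group P]

theorem itc_normal (M : Subgroup P) [M.Normal] (m : ℕ) : (itc M m).Normal := by
  induction m with
  | zero => show M.Normal; infer_instance
  | succ m ih =>
    show (⁅itc M m, (⊤ : Subgroup P)⁆).Normal
    have := ih
    infer_instance

theorem itc_succ_front (M : Subgroup P) (m : ℕ) :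
    itc M (m + 1) = itc ⁅M, (⊤ : Subgroup P)⁆ m := by
  induction m with
  | zero => rfl
  | succ m ih =>
    show ⁅itc M (m + 1), (⊤ : Subgroup P)⁆ = ⁅itc ⁅M, (⊤ : Subgroup P)⁆ m, (⊤ : Subgroup P)⁆
    rw [ih]

theorem itc_mono {M M' : Subgroup P} (h : M ≤ M') (m : ℕ) : itc M m ≤ itc M' m := by
  induction m with
  | zero => exact h
  | succ m ih => exact Subgroup.commutator_mono ih (le_refl _)

theorem itc_lcs (a m : ℕ) :
    itc ((⊤ : Subgroup P).lowerCentralSeries a) m = (⊤ : Subgroup P).lowerCentralSeries (a + m) := by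
  induction m with
  | zero => rfl
  | succ m ih =>
    show ⁅itc ((⊤ : Subgroup P).lowerCentralSeries a) m, (⊤ : Subgroup P)⁆ = _
    rw [ih, ← Subgroup.lowerCentralSeries_succ]; rfl

theorem comm_lcs_le_itc (M : Subgroup P) [M.Normal] (d : ℕ) :
    ⁅M, (⊤ : Subgroup P).lowerCentralSeries d⁆ ≤ itc M (d + 1) := by
  induction d generalizing M with
  | zero => exact le_refl _
  | succ d ih =>
    have := itc_normal M (d + 2)
    rw [Subgroup.lowerCentralSeries_succ, Subgroup.commutator_comm]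
    -- goal: ⁅⁅γ d, ⊤⁆, M⁆ ≤ itc M (d+2)
    apply Cfsg.Agent.Lib.Helper1.commutator_commutator_le_of_rotate_normal _
      ⊤ M ((⊤ : Subgroup P).lowerCentralSeries d)
    · -- ⁅⁅⊤, M⁆, γ d⁆ ≤ itc M (d+2)
      rw [Subgroup.commutator_comm ⊤ M]
      have := ih ⁅M, (⊤ : Subgroup P)⁆
      rwa [← itc_succ_front] at this
    · -- ⁅⁅M, γ d⁆, ⊤⁆ ≤ itc M (d+2)
      exact Subgroup.commutator_mono (ih M) (le_refl _)

end Cfsg.Agent.Lib.Helper5.Mann
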