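import Mathlib
import Cfsg.Agent.Lib.Helper5.MannDefs
import Cfsg.Agent.Lib.Helper5.MannP1a
import Cfsg.Agent.Lib.Helper4.HP3
import Cfsg.Agent.Lib.Helper9.MannP1b
import Cfsg.Agent.Lib.Helper7.MannHall
import Cfsg.Agent.Lib.Helper7.MannDich

/-! Mann's bound: a `p`-group of order `p^n` with `P^(k) ≠ 1` has `2^k + 2k ≤ n + 2` (S4009). -/

set_option autoImplicit false
open scoped commutatorElement

namespace Cfsg.Agent.Lib.Helper5.Mann
open Cfsg.Agent.Lib.Helper9.Mann Cfsg.Agent.Lib.Helper7.Mann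

variable {P : Type*} [Group P]

theorem dsub_bot (t : ℕ) : dsub (⊥ : Subgroup P) t = ⊥ := by
  induction t with
  | zero => rfl
  | succ t ih =>
    show dsub ⁅(⊥ : Subgroup P), ⊥⁆ t = ⊥
    rw [Subgroup.commutator_bot_left]; exact ih

theorem dsub_succ_back (t : ℕ) : ∀ H : Subgroup P, dsub H (t + 1) = ⁅dsub H t, dsub H t⁆ := by
  induction t with
  | zero => intro H; rfl
  | succ t ih => intro H; exact ih ⁅H, H⁆

theorem dsub_top (k : ℕ) : dsub (⊤ : Subgroup P) k = derivedSeries P k := by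
  induction k with
  | zero => rfl
  | succ k ih => rw [dsub_succ_back, ih, derivedSeries_succ]

theorem comm_ne_bot_of_dsub {H : Subgroup P} {t : ℕ} (h : dsub H (t + 1) ≠ ⊥) : ⁅H, H⁆ ≠ ⊥ := by
  intro h0
  apply h
  show dsub ⁅H, H⁆ t = ⊥
  rw [h0, dsub_bot]

theorem pow_chain (p a b c e f cK cH : ℕ) (hp : 0 < p) (h1 : p ^ a * cK ≤ cH)
    (h2 : p ^ b ≤ p ^ c * cK) (hexp : c + e ≤ f + a + b) : p ^ e ≤ p ^ f * cH := by
  have hc : 0 < p ^ c := Nat.pow_pos hp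
  apply Nat.le_of_mul_le_mul_left _ hc
  calc p ^ c * p ^ e = p ^ (c + e) := by rw [pow_add]
    _ ≤ p ^ (f + a + b) := Nat.pow_le_pow_right hp hexp
    _ = p ^ f * p ^ a * p ^ b := by rw [pow_add, pow_add]
    _ ≤ p ^ f * p ^ a * (p ^ c * cK) := Nat.mul_le_mul_left _ h2
    _ = p ^ c * (p ^ f * (p ^ a * cK)) := by ring
    _ ≤ p ^ c * (p ^ f * cH) := Nat.mul_le_mul_left _ (Nat.mul_le_mul_left _ h1)

theorem comm_le_lcs {H : Subgroup P} {d : ℕ} (hd : H ≤ (⊤ : Subgroup P).lowerCentralSeries d) :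
    ⁅H, H⁆ ≤ (⊤ : Subgroup P).lowerCentralSeries (2 * d + 1) := by
  refine le_trans (Subgroup.commutator_mono hd hd) ?_
  have := Cfsg.Agent.Lib.Helper4.HP.lcs_comm_top P d d
  rwa [show d + d + 1 = 2 * d + 1 by omega] at this

theorem main (p : ℕ) [Fact p.Prime] [Finite P] (hP : IsPGroup p P) (t : ℕ) :
    ∀ (H : Subgroup P) [H.Normal] (d : ℕ), H ≤ (⊤ : Subgroup P).lowerCentralSeries d →
      dsub H t ≠ ⊥ → p ^ ((d + 1) * 2 ^ t + t + 1 + (t - 2)) ≤ p ^ (d + 1) * Nat.card H := by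
  have hp : 0 < p := (Fact.out : p.Prime).pos
  induction t using Nat.strong_induction_on with
  | _ t ih =>
    intro H _ d hd ht
    match t, ih, ht with
    | 0, _, ht =>
      have hH : H ≠ ⊥ := ht
      have h1 := card_lt p hP (bot_lt_iff_ne_bot.mpr hH)
      rw [Subgroup.card_bot, mul_one] at h1
      calc p ^ ((d + 1) * 2 ^ 0 + 0 + 1 + (0 - 2)) = p ^ (d + 1) * p := by
            rw [show (d + 1) * 2 ^ 0 + 0 + 1 + (0 - 2) = d + 1 + 1 by simp, pow_succ]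
        _ ≤ p ^ (d + 1) * Nat.card H := Nat.mul_le_mul_left _ h1
    | 1, _, ht =>
      have hK : ⁅H, H⁆ ≠ ⊥ := ht
      have h1 := hall p hP H d hd hK
      have h2 : p ^ 1 ≤ p ^ 0 * Nat.card (⁅H, H⁆ : Subgroup P) := by
        have := card_lt p hP (bot_lt_iff_ne_bot.mpr hK)
        rw [Subgroup.card_bot, mul_one] at this
        simpa using this
      exact pow_chain p (d + 2) 1 0 _ (d + 1) _ _ hp h1 h2 (by simp; omega)
    | 2, ih, ht =>
      have hK : ⁅H, H⁆ ≠ ⊥ := comm_ne_bot_of_dsub ht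
      have h1 := hall p hP H d hd hK
      have h2 := ih 1 (by omega) ⁅H, H⁆ (2 * d + 1) (comm_le_lcs hd) ht
      exact pow_chain p (d + 2) _ (2 * d + 1 + 1) _ (d + 1) _ _ hp h1 h2 (by simp; ring_nf; omega)
    | t + 3, ih, ht =>
      have hK : ⁅H, H⁆ ≠ ⊥ := comm_ne_bot_of_dsub ht
      have hKd := comm_le_lcs hd
      have h2t : t + 2 ≤ 2 ^ (t + 1) := Nat.lt_two_pow_self
      rcases dich p hP H d hd hK with h1 | h1
      · have h2 := ih (t + 2) (by omega) ⁅H, H⁆ (2 * d + 1) hKd ht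
        refine pow_chain p (d + 3) _ (2 * d + 1 + 1) _ (d + 1) _ _ hp h1 h2 ?_
        have e1 : 2 ^ (t + 3) = 8 * 2 ^ t := by ring
        have e2 : 2 ^ (t + 2) = 4 * 2 ^ t := by ring
        rw [e1, e2]
        have : t + 2 - 2 = t := by omega
        have : t + 3 - 2 = t + 1 := by omega
        ring_nf
        omega
      · have hK2 : ⁅⁅H, H⁆, ⁅H, H⁆⁆ ≠ ⊥ := comm_ne_bot_of_dsub (H := ⁅H, H⁆) ht
        have h1a := hall p hP H d hd hK
        have h1b := hall p hP ⁅H, H⁆ (2 * d + 1) hKd hK2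
        have h2 := ih (t + 1) (by omega) ⁅⁅H, H⁆, ⁅H, H⁆⁆ (4 * d + 4) h1 ht
        have h1c : p ^ (d + 2 + (2 * d + 1 + 2)) * Nat.card (⁅⁅H, H⁆, ⁅H, H⁆⁆ : Subgroup P) ≤
            Nat.card H := by
          calc p ^ (d + 2 + (2 * d + 1 + 2)) * Nat.card (⁅⁅H, H⁆, ⁅H, H⁆⁆ : Subgroup P)
              = p ^ (d + 2) * (p ^ (2 * d + 1 + 2) * Nat.card (⁅⁅H, H⁆, ⁅H, H⁆⁆ : Subgroup P)) := by
                rw [pow_add]; ring
            _ ≤ p ^ (d + 2) * Nat.card (⁅H, H⁆ : Subgroup P) := Nat.mul_le_mul_left _ h1b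
            _ ≤ Nat.card H := h1a
        refine pow_chain p _ _ (4 * d + 4 + 1) _ (d + 1) _ _ hp h1c h2 ?_
        have e1 : 2 ^ (t + 3) = 8 * 2 ^ t := by ring
        have e2 : 2 ^ (t + 1) = 2 * 2 ^ t := by ring
        rw [e2] at h2t
        rw [e1, e2]
        have : t + 3 - 2 = t + 1 := by omega
        rw [this]
        generalize ht1 : t + 1 - 2 = u
        ring_nf
        omega

theorem mann_bound [Finite P] (p : ℕ) [Fact p.Prime] (n k : ℕ) (hcard : Nat.card P = p ^ n)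
    (hk : derivedSeries P k ≠ ⊥) : 2 ^ k + 2 * k ≤ n + 2 := by
  have hP : IsPGroup p P := IsPGroup.of_card hcard
  have hp1 : 1 < p := (Fact.out : p.Prime).one_lt
  have h := main p hP k (⊤ : Subgroup P) 0 (le_refl _) (by rw [dsub_top]; exact hk)
  rw [Subgroup.card_top, hcard, ← pow_add] at h
  have h' := (Nat.pow_le_pow_iff_right hp1).mp h
  omega

end Cfsg.Agent.Lib.Helper5.Mann
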