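import Mathlib
import Cfsg.Agent.Lib.Helper3.MinDegDefs
set_option autoImplicit false
set_option linter.unusedVariables false
set_option linter.unusedSectionVars false
set_option linter.style.longLine false
open Matrix

/-! # S2140, unit Uα: the case (α) is impossible -/

namespace Cfsg.Agent.Lib.Helper5.MinDegA

open Cfsg.Agent.Lib.Helper3.MinDeg

variable {F : Type*} [Field F] {ι : Type*} [DecidableEq ι] [Fintype ι]

theorem h5_dual_eq (f : Module.Dual F (ι → F)) (x : ι → F) :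
    (fun i => f (Pi.single i 1)) ⬝ᵥ x = f x := by
  conv_rhs => rw [pi_eq_sum_univ x]
  rw [map_sum]
  unfold dotProduct
  apply Finset.sum_congr rfl
  intro i _
  rw [map_smul, smul_eq_mul, mul_comm]
  have e : (Pi.single i 1 : ι → F) = fun j => if i = j then 1 else 0 := by
    funext j
    simp [Pi.single_apply, eq_comm]
  simp only [e]

/-- separation of a vector from a subspace by a functional given as a vector -/
theorem h5_sep (S : Submodule F (ι → F)) (w : ι → F) (hw : w ∉ S) :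
    ∃ φ : ι → F, (∀ s ∈ S, φ ⬝ᵥ s = 0) ∧ φ ⬝ᵥ w ≠ 0 := by
  have h := (Subspace.forall_mem_dualAnnihilator_apply_eq_zero_iff S w).not.2 hw
  push Not at h
  obtain ⟨f, hf, hfw⟩ := h
  refine ⟨fun i => f (Pi.single i 1), ?_, ?_⟩
  · intro s hs
    rw [h5_dual_eq]
    exact (Submodule.mem_dualAnnihilator f).1 hf s hs
  · rw [h5_dual_eq]
    exact hfw

/-- commutator of two transvections -/
theorem h5_tv_comm {v φ u ψ : ι → F} (hφ : φ ⬝ᵥ v = 0) (hψ : ψ ⬝ᵥ u = 0) (hφu : φ ⬝ᵥ u = 0) :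
    (tv v φ * tv u ψ * (tv v φ)⁻¹ * (tv u ψ)⁻¹ : Matrix.SpecialLinearGroup ι F) =
      tv u (-(ψ ⬝ᵥ v) • φ) := by
  have hc : (-(ψ ⬝ᵥ v) • φ) ⬝ᵥ u = 0 := by rw [smul_dotProduct, hφu, smul_zero]
  have key : (tv v φ * tv u ψ : Matrix.SpecialLinearGroup ι F) =
      tv u (-(ψ ⬝ᵥ v) • φ) * tv u ψ * tv v φ := by
    apply sl_ext
    rw [Matrix.SpecialLinearGroup.coe_mul, Matrix.SpecialLinearGroup.coe_mul,
      Matrix.SpecialLinearGroup.coe_mul, tv_coe hφ, tv_coe hψ, tv_coe hc]
    set A := vecMulVec v φ with hA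
    set B := vecMulVec u ψ with hB
    set C := vecMulVec u (-(ψ ⬝ᵥ v) • φ) with hC
    have hAB : A * B = 0 := by
      rw [hA, hB, vecMulVec_mul_vecMulVec, hφu]
      ext i j; simp [vecMulVec_apply]
    have hCB : C * B = 0 := by
      rw [hC, hB, vecMulVec_mul_vecMulVec, hc]
      ext i j; simp [vecMulVec_apply]
    have hCA : C * A = 0 := by
      rw [hC, hA, vecMulVec_mul_vecMulVec, smul_dotProduct, hφ]
      ext i j; simp [vecMulVec_apply]
    have hBA : C + B * A = 0 := by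
      rw [hC, hB, hA, vecMulVec_mul_vecMulVec]
      ext i j; simp [vecMulVec_apply]
    have e1 : (1 + C) * (1 + B) * (1 + A) = 1 + A + B + (C + B * A) + C * B + C * A + C * B * A := by
      noncomm_ring
    have e2 : (1 + A) * (1 + B) = 1 + A + B + A * B := by noncomm_ring
    rw [e1, e2, hAB, hCB, hCA, hBA]
    simp
  rw [key]
  group

/-- the commutator consequence of hypothesis (α) -/
theorem h5_comm_key (H : Subgroup (Matrix.SpecialLinearGroup ι F)) {u u' v v' : ι → F}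
    (hu : ∀ φ : ι → F, φ ⬝ᵥ u = 0 → (tv u φ ∈ H ↔ φ ⬝ᵥ u' = 0))
    (hv : ∀ φ : ι → F, φ ⬝ᵥ v = 0 → (tv v φ ∈ H ↔ φ ⬝ᵥ v' = 0))
    {φ ψ : ι → F} (h1 : φ ⬝ᵥ v = 0) (h2 : φ ⬝ᵥ v' = 0) (h3 : φ ⬝ᵥ u = 0)
    (h4 : ψ ⬝ᵥ u = 0) (h5 : ψ ⬝ᵥ u' = 0) : (ψ ⬝ᵥ v) * (φ ⬝ᵥ u') = 0 := by
  have m1 : tv v φ ∈ H := (hv φ h1).2 h2
  have m2 : tv u ψ ∈ H := (hu ψ h4).2 h5
  have m3 : tv v φ * tv u ψ * (tv v φ)⁻¹ * (tv u ψ)⁻¹ ∈ H :=
    H.mul_mem (H.mul_mem (H.mul_mem m1 m2) (H.inv_mem m1)) (H.inv_mem m2)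
  rw [h5_tv_comm h1 h4 h3] at m3
  have hc : (-(ψ ⬝ᵥ v) • φ) ⬝ᵥ u = 0 := by rw [smul_dotProduct, h3, smul_zero]
  have := (hu _ hc).1 m3
  rw [smul_dotProduct, smul_eq_mul, neg_mul, neg_eq_zero] at this
  exact this

/-- (C'): if `v ∉ l(u)` then `u' ∈ span {v, v', u}` -/
theorem h5_Cprime (H : Subgroup (Matrix.SpecialLinearGroup ι F)) {u u' v v' : ι → F}
    (hu : ∀ φ : ι → F, φ ⬝ᵥ u = 0 → (tv u φ ∈ H ↔ φ ⬝ᵥ u' = 0))
    (hv : ∀ φ : ι → F, φ ⬝ᵥ v = 0 → (tv v φ ∈ H ↔ φ ⬝ᵥ v' = 0))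
    (hnot : v ∉ Submodule.span F ({u, u'} : Set (ι → F))) :
    u' ∈ Submodule.span F ({v, v', u} : Set (ι → F)) := by
  by_contra hn
  obtain ⟨ψ, hψS, hψv⟩ := h5_sep _ v hnot
  obtain ⟨φ, hφS, hφu'⟩ := h5_sep _ u' hn
  have h1 : φ ⬝ᵥ v = 0 := hφS v (Submodule.subset_span (by simp))
  have h2 : φ ⬝ᵥ v' = 0 := hφS v' (Submodule.subset_span (by simp))
  have h3 : φ ⬝ᵥ u = 0 := hφS u (Submodule.subset_span (by simp))
  have h4 : ψ ⬝ᵥ u = 0 := hψS u (Submodule.subset_span (by simp))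
  have h5 : ψ ⬝ᵥ u' = 0 := hψS u' (Submodule.subset_span (by simp))
  exact mul_ne_zero hψv hφu' (h5_comm_key H hu hv h1 h2 h3 h4 h5)

/-- (i): if `u ∈ l(v) \ F v` then `l(u) = l(v)` -/
theorem h5_plane_eq (H : Subgroup (Matrix.SpecialLinearGroup ι F)) {u u' v v' : ι → F}
    (hu : ∀ φ : ι → F, φ ⬝ᵥ u = 0 → (tv u φ ∈ H ↔ φ ⬝ᵥ u' = 0))
    (hv : ∀ φ : ι → F, φ ⬝ᵥ v = 0 → (tv v φ ∈ H ↔ φ ⬝ᵥ v' = 0))
    (hiu : LinearIndependent F ![u, u']) (hiv : LinearIndependent F ![v, v'])
    (huv : u ∈ Submodule.span F ({v, v'} : Set (ι → F)))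
    (hnv : u ∉ Submodule.span F ({v} : Set (ι → F))) :
    Submodule.span F ({u, u'} : Set (ι → F)) = Submodule.span F ({v, v'} : Set (ι → F)) := by
  have hv0 : v ≠ 0 := by
    have := hiv.ne_zero 0
    simpa using this
  obtain ⟨α, β, hαβ⟩ := Submodule.mem_span_pair.1 huv
  have hβ : β ≠ 0 := by
    rintro rfl
    apply hnv
    rw [Submodule.mem_span_singleton]
    exact ⟨α, by rw [← hαβ]; simp⟩
  rw [LinearIndependent.pair_iff] at hiu
  -- (a) `v ∈ l(u)`
  have ha : v ∈ Submodule.span F ({u, u'} : Set (ι → F)) := by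
    by_contra hnot
    have hu' := h5_Cprime H hu hv hnot
    obtain ⟨a, b, c, habc⟩ := Submodule.mem_span_triple.1 hu'
    -- `u' = γ v + δ v'`
    have e1 : u' = (a + c * α) • v + (b + c * β) • v' := by
      rw [← habc, ← hαβ]
      module
    set γ := a + c * α
    set δ := b + c * β
    have e2 : δ • u + (-β) • u' = (α * δ - β * γ) • v := by
      rw [e1, ← hαβ]
      module
    have hD : α * δ - β * γ ≠ 0 := by
      intro h0
      rw [h0, zero_smul] at e2
      exact hβ (neg_eq_zero.1 (hiu _ _ e2).2)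
    apply hnot
    have e3 : v = (α * δ - β * γ)⁻¹ • (δ • u + (-β) • u') := by
      rw [e2, smul_smul, inv_mul_cancel₀ hD, one_smul]
    rw [e3]
    apply Submodule.smul_mem
    apply Submodule.add_mem
    · exact Submodule.smul_mem _ _ (Submodule.subset_span (by simp))
    · exact Submodule.smul_mem _ _ (Submodule.subset_span (by simp))
  obtain ⟨lam, μ, hlm⟩ := Submodule.mem_span_pair.1 ha
  have hμ : μ ≠ 0 := by
    rintro rfl
    have hl : lam ≠ 0 := by
      rintro rfl
      apply hv0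
      rw [← hlm]; simp
    apply hnv
    rw [Submodule.mem_span_singleton]
    refine ⟨lam⁻¹, ?_⟩
    rw [← hlm]
    simp [smul_smul, inv_mul_cancel₀ hl]
  apply le_antisymm
  · rw [Submodule.span_le]
    intro x hx
    rcases hx with rfl | hx
    · exact huv
    · rw [Set.mem_singleton_iff] at hx
      subst hx
      have e : x = μ⁻¹ • (v - lam • u) := by
        rw [← hlm]
        simp [smul_smul, inv_mul_cancel₀ hμ]
      rw [e]
      apply Submodule.smul_mem
      apply Submodule.sub_mem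
      · exact Submodule.subset_span (by simp)
      · exact Submodule.smul_mem _ _ huv
  · rw [Submodule.span_le]
    intro x hx
    rcases hx with rfl | hx
    · exact ha
    · rw [Set.mem_singleton_iff] at hx
      subst hx
      have e : x = β⁻¹ • (u - α • v) := by
        rw [← hαβ]
        simp [smul_smul, inv_mul_cancel₀ hβ]
      rw [e]
      apply Submodule.smul_mem
      apply Submodule.sub_mem
      · exact Submodule.subset_span (by simp)
      · exact Submodule.smul_mem _ _ ha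

theorem h5_mem_of_smul_mem (S : Submodule F (ι → F)) (c : F) (hc : c ≠ 0) (x : ι → F)
    (h : c • x ∈ S) : x ∈ S := by
  have : x = c⁻¹ • (c • x) := by simp [smul_smul, inv_mul_cancel₀ hc]
  rw [this]
  exact Submodule.smul_mem _ _ h

/-- **Uα**: the case (α) is impossible -/
theorem alpha_false (hn : 3 ≤ Fintype.card ι)
    (H : Subgroup (Matrix.SpecialLinearGroup ι F))
    (hα : ∀ u : ι → F, u ≠ 0 → ∃ u' : ι → F, LinearIndependent F ![u, u'] ∧
      ∀ φ : ι → F, φ ⬝ᵥ u = 0 → (tv u φ ∈ H ↔ φ ⬝ᵥ u' = 0)) : False := by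
  have hpos : 0 < Fintype.card ι := by omega
  obtain ⟨i0⟩ := Fintype.card_pos_iff.1 hpos
  set v1 : ι → F := Pi.single i0 1 with hv1def
  have hv1 : v1 ≠ 0 := by
    intro h
    have := congrFun h i0
    simp [hv1def] at this
  obtain ⟨a1, hi1, h1⟩ := hα v1 hv1
  have hex : ∃ v2 : ι → F, v2 ∉ Submodule.span F ({v1, a1} : Set (ι → F)) := by
    by_contra hcon
    push Not at hcon
    have htop : Submodule.span F ({v1, a1} : Set (ι → F)) = ⊤ := Submodule.eq_top_iff'.2 hcon
    have hfr : Module.finrank F (Submodule.span F ({v1, a1} : Set (ι → F))) ≤ 2 := by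
      classical
      have h3 := finrank_span_finset_le_card (R := F) ({v1, a1} : Finset (ι → F))
      have h2 : ({v1, a1} : Finset (ι → F)).card ≤ 2 := Finset.card_le_two
      simp only [Finset.coe_insert, Finset.coe_singleton] at h3
      exact h3.trans h2
    rw [htop, finrank_top, Module.finrank_fintype_fun_eq_card] at hfr
    omega
  obtain ⟨v2, hv2L⟩ := hex
  have hv2 : v2 ≠ 0 := by
    rintro rfl
    exact hv2L (Submodule.zero_mem _)
  obtain ⟨a2, hi2, h2⟩ := hα v2 hv2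
  have hint : ∀ w : ι → F, w ∈ Submodule.span F ({v1, a1} : Set (ι → F)) →
      w ∈ Submodule.span F ({v2, a2} : Set (ι → F)) → w = 0 := by
    intro w hw1 hw2
    by_contra hw0
    by_cases c2 : w ∈ Submodule.span F ({v2} : Set (ι → F))
    · obtain ⟨c, rfl⟩ := Submodule.mem_span_singleton.1 c2
      have hc : c ≠ 0 := by
        rintro rfl
        exact hw0 (zero_smul _ _)
      exact hv2L (h5_mem_of_smul_mem _ c hc v2 hw1)
    by_cases c1 : w ∈ Submodule.span F ({v1} : Set (ι → F))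
    · obtain ⟨c, rfl⟩ := Submodule.mem_span_singleton.1 c1
      have hc : c ≠ 0 := by
        rintro rfl
        exact hw0 (zero_smul _ _)
      have hv1L2 : v1 ∈ Submodule.span F ({v2, a2} : Set (ι → F)) :=
        h5_mem_of_smul_mem _ c hc v1 hw2
      by_cases c3 : v1 ∈ Submodule.span F ({v2} : Set (ι → F))
      · obtain ⟨c', hc'⟩ := Submodule.mem_span_singleton.1 c3
        have hc0 : c' ≠ 0 := by
          rintro rfl
          rw [zero_smul] at hc'
          exact hv1 hc'.symm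
        apply hv2L
        apply h5_mem_of_smul_mem _ c' hc0 v2
        rw [hc']
        exact Submodule.subset_span (by simp)
      · have e := h5_plane_eq H h1 h2 hi1 hi2 hv1L2 c3
        apply hv2L
        rw [e]
        exact Submodule.subset_span (by simp)
    · obtain ⟨aw, hiw, hw⟩ := hα w hw0
      have e1 := h5_plane_eq H hw h1 hiw hi1 hw1 c1
      have e2 := h5_plane_eq H hw h2 hiw hi2 hw2 c2
      apply hv2L
      rw [← e1, e2]
      exact Submodule.subset_span (by simp)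
  have hA : a1 ∉ Submodule.span F ({v2, a2, v1} : Set (ι → F)) := by
    intro hmem
    obtain ⟨a, b, c, habc⟩ := Submodule.mem_span_triple.1 hmem
    have hx : a • v2 + b • a2 ∈ Submodule.span F ({v1, a1} : Set (ι → F)) := by
      have e : a • v2 + b • a2 = a1 - c • v1 := by
        rw [← habc]
        abel
      rw [e]
      exact Submodule.sub_mem _ (Submodule.subset_span (by simp))
        (Submodule.smul_mem _ _ (Submodule.subset_span (by simp)))
    have hx2 : a • v2 + b • a2 ∈ Submodule.span F ({v2, a2} : Set (ι → F)) :=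
      Submodule.add_mem _ (Submodule.smul_mem _ _ (Submodule.subset_span (by simp)))
        (Submodule.smul_mem _ _ (Submodule.subset_span (by simp)))
    have h0 := hint _ hx hx2
    rw [h0, zero_add] at habc
    rw [LinearIndependent.pair_iff] at hi1
    have h3 := hi1 c (-1) (by rw [habc]; simp)
    exact one_ne_zero (neg_eq_zero.1 h3.2)
  obtain ⟨ψ, hψS, hψa⟩ := h5_sep _ a1 hA
  obtain ⟨φ, hφS, hφv⟩ := h5_sep _ v2 hv2L
  have hfin := h5_comm_key H (u := v1) (u' := a1) (v := v2) (v' := a2) h1 h2 (φ := ψ) (ψ := φ)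
    (hψS v2 (Submodule.subset_span (by simp))) (hψS a2 (Submodule.subset_span (by simp)))
    (hψS v1 (Submodule.subset_span (by simp))) (hφS v1 (Submodule.subset_span (by simp)))
    (hφS a1 (Submodule.subset_span (by simp)))
  exact mul_ne_zero hφv hψa hfin

end Cfsg.Agent.Lib.Helper5.MinDegA
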