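import Mathlib
import Cfsg.Agent.Lib.Helper3.MinDegDefs
import Cfsg.Agent.Lib.Helper3.MinDegTv
set_option autoImplicit false
set_option linter.unusedVariables false
set_option linter.unusedSectionVars false
set_option linter.style.longLine false
open Matrix
open scoped LinearAlgebra.Projectivization

/-! # S2140, unit U11: conversion of (α) to transvection language -/

namespace Cfsg.Agent.Lib.Helper5.MinDegA11

open Cfsg.Agent.Lib.Helper3.MinDeg

variable {F : Type*} [Field F]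

/-- `SL` is transitive on the points of projective space, in coordinates -/
theorem h5_trans {ι : Type*} [DecidableEq ι] [Fintype ι] (u v : ι → F) (hu : u ≠ 0) (hv : v ≠ 0) :
    ∃ (g : Matrix.SpecialLinearGroup ι F) (c : F), c ≠ 0 ∧ (g : Matrix ι ι F) *ᵥ v = c • u := by
  have h1 : MulAction.IsPretransitive (Matrix.SpecialLinearGroup ι F) (ℙ F (ι → F)) :=
    MulAction.isPretransitive_of_is_two_pretransitive
  obtain ⟨g, hg⟩ := h1.exists_smul_eq (Projectivization.mk F v hv) (Projectivization.mk F u hu)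
  rw [Projectivization.smul_mk, Projectivization.mk_eq_mk_iff'] at hg
  obtain ⟨a, ha⟩ := hg
  have hgv : g • v ≠ 0 := (smul_ne_zero_iff_ne g).mpr hv
  have e : g • v = (g : Matrix ι ι F) *ᵥ v := rfl
  refine ⟨g, a, ?_, ?_⟩
  · rintro rfl
    rw [zero_smul] at ha
    exact hgv ha.symm
  · rw [← e, ha]

variable {k : ℕ}

theorem h5_ext0_dot_e0 (r : Fin k → F) : (ext0 r : Idx k → F) ⬝ᵥ e0 = 0 := by
  simp [dotProduct, ext0, e0, Fintype.sum_sum_type]

theorem h5_ext0_dot_ext0 (r x : Fin k → F) : (ext0 r : Idx k → F) ⬝ᵥ ext0 x = r ⬝ᵥ x := by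
  simp [dotProduct, ext0, Fintype.sum_sum_type]

theorem h5_dot_e0 (φ : Idx k → F) : φ ⬝ᵥ e0 = φ (Sum.inl ()) := by
  simp [dotProduct, e0, Fintype.sum_sum_type]

theorem h5_qel_eq_tv (r : Fin k → F) :
    (qel r : Matrix.SpecialLinearGroup (Idx k) F) = tv e0 (ext0 r) := by
  apply sl_ext
  rw [qel_coe, tv_coe (h5_ext0_dot_e0 r)]
  ext (i | i) (j | j) <;>
    simp [e0, ext0, vecMulVec_apply, Matrix.one_apply, fromBlocks]

theorem h5_eq_ext0 (φ : Idx k → F) (h : φ ⬝ᵥ e0 = 0) : φ = ext0 (fun j => φ (Sum.inr j)) := by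
  rw [h5_dot_e0] at h
  funext i
  rcases i with i | j
  · cases i
    simpa [ext0] using h
  · rfl

theorem h5_mulVec_eq_zero {ι : Type*} [DecidableEq ι] [Fintype ι]
    (g : Matrix.SpecialLinearGroup ι F) (w : ι → F)
    (h : (g : Matrix ι ι F) *ᵥ w = 0) : w = 0 := by
  have e : ((g⁻¹ : Matrix.SpecialLinearGroup ι F) : Matrix ι ι F) * (g : Matrix ι ι F) = 1 := by
    rw [← Matrix.SpecialLinearGroup.coe_mul, inv_mul_cancel, Matrix.SpecialLinearGroup.coe_one]
  have h2 : (((g⁻¹ : Matrix.SpecialLinearGroup ι F) : Matrix ι ι F) * (g : Matrix ι ι F)) *ᵥ w = 0 := by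
    rw [← Matrix.mulVec_mulVec, h, Matrix.mulVec_zero]
  rw [e, Matrix.one_mulVec] at h2
  exact h2

/-- **U11** -/
theorem alpha_convert (hk : 1 ≤ k) (H : Subgroup (Matrix.SpecialLinearGroup (Idx k) F))
    (h : ∀ g, ∃ x : Fin k → F, x ≠ 0 ∧ Kof H g = hyp x) :
    ∀ u : Idx k → F, u ≠ 0 → ∃ u' : Idx k → F, LinearIndependent F ![u, u'] ∧
      ∀ φ : Idx k → F, φ ⬝ᵥ u = 0 → (tv u φ ∈ H ↔ φ ⬝ᵥ u' = 0) := by
  intro u hu
  have he0 : (e0 : Idx k → F) ≠ 0 := by
    intro h0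
    have := congrFun h0 (Sum.inl ())
    simp [e0] at this
  obtain ⟨g, c, hc, hg⟩ := h5_trans u e0 hu he0
  obtain ⟨x, hx, hK⟩ := h g⁻¹
  refine ⟨(g : Matrix (Idx k) (Idx k) F) *ᵥ ext0 x, ?_, ?_⟩
  · rw [LinearIndependent.pair_iff]
    intro s t hst
    have hu' : u = c⁻¹ • ((g : Matrix (Idx k) (Idx k) F) *ᵥ e0) := by
      rw [hg, smul_smul, inv_mul_cancel₀ hc, one_smul]
    have e1 : (g : Matrix (Idx k) (Idx k) F) *ᵥ ((s * c⁻¹) • e0 + t • ext0 x) = 0 := by
      rw [Matrix.mulVec_add, Matrix.mulVec_smul, Matrix.mulVec_smul, ← hst, hu', smul_smul]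
    have e2 := h5_mulVec_eq_zero g _ e1
    have e3 := congrFun e2 (Sum.inl ())
    simp [e0, ext0] at e3
    have hs : s = 0 := by
      rcases e3 with e3 | e3
      · exact e3
      · exact absurd e3 hc
    have ht : t = 0 := by
      by_contra ht
      apply hx
      funext j
      have e4 := congrFun e2 (Sum.inr j)
      simp [e0, ext0, hs] at e4
      rcases e4 with e4 | e4
      · exact absurd e4 ht
      · exact e4
    exact ⟨hs, ht⟩
  · intro φ hφ
    set φ' : Idx k → F := φ ᵥ* (g : Matrix (Idx k) (Idx k) F) with hφ'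
    have h0 : φ' ⬝ᵥ e0 = 0 := by
      rw [hφ', ← Matrix.dotProduct_mulVec, hg, dotProduct_smul, hφ, smul_zero]
    set r : Fin k → F := fun j => φ' (Sum.inr j) with hr
    have hφr : φ' = ext0 r := h5_eq_ext0 φ' h0
    -- `tv u φ = g * qel (c⁻¹ • r) * g⁻¹`
    have hψ0 : ((c⁻¹ • φ) ᵥ* (g : Matrix (Idx k) (Idx k) F)) ⬝ᵥ e0 = 0 := by
      rw [Matrix.smul_vecMul, smul_dotProduct, h0, smul_zero]
    have e1 : tv u φ = g * qel (c⁻¹ • r) * g⁻¹ := by
      have e2 : (tv u φ : Matrix.SpecialLinearGroup (Idx k) F) = tv (c • u) (c⁻¹ • φ) := by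
        rw [tv_smul_left, smul_smul, mul_inv_cancel₀ hc, one_smul]
      rw [e2, ← hg, h5_qel_eq_tv]
      have e3 : (ext0 (c⁻¹ • r) : Idx k → F) = (c⁻¹ • φ) ᵥ* (g : Matrix (Idx k) (Idx k) F) := by
        rw [Matrix.smul_vecMul, ← hφ', hφr]
        funext i
        rcases i with i | j <;> simp [ext0]
      rw [e3, tv_conj g hψ0, Matrix.vecMul_vecMul, ← Matrix.SpecialLinearGroup.coe_mul,
        mul_inv_cancel, Matrix.SpecialLinearGroup.coe_one, Matrix.vecMul_one]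
    have e4 : φ ⬝ᵥ ((g : Matrix (Idx k) (Idx k) F) *ᵥ ext0 x) = r ⬝ᵥ x := by
      rw [Matrix.dotProduct_mulVec, ← hφ', hφr, h5_ext0_dot_ext0]
    rw [e1, e4]
    have e5 : g * qel (c⁻¹ • r) * g⁻¹ ∈ H ↔ c⁻¹ • r ∈ Kof H g⁻¹ := by
      rw [mem_Kof, inv_inv]
    rw [e5, hK, mem_hyp, smul_dotProduct, smul_eq_mul, mul_eq_zero]
    constructor
    · rintro (h1 | h1)
      · exact absurd h1 (inv_ne_zero hc)
      · exact h1
    · intro h1
      exact Or.inr h1

end Cfsg.Agent.Lib.Helper5.MinDegA11
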