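import Mathlib

set_option autoImplicit false

namespace Cfsg.Agent.Lib.Helper5

/-- a prime dividing the lcm of a multiset of naturals divides one of its members -/
theorem exists_mem_dvd_of_prime_dvd_lcm {p : ℕ} (hp : p.Prime) (m : Multiset ℕ)
    (h : p ∣ m.lcm) : ∃ c ∈ m, p ∣ c := by
  induction m using Multiset.induction_on with
  | empty =>
    simp only [Multiset.lcm_zero, Nat.dvd_one] at h
    exact absurd h hp.one_lt.ne'
  | cons a m ih =>
    rw [Multiset.lcm_cons] at h
    have h' : p ∣ Nat.lcm a m.lcm := h
    have h2 : p ∣ a * m.lcm := h'.trans (Nat.lcm_dvd_mul a m.lcm)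
    rcases (Nat.Prime.dvd_mul hp).mp h2 with h3 | h3
    · exact ⟨a, Multiset.mem_cons_self a m, h3⟩
    · obtain ⟨c, hc, hpc⟩ := ih h3
      exact ⟨c, Multiset.mem_cons_of_mem hc, hpc⟩

/-- two members with distinct values contribute both to the sum -/
theorem add_le_sum_of_mem_of_ne (m : Multiset ℕ) {a b : ℕ} (ha : a ∈ m) (hb : b ∈ m)
    (hab : b ≠ a) : a + b ≤ m.sum := by
  have h1 : m = a ::ₘ m.erase a := (Multiset.cons_erase ha).symm
  have h2 : b ∈ m.erase a := (Multiset.mem_erase_of_ne hab).mpr hb
  have h3 : b ≤ (m.erase a).sum := Multiset.le_sum_of_mem h2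
  rw [h1, Multiset.sum_cons]
  omega

/-- `sum + card` has the parity of the number of even members -/
theorem sum_add_card_mod_two (m : Multiset ℕ) :
    (m.sum + Multiset.card m) % 2 = (Multiset.card (m.filter Even)) % 2 := by
  induction m using Multiset.induction_on with
  | empty => simp
  | cons a m ih =>
    by_cases ha : Even a
    · rw [Multiset.filter_cons_of_pos _ ha, Multiset.sum_cons, Multiset.card_cons,
        Multiset.card_cons]
      have := Nat.even_iff.mp ha
      omega
    · rw [Multiset.filter_cons_of_neg _ ha, Multiset.sum_cons, Multiset.card_cons]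
      have := Nat.odd_iff.mp (Nat.not_even_iff_odd.mp ha)
      omega

end Cfsg.Agent.Lib.Helper5
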