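import Mathlib
import Cfsg.Agent.Lib.Helper5.NA8Defs
import Cfsg.Agent.Lib.Helper5.NA8U3
set_option autoImplicit false
open scoped commutatorElement
namespace Cfsg.Agent.Lib.Helper5.NA8

variable {G : Type*} [Group G]

theorem isPGroup_zpowers_of_pow {t : G} (ht2 : ∃ n : ℕ, t ^ 2 ^ n = 1) :
    IsPGroup 2 ↥(Subgroup.zpowers t) := by
  obtain ⟨n, hn⟩ := ht2
  rintro ⟨g, hg⟩
  obtain ⟨k, rfl⟩ := Subgroup.mem_zpowers_iff.mp hg
  refine ⟨n, Subtype.ext ?_⟩
  rw [Subgroup.coe_pow, Subgroup.coe_one]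
  change (t ^ k) ^ 2 ^ n = 1
  rw [← zpow_natCast, ← zpow_mul, mul_comm, zpow_mul, zpow_natCast, hn, one_zpow]

theorem zpowers_le_normalizer_of_mem {t : G} {W : Subgroup G}
    (htW : t ∈ Subgroup.normalizer (W : Set G)) :
    Subgroup.zpowers t ≤ Subgroup.normalizer (W : Set G) := by
  rw [Subgroup.zpowers_le]; exact htW

/-- `K` centralizing `t` normalizes `zpowers t`. -/
theorem le_normalizer_zpowers_of_centralizer {t : G} {K : Subgroup G}
    (htK : t ∈ Subgroup.centralizer (K : Set G)) :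
    K ≤ Subgroup.normalizer ((Subgroup.zpowers t : Subgroup G) : Set G) := by
  intro k hk
  rw [Subgroup.mem_normalizer_iff]
  have hkt : k * t = t * k := (Subgroup.mem_centralizer_iff.mp htK k hk)
  have hc : Commute k t := hkt
  intro x
  have key : ∀ z : ℤ, k * t ^ z * k⁻¹ = t ^ z := by
    intro z
    have := (hc.zpow_right z).eq
    rw [this]; group
  constructor
  · intro hx
    obtain ⟨z, rfl⟩ := Subgroup.mem_zpowers_iff.mp hx
    rw [key]; exact Subgroup.zpow_mem_zpowers t z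
  · intro hx
    obtain ⟨z, hz⟩ := Subgroup.mem_zpowers_iff.mp hx
    have : x = t ^ z := by
      calc x = k⁻¹ * (k * x * k⁻¹) * k := by group
        _ = k⁻¹ * t ^ z * k := by rw [← hz]
        _ = k⁻¹ * (k * t ^ z * k⁻¹) * k := by rw [key z]
        _ = t ^ z := by group
    rw [this]; exact Subgroup.zpow_mem_zpowers t z

/-- 2-group fixed points: a nontrivial subgroup `W` normalized by the 2-group `P ≥ W` meets `C(P)`. -/
theorem inf_centralizer_ne_bot [Finite G] {W P : Subgroup G} (hP : IsPGroup 2 ↥P) (hWP : W ≤ P)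
    (hPW : P ≤ Subgroup.normalizer (W : Set G)) (hW : W ≠ ⊥) :
    W ⊓ Subgroup.centralizer (P : Set G) ≠ ⊥ := by
  haveI : Fact (Nat.Prime 2) := ⟨Nat.prime_two⟩
  haveI : (W.subgroupOf P).Normal := (Subgroup.normal_subgroupOf_iff_le_normalizer hWP).mpr hPW
  have hne' : W.subgroupOf P ≠ ⊥ := by
    intro h0
    apply hW
    rw [eq_bot_iff]
    intro w hw
    have : (⟨w, hWP hw⟩ : ↥P) ∈ W.subgroupOf P := Subgroup.mem_subgroupOf.mpr hw
    rw [h0, Subgroup.mem_bot] at this
    rw [Subgroup.mem_bot]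
    exact congrArg Subtype.val this
  obtain ⟨x, hxU, hxZ, hx1⟩ := Cfsg.Agent.Lib.Helper8.Ext.normal_inf_center hP (W.subgroupOf P) hne'
  intro h0
  have hmem : (x : G) ∈ W ⊓ Subgroup.centralizer (P : Set G) := by
    refine Subgroup.mem_inf.mpr ⟨hxU, ?_⟩
    rw [Subgroup.mem_centralizer_iff]
    intro q hq
    have := Subgroup.mem_center_iff.mp hxZ ⟨q, hq⟩
    exact congrArg Subtype.val this
  rw [h0, Subgroup.mem_bot] at hmem
  exact hx1 (Subtype.ext hmem)

/-- U4. -/
theorem centralizes_four [Finite G] {W K : Subgroup G} (hW4 : Nat.card ↥W = 4) (hK : Odd (Nat.card ↥K))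
    (hKW : K ≤ Subgroup.normalizer (W : Set G)) (hne : ⁅W, K⁆ ≠ ⊥) {t : G}
    (htW : t ∈ Subgroup.normalizer (W : Set G)) (htK : t ∈ Subgroup.centralizer (K : Set G))
    (ht2 : ∃ n : ℕ, t ^ 2 ^ n = 1) : t ∈ Subgroup.centralizer (W : Set G) := by
  have hWp : IsPGroup 2 ↥W := isPGroup_two_of_card (n := 2) (by rw [hW4]; norm_num)
  obtain ⟨P, hPdef⟩ : ∃ P : Subgroup G, P = Subgroup.zpowers t ⊔ W := ⟨_, rfl⟩
  have hPp : IsPGroup 2 ↥P := by
    rw [hPdef]
    exact IsPGroup.to_sup_of_normal_right' (isPGroup_zpowers_of_pow ht2) hWp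
      (zpowers_le_normalizer_of_mem htW)
  have hWP : W ≤ P := hPdef ▸ le_sup_right
  have htP : t ∈ P := hPdef ▸ Subgroup.mem_sup_left (Subgroup.mem_zpowers t)
  have hPW : P ≤ Subgroup.normalizer (W : Set G) := by
    rw [hPdef]; exact sup_le (zpowers_le_normalizer_of_mem htW) Subgroup.le_normalizer
  have hW1 : W ≠ ⊥ := by
    intro h0
    rw [h0] at hW4
    rw [Subgroup.card_bot] at hW4
    omega
  have hV := inf_centralizer_ne_bot hPp hWP hPW hW1
  have hKP : K ≤ Subgroup.normalizer (P : Set G) := by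
    intro k hk
    rw [hPdef]
    exact Cfsg.Agent.Lib.Helper1.PL.mem_normalizer_sup
      (le_normalizer_zpowers_of_centralizer htK hk) (hKW hk)
  have hKV : K ≤ Subgroup.normalizer ((W ⊓ Subgroup.centralizer (P : Set G) : Subgroup G) : Set G) :=
    fun k hk => Cfsg.Agent.Lib.Helper1.PL.mem_normalizer_inf (hKW hk)
      (Cfsg.Agent.Lib.Helper1.PL.mem_normalizer_centralizer (hKP hk))
  rcases irr_four hW4 hK hKW hne inf_le_left hKV with h0 | h0
  · exact absurd h0 hV
  · rw [Subgroup.mem_centralizer_iff]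
    intro w hw
    have hw' : w ∈ Subgroup.centralizer (P : Set G) := by
      have : w ∈ W ⊓ Subgroup.centralizer (P : Set G) := by rw [h0]; exact hw
      exact this.2
    exact (Subgroup.mem_centralizer_iff.mp hw' t htP).symm

theorem eq_of_card_le_two {D : Subgroup G} [Finite ↥D] (hD : Nat.card ↥D ≤ 2) {x y : G} (hx : x ∈ D)
    (hy : y ∈ D) (hx1 : x ≠ 1) (hy1 : y ≠ 1) : x = y := by
  classical
  by_contra hxy
  haveI : Fintype ↥D := Fintype.ofFinite _
  have : 2 < Fintype.card ↥D := by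
    rw [Fintype.two_lt_card_iff]
    refine ⟨1, ⟨x, hx⟩, ⟨y, hy⟩, ?_, ?_, ?_⟩
    · intro h; exact hx1 (congrArg Subtype.val h).symm
    · intro h; exact hy1 (congrArg Subtype.val h).symm
    · intro h; exact hxy (congrArg Subtype.val h)
  rw [← Nat.card_eq_fintype_card] at this
  omega

/-- U5. -/
theorem centralizes_eight [Finite G] {Q K : Subgroup G} (hQ8 : Nat.card ↥Q = 8)
    (hna : ¬ IsMulCommutative ↥Q) (hK : Odd (Nat.card ↥K))
    (hKQ : K ≤ Subgroup.normalizer (Q : Set G)) (hne : ⁅Q, K⁆ ≠ ⊥) {t : G}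
    (htQ : t ∈ Subgroup.normalizer (Q : Set G)) (htK : t ∈ Subgroup.centralizer (K : Set G))
    (ht2 : ∃ n : ℕ, t ^ 2 ^ n = 1) : t ∈ Subgroup.centralizer (Q : Set G) := by
  haveI : Fact (Nat.Prime 2) := ⟨Nat.prime_two⟩
  have hQp : IsPGroup 2 ↥Q := isPGroup_two_of_card (n := 3) (by rw [hQ8]; norm_num)
  obtain ⟨P, hPdef⟩ : ∃ P : Subgroup G, P = Subgroup.zpowers t ⊔ Q := ⟨_, rfl⟩
  have hPp : IsPGroup 2 ↥P := by
    rw [hPdef]
    exact IsPGroup.to_sup_of_normal_right' (isPGroup_zpowers_of_pow ht2) hQp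
      (zpowers_le_normalizer_of_mem htQ)
  have htP : t ∈ P := hPdef ▸ Subgroup.mem_sup_left (Subgroup.mem_zpowers t)
  have hPQ : P ≤ Subgroup.normalizer (Q : Set G) := by
    rw [hPdef]; exact sup_le (zpowers_le_normalizer_of_mem htQ) Subgroup.le_normalizer
  have hQ1 : Q ≠ ⊥ := by
    intro h0
    rw [h0] at hQ8
    rw [Subgroup.card_bot] at hQ8
    omega
  have hKP : K ≤ Subgroup.normalizer (P : Set G) := by
    intro k hk
    rw [hPdef]
    exact Cfsg.Agent.Lib.Helper1.PL.mem_normalizer_sup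
      (le_normalizer_zpowers_of_centralizer htK hk) (hKQ hk)
  have hDlt : ⁅Q, P⁆ < Q := Cfsg.Agent.Lib.Helper1.commutator_lt_of_isPGroup 2 hQp hPp hPQ hQ1
  have hKD : K ≤ Subgroup.normalizer ((⁅Q, P⁆ : Subgroup G) : Set G) :=
    Cfsg.Agent.Lib.Helper1.le_normalizer_commutator hKQ hKP
  have hD2 : Nat.card ↥(⁅Q, P⁆ : Subgroup G) ≤ 2 :=
    (irr_eight hQ8 hna hK hKQ hne hDlt.le hKD hDlt.ne).1
  -- `[Q,K] ≤ C_Q(t)`
  have hcomm : ⁅Q, K⁆ ≤ Subgroup.centralizer ({t} : Set G) := by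
    rw [Subgroup.commutator_le]
    intro a ha k hk
    have hkt : k * t = t * k := (Subgroup.mem_centralizer_iff.mp htK k hk)
    obtain ⟨b, hb⟩ : ∃ b : G, b = k * a * k⁻¹ := ⟨_, rfl⟩
    have hbQ : b ∈ Q := hb ▸ (Subgroup.mem_normalizer_iff.mp (hKQ hk) a).mp ha
    have e : ⁅a, k⁆ = a * b⁻¹ := by rw [hb, commutatorElement_def]; group
    rw [e, Subgroup.mem_centralizer_singleton_iff]
    have hkt' : k⁻¹ * t = t * k⁻¹ := by
      have : k⁻¹ * t = k⁻¹ * (t * k) * k⁻¹ := by group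
      rw [this, ← hkt]; group
    by_cases hat : a * t = t * a
    · -- then `b` commutes with `t`
      have hbt : b * t = t * b := by
        rw [hb]
        calc k * a * k⁻¹ * t = k * a * (k⁻¹ * t) := by group
          _ = k * a * (t * k⁻¹) := by rw [hkt']
          _ = k * (a * t) * k⁻¹ := by group
          _ = k * (t * a) * k⁻¹ := by rw [hat]
          _ = (k * t) * a * k⁻¹ := by group
          _ = (t * k) * a * k⁻¹ := by rw [hkt]
          _ = t * (k * a * k⁻¹) := by group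
      have hbt' : b⁻¹ * t = t * b⁻¹ := by
        have : b⁻¹ * t = b⁻¹ * (t * b) * b⁻¹ := by group
        rw [this, ← hbt]; group
      calc a * b⁻¹ * t = a * (b⁻¹ * t) := by group
        _ = a * (t * b⁻¹) := by rw [hbt']
        _ = (a * t) * b⁻¹ := by group
        _ = (t * a) * b⁻¹ := by rw [hat]
        _ = t * (a * b⁻¹) := by group
    · have hbt : ¬ b * t = t * b := by
        intro hbt
        apply hat
        have ea : a = k⁻¹ * b * k := by rw [hb]; group
        rw [ea]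
        calc k⁻¹ * b * k * t = k⁻¹ * b * (k * t) := by group
          _ = k⁻¹ * b * (t * k) := by rw [hkt]
          _ = k⁻¹ * (b * t) * k := by group
          _ = k⁻¹ * (t * b) * k := by rw [hbt]
          _ = (k⁻¹ * t) * b * k := by group
          _ = (t * k⁻¹) * b * k := by rw [hkt']
          _ = t * (k⁻¹ * b * k) := by group
      have h1 : ⁅a⁻¹, t⁆ ∈ ⁅Q, P⁆ := Subgroup.commutator_mem_commutator (Q.inv_mem ha) htP
      have h2 : ⁅b⁻¹, t⁆ ∈ ⁅Q, P⁆ := Subgroup.commutator_mem_commutator (Q.inv_mem hbQ) htP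
      have h1' : ⁅a⁻¹, t⁆ ≠ 1 := by
        intro h
        apply hat
        rw [commutatorElement_def] at h
        have : a⁻¹ * t = t * a⁻¹ := by
          have h3 : a⁻¹ * t = (a⁻¹ * t * a⁻¹⁻¹ * t⁻¹) * t * a⁻¹ := by group
          rw [h3, h]; group
        calc a * t = a * (t * a⁻¹) * a := by group
          _ = a * (a⁻¹ * t) * a := by rw [this]
          _ = t * a := by group
      have h2' : ⁅b⁻¹, t⁆ ≠ 1 := by
        intro h
        apply hbt
        rw [commutatorElement_def] at h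
        have : b⁻¹ * t = t * b⁻¹ := by
          have h3 : b⁻¹ * t = (b⁻¹ * t * b⁻¹⁻¹ * t⁻¹) * t * b⁻¹ := by group
          rw [h3, h]; group
        calc b * t = b * (t * b⁻¹) * b := by group
          _ = b * (b⁻¹ * t) * b := by rw [this]
          _ = t * b := by group
      have heq := eq_of_card_le_two hD2 h1 h2 h1' h2'
      rw [commutatorElement_def, commutatorElement_def] at heq
      have heq' : a⁻¹ * t * a = b⁻¹ * t * b := by
        have h3 : a⁻¹ * t * a = (a⁻¹ * t * a⁻¹⁻¹ * t⁻¹) * t := by group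
        rw [h3, heq]; group
      calc a * b⁻¹ * t = a * (b⁻¹ * t * b) * b⁻¹ := by group
        _ = a * (a⁻¹ * t * a) * b⁻¹ := by rw [heq']
        _ = t * (a * b⁻¹) := by group
  rw [irr_eight_commutator hQ8 hna hK hKQ hne] at hcomm
  rw [Subgroup.mem_centralizer_iff]
  intro q hq
  exact Subgroup.mem_centralizer_singleton_iff.mp (hcomm hq)

end Cfsg.Agent.Lib.Helper5.NA8
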