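import Mathlib
import Cfsg.Agent.Lib.Helper5.NA8Defs
import Cfsg.Agent.Lib.Helper5.NA8U1
import Cfsg.Agent.Lib.Helper5.NA8U3
import Cfsg.Agent.Lib.Helper5.NA8U45
import Cfsg.Agent.Lib.Helper2.NA8U2
import Cfsg.Agent.Lib.Helper1.CoprimeAbelian
set_option autoImplicit false
open scoped commutatorElement
namespace Cfsg.Agent.Lib.Helper5.NA8

variable {G : Type*} [Group G]

/-- a proper subgroup has at most half the order -/
theorem two_mul_card_le_of_lt [Finite G] {H K : Subgroup G} (h : H < K) :
    2 * Nat.card ↥H ≤ Nat.card ↥K := by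
  obtain ⟨c, hc⟩ := Subgroup.card_dvd_of_le h.le
  have hpos : 0 < Nat.card ↥K := Nat.card_pos
  have hposH : 0 < Nat.card ↥H := Nat.card_pos
  have hc1 : c ≠ 1 := by
    intro h1
    rw [h1, mul_one] at hc
    exact h.ne (Subgroup.eq_of_le_of_card_ge h.le (by rw [hc]))
  have hc0 : c ≠ 0 := by
    intro h0
    rw [h0, mul_zero] at hc
    omega
  have : 2 ≤ c := by omega
  rw [hc]
  nlinarith

/-- a cyclic 2-group is centralized by any odd-order group normalizing it -/
theorem le_centralizer_of_isCyclic [Finite G] {Y K : Subgroup G} (hY : IsPGroup 2 ↥Y)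
    (hcyc : IsCyclic ↥Y) (hK : Odd (Nat.card ↥K)) (hKN : K ≤ Subgroup.normalizer (Y : Set G)) :
    K ≤ Subgroup.centralizer (Y : Set G) := by
  classical
  haveI : IsMulCommutative ↥Y := IsCyclic.isMulCommutative
  apply Cfsg.Agent.Lib.Helper1.coprime_abelian_trivial_of_fix_prime_order K Y hKN
    (coprime_of_odd_of_isPGroup hY hK)
  intro v hv hvp k hk
  -- orderOf v = 2
  have hv2 : v ^ 2 = 1 := by
    obtain ⟨n, hn⟩ := hY ⟨v, hv⟩
    have hn' : v ^ 2 ^ n = 1 := by
      have := congrArg Subtype.val hn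
      simpa using this
    have hd : orderOf v ∣ 2 ^ n := orderOf_dvd_of_pow_eq_one hn'
    have h2 : orderOf v = 2 := (Nat.prime_dvd_prime_iff_eq hvp Nat.prime_two).mp
      (hvp.dvd_of_dvd_pow hd)
    rw [← h2]; exact pow_orderOf_eq_one v
  have hw : k * v * k⁻¹ ∈ Y := (Subgroup.mem_normalizer_iff.mp (hKN hk) v).mp hv
  have hw2 : (k * v * k⁻¹) ^ 2 = 1 := by
    have : (k * v * k⁻¹) ^ 2 = k * v ^ 2 * k⁻¹ := by rw [pow_two, pow_two]; group
    rw [this, hv2]; group
  have hv1 : v ≠ 1 := by
    intro h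
    rw [h, orderOf_one] at hvp
    exact Nat.not_prime_one hvp
  have hw1 : k * v * k⁻¹ ≠ 1 := by
    intro h
    apply hv1
    have : v = k⁻¹ * (k * v * k⁻¹) * k := by group
    rw [this, h]; group
  haveI : Fintype ↥Y := Fintype.ofFinite _
  haveI : IsCyclic ↥Y := hcyc
  have hle := IsCyclic.card_pow_eq_one_le (α := ↥Y) (n := 2) (by norm_num)
  have key : k * v * k⁻¹ = v := by
    by_contra hne
    have hsub : ({1, ⟨v, hv⟩, ⟨k * v * k⁻¹, hw⟩} : Finset ↥Y) ⊆
        Finset.univ.filter (fun a : ↥Y => a ^ 2 = 1) := by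
      intro a ha
      simp only [Finset.mem_insert, Finset.mem_singleton] at ha
      simp only [Finset.mem_filter, Finset.mem_univ, true_and]
      rcases ha with rfl | rfl | rfl
      · exact one_pow 2
      · exact Subtype.ext (by simpa using hv2)
      · exact Subtype.ext (by simpa using hw2)
    have hcard : ({1, ⟨v, hv⟩, ⟨k * v * k⁻¹, hw⟩} : Finset ↥Y).card = 3 := by
      rw [Finset.card_insert_of_notMem, Finset.card_insert_of_notMem, Finset.card_singleton]
      · simp only [Finset.mem_singleton]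
        intro h
        exact hne (congrArg Subtype.val h).symm
      · simp only [Finset.mem_insert, Finset.mem_singleton, not_or]
        constructor
        · intro h; exact hv1 (congrArg Subtype.val h).symm
        · intro h; exact hw1 (congrArg Subtype.val h).symm
    have := Finset.card_le_card hsub
    rw [hcard] at this
    omega
  calc k * v = k * v * k⁻¹ * k := by group
    _ = v * k := by rw [key]

/-- the centre of a nonabelian group of order 8 has order at most 2 -/
theorem card_center_le_two_of_eight [Finite G] {Q : Subgroup G} (hQ8 : Nat.card ↥Q = 8)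
    (hna : ¬ IsMulCommutative ↥Q) : Nat.card ↥(Q ⊓ Subgroup.centralizer (Q : Set G) : Subgroup G) ≤ 2 := by
  have hd : Nat.card ↥(Q ⊓ Subgroup.centralizer (Q : Set G) : Subgroup G) ∣ 8 :=
    hQ8 ▸ Subgroup.card_dvd_of_le inf_le_left
  have hle := Nat.le_of_dvd (by norm_num) hd
  have hpos : 0 < Nat.card ↥(Q ⊓ Subgroup.centralizer (Q : Set G) : Subgroup G) := Nat.card_pos
  by_contra hcon
  push Not at hcon
  have hcases : Nat.card ↥(Q ⊓ Subgroup.centralizer (Q : Set G) : Subgroup G) = 4 ∨
      Nat.card ↥(Q ⊓ Subgroup.centralizer (Q : Set G) : Subgroup G) = 8 := by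
    interval_cases h : Nat.card ↥(Q ⊓ Subgroup.centralizer (Q : Set G) : Subgroup G) <;> simp_all
  rcases hcases with h | h
  · exact hna (comm_of_central_index_two inf_le_left (by rw [hQ8, h]) inf_le_right)
  · have : Q ⊓ Subgroup.centralizer (Q : Set G) = Q :=
      Subgroup.eq_of_le_of_card_ge inf_le_left (by rw [h, hQ8])
    apply hna
    rw [← Subgroup.le_centralizer_iff_isMulCommutative]
    rw [← this]
    exact inf_le_right.trans (Subgroup.centralizer_le (by
      intro x hx; exact hx.1))

end Cfsg.Agent.Lib.Helper5.NA8
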