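import Mathlib
import Cfsg.Agent.Lib.Helper5.NA8U8a
set_option autoImplicit false
open scoped commutatorElement
namespace Cfsg.Agent.Lib.Helper5.NA8

variable {G : Type*} [Group G]

/-- CE8: a 2-element `t ∉ Q` centralizing the nonabelian group `Q` of order 8 produces CalA. -/
theorem calA_of_eight_of_central [Finite G] {Q H : Subgroup G} (hQ8 : Nat.card ↥Q = 8)
    (hna : ¬ IsMulCommutative ↥Q) (hQH : Q ≤ H) {t : G} (htH : t ∈ H) (htQ : t ∉ Q)
    (htc : t ∈ Subgroup.centralizer (Q : Set G)) (ht2 : ∃ n : ℕ, t ^ 2 ^ n = 1) : CalA H := by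
  haveI : Fact (Nat.Prime 2) := ⟨Nat.prime_two⟩
  have hQp : IsPGroup 2 ↥Q := isPGroup_two_of_card (n := 3) (by rw [hQ8]; norm_num)
  obtain ⟨m, hm1, hm2⟩ := exists_pow_not_mem_sq_mem htQ ht2
  obtain ⟨t', ht'⟩ : ∃ t' : G, t' = t ^ 2 ^ m := ⟨_, rfl⟩
  rw [← ht'] at hm1 hm2
  have ht'H : t' ∈ H := ht' ▸ Subgroup.pow_mem _ htH _
  have ht'c : t' ∈ Subgroup.centralizer (Q : Set G) := ht' ▸ Subgroup.pow_mem _ htc _
  have ht'2 : ∃ n : ℕ, t' ^ 2 ^ n = 1 := by
    obtain ⟨n, hn⟩ := ht2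
    exact ⟨n, by rw [ht', ← pow_mul, mul_comm, pow_mul, hn, one_pow]⟩
  obtain ⟨Z0, hZ0⟩ : ∃ Z0 : Subgroup G, Z0 = Q ⊓ Subgroup.centralizer (Q : Set G) := ⟨_, rfl⟩
  have hZ0card : Nat.card ↥Z0 ≤ 2 := hZ0 ▸ card_center_le_two_of_eight hQ8 hna
  have hZ0Q : Z0 ≤ Q := hZ0 ▸ inf_le_left
  have hZ0C : Z0 ≤ Subgroup.centralizer (Q : Set G) := hZ0 ▸ inf_le_right
  have hQ1 : Q ≠ ⊥ := by
    intro h0
    rw [h0, Subgroup.card_bot] at hQ8
    omega
  have hZ0ne : Z0 ≠ ⊥ := hZ0 ▸ inf_centralizer_ne_bot hQp le_rfl Subgroup.le_normalizer hQ1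
  have hzsq : ∀ z ∈ Z0, z ^ 2 = 1 := by
    intro z hz
    have h1 : (⟨z, hz⟩ : ↥Z0) ^ Nat.card ↥Z0 = 1 := pow_card_eq_one'
    have hpos : 0 < Nat.card ↥Z0 := Nat.card_pos
    have h1' : z ^ Nat.card ↥Z0 = 1 := by
      have := congrArg Subtype.val h1
      rw [Subgroup.coe_pow, Subgroup.coe_one] at this
      exact this
    have : Nat.card ↥Z0 = 1 ∨ Nat.card ↥Z0 = 2 := by omega
    rcases this with h | h
    · rw [h, pow_one] at h1'; rw [h1', one_pow]
    · rw [h] at h1'; exact h1'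
  -- an element `i ∈ Q` not central
  have hnle : ¬ Q ≤ Subgroup.centralizer (Q : Set G) := fun h =>
    hna (Subgroup.le_centralizer_iff_isMulCommutative.mp h)
  obtain ⟨i, hiQ, hiC⟩ := SetLike.not_le_iff_exists.mp hnle
  have hi4 : i ^ 4 = 1 := by
    have hd : orderOf (⟨i, hiQ⟩ : ↥Q) ∣ 8 := hQ8 ▸ orderOf_dvd_natCard _
    have hne : orderOf (⟨i, hiQ⟩ : ↥Q) ≠ 8 := by
      intro h
      have hc : IsCyclic ↥Q := isCyclic_of_orderOf_eq_card _ (by rw [h, hQ8])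
      exact hna IsCyclic.isMulCommutative
    have hle := Nat.le_of_dvd (by norm_num) hd
    have hpos : 0 < orderOf (⟨i, hiQ⟩ : ↥Q) := orderOf_pos _
    have h4 : orderOf (⟨i, hiQ⟩ : ↥Q) ∣ 4 := by
      interval_cases h : orderOf (⟨i, hiQ⟩ : ↥Q) <;> simp_all
    have : (⟨i, hiQ⟩ : ↥Q) ^ 4 = 1 := orderOf_dvd_iff_pow_eq_one.mp h4
    have := congrArg Subtype.val this
    simpa using this
  -- commutation facts
  have hit : i * t' = t' * i := (Subgroup.mem_centralizer_iff.mp ht'c i hiQ)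
  have hiz : ∀ z ∈ Z0, i * z = z * i := fun z hz => Subgroup.mem_centralizer_iff.mp (hZ0C hz) i hiQ
  have htz : ∀ z ∈ Z0, z * t' = t' * z := fun z hz =>
    Subgroup.mem_centralizer_iff.mp ht'c z (hZ0Q hz)
  have hzz : ∀ z ∈ Z0, ∀ z' ∈ Z0, z * z' = z' * z := fun z hz z' hz' =>
    Subgroup.mem_centralizer_iff.mp (hZ0C hz') z (hZ0Q hz)
  obtain ⟨S, hS⟩ : ∃ S : Set G, S = ({i, t'} : Set G) ∪ (Z0 : Set G) := ⟨_, rfl⟩
  have hScomm : ∀ x ∈ S, ∀ y ∈ S, x * y = y * x := by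
    intro x hx y hy
    rw [hS] at hx hy
    rcases hx with (rfl | hx) | hx <;> rcases hy with (rfl | hy) | hy
    · rfl
    · rw [Set.mem_singleton_iff.mp hy]; exact hit
    · exact hiz y hy
    · rw [Set.mem_singleton_iff.mp hx]; exact hit.symm
    · rw [Set.mem_singleton_iff.mp hx, Set.mem_singleton_iff.mp hy]
    · rw [Set.mem_singleton_iff.mp hx]; exact (htz y hy).symm
    · exact (hiz x hx).symm
    · rw [Set.mem_singleton_iff.mp hy]; exact htz x hx
    · exact hzz x hx y hy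
  obtain ⟨B, hB⟩ : ∃ B : Subgroup G, B = Subgroup.closure S := ⟨_, rfl⟩
  have hBc : IsMulCommutative ↥B := hB ▸ Subgroup.isMulCommutative_closure hScomm
  have hiB : i ∈ B := hB ▸ Subgroup.subset_closure (hS ▸ Or.inl (Or.inl rfl))
  have ht'B : t' ∈ B := hB ▸ Subgroup.subset_closure (hS ▸ Or.inl (Or.inr rfl))
  have hZ0B : Z0 ≤ B := fun z hz => hB ▸ Subgroup.subset_closure (hS ▸ Or.inr hz)
  have hBH : B ≤ H := by
    rw [hB, Subgroup.closure_le, hS]
    rintro x ((rfl | hx) | hx)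
    · exact hQH hiQ
    · rw [Set.mem_singleton_iff.mp hx]; exact ht'H
    · exact hQH (hZ0Q hx)
  -- `B` is a 2-group
  obtain ⟨P, hP⟩ : ∃ P : Subgroup G, P = Subgroup.zpowers t' ⊔ Q := ⟨_, rfl⟩
  have ht'N : t' ∈ Subgroup.normalizer (Q : Set G) := Subgroup.centralizer_le_normalizer _ ht'c
  have hPp : IsPGroup 2 ↥P := by
    rw [hP]
    exact IsPGroup.to_sup_of_normal_right' (isPGroup_zpowers_of_pow ht'2) hQp
      (zpowers_le_normalizer_of_mem ht'N)
  have hBP : B ≤ P := by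
    rw [hB, Subgroup.closure_le, hS, hP]
    rintro x ((rfl | hx) | hx)
    · exact Subgroup.mem_sup_right hiQ
    · rw [Set.mem_singleton_iff.mp hx]; exact Subgroup.mem_sup_left (Subgroup.mem_zpowers t')
    · exact Subgroup.mem_sup_right (hZ0Q hx)
  have hBp : IsPGroup 2 ↥B := hPp.to_le hBP
  -- exponent 4
  have ht'4 : t' ^ 4 = 1 := by
    have hmem : t' ^ 2 ∈ Z0 := by
      rw [hZ0]; exact ⟨hm2, Subgroup.pow_mem _ ht'c 2⟩
    have := hzsq _ hmem
    rw [← pow_mul] at this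
    exact this
  have hexp : ∀ b ∈ B, b ^ 4 = 1 := by
    intro b hb
    rw [hB] at hb
    induction hb using Subgroup.closure_induction with
    | mem x hx =>
      rw [hS] at hx
      rcases hx with (rfl | hx) | hx
      · exact hi4
      · rw [Set.mem_singleton_iff.mp hx]; exact ht'4
      · have := hzsq x hx
        calc x ^ 4 = (x ^ 2) ^ 2 := by rw [← pow_mul]
          _ = 1 := by rw [this, one_pow]
    | one => exact one_pow 4
    | mul x y hx hy ihx ihy =>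
      have hc : x * y = y * x := by
        have := hBc.is_comm.comm (⟨x, hB ▸ hx⟩ : ↥B) ⟨y, hB ▸ hy⟩
        exact congrArg Subtype.val this
      have hc' : Commute x y := hc
      rw [hc'.mul_pow, ihx, ihy, one_mul]
    | inv x hx ih => rw [inv_pow, ih, inv_one]
  -- order at least 8
  have h1 : 2 * Nat.card ↥Z0 ≤ Nat.card ↥(B ⊓ Q : Subgroup G) := by
    apply two_mul_card_le_of_lt
    refine lt_of_le_of_ne (le_inf hZ0B hZ0Q) ?_
    intro h
    apply hiC
    have : i ∈ Z0 := by rw [h]; exact ⟨hiB, hiQ⟩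
    exact hZ0C this
  have h2 : 2 * Nat.card ↥(B ⊓ Q : Subgroup G) ≤ Nat.card ↥B := by
    apply two_mul_card_le_of_lt
    refine lt_of_le_of_ne inf_le_left ?_
    intro h
    apply hm1
    have : t' ∈ B ⊓ Q := by rw [h]; exact ht'B
    exact this.2
  have h0 : 2 ≤ Nat.card ↥Z0 := by
    have hpos : 0 < Nat.card ↥Z0 := Nat.card_pos
    have : Nat.card ↥Z0 ≠ 1 := fun h => hZ0ne (Subgroup.card_eq_one.mp h)
    omega
  have h8 : 8 ≤ Nat.card ↥B := by omega
  -- not cyclic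
  have hnc : ¬ IsCyclic ↥B := by
    intro hc
    obtain ⟨g, hg⟩ := hc.exists_generator
    have ho : orderOf g = Nat.card ↥B := orderOf_eq_card_of_forall_mem_zpowers hg
    have hg4 : g ^ 4 = 1 := Subtype.ext (by simpa using hexp g g.2)
    have := orderOf_le_of_pow_eq_one (by norm_num) hg4
    omega
  by_contra hcon
  have hnB : ¬ CalA B := fun h => hcon (h.mono hBH)
  rcases Cfsg.Agent.Lib.Helper2.NA8.U2_cyclic_or_card_le_four hBp hBc hnB with h | h
  · exact hnc h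
  · omega

end Cfsg.Agent.Lib.Helper5.NA8
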