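import Mathlib
import Cfsg.Prelude.Def_Transfer
import Cfsg.Agent.Lib.Helper5.NA8U8b
import Cfsg.Agent.Lib.Helper2.NA8U7
import Cfsg.Agent.Lib.Helper1.ExtraspecialOrder
set_option autoImplicit false
open scoped commutatorElement
namespace Cfsg.Agent.Lib.Helper5.NA8

variable {G : Type*} [Group G]

/-- the statement of unit U6 (special core), as a hypothesis -/
def U6Statement (G : Type*) [Group G] : Prop :=
  ∀ {X K : Subgroup G}, IsPGroup 2 ↥X → Odd (Nat.card ↥K) →
    K ≤ Subgroup.normalizer (X : Set G) → ⁅X, K⁆ = X → ¬ IsMulCommutative ↥X →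
    (∀ Y : Subgroup G, Y ≤ X → Y ≠ X → K ≤ Subgroup.normalizer (Y : Set G) → ¬ CalA Y) →
    (∀ Y : Subgroup G, Y ≤ X → Y ≠ X → K ≤ Subgroup.normalizer (Y : Set G) →
      ¬ K ≤ Subgroup.centralizer (Y : Set G) → SmallType Y) →
    Cfsg.IsSpecial 2 ↥X ∧ (Nat.card ↥(Subgroup.center ↥X) = 2 ∨ Nat.card ↥(Subgroup.center ↥X) = 4)

/-- U8 (F1, weak form), modulo U6. -/
theorem F1_weak_of_U6 [Finite G] (hU6 : U6Statement G) (Y K : Subgroup G) (hY : IsPGroup 2 ↥Y)
    (hK : Odd (Nat.card ↥K))
    (hKN : K ≤ Subgroup.normalizer (Y : Set G)) (hKC : ¬ K ≤ Subgroup.centralizer (Y : Set G))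
    (hA : ¬ CalA Y) : SmallType Y := by
  haveI : Fact (Nat.Prime 2) := ⟨Nat.prime_two⟩
  induction' hn : Nat.card ↥Y using Nat.strong_induction_on with n ih generalizing Y
  have hne : ⁅Y, K⁆ ≠ ⊥ := by
    intro h
    apply hKC
    exact Subgroup.le_centralizer_iff.mp (Subgroup.commutator_eq_bot_iff_le_centralizer.mp h)
  by_cases hYc : IsMulCommutative ↥Y
  · -- abelian case
    rcases Cfsg.Agent.Lib.Helper2.NA8.U2_cyclic_or_card_le_four hY hYc hA with hc | h4
    · exact absurd (le_centralizer_of_isCyclic hY hc hK hKN) hKC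
    · left
      obtain ⟨a, ha⟩ := IsPGroup.iff_card.mp hY
      have hncyc : ¬ IsCyclic ↥Y := fun hc => hKC (le_centralizer_of_isCyclic hY hc hK hKN)
      have ha2 : a ≤ 2 := by
        by_contra hcon
        push Not at hcon
        have : 2 ^ 3 ≤ 2 ^ a := Nat.pow_le_pow_right (by norm_num) hcon
        omega
      have : a = 2 := by
        interval_cases a
        · exfalso
          apply hncyc
          rw [pow_zero] at ha
          haveI : Subsingleton ↥Y := (Nat.card_eq_one_iff_unique.mp ha).1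
          exact isCyclic_of_subsingleton
        · exfalso
          apply hncyc
          rw [pow_one] at ha
          exact isCyclic_of_prime_card ha
        · rfl
      rw [this] at ha
      exact ⟨by rw [ha]; norm_num, hncyc⟩
  · -- nonabelian case
    obtain ⟨Y0, hY0⟩ : ∃ Y0 : Subgroup G, Y0 = ⁅Y, K⁆ := ⟨_, rfl⟩
    have hY0Y : Y0 ≤ Y := hY0 ▸ Subgroup.le_normalizer_iff_commutator_le_left.mp hKN
    have hKY0 : K ≤ Subgroup.normalizer (Y0 : Set G) :=
      hY0 ▸ Subgroup.normalizer_commutator_ge_right Y K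
    have hYY0 : Y ≤ Subgroup.normalizer (Y0 : Set G) :=
      hY0 ▸ Subgroup.normalizer_commutator_ge_left Y K
    have hY0K : ⁅Y0, K⁆ = Y0 := by rw [hY0]; exact commutator_commutator_eq hY hK hKN
    have hY0ne : ⁅Y0, K⁆ ≠ ⊥ := by rw [hY0K, hY0]; exact hne
    by_cases hprop : Y0 = Y
    · -- `Y = [Y,K]`: special core
      right
      rw [hY0] at hprop
      have hstar : ∀ Y' : Subgroup G, Y' ≤ Y → Y' ≠ Y →
          K ≤ Subgroup.normalizer (Y' : Set G) → ¬ CalA Y' :=
        fun Y' h1 _ _ h => hA (h.mono h1)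
      have hF : ∀ Y' : Subgroup G, Y' ≤ Y → Y' ≠ Y → K ≤ Subgroup.normalizer (Y' : Set G) →
          ¬ K ≤ Subgroup.centralizer (Y' : Set G) → SmallType Y' := by
        intro Y' h1 h2 h3 h4
        have hlt : Nat.card ↥Y' < n := by
          rw [← hn]
          have := two_mul_card_le_of_lt (lt_of_le_of_ne h1 h2)
          have hpos : 0 < Nat.card ↥Y' := Nat.card_pos
          omega
        exact ih _ hlt Y' (hY.to_le h1) h3 h4 (fun h => hA (h.mono h1)) rfl
      obtain ⟨hsp, hZ⟩ := hU6 hY hK hKN hprop hYc hstar hF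
      rcases hZ with hZ | hZ
      · have hex : Cfsg.IsExtraspecial 2 ↥Y := ⟨hsp, hZ⟩
        obtain ⟨m, hm1, hm⟩ := Cfsg.Agent.Lib.Helper1.card_extraspecial hex
        by_cases hm2 : 2 ≤ m
        · exfalso
          apply hA
          apply Cfsg.Agent.Lib.Helper2.NA8.U7_calA_of_extraspecial hex
          rw [hm]
          calc 16 ≤ 2 ^ (2 * 2 + 1) := by norm_num
            _ ≤ 2 ^ (2 * m + 1) := Nat.pow_le_pow_right (by norm_num) (by omega)
        · have : m = 1 := by omega
          rw [this] at hm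
          exact ⟨by rw [hm]; norm_num, hYc⟩
      · exact absurd (Cfsg.Agent.Lib.Helper2.NA8.U7'_calA_of_special_center_four hsp hZ) hA
    · -- `Y0 < Y`
      exfalso
      have hY0p : IsPGroup 2 ↥Y0 := hY.to_le hY0Y
      have hlt : Nat.card ↥Y0 < n := by
        rw [← hn]
        have := two_mul_card_le_of_lt (lt_of_le_of_ne hY0Y hprop)
        have hpos : 0 < Nat.card ↥Y0 := Nat.card_pos
        omega
      have hKC0 : ¬ K ≤ Subgroup.centralizer (Y0 : Set G) := by
        intro h
        apply hY0ne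
        exact Subgroup.commutator_eq_bot_iff_le_centralizer.mpr (Subgroup.le_centralizer_iff.mp h)
      have hsmall := ih _ hlt Y0 hY0p hKY0 hKC0 (fun h => hA (h.mono hY0Y)) rfl
      -- the element `t`
      have hdec := Cfsg.Agent.Lib.Helper1.coprime_commutator_sup_centralizer K Y hKN
        (coprime_of_odd_of_isPGroup hY hK) (Or.inr (isSolvable_of_isPGroup_two hY))
      rw [← hY0] at hdec
      have hnle : ¬ (Y ⊓ Subgroup.centralizer (K : Set G)) ≤ Y0 := by
        intro h
        apply hprop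
        apply le_antisymm hY0Y
        rw [← hdec]
        exact sup_le le_rfl h
      obtain ⟨t, htYC, htY0⟩ := SetLike.not_le_iff_exists.mp hnle
      have htY : t ∈ Y := htYC.1
      have htK : t ∈ Subgroup.centralizer (K : Set G) := htYC.2
      have ht2 : ∃ n : ℕ, t ^ 2 ^ n = 1 := by
        obtain ⟨k, hk⟩ := hY ⟨t, htY⟩
        refine ⟨k, ?_⟩
        have := congrArg Subtype.val hk
        rw [Subgroup.coe_pow, Subgroup.coe_one] at this
        exact this
      have htN : t ∈ Subgroup.normalizer (Y0 : Set G) := hYY0 htY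
      rcases hsmall with ⟨h4, hnc⟩ | ⟨h8, hna⟩
      · have htc := centralizes_four h4 hK hKY0 hY0ne htN htK ht2
        exact hA (calA_of_four_group h4 hnc hY0Y htY htY0 htc ht2)
      · have htc := centralizes_eight h8 hna hK hKY0 hY0ne htN htK ht2
        exact hA (calA_of_eight_of_central h8 hna hY0Y htY htY0 htc ht2)

end Cfsg.Agent.Lib.Helper5.NA8
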