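import Mathlib
import Cfsg.Prelude.Def_Transfer
import Cfsg.Prelude.Def_Solvable
import Cfsg.Agent.Lib.Helper5.NA8U8
import Cfsg.Agent.Lib.Helper7.NA8U12
import Cfsg.Agent.Lib.Helper7.NA8U13
import Cfsg.Agent.Lib.Helper7.NA8U15pre
set_option autoImplicit false
open scoped commutatorElement
namespace Cfsg.Agent.Lib.Helper5.NA8

/-- the statement of unit U14 (STEP 2b), as a hypothesis -/
def U14Statement (S : Type*) [Group S] : Prop :=
  ∀ {X K : Subgroup S}, IsPGroup 2 ↥X → Odd (Nat.card ↥K) →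
    K ≤ Subgroup.normalizer (X : Set S) →
    (∀ Y : Subgroup S, Y ≤ X → Y ≠ X → K ≤ Subgroup.normalizer (Y : Set S) → ¬ CalA Y) →
    ⁅X, K⁆ ≠ ⊥ → ⁅X, K⁆ ≠ X →
    IsMulCommutative ↥X ∨ ∃ (X₀ : Subgroup S) (k : ℕ), X₀ ≤ X ∧ X₀.relIndex X = 2 ∧
      Nonempty (↥X₀ ≃* QuaternionGroup (2 ^ (k + 1))) ∧
      X₀ ⊔ (X ⊓ Subgroup.centralizer (X₀ : Set S)) = X

/-- Assembly of S4409 from the units U6 (special core), U11 (STEP 1) and U14 (STEP 2b). -/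
theorem main_of_units {S : Type*} [Group S] [Finite S]
    (hU6 : U6Statement S) (hU14 : U14Statement S)
    (hO : Cfsg.pPrimeCore 2 S = ⊥)
    (h8 : ∃ A : Subgroup S, IsMulCommutative ↥A ∧ ¬ IsCyclic ↥A ∧ Nat.card ↥A = 8)
    (hmin : ∀ R : Subgroup S, R ≠ ⊤ → (∃ k : ℕ, R.index = 2 ^ k) →
      ¬ ∃ A : Subgroup S, A ≤ R ∧ IsMulCommutative ↥A ∧ ¬ IsCyclic ↥A ∧ Nat.card ↥A = 8)
    (X : Sylow 2 S) (hXn : (X : Subgroup S).Normal) :
    (X : Subgroup S).Normal ∧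
      (IsMulCommutative ↥X ∨
        (Cfsg.IsExtraspecial 2 ↥X ∧ 32 ≤ Nat.card ↥X) ∨
        (∃ (X₀ : Subgroup S) (k : ℕ), X₀ ≤ (X : Subgroup S) ∧ X₀.relIndex (X : Subgroup S) = 2 ∧
          Nonempty (↥X₀ ≃* QuaternionGroup (2 ^ (k + 1))) ∧
          X₀ ⊔ ((X : Subgroup S) ⊓ Subgroup.centralizer (X₀ : Set S)) = (X : Subgroup S)) ∨
        (Cfsg.IsSpecial 2 ↥X ∧ Nat.card ↥(Subgroup.center ↥X) = 4)) := by
  haveI : Fact (Nat.Prime 2) := ⟨Nat.prime_two⟩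
  refine ⟨hXn, ?_⟩
  have hmin' : ∀ R : Subgroup S, R ≠ ⊤ → (∃ k : ℕ, R.index = 2 ^ k) → ¬ CalA R := hmin
  obtain ⟨A, hA1, hA2, hA3⟩ := h8
  have h8' : CalA (⊤ : Subgroup S) := ⟨A, le_top, hA1, hA2, hA3⟩
  obtain ⟨K, hK, hXK, hstar⟩ := Cfsg.Agent.Lib.Helper7.NA8.U12_setup hmin' X hXn
  have hX : IsPGroup 2 ↥(X : Subgroup S) := X.isPGroup'
  have hKX : K ≤ Subgroup.normalizer ((X : Subgroup S) : Set S) := by
    rw [Subgroup.normalizer_eq_top_iff.mpr hXn]; exact le_top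
  by_cases hab : IsMulCommutative ↥(X : Subgroup S)
  · exact Or.inl hab
  by_cases hc : ⁅(X : Subgroup S), K⁆ = ⊥
  · exact Or.inl (Cfsg.Agent.Lib.Helper7.NA8.U13_step2a hO h8' hmin' X K hK hXK hc)
  by_cases hQ : ⁅(X : Subgroup S), K⁆ = (X : Subgroup S)
  · -- STEP 2c
    have hAX : A ≤ (X : Subgroup S) := by
      have hAp : IsPGroup 2 ↥A := isPGroup_two_of_card (n := 3) (by rw [hA3]; norm_num)
      obtain ⟨P, hP⟩ := hAp.exists_le_sylow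
      letI := Sylow.unique_of_normal X hXn
      rw [Subsingleton.elim X P]; exact hP
    have hCalAX : CalA (X : Subgroup S) := ⟨A, hAX, hA1, hA2, hA3⟩
    have hF : ∀ Y : Subgroup S, Y ≤ (X : Subgroup S) → Y ≠ (X : Subgroup S) →
        K ≤ Subgroup.normalizer (Y : Set S) → ¬ K ≤ Subgroup.centralizer (Y : Set S) →
        SmallType Y := fun Y hYX hYne hKY hKC =>
      F1_weak_of_U6 hU6 Y K (hX.to_le hYX) hK hKY hKC (hstar Y hYX hYne hKY)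
    rcases Cfsg.Agent.Lib.Helper7.NA8.U15_of_U6 hab hCalAX (hU6 hX hK hKX hQ hab hstar hF) with h | h
    · exact Or.inr (Or.inl h)
    · exact Or.inr (Or.inr (Or.inr h))
  · -- STEP 2b
    rcases hU14 hX hK hKX hstar hc hQ with h | h
    · exact Or.inl h
    · exact Or.inr (Or.inr (Or.inl h))

end Cfsg.Agent.Lib.Helper5.NA8
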