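import Mathlib
import Cfsg.Prelude.Def_Transfer
import Cfsg.Prelude.Def_Solvable
import Cfsg.Agent.Lib.Helper5.NA8U8
import Cfsg.Agent.Lib.Helper5.NA8Main
import Cfsg.Agent.Lib.Helper2.NA8U6
import Cfsg.Agent.Lib.Helper3.NA8U9
import Cfsg.Agent.Lib.Helper7.NA8U14pre
set_option autoImplicit false
open scoped commutatorElement
namespace Cfsg.Agent.Lib.Helper5.NA8

variable {G : Type*} [Group G]

theorem u6Statement [Finite G] : U6Statement G :=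
  fun hX hK hKX hXK hna hstar hF =>
    Cfsg.Agent.Lib.Helper2.NA8.U6_special_core hX hK hKX hXK hna hstar hF

/-- U8 (F1, weak form). -/
theorem F1_weak [Finite G] (Y K : Subgroup G) (hY : IsPGroup 2 ↥Y) (hK : Odd (Nat.card ↥K))
    (hKN : K ≤ Subgroup.normalizer (Y : Set G)) (hKC : ¬ K ≤ Subgroup.centralizer (Y : Set G))
    (hA : ¬ CalA Y) : SmallType Y :=
  F1_weak_of_U6 u6Statement Y K hY hK hKN hKC hA

/-- U10 (F1, final form). -/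
theorem F1 [Finite G] (Y K : Subgroup G) (hY : IsPGroup 2 ↥Y) (hK : Odd (Nat.card ↥K))
    (hKN : K ≤ Subgroup.normalizer (Y : Set G)) (hKC : ¬ K ≤ Subgroup.centralizer (Y : Set G))
    (hA : ¬ CalA Y) :
    (Nat.card ↥Y = 4 ∧ ¬ IsCyclic ↥Y ∧ ∀ y ∈ Y, y ^ 2 = 1) ∨
      (Nat.card ↥Y = 8 ∧ ¬ IsMulCommutative ↥Y ∧ Nonempty (↥Y ≃* QuaternionGroup 2)) := by
  rcases F1_weak Y K hY hK hKN hKC hA with ⟨h4, hnc⟩ | ⟨h8, hna⟩
  · left
    refine ⟨h4, hnc, ?_⟩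
    intro y hy
    have hd : orderOf (⟨y, hy⟩ : ↥Y) ∣ 4 := h4 ▸ orderOf_dvd_natCard _
    have hne : orderOf (⟨y, hy⟩ : ↥Y) ≠ 4 := by
      intro h
      exact hnc (isCyclic_of_orderOf_eq_card _ (by rw [h, h4]))
    have hle := Nat.le_of_dvd (by norm_num) hd
    have hpos : 0 < orderOf (⟨y, hy⟩ : ↥Y) := orderOf_pos _
    have h2 : orderOf (⟨y, hy⟩ : ↥Y) ∣ 2 := by
      interval_cases h : orderOf (⟨y, hy⟩ : ↥Y) <;> simp_all
    have : (⟨y, hy⟩ : ↥Y) ^ 2 = 1 := orderOf_dvd_iff_pow_eq_one.mp h2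
    have := congrArg Subtype.val this
    rw [Subgroup.coe_pow, Subgroup.coe_one] at this
    exact this
  · right
    exact ⟨h8, hna, Cfsg.Agent.Lib.Helper3.NA8.U9_quat_of_card_eight Y K h8 hna hK hKN hKC⟩

theorem u14Statement {S : Type*} [Group S] [Finite S] : U14Statement S :=
  fun hX hK hKX hstar hQ1 hQ2 =>
    Cfsg.Agent.Lib.Helper7.NA8.U14_of_U8_U9 (fun Y K => F1_weak Y K)
      (fun Y K => Cfsg.Agent.Lib.Helper3.NA8.U9_quat_of_card_eight Y K) hX hK hKX hstar hQ1 hQ2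

/-- S4409 from STEP 1 alone. -/
theorem main_of_step1 {S : Type*} [Group S] [Finite S]
    (hO : Cfsg.pPrimeCore 2 S = ⊥)
    (h8 : ∃ A : Subgroup S, IsMulCommutative ↥A ∧ ¬ IsCyclic ↥A ∧ Nat.card ↥A = 8)
    (hmin : ∀ R : Subgroup S, R ≠ ⊤ → (∃ k : ℕ, R.index = 2 ^ k) →
      ¬ ∃ A : Subgroup S, A ≤ R ∧ IsMulCommutative ↥A ∧ ¬ IsCyclic ↥A ∧ Nat.card ↥A = 8)
    (X : Sylow 2 S) (hXn : (X : Subgroup S).Normal) :
    (X : Subgroup S).Normal ∧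
      (IsMulCommutative ↥X ∨
        (Cfsg.IsExtraspecial 2 ↥X ∧ 32 ≤ Nat.card ↥X) ∨
        (∃ (X₀ : Subgroup S) (k : ℕ), X₀ ≤ (X : Subgroup S) ∧ X₀.relIndex (X : Subgroup S) = 2 ∧
          Nonempty (↥X₀ ≃* QuaternionGroup (2 ^ (k + 1))) ∧
          X₀ ⊔ ((X : Subgroup S) ⊓ Subgroup.centralizer (X₀ : Set S)) = (X : Subgroup S)) ∨
        (Cfsg.IsSpecial 2 ↥X ∧ Nat.card ↥(Subgroup.center ↥X) = 4)) :=
  main_of_units u6Statement u14Statement hO h8 hmin X hXn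

end Cfsg.Agent.Lib.Helper5.NA8
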