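import Mathlib
import Cfsg.Prelude.Def_Transfer
import Cfsg.Prelude.Def_Solvable
import Cfsg.Agent.Lib.Helper5.NA8Defs
set_option autoImplicit false
open scoped commutatorElement
/-! FARM NA8 (S4409) — STUBS. Reference shapes only: prove each unit in a NEW file
`Cfsg/Agent/Lib/<You>/NA8<Unit>.lean`, namespace `Cfsg.Agent.Lib.Helper5.NA8` NOT required (use your own
namespace), same statement. Do not import this file. -/
namespace Cfsg.Agent.Lib.Helper5.NA8Stubs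
open Cfsg.Agent.Lib.Helper5.NA8

variable {G : Type*} [Group G]

/-- U1 (L0a'): a four-group `W` and a 2-element `y ∉ W` centralizing `W` generate (some power of `y` with
`W`) an abelian noncyclic subgroup of order 8. -/
theorem U1_calA_of_four_group [Finite G] {W H : Subgroup G} (hW4 : Nat.card ↥W = 4) (hWnc : ¬ IsCyclic ↥W)
    (hWH : W ≤ H) {y : G} (hyH : y ∈ H) (hyW : y ∉ W) (hyc : y ∈ Subgroup.centralizer (W : Set G))
    (hy2 : ∃ n : ℕ, y ^ 2 ^ n = 1) : CalA H := sorry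

/-- U2 (L0c): an abelian 2-group without CalA is cyclic or of order at most 4.
(Lead.UniqueP.cyclic_or_quaternion gives two involutions not in one cyclic subgroup; then U1.) -/
theorem U2_cyclic_or_card_le_four [Finite G] {B : Subgroup G} (hB : IsPGroup 2 ↥B)
    (hBc : IsMulCommutative ↥B) (hA : ¬ CalA B) : IsCyclic ↥B ∨ Nat.card ↥B ≤ 4 := sorry

/-- U3a: a subgroup of order 2 normalized by `K` is centralized by `K`. -/
theorem U3a_commutator_eq_bot_of_card_two {U K : Subgroup G} (hU : Nat.card ↥U = 2)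
    (hK : K ≤ Subgroup.normalizer (U : Set G)) : ⁅U, K⁆ = ⊥ := sorry

/-- U3b: `K` acts trivially on `Y/U` when `|Y : U| = 2`. -/
theorem U3b_commutator_le_of_index_two [Finite G] {U Y K : Subgroup G} (hUY : U ≤ Y)
    (hcard : Nat.card ↥Y = 2 * Nat.card ↥U) (hKU : K ≤ Subgroup.normalizer (U : Set G))
    (hKY : K ≤ Subgroup.normalizer (Y : Set G)) : ⁅Y, K⁆ ≤ U := sorry

/-- U3c (coprime action): `[Y,K] ≤ U` and `[U,K] = 1` force `[Y,K] = 1`
(`Helper1.coprime_commutator_commutator`). -/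
theorem U3c_commutator_eq_bot [Finite G] {Y K U : Subgroup G} (hY : IsPGroup 2 ↥Y)
    (hK : Odd (Nat.card ↥K)) (hKY : K ≤ Subgroup.normalizer (Y : Set G))
    (h1 : ⁅Y, K⁆ ≤ U) (h2 : ⁅U, K⁆ = ⊥) : ⁅Y, K⁆ = ⊥ := sorry

/-- U3d (IRR4): `K` of odd order acting nontrivially on a group `W` of order 4 fixes no subgroup of order 2. -/
theorem U3d_irr_four [Finite G] {W K U : Subgroup G} (hW4 : Nat.card ↥W = 4) (hK : Odd (Nat.card ↥K))
    (hKW : K ≤ Subgroup.normalizer (W : Set G)) (hne : ⁅W, K⁆ ≠ ⊥) (hUW : U ≤ W)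
    (hKU : K ≤ Subgroup.normalizer (U : Set G)) : U = ⊥ ∨ U = W := sorry

/-- U3e (IRR8): `K` of odd order acting nontrivially on a nonabelian group `Q` of order 8: every proper
`K`-invariant subgroup has order at most 2 (and is centralized by `K`). -/
theorem U3e_irr_eight [Finite G] {Q K U : Subgroup G} (hQ8 : Nat.card ↥Q = 8) (hna : ¬ IsMulCommutative ↥Q)
    (hK : Odd (Nat.card ↥K)) (hKQ : K ≤ Subgroup.normalizer (Q : Set G)) (hne : ⁅Q, K⁆ ≠ ⊥)
    (hUQ : U ≤ Q) (hKU : K ≤ Subgroup.normalizer (U : Set G)) (hU : U ≠ Q) :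
    Nat.card ↥U ≤ 2 ∧ ⁅U, K⁆ = ⊥ := sorry

/-- U4: a 2-element `t` commuting with `K` and normalizing the `K`-irreducible four-group `W` centralizes `W`. -/
theorem U4_centralizes_four [Finite G] {W K : Subgroup G} (hW4 : Nat.card ↥W = 4) (hK : Odd (Nat.card ↥K))
    (hKW : K ≤ Subgroup.normalizer (W : Set G)) (hne : ⁅W, K⁆ ≠ ⊥) {t : G}
    (htW : t ∈ Subgroup.normalizer (W : Set G)) (htK : t ∈ Subgroup.centralizer (K : Set G))
    (ht2 : ∃ n : ℕ, t ^ 2 ^ n = 1) : t ∈ Subgroup.centralizer (W : Set G) := sorry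

/-- U5: the same for a nonabelian `Q` of order 8 on which `K` acts nontrivially. -/
theorem U5_centralizes_eight [Finite G] {Q K : Subgroup G} (hQ8 : Nat.card ↥Q = 8)
    (hna : ¬ IsMulCommutative ↥Q) (hK : Odd (Nat.card ↥K))
    (hKQ : K ≤ Subgroup.normalizer (Q : Set G)) (hne : ⁅Q, K⁆ ≠ ⊥) {t : G}
    (htQ : t ∈ Subgroup.normalizer (Q : Set G)) (htK : t ∈ Subgroup.centralizer (K : Set G))
    (ht2 : ∃ n : ℕ, t ^ 2 ^ n = 1) : t ∈ Subgroup.centralizer (Q : Set G) := sorry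

/-- U6 (special core; shared by F1(ii) and STEP 2 CASE Q = X). `hF` is the induction hypothesis / F1. -/
theorem U6_special_core [Finite G] {X K : Subgroup G} (hX : IsPGroup 2 ↥X) (hK : Odd (Nat.card ↥K))
    (hKX : K ≤ Subgroup.normalizer (X : Set G)) (hXK : ⁅X, K⁆ = X) (hna : ¬ IsMulCommutative ↥X)
    (hstar : ∀ Y : Subgroup G, Y ≤ X → Y ≠ X → K ≤ Subgroup.normalizer (Y : Set G) → ¬ CalA Y)
    (hF : ∀ Y : Subgroup G, Y ≤ X → Y ≠ X → K ≤ Subgroup.normalizer (Y : Set G) →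
      ¬ K ≤ Subgroup.centralizer (Y : Set G) → SmallType Y) :
    Cfsg.IsSpecial 2 ↥X ∧ (Nat.card ↥(Subgroup.center ↥X) = 2 ∨ Nat.card ↥(Subgroup.center ↥X) = 4) := sorry

/-- U7: an extraspecial 2-group of order at least 16 (hence 32) has CalA. -/
theorem U7_calA_of_extraspecial [Finite G] {Y : Subgroup G} (hY : Cfsg.IsExtraspecial 2 ↥Y)
    (h16 : 16 ≤ Nat.card ↥Y) : CalA Y := sorry

/-- U7': a special 2-group with centre of order 4 and more than 4 elements has CalA. -/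
theorem U7'_calA_of_special_center_four [Finite G] {Y : Subgroup G} (hY : Cfsg.IsSpecial 2 ↥Y)
    (h4 : Nat.card ↥(Subgroup.center ↥Y) = 4) : CalA Y := sorry

/-- U8 (F1, weak form) — helper5. -/
theorem U8_F1_weak [Finite G] (Y K : Subgroup G) (hY : IsPGroup 2 ↥Y) (hK : Odd (Nat.card ↥K))
    (hKN : K ≤ Subgroup.normalizer (Y : Set G)) (hKC : ¬ K ≤ Subgroup.centralizer (Y : Set G))
    (hA : ¬ CalA Y) : SmallType Y := sorry

/-- U9 (F1e): a nonabelian group of order 8 with a nontrivial odd-order action is quaternion. -/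
theorem U9_quat_of_card_eight [Finite G] (Y K : Subgroup G) (h8 : Nat.card ↥Y = 8)
    (hna : ¬ IsMulCommutative ↥Y) (hK : Odd (Nat.card ↥K))
    (hKN : K ≤ Subgroup.normalizer (Y : Set G)) (hKC : ¬ K ≤ Subgroup.centralizer (Y : Set G)) :
    Nonempty (↥Y ≃* QuaternionGroup 2) := sorry

/-- U10 (F1, final form): U8 + U9. -/
theorem U10_F1 [Finite G] (Y K : Subgroup G) (hY : IsPGroup 2 ↥Y) (hK : Odd (Nat.card ↥K))
    (hKN : K ≤ Subgroup.normalizer (Y : Set G)) (hKC : ¬ K ≤ Subgroup.centralizer (Y : Set G))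
    (hA : ¬ CalA Y) :
    (Nat.card ↥Y = 4 ∧ ¬ IsCyclic ↥Y ∧ ∀ y ∈ Y, y ^ 2 = 1) ∨
      (Nat.card ↥Y = 8 ∧ ¬ IsMulCommutative ↥Y ∧ Nonempty (↥Y ≃* QuaternionGroup 2)) := sorry

/-! ### Steps of the main proof (ambient group `S`) -/

variable {S : Type*} [Group S] [Finite S]

/-- U11 (STEP 1) — helper4: the Sylow 2-subgroup is normal. -/
theorem U11_step1 [Group.IsSolvable S] (hO : Cfsg.pPrimeCore 2 S = ⊥) (h8 : CalA (⊤ : Subgroup S))
    (hmin : ∀ R : Subgroup S, R ≠ ⊤ → (∃ k : ℕ, R.index = 2 ^ k) → ¬ CalA R) (X : Sylow 2 S) :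
    (X : Subgroup S).Normal := sorry

/-- U12 (STEP 2 setup): a complement `K` of the normal Sylow 2-subgroup and the property (*). -/
theorem U12_setup (hmin : ∀ R : Subgroup S, R ≠ ⊤ → (∃ k : ℕ, R.index = 2 ^ k) → ¬ CalA R)
    (X : Sylow 2 S) (hXn : (X : Subgroup S).Normal) :
    ∃ K : Subgroup S, Odd (Nat.card ↥K) ∧ (X : Subgroup S) ⊔ K = ⊤ ∧
      ∀ Y : Subgroup S, Y ≤ (X : Subgroup S) → Y ≠ (X : Subgroup S) →
        K ≤ Subgroup.normalizer (Y : Set S) → ¬ CalA Y := sorry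

/-- U13 (STEP 2a): if `K` centralizes `X` then `K` is a normal 2'-subgroup, so `K = 1`, `S = X`,
and minimality forces `S = A` abelian. -/
theorem U13_step2a (hO : Cfsg.pPrimeCore 2 S = ⊥) (h8 : CalA (⊤ : Subgroup S))
    (hmin : ∀ R : Subgroup S, R ≠ ⊤ → (∃ k : ℕ, R.index = 2 ^ k) → ¬ CalA R)
    (X : Sylow 2 S) (K : Subgroup S) (hK : Odd (Nat.card ↥K)) (hXK : (X : Subgroup S) ⊔ K = ⊤)
    (hc : ⁅(X : Subgroup S), K⁆ = ⊥) : IsMulCommutative ↥(X : Subgroup S) := sorry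

/-- U14 (STEP 2b): `1 < [X,K] < X`. -/
theorem U14_step2b {X K : Subgroup S} (hX : IsPGroup 2 ↥X) (hK : Odd (Nat.card ↥K))
    (hKX : K ≤ Subgroup.normalizer (X : Set S))
    (hstar : ∀ Y : Subgroup S, Y ≤ X → Y ≠ X → K ≤ Subgroup.normalizer (Y : Set S) → ¬ CalA Y)
    (hQ1 : ⁅X, K⁆ ≠ ⊥) (hQ2 : ⁅X, K⁆ ≠ X) :
    IsMulCommutative ↥X ∨ ∃ (X₀ : Subgroup S) (k : ℕ), X₀ ≤ X ∧ X₀.relIndex X = 2 ∧
      Nonempty (↥X₀ ≃* QuaternionGroup (2 ^ (k + 1))) ∧
      X₀ ⊔ (X ⊓ Subgroup.centralizer (X₀ : Set S)) = X := sorry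

/-- U15 (STEP 2c): `[X,K] = X` nonabelian (U6 + Helper1.ExtraspecialOrder.card_extraspecial). -/
theorem U15_step2c {X K : Subgroup S} (hX : IsPGroup 2 ↥X) (hK : Odd (Nat.card ↥K))
    (hKX : K ≤ Subgroup.normalizer (X : Set S))
    (hstar : ∀ Y : Subgroup S, Y ≤ X → Y ≠ X → K ≤ Subgroup.normalizer (Y : Set S) → ¬ CalA Y)
    (hXK : ⁅X, K⁆ = X) (hna : ¬ IsMulCommutative ↥X) (h8 : CalA X) :
    (Cfsg.IsExtraspecial 2 ↥X ∧ 32 ≤ Nat.card ↥X) ∨
      (Cfsg.IsSpecial 2 ↥X ∧ Nat.card ↥(Subgroup.center ↥X) = 4) := sorry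

end Cfsg.Agent.Lib.Helper5.NA8Stubs
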