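import Mathlib
import Cfsg.Agent.Lib.Helper8.NG5Defs
import Cfsg.Agent.Lib.Helper5.NG5U12
import Cfsg.Agent.Lib.Helper4.ES2E
import Cfsg.Agent.S4189

/-!
# Farm NG5 (S1904): unit U16 `b1a` (Branch 1, centre of order 2), modulo U15.
Also the common tool: a set of pairwise commuting involutions together with the centre generates a
normal subgroup of exponent 2.
-/

set_option autoImplicit false
open scoped commutatorElement

namespace Cfsg.Agent.Lib.Helper5.NG5U16

open Cfsg.Agent.Lib.Helper8.NG5

/-- a subgroup generated by pairwise commuting elements is commutative -/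
theorem closure_comm {X : Type*} [Group X] (T : Set X)
    (hc : ∀ s ∈ T, ∀ t ∈ T, s * t = t * s) :
    ∀ x ∈ Subgroup.closure T, ∀ y ∈ Subgroup.closure T, x * y = y * x := by
  have h1 : Subgroup.closure T ≤ Subgroup.centralizer T := by
    rw [Subgroup.closure_le]
    intro t ht
    rw [SetLike.mem_coe, Subgroup.mem_centralizer_iff]
    intro s hs
    exact hc s hs t ht
  have h2 : Subgroup.closure T ≤ Subgroup.centralizer (Subgroup.closure T : Set X) := by
    rw [Subgroup.closure_le]
    intro t ht
    rw [SetLike.mem_coe, Subgroup.mem_centralizer_iff]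
    intro s hs
    have := h1 hs
    rw [Subgroup.mem_centralizer_iff] at this
    exact (this t ht).symm
  intro x hx y hy
  have := h2 hy
  rw [Subgroup.mem_centralizer_iff] at this
  exact this x hx

/-- a subgroup generated by pairwise commuting involutions has exponent 2 -/
theorem closure_exp2 {X : Type*} [Group X] (T : Set X) (h2 : ∀ t ∈ T, t ^ 2 = 1)
    (hc : ∀ s ∈ T, ∀ t ∈ T, s * t = t * s) : ∀ e ∈ Subgroup.closure T, e ^ 2 = 1 := by
  intro e he
  induction he using Subgroup.closure_induction with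
  | mem x hx => exact h2 x hx
  | one => exact one_pow 2
  | mul x y hx hy px py =>
    have hcomm : Commute x y := closure_comm T hc x hx y hy
    rw [hcomm.mul_pow, px, py, one_mul]
  | inv x hx px => rw [inv_pow, px, inv_one]

variable {X : Type*} [Group X] [Finite X] {A : Subgroup (MulAut X)}

/-- the subgroup generated by the centre and a set of pairwise commuting involutions -/
def invSub (S : Set X) : Subgroup X := Subgroup.closure ((Subgroup.center X : Set X) ∪ S)

theorem center_le_invSub (S : Set X) : Subgroup.center X ≤ invSub S := fun _ hz =>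
  Subgroup.subset_closure (Or.inl hz)

theorem mem_invSub (S : Set X) {s : X} (hs : s ∈ S) : s ∈ invSub S :=
  Subgroup.subset_closure (Or.inr hs)

theorem invSub_normal (b : B1 X A) (S : Set X) : (invSub S).Normal := by
  constructor
  intro e he g
  have h1 : g * e * g⁻¹ = ⁅g, e⁆ * e := by simp [commutatorElement_def]
  rw [h1]
  exact (invSub S).mul_mem (center_le_invSub S (b.comm g e)) he

theorem invSub_exp2 (b : B1 X A) (S : Set X) (hS2 : ∀ s ∈ S, s ^ 2 = 1)
    (hSc : ∀ s ∈ S, ∀ t ∈ S, s * t = t * s) : ∀ e ∈ invSub S, e ^ 2 = 1 := by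
  apply closure_exp2
  · rintro t (ht | ht)
    · exact b.exp t ht
    · exact hS2 t ht
  · rintro s (hs | hs) t (ht | ht)
    · exact (Subgroup.mem_center_iff.mp hs t).symm
    · exact (Subgroup.mem_center_iff.mp hs t).symm
    · exact Subgroup.mem_center_iff.mp ht s
    · exact hSc s hs t ht

/-- no normal subgroup of exponent 2 of order more than 4: version for `invSub` -/
theorem card_invSub_le (h : Hyp X A) (b : B1 X A) (S : Set X) (hS2 : ∀ s ∈ S, s ^ 2 = 1)
    (hSc : ∀ s ∈ S, ∀ t ∈ S, s * t = t * s) : Nat.card (invSub S) ≤ 4 :=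
  h.ne _ (invSub_normal b S) (invSub_exp2 b S hS2 hSc)

theorem not_comm (h : Hyp X A) : ¬ IsMulCommutative X := by
  intro hc
  obtain ⟨x, y, hxy⟩ := h.na
  exact hxy (hc.is_comm.comm x y)

theorem exists_ne_one (h : Hyp X A) : ∃ φ ∈ A, φ ≠ 1 := by
  by_contra hcon
  push Not at hcon
  have htop : (⊥ : Subgroup X) = ⊤ := h.gen ⊥ (fun φ hφ x => by
    rw [hcon φ hφ]; simp)
  obtain ⟨x, y, hxy⟩ := h.na
  have hx : x ∈ (⊥ : Subgroup X) := by rw [htop]; exact Subgroup.mem_top x
  have hy : y ∈ (⊥ : Subgroup X) := by rw [htop]; exact Subgroup.mem_top y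
  rw [Subgroup.mem_bot] at hx hy
  rw [hx, hy] at hxy
  exact hxy rfl

theorem aut_not_two_group (h : Hyp X A) : ¬ IsPGroup 2 (MulAut X) := by
  intro hP
  obtain ⟨φ, hφ, hφ1⟩ := exists_ne_one h
  obtain ⟨k, hk⟩ := hP φ
  have h1 : φ ^ Nat.card A = 1 := by
    have := pow_card_eq_one' (G := ↥A) (x := ⟨φ, hφ⟩)
    exact congrArg Subtype.val this
  have h2 := pow_gcd_eq_one.mpr ⟨hk, h1⟩
  have hcop : Nat.Coprime (2 ^ k) (Nat.card A) :=
    (Nat.coprime_two_left.mpr h.odd).pow_left k
  rw [hcop, pow_one] at h2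
  exact hφ1 h2

/-- U16 modulo U15. -/
theorem b1a_of (h : Hyp X A) (b : B1 X A) (hc : Nat.card (Subgroup.center X) = 2)
    (h32 : Nat.card X = 32 → Nat.card {x : X // orderOf x = 2} = 11) :
    Nonempty (X ≃* QuaternionGroup 2) ∨
      (Cfsg.IsExtraspecial 2 X ∧ Nat.card X = 32 ∧ Nat.card {x : X // orderOf x = 2} = 11) := by
  have hE : Cfsg.IsExtraspecial 2 X := ⟨b.special, hc⟩
  obtain ⟨m, hm1, hcard, -⟩ := (Cfsg.Agent.Lib.Helper4.ES2.S4416.{_, 0} X hE).1
  rcases (by omega : m = 1 ∨ m = 2 ∨ 3 ≤ m) with rfl | rfl | hm3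
  · left
    have hidx : (commutator X).index = 4 := by
      rw [b.special.2.2]
      have := Subgroup.card_mul_index (Subgroup.center X)
      rw [hc, hcard] at this
      norm_num at this
      omega
    exact Cfsg.Agent.S4189.result h.pg (not_comm h) hidx (aut_not_two_group h)
  · right
    have h32' : Nat.card X = 32 := by rw [hcard]; norm_num
    exact ⟨hE, h32', h32 h32'⟩
  · exfalso
    have h128 : 64 ≤ Nat.card X := by
      rw [hcard]
      calc 64 = 2 ^ 6 := by norm_num
        _ ≤ 2 ^ (2 * m + 1) := Nat.pow_le_pow_right (by norm_num) (by omega)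
    -- the centre is {1, z}
    have huniq := (Nat.card_eq_two_iff' (1 : ↥(Subgroup.center X))).mp hc
    obtain ⟨z, hz1, hzu⟩ := huniq
    obtain ⟨u, -, v, -, hu2, hv2, huv, hu, hv, huv'⟩ :=
      Cfsg.Agent.Lib.Helper5.NG5U12.cwpair (⊤ : Subgroup X) (Subgroup.center X) ⊥ bot_le le_top
        (fun w hw y _ => (Subgroup.mem_center_iff.mp hw y).symm)
        (fun y _ => b.sq y) (fun y _ y' _ => b.comm y y')
        (fun a ha c hc' ha1 hc1 => by
          rw [Subgroup.mem_bot] at ha1 hc1 ⊢
          have e1 : (⟨a, ha⟩ : ↥(Subgroup.center X)) = z :=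
            hzu ⟨a, ha⟩ (fun hh => ha1 (congrArg Subtype.val hh))
          have e2 : (⟨c, hc'⟩ : ↥(Subgroup.center X)) = z :=
            hzu ⟨c, hc'⟩ (fun hh => hc1 (congrArg Subtype.val hh))
          have e3 : a = c := by
            have := e1.trans e2.symm
            exact congrArg Subtype.val this
          rw [← e3, ← pow_two]
          exact b.exp a ha)
        (by rw [hc, Subgroup.card_top]; omega)
    rw [Subgroup.mem_bot] at hu2 hv2
    set S : Set X := {u, v} with hSdef
    have hS2 : ∀ s ∈ S, s ^ 2 = 1 := by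
      rintro s (rfl | rfl)
      · exact hu2
      · exact hv2
    have hSc : ∀ s ∈ S, ∀ t ∈ S, s * t = t * s := by
      rintro s (rfl | rfl) t (rfl | rfl)
      · rfl
      · exact huv
      · exact huv.symm
      · rfl
    have hle := card_invSub_le h b S hS2 hSc
    have huE : u ∈ invSub S := mem_invSub S (Or.inl rfl)
    have hvE : v ∈ invSub S := mem_invSub S (Or.inr rfl)
    have hzE : (z : X) ∈ invSub S := center_le_invSub S z.2
    -- five distinct elements
    have hz1' : (z : X) ≠ 1 := fun hh => hz1 (Subtype.ext hh)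
    have h1Z : (1 : X) ∈ Subgroup.center X := Subgroup.one_mem _
    have hu1 : u ≠ 1 := fun hh => hu (hh ▸ h1Z)
    have hv1 : v ≠ 1 := fun hh => hv (hh ▸ h1Z)
    have huv1 : u * v ≠ 1 := fun hh => huv' (hh ▸ h1Z)
    have huz : u ≠ z := fun hh => hu (hh ▸ z.2)
    have hvz : v ≠ z := fun hh => hv (hh ▸ z.2)
    have huvz : u * v ≠ z := fun hh => huv' (hh ▸ z.2)
    have huv2 : u ≠ v := by
      intro hh
      apply huv1
      rw [← hh, ← pow_two]; exact hu2
    have huuv : u * v ≠ u := by
      intro hh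
      apply hv1
      have : u * v = u * 1 := by rw [mul_one]; exact hh
      exact mul_left_cancel this
    have hvuv : u * v ≠ v := by
      intro hh
      apply hu1
      have : u * v = 1 * v := by rw [one_mul]; exact hh
      exact mul_right_cancel this
    let l : List ↥(invSub S) := [⟨1, Subgroup.one_mem _⟩, ⟨z, hzE⟩, ⟨u, huE⟩, ⟨v, hvE⟩,
      ⟨u * v, (invSub S).mul_mem huE hvE⟩]
    have hnd : l.Nodup := by
      simp only [l, List.nodup_cons, List.mem_cons, Subtype.mk.injEq, List.not_mem_nil,
        List.nodup_nil, or_false, not_or, and_true]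
      refine ⟨⟨hz1'.symm, hu1.symm, hv1.symm, huv1.symm⟩, ⟨huz.symm, hvz.symm, huvz.symm⟩,
        ⟨huv2, huuv.symm⟩, hvuv.symm, not_false⟩
    haveI : Fintype ↥(invSub S) := Fintype.ofFinite _
    have := hnd.length_le_card
    rw [← Nat.card_eq_fintype_card] at this
    simp only [l, List.length_cons, List.length_nil] at this
    omega

end Cfsg.Agent.Lib.Helper5.NG5U16
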