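import Mathlib
import Cfsg.Agent.Lib.Helper8.NG5Defs
import Cfsg.Agent.Lib.Helper5.NG5U16
import Cfsg.Agent.Lib.Helper4.NG5U15

/-!
# Farm NG5 (S1904): unit U16 `b1a`, verbatim.
-/

set_option autoImplicit false
open scoped commutatorElement

namespace Cfsg.Agent.Lib.Helper5.NG5U16V

open Cfsg.Agent.Lib.Helper8.NG5

variable {X : Type*} [Group X] [Finite X] {A : Subgroup (MulAut X)}

/-- U16. -/
theorem b1a (h : Hyp X A) (b : B1 X A) (hc : Nat.card (Subgroup.center X) = 2) :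
    Nonempty (X ≃* QuaternionGroup 2) ∨
      (Cfsg.IsExtraspecial 2 X ∧ Nat.card X = 32 ∧ Nat.card {x : X // orderOf x = 2} = 11) :=
  Cfsg.Agent.Lib.Helper5.NG5U16.b1a_of h b hc
    (fun h32 => Cfsg.Agent.Lib.Helper4.NG5U15.b1a_32 h b hc h32)

end Cfsg.Agent.Lib.Helper5.NG5U16V
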