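import Mathlib
import Cfsg.Agent.Lib.Helper8.NG5Defs
import Cfsg.Agent.Lib.Helper5.NG5U12
import Cfsg.Agent.Lib.Helper5.NG5U16
import Cfsg.Agent.Lib.Helper6.NG5U10

/-!
# Farm NG5 (S1904): unit U18 `b1b` (Branch 1, centre of order 4), modulo U17.
-/

set_option autoImplicit false
open scoped commutatorElement

namespace Cfsg.Agent.Lib.Helper5.NG5U18

open Cfsg.Agent.Lib.Helper8.NG5 Cfsg.Agent.Lib.Helper5.NG5U16

variable {X : Type*} [Group X] [Finite X] {A : Subgroup (MulAut X)}

/-- no noncentral involutions when the centre has order 4 -/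
theorem inv_central (h : Hyp X A) (b : B1 X A) (hc : Nat.card (Subgroup.center X) = 4)
    (g : X) (hg : g ^ 2 = 1) : g ∈ Subgroup.center X := by
  have hle := card_invSub_le h b {g} (by rintro s rfl; exact hg) (by rintro s rfl t rfl; rfl)
  have heq : Subgroup.center X = invSub {g} :=
    Subgroup.eq_of_le_of_card_ge (center_le_invSub _) (by rw [hc]; exact hle)
  rw [heq]
  exact mem_invSub _ rfl

theorem orderOf_two_iff (h : Hyp X A) (b : B1 X A) (hc : Nat.card (Subgroup.center X) = 4)
    (x : X) : orderOf x = 2 ↔ x ∈ Subgroup.center X ∧ x ≠ 1 := by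
  haveI : Fact (Nat.Prime 2) := ⟨Nat.prime_two⟩
  constructor
  · intro hx
    refine ⟨inv_central h b hc x (by rw [← hx]; exact pow_orderOf_eq_one x), ?_⟩
    rintro rfl
    rw [orderOf_one] at hx
    omega
  · rintro ⟨hxZ, hx1⟩
    exact orderOf_eq_prime (b.exp x hxZ) hx1

theorem card_inv (h : Hyp X A) (b : B1 X A) (hc : Nat.card (Subgroup.center X) = 4) :
    Nat.card {x : X // orderOf x = 2} = 3 := by
  have hset : {x : X | orderOf x = 2} = (Subgroup.center X : Set X) \ {1} := by
    ext x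
    simp only [Set.mem_ofPred_eq, Set.mem_diff, SetLike.mem_coe, Set.mem_singleton_iff]
    exact orderOf_two_iff h b hc x
  have h1 : Nat.card {x : X // orderOf x = 2} = ({x : X | orderOf x = 2} : Set X).ncard :=
    Nat.card_coe_set_eq _
  rw [h1, hset, Set.ncard_diff_singleton_of_mem (Subgroup.one_mem _)]
  have h2 : (Subgroup.center X : Set X).ncard = 4 := by
    rw [← hc]; exact (Nat.card_coe_set_eq _).symm
  rw [h2]

/-- U18 modulo U17. -/
theorem b1b_of (h : Hyp X A) (b : B1 X A) (hc : Nat.card (Subgroup.center X) = 4)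
    (heven : ∃ m : ℕ, Nat.card X = 4 * 4 ^ m) :
    Cfsg.IsSpecial 2 X ∧ Nat.card X = 64 ∧ Nat.card {x : X // orderOf x = 2} = 3 ∧
      ∀ x : X, orderOf x = 2 → x ∈ Subgroup.center X := by
  haveI : Fact (Nat.Prime 2) := ⟨Nat.prime_two⟩
  refine ⟨b.special, ?_, card_inv h b hc, fun x hx => ((orderOf_two_iff h b hc x).mp hx).1⟩
  obtain ⟨m, hm⟩ := heven
  rcases (by omega : m = 0 ∨ m = 1 ∨ m = 2 ∨ 3 ≤ m) with rfl | rfl | rfl | hm3
  · -- |X| = 4 = |Z|: abelian
    exfalso
    have htop : Subgroup.center X = ⊤ := by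
      apply Subgroup.eq_top_of_card_eq
      rw [hc, hm]; norm_num
    obtain ⟨x, y, hxy⟩ := h.na
    have hy : y ∈ Subgroup.center X := by rw [htop]; exact Subgroup.mem_top y
    exact hxy (Subgroup.mem_center_iff.mp hy x)
  · -- |X| = 16: commutator subgroup of order at most 2
    exfalso
    obtain ⟨c, hcK⟩ := Cfsg.Agent.Lib.Helper6.NG5U10.comm_idx4 (⊤ : Subgroup X)
      (Subgroup.center X) le_top
      (fun z hz k _ => (Subgroup.mem_center_iff.mp hz k).symm)
      (fun k _ k' _ k'' _ => (Subgroup.mem_center_iff.mp (b.comm k k') k'').symm)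
      (by rw [Subgroup.card_top, hc, hm]; norm_num)
    have hcomm4 : Nat.card (commutator X) = 4 := by rw [b.special.2.2]; exact hc
    by_cases hcc : ∃ k k' : X, ⁅k, k'⁆ = c
    · obtain ⟨k, k', hkk⟩ := hcc
      have hcZ : c ∈ Subgroup.center X := hkk ▸ b.comm k k'
      have hc2 : c ^ 2 = 1 := b.exp c hcZ
      have hle : commutator X ≤ Subgroup.zpowers c := by
        rw [commutator_eq_closure, Subgroup.closure_le]
        rintro g ⟨a, a', rfl⟩
        rcases hcK a (Subgroup.mem_top a) a' (Subgroup.mem_top a') with h1 | h1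
        · rw [h1]; exact Subgroup.one_mem _
        · rw [h1]; exact Subgroup.mem_zpowers c
      have h1 := Subgroup.card_le_of_le hle
      rw [hcomm4, Nat.card_zpowers] at h1
      have h2 := Nat.le_of_dvd (by norm_num) (orderOf_dvd_of_pow_eq_one hc2)
      omega
    · push Not at hcc
      have hle : commutator X ≤ ⊥ := by
        rw [commutator_eq_closure, Subgroup.closure_le]
        rintro g ⟨a, a', rfl⟩
        rcases hcK a (Subgroup.mem_top a) a' (Subgroup.mem_top a') with h1 | h1
        · rw [h1]; exact Subgroup.one_mem _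
        · exact absurd h1 (hcc a a')
      have h1 := Subgroup.card_le_of_le hle
      rw [hcomm4, Subgroup.card_bot] at h1
      omega
  · rw [hm]; norm_num
  · exfalso
    have h256 : 256 ≤ Nat.card X := by
      rw [hm]
      calc 256 = 4 * 4 ^ 3 := by norm_num
        _ ≤ 4 * 4 ^ m := Nat.mul_le_mul_left 4 (Nat.pow_le_pow_right (by norm_num) hm3)
    -- a nonidentity central element
    haveI : Nontrivial ↥(Subgroup.center X) := by
      rw [← Finite.one_lt_card_iff_nontrivial, hc]; norm_num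
    obtain ⟨z₁, hz₁⟩ := exists_ne (1 : ↥(Subgroup.center X))
    have hz₁' : (z₁ : X) ≠ 1 := fun hh => hz₁ (Subtype.ext hh)
    have hz₁o : orderOf (z₁ : X) = 2 := orderOf_eq_prime (b.exp _ z₁.2) hz₁'
    set W₁ : Subgroup X := Subgroup.zpowers (z₁ : X) with hW₁def
    have hW₁Z : W₁ ≤ Subgroup.center X := Subgroup.zpowers_le.mpr z₁.2
    have hW₁c : Nat.card W₁ = 2 := by rw [hW₁def, Nat.card_zpowers, hz₁o]
    have hidx : (W₁.subgroupOf (Subgroup.center X)).index = 2 := by
      have h1 := Subgroup.card_mul_index (W₁.subgroupOf (Subgroup.center X))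
      rw [Nat.card_congr (Subgroup.subgroupOfEquivOfLe hW₁Z).toEquiv, hW₁c, hc] at h1
      omega
    obtain ⟨u, -, v, -, hu2, hv2, huv, hu, hv, huv'⟩ :=
      Cfsg.Agent.Lib.Helper5.NG5U12.cwpair (⊤ : Subgroup X) (Subgroup.center X) W₁ hW₁Z le_top
        (fun w hw y _ => (Subgroup.mem_center_iff.mp hw y).symm)
        (fun y _ => b.sq y) (fun y _ y' _ => b.comm y y')
        (fun a ha c hc' ha1 hc1 => by
          have := (Subgroup.mul_mem_iff_of_index_two hidx
            (a := (⟨a, ha⟩ : ↥(Subgroup.center X))) (b := ⟨c, hc'⟩)).mpr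
            (iff_of_false ha1 hc1)
          exact this)
        (by rw [hc, Subgroup.card_top]; omega)
    have hu2' : u ^ 2 ≠ 1 := fun hh => hu (inv_central h b hc u hh)
    have hv2' : v ^ 2 ≠ 1 := fun hh => hv (inv_central h b hc v hh)
    obtain ⟨y, -, hyu⟩ := (Nat.card_eq_two_iff' (1 : ↥W₁)).mp hW₁c
    have e1 : (⟨u ^ 2, hu2⟩ : ↥W₁) = y := hyu _ (fun hh => hu2' (congrArg Subtype.val hh))
    have e2 : (⟨v ^ 2, hv2⟩ : ↥W₁) = y := hyu _ (fun hh => hv2' (congrArg Subtype.val hh))
    have e3 : u ^ 2 = v ^ 2 := congrArg Subtype.val (e1.trans e2.symm)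
    have hcomm : Commute u v := huv
    have h4 : (u * v) ^ 2 = 1 := by
      rw [hcomm.mul_pow, ← e3, ← pow_two]
      exact b.exp _ (b.sq u)
    exact huv' (inv_central h b hc _ h4)

end Cfsg.Agent.Lib.Helper5.NG5U18
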