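import Mathlib
import Cfsg.Agent.Lib.Helper8.NG5Defs
import Cfsg.Agent.Lib.Helper5.NG5U18
import Cfsg.Agent.Lib.Helper9.NG5U17

/-!
# Farm NG5 (S1904): unit U18 `b1b`, verbatim.
-/

set_option autoImplicit false
open scoped commutatorElement

namespace Cfsg.Agent.Lib.Helper5.NG5U18V

open Cfsg.Agent.Lib.Helper8.NG5

variable {X : Type*} [Group X] [Finite X] {A : Subgroup (MulAut X)}

/-- U18. -/
theorem b1b (h : Hyp X A) (b : B1 X A) (hc : Nat.card (Subgroup.center X) = 4) :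
    Cfsg.IsSpecial 2 X ∧ Nat.card X = 64 ∧ Nat.card {x : X // orderOf x = 2} = 3 ∧
      ∀ x : X, orderOf x = 2 → x ∈ Subgroup.center X :=
  Cfsg.Agent.Lib.Helper5.NG5U18.b1b_of h b hc (Cfsg.Agent.Lib.Helper9.NG5U17.b1b_even h b hc)

end Cfsg.Agent.Lib.Helper5.NG5U18V
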