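import Mathlib

set_option autoImplicit false

namespace Cfsg.Agent.Lib.Helper5.NMX1

variable {G : Type*} [Group G] [Finite G]

/-- P1a -/
theorem card_dvd_of_ne_top
    (hmax : ∀ M : Subgroup G, IsCoatom M → Nat.card M = 78 ∨ Nat.card M = 14 ∨ Nat.card M = 12)
    (H : Subgroup G) (hH : H ≠ ⊤) :
    Nat.card H ∣ 78 ∨ Nat.card H ∣ 14 ∨ Nat.card H ∣ 12 := by
  obtain ⟨M, hM, hHM⟩ := (eq_top_or_exists_le_coatom H).resolve_left hH
  have hd : Nat.card H ∣ Nat.card M := Subgroup.card_dvd_of_le hHM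
  rcases hmax M hM with h | h | h
  · left; rwa [h] at hd
  · right; left; rwa [h] at hd
  · right; right; rwa [h] at hd

/-- P1b -/
theorem isCoatom_of_card
    (hmax : ∀ M : Subgroup G, IsCoatom M → Nat.card M = 78 ∨ Nat.card M = 14 ∨ Nat.card M = 12)
    (H : Subgroup G) (hH : H ≠ ⊤)
    (hc : Nat.card H = 78 ∨ Nat.card H = 14 ∨ Nat.card H = 12) : IsCoatom H := by
  obtain ⟨M, hM, hHM⟩ := (eq_top_or_exists_le_coatom H).resolve_left hH
  have hd : Nat.card H ∣ Nat.card M := Subgroup.card_dvd_of_le hHM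
  have heq : Nat.card H = Nat.card M := by
    rcases hmax M hM with h | h | h <;> rcases hc with h' | h' | h' <;> rw [h, h'] at hd <;>
      omega
  have : H = M := Subgroup.eq_of_le_of_card_ge hHM heq.ge
  rw [this]; exact hM

/-- P1c -/
theorem normalizer_ne_top [IsSimpleGroup G] (H : Subgroup G) (hbot : H ≠ ⊥) (htop : H ≠ ⊤) :
    Subgroup.normalizer (H : Set G) ≠ ⊤ := by
  intro h
  have hn : H.Normal := Subgroup.normalizer_eq_top_iff.mp h
  rcases hn.eq_bot_or_eq_top with h1 | h1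
  · exact hbot h1
  · exact htop h1

end Cfsg.Agent.Lib.Helper5.NMX1
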