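import Mathlib

set_option autoImplicit false

namespace Cfsg.Agent.Lib.Helper5.NMXD

/-- PD: transfer along an isomorphism. -/
theorem transfer_iso {K K' : Type*} [Group K] [Group K'] (e : K ≃* K')
    (hK' : ∀ H1 : Subgroup K', ¬ H1.Normal → IsCoatom (Subgroup.normalizer (H1 : Set K')))
    (H1 : Subgroup K) (hH : ¬ H1.Normal) :
    IsCoatom (Subgroup.normalizer (H1 : Set K)) := by
  have hmapn : ¬ (H1.map e.toMonoidHom).Normal := by
    intro hn
    apply hH
    have : (H1.map e.toMonoidHom).comap e.toMonoidHom = H1 :=
      Subgroup.comap_map_eq_self_of_injective e.injective H1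
    rw [← this]
    exact Subgroup.Normal.comap hn _
  have hco := hK' _ hmapn
  -- normalizer of the image is the image of the normalizer
  have hnorm : Subgroup.normalizer ((H1.map e.toMonoidHom : Subgroup K') : Set K') =
      (Subgroup.normalizer (H1 : Set K)).map e.toMonoidHom := by
    have := Subgroup.map_equiv_normalizer_eq H1 e
    exact this.symm
  rw [hnorm] at hco
  -- use the order isomorphism on subgroups
  have hiso : (e.mapSubgroup) (Subgroup.normalizer (H1 : Set K)) =
      (Subgroup.normalizer (H1 : Set K)).map e.toMonoidHom := rfl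
  rw [← hiso] at hco
  exact (OrderIso.isCoatom_iff e.mapSubgroup _).mp hco

end Cfsg.Agent.Lib.Helper5.NMXD
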