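import Mathlib
import Cfsg.Agent.Lib.Helper5.NMX1

set_option autoImplicit false

namespace Cfsg.Agent.Lib.Helper5.NMXMain

open Cfsg.Agent.Lib.Helper5.NMX1

variable {G : Type*} [Group G] [Finite G]

theorem dvd_cases (n : ℕ) (h : n ∣ 78 ∨ n ∣ 14 ∨ n ∣ 12) :
    n = 1 ∨ n = 2 ∨ n = 3 ∨ n = 4 ∨ n = 6 ∨ n = 7 ∨ n = 12 ∨ n = 13 ∨ n = 14 ∨ n = 26 ∨
      n = 39 ∨ n = 78 := by
  rcases h with h | h | h
  · have hle : n ≤ 78 := Nat.le_of_dvd (by norm_num) h
    interval_cases n <;> omega
  · have hle : n ≤ 14 := Nat.le_of_dvd (by norm_num) h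
    interval_cases n <;> omega
  · have hle : n ≤ 12 := Nat.le_of_dvd (by norm_num) h
    interval_cases n <;> omega

/-- Main abstract statement: assembling the order-by-order normalizer computations. -/
theorem main_abstract [IsSimpleGroup G]
    (hmax : ∀ M : Subgroup G, IsCoatom M → Nat.card M = 78 ∨ Nat.card M = 14 ∨ Nat.card M = 12)
    (k13 : ∀ H : Subgroup G, H ≠ ⊤ → 13 ∣ Nat.card H →
      Nat.card (Subgroup.normalizer (H : Set G)) = 78)
    (k7 : ∀ H : Subgroup G, Nat.card H = 7 → Nat.card (Subgroup.normalizer (H : Set G)) = 14)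
    (k3 : ∀ H : Subgroup G, Nat.card H = 3 → Nat.card (Subgroup.normalizer (H : Set G)) = 12)
    (k4 : ∀ H : Subgroup G, Nat.card H = 4 → Nat.card (Subgroup.normalizer (H : Set G)) = 12)
    (k2 : ∀ H : Subgroup G, Nat.card H = 2 → Nat.card (Subgroup.normalizer (H : Set G)) = 12)
    (k6 : ∀ H : Subgroup G, Nat.card H = 6 → Nat.card (Subgroup.normalizer (H : Set G)) = 12)
    (H : Subgroup G) (hbot : H ≠ ⊥) (htop : H ≠ ⊤) :
    IsCoatom (Subgroup.normalizer (H : Set G)) := by
  have hN : Subgroup.normalizer (H : Set G) ≠ ⊤ := normalizer_ne_top H hbot htop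
  apply isCoatom_of_card hmax _ hN
  have hHN : Nat.card H ∣ Nat.card (Subgroup.normalizer (H : Set G)) :=
    Subgroup.card_dvd_of_le Subgroup.le_normalizer
  have hNd := card_dvd_of_ne_top hmax _ hN
  have hHd := card_dvd_of_ne_top hmax H htop
  have hH1 : Nat.card H ≠ 1 := by
    intro h
    exact hbot (Subgroup.card_eq_one.mp h)
  have hNc := dvd_cases _ hNd
  rcases dvd_cases _ hHd with h | h | h | h | h | h | h | h | h | h | h | h
  · exact absurd h hH1
  · right; right; exact k2 H h
  · right; right; exact k3 H h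
  · right; right; exact k4 H h
  · right; right; exact k6 H h
  · right; left; exact k7 H h
  · -- 12
    rw [h] at hHN
    rcases hNc with h' | h' | h' | h' | h' | h' | h' | h' | h' | h' | h' | h' <;>
      rw [h'] at hHN <;> omega
  · left; exact k13 H htop (by rw [h])
  · -- 14
    rw [h] at hHN
    rcases hNc with h' | h' | h' | h' | h' | h' | h' | h' | h' | h' | h' | h' <;>
      rw [h'] at hHN <;> omega
  · left; exact k13 H htop (by rw [h]; norm_num)
  · left; exact k13 H htop (by rw [h]; norm_num)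
  · left; exact k13 H htop (by rw [h]; norm_num)

end Cfsg.Agent.Lib.Helper5.NMXMain
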