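import Cfsg.Agent.Lib.Helper8.O459Defs
import Cfsg.Agent.Lib.Helper8.SN17N4a

set_option autoImplicit false
set_option linter.style.haveILetI false

namespace Cfsg.Agent.Lib.Helper5.O459
open Cfsg.Agent.Lib.Helper8.O459
variable {G : Type*} [Group G] [Finite G]

theorem card_P (hcard : Nat.card G = 459648) (P : Sylow 19 G) :
    Nat.card (P : Subgroup G) = 19 := by
  haveI : Fact (Nat.Prime 19) := ⟨by norm_num⟩
  have h := Cfsg.Agent.Lib.Helper8.SN17.card_sylow_of_card 19 1 24192
    (by rw [hcard]; norm_num) (by norm_num) P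
  rw [h, pow_one]

theorem P_le_CP (hcard : Nat.card G = 459648) (P : Sylow 19 G) : (P : Subgroup G) ≤ CP P := by
  haveI : Fact (Nat.Prime 19) := ⟨by norm_num⟩
  have hPcard := card_P hcard P
  haveI hPcyc : IsCyclic (P : Subgroup G) := isCyclic_of_prime_card hPcard
  intro x hx
  rw [Subgroup.mem_centralizer_iff]
  intro y hy
  have := (IsCyclic.commGroup (α := (P : Subgroup G))).mul_comm ⟨y, hy⟩ ⟨x, hx⟩
  exact congrArg Subtype.val this

theorem card_centralizer [IsSimpleGroup G] (hcard : Nat.card G = 459648) (P : Sylow 19 G) :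
    ∃ e : ℕ, e ∣ 18 ∧ e ≠ 1 ∧ Nat.card (NP P) = e * Nat.card (CP P) ∧ 19 ∣ Nat.card (CP P) := by
  haveI : Fact (Nat.Prime 19) := ⟨by norm_num⟩
  have hPcard := card_P hcard P
  haveI hPcyc : IsCyclic (P : Subgroup G) := isCyclic_of_prime_card hPcard
  have hPC := P_le_CP hcard P
  have hCN : CP P ≤ NP P := Subgroup.centralizer_le_normalizer _
  refine ⟨(CP P).relIndex (NP P), ?_, ?_, ?_, ?_⟩
  · have key := Subgroup.card_dvd_of_injective _
      (QuotientGroup.kerLift_injective (P : Subgroup G).normalizerMonoidHom)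
    rw [Subgroup.normalizerMonoidHom_ker, ← Subgroup.index, ← Subgroup.relIndex] at key
    have h18 : Nat.card (MulAut (P : Subgroup G)) = 18 := by
      rw [IsCyclic.card_mulAut, hPcard]
      exact Nat.totient_prime (by norm_num)
    rw [h18] at key
    exact key
  · intro he
    have hNC : Subgroup.normalizer (P : Set G) ≤ Subgroup.centralizer (P : Set G) :=
      Subgroup.relIndex_eq_one.mp he
    have hcomp := MonoidHom.ker_transferSylow_isComplement' P hNC
    have hmul := hcomp.card_mul_card
    rw [hcard] at hmul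
    have hP' : Nat.card (P : Subgroup G) = 19 := hPcard
    rcases (MonoidHom.normal_ker (MonoidHom.transferSylow P hNC)).eq_bot_or_eq_top with h | h
    · rw [h, Subgroup.card_bot] at hmul
      omega
    · rw [h, Subgroup.card_top, hcard] at hmul
      omega
  · have h1 := Subgroup.index_mul_card ((CP P).subgroupOf (NP P))
    have h2 : Nat.card ((CP P).subgroupOf (NP P)) = Nat.card (CP P) :=
      Nat.card_congr (Subgroup.subgroupOfEquivOfLe hCN).toEquiv
    rw [h2] at h1
    exact h1.symm
  · rw [← hPcard]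
    exact Subgroup.card_dvd_of_le hPC

end Cfsg.Agent.Lib.Helper5.O459
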