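import Cfsg.Agent.Lib.Helper8.O459Defs
import Cfsg.Agent.Lib.Helper8.SN17N4a
import Cfsg.Agent.Lib.Helper5.O459P2

set_option autoImplicit false
set_option linter.style.haveILetI false

namespace Cfsg.Agent.Lib.Helper5.O459
open Cfsg.Agent.Lib.Helper8.O459
variable {G : Type*} [Group G] [Finite G]

/-- the normalizer of `P` normalizes the centralizer of `P` -/
theorem conj_mem_CP (P : Sylow 19 G) {n x : G} (hn : n ∈ NP P) (hx : x ∈ CP P) :
    n * x * n⁻¹ ∈ CP P := by
  rw [Subgroup.mem_centralizer_iff]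
  intro y hy
  have hy' : n⁻¹ * y * n⁻¹⁻¹ ∈ (P : Subgroup G) :=
    (Subgroup.mem_normalizer_iff.1 ((NP P).inv_mem hn) y).1 hy
  have hc := (Subgroup.mem_centralizer_iff.1 hx) _ hy'
  have e1 : y * (n * x * n⁻¹) = n * ((n⁻¹ * y * n⁻¹⁻¹) * x) * n⁻¹ := by group
  have e2 : n * x * n⁻¹ * y = n * (x * (n⁻¹ * y * n⁻¹⁻¹)) * n⁻¹ := by group
  rw [e1, e2, hc]

theorem caseA_of [IsSimpleGroup G] (hcard : Nat.card G = 459648) (P : Sylow 19 G)
    (hN : Nat.card (NP P) = 4788) (e : ℕ) (he : e ∣ 18) (he1 : e ≠ 1)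
    (hNC : Nat.card (NP P) = e * Nat.card (CP P)) : False := by
  haveI : Fact (Nat.Prime 19) := ⟨by norm_num⟩
  haveI : Fact (Nat.Prime 7) := ⟨by norm_num⟩
  have hPcard := card_P hcard P
  have hPC := P_le_CP hcard P
  set c := Nat.card (CP P) with hc
  have hce : e * c = 4788 := by rw [← hNC, hN]
  have he0 : e ≠ 0 := by
    intro h; rw [h] at he; norm_num at he
  have he2 : 2 ≤ e := by omega
  -- the 7-part of c
  have h7c : 7 ∣ c := by
    have h1 : 7 ∣ e * c := by rw [hce]; norm_num
    rcases (Nat.Prime.dvd_mul (by norm_num)).1 h1 with h | h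
    · exfalso
      have := h.trans he
      norm_num at this
    · exact h
  obtain ⟨c', hc'⟩ := h7c
  have h7c' : ¬ 7 ∣ c' := by
    rintro ⟨c'', hc''⟩
    rw [hc', hc''] at hce
    have : 49 ∣ 4788 := ⟨e * c'', by rw [← hce]; ring⟩
    norm_num at this
  obtain ⟨Q⟩ : Nonempty (Sylow 7 ↥(CP P)) := inferInstance
  have hQcard : Nat.card (Q : Subgroup ↥(CP P)) = 7 := by
    have := Cfsg.Agent.Lib.Helper8.SN17.card_sylow_of_card 7 1 c'
      (by rw [pow_one, ← hc']) h7c' Q
    rw [this, pow_one]
  -- the normalizer of Q in C contains P and Q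
  set NQ := Subgroup.normalizer ((Q : Subgroup ↥(CP P)) : Set ↥(CP P)) with hNQ
  have hPsub : (P : Subgroup G).subgroupOf (CP P) ≤ NQ := by
    intro x hx
    have hxP : (x : G) ∈ (P : Subgroup G) := hx
    rw [hNQ, Subgroup.mem_normalizer_iff]
    intro h
    have hcomm : x * h * x⁻¹ = h := by
      apply Subtype.ext
      have h1 := (Subgroup.mem_centralizer_iff.1 h.2) (x : G) hxP
      show (x : G) * (h : G) * (x : G)⁻¹ = (h : G)
      rw [h1]; group
    rw [hcomm]
  have h19 : 19 ∣ Nat.card NQ := by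
    have h1 : Nat.card ((P : Subgroup G).subgroupOf (CP P)) = 19 :=
      (Nat.card_congr (Subgroup.subgroupOfEquivOfLe hPC).toEquiv).trans hPcard
    rw [← h1]
    exact Subgroup.card_dvd_of_le hPsub
  have h7 : 7 ∣ Nat.card NQ := by
    rw [← hQcard]
    exact Subgroup.card_dvd_of_le Subgroup.le_normalizer
  have h133 : 133 ∣ Nat.card NQ := by
    have : Nat.Coprime 19 7 := by norm_num
    have := this.mul_dvd_of_dvd_of_dvd h19 h7
    simpa using this
  obtain ⟨k, hk⟩ := h133
  have hm1 : Nat.card (Sylow 7 ↥(CP P)) * Nat.card NQ = c := by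
    rw [Sylow.card_eq_index_normalizer Q]
    exact Subgroup.index_mul_card _
  have hmod := card_sylow_modEq_one 7 ↥(CP P)
  set m := Nat.card (Sylow 7 ↥(CP P)) with hm
  have hmke : m * k * e = 36 := by
    have h1 : 133 * (m * k * e) = 133 * 36 := by
      calc 133 * (m * k * e) = e * (m * (133 * k)) := by ring
        _ = e * c := by rw [← hk, hm1]
        _ = 4788 := hce
        _ = 133 * 36 := by norm_num
    exact Nat.eq_of_mul_eq_mul_left (by norm_num) h1
  have hmone : m = 1 := by
    have hmdvd : m ∣ 36 := ⟨k * e, by rw [← hmke]; ring⟩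
    have hmle : m ≤ 36 := Nat.le_of_dvd (by norm_num) hmdvd
    have hmod' : m % 7 = 1 := by
      have := hmod
      unfold Nat.ModEq at this
      simpa using this
    have hke : m = 36 → False := by
      intro h36
      rw [h36] at hmke
      have : k * e = 1 := by nlinarith
      have : e = 1 := Nat.eq_one_of_mul_eq_one_left this
      exact he1 this
    interval_cases m <;> first | omega | (exfalso; exact hke rfl) | (norm_num at hmdvd)
  have hsub : Subsingleton (Sylow 7 ↥(CP P)) := (Nat.card_eq_one_iff_unique.1 hmone).1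
  -- Q' and its characterisation
  set Q' : Subgroup G := (Q : Subgroup ↥(CP P)).map (CP P).subtype with hQ'
  have hchar : ∀ x : G, x ∈ Q' ↔ (x ∈ CP P ∧ x ^ 7 = 1) := by
    intro x
    constructor
    · rintro ⟨q, hq, rfl⟩
      refine ⟨q.2, ?_⟩
      have h1 : (⟨q, hq⟩ : (Q : Subgroup ↥(CP P))) ^ Nat.card (Q : Subgroup ↥(CP P)) = 1 :=
        pow_card_eq_one'
      rw [hQcard] at h1
      have h2 : (q : ↥(CP P)) ^ 7 = 1 := congrArg Subtype.val h1
      have h3 : ((q : ↥(CP P)) : G) ^ 7 = 1 := by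
        have := congrArg Subtype.val h2
        simpa using this
      exact h3
    · rintro ⟨hx, hx7⟩
      let xc : ↥(CP P) := ⟨x, hx⟩
      have hxc7 : xc ^ 7 = 1 := Subtype.ext (by simpa using hx7)
      have hpg : IsPGroup 7 (Subgroup.zpowers xc) := by
        rintro ⟨g, hg⟩
        refine ⟨1, ?_⟩
        obtain ⟨j, rfl⟩ := Subgroup.mem_zpowers_iff.1 hg
        apply Subtype.ext
        show (xc ^ j) ^ 7 ^ 1 = 1
        rw [pow_one, ← zpow_natCast, ← zpow_mul, mul_comm, zpow_mul, zpow_natCast, hxc7, one_zpow]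
      obtain ⟨R, hR⟩ := hpg.exists_le_sylow
      have hRQ : R = Q := Subsingleton.elim _ _
      rw [hRQ] at hR
      exact ⟨xc, hR (Subgroup.mem_zpowers xc), rfl⟩
  have hNQ' : NP P ≤ Subgroup.normalizer (Q' : Set G) := by
    intro n hn
    rw [Subgroup.mem_normalizer_iff]
    intro h
    rw [hchar, hchar]
    constructor
    · rintro ⟨h1, h2⟩
      refine ⟨conj_mem_CP P hn h1, ?_⟩
      rw [conj_pow, h2]; group
    · rintro ⟨h1, h2⟩
      have hn' : n⁻¹ ∈ NP P := (NP P).inv_mem hn
      have h3 := conj_mem_CP P hn' h1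
      have e1 : n⁻¹ * (n * h * n⁻¹) * n⁻¹⁻¹ = h := by group
      rw [e1] at h3
      refine ⟨h3, ?_⟩
      rw [conj_pow] at h2
      have : h ^ 7 = n⁻¹ * (n * h ^ 7 * n⁻¹) * n := by group
      rw [this, h2]; group
  have hQ'card : Nat.card Q' = 7 := by
    rw [← hQcard]
    exact Nat.card_congr
      ((Q : Subgroup ↥(CP P)).equivMapOfInjective (CP P).subtype
        (Subgroup.subtype_injective _)).symm.toEquiv
  -- a Sylow 7-subgroup of G equal to Q'
  have hQ'p : IsPGroup 7 Q' := IsPGroup.of_card (n := 1) (by rw [hQ'card, pow_one])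
  obtain ⟨R, hR⟩ := hQ'p.exists_le_sylow
  have hRcard : Nat.card (R : Subgroup G) = 7 := by
    have := Cfsg.Agent.Lib.Helper8.SN17.card_sylow_of_card 7 1 65664
      (by rw [hcard]; norm_num) (by norm_num) R
    rw [this, pow_one]
  have hRQ' : (R : Subgroup G) = Q' := by
    symm
    apply Subgroup.eq_of_le_of_card_ge hR
    rw [hRcard, hQ'card]
  have hnorm : 4788 ∣ Nat.card (Subgroup.normalizer ((R : Subgroup G) : Set G)) := by
    rw [hRQ', ← hN]
    exact Subgroup.card_dvd_of_le hNQ'
  obtain ⟨k2, hk2⟩ := hnorm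
  have hn7 : Nat.card (Sylow 7 G) *
      Nat.card (Subgroup.normalizer ((R : Subgroup G) : Set G)) = 459648 := by
    rw [Sylow.card_eq_index_normalizer R, ← hcard]
    exact Subgroup.index_mul_card _
  have hmodG := card_sylow_modEq_one 7 G
  set n7 := Nat.card (Sylow 7 G) with hn7def
  have hn96 : n7 * k2 = 96 := by
    have h1 : 4788 * (n7 * k2) = 4788 * 96 := by
      calc 4788 * (n7 * k2) = n7 * (4788 * k2) := by ring
        _ = 459648 := by rw [← hk2, hn7]
        _ = 4788 * 96 := by norm_num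
    exact Nat.eq_of_mul_eq_mul_left (by norm_num) h1
  have hn7cases : n7 = 1 ∨ n7 = 8 := by
    have hdvd : n7 ∣ 96 := ⟨k2, hn96.symm⟩
    have hle : n7 ≤ 96 := Nat.le_of_dvd (by norm_num) hdvd
    have hmod' : n7 % 7 = 1 := by
      have := hmodG
      unfold Nat.ModEq at this
      simpa using this
    interval_cases n7 <;> first | omega | (norm_num at hdvd)
  rcases hn7cases with h1 | h8
  · -- normal Sylow 7-subgroup
    have hidx : (Subgroup.normalizer ((R : Subgroup G) : Set G)).index = 1 :=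
      (Sylow.card_eq_index_normalizer R).symm.trans h1
    have htop := Subgroup.index_eq_one.1 hidx
    have hnormal : (R : Subgroup G).Normal := Subgroup.normalizer_eq_top_iff.1 htop
    rcases hnormal.eq_bot_or_eq_top with h | h
    · rw [h, Subgroup.card_bot] at hRcard; omega
    · rw [h, Subgroup.card_top, hcard] at hRcard; omega
  · -- embedding in Sym(8)
    let φ : G →* Equiv.Perm (Sylow 7 G) := MulAction.toPermHom G (Sylow 7 G)
    rcases (MonoidHom.normal_ker φ).eq_bot_or_eq_top with h | h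
    · have hinj : Function.Injective φ := (MonoidHom.ker_eq_bot_iff φ).1 h
      have hle := Nat.card_le_card_of_injective φ hinj
      rw [Nat.card_perm, ← hn7def, h8, hcard] at hle
      have : (8 : ℕ).factorial = 40320 := by decide
      omega
    · have hnt : Nontrivial (Sylow 7 G) := by
        rw [← Finite.one_lt_card_iff_nontrivial, ← hn7def, h8]; norm_num
      obtain ⟨R1, R2, hne⟩ := hnt
      obtain ⟨g, hg⟩ := MulAction.exists_smul_eq G R1 R2
      have hgk : g ∈ φ.ker := by rw [h]; trivial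
      have hg1 : φ g = 1 := hgk
      apply hne
      rw [← hg]
      have : φ g R1 = R1 := by rw [hg1]; rfl
      exact this.symm

end Cfsg.Agent.Lib.Helper5.O459
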