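import Mathlib
import Cfsg.Prelude
import Cfsg.Agent.Lib.Helper5.SpCentres
import Cfsg.Agent.Lib.Helper5.OrthBridge

set_option autoImplicit false
set_option linter.unusedSectionVars false
set_option linter.unusedVariables false
open Cfsg

/-! In characteristic two the isometry group of a quadratic form is maximal in the symplectic
group of its polar form. -/

namespace Cfsg.Agent.Lib.Helper5.OInSpMax

open Matrix Module Cfsg.Agent.Lib.Helper5.SympTv Cfsg.Agent.Lib.Helper5.SpCentres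
  Cfsg.Agent.Lib.Helper5.OrthBridge

variable {F : Type*} [Field F] [Fintype F] {m : ℕ} {Q : (Fin m ⊕ Fin m → F) → F}
  (hQ : Cfsg.Geo.IsNondegenerateQuadraticForm Q)
  (hpol : ∀ u v, QuadraticMap.polar Q u v = Cfsg.sympForm m F u v)
  (h2 : (2 : F) = 0)

include hpol in
theorem Q_add (x y : Fin m ⊕ Fin m → F) : Q (x + y) = Q x + Q y + sympForm m F x y := by
  rw [← hpol]
  unfold QuadraticMap.polar
  ring

include hQ in
theorem Q_zero : Q 0 = 0 := by
  have h := hQ.smul 0 (0 : Fin m ⊕ Fin m → F)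
  rw [zero_smul] at h
  rw [h]
  ring

include hQ hpol in
theorem Q_add_smul (x v : Fin m ⊕ Fin m → F) (a : F) :
    Q (x + a • v) = Q x + a ^ 2 * Q v + a * sympForm m F x v := by
  rw [Q_add hpol, hQ.smul, sympForm_smul_right]

include hQ hpol in
/-- the value of the form after a transvection -/
theorem Q_tv (v x : Fin m ⊕ Fin m → F) (c : F) :
    Q ((tvGL m v c : Matrix (Fin m ⊕ Fin m) (Fin m ⊕ Fin m) F) *ᵥ x) =
      Q x + c * (sympForm m F x v) ^ 2 * (c * Q v + 1) := by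
  rw [tvGL_mulVec, Q_add_smul hQ hpol]
  ring

include h2 in
theorem exists_sq (a : F) : ∃ b : F, b ^ 2 = a := by
  have : CharP F 2 := CharTwo.of_one_ne_zero_of_two_eq_zero one_ne_zero h2
  obtain ⟨b, hb⟩ := FiniteField.isSquare_of_char_two (ringChar.eq F 2) a
  exact ⟨b, by rw [hb, sq]⟩

include hQ hpol in
theorem exists_pair (v : Fin m ⊕ Fin m → F) (hv : v ≠ 0) : ∃ x, sympForm m F x v ≠ 0 := by
  obtain ⟨x, hx⟩ := (hQ.nondegenerate v hv).1
  exact ⟨x, by rw [← hpol]; exact hx⟩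

include hQ hpol in
theorem exists_cross (u v : Fin m ⊕ Fin m → F) (hu : u ≠ 0) (hv : v ≠ 0) :
    ∃ z, sympForm m F z u ≠ 0 ∧ sympForm m F z v ≠ 0 := by
  obtain ⟨z₁, h₁⟩ := exists_pair hQ hpol u hu
  obtain ⟨z₂, h₂⟩ := exists_pair hQ hpol v hv
  by_cases h3 : sympForm m F z₁ v = 0
  · by_cases h4 : sympForm m F z₂ u = 0
    · refine ⟨z₁ + z₂, ?_, ?_⟩
      · rw [sympForm_add_left, h4, add_zero]; exact h₁
      · rw [sympForm_add_left, h3, zero_add]; exact h₂
    · exact ⟨z₂, h4, h₂⟩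
  · exact ⟨z₁, h₁, h3⟩

include hQ hpol in
/-- an anisotropic vector orthogonal to three given vectors -/
theorem exists_aniso_perp3 (hm : 4 ≤ m) (a b c : Fin m ⊕ Fin m → F) :
    ∃ z, Q z ≠ 0 ∧ sympForm m F a z = 0 ∧ sympForm m F b z = 0 ∧ sympForm m F c z = 0 := by
  classical
  by_contra hcon
  push Not at hcon
  set Qf := toQF Q hQ with hQf
  have hnd := toQF_nondegenerate Q hQ
  set B := QuadraticMap.polarBilin Qf with hB
  have hBapp : ∀ x y, B x y = sympForm m F x y := by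
    intro x y
    rw [hB, QuadraticMap.polarBilin_apply_apply, ← hpol]
    rfl
  set S : Submodule F (Fin m ⊕ Fin m → F) :=
    Submodule.span F (({a, b, c} : Finset (Fin m ⊕ Fin m → F)) : Set (Fin m ⊕ Fin m → F)) with hS
  have hS3 : finrank F S ≤ 3 :=
    le_trans (finrank_span_finset_le_card _) Finset.card_le_three
  set W := LinearMap.BilinForm.orthogonal B S with hW
  have hsing : ∀ z ∈ W, Q z = 0 := by
    intro z hz
    by_contra hne
    rw [hW, LinearMap.BilinForm.mem_orthogonal_iff] at hz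
    have ha := hz a (Submodule.subset_span (by simp))
    have hb := hz b (Submodule.subset_span (by simp))
    have hc := hz c (Submodule.subset_span (by simp))
    rw [hBapp] at ha hb hc
    exact hcon z hne ha hb hc
  have hle : W ≤ LinearMap.BilinForm.orthogonal B W := by
    intro z hz
    rw [LinearMap.BilinForm.mem_orthogonal_iff]
    intro t ht
    show B t z = 0
    rw [hBapp, ← hpol]
    unfold QuadraticMap.polar
    rw [hsing _ (Submodule.add_mem _ ht hz), hsing t ht, hsing z hz]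
    ring
  have h1 := Submodule.finrank_mono hle
  have h5 := LinearMap.BilinForm.finrank_orthogonal hnd W
  have h3 : finrank F W = finrank F (Fin m ⊕ Fin m → F) - finrank F S := by
    rw [hW, LinearMap.BilinForm.finrank_orthogonal hnd]
  have h4 : finrank F (Fin m ⊕ Fin m → F) = m + m := by
    rw [Module.finrank_pi, Fintype.card_sum, Fintype.card_fin]
  omega

include hQ hpol h2 in
/-- adjust a vector to a prescribed value of the form keeping two pairings -/
theorem exists_adjust (hm : 4 ≤ m) (a b z : Fin m ⊕ Fin m → F) (c : F) :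
    ∃ w, Q w = c ∧ sympForm m F a w = sympForm m F a z ∧
      sympForm m F b w = sympForm m F b z := by
  obtain ⟨y, hy, hay, hby, hzy⟩ := exists_aniso_perp3 hQ hpol hm a b z
  obtain ⟨l, hl⟩ := exists_sq h2 ((c + Q z) / Q y)
  refine ⟨z + l • y, ?_, ?_, ?_⟩
  · rw [Q_add_smul hQ hpol, hl, hzy, mul_zero, add_zero, div_mul_cancel₀ _ hy]
    linear_combination Q z * h2
  · rw [sympForm_add_right, sympForm_smul_right, hay, mul_zero, add_zero]
  · rw [sympForm_add_right, sympForm_smul_right, hby, mul_zero, add_zero]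

include hQ hpol in
/-- members of the intersection are isometries -/
theorem isom_of_mem (hm : 1 ≤ m) (g : GL (Fin m ⊕ Fin m) F)
    (hg : g ∈ Cfsg.Geo.quadSimilarityGroup Q ⊓ spGL m F) (x : Fin m ⊕ Fin m → F) :
    Q ((g : Matrix (Fin m ⊕ Fin m) (Fin m ⊕ Fin m) F) *ᵥ x) = Q x := by
  obtain ⟨⟨c, hc⟩, hsp⟩ := hg
  have hsp' := (mem_spGL_iff m g).mp hsp
  obtain ⟨u, v, huv⟩ : ∃ u v, sympForm m F u v ≠ 0 := by
    have hv0 : (fun _ => (1 : F) : Fin m ⊕ Fin m → F) ≠ 0 := by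
      intro h
      have := congrFun h (Sum.inl ⟨0, by omega⟩)
      exact one_ne_zero this
    obtain ⟨x, hx⟩ := exists_pair hQ hpol _ hv0
    exact ⟨x, _, hx⟩
  have h1 := Q_add hpol ((g : Matrix (Fin m ⊕ Fin m) (Fin m ⊕ Fin m) F) *ᵥ u)
    ((g : Matrix (Fin m ⊕ Fin m) (Fin m ⊕ Fin m) F) *ᵥ v)
  rw [← mulVec_add, hc, hc, hc, hsp', Q_add hpol] at h1
  have h3 : ((c : F) - 1) * sympForm m F u v = 0 := by linear_combination h1
  rcases mul_eq_zero.mp h3 with h4 | h4
  · rw [hc, sub_eq_zero.mp h4, one_mul]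
  · exact absurd h4 huv

include hQ hpol h2 in
/-- the reflections are isometries -/
theorem tv_mem (v : Fin m ⊕ Fin m → F) (c : F) (hv : c * Q v = 1) :
    tvGL m v c ∈ Cfsg.Geo.quadSimilarityGroup Q ⊓ spGL m F := by
  refine ⟨⟨1, fun x => ?_⟩, tvGL_mem m v c⟩
  rw [Q_tv hQ hpol, hv, Units.val_one, one_mul]
  linear_combination c * (sympForm m F x v) ^ 2 * h2

theorem tvGL_smul (a : F) (v : Fin m ⊕ Fin m → F) (c : F) :
    tvGL m (a • v) c = tvGL m v (a * a * c) := by
  apply Units.ext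
  show sympTransvection m (a • v) c = sympTransvection m v (a * a * c)
  rw [ext_iff_mulVec]
  intro x
  rw [sympTransvection_mulVec, sympTransvection_mulVec, sympForm_smul_right, smul_smul]
  congr 2
  ring

section overgroup
variable {M : Subgroup (GL (Fin m ⊕ Fin m) F)}
  (hKM : Cfsg.Geo.quadSimilarityGroup Q ⊓ spGL m F ≤ M) (hMS : M ≤ spGL m F)

include hMS in
theorem inX_act {v : Fin m ⊕ Fin m → F} (g : GL (Fin m ⊕ Fin m) F) (hg : g ∈ M)
    (hv : tvGL m v 1 ∈ M) :
    tvGL m ((g : Matrix (Fin m ⊕ Fin m) (Fin m ⊕ Fin m) F) *ᵥ v) 1 ∈ M := by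
  rw [← conj_tvGL m g (hMS hg)]
  exact M.mul_mem (M.mul_mem hg hv) (M.inv_mem hg)

include hQ hpol h2 hKM hMS in
theorem inX_swap {u u' : Fin m ⊕ Fin m → F} (hQu : Q u = Q u')
    (hne : sympForm m F u u' ≠ 0) (hu : tvGL m u 1 ∈ M) : tvGL m u' 1 ∈ M := by
  have hQs : Q (u + u') = sympForm m F u u' := by
    rw [Q_add hpol, hQu]
    linear_combination Q u' * h2
  have hk : tvGL m (u + u') (sympForm m F u u')⁻¹ ∈ M := by
    apply hKM
    apply tv_mem hQ hpol h2
    rw [hQs, inv_mul_cancel₀ hne]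
  have h := inX_act hMS _ hk hu
  have e : (tvGL m (u + u') (sympForm m F u u')⁻¹ :
      Matrix (Fin m ⊕ Fin m) (Fin m ⊕ Fin m) F) *ᵥ u = u' := by
    rw [tvGL_mulVec, sympForm_add_right, sympForm_self, zero_add, inv_mul_cancel₀ hne, one_smul]
    have : u + u = 0 := by
      rw [← two_smul F u, h2, zero_smul]
    rw [← add_assoc, this, zero_add]
  rw [e] at h
  exact h

include hQ hpol h2 hKM hMS in
theorem inX_trans (hm : 4 ≤ m) {u u' : Fin m ⊕ Fin m → F} (hu0 : u ≠ 0) (hu0' : u' ≠ 0)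
    (hQu : Q u = Q u') (hu : tvGL m u 1 ∈ M) : tvGL m u' 1 ∈ M := by
  by_cases hne : sympForm m F u u' = 0
  · obtain ⟨z, hz1, hz2⟩ := exists_cross hQ hpol u u' hu0 hu0'
    obtain ⟨w, hw, hw1, hw2⟩ := exists_adjust hQ hpol h2 hm u u' z (Q u)
    have h1 : sympForm m F u w ≠ 0 := by
      rw [hw1, sympForm_swap, neg_ne_zero]; exact hz1
    have h2' : sympForm m F w u' ≠ 0 := by
      rw [sympForm_swap, hw2, neg_ne_zero, sympForm_swap, neg_ne_zero]; exact hz2
    have hwM := inX_swap hQ hpol h2 hKM hMS hw.symm h1 hu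
    exact inX_swap hQ hpol h2 hKM hMS (hw.trans hQu) h2' hwM
  · exact inX_swap hQ hpol h2 hKM hMS hQu hne hu

include hQ hpol h2 hKM hMS in
theorem all_inX (hm : 4 ≤ m)
    (hne : ¬ M ≤ Cfsg.Geo.quadSimilarityGroup Q ⊓ spGL m F) (u : Fin m ⊕ Fin m → F) :
    tvGL m u 1 ∈ M := by
  obtain ⟨g, hgM, hgK⟩ := SetLike.not_le_iff_exists.mp hne
  have hgS := (mem_spGL_iff m g).mp (hMS hgM)
  -- a vector of norm one moved to a vector of another norm
  obtain ⟨v, hv1, hgv⟩ : ∃ v, Q v = 1 ∧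
      Q ((g : Matrix (Fin m ⊕ Fin m) (Fin m ⊕ Fin m) F) *ᵥ v) ≠ 1 := by
    by_contra hcon
    push Not at hcon
    apply hgK
    have hns : ∀ x, Q x ≠ 0 →
        Q ((g : Matrix (Fin m ⊕ Fin m) (Fin m ⊕ Fin m) F) *ᵥ x) = Q x := by
      intro x hx
      obtain ⟨a, ha⟩ := exists_sq h2 (Q x)
      have ha0 : a ≠ 0 := by
        rintro rfl
        apply hx
        rw [← ha]; ring
      have h1 := hcon (a⁻¹ • x) (by rw [hQ.smul, ← ha]; field_simp)
      rw [mulVec_smul, hQ.smul] at h1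
      rw [← ha]
      field_simp at h1
      exact h1
    refine ⟨⟨1, fun x => ?_⟩, hMS hgM⟩
    rw [Units.val_one, one_mul]
    by_cases hx : Q x = 0
    · obtain ⟨y, hy, hxy, -, -⟩ := exists_aniso_perp3 hQ hpol hm x x x
      have h1 : Q (x + y) = Q y := by rw [Q_add hpol, hx, hxy, zero_add, add_zero]
      have h3 := hns (x + y) (by rw [h1]; exact hy)
      rw [mulVec_add, Q_add hpol, hns y hy, hgS, hxy, add_zero, h1] at h3
      rw [hx]
      linear_combination h3
    · exact hns x hx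
  set w₀ := (g : Matrix (Fin m ⊕ Fin m) (Fin m ⊕ Fin m) F) *ᵥ v with hw₀
  have hw₀M : tvGL m w₀ 1 ∈ M :=
    inX_act hMS g hgM (hKM (tv_mem hQ hpol h2 v 1 (by rw [hv1, one_mul])))
  have hw₀0 : w₀ ≠ 0 := by
    intro h0
    have h3 := congrArg (fun y => ((g⁻¹ : GL (Fin m ⊕ Fin m) F) :
      Matrix (Fin m ⊕ Fin m) (Fin m ⊕ Fin m) F) *ᵥ y) h0
    simp only [hw₀, mulVec_mulVec, mulVec_zero] at h3
    rw [← Units.val_mul, inv_mul_cancel, Units.val_one, one_mulVec] at h3
    rw [h3, Q_zero hQ] at hv1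
    exact zero_ne_one hv1
  have hs1 : Q w₀ + 1 ≠ 0 := by
    intro h
    apply hgv
    linear_combination h - h2
  by_cases hu0 : u = 0
  · rw [hu0]
    exact isCentre_zero M 1
  obtain ⟨b, hb⟩ := exists_sq h2 ((Q u + 1) / (Q w₀ + 1))
  obtain ⟨x₀, hx₀⟩ := exists_pair hQ hpol w₀ hw₀0
  obtain ⟨w, hw1, hwb, -⟩ := exists_adjust hQ hpol h2 hm w₀ w₀
    ((b / sympForm m F x₀ w₀) • x₀) 1
  have hwb' : sympForm m F w w₀ = b := by
    rw [sympForm_swap, hwb, sympForm_swap, neg_neg, sympForm_smul_left, div_mul_cancel₀ _ hx₀]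
  have hwM : tvGL m w 1 ∈ M := hKM (tv_mem hQ hpol h2 w 1 (by rw [hw1, one_mul]))
  have hxM := inX_act hMS _ hw₀M hwM
  have hQx := Q_tv hQ hpol w₀ w 1
  rw [hwb', hw1, hb, one_mul, one_mul, div_mul_cancel₀ _ hs1] at hQx
  have hQx' : Q ((tvGL m w₀ 1 : Matrix (Fin m ⊕ Fin m) (Fin m ⊕ Fin m) F) *ᵥ w) = Q u := by
    rw [hQx]
    linear_combination h2
  refine inX_trans hQ hpol h2 hKM hMS hm ?_ hu0 hQx' hxM
  intro h0
  rw [tvGL_mulVec, one_mul, hwb'] at h0
  have h3 : sympForm m F (w + b • w₀) w₀ = 0 := by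
    rw [h0]
    unfold sympForm
    rw [zero_dotProduct]
  rw [sympForm_add_left, sympForm_smul_left, sympForm_self, mul_zero, add_zero, hwb'] at h3
  rw [h3, zero_smul, add_zero] at h0
  rw [h0, Q_zero hQ] at hw1
  exact zero_ne_one hw1

end overgroup

include hQ hpol h2 in
theorem isMaximalIn (hm : 4 ≤ m) :
    Cfsg.Geo.IsMaximalIn (spGL m F) (Cfsg.Geo.quadSimilarityGroup Q ⊓ spGL m F) := by
  refine ⟨lt_of_le_of_ne inf_le_right ?_, ?_⟩
  · intro hEq
    -- a transvection with singular centre is not an isometry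
    obtain ⟨y, hy, -, -, -⟩ := exists_aniso_perp3 hQ hpol hm 0 0 0
    have hy0 : y ≠ 0 := by
      rintro rfl
      exact hy (Q_zero hQ)
    obtain ⟨x, hx⟩ := exists_pair hQ hpol y hy0
    obtain ⟨v, hv, hyv, -⟩ := exists_adjust hQ hpol h2 hm y y x 0
    have hyv' : sympForm m F y v ≠ 0 := by
      rw [hyv, sympForm_swap, neg_ne_zero]; exact hx
    have hmem : tvGL m v 1 ∈ Cfsg.Geo.quadSimilarityGroup Q ⊓ spGL m F := by
      rw [hEq]
      exact tvGL_mem m v 1
    have h1 := isom_of_mem hQ hpol (by omega) _ hmem y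
    rw [Q_tv hQ hpol, hv, one_mul, mul_zero, zero_add, mul_one] at h1
    have h3 : (sympForm m F y v) ^ 2 = 0 := by linear_combination h1
    exact hyv' ((pow_eq_zero_iff (by norm_num)).mp h3)
  · intro M hKM hMS
    by_cases hMK : M ≤ Cfsg.Geo.quadSimilarityGroup Q ⊓ spGL m F
    · left
      exact le_antisymm hMK hKM
    right
    apply le_antisymm hMS
    apply spGL_le
    intro v c
    obtain ⟨a, ha⟩ := exists_sq h2 c
    have h := all_inX hQ hpol h2 hKM hMS hm hMK (a • v)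
    rw [tvGL_smul, mul_one, ← sq, ha] at h
    exact h

end Cfsg.Agent.Lib.Helper5.OInSpMax
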