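import Mathlib
import Cfsg.Prelude
import Cfsg.Agent.Lib.Helper2.OMMDefs

set_option autoImplicit false
set_option linter.unusedSectionVars false
set_option linter.unusedVariables false
set_option linter.unusedSimpArgs false
open Cfsg

namespace Cfsg.Agent.Lib.Helper5.OMMIsom

open Matrix QuadraticMap Cfsg.Agent.Lib.Helper5.CartanDieudonne
  Cfsg.Agent.Lib.Helper5.OrthCard Cfsg.Agent.Lib.Helper5.Eichler
  Cfsg.Agent.Lib.Helper5.OmegaSimple Cfsg.Agent.Lib.Helper5.OMMLevi Cfsg.Agent.Lib.Helper2.OMM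
  Cfsg.Agent.Lib.Helper1.OMMI

open scoped commutatorElement

section mono
variable {F : Type*} [Field F] {ι : Type} [Fintype ι] [DecidableEq ι]

/-- the monomial linear equivalence `(M v) i = c i * v (π i)` -/
def monoEquiv (π : Equiv.Perm ι) (c : ι → Fˣ) : (ι → F) ≃ₗ[F] (ι → F) where
  toFun v := fun i => (c i : F) * v (π i)
  map_add' v w := by funext i; simp [mul_add]
  map_smul' a v := by funext i; simp; ring
  invFun v := fun i => ((c (π.symm i))⁻¹ : Fˣ) * v (π.symm i)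
  left_inv v := by funext i; simp
  right_inv v := by funext i; simp

theorem monoEquiv_apply (π : Equiv.Perm ι) (c : ι → Fˣ) (v : ι → F) (i : ι) :
    monoEquiv π c v i = (c i : F) * v (π i) := rfl

variable (Q : QuadraticForm F (ι → F))

/-- a monomial isometry -/
noncomputable def mono (π : Equiv.Perm ι) (c : ι → Fˣ) (h : ∀ v, Q (monoEquiv π c v) = Q v) :
    ↥(isometryGroup F ⇑Q) :=
  Classical.choose (exists_isom_of_linearEquiv Q (monoEquiv π c) h)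

theorem act_mono (π : Equiv.Perm ι) (c : ι → Fˣ) (h : ∀ v, Q (monoEquiv π c v) = Q v)
    (v : ι → F) : act Q (mono Q π c h) v = fun i => (c i : F) * v (π i) :=
  Classical.choose_spec (exists_isom_of_linearEquiv Q (monoEquiv π c) h) v

theorem mem_Omega_of_comm (A B C : ↥(isometryGroup F ⇑Q)) (h : A * B = C * B * A) :
    C ∈ Omega F ⇑Q := by
  have hC : C = ⁅A, B⁆ := by
    rw [commutatorElement_def, h]
    group
  rw [hC]
  show _ ∈ commutator _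
  rw [commutator_def]
  exact Subgroup.commutator_mem_commutator (Subgroup.mem_top A) (Subgroup.mem_top B)

/-- conjugating an Eichler element by an isometry with known action -/
theorem conj_eich_of [Fintype F] (g : ↥(isometryGroup F ⇑Q)) (u z u' z' : ι → F) (c : F) (hu : Q u = 0)
    (huz : polar ⇑Q u z = 0) (hgu : act Q g u = c • u') (hgz : act Q g z = z') (hu' : Q u' = 0)
    (hu'z' : polar ⇑Q u' z' = 0) :
    g * eich Q u z hu huz * g⁻¹ =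
      eich Q u' (c • z') hu' (by rw [polar_smul_right, hu'z', smul_zero]) := by
  rw [conj_eich, ← eich_smul_left Q u' z' hu' hu'z' c]
  exact eich_congr Q hgu hgz _ _ _ _

end mono

section K3
variable {F : Type*} [Field F] {κ : Type} [Fintype κ] [DecidableEq κ]
  (Qc : QuadraticForm F (κ → F))

theorem Q3_apply (v : K3 κ → F) :
    Q3 Qc v = v (Sum.inl 0) * v (Sum.inl 1) + v (Sum.inr (Sum.inl 0)) * v (Sum.inr (Sum.inl 1)) +
      v (Sum.inr (Sum.inr (Sum.inl 0))) * v (Sum.inr (Sum.inr (Sum.inl 1))) +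
      Qc (fun k => v (Sum.inr (Sum.inr (Sum.inr k)))) := by
  show hypExt (hypExt (hypExt Qc)) v = _
  rw [hypExt_apply, hypExt_apply, hypExt_apply]
  ring

theorem flip_flip (a : Fin 2) : (![1, 0] : Fin 2 → Fin 2) ((![1, 0] : Fin 2 → Fin 2) a) = a := by
  fin_cases a <;> rfl

/-- swap of the pairs 1 and 3 -/
def sw13f : K3 κ → K3 κ
  | Sum.inl a => Sum.inr (Sum.inr (Sum.inl a))
  | Sum.inr (Sum.inl a) => Sum.inr (Sum.inl a)
  | Sum.inr (Sum.inr (Sum.inl a)) => Sum.inl a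
  | Sum.inr (Sum.inr (Sum.inr k)) => Sum.inr (Sum.inr (Sum.inr k))

theorem sw13f_invol : Function.Involutive (sw13f (κ := κ)) := by
  rintro (a | a | a | k) <;> rfl

/-- swap of the pairs 1 and 3 -/
def sw13 : Equiv.Perm (K3 κ) := (sw13f_invol (κ := κ)).toPerm

/-- the flip of the pair 1 -/
def fl1f : K3 κ → K3 κ
  | Sum.inl a => Sum.inl (![1, 0] a)
  | Sum.inr x => Sum.inr x

theorem fl1f_invol : Function.Involutive (fl1f (κ := κ)) := by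
  rintro (a | x)
  · fin_cases a <;> rfl
  · rfl

def fl1 : Equiv.Perm (K3 κ) := (fl1f_invol (κ := κ)).toPerm

theorem S13_inv (v : K3 κ → F) : Q3 Qc (monoEquiv sw13 (fun _ => 1) v) = Q3 Qc v := by
  rw [Q3_apply, Q3_apply]
  simp only [monoEquiv_apply, sw13, Function.Involutive.coe_toPerm, sw13f, Units.val_one, one_mul]
  ring

/-- the swap of the pairs 1 and 3 as an isometry -/
noncomputable def S13 : ↥(isometryGroup F ⇑(Q3 Qc)) := mono (Q3 Qc) sw13 (fun _ => 1) (S13_inv Qc)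

theorem Fl1_inv (v : K3 κ → F) : Q3 Qc (monoEquiv fl1 (fun _ => 1) v) = Q3 Qc v := by
  rw [Q3_apply, Q3_apply]
  simp only [monoEquiv_apply, fl1, Function.Involutive.coe_toPerm, fl1f, Units.val_one, one_mul]
  simp
  ring

noncomputable def Fl1 : ↥(isometryGroup F ⇑(Q3 Qc)) := mono (Q3 Qc) fl1 (fun _ => 1) (Fl1_inv Qc)

/-- swap of the pairs 1 and 2 -/
def sw12f : K3 κ → K3 κ
  | Sum.inl a => Sum.inr (Sum.inl a)
  | Sum.inr (Sum.inl a) => Sum.inl a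
  | Sum.inr (Sum.inr x) => Sum.inr (Sum.inr x)

theorem sw12f_invol : Function.Involutive (sw12f (κ := κ)) := by
  rintro (a | a | x) <;> rfl

def sw12 : Equiv.Perm (K3 κ) := (sw12f_invol (κ := κ)).toPerm

/-- swap of the pairs 2 and 3 -/
def sw23f : K3 κ → K3 κ
  | Sum.inl a => Sum.inl a
  | Sum.inr (Sum.inl a) => Sum.inr (Sum.inr (Sum.inl a))
  | Sum.inr (Sum.inr (Sum.inl a)) => Sum.inr (Sum.inl a)
  | Sum.inr (Sum.inr (Sum.inr k)) => Sum.inr (Sum.inr (Sum.inr k))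

theorem sw23f_invol : Function.Involutive (sw23f (κ := κ)) := by
  rintro (a | a | a | k) <;> rfl

def sw23 : Equiv.Perm (K3 κ) := (sw23f_invol (κ := κ)).toPerm

/-- the 3-cycle of the pairs: 1 → 2 → 3 → 1 -/
def cycf : K3 κ → K3 κ
  | Sum.inl a => Sum.inr (Sum.inl a)
  | Sum.inr (Sum.inl a) => Sum.inr (Sum.inr (Sum.inl a))
  | Sum.inr (Sum.inr (Sum.inl a)) => Sum.inl a
  | Sum.inr (Sum.inr (Sum.inr k)) => Sum.inr (Sum.inr (Sum.inr k))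

/-- the inverse 3-cycle -/
def cycfi : K3 κ → K3 κ
  | Sum.inl a => Sum.inr (Sum.inr (Sum.inl a))
  | Sum.inr (Sum.inl a) => Sum.inl a
  | Sum.inr (Sum.inr (Sum.inl a)) => Sum.inr (Sum.inl a)
  | Sum.inr (Sum.inr (Sum.inr k)) => Sum.inr (Sum.inr (Sum.inr k))

def cycP : Equiv.Perm (K3 κ) where
  toFun := cycf
  invFun := cycfi
  left_inv := by rintro (a | a | a | k) <;> rfl
  right_inv := by rintro (a | a | a | k) <;> rfl

/-- the flip of the pairs 1 and 3 -/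
def fl13f : K3 κ → K3 κ
  | Sum.inl a => Sum.inl (![1, 0] a)
  | Sum.inr (Sum.inl a) => Sum.inr (Sum.inl a)
  | Sum.inr (Sum.inr (Sum.inl a)) => Sum.inr (Sum.inr (Sum.inl (![1, 0] a)))
  | Sum.inr (Sum.inr (Sum.inr k)) => Sum.inr (Sum.inr (Sum.inr k))

theorem fl13f_invol : Function.Involutive (fl13f (κ := κ)) := by
  rintro (a | a | a | k)
  · fin_cases a <;> rfl
  · rfl
  · fin_cases a <;> rfl
  · rfl

def fl13 : Equiv.Perm (K3 κ) := (fl13f_invol (κ := κ)).toPerm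

theorem S12_inv (v : K3 κ → F) : Q3 Qc (monoEquiv sw12 (fun _ => 1) v) = Q3 Qc v := by
  rw [Q3_apply, Q3_apply]
  simp only [monoEquiv_apply, sw12, Function.Involutive.coe_toPerm, sw12f, Units.val_one, one_mul]
  ring

noncomputable def S12 : ↥(isometryGroup F ⇑(Q3 Qc)) := mono (Q3 Qc) sw12 (fun _ => 1) (S12_inv Qc)

theorem S23_inv (v : K3 κ → F) : Q3 Qc (monoEquiv sw23 (fun _ => 1) v) = Q3 Qc v := by
  rw [Q3_apply, Q3_apply]
  simp only [monoEquiv_apply, sw23, Function.Involutive.coe_toPerm, sw23f, Units.val_one, one_mul]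
  ring

noncomputable def S23 : ↥(isometryGroup F ⇑(Q3 Qc)) := mono (Q3 Qc) sw23 (fun _ => 1) (S23_inv Qc)

theorem cyc_inv (v : K3 κ → F) : Q3 Qc (monoEquiv cycP (fun _ => 1) v) = Q3 Qc v := by
  rw [Q3_apply, Q3_apply]
  simp only [monoEquiv_apply, cycP, Equiv.coe_fn_mk, cycf, Units.val_one, one_mul]
  ring

/-- the 3-cycle of the hyperbolic pairs as an isometry -/
noncomputable def cyc0 : ↥(isometryGroup F ⇑(Q3 Qc)) := mono (Q3 Qc) cycP (fun _ => 1) (cyc_inv Qc)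

theorem w0_inv (v : K3 κ → F) : Q3 Qc (monoEquiv fl13 (fun _ => 1) v) = Q3 Qc v := by
  rw [Q3_apply, Q3_apply]
  simp only [monoEquiv_apply, fl13, Function.Involutive.coe_toPerm, fl13f, Units.val_one, one_mul]
  simp
  ring

noncomputable def w00 : ↥(isometryGroup F ⇑(Q3 Qc)) := mono (Q3 Qc) fl13 (fun _ => 1) (w0_inv Qc)

theorem cyc_comm : S13 Qc * S12 Qc = cyc0 Qc * S12 Qc * S13 Qc := by
  apply ext_act
  intro v
  simp only [act_mul, S13, S12, cyc0, act_mono]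
  funext i
  rcases i with a | a | a | k <;>
    simp [sw13, sw12, cycP, sw13f, sw12f, cycf, Function.Involutive.coe_toPerm]

theorem w0_comm : Fl1 Qc * S13 Qc = w00 Qc * S13 Qc * Fl1 Qc := by
  apply ext_act
  intro v
  simp only [act_mul, S13, Fl1, w00, act_mono]
  funext i
  rcases i with a | a | a | k <;>
    simp [sw13, fl1, fl13, sw13f, fl1f, fl13f, Function.Involutive.coe_toPerm, flip_flip]

/-! ### diagonal elements -/

/-- weights of `h₁(δ)` -/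
def c1 (δ : Fˣ) : K3 κ → Fˣ
  | Sum.inl a => ![δ, δ⁻¹] a
  | Sum.inr _ => 1

/-- weights of `h₂(δ)` -/
def c2 (δ : Fˣ) : K3 κ → Fˣ
  | Sum.inl _ => 1
  | Sum.inr (Sum.inl a) => ![δ, δ⁻¹] a
  | Sum.inr (Sum.inr _) => 1

/-- weights of `tor13 δ` -/
def c13 (δ : Fˣ) : K3 κ → Fˣ
  | Sum.inl a => ![δ, δ⁻¹] a
  | Sum.inr (Sum.inl _) => 1
  | Sum.inr (Sum.inr (Sum.inl a)) => ![δ⁻¹, δ] a
  | Sum.inr (Sum.inr (Sum.inr _)) => 1

/-- weights of `tor23 δ` -/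
def c23 (δ : Fˣ) : K3 κ → Fˣ
  | Sum.inl _ => 1
  | Sum.inr (Sum.inl a) => ![δ, δ⁻¹] a
  | Sum.inr (Sum.inr (Sum.inl a)) => ![δ⁻¹, δ] a
  | Sum.inr (Sum.inr (Sum.inr _)) => 1

theorem h1_inv (δ : Fˣ) (v : K3 κ → F) : Q3 Qc (monoEquiv 1 (c1 δ) v) = Q3 Qc v := by
  rw [Q3_apply, Q3_apply]
  simp only [monoEquiv_apply, c1, Equiv.Perm.coe_one, id_eq, Units.val_one, one_mul]
  have h : (δ : F) * ((δ⁻¹ : Fˣ) : F) = 1 := Units.mul_inv δ
  simp only [Matrix.cons_val_zero, Matrix.cons_val_one]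
  linear_combination (v (Sum.inl 0) * v (Sum.inl 1)) * h

noncomputable def h1 (δ : Fˣ) : ↥(isometryGroup F ⇑(Q3 Qc)) :=
  mono (Q3 Qc) 1 (c1 δ) (h1_inv Qc δ)

theorem h2_inv (δ : Fˣ) (v : K3 κ → F) : Q3 Qc (monoEquiv 1 (c2 δ) v) = Q3 Qc v := by
  rw [Q3_apply, Q3_apply]
  simp only [monoEquiv_apply, c2, Equiv.Perm.coe_one, id_eq, Units.val_one, one_mul]
  have h : (δ : F) * ((δ⁻¹ : Fˣ) : F) = 1 := Units.mul_inv δ
  simp only [Matrix.cons_val_zero, Matrix.cons_val_one]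
  linear_combination (v (Sum.inr (Sum.inl 0)) * v (Sum.inr (Sum.inl 1))) * h

noncomputable def h2 (δ : Fˣ) : ↥(isometryGroup F ⇑(Q3 Qc)) :=
  mono (Q3 Qc) 1 (c2 δ) (h2_inv Qc δ)

theorem t13_inv (δ : Fˣ) (v : K3 κ → F) : Q3 Qc (monoEquiv 1 (c13 δ) v) = Q3 Qc v := by
  rw [Q3_apply, Q3_apply]
  simp only [monoEquiv_apply, c13, Equiv.Perm.coe_one, id_eq, Units.val_one, one_mul]
  have h : (δ : F) * ((δ⁻¹ : Fˣ) : F) = 1 := Units.mul_inv δ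
  simp only [Matrix.cons_val_zero, Matrix.cons_val_one]
  linear_combination (v (Sum.inl 0) * v (Sum.inl 1) +
    v (Sum.inr (Sum.inr (Sum.inl 0))) * v (Sum.inr (Sum.inr (Sum.inl 1)))) * h

noncomputable def t13 (δ : Fˣ) : ↥(isometryGroup F ⇑(Q3 Qc)) :=
  mono (Q3 Qc) 1 (c13 δ) (t13_inv Qc δ)

theorem t23_inv (δ : Fˣ) (v : K3 κ → F) : Q3 Qc (monoEquiv 1 (c23 δ) v) = Q3 Qc v := by
  rw [Q3_apply, Q3_apply]
  simp only [monoEquiv_apply, c23, Equiv.Perm.coe_one, id_eq, Units.val_one, one_mul]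
  have h : (δ : F) * ((δ⁻¹ : Fˣ) : F) = 1 := Units.mul_inv δ
  simp only [Matrix.cons_val_zero, Matrix.cons_val_one]
  linear_combination (v (Sum.inr (Sum.inl 0)) * v (Sum.inr (Sum.inl 1)) +
    v (Sum.inr (Sum.inr (Sum.inl 0))) * v (Sum.inr (Sum.inr (Sum.inl 1)))) * h

noncomputable def t23 (δ : Fˣ) : ↥(isometryGroup F ⇑(Q3 Qc)) :=
  mono (Q3 Qc) 1 (c23 δ) (t23_inv Qc δ)

theorem t13_comm (δ : Fˣ) : h1 Qc δ * S13 Qc = t13 Qc δ * S13 Qc * h1 Qc δ := by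
  apply ext_act
  intro v
  simp only [act_mul, S13, h1, t13, act_mono]
  funext i
  rcases i with a | a | a | k
  · fin_cases a <;>
      simp [sw13, sw13f, c1, c13, Function.Involutive.coe_toPerm]
  · simp [sw13, sw13f, c1, c13, Function.Involutive.coe_toPerm]
  · fin_cases a <;>
      simp [sw13, sw13f, c1, c13, Function.Involutive.coe_toPerm]
  · simp [sw13, sw13f, c1, c13, Function.Involutive.coe_toPerm]

theorem t23_comm (δ : Fˣ) : h2 Qc δ * S23 Qc = t23 Qc δ * S23 Qc * h2 Qc δ := by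
  apply ext_act
  intro v
  simp only [act_mul, S23, h2, t23, act_mono]
  funext i
  rcases i with a | a | a | k
  · simp [sw23, sw23f, c2, c23, Function.Involutive.coe_toPerm]
  · fin_cases a <;>
      simp [sw23, sw23f, c2, c23, Function.Involutive.coe_toPerm]
  · fin_cases a <;>
      simp [sw23, sw23f, c2, c23, Function.Involutive.coe_toPerm]
  · simp [sw23, sw23f, c2, c23, Function.Involutive.coe_toPerm]

/-! ### the elements of `GG Qc` -/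

/-- the 3-cycle of the hyperbolic pairs: `e₂ ↦ e₁`, `e₃ ↦ e₂`, `e₁ ↦ e₃` -/
noncomputable def cyc : GG Qc := ⟨cyc0 Qc, mem_Omega_of_comm _ _ _ _ (cyc_comm Qc)⟩

/-- `w₀ = s₁ s₃`: swaps `e₁, f₁` and `e₃, f₃` -/
noncomputable def w0 : GG Qc := ⟨w00 Qc, mem_Omega_of_comm _ _ _ _ (w0_comm Qc)⟩

/-- `tor13 δ`: `e₁ ↦ δ e₁`, `f₁ ↦ δ⁻¹ f₁`, `e₃ ↦ δ⁻¹ e₃`, `f₃ ↦ δ f₃` -/
noncomputable def tor13 (δ : Fˣ) : GG Qc :=
  ⟨t13 Qc δ, mem_Omega_of_comm _ _ _ _ (t13_comm Qc δ)⟩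

/-- `tor23 δ`: `e₂ ↦ δ e₂`, `f₂ ↦ δ⁻¹ f₂`, `e₃ ↦ δ⁻¹ e₃`, `f₃ ↦ δ f₃` -/
noncomputable def tor23 (δ : Fˣ) : GG Qc :=
  ⟨t23 Qc δ, mem_Omega_of_comm _ _ _ _ (t23_comm Qc δ)⟩

theorem act_cyc (v : K3 κ → F) : act (Q3 Qc) (cyc Qc).1 v = fun i => v (cycf i) := by
  show act (Q3 Qc) (cyc0 Qc) v = _
  unfold cyc0
  rw [act_mono]
  funext i
  simp [cycP]

theorem act_w0 (v : K3 κ → F) : act (Q3 Qc) (w0 Qc).1 v = fun i => v (fl13f i) := by
  show act (Q3 Qc) (w00 Qc) v = _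
  unfold w00
  rw [act_mono]
  funext i
  simp [fl13, Function.Involutive.coe_toPerm]

theorem act_tor13 (δ : Fˣ) (v : K3 κ → F) :
    act (Q3 Qc) (tor13 Qc δ).1 v = fun i => (c13 δ i : F) * v i := by
  show act (Q3 Qc) (t13 Qc δ) v = _
  unfold t13
  rw [act_mono]
  rfl

theorem act_tor23 (δ : Fˣ) (v : K3 κ → F) :
    act (Q3 Qc) (tor23 Qc δ).1 v = fun i => (c23 δ i : F) * v i := by
  show act (Q3 Qc) (t23 Qc δ) v = _
  unfold t23
  rw [act_mono]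
  rfl

/-! ### action on the standard vectors -/

theorem act_cyc_e2 : act (Q3 Qc) (cyc Qc).1 (e2 F κ) = e1 F κ := by
  rw [act_cyc]
  funext i
  rcases i with a | a | a | k <;> simp [cycf, ext0, eH, Pi.single_apply]

theorem act_cyc_e3 : act (Q3 Qc) (cyc Qc).1 (e3 F κ) = e2 F κ := by
  rw [act_cyc]
  funext i
  rcases i with a | a | a | k <;> simp [cycf, ext0, eH, Pi.single_apply]

theorem act_cyc_e1 : act (Q3 Qc) (cyc Qc).1 (e1 F κ) = e3 F κ := by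
  rw [act_cyc]
  funext i
  rcases i with a | a | a | k <;> simp [cycf, ext0, eH, Pi.single_apply]

theorem act_w0_e1 : act (Q3 Qc) (w0 Qc).1 (e1 F κ) = f1 F κ := by
  rw [act_w0]
  funext i
  rcases i with a | a | a | k
  · fin_cases a <;> simp [fl13f, eH, fH, Pi.single_apply]
  · simp [fl13f, eH, fH, Pi.single_apply]
  · simp [fl13f, eH, fH, Pi.single_apply]
  · simp [fl13f, eH, fH, Pi.single_apply]

theorem act_w0_f1 : act (Q3 Qc) (w0 Qc).1 (f1 F κ) = e1 F κ := by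
  rw [act_w0]
  funext i
  rcases i with a | a | a | k
  · fin_cases a <;> simp [fl13f, eH, fH, Pi.single_apply]
  · simp [fl13f, eH, fH, Pi.single_apply]
  · simp [fl13f, eH, fH, Pi.single_apply]
  · simp [fl13f, eH, fH, Pi.single_apply]

theorem act_w0_e2 : act (Q3 Qc) (w0 Qc).1 (e2 F κ) = e2 F κ := by
  rw [act_w0]
  funext i
  rcases i with a | a | a | k <;> simp [fl13f, ext0, eH, Pi.single_apply]

/-- the flip of the pair 3 in the coordinates of `W` -/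
def fl3W : K2 κ → K2 κ
  | Sum.inl a => Sum.inl a
  | Sum.inr (Sum.inl a) => Sum.inr (Sum.inl (![1, 0] a))
  | Sum.inr (Sum.inr k) => Sum.inr (Sum.inr k)

theorem fl3W_invol : Function.Involutive (fl3W (κ := κ)) := by
  rintro (a | a | k)
  · rfl
  · fin_cases a <;> rfl
  · rfl

/-- the flip of the pair 3 in the coordinates of `W'` -/
def fl3P : K1 κ → K1 κ
  | Sum.inl a => Sum.inl (![1, 0] a)
  | Sum.inr k => Sum.inr k

theorem fl3P_invol : Function.Involutive (fl3P (κ := κ)) := by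
  rintro (a | k)
  · fin_cases a <;> rfl
  · rfl

/-- the action of `w₀` on `W` -/
def sigW : (K2 κ → F) ≃ (K2 κ → F) :=
  Function.Involutive.toPerm (fun x => x ∘ fl3W) (by
    intro x; funext y; simp [Function.comp, fl3W_invol y])

/-- the action of `w₀` on `W'` -/
def sigP : (K1 κ → F) ≃ (K1 κ → F) :=
  Function.Involutive.toPerm (fun z => z ∘ fl3P) (by
    intro z; funext y; simp [Function.comp, fl3P_invol y])

theorem sigW_apply (x : K2 κ → F) (y : K2 κ) : sigW x y = x (fl3W y) := rfl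
theorem sigP_apply (z : K1 κ → F) (y : K1 κ) : sigP z y = z (fl3P y) := rfl

theorem act_w0_ext0 (x : K2 κ → F) : act (Q3 Qc) (w0 Qc).1 (ext0 x) = ext0 (sigW x) := by
  rw [act_w0]
  funext i
  rcases i with a | a | a | k <;> simp [fl13f, ext0, sigW_apply, fl3W]

theorem act_w0_em2 (z : K1 κ → F) : act (Q3 Qc) (w0 Qc).1 (em2 z) = em2 (sigP z) := by
  rw [act_w0]
  funext i
  rcases i with a | a | a | k <;> simp [fl13f, ext0, sigP_apply, fl3P]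

/-! ### the tori -/

/-- weights of `tor13 δ` on `W` -/
def dW13 (δ : Fˣ) : K2 κ → Fˣ := fun y => c13 δ (Sum.inr y)
/-- weights of `tor23 δ` on `W` -/
def dW23 (δ : Fˣ) : K2 κ → Fˣ := fun y => c23 δ (Sum.inr y)
/-- weights of `tor13 δ` and of `tor23 δ` on `W'` -/
def dP (δ : Fˣ) : K1 κ → Fˣ := fun y => c13 δ (Sum.inr (Sum.inr y))

theorem c23_inr_inr (δ : Fˣ) (y : K1 κ) :
    c23 δ (Sum.inr (Sum.inr y) : K3 κ) = c13 δ (Sum.inr (Sum.inr y)) := by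
  rcases y with a | k <;> rfl

theorem act_tor13_e1 (δ : Fˣ) : act (Q3 Qc) (tor13 Qc δ).1 (e1 F κ) = (δ : F) • e1 F κ := by
  rw [act_tor13]
  funext i
  rcases i with a | a | a | k
  · fin_cases a <;> simp [c13, eH, Pi.single_apply]
  · simp [c13, eH, Pi.single_apply]
  · simp [c13, eH, Pi.single_apply]
  · simp [c13, eH, Pi.single_apply]

theorem act_tor13_f1 (δ : Fˣ) :
    act (Q3 Qc) (tor13 Qc δ).1 (f1 F κ) = ((δ⁻¹ : Fˣ) : F) • f1 F κ := by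
  rw [act_tor13]
  funext i
  rcases i with a | a | a | k
  · fin_cases a <;> simp [c13, fH, Pi.single_apply]
  · simp [c13, fH, Pi.single_apply]
  · simp [c13, fH, Pi.single_apply]
  · simp [c13, fH, Pi.single_apply]

theorem act_tor13_e2 (δ : Fˣ) : act (Q3 Qc) (tor13 Qc δ).1 (e2 F κ) = e2 F κ := by
  rw [act_tor13]
  funext i
  rcases i with a | a | a | k <;> simp [c13, ext0, eH, Pi.single_apply]

theorem act_tor13_f2 (δ : Fˣ) : act (Q3 Qc) (tor13 Qc δ).1 (f2 F κ) = f2 F κ := by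
  rw [act_tor13]
  funext i
  rcases i with a | a | a | k <;> simp [c13, ext0, fH, Pi.single_apply]

theorem act_tor13_ext0 (δ : Fˣ) (x : K2 κ → F) :
    act (Q3 Qc) (tor13 Qc δ).1 (ext0 x) = ext0 (monoEquiv 1 (dW13 δ) x) := by
  rw [act_tor13]
  funext i
  rcases i with a | y
  · simp [ext0]
  · simp [ext0, monoEquiv_apply, dW13]

theorem act_tor13_em2 (δ : Fˣ) (z : K1 κ → F) :
    act (Q3 Qc) (tor13 Qc δ).1 (em2 z) = em2 (monoEquiv 1 (dP δ) z) := by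
  rw [act_tor13]
  funext i
  rcases i with a | a | y
  · simp [ext0]
  · simp [ext0]
  · simp [ext0, monoEquiv_apply, dP]

theorem act_tor23_e1 (δ : Fˣ) : act (Q3 Qc) (tor23 Qc δ).1 (e1 F κ) = e1 F κ := by
  rw [act_tor23]
  funext i
  rcases i with a | a | a | k <;> simp [c23, eH, Pi.single_apply]

theorem act_tor23_f1 (δ : Fˣ) : act (Q3 Qc) (tor23 Qc δ).1 (f1 F κ) = f1 F κ := by
  rw [act_tor23]
  funext i
  rcases i with a | a | a | k <;> simp [c23, fH, Pi.single_apply]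

theorem act_tor23_e2 (δ : Fˣ) : act (Q3 Qc) (tor23 Qc δ).1 (e2 F κ) = (δ : F) • e2 F κ := by
  rw [act_tor23]
  funext i
  rcases i with a | a | a | k
  · simp [c23, ext0, eH, Pi.single_apply]
  · fin_cases a <;> simp [c23, ext0, eH, Pi.single_apply]
  · simp [c23, ext0, eH, Pi.single_apply]
  · simp [c23, ext0, eH, Pi.single_apply]

theorem act_tor23_f2 (δ : Fˣ) :
    act (Q3 Qc) (tor23 Qc δ).1 (f2 F κ) = ((δ⁻¹ : Fˣ) : F) • f2 F κ := by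
  rw [act_tor23]
  funext i
  rcases i with a | a | a | k
  · simp [c23, ext0, fH, Pi.single_apply]
  · fin_cases a <;> simp [c23, ext0, fH, Pi.single_apply]
  · simp [c23, ext0, fH, Pi.single_apply]
  · simp [c23, ext0, fH, Pi.single_apply]

theorem act_tor23_ext0 (δ : Fˣ) (x : K2 κ → F) :
    act (Q3 Qc) (tor23 Qc δ).1 (ext0 x) = ext0 (monoEquiv 1 (dW23 δ) x) := by
  rw [act_tor23]
  funext i
  rcases i with a | y
  · simp [ext0]
  · simp [ext0, monoEquiv_apply, dW23]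

theorem act_tor23_em2 (δ : Fˣ) (z : K1 κ → F) :
    act (Q3 Qc) (tor23 Qc δ).1 (em2 z) = em2 (monoEquiv 1 (dP δ) z) := by
  rw [act_tor23]
  funext i
  rcases i with a | a | y
  · simp [ext0]
  · simp [ext0]
  · simp [ext0, monoEquiv_apply, dP, c23_inr_inr]

/-- an isometry of `V` mapping `ext0 W` to itself induces an isometry of `W` -/
theorem quad_of_act_ext0 (g : ↥(isometryGroup F ⇑(Q3 Qc))) (T : (K2 κ → F) → (K2 κ → F))
    (hT : ∀ x, act (Q3 Qc) g (ext0 x) = ext0 (T x)) (x : K2 κ → F) :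
    Q2 Qc (T x) = Q2 Qc x := by
  have h1 := quad_act (Q3 Qc) g (ext0 x)
  rw [hT] at h1
  show hypExt (hypExt Qc) (T x) = hypExt (hypExt Qc) x
  rw [← hypExt_ext0 (hypExt (hypExt Qc)) (T x), ← hypExt_ext0 (hypExt (hypExt Qc)) x]
  exact h1

theorem polar_of_act_ext0 (g : ↥(isometryGroup F ⇑(Q3 Qc))) (T : (K2 κ → F) → (K2 κ → F))
    (hT : ∀ x, act (Q3 Qc) g (ext0 x) = ext0 (T x)) (x y : K2 κ → F) :
    polar ⇑(Q2 Qc) (T x) (T y) = polar ⇑(Q2 Qc) x y := by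
  have h1 := polar_act (Q3 Qc) g (ext0 x) (ext0 y)
  rw [hT, hT] at h1
  show polar ⇑(hypExt (hypExt Qc)) (T x) (T y) = polar ⇑(hypExt (hypExt Qc)) x y
  rw [← polar_ext0_ext0 (hypExt (hypExt Qc)) (T x) (T y),
    ← polar_ext0_ext0 (hypExt (hypExt Qc)) x y]
  exact h1

theorem quad_of_act_em2 (g : ↥(isometryGroup F ⇑(Q3 Qc))) (T : (K1 κ → F) → (K1 κ → F))
    (hT : ∀ z, act (Q3 Qc) g (em2 z) = em2 (T z)) (z : K1 κ → F) :
    Q1 Qc (T z) = Q1 Qc z := by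
  have h1 := quad_act (Q3 Qc) g (em2 z)
  rw [hT] at h1
  show hypExt Qc (T z) = hypExt Qc z
  rw [← hypExt_ext0 (hypExt Qc) (T z), ← hypExt_ext0 (hypExt Qc) z,
    ← hypExt_ext0 (hypExt (hypExt Qc)) (ext0 (T z)), ← hypExt_ext0 (hypExt (hypExt Qc)) (ext0 z)]
  exact h1

theorem polar_of_act_em2 (g : ↥(isometryGroup F ⇑(Q3 Qc))) (T : (K1 κ → F) → (K1 κ → F))
    (hT : ∀ z, act (Q3 Qc) g (em2 z) = em2 (T z)) (z z' : K1 κ → F) :
    polar ⇑(Q1 Qc) (T z) (T z') = polar ⇑(Q1 Qc) z z' := by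
  have h1 := polar_act (Q3 Qc) g (em2 z) (em2 z')
  rw [hT, hT] at h1
  show polar ⇑(hypExt Qc) (T z) (T z') = polar ⇑(hypExt Qc) z z'
  rw [← polar_ext0_ext0 (hypExt Qc) (T z) (T z'), ← polar_ext0_ext0 (hypExt Qc) z z',
    ← polar_ext0_ext0 (hypExt (hypExt Qc)) (ext0 (T z)) (ext0 (T z')),
    ← polar_ext0_ext0 (hypExt (hypExt Qc)) (ext0 z) (ext0 z')]
  exact h1

theorem Q2_dW13 (δ : Fˣ) (x : K2 κ → F) : Q2 Qc (monoEquiv 1 (dW13 δ) x) = Q2 Qc x :=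
  quad_of_act_ext0 Qc _ _ (act_tor13_ext0 Qc δ) x
theorem polar_dW13 (δ : Fˣ) (x y : K2 κ → F) :
    polar ⇑(Q2 Qc) (monoEquiv 1 (dW13 δ) x) (monoEquiv 1 (dW13 δ) y) = polar ⇑(Q2 Qc) x y :=
  polar_of_act_ext0 Qc _ _ (act_tor13_ext0 Qc δ) x y
theorem Q2_dW23 (δ : Fˣ) (x : K2 κ → F) : Q2 Qc (monoEquiv 1 (dW23 δ) x) = Q2 Qc x :=
  quad_of_act_ext0 Qc _ _ (act_tor23_ext0 Qc δ) x
theorem polar_dW23 (δ : Fˣ) (x y : K2 κ → F) :
    polar ⇑(Q2 Qc) (monoEquiv 1 (dW23 δ) x) (monoEquiv 1 (dW23 δ) y) = polar ⇑(Q2 Qc) x y :=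
  polar_of_act_ext0 Qc _ _ (act_tor23_ext0 Qc δ) x y
theorem Q1_dP (δ : Fˣ) (z : K1 κ → F) : Q1 Qc (monoEquiv 1 (dP δ) z) = Q1 Qc z :=
  quad_of_act_em2 Qc _ _ (act_tor13_em2 Qc δ) z
theorem polar_dP (δ : Fˣ) (z z' : K1 κ → F) :
    polar ⇑(Q1 Qc) (monoEquiv 1 (dP δ) z) (monoEquiv 1 (dP δ) z') = polar ⇑(Q1 Qc) z z' :=
  polar_of_act_em2 Qc _ _ (act_tor13_em2 Qc δ) z z'
theorem Q2_sigW (x : K2 κ → F) : Q2 Qc (sigW x) = Q2 Qc x :=
  quad_of_act_ext0 Qc _ _ (act_w0_ext0 Qc) x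
theorem polar_sigW (x y : K2 κ → F) : polar ⇑(Q2 Qc) (sigW x) (sigW y) = polar ⇑(Q2 Qc) x y :=
  polar_of_act_ext0 Qc _ _ (act_w0_ext0 Qc) x y
theorem Q1_sigP (z : K1 κ → F) : Q1 Qc (sigP z) = Q1 Qc z :=
  quad_of_act_em2 Qc _ _ (act_w0_em2 Qc) z
theorem polar_sigP (z z' : K1 κ → F) : polar ⇑(Q1 Qc) (sigP z) (sigP z') = polar ⇑(Q1 Qc) z z' :=
  polar_of_act_em2 Qc _ _ (act_w0_em2 Qc) z z'

end K3

section conj
variable {F : Type*} [Field F] [Fintype F] [DecidableEq F] {κ : Type} [Fintype κ] [DecidableEq κ]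
  {Qc : QuadraticForm F (κ → F)}

/-- TCONJ: the long root element `tE` of the Levi factor is conjugate to `uE e₂` -/
theorem tE_conj (H : Hyp (Q3 Qc)) : ∃ g : GG Qc, g * tE H * g⁻¹ = uE H (eH F (K1 κ)) := by
  refine ⟨cyc Qc, ?_⟩
  apply Subtype.ext
  rw [Subgroup.coe_mul, Subgroup.coe_mul, Subgroup.coe_inv, uE_coe]
  show (cyc Qc).1 * eich (Q3 Qc) (e2 F κ) (em2 (eH F κ)) (Q3_e2 Qc) (polar_e2_em2 Qc _) *
    (cyc Qc).1⁻¹ = _
  rw [conj_eich]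
  exact eich_congr (Q3 Qc) (act_cyc_e2 Qc) (act_cyc_e3 Qc) _ _ _ _

theorem w0_conj_uE (H : Hyp (Q3 Qc)) (x : K2 κ → F) :
    w0 Qc * uE H x * (w0 Qc)⁻¹ = uM H (sigW x) := by
  apply Subtype.ext
  rw [Subgroup.coe_mul, Subgroup.coe_mul, Subgroup.coe_inv, uE_coe]
  show _ = eich (Q3 Qc) (f1 F κ) (ext0 (sigW x)) (hypExt_fH _) (polar_f1_ext0 Qc _)
  rw [conj_eich]
  exact eich_congr (Q3 Qc) (act_w0_e1 Qc) (act_w0_ext0 Qc x) _ _ _ _

theorem w0_conj_uM (H : Hyp (Q3 Qc)) (x : K2 κ → F) :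
    w0 Qc * uM H x * (w0 Qc)⁻¹ = uE H (sigW x) := by
  apply Subtype.ext
  rw [Subgroup.coe_mul, Subgroup.coe_mul, Subgroup.coe_inv, uE_coe]
  show (w0 Qc).1 * eich (Q3 Qc) (f1 F κ) (ext0 x) (hypExt_fH _) (polar_f1_ext0 Qc _) *
    (w0 Qc).1⁻¹ = _
  rw [conj_eich]
  exact eich_congr (Q3 Qc) (act_w0_f1 Qc) (act_w0_ext0 Qc x) _ _ _ _

theorem w0_conj_uP (H : Hyp (Q3 Qc)) (z : K1 κ → F) :
    w0 Qc * uP H z * (w0 Qc)⁻¹ = uP H (sigP z) := by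
  apply Subtype.ext
  rw [Subgroup.coe_mul, Subgroup.coe_mul, Subgroup.coe_inv]
  show (w0 Qc).1 * eich (Q3 Qc) (e2 F κ) (em2 z) (Q3_e2 Qc) (polar_e2_em2 Qc _) * (w0 Qc).1⁻¹ =
    eich (Q3 Qc) (e2 F κ) (em2 (sigP z)) (Q3_e2 Qc) (polar_e2_em2 Qc _)
  rw [conj_eich]
  exact eich_congr (Q3 Qc) (act_w0_e2 Qc) (act_w0_em2 Qc z) _ _ _ _

/-- W0 -/
theorem W0 (H : Hyp (Q3 Qc)) : ∃ (g : GG Qc) (σ : (K2 κ → F) ≃ (K2 κ → F))
    (σ' : (K1 κ → F) ≃ (K1 κ → F)), (∀ x, g * uE H x * g⁻¹ = uM H (σ x)) ∧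
      (∀ x, g * uM H x * g⁻¹ = uE H (σ x)) ∧ (∀ z, g * uP H z * g⁻¹ = uP H (σ' z)) :=
  ⟨w0 Qc, sigW, sigP, w0_conj_uE H, w0_conj_uM H, w0_conj_uP H⟩

/-! ### conjugation by the tori -/

theorem conj_tor13_uE (H : Hyp (Q3 Qc)) (δ : Fˣ) (x : K2 κ → F) :
    tor13 Qc δ * uE H x * (tor13 Qc δ)⁻¹ = uE H ((δ : F) • monoEquiv 1 (dW13 δ) x) := by
  apply Subtype.ext
  rw [Subgroup.coe_mul, Subgroup.coe_mul, Subgroup.coe_inv, uE_coe, uE_coe]
  rw [conj_eich_of (Q3 Qc) (tor13 Qc δ).1 (e1 F κ) (ext0 x) (e1 F κ)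
    (ext0 (monoEquiv 1 (dW13 δ) x)) (δ : F) _ _ (act_tor13_e1 Qc δ) (act_tor13_ext0 Qc δ x)
    (hypExt_eH _) (Cfsg.Agent.Lib.Helper5.OMMLevi.polar_eH_ext0 _ _)]
  exact eich_congr (Q3 Qc) rfl (Cfsg.Agent.Lib.Helper5.OMMLevi.ext0_smul _ _).symm _ _ _ _

theorem conj_tor13_uM (H : Hyp (Q3 Qc)) (δ : Fˣ) (x : K2 κ → F) :
    tor13 Qc δ * uM H x * (tor13 Qc δ)⁻¹ =
      uM H (((δ⁻¹ : Fˣ) : F) • monoEquiv 1 (dW13 δ) x) := by
  apply Subtype.ext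
  rw [Subgroup.coe_mul, Subgroup.coe_mul, Subgroup.coe_inv]
  show (tor13 Qc δ).1 * eich (Q3 Qc) (f1 F κ) (ext0 x) (hypExt_fH _) (polar_f1_ext0 Qc _) *
    (tor13 Qc δ).1⁻¹ = eich (Q3 Qc) (f1 F κ) (ext0 (((δ⁻¹ : Fˣ) : F) • monoEquiv 1 (dW13 δ) x))
      (hypExt_fH _) (polar_f1_ext0 Qc _)
  rw [conj_eich_of (Q3 Qc) (tor13 Qc δ).1 (f1 F κ) (ext0 x) (f1 F κ)
    (ext0 (monoEquiv 1 (dW13 δ) x)) ((δ⁻¹ : Fˣ) : F) _ _ (act_tor13_f1 Qc δ)
    (act_tor13_ext0 Qc δ x) (hypExt_fH _) (polar_f1_ext0 Qc _)]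
  exact eich_congr (Q3 Qc) rfl (Cfsg.Agent.Lib.Helper5.OMMLevi.ext0_smul _ _).symm _ _ _ _

theorem conj_tor13_uP (H : Hyp (Q3 Qc)) (δ : Fˣ) (z : K1 κ → F) :
    tor13 Qc δ * uP H z * (tor13 Qc δ)⁻¹ = uP H (monoEquiv 1 (dP δ) z) := by
  apply Subtype.ext
  rw [Subgroup.coe_mul, Subgroup.coe_mul, Subgroup.coe_inv]
  show (tor13 Qc δ).1 * eich (Q3 Qc) (e2 F κ) (em2 z) (Q3_e2 Qc) (polar_e2_em2 Qc _) *
    (tor13 Qc δ).1⁻¹ = eich (Q3 Qc) (e2 F κ) (em2 (monoEquiv 1 (dP δ) z)) (Q3_e2 Qc)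
      (polar_e2_em2 Qc _)
  rw [conj_eich]
  exact eich_congr (Q3 Qc) (act_tor13_e2 Qc δ) (act_tor13_em2 Qc δ z) _ _ _ _

theorem conj_tor23_uE (H : Hyp (Q3 Qc)) (δ : Fˣ) (x : K2 κ → F) :
    tor23 Qc δ * uE H x * (tor23 Qc δ)⁻¹ = uE H (monoEquiv 1 (dW23 δ) x) := by
  apply Subtype.ext
  rw [Subgroup.coe_mul, Subgroup.coe_mul, Subgroup.coe_inv, uE_coe, uE_coe, conj_eich]
  exact eich_congr (Q3 Qc) (act_tor23_e1 Qc δ) (act_tor23_ext0 Qc δ x) _ _ _ _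

theorem conj_tor23_uM (H : Hyp (Q3 Qc)) (δ : Fˣ) (x : K2 κ → F) :
    tor23 Qc δ * uM H x * (tor23 Qc δ)⁻¹ = uM H (monoEquiv 1 (dW23 δ) x) := by
  apply Subtype.ext
  rw [Subgroup.coe_mul, Subgroup.coe_mul, Subgroup.coe_inv]
  show (tor23 Qc δ).1 * eich (Q3 Qc) (f1 F κ) (ext0 x) (hypExt_fH _) (polar_f1_ext0 Qc _) *
    (tor23 Qc δ).1⁻¹ = eich (Q3 Qc) (f1 F κ) (ext0 (monoEquiv 1 (dW23 δ) x))
      (hypExt_fH _) (polar_f1_ext0 Qc _)
  rw [conj_eich]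
  exact eich_congr (Q3 Qc) (act_tor23_f1 Qc δ) (act_tor23_ext0 Qc δ x) _ _ _ _

theorem conj_tor23_uP (H : Hyp (Q3 Qc)) (δ : Fˣ) (z : K1 κ → F) :
    tor23 Qc δ * uP H z * (tor23 Qc δ)⁻¹ = uP H ((δ : F) • monoEquiv 1 (dP δ) z) := by
  apply Subtype.ext
  rw [Subgroup.coe_mul, Subgroup.coe_mul, Subgroup.coe_inv]
  show (tor23 Qc δ).1 * eich (Q3 Qc) (e2 F κ) (em2 z) (Q3_e2 Qc) (polar_e2_em2 Qc _) *
    (tor23 Qc δ).1⁻¹ = eich (Q3 Qc) (e2 F κ) (em2 ((δ : F) • monoEquiv 1 (dP δ) z)) (Q3_e2 Qc)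
      (polar_e2_em2 Qc _)
  rw [conj_eich_of (Q3 Qc) (tor23 Qc δ).1 (e2 F κ) (em2 z) (e2 F κ)
    (em2 (monoEquiv 1 (dP δ) z)) (δ : F) _ _ (act_tor23_e2 Qc δ) (act_tor23_em2 Qc δ z)
    (Q3_e2 Qc) (polar_e2_em2 Qc _)]
  refine eich_congr (Q3 Qc) rfl ?_ _ _ _ _
  show (δ : F) • ext0 (ext0 (monoEquiv 1 (dP δ) z)) = ext0 (ext0 ((δ : F) • monoEquiv 1 (dP δ) z))
  rw [Cfsg.Agent.Lib.Helper5.OMMLevi.ext0_smul, Cfsg.Agent.Lib.Helper5.OMMLevi.ext0_smul]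

end conj

end Cfsg.Agent.Lib.Helper5.OMMIsom
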