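import Mathlib
import Cfsg.Prelude
import Cfsg.Agent.Lib.Helper8.OMPDefs
import Cfsg.Agent.Lib.Helper8.OMPI3a
import Cfsg.Agent.Lib.Helper4.SLCard
import Cfsg.Agent.Lib.Helper5.PlusGeom
import Cfsg.Agent.Lib.Helper5.QuadStd
import Cfsg.Agent.Lib.Helper5.OMPI3Defs
import Cfsg.Agent.Lib.Helper5.OMPI3b

set_option autoImplicit false
set_option linter.unusedSectionVars false
set_option linter.unusedVariables false
set_option linter.unusedSimpArgs false

/-!
Farm OMP (statement S2345), unit I3: the number of long root elements of `Ω⁺_{2(m+3)}(F)`.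
-/

namespace Cfsg.Agent.Lib.Helper5.OMP

open Matrix QuadraticMap Cfsg Cfsg.Agent.Lib.Helper1.MND Cfsg.Agent.Lib.Helper8.OMP
  Cfsg.Agent.Lib.Helper5 Cfsg.Agent.Lib.Helper5.CartanDieudonne Cfsg.Agent.Lib.Helper5.Refl
  Cfsg.Agent.Lib.Helper5.Siegel Cfsg.Agent.Lib.Helper5.Eichler

variable {F : Type*} [Field F] [Fintype F] [DecidableEq F] {m : ℕ}

/-- `card_rootClass_mul` transported along an equality of the form function -/
theorem card_class_aux {ι : Type} [Fintype ι] [DecidableEq ι] (Q : QuadraticForm F (ι → F))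
    (hQ : (polarBilin Q).Nondegenerate) (f : (ι → F) → F) (hf : ⇑Q = f)
    (a₀ b₀ : ι → F) (h₀ : IsTS Q a₀ b₀) (U : F → ↥(isometryGroup F f))
    (hU : ∀ s x, ((U s : Matrix.GeneralLinearGroup ι F) : Matrix ι ι F) *ᵥ x =
      x + (s * polar f a₀ x) • b₀ - (s * polar f b₀ x) • a₀) :
    Nat.card {x : ↥(isometryGroup F f) //
        ∃ (o : ↥(isometryGroup F f)) (s : F), s ≠ 0 ∧ x = o * U s * o⁻¹} *
      Nat.card (Matrix.SpecialLinearGroup (Fin 2) F) =
    Nat.card {p : (ι → F) × (ι → F) // f p.1 = 0 ∧ f p.2 = 0 ∧ polar f p.1 p.2 = 0 ∧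
      ∀ s t : F, s • p.1 + t • p.2 = 0 → s = 0 ∧ t = 0} := by
  subst hf
  have hU' : U = fun s => siegel Q a₀ b₀ h₀.1 h₀.2.1 h₀.2.2.1 s := by
    funext s
    apply ext_act
    intro x
    rw [act_siegel]
    exact hU s x
  subst hU'
  exact card_rootClass_mul hQ a₀ b₀ h₀

theorem uQI_tE01_mulVec (s : F) (x : Fin (m + 3) ⊕ Fin (m + 3) → F) :
    (((uQI (tE01 m s) : IG m F) : Matrix.GeneralLinearGroup (Fin (m + 3) ⊕ Fin (m + 3)) F) :
        Matrix (Fin (m + 3) ⊕ Fin (m + 3)) (Fin (m + 3) ⊕ Fin (m + 3)) F) *ᵥ x =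
      x + (s * polar (quadFormPlus (m + 3) F) (Pi.single (Sum.inl 1) 1) x) •
          (Pi.single (Sum.inl 0) 1 : Fin (m + 3) ⊕ Fin (m + 3) → F)
        - (s * polar (quadFormPlus (m + 3) F) (Pi.single (Sum.inl 0) 1) x) •
          (Pi.single (Sum.inl 1) 1 : Fin (m + 3) ⊕ Fin (m + 3) → F) := by
  rw [uQI_coe, ← coe_plusForm, polar_comm, PlusGeom.polar_single_inl,
    polar_comm _ (Pi.single (Sum.inl 0) 1), PlusGeom.polar_single_inl]
  rw [fromBlocks_mulVec, tE01_coe, E01_coe]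
  ext i
  rcases i with i | i
  · simp only [Sum.elim_inl, Pi.add_apply, one_mulVec, Function.comp_apply, smul_mulVec,
      sub_mulVec, Pi.smul_apply, Pi.sub_apply, smul_eq_mul]
    have h1 : ∀ (a b : Fin (m + 3)) (y : Fin (m + 3) → F),
        (single a b (1 : F) *ᵥ y) i = if i = a then y b else 0 := by
      intro a b y
      simp only [Matrix.mulVec, dotProduct, Matrix.single_apply]
      by_cases hia : i = a
      · subst hia
        simp
      · have : ∀ j, ¬ (a = i ∧ b = j) := fun j hj => hia hj.1.symm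
        simp [this, hia]
    rw [h1, h1]
    have e1 : (Pi.single (Sum.inl 0) 1 : Fin (m + 3) ⊕ Fin (m + 3) → F) (Sum.inl i) =
        if i = 0 then 1 else 0 := by
      rw [Pi.single_apply]
      simp
    have e2 : (Pi.single (Sum.inl 1) 1 : Fin (m + 3) ⊕ Fin (m + 3) → F) (Sum.inl i) =
        if i = 1 then 1 else 0 := by
      rw [Pi.single_apply]
      simp
    rw [e1, e2]
    simp only [Function.comp_apply]
    split_ifs <;> ring
  · simp

theorem isTS_e1_e0 : IsTS (plusForm (m + 3) F)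
    (Pi.single (Sum.inl 1) 1 : Fin (m + 3) ⊕ Fin (m + 3) → F) (Pi.single (Sum.inl 0) 1) := by
  refine ⟨PlusGeom.plus_single_inl _ _ _, PlusGeom.plus_single_inl _ _ _, ?_, ?_⟩
  · rw [PlusGeom.polar_single_inl]
    simp
  · intro s t hst
    have h0 := congrFun hst (Sum.inl 0)
    have h1 := congrFun hst (Sum.inl 1)
    have h10 : (1 : Fin (m + 3)) ≠ 0 := by
      intro h
      have := congrArg Fin.val h
      simp at this
    simp [Pi.single_apply, h10, h10.symm] at h0 h1
    exact ⟨h1, h0⟩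

/-- the long root elements of `Ω` are the conjugacy class of the isometry group -/
theorem card_Tall_eq :
    Nat.card {x : OG m F // x ∈ Tall m F} =
      Nat.card {x : IG m F // ∃ (o : IG m F) (s : F), s ≠ 0 ∧ x = o * uQI (tE01 m s) * o⁻¹} := by
  refine Nat.card_congr (Equiv.ofBijective (fun x => ⟨x.1.1, x.2⟩) ⟨?_, ?_⟩)
  · intro x y hxy
    apply Subtype.ext
    apply Subtype.ext
    have h := congrArg Subtype.val hxy
    exact h
  · rintro ⟨y, o, s, hs, rfl⟩
    have hmem : o * uQI (tE01 m s) * o⁻¹ ∈ Omega F (quadFormPlus (m + 3) F) :=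
      Subgroup.Normal.conj_mem inferInstance _ (uQI_mem _) o
    exact ⟨⟨⟨_, hmem⟩, ⟨o, s, hs, rfl⟩⟩, rfl⟩

theorem card_Tall (hm : 1 ≤ m) :
    Nat.card {x : OG m F // x ∈ Tall m F} * (Fintype.card F ^ 2 - 1) =
      (Fintype.card F ^ (m + 3) - 1) * (Fintype.card F ^ (m + 2) + 1) *
        (Fintype.card F ^ (m + 2) - 1) * (Fintype.card F ^ (m + 1) + 1) := by
  classical
  have key := card_class_aux (plusForm (m + 3) F) (PlusGeom.plus_nondegenerate _)
    (quadFormPlus (m + 3) F) (coe_plusForm _) _ _ isTS_e1_e0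
    (fun s => (uQI (tE01 m s) : IG m F)) (fun s x => uQI_tE01_mulVec s x)
  rw [← card_Tall_eq, Cfsg.Agent.Lib.Helper4.card_SL2] at key
  have hR : Nat.card {p : (Fin (m + 3) ⊕ Fin (m + 3) → F) × (Fin (m + 3) ⊕ Fin (m + 3) → F) //
      quadFormPlus (m + 3) F p.1 = 0 ∧ quadFormPlus (m + 3) F p.2 = 0 ∧
      polar (quadFormPlus (m + 3) F) p.1 p.2 = 0 ∧
      ∀ s t : F, s • p.1 + t • p.2 = 0 → s = 0 ∧ t = 0} = (tsPairs F (m + 3)).card := by
    apply Nat.subtype_card
    intro p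
    simp only [tsPairs, Finset.mem_filter, Finset.mem_univ, true_and]
  rw [hR] at key
  have hc := Cfsg.Agent.Lib.Helper8.OMP.card_tsPairs (F := F) (m + 1)
  have hc' : (tsPairs F (m + 3)).card =
      (Fintype.card F ^ (m + 3) - 1) * (Fintype.card F ^ (m + 2) + 1) *
        (Fintype.card F * ((Fintype.card F ^ (m + 2) - 1) * (Fintype.card F ^ (m + 1) + 1))) := hc
  rw [hc'] at key
  have hq : 0 < Fintype.card F := Fintype.card_pos
  apply Nat.eq_of_mul_eq_mul_left hq
  calc Fintype.card F * (Nat.card {x : OG m F // x ∈ Tall m F} * (Fintype.card F ^ 2 - 1))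
      = Nat.card {x : OG m F // x ∈ Tall m F} *
          (Fintype.card F * (Fintype.card F ^ 2 - 1)) := by ring
    _ = _ := key
    _ = _ := by ring

end Cfsg.Agent.Lib.Helper5.OMP
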