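import Mathlib
import Cfsg.Prelude
import Cfsg.Agent.Lib.Helper8.OMPDefs
import Cfsg.Agent.Lib.Helper5.OmegaSimple
import Cfsg.Agent.Lib.Helper5.PlusGeom
import Cfsg.Agent.Lib.Helper5.QuadStd
import Cfsg.Agent.S2613
import Cfsg.Agent.Lib.Helper6.SPEP
import Cfsg.Agent.Lib.Helper2.OMPP

set_option autoImplicit false
set_option linter.unusedSectionVars false
set_option linter.unusedVariables false

/-!
Farm OMP (statement S2345), unit N: a nontrivial character of the Siegel unipotent radical
`Q = {uQ A}` of `Ω⁺_{2n}(q)` occurs in every irreducible representation of degree at least two.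
-/

namespace Cfsg.Agent.Lib.Helper5.OMP

open Matrix Cfsg Cfsg.Agent.Lib.Helper1.MND Cfsg.Agent.Lib.Helper8.OMP Cfsg.Agent.Lib.Helper5
open Cfsg.Agent.Lib.Helper5.OmegaSimple
open Cfsg.Agent.Lib.Helper2.OMP (fourier_uQ)

section generic
variable {G : Type*} [Group G] {V : Type*} [AddCommGroup V] [Module ℂ V] [FiniteDimensional ℂ V]

/-- a trivial representation of degree at least two is not irreducible -/
theorem not_irreducible_of_trivial_omp (ρ : Representation ℂ G V) (hρ : ∀ g, ρ g = 1)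
    (hdim : 2 ≤ Module.finrank ℂ V) : ¬ ρ.IsIrreducible := by
  intro hirr
  have hpos : 0 < Module.finrank ℂ V := by omega
  obtain ⟨v, hv⟩ := Module.finrank_pos_iff_exists_ne_zero.1 hpos
  let U : Subrepresentation ρ := ⟨Submodule.span ℂ {v}, by
    intro g x hx
    rw [hρ g]
    exact hx⟩
  rcases hirr.eq_bot_or_eq_top U with hU | hU
  · have h1 : U.toSubmodule = ⊥ := by rw [hU]; rfl
    have : v ∈ (⊥ : Submodule ℂ V) := by
      rw [← h1]
      exact Submodule.mem_span_singleton_self v
    exact hv ((Submodule.mem_bot ℂ).1 this)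
  · have h1 : U.toSubmodule = ⊤ := by rw [hU]; rfl
    have h2 : Module.finrank ℂ (Submodule.span ℂ {v}) = 1 := finrank_span_singleton hv
    have h3 : Module.finrank ℂ (Submodule.span ℂ {v}) = Module.finrank ℂ V := by
      rw [show Submodule.span ℂ {v} = ⊤ from h1, finrank_top]
    omega

/-- an idempotent of full trace is the identity -/
theorem idem_eq_one_of_trace (e : Module.End ℂ V) (he : IsIdempotentElem e)
    (htr : LinearMap.trace ℂ V e = (Module.finrank ℂ V : ℂ)) : e = 1 := by
  have he' : IsIdempotentElem (1 - e) := he.one_sub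
  obtain ⟨r, hr, hr1⟩ := Cfsg.Agent.Lib.Helper6.SPE.trace_idem_nat (1 - e) he'
  have h0 : LinearMap.trace ℂ V (1 - e) = 0 := by
    rw [map_sub, htr, LinearMap.trace_one, sub_self]
  rw [h0] at hr
  have hr0 : r = 0 := by exact_mod_cast hr.symm
  by_contra hne
  have : 1 ≤ r := hr1 (fun h => hne (sub_eq_zero.1 h).symm)
  omega

end generic

variable {F : Type*} [Field F] [Fintype F] [DecidableEq F] {m : ℕ}

/-- transport of `OmegaSimple.normal_le_center_or_eq_top` along an equality of the form function -/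
theorem normal_aux {ι : Type} [Fintype ι] [DecidableEq ι] (Q : QuadraticForm F (ι → F))
    (H : Hyp Q) (f : (ι → F) → F) (hf : ⇑Q = f) (N : Subgroup ↥(Cfsg.Omega F f)) [N.Normal] :
    N ≤ Subgroup.center ↥(Cfsg.Omega F f) ∨ N = ⊤ := by
  subst hf
  exact normal_le_center_or_eq_top H N

/-- every normal subgroup of `Ω⁺_{2n}(q)`, `n ≥ 3`, is central or everything -/
theorem normal_le_center_or_eq_top_plus (n : ℕ) (hn : 3 ≤ n)
    (N : Subgroup ↥(Cfsg.Omega F (Cfsg.quadFormPlus n F))) [N.Normal] :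
    N ≤ Subgroup.center ↥(Cfsg.Omega F (Cfsg.quadFormPlus n F)) ∨ N = ⊤ := by
  have H : Hyp (plusForm n F) :=
    Hyp.of_hypFamily (PlusGeom.plus_nondegenerate n)
      (Cfsg.Agent.S2613.plus_hypFamily (le_refl n)) hn (by
        simp only [Fintype.card_sum, Fintype.card_fin]
        omega)
  exact normal_aux (plusForm n F) H (Cfsg.quadFormPlus n F) (coe_plusForm n) N

theorem E01_eq_elemAlt : E01 F m = elemAlt (0 : Fin (m + 3)) 1 (1 : F) := by
  apply Subtype.ext
  rw [E01_coe, elemAlt_coe]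

/-- `uQ E₀₁` is not central in `Ω` -/
theorem uQ_E01_not_central :
    (uQ (E01 F m) : OG m F) ∉ Subgroup.center (OG m F) := by
  intro hc
  have h2v : ((2 : Fin (m + 3)) : ℕ) = 2 := Fin.val_two
  have h20 : (2 : Fin (m + 3)) ≠ 0 := by
    intro h
    have := congrArg Fin.val h
    rw [h2v] at this
    simp at this
  have h21 : (2 : Fin (m + 3)) ≠ 1 := by
    intro h
    have := congrArg Fin.val h
    rw [h2v] at this
    simp at this
  have h01 : (0 : Fin (m + 3)) ≠ 1 := by
    intro h
    have := congrArg Fin.val h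
    simp at this
  have hcomm := (Subgroup.mem_center_iff.1 hc) (lev (tvE (2 : Fin (m + 3)) 0 h20))
  -- `lev g * uQ E * (lev g)⁻¹ = uQ E`
  have h1 : (lev (tvE (2 : Fin (m + 3)) 0 h20) : OG m F) * uQ (E01 F m) *
      (lev (tvE (2 : Fin (m + 3)) 0 h20))⁻¹ = uQ (E01 F m) := by
    rw [hcomm, mul_assoc, mul_inv_cancel, mul_one]
  rw [lev_conj_uQ] at h1
  have h2 := uQ_injective h1
  rw [E01_eq_elemAlt, conjAlt_tvE 2 1 0 h21 h20.symm h01 1] at h2
  have h3 : elemAlt (2 : Fin (m + 3)) 1 (1 : F) = 0 := by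
    have := congrArg (fun x => x - elemAlt (0 : Fin (m + 3)) 1 (1 : F)) h2
    simpa using this
  have h4 := congrArg (fun x : altAdd F (m + 3) => x.1 2 1) h3
  simp only [elemAlt_coe] at h4
  rw [Matrix.sub_apply, Matrix.single_apply_same, Matrix.single_apply_of_ne] at h4
  · simp at h4
  · intro h
    exact h21 h.1.symm

theorem exists_mB_ne_zero (ψ : AddChar F ℂ) (hψ : ∃ a, ψ a ≠ 1) {k : ℕ}
    (ρ : Representation ℂ (OG m F) (Fin k → ℂ)) (hρ : ρ.IsIrreducible) (hk : 2 ≤ k) :
    ∃ B : altAdd F (m + 3), B ≠ 0 ∧ mB ψ ρ.character B ≠ 0 := by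
  classical
  by_contra hcon
  push Not at hcon
  have hfin : Module.finrank ℂ (Fin k → ℂ) = k := by simp
  -- the character is constant on `Q`
  have hchar : ∀ A : altAdd F (m + 3), ρ.character (uQ A) = (k : ℂ) := by
    intro A
    have hA := fourier_uQ ψ hψ ρ.character A
    have h0 := fourier_uQ ψ hψ ρ.character (0 : altAdd F (m + 3))
    have e1 : ∀ A' : altAdd F (m + 3),
        ∑ B : altAdd F (m + 3), ψ (pairAlt B.1 A'.1) * mB ψ ρ.character B =
          mB ψ ρ.character 0 := by
      intro A'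
      rw [Finset.sum_eq_single_of_mem (0 : altAdd F (m + 3)) (Finset.mem_univ _)]
      · rw [show ((0 : altAdd F (m + 3)) : Matrix (Fin (m + 3)) (Fin (m + 3)) F) = 0 from rfl,
          pairAlt_zero_left, AddChar.map_zero_eq_one, one_mul]
      · intro B _ hB
        rw [hcon B hB, mul_zero]
    rw [e1] at hA h0
    rw [hA, ← h0, uQ_zero, Representation.char_one, hfin]
  -- the averaging idempotent of `Q`
  set e0 : Module.End ℂ (Fin k → ℂ) :=
    ((Fintype.card (altAdd F (m + 3)) : ℂ))⁻¹ • ∑ A : altAdd F (m + 3), ρ (uQ A) with he0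
  have hcard : (Fintype.card (altAdd F (m + 3)) : ℂ) ≠ 0 :=
    Nat.cast_ne_zero.2 Fintype.card_ne_zero
  have hmul : ∀ A0 : altAdd F (m + 3), ρ (uQ A0) * e0 = e0 := by
    intro A0
    rw [he0, mul_smul_comm, Finset.mul_sum]
    congr 1
    rw [← Equiv.sum_comp (Equiv.addLeft A0) (fun A => ρ (uQ A))]
    apply Finset.sum_congr rfl
    intro A _
    rw [← map_mul, ← uQ_add]
    rfl
  have hidem : IsIdempotentElem e0 := by
    show e0 * e0 = e0
    conv_lhs => rw [he0, smul_mul_assoc, Finset.sum_mul]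
    rw [Finset.sum_congr rfl (fun A _ => hmul A), Finset.sum_const, Finset.card_univ,
      ← Nat.cast_smul_eq_nsmul ℂ, smul_smul, inv_mul_cancel₀ hcard, one_smul]
  have htr : LinearMap.trace ℂ (Fin k → ℂ) e0 = (Module.finrank ℂ (Fin k → ℂ) : ℂ) := by
    rw [he0, map_smul, map_sum, hfin]
    have : ∀ A ∈ (Finset.univ : Finset (altAdd F (m + 3))),
        LinearMap.trace ℂ (Fin k → ℂ) (ρ (uQ A)) = (k : ℂ) := fun A _ => hchar A
    rw [Finset.sum_congr rfl this, Finset.sum_const, Finset.card_univ, smul_eq_mul,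
      nsmul_eq_mul, ← mul_assoc, inv_mul_cancel₀ hcard, one_mul]
  have hone : e0 = 1 := idem_eq_one_of_trace e0 hidem htr
  have hker : ∀ A : altAdd F (m + 3), ρ (uQ A) = 1 := by
    intro A
    have := hmul A
    rw [hone, mul_one] at this
    exact this
  have hmem : (uQ (E01 F m) : OG m F) ∈ MonoidHom.ker ρ := MonoidHom.mem_ker.2 (hker _)
  have htop : MonoidHom.ker ρ = ⊤ := by
    rcases normal_le_center_or_eq_top_plus (F := F) (m + 3) (by omega) (MonoidHom.ker ρ) with h | h
    · exact absurd (h hmem) uQ_E01_not_central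
    · exact h
  have htriv : ∀ g, ρ g = 1 := by
    intro g
    have : g ∈ MonoidHom.ker ρ := by rw [htop]; exact Subgroup.mem_top g
    exact MonoidHom.mem_ker.1 this
  exact not_irreducible_of_trivial_omp ρ htriv (by rw [hfin]; exact hk) hρ

end Cfsg.Agent.Lib.Helper5.OMP
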