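import Mathlib
import Cfsg.Prelude
import Cfsg.Agent.Lib.Helper5.OrthNondegMax

set_option autoImplicit false
set_option linter.unusedSectionVars false
set_option linter.unusedVariables false
open Cfsg

/-! The stabiliser of a non-singular point is a maximal subgroup of `Ω(Q)`. -/

namespace Cfsg.Agent.Lib.Helper5.OrthNonsingPoint

open Matrix QuadraticMap Module Cfsg.Agent.Lib.Helper5.CartanDieudonne Cfsg.Agent.Lib.Helper5.Refl
  Cfsg.Agent.Lib.Helper5.OrthCard Cfsg.Agent.Lib.Helper5.Siegel Cfsg.Agent.Lib.Helper5.QuadIsom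
  Cfsg.Agent.Lib.Helper5.ReflGen Cfsg.Agent.Lib.Helper5.Eichler Cfsg.Agent.Lib.Helper5.SingGeom
  Cfsg.Agent.Lib.Helper5.OmegaGen Cfsg.Agent.Lib.Helper5.OmegaSimple Cfsg.Agent.Lib.Helper5.MaxTS
  Cfsg.Agent.Lib.Helper5.SpSingularMax Cfsg.Agent.Lib.Helper5.OrthSingularMax
  Cfsg.Agent.Lib.Helper5.OrthPairMax Cfsg.Agent.Lib.Helper5.OrthNondegMax

variable {ι : Type} [Fintype ι] [DecidableEq ι] {F : Type*} [Field F] [Fintype F]
  {Q : QuadraticForm F (ι → F)} {M : Subgroup (Matrix.GeneralLinearGroup ι F)}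

/-- root elements with both parameters orthogonal to `v` fix `v` -/
theorem EG_mem_stab (H : Hyp Q) (v : ι → F) {u z : ι → F} (hQu : Q u = 0)
    (huz : polar ⇑Q u z = 0) (huv : polar ⇑Q u v = 0) (hzv : polar ⇑Q z v = 0) :
    ((EG Q u z : ↥(isometryGroup F ⇑Q)) : Matrix.GeneralLinearGroup ι F) ∈
      Cfsg.Geo.subspaceStabilizer (Submodule.span F ({v} : Set (ι → F))) ⊓
        Cfsg.Geo.omegaGL ⇑Q := by
  rw [Subgroup.mem_inf]
  refine ⟨mem_stab_of_map_le _ _ ?_, ?_⟩
  · intro x hx
    obtain ⟨c, rfl⟩ := Submodule.mem_span_singleton.mp hx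
    have e : (((EG Q u z : ↥(isometryGroup F ⇑Q)) : Matrix.GeneralLinearGroup ι F) :
        Matrix ι ι F) *ᵥ (c • v) = act Q (EG Q u z) (c • v) := rfl
    rw [e, act_EG Q u z hQu huz]
    simp only [polar_smul_right, huv, hzv, smul_zero, zero_smul, add_zero, mul_zero, neg_zero]
    exact hx
  · rw [EG_eq Q u z hQu huz]
    exact eich_mem_omegaGL H u z hQu huz

section main
variable (H : Hyp Q) (v : ι → F) (hv : Q v ≠ 0)
  (hKM : Cfsg.Geo.subspaceStabilizer (Submodule.span F ({v} : Set (ι → F))) ⊓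
    Cfsg.Geo.omegaGL ⇑Q ≤ M)

include H hKM in
theorem inE_of_perp {u z : ι → F} (hQu : Q u = 0)
    (huz : polar ⇑Q u z = 0) (huv : polar ⇑Q u v = 0) (hzv : polar ⇑Q z v = 0) :
    InE Q M u z := by
  refine ⟨hQu, huz, fun s => hKM (EG_mem_stab H v hQu ?_ huv ?_)⟩
  · rw [polar_smul_right, huz, smul_zero]
  · rw [polar_smul_left, hzv, smul_zero]

include H hKM in
theorem inE_of_perp' (g : ↥(isometryGroup F ⇑Q)) (hgM : (g : Matrix.GeneralLinearGroup ι F) ∈ M)
    {u z : ι → F} (hQu : Q u = 0)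
    (huz : polar ⇑Q u z = 0) (huv : polar ⇑Q u (act Q g v) = 0)
    (hzv : polar ⇑Q z (act Q g v) = 0) :
    InE Q M u z := by
  have h1 : InE Q M (act Q g⁻¹ u) (act Q g⁻¹ z) := by
    apply inE_of_perp H v hKM
    · rw [quad_act, hQu]
    · rw [polar_act, huz]
    · rw [← polar_act Q g, act_inv_act]
      exact huv
    · rw [← polar_act Q g, act_inv_act]
      exact hzv
  have h2 := inE_conj g hgM h1
  rwa [act_inv_act, act_inv_act] at h2

include H hKM in
/-- singular vectors orthogonal to `v` and `g v`, outside of their span, are centres -/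
theorem isCentre_of_perp (g : ↥(isometryGroup F ⇑Q))
    (hgM : (g : Matrix.GeneralLinearGroup ι F) ∈ M) {u : ι → F} (hQu : Q u = 0)
    (huv : polar ⇑Q u v = 0) (huv' : polar ⇑Q u (act Q g v) = 0)
    (hni : v ∉ Submodule.span F ({u, act Q g v} : Set (ι → F))) : IsCentre Q M u := by
  obtain ⟨t, htv, htp⟩ := dual_vec H.nondeg _ hni
  have htu : polar ⇑Q u t = 0 := htp u (Submodule.subset_span (by simp))
  have htv' : polar ⇑Q (act Q g v) t = 0 := htp _ (Submodule.subset_span (by simp))
  apply isCentre_of_inE_all hQu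
  intro z huz
  have h1 : InE Q M u (z - (polar ⇑Q z v * (polar ⇑Q v t)⁻¹) • t) := by
    apply inE_of_perp H v hKM hQu
    · rw [polar_sub_right, polar_smul_right, huz, htu, smul_zero, sub_zero]
    · exact huv
    · rw [polar_sub_left, polar_smul_left, smul_eq_mul, polar_comm (⇑Q) t v, mul_assoc,
        inv_mul_cancel₀ htv, mul_one, sub_self]
  have h2 : InE Q M u t := by
    apply inE_of_perp' H v hKM g hgM hQu htu huv'
    rw [polar_comm]
    exact htv'
  have h3 := inE_add h1 (inE_smul_right (polar ⇑Q z v * (polar ⇑Q v t)⁻¹) h2)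
  rwa [sub_add_cancel] at h3

include H hKM in
/-- an element of `M` moving the point makes every singular vector a centre -/
theorem all_centres (hn : 7 ≤ finrank F (ι → F)) (hv : Q v ≠ 0) (g : ↥(isometryGroup F ⇑Q))
    (hgM : (g : Matrix.GeneralLinearGroup ι F) ∈ M)
    (hg : act Q g v ∉ Submodule.span F ({v} : Set (ι → F))) :
    ∀ x, Q x = 0 → IsCentre Q M x := by
  have hQ := H.nondeg
  have hv0 : v ≠ 0 := by
    rintro rfl
    exact hv (map_zero Q)
  have hvv' : v ∉ Submodule.span F ({act Q g v} : Set (ι → F)) := by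
    intro hmem
    obtain ⟨c, hc⟩ := Submodule.mem_span_singleton.mp hmem
    have hc0 : c ≠ 0 := by
      rintro rfl
      rw [zero_smul] at hc
      exact hv0 hc.symm
    apply hg
    rw [Submodule.mem_span_singleton]
    refine ⟨c⁻¹, ?_⟩
    have h0 : c⁻¹ • (c • act Q g v) = act Q g v := by
      rw [smul_smul, inv_mul_cancel₀ hc0, one_smul]
    rw [hc] at h0
    exact h0
  -- the centre criterion
  have key : ∀ u u' : ι → F, Q u = 0 → polar ⇑Q v u = 0 → polar ⇑Q (act Q g v) u = 0 →
      polar ⇑Q v u' = 0 → polar ⇑Q (act Q g v) u' = 0 → polar ⇑Q u u' ≠ 0 → IsCentre Q M u := by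
    intro u u' hQu huv huv' hu'v hu'v' huu'
    apply isCentre_of_perp H v hKM g hgM hQu (by rw [polar_comm]; exact huv)
      (by rw [polar_comm]; exact huv')
    intro hmem
    obtain ⟨α, β, hab⟩ := Submodule.mem_span_pair.mp hmem
    have e1 : polar ⇑Q v u' = α * polar ⇑Q u u' := by
      conv_lhs => rw [← hab]
      rw [polar_add_left, polar_smul_left, polar_smul_left, hu'v', smul_zero, add_zero,
        smul_eq_mul]
    rw [hu'v] at e1
    have hα : α = 0 := by
      rcases mul_eq_zero.mp e1.symm with h0 | h0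
      · exact h0
      · exact absurd h0 huu'
    rw [hα, zero_smul, zero_add] at hab
    apply hvv'
    rw [Submodule.mem_span_singleton]
    exact ⟨β, hab⟩
  obtain ⟨w₁, hw₁v, hw₁p⟩ := dual_vec hQ _ hvv'
  obtain ⟨w₂, hw₂v, hw₂p⟩ := dual_vec hQ _ hg
  have hw₁v' : polar ⇑Q (act Q g v) w₁ = 0 := hw₁p _ (Submodule.mem_span_singleton_self _)
  have hw₂v' : polar ⇑Q v w₂ = 0 := hw₂p _ (Submodule.mem_span_singleton_self _)
  have h1 := finrank_orth Q hQ (Submodule.span F ({v, act Q g v} : Set (ι → F)))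
  have h2 := finrank_span_pair_le (F := F) v (act Q g v)
  have h3 := finrank_inf_orth hQ (MaxTS.orth Q (Submodule.span F ({v, act Q g v} : Set (ι → F))))
    (Submodule.span F ({w₁, w₂} : Set (ι → F)))
  have h4 := finrank_span_pair_le (F := F) w₁ w₂
  obtain ⟨a, haS, ha0, hQa⟩ := exists_singular_in Q
    (MaxTS.orth Q (Submodule.span F ({v, act Q g v} : Set (ι → F))) ⊓
      MaxTS.orth Q (Submodule.span F ({w₁, w₂} : Set (ι → F)))) (by omega)
  have hav : polar ⇑Q v a = 0 := (mem_orth Q _ a).mp haS.1 v (Submodule.subset_span (by simp))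
  have hav' : polar ⇑Q (act Q g v) a = 0 :=
    (mem_orth Q _ a).mp haS.1 _ (Submodule.subset_span (by simp))
  have haw₁ : polar ⇑Q w₁ a = 0 := (mem_orth Q _ a).mp haS.2 _ (Submodule.subset_span (by simp))
  have haw₂ : polar ⇑Q w₂ a = 0 := (mem_orth Q _ a).mp haS.2 _ (Submodule.subset_span (by simp))
  have hanot : a ∉ Submodule.span F ({v, act Q g v} : Set (ι → F)) := by
    intro hmem
    obtain ⟨α, β, hab⟩ := Submodule.mem_span_pair.mp hmem
    have e1 : polar ⇑Q a w₁ = α * polar ⇑Q v w₁ := by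
      conv_lhs => rw [← hab]
      rw [polar_add_left, polar_smul_left, polar_smul_left, hw₁v', smul_zero, add_zero,
        smul_eq_mul]
    have e2 : polar ⇑Q a w₂ = β * polar ⇑Q (act Q g v) w₂ := by
      conv_lhs => rw [← hab]
      rw [polar_add_left, polar_smul_left, polar_smul_left, hw₂v', smul_zero, zero_add,
        smul_eq_mul]
    rw [polar_comm, haw₁] at e1
    rw [polar_comm, haw₂] at e2
    have hα : α = 0 := by
      rcases mul_eq_zero.mp e1.symm with h0 | h0
      · exact h0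
      · exact absurd h0 hw₁v
    have hβ : β = 0 := by
      rcases mul_eq_zero.mp e2.symm with h0 | h0
      · exact h0
      · exact absurd h0 hw₂v
    rw [hα, hβ, zero_smul, zero_smul, add_zero] at hab
    exact ha0 hab.symm
  obtain ⟨y, hay, hyp⟩ := dual_vec hQ _ hanot
  have hyv : polar ⇑Q v y = 0 := hyp v (Submodule.subset_span (by simp))
  have hyv' : polar ⇑Q (act Q g v) y = 0 := hyp _ (Submodule.subset_span (by simp))
  have hQs : Q (y + (-(Q y) * (polar ⇑Q a y)⁻¹) • a) = 0 := by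
    rw [quad_add', QuadraticMap.map_smul, hQa, polar_smul_right, polar_comm (⇑Q) y a, smul_zero,
      add_zero, smul_eq_mul, mul_assoc, inv_mul_cancel₀ hay, mul_one, add_neg_cancel]
  have has : polar ⇑Q a (y + (-(Q y) * (polar ⇑Q a y)⁻¹) • a) = polar ⇑Q a y := by
    rw [polar_add_right, polar_smul_right, polar_self_of_sing Q a hQa, smul_zero, add_zero]
  have hsv : polar ⇑Q v (y + (-(Q y) * (polar ⇑Q a y)⁻¹) • a) = 0 := by
    rw [polar_add_right, polar_smul_right, hyv, hav, smul_zero, add_zero]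
  have hsv' : polar ⇑Q (act Q g v) (y + (-(Q y) * (polar ⇑Q a y)⁻¹) • a) = 0 := by
    rw [polar_add_right, polar_smul_right, hyv', hav', smul_zero, add_zero]
  have hCa : IsCentre Q M a := key a _ hQa hav hav' hsv hsv' (by rw [has]; exact hay)
  have hCs : IsCentre Q M (y + (-(Q y) * (polar ⇑Q a y)⁻¹) • a) :=
    key _ a hQs hsv hsv' hav hav' (by rw [polar_comm, has]; exact hay)
  exact all_of_two H hCa hCs (by rw [has]; exact hay)

end main

/-- The stabiliser of a non-singular point is maximal in `Ω(Q)`. -/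
theorem isMaximalIn (H : Hyp Q) (hn : 7 ≤ finrank F (ι → F)) (v : ι → F) (hv : Q v ≠ 0) :
    Cfsg.Geo.IsMaximalIn (Cfsg.Geo.omegaGL ⇑Q)
      (Cfsg.Geo.subspaceStabilizer (Submodule.span F ({v} : Set (ι → F))) ⊓
        Cfsg.Geo.omegaGL ⇑Q) := by
  have hQ := H.nondeg
  have hv0 : v ≠ 0 := by
    rintro rfl
    exact hv (map_zero Q)
  refine ⟨lt_of_le_of_ne inf_le_right ?_, ?_⟩
  · intro heq
    have h1 := finrank_orth Q hQ (Submodule.span F ({v} : Set (ι → F)))
    have h3 : finrank F (Submodule.span F ({v} : Set (ι → F))) ≤ 1 := by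
      have := finrank_span_le_card (R := F) ({v} : Set (ι → F))
      simpa using this
    obtain ⟨u, huS, hu0, hQu⟩ := exists_singular_in Q
      (MaxTS.orth Q (Submodule.span F ({v} : Set (ι → F)))) (by omega)
    have hvu' : polar ⇑Q v u = 0 :=
      (mem_orth Q _ u).mp huS v (Submodule.mem_span_singleton_self v)
    have huv : polar ⇑Q u v = 0 := by rw [polar_comm]; exact hvu'
    have hvu : v ∉ Submodule.span F ({u} : Set (ι → F)) := by
      intro hmem
      obtain ⟨c, rfl⟩ := Submodule.mem_span_singleton.mp hmem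
      apply hv
      rw [QuadraticMap.map_smul, hQu, smul_zero]
    obtain ⟨z, hQz, huz, hzv⟩ := exists_singular_perp_not_perp Q hQ H.finrank5 u v hu0 hvu
    have hmem : ((eich Q u z hQu huz : ↥(isometryGroup F ⇑Q)) : Matrix.GeneralLinearGroup ι F) ∈
        Cfsg.Geo.subspaceStabilizer (Submodule.span F ({v} : Set (ι → F))) ⊓
          Cfsg.Geo.omegaGL ⇑Q := by
      rw [heq]
      exact eich_mem_omegaGL H u z hQu huz
    have h4 := ((mem_stab_iff _ _).mp hmem.1 v).mp (Submodule.mem_span_singleton_self v)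
    have e1 : (((eich Q u z hQu huz : ↥(isometryGroup F ⇑Q)) : Matrix.GeneralLinearGroup ι F) :
        Matrix ι ι F) *ᵥ v = eichlerMap Q u z v := act_eich Q u z hQu huz v
    rw [e1, eichlerMap_apply, huv, zero_smul, add_zero, mul_zero, add_zero] at h4
    obtain ⟨c, hc⟩ := Submodule.mem_span_singleton.mp h4
    have e2 : (c - 1) • v = (-(polar ⇑Q z v)) • u := by
      rw [sub_smul, one_smul, hc]
      abel
    have e3 := congrArg (⇑Q) e2
    rw [QuadraticMap.map_smul, QuadraticMap.map_smul, hQu, smul_zero, smul_eq_mul] at e3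
    have hc1 : c - 1 = 0 := by
      rcases mul_eq_zero.mp e3 with h0 | h0
      · exact mul_self_eq_zero.mp h0
      · exact absurd h0 hv
    rw [hc1, zero_smul] at e2
    rcases smul_eq_zero.mp e2.symm with h0 | h0
    · exact hzv (neg_eq_zero.mp h0)
    · exact hu0 h0
  · intro M hKM hMS
    by_cases hMK : M ≤ Cfsg.Geo.subspaceStabilizer (Submodule.span F ({v} : Set (ι → F))) ⊓
        Cfsg.Geo.omegaGL ⇑Q
    · left
      exact le_antisymm hMK hKM
    right
    apply le_antisymm hMS
    apply omegaGL_le H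
    obtain ⟨g₀, hgM, hgK⟩ := SetLike.not_le_iff_exists.mp hMK
    obtain ⟨g, -, rfl⟩ := (mem_omegaGL_iff Q g₀).mp (hMS hgM)
    have hg : (g : Matrix.GeneralLinearGroup ι F) ∉
        Cfsg.Geo.subspaceStabilizer (Submodule.span F ({v} : Set (ι → F))) :=
      fun h' => hgK ⟨h', hMS hgM⟩
    apply all_centres H v hKM hn hv g hgM
    intro hmem
    apply hg
    apply mem_stab_of_map_le
    intro x hx
    obtain ⟨c, rfl⟩ := Submodule.mem_span_singleton.mp hx
    have e : ((g : Matrix.GeneralLinearGroup ι F) : Matrix ι ι F) *ᵥ (c • v) =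
        c • act Q g v := by
      rw [← act_smul]
    rw [e]
    exact Submodule.smul_mem _ c hmem

end Cfsg.Agent.Lib.Helper5.OrthNonsingPoint
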