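import Mathlib

set_option autoImplicit false
set_option linter.unusedSectionVars false
set_option linter.unusedVariables false
set_option linter.unusedSimpArgs false

/-! Elements of order three in `SL_3(4)`: they are diagonalisable with eigenvalues `1, ω, ω²`. -/

namespace Cfsg.Agent.Lib.Helper5.PSL34

open Matrix Polynomial

section cayley
variable {F : Type*} [Field F]

/-- Cayley–Hamilton for `3 × 3` matrices, with the evaluation of the characteristic polynomial -/
theorem cayley3 (g : Matrix (Fin 3) (Fin 3) F) :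
    ∃ a b : F, g ^ 3 + a • g ^ 2 + b • g - g.det • 1 = 0 ∧
      ∀ t : F, (scalar (Fin 3) t - g).det = t ^ 3 + a * t ^ 2 + b * t - g.det := by
  have hdeg : g.charpoly.natDegree = 3 := by simp [charpoly_natDegree_eq_dim g]
  have hmonic : g.charpoly.coeff 3 = 1 := by
    have := (charpoly_monic g).coeff_natDegree
    rwa [hdeg] at this
  have h0 : g.charpoly.coeff 0 = - g.det := by
    rw [det_eq_sign_charpoly_coeff, Fintype.card_fin]
    ring
  refine ⟨g.charpoly.coeff 2, g.charpoly.coeff 1, ?_, ?_⟩
  · have hCH := aeval_self_charpoly g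
    rw [aeval_eq_sum_range' (n := 4) (by omega)] at hCH
    simp only [Finset.sum_range_succ, Finset.sum_range_zero, zero_add, pow_zero, pow_one, hmonic,
      h0, one_smul] at hCH
    rw [← hCH]
    module
  · intro t
    rw [← eval_charpoly, eval_eq_sum_range' (n := 4) (by omega)]
    simp only [Finset.sum_range_succ, Finset.sum_range_zero, zero_add, pow_zero, pow_one, hmonic,
      h0]
    ring

end cayley

section field
variable {F : Type*} [Field F] [Fintype F] (hF : Fintype.card F = 4)

include hF in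
theorem charTwo : CharP F 2 := by
  have h4 : (4 : F) = 0 := by
    have := Nat.cast_card_eq_zero F
    rw [hF] at this
    exact_mod_cast this
  have h2 : (2 : F) = 0 := by
    have : (2 : F) * 2 = 0 := by rw [← h4]; norm_num
    exact mul_self_eq_zero.mp this
  exact CharTwo.of_one_ne_zero_of_two_eq_zero one_ne_zero h2

include hF in
theorem cube (a : F) (ha : a ≠ 0) : a ^ 3 = 1 := by
  have := FiniteField.pow_card_sub_one_eq_one a ha
  rw [hF] at this
  simpa using this

include hF in
theorem omega_sum (ω : F) (h0 : ω ≠ 0) (h1 : ω ≠ 1) : 1 + ω + ω ^ 2 = 0 := by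
  have h3 := cube hF ω h0
  have : (ω - 1) * (1 + ω + ω ^ 2) = 0 := by linear_combination h3
  exact (mul_eq_zero.mp this).resolve_left (sub_ne_zero.mpr h1)

include hF in
/-- a matrix of determinant one whose cube is scalar has cube one -/
theorem cube_scalar (g : Matrix (Fin 3) (Fin 3) F) (hdet : g.det = 1) (ζ : F)
    (hg : g ^ 3 = ζ • 1) : ζ = 1 := by
  have hchar := charTwo hF
  have hζ3 : ζ ^ 3 = 1 := by
    have := congrArg Matrix.det hg
    rw [det_pow, hdet, one_pow, det_smul, det_one, Fintype.card_fin, mul_one] at this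
    exact this.symm
  have hζ0 : ζ ≠ 0 := by
    rintro rfl
    simp at hζ3
  have hscal : ∀ s : F, g = s • 1 → ζ = 1 := by
    intro s hs
    have hs0 : s ≠ 0 := by
      rintro rfl
      rw [zero_smul] at hs
      rw [hs, det_zero] at hdet
      exact zero_ne_one hdet
    have h3 : s ^ 3 = ζ := by
      rw [hs, _root_.smul_pow, one_pow] at hg
      have := congrFun (congrFun hg 0) 0
      simpa using this
    rw [← h3, cube hF s hs0]
  obtain ⟨a, b, hCH, -⟩ := cayley3 g
  rw [hdet, hg] at hCH
  by_cases ha : a = 0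
  · by_cases hb : b = 0
    · subst ha hb
      have h1 : (ζ - 1) • (1 : Matrix (Fin 3) (Fin 3) F) = 0 := by rw [← hCH]; module
      have := congrFun (congrFun h1 0) 0
      simp at this
      exact sub_eq_zero.mp this
    · apply hscal ((1 - ζ) / b)
      subst ha
      have h1 : b • g = (1 - ζ) • 1 := by
        have : b • g - (1 - ζ) • 1 = 0 := by rw [← hCH]; module
        exact sub_eq_zero.mp this
      rw [div_eq_inv_mul, mul_smul, ← h1, smul_smul, inv_mul_cancel₀ hb, one_smul]
  · set β : F := -b / a with hβ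
    set γ : F := (1 - ζ) / a with hγ
    have h2 : g ^ 2 = β • g + γ • 1 := by
      have h1 : a • g ^ 2 = (-b) • g + (1 - ζ) • 1 := by
        have : a • g ^ 2 - ((-b) • g + (1 - ζ) • 1) = 0 := by rw [← hCH]; module
        exact sub_eq_zero.mp this
      have : g ^ 2 = a⁻¹ • (a • g ^ 2) := by rw [smul_smul, inv_mul_cancel₀ ha, one_smul]
      rw [this, h1, hβ, hγ, smul_add, smul_smul, smul_smul]
      congr 2 <;> field_simp
    have h3 : g ^ 3 = (β ^ 2 + γ) • g + (β * γ) • 1 := by
      rw [pow_succ, h2, add_mul, smul_mul_assoc, ← pow_two, h2, smul_mul_assoc, one_mul]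
      module
    rw [hg] at h3
    by_cases hd : β ^ 2 + γ = 0
    · rw [hd, zero_smul, zero_add] at h3
      have h4 : ζ = β * γ := by
        have := congrFun (congrFun h3 0) 0
        simpa using this
      have hγ' : γ = -β ^ 2 := by linear_combination hd
      have hβ0 : β ≠ 0 := by
        rintro h
        rw [h, zero_mul] at h4
        exact hζ0 h4
      rw [h4, hγ', CharTwo.neg_eq, ← pow_succ']
      exact cube hF β hβ0
    · apply hscal ((ζ - β * γ) / (β ^ 2 + γ))
      have h5 : (β ^ 2 + γ) • g = (ζ - β * γ) • 1 := by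
        have : (β ^ 2 + γ) • g - (ζ - β * γ) • 1 = 0 := by
          have h6 : ζ • (1 : Matrix (Fin 3) (Fin 3) F) - ((β ^ 2 + γ) • g + (β * γ) • 1) = 0 :=
            sub_eq_zero.mpr h3
          rw [← neg_eq_zero, ← h6]
          module
        exact sub_eq_zero.mp this
      rw [div_eq_inv_mul, mul_smul, ← h5, smul_smul, inv_mul_cancel₀ hd, one_smul]

end field

section diag
variable {F : Type*} [Field F] [Fintype F] (hF : Fintype.card F = 4)

include hF in
/-- a non-scalar element of determinant one and cube one has every nonzero scalar as an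
eigenvalue -/
theorem exists_eigen (g : Matrix (Fin 3) (Fin 3) F) (hdet : g.det = 1) (hg : g ^ 3 = 1)
    (hns : ∀ s : F, g ≠ s • 1) (l : F) (hl : l ≠ 0) :
    ∃ x : Fin 3 → F, x ≠ 0 ∧ g *ᵥ x = l • x := by
  have hchar := charTwo hF
  obtain ⟨a, b, hCH, heval⟩ := cayley3 g
  rw [hdet, hg] at hCH
  have hab : a • g ^ 2 + b • g = 0 := by rw [← hCH]; module
  have hg4 : g ^ 4 = g := by rw [pow_succ, hg, one_mul]
  have hab' : a • g + b • 1 = 0 := by
    have := congrArg (· * g ^ 2) hab
    simp only [add_mul, smul_mul_assoc, zero_mul, ← pow_add, ← pow_succ'] at this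
    rw [show 2 + 2 = 4 from rfl, show 2 + 1 = 3 from rfl, hg4, hg] at this
    exact this
  have ha : a = 0 := by
    by_contra ha
    apply hns (-b / a)
    have h1 : a • g = (-b) • 1 := by
      have : a • g - (-b) • 1 = 0 := by rw [← hab']; module
      exact sub_eq_zero.mp this
    rw [div_eq_inv_mul, mul_smul, ← h1, smul_smul, inv_mul_cancel₀ ha, one_smul]
  have hb : b = 0 := by
    rw [ha, zero_smul, zero_add] at hab'
    have := congrFun (congrFun hab' 0) 0
    simpa using this
  have hdet0 : (scalar (Fin 3) l - g).det = 0 := by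
    rw [heval, ha, hb, hdet, cube hF l hl]
    ring
  obtain ⟨v, hv0, hv⟩ := exists_mulVec_eq_zero_iff.mpr hdet0
  refine ⟨v, hv0, ?_⟩
  rw [sub_mulVec] at hv
  have h2 : scalar (Fin 3) l *ᵥ v = l • v := by
    rw [scalar_apply, ← smul_one_eq_diagonal, smul_mulVec, one_mulVec]
  rw [h2] at hv
  exact (sub_eq_zero.mp hv).symm

/-- the standard element of order three -/
def dmat (ω : F) : Matrix (Fin 3) (Fin 3) F := diagonal ![1, ω, ω ^ 2]

include hF in
theorem dvec_injective (ω : F) (h0 : ω ≠ 0) (h1 : ω ≠ 1) :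
    Function.Injective ![(1 : F), ω, ω ^ 2] := by
  have hchar := charTwo hF
  have hsum := omega_sum hF ω h0 h1
  have h02 : (1 : F) ≠ ω ^ 2 := by
    intro h
    rw [← h] at hsum
    apply h0
    have h11 : (1 : F) + 1 = 0 := CharTwo.add_self_eq_zero 1
    linear_combination hsum - h11
  have h12 : ω ≠ ω ^ 2 := by
    intro h
    apply h1
    have : ω * (ω - 1) = 0 := by linear_combination -h
    exact sub_eq_zero.mp ((mul_eq_zero.mp this).resolve_left h0)
  intro i j hij
  fin_cases i <;> fin_cases j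
  · rfl
  · exact absurd hij (Ne.symm h1)
  · exact absurd hij h02
  · exact absurd hij h1
  · rfl
  · exact absurd hij h12
  · exact absurd hij (Ne.symm h02)
  · exact absurd hij (Ne.symm h12)
  · rfl

include hF in
/-- diagonalisation of the non-scalar elements of determinant one and cube one -/
theorem exists_diag (g : Matrix (Fin 3) (Fin 3) F) (hdet : g.det = 1) (hg : g ^ 3 = 1)
    (hns : ∀ s : F, g ≠ s • 1) (ω : F) (h0 : ω ≠ 0) (h1 : ω ≠ 1) :
    ∃ P : Matrix (Fin 3) (Fin 3) F, P.det = 1 ∧ g * P = P * dmat ω := by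
  obtain ⟨x0, hx0, e0⟩ := exists_eigen hF g hdet hg hns 1 one_ne_zero
  obtain ⟨x1, hx1, e1⟩ := exists_eigen hF g hdet hg hns ω h0
  obtain ⟨x2, hx2, e2⟩ := exists_eigen hF g hdet hg hns (ω ^ 2) (pow_ne_zero _ h0)
  have hvec : ∀ i : Fin 3, Module.End.HasEigenvector (toLin' g) (![(1 : F), ω, ω ^ 2] i)
      (![x0, x1, x2] i) := by
    intro i
    fin_cases i
    · exact ⟨Module.End.mem_eigenspace_iff.mpr (by rw [toLin'_apply]; exact e0), hx0⟩
    · exact ⟨Module.End.mem_eigenspace_iff.mpr (by rw [toLin'_apply]; exact e1), hx1⟩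
    · exact ⟨Module.End.mem_eigenspace_iff.mpr (by rw [toLin'_apply]; exact e2), hx2⟩
  have hli : LinearIndependent F ![x0, x1, x2] :=
    Module.End.eigenvectors_linearIndependent' (toLin' g) _ (dvec_injective hF ω h0 h1) _ hvec
  have hunit : IsUnit (Matrix.of ![x0, x1, x2]) := linearIndependent_rows_iff_isUnit.mp hli
  have hd : (Matrix.of ![x0, x1, x2]).det ≠ 0 := by
    have := (isUnit_iff_isUnit_det _).mp hunit
    exact this.ne_zero
  set d : F := (Matrix.of ![x0, x1, x2]).det with hddef
  refine ⟨(Matrix.of ![d⁻¹ • x0, x1, x2])ᵀ, ?_, ?_⟩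
  · rw [det_transpose]
    have : (Matrix.of ![d⁻¹ • x0, x1, x2]).det = d⁻¹ * d := by
      rw [hddef, det_fin_three, det_fin_three]
      simp only [of_apply, cons_val_zero, cons_val_one, cons_val_two, Pi.smul_apply, smul_eq_mul,
        head_cons, tail_cons]
      ring
    rw [this, inv_mul_cancel₀ hd]
  · unfold dmat
    ext i j
    rw [mul_diagonal, mul_apply]
    fin_cases j
    · have := congrFun e0 i
      simp only [mulVec, dotProduct, one_smul] at this
      show ∑ k, g i k * (d⁻¹ • x0) k = (d⁻¹ • x0) i * 1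
      simp only [Pi.smul_apply, smul_eq_mul, mul_one]
      rw [← this, Finset.mul_sum]
      exact Finset.sum_congr rfl fun k _ => by ring
    · have := congrFun e1 i
      simp only [mulVec, dotProduct, Pi.smul_apply, smul_eq_mul] at this
      show ∑ k, g i k * x1 k = x1 i * ω
      rw [mul_comm (x1 i), ← this]
    · have := congrFun e2 i
      simp only [mulVec, dotProduct, Pi.smul_apply, smul_eq_mul] at this
      show ∑ k, g i k * x2 k = x2 i * ω ^ 2
      rw [mul_comm (x2 i), ← this]

end diag

section sl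
variable {F : Type*} [Field F] [Fintype F] (hF : Fintype.card F = 4)

/-- the standard element of order three in `SL_3` -/
def dSL (ω : F) (h3 : ω ^ 3 = 1) : Matrix.SpecialLinearGroup (Fin 3) F :=
  ⟨dmat ω, by
    unfold dmat
    rw [det_diagonal, Fin.prod_univ_three]
    simp only [cons_val_zero, cons_val_one, cons_val_two, head_cons, tail_cons]
    linear_combination h3⟩

omit [Fintype F] in
theorem dSL_coe (ω : F) (h3 : ω ^ 3 = 1) :
    ((dSL ω h3 : Matrix.SpecialLinearGroup (Fin 3) F) : Matrix (Fin 3) (Fin 3) F) = dmat ω := rfl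

include hF in
/-- an element of `SL_3(4)` whose cube is central has cube one -/
theorem center_cube (g : Matrix.SpecialLinearGroup (Fin 3) F)
    (hg : g ^ 3 ∈ Subgroup.center (Matrix.SpecialLinearGroup (Fin 3) F)) : g ^ 3 = 1 := by
  obtain ⟨r, hr, hrg⟩ := Matrix.SpecialLinearGroup.mem_center_iff.mp hg
  have h1 : (g : Matrix (Fin 3) (Fin 3) F) ^ 3 = r • 1 := by
    rw [← Matrix.SpecialLinearGroup.coe_pow, ← hrg, scalar_apply, ← smul_one_eq_diagonal]
  have hr1 : r = 1 := cube_scalar hF _ g.2 r h1
  apply Subtype.ext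
  rw [Matrix.SpecialLinearGroup.coe_pow, h1, hr1, one_smul]
  rfl

omit [Fintype F] in
theorem not_scalar (g : Matrix.SpecialLinearGroup (Fin 3) F)
    (hg : g ∉ Subgroup.center (Matrix.SpecialLinearGroup (Fin 3) F)) (s : F) :
    (g : Matrix (Fin 3) (Fin 3) F) ≠ s • 1 := by
  intro h
  apply hg
  rw [Matrix.SpecialLinearGroup.mem_center_iff]
  refine ⟨s, ?_, ?_⟩
  · have := g.2
    rw [h, det_smul, det_one, Fintype.card_fin, mul_one] at this
    rw [Fintype.card_fin]
    exact this
  · rw [h, scalar_apply, ← smul_one_eq_diagonal]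

include hF in
/-- every non-central element of cube one is conjugate to the standard one -/
theorem isConj_dSL (g : Matrix.SpecialLinearGroup (Fin 3) F) (hg3 : g ^ 3 = 1)
    (hgc : g ∉ Subgroup.center (Matrix.SpecialLinearGroup (Fin 3) F)) (ω : F) (h0 : ω ≠ 0)
    (h1 : ω ≠ 1) (h3 : ω ^ 3 = 1) : IsConj (dSL ω h3) g := by
  have hg3' : (g : Matrix (Fin 3) (Fin 3) F) ^ 3 = 1 := by
    rw [← Matrix.SpecialLinearGroup.coe_pow, hg3]
    rfl
  obtain ⟨P, hP, hgP⟩ := exists_diag hF _ g.2 hg3' (not_scalar g hgc) ω h0 h1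
  obtain ⟨Ps, hPs⟩ : ∃ Ps : Matrix.SpecialLinearGroup (Fin 3) F,
      (Ps : Matrix (Fin 3) (Fin 3) F) = P := ⟨⟨P, hP⟩, rfl⟩
  rw [isConj_iff]
  refine ⟨Ps, ?_⟩
  rw [mul_inv_eq_iff_eq_mul]
  apply Subtype.ext
  show (Ps : Matrix (Fin 3) (Fin 3) F) * dmat ω = (g : Matrix (Fin 3) (Fin 3) F) * Ps
  rw [hPs, hgP]

include hF in
/-- the elements of `SL_3(4)` commuting with the standard element of order three have cube one -/
theorem cube_of_commute (ω : F) (h0 : ω ≠ 0) (h1 : ω ≠ 1) (h3 : ω ^ 3 = 1)
    (M : Matrix.SpecialLinearGroup (Fin 3) F) (hM : M * dSL ω h3 = dSL ω h3 * M) : M ^ 3 = 1 := by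
  set A : Matrix (Fin 3) (Fin 3) F := (M : Matrix (Fin 3) (Fin 3) F) with hA
  have hcomm : A * dmat ω = dmat ω * A := by
    exact congrArg Subtype.val hM
  have hinj := dvec_injective hF ω h0 h1
  have hoff : ∀ i j : Fin 3, i ≠ j → A i j = 0 := by
    intro i j hij
    have := congrFun (congrFun hcomm i) j
    unfold dmat at this
    rw [mul_diagonal, diagonal_mul] at this
    have h2 : (![(1 : F), ω, ω ^ 2] j - ![(1 : F), ω, ω ^ 2] i) * A i j = 0 := by
      linear_combination this
    rcases mul_eq_zero.mp h2 with h | h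
    · exact absurd (hinj (sub_eq_zero.mp h)) (Ne.symm hij)
    · exact h
  have hdiag : A = diagonal (fun i => A i i) := by
    ext i j
    by_cases hij : i = j
    · subst hij; simp
    · rw [hoff i j hij, diagonal_apply_ne _ hij]
  have hdet : (∏ i, A i i) = 1 := by
    have := M.2
    rw [← hA, hdiag, det_diagonal] at this
    exact this
  have hne : ∀ i, A i i ≠ 0 := by
    intro i hi
    have h0' : ∏ k, A k k = 0 := Finset.prod_eq_zero (f := fun k => A k k) (Finset.mem_univ i) hi
    rw [h0'] at hdet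
    exact zero_ne_one hdet
  apply Subtype.ext
  rw [Matrix.SpecialLinearGroup.coe_pow, ← hA, hdiag, diagonal_pow]
  show diagonal _ = (1 : Matrix (Fin 3) (Fin 3) F)
  rw [← diagonal_one]
  congr 1
  funext i
  exact cube hF (A i i) (hne i)

include hF in
theorem exists_omega : ∃ ω : F, ω ≠ 0 ∧ ω ≠ 1 ∧ ω ^ 3 = 1 := by
  classical
  obtain ⟨ω, hω⟩ : ∃ ω : F, ω ∉ ({0, 1} : Finset F) := by
    by_contra h
    push Not at h
    have hsub : (Finset.univ : Finset F) ⊆ {0, 1} := fun x _ => h x
    have := Finset.card_le_card hsub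
    rw [Finset.card_univ, hF] at this
    have h2 : ({0, 1} : Finset F).card ≤ 2 := Finset.card_le_two
    omega
  simp only [Finset.mem_insert, Finset.mem_singleton, not_or] at hω
  exact ⟨ω, hω.1, hω.2, cube hF ω hω.1⟩

end sl

end Cfsg.Agent.Lib.Helper5.PSL34
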