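import Mathlib
import Cfsg.Agent.Lib.Helper2.PSLkDefs
import Cfsg.Agent.Lib.Helper2.SLkMain
import Cfsg.Agent.Lib.Helper5.PSLkCtr

/-!
# S2480 piece P6b duplicate (canonical copy: Lib/Helper2/PSLkInvSum `sum_inv_le`); renamed h5dup_sum_inv_le
-/

set_option autoImplicit false
set_option linter.unusedVariables false
set_option linter.unusedSectionVars false
set_option linter.style.longLine false
set_option linter.style.haveILetI false

namespace Cfsg.Agent.Lib.Helper2.GLk

open Polynomial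

universe u v

variable {F : Type u} [Field F]

open Classical in
theorem h5dup_sum_inv_le [Fintype F] {n t n' : ℕ} (ht : 1 ≤ t) (hn : n = t * n') (ζ : Fˣ) (hζ : orderOf ζ = t) :
    (Fintype.card F - 1) * ∑ f ∈ (TF F n).filter (fun f => ddet f = 1 ∧ ∀ j, scl ζ (f j) = f j),
        Gam (Fintype.card F) f ≤
      ∑ g ∈ TF F n', (Gam (Fintype.card F) g) ^ 2 := by
  set S := (TF F n).filter (fun f => ddet f = 1 ∧ ∀ j, scl ζ (f j) = f j) with hS
  set b0 : F := (-1) ^ ((t - 1) * n') with hb0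
  have hb0sq : b0 * b0 = 1 := by
    rw [hb0, ← pow_add, ← two_mul, pow_mul]
    simp
  have hprops : ∀ f ∈ S, ctr t n' f ∈ T F n' n' ∧ gsz (ctr t n' f) = gsz f ∧
      ddet f = b0 * ddet (ctr t n' f) ∧
      (∀ j : Fin n, f j = if h : j.val < n' then expand F t (ctr t n' f ⟨j.val, h⟩) else 1) := by
    intro f hfS
    rw [hS, Finset.mem_filter, mem_TF] at hfS
    exact ctr_props ht hn ζ hζ f hfS.1 hfS.2.2
  have hinj : ∀ f ∈ S, ∀ f' ∈ S, ctr t n' f = ctr t n' f' → f = f' := by
    intro f hf f' hf' heq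
    funext j
    rw [(hprops f hf).2.2.2 j, (hprops f' hf').2.2.2 j, heq]
  have hsum1 : ∑ f ∈ S, Gam (Fintype.card F) f =
      ∑ g ∈ S.image (ctr t n'), Gam (Fintype.card F) g := by
    rw [Finset.sum_image (fun f hf f' hf' heq => hinj f (Finset.mem_coe.mp hf) f' (Finset.mem_coe.mp hf') heq)]
    apply Finset.sum_congr rfl
    intro f hf
    unfold Gam
    rw [(hprops f hf).2.1]
  have hsub : S.image (ctr t n') ⊆ (TF F n').filter (fun g => ddet g = b0) := by
    intro g hg
    rw [Finset.mem_image] at hg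
    obtain ⟨f, hf, rfl⟩ := hg
    rw [Finset.mem_filter, mem_TF]
    refine ⟨(hprops f hf).1, ?_⟩
    have h1 : ddet f = 1 := (Finset.mem_filter.mp hf).2.1
    have h2 := (hprops f hf).2.2.1
    rw [h1] at h2
    calc ddet (ctr t n' f) = (b0 * b0) * ddet (ctr t n' f) := by rw [hb0sq, one_mul]
      _ = b0 * (b0 * ddet (ctr t n' f)) := by ring
      _ = b0 := by rw [← h2, mul_one]
  have key := sum_Gam_le_gen (F := F) n' b0
  calc (Fintype.card F - 1) * ∑ f ∈ S, Gam (Fintype.card F) f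
      = (Fintype.card F - 1) * ∑ g ∈ S.image (ctr t n'), Gam (Fintype.card F) g := by rw [hsum1]
    _ ≤ (Fintype.card F - 1) * ∑ g ∈ (TF F n').filter (fun g => ddet g = b0), Gam (Fintype.card F) g :=
        Nat.mul_le_mul_left _ (Finset.sum_le_sum_of_subset hsub)
    _ ≤ ∑ g ∈ TF F n', (Gam (Fintype.card F) g) ^ 2 := key

end Cfsg.Agent.Lib.Helper2.GLk
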