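import Mathlib
import Cfsg.Prelude
import Cfsg.Agent.Lib.Helper5.PermMod
import Cfsg.Agent.Lib.Helper5.PermO4m
import Cfsg.Agent.Lib.Helper5.SympCard

set_option autoImplicit false
open Cfsg

/-! `Sp_4(2) ≅ S_6` via the even-weight vectors modulo the all-ones vector. -/

namespace Cfsg.Agent.Lib.Helper5.PermSp4

open Matrix Cfsg.Agent.Lib.Helper5.PermMod

variable {F : Type*} [Field F]

/-- index type of the symplectic space -/
abbrev I4 : Type := Fin 2 ⊕ Fin 2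

/-- the embedding of the four-dimensional space into the even-weight vectors -/
def E6 (v : I4 → F) : Fin 6 → F :=
  ![v (.inl 0), v (.inl 0) + v (.inr 0), v (.inr 0),
    v (.inl 1), v (.inl 1) + v (.inr 1), v (.inr 1)]

theorem E6_add (u v : I4 → F) : E6 (u + v) = E6 u + E6 v := by
  funext i
  fin_cases i <;> simp [E6] <;> ring

theorem E6_smul (c : F) (v : I4 → F) : E6 (c • v) = (RingHom.id F) c • E6 v := by
  funext i
  fin_cases i <;> simp [E6] <;> ring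

theorem E6_inj (_h2 : (2 : F) = 0) (v : I4 → F) (h : E6 v ∈ ones F 6) : v = 0 := by
  obtain ⟨c, hc⟩ := (mem_ones _).mp h
  have h0 := congrFun hc 0
  have h1 := congrFun hc 1
  have h2' := congrFun hc 2
  have h3 := congrFun hc 3
  have h5 := congrFun hc 5
  simp [E6] at h0 h1 h2' h3 h5
  have hc0 : c = 0 := by linear_combination h1 - h0 - h2'
  rw [hc0] at h0 h2' h3 h5
  funext i
  rcases i with i | i
  · fin_cases i
    · exact h0
    · exact h3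
  · fin_cases i
    · exact h2'
    · exact h5

theorem sum_E6 (h2 : (2 : F) = 0) (v : I4 → F) : ∑ i, E6 v i = 0 := by
  simp only [Fin.sum_univ_six, E6, Matrix.cons_val_zero, Matrix.cons_val_one, Matrix.cons_val]
  linear_combination (v (.inl 0) + v (.inr 0) + v (.inl 1) + v (.inr 1)) * h2

theorem exists_E6 (h2 : (2 : F) = 0) (u : Fin 6 → F) (hu : ∑ i, u i = 0) :
    ∃ v, u - E6 v ∈ ones F 6 := by
  obtain ⟨c, hc⟩ : ∃ c : F, c = u 0 + u 1 + u 2 := ⟨_, rfl⟩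
  refine ⟨Sum.elim ![u 0 - c, u 3 - c] ![u 2 - c, u 5 - c], ?_⟩
  rw [mem_ones]
  refine ⟨c, ?_⟩
  rw [Fin.sum_univ_six] at hu
  funext i
  subst hc
  fin_cases i <;> simp [E6]
  all_goals first
    | ring1
    | linear_combination u 1 * h2
    | linear_combination hu - (u 3 + u 5) * h2

theorem dot_E6 (h2 : (2 : F) = 0) (v v' : I4 → F) :
    E6 v ⬝ᵥ E6 v' = v ⬝ᵥ (Matrix.J (Fin 2) F *ᵥ v') := by
  simp only [dotProduct, Fin.sum_univ_six, E6, Matrix.cons_val_zero, Matrix.cons_val_one,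
    Matrix.cons_val, Fintype.sum_sum_type, Fin.sum_univ_two, Matrix.J, Matrix.mulVec,
    Matrix.fromBlocks_apply₁₁, Matrix.fromBlocks_apply₁₂, Matrix.fromBlocks_apply₂₁,
    Matrix.fromBlocks_apply₂₂, Matrix.zero_apply, Matrix.neg_apply, Matrix.one_apply]
  simp
  linear_combination (v (.inl 0) * v' (.inl 0) + v (.inr 0) * v' (.inr 0) +
    v (.inl 1) * v' (.inl 1) + v (.inr 1) * v' (.inr 1) + v (.inl 0) * v' (.inr 0) +
    v (.inl 1) * v' (.inr 1)) * h2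

theorem dot_ones (h2 : (2 : F) = 0) (u u' x x' : Fin 6 → F) (hu : ∑ i, u i = 0)
    (hu' : ∑ i, u' i = 0) (hx : x ∈ ones F 6) (hx' : x' ∈ ones F 6) :
    (u - x) ⬝ᵥ (u' - x') = u ⬝ᵥ u' := by
  obtain ⟨c, rfl⟩ := (mem_ones _).mp hx
  obtain ⟨c', rfl⟩ := (mem_ones _).mp hx'
  rw [Fin.sum_univ_six] at hu hu'
  simp only [dotProduct, Fin.sum_univ_six, Pi.sub_apply]
  linear_combination (-c') * hu - c * hu' + 3 * c * c' * h2

theorem stab_E6 (h2 : (2 : F) = 0) (π : Equiv.Perm (Fin 6)) (v : I4 → F) :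
    ∃ v', phi F 6 π *ᵥ E6 v - E6 v' ∈ ones F 6 := by
  apply exists_E6 h2
  rw [phi_mulVec, sum_comp]
  exact sum_E6 h2 v

/-- the representation of `S_6` on the four-dimensional space -/
noncomputable def rho (h2 : (2 : F) = 0) : Equiv.Perm (Fin 6) →* Matrix I4 I4 F :=
  Cfsg.Agent.Lib.Helper5.Descent2.descHom (RingHom.id F) E6 (ones F 6) E6_add E6_smul
    (E6_inj h2) (phi F 6) (phi_mem (ones F 6) le_rfl) (stab_E6 h2)

theorem E6_rho (h2 : (2 : F) = 0) (π : Equiv.Perm (Fin 6)) (v : I4 → F) :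
    E6 v ∘ ⇑π⁻¹ - E6 (rho h2 π *ᵥ v) ∈ ones F 6 := by
  have := Cfsg.Agent.Lib.Helper5.Descent2.E_descHom (RingHom.id F) E6 (ones F 6) E6_add E6_smul
    (E6_inj h2) (phi F 6) (phi_mem (ones F 6) le_rfl) (stab_E6 h2) π v
  rwa [phi_mulVec] at this

theorem form_rho (h2 : (2 : F) = 0) (π : Equiv.Perm (Fin 6)) (v v' : I4 → F) :
    (rho h2 π *ᵥ v) ⬝ᵥ (Matrix.J (Fin 2) F *ᵥ (rho h2 π *ᵥ v')) =
      v ⬝ᵥ (Matrix.J (Fin 2) F *ᵥ v') := by
  rw [← dot_E6 h2, ← dot_E6 h2]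
  have h1 := E6_rho h2 π v
  have h1' := E6_rho h2 π v'
  have e1 : E6 (rho h2 π *ᵥ v) = E6 v ∘ ⇑π⁻¹ - (E6 v ∘ ⇑π⁻¹ - E6 (rho h2 π *ᵥ v)) := by abel
  have e1' : E6 (rho h2 π *ᵥ v') = E6 v' ∘ ⇑π⁻¹ - (E6 v' ∘ ⇑π⁻¹ - E6 (rho h2 π *ᵥ v')) := by
    abel
  rw [e1, e1', dot_ones h2 _ _ _ _ _ _ h1 h1', dot_comp]
  · rw [sum_comp]; exact sum_E6 h2 v
  · rw [sum_comp]; exact sum_E6 h2 v'

theorem matrix_eq_of_bilin {ι : Type*} [Fintype ι] [DecidableEq ι] (M M' : Matrix ι ι F)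
    (h : ∀ v v' : ι → F, v ⬝ᵥ (M *ᵥ v') = v ⬝ᵥ (M' *ᵥ v')) : M = M' := by
  ext i k
  have := h (Pi.single i 1) (Pi.single k 1)
  simpa [Matrix.mulVec_single_one, single_dotProduct] using this

theorem rho_mem (h2 : (2 : F) = 0) (π : Equiv.Perm (Fin 6)) :
    rho h2 π ∈ Matrix.symplecticGroup (Fin 2) F := by
  rw [SymplecticGroup.mem_iff']
  apply matrix_eq_of_bilin
  intro v v'
  rw [← form_rho h2 π v v', ← Matrix.mulVec_mulVec, ← Matrix.mulVec_mulVec,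
    Matrix.dotProduct_mulVec, Matrix.vecMul_transpose]

/-- the homomorphism `S_6 → Sp_4(2)` -/
noncomputable def tau (h2 : (2 : F) = 0) : Equiv.Perm (Fin 6) →*
    ↥(Matrix.symplecticGroup (Fin 2) F) :=
  (rho h2).codRestrict (Matrix.symplecticGroup (Fin 2) F) (rho_mem h2)

theorem tau_injective (h2 : (2 : F) = 0) : Function.Injective (tau (F := F) h2) := by
  rw [injective_iff_map_eq_one]
  intro π hπ
  have h1 : rho h2 π = 1 := congrArg Subtype.val hπ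
  apply eq_one_of_fix (F := F) (by norm_num : 5 ≤ 6)
  intro u hu
  obtain ⟨v, hv⟩ := exists_E6 h2 u hu
  have h3 := E6_rho h2 π v
  rw [h1, Matrix.one_mulVec] at h3
  have h4 := comp_mem_ones π⁻¹ _ hv
  have h5 : u ∘ ⇑π⁻¹ - u = (E6 v ∘ ⇑π⁻¹ - E6 v) + ((u - E6 v) ∘ ⇑π⁻¹ - (u - E6 v)) := by
    funext i
    simp only [Pi.sub_apply, Function.comp_apply, Pi.add_apply]
    ring
  rw [h5]
  exact Submodule.add_mem _ h3 (Submodule.sub_mem _ h4 hv)

end Cfsg.Agent.Lib.Helper5.PermSp4
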