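import Mathlib
import Cfsg.Prelude
import Cfsg.Agent.Lib.Helper5.ClassParity

set_option autoImplicit false
set_option linter.unusedSectionVars false
set_option linter.unusedVariables false
open Cfsg

/-! The two classes of maximal totally singular subspaces of the standard hyperbolic form. -/

namespace Cfsg.Agent.Lib.Helper5.PlusClass

open Matrix QuadraticMap Module Cfsg.Agent.Lib.Helper5.CartanDieudonne Cfsg.Agent.Lib.Helper5.Refl
  Cfsg.Agent.Lib.Helper5.MaxTS Cfsg.Agent.Lib.Helper5.OrthParity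
  Cfsg.Agent.Lib.Helper5.SpinorNorm Cfsg.Agent.Lib.Helper5.ClassParity
  Cfsg.Agent.Lib.Helper5.Dickson Cfsg.Agent.Lib.Helper5.OmegaCrit Cfsg.Agent.Lib.Helper5.PlusGeom
  Cfsg.Agent.Lib.Helper5

variable {F : Type*} [Field F] [Fintype F] (m : ℕ)

theorem stdKer_eq :
    LinearMap.ker (LinearMap.funLeft F F (Sum.inr : Fin m → Fin m ⊕ Fin m)) = stdL m := by
  classical
  apply le_antisymm
  · intro v hv
    rw [LinearMap.mem_ker] at hv
    have hv' : ∀ i : Fin m, v (Sum.inr i) = 0 := fun i => congrFun hv i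
    have e : v = ∑ i : Fin m, v (Sum.inl i) • (Pi.single (Sum.inl i) 1 : Fin m ⊕ Fin m → F) := by
      ext j
      rw [Finset.sum_apply]
      rcases j with j | j
      · simp [Pi.single_apply]
      · simp [hv' j]
    rw [e]
    apply Submodule.sum_mem
    intro i _
    exact Submodule.smul_mem _ _ (Submodule.subset_span ⟨i, rfl⟩)
  · intro v hv
    rw [LinearMap.mem_ker]
    ext i
    exact stdL_inr m v hv i

theorem finrank_plus : finrank F (Fin m ⊕ Fin m → F) = 2 * m := by
  rw [Module.finrank_fintype_fun_eq_card, Fintype.card_sum, Fintype.card_fin, two_mul]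

/-- class preservation is the parity of a reflection factorisation -/
theorem even_iff_len (g : ↥(isometryGroup F ⇑(plusForm m F))) (vs : List (Fin m ⊕ Fin m → F))
    (hvs : IsRep (plusForm m F) g vs) :
    Even (m - finrank F ↥(LinearMap.ker (LinearMap.funLeft F F
        (Sum.inr : Fin m → Fin m ⊕ Fin m)) ⊓
      (LinearMap.ker (LinearMap.funLeft F F (Sum.inr : Fin m → Fin m ⊕ Fin m))).map
        (Matrix.mulVecLin ((g : Matrix.GeneralLinearGroup (Fin m ⊕ Fin m) F) :
          Matrix (Fin m ⊕ Fin m) (Fin m ⊕ Fin m) F)))) ↔ Even vs.length := by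
  rw [stdKer_eq]
  exact even_dist_iff (plusForm m F) (plus_nondegenerate m) m (finrank_plus m) (stdL m)
    (stdL_max m) g vs hvs

/-- odd characteristic: the class stabiliser is `SO` -/
theorem even_iff_det (h2 : (2 : F) ≠ 0) :
    ∀ g : ↥(isometryGroup F ⇑(plusForm m F)),
    Even (m - finrank F ↥(LinearMap.ker (LinearMap.funLeft F F
        (Sum.inr : Fin m → Fin m ⊕ Fin m)) ⊓
      (LinearMap.ker (LinearMap.funLeft F F (Sum.inr : Fin m → Fin m ⊕ Fin m))).map
        (Matrix.mulVecLin ((g : Matrix.GeneralLinearGroup (Fin m ⊕ Fin m) F) :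
          Matrix (Fin m ⊕ Fin m) (Fin m ⊕ Fin m) F)))) ↔
      ((g : Matrix.GeneralLinearGroup (Fin m ⊕ Fin m) F) :
          Matrix (Fin m ⊕ Fin m) (Fin m ⊕ Fin m) F).det = 1 := by
  intro g
  obtain ⟨vs, hvs⟩ := exists_rep (plusForm m F) h2 (plus_nondegenerate m) g
  rw [even_iff_len m g vs hvs, hvs.2, rprod_det (plusForm m F) vs hvs.1]
  constructor
  · intro h
    exact h.neg_one_pow
  · intro h
    by_contra hodd
    rw [Nat.not_even_iff_odd] at hodd
    rw [hodd.neg_one_pow] at h
    apply h2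
    have : (2 : F) = 1 - (-1) := by ring
    rw [this, h, sub_self]

/-- characteristic two: the class stabiliser is `Ω` -/
theorem even_iff_mem_Omega (h2 : (2 : F) = 0)
    (hex : Fintype.card (Fin m ⊕ Fin m) = 4 → ∃ a : F, a ≠ 0 ∧ a ≠ 1) :
    ∀ g : ↥(isometryGroup F ⇑(plusForm m F)),
    Even (m - finrank F ↥(LinearMap.ker (LinearMap.funLeft F F
        (Sum.inr : Fin m → Fin m ⊕ Fin m)) ⊓
      (LinearMap.ker (LinearMap.funLeft F F (Sum.inr : Fin m → Fin m ⊕ Fin m))).map
        (Matrix.mulVecLin ((g : Matrix.GeneralLinearGroup (Fin m ⊕ Fin m) F) :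
          Matrix (Fin m ⊕ Fin m) (Fin m ⊕ Fin m) F)))) ↔
      g ∈ Omega F ⇑(plusForm m F) := by
  intro g
  obtain ⟨vs, hvs⟩ := exists_rep' (plusForm m F) (plus_nondegenerate m) hex g
  rw [even_iff_len m g vs hvs, mem_Omega_iff_par (plusForm m F) h2 (plus_nondegenerate m) hex,
    par_eq (plusForm m F) (plus_nondegenerate m) hex g vs hvs, neg_one_pow_eq_one_iff]

omit [Fintype F] in
theorem exists_ne_of_card [Fintype F] (h : Fintype.card F ≠ 2) : ∃ a : F, a ≠ 0 ∧ a ≠ 1 := by
  classical
  by_contra hcon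
  push Not at hcon
  apply h
  apply le_antisymm
  · have hsub : (Finset.univ : Finset F) ⊆ {0, 1} := by
      intro a _
      by_cases ha : a = 0
      · rw [ha]; simp
      · rw [hcon a ha]; simp
    have := Finset.card_le_card hsub
    rw [Finset.card_univ] at this
    exact this.trans Finset.card_le_two
  · exact Fintype.one_lt_card

end Cfsg.Agent.Lib.Helper5.PlusClass
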