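import Mathlib
import Cfsg.Agent.Lib.Helper5.Ext9Q8

set_option autoImplicit false

/-! A group with a quotient isomorphic to `Q₈` does not have a complemented subgroup lattice. -/

namespace Cfsg.Agent.Lib.Helper5.QuatQuotLattice

open Cfsg.Agent.Lib.Helper5.Ext9Q8

theorem a_one_notMem : (QuaternionGroup.a 1 : QuaternionGroup 2) ∉
    Subgroup.zpowers (QuaternionGroup.a 2 : QuaternionGroup 2) := by
  intro h
  obtain ⟨k, hk⟩ := Subgroup.mem_zpowers_iff.mp h
  have h2 : (QuaternionGroup.a 2 : QuaternionGroup 2) ^ (2 : ℤ) = 1 := by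
    rw [zpow_ofNat]
    decide
  have h3 : ((QuaternionGroup.a 2 : QuaternionGroup 2) ^ k) ^ (2 : ℤ) = 1 := by
    rw [← zpow_mul, mul_comm k 2, zpow_mul, h2, one_zpow]
  rw [hk, zpow_ofNat] at h3
  revert h3
  decide

theorem a_two_ne_one : (QuaternionGroup.a 2 : QuaternionGroup 2) ≠ 1 := by decide

theorem not_complemented {G : Type*} [Group G] (φ : G →* QuaternionGroup 2)
    (hφ : Function.Surjective φ) : ¬ ComplementedLattice (Subgroup G) := by
  intro hc
  obtain ⟨X, hX⟩ := hc.exists_isCompl
    ((Subgroup.zpowers (QuaternionGroup.a 2 : QuaternionGroup 2)).comap φ)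
  have hdis := disjoint_iff.mp hX.1
  have hcod := codisjoint_iff.mp hX.2
  have key : ∀ x ∈ X, φ x ∈ Subgroup.zpowers (QuaternionGroup.a 2 : QuaternionGroup 2) → x = 1 := by
    intro x hx hφx
    have : x ∈ (Subgroup.zpowers (QuaternionGroup.a 2 : QuaternionGroup 2)).comap φ ⊓ X :=
      ⟨hφx, hx⟩
    rw [hdis] at this
    exact Subgroup.mem_bot.mp this
  have hXbot : X = ⊥ := by
    rw [Subgroup.eq_bot_iff_forall]
    intro x hx
    by_contra hx1
    have hy1 : φ x ≠ 1 := by
      intro h
      apply hx1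
      apply key x hx
      rw [h]
      exact one_mem _
    rcases quat_aux (φ x) hy1 with h | h
    · apply hx1
      apply key x hx
      rw [h]
      exact Subgroup.mem_zpowers _
    · have h1 := key (x ^ 2) (pow_mem hx 2) (by
        rw [map_pow, h]
        exact Subgroup.mem_zpowers _)
      rw [← map_pow, h1, map_one] at h
      exact a_two_ne_one h.symm
  rw [hXbot, sup_bot_eq] at hcod
  obtain ⟨g, hg⟩ := hφ (QuaternionGroup.a 1)
  have : g ∈ (Subgroup.zpowers (QuaternionGroup.a 2 : QuaternionGroup 2)).comap φ := by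
    rw [hcod]
    exact Subgroup.mem_top g
  rw [Subgroup.mem_comap, hg] at this
  exact a_one_notMem this

end Cfsg.Agent.Lib.Helper5.QuatQuotLattice
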