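import Mathlib
import Cfsg.Agent.Lib.Helper3.RIBasic
import Cfsg.Agent.Lib.Helper3.RIG1
import Cfsg.Agent.Lib.Helper9.RIK1
import Cfsg.Agent.Lib.Helper4.RIBlock
import Cfsg.Agent.Lib.Helper8.RIBoot

set_option autoImplicit false
set_option maxHeartbeats 4000000
set_option maxRecDepth 100000
set_option linter.unusedVariables false
set_option linter.unusedSectionVars false
set_option linter.style.longLine false

/-! Root involutions, S5047, piece P5: existence of `x ∈ A_a ∩ V_b` odd to `b a`. -/

namespace Cfsg.Agent.Lib.Helper5.RI47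

open Cfsg Cfsg.Agent.Lib.Helper3.RootInv

universe u

variable {G : Type u} [Group G] {D : Set G}

/-- twins have the same commuting members -/
theorem sameCommuting_of_twin [Finite G] (hD : IsRootInvolutionSet D) (hc : IsConnectedSet (OddAdj D) D)
    {a b : G} (ha : a ∈ D) (hb : b ∈ twinClass D a) : b ∈ sameCommutingClass D a := by
  refine ⟨hb.1, ?_⟩
  ext w
  constructor
  · rintro ⟨hwD, hw⟩
    refine ⟨hwD, ?_⟩
    have h1 : w ∈ setNorm (twinClass D a) := mem_setNorm_of_comm hD (mem_twinClass_self ha) hw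
    exact setNorm_centralizes hD hc ha hwD h1 hb
  · rintro ⟨hwD, hw⟩
    refine ⟨hwD, ?_⟩
    have h1 : w ∈ setNorm (twinClass D a) := mem_setNorm_of_comm hD hb hw
    exact setNorm_centralizes hD hc ha hwD h1 (mem_twinClass_self ha)

theorem exists_x [Finite G] (hD : IsRootInvolutionSet D) (hc : IsConnectedSet (OddAdj D) D) {a b : G}
    (ha : a ∈ D) (hb : b ∈ productPartners D a) (hbE : b ∉ sameCommutingClass D a) :
    ∃ x ∈ D, OddAdj D a x ∧ orderOf (b * x) = 4 ∧ Odd (orderOf (b * a * x)) := by
  obtain ⟨⟨hbD, hba, hne⟩, hbaD⟩ := hb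
  -- the odd partners differ
  have hneq : oddPartners D a ≠ oddPartners D b := by
    intro heq
    exact hbE (sameCommuting_of_twin hD hc ha ⟨hbD, heq⟩)
  have hex : ∃ x ∈ oddPartners D a, x ∉ oddPartners D b := by
    by_contra hcon
    push Not at hcon
    have hsub : oddPartners D a ⊆ oddPartners D b := hcon
    have hcard := ncard_oddPartners hD hc ha hbD
    exact hneq (Set.eq_of_subset_of_ncard_le hsub hcard.symm.le (Set.toFinite _))
  obtain ⟨x, hxa, hxb⟩ := hex
  have hax : OddAdj D a x := (mem_oddPartners_iff ha).1 hxa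
  have hxD : x ∈ D := hax.2.1
  have hnbx : ¬ OddAdj D b x := fun h => hxb ((mem_oddPartners_iff hbD).2 h)
  have hxa' : OddAdj D x a := oddAdj_symm hax
  refine ⟨x, hxD, hax, ?_, ?_⟩
  · rcases tri hD hbD hxD with h | h | h
    · exact absurd hxa' (g1 hD hbD ha hba hbaD hxD h.symm)
    · exact absurd h hnbx
    · exact h
  · have hbx4 : orderOf (b * x) = 4 := by
      rcases tri hD hbD hxD with h | h | h
      · exact absurd hxa' (g1 hD hbD ha hba hbaD hxD h.symm)
      · exact absurd h hnbx
      · exact h
    have aa := sq_one hD ha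
    rcases tri hD hbaD hxD with h | h | h
    · exfalso
      have huv : b * a * a = a * (b * a) := by
        rw [← mul_assoc, ← hba]
      have hp : b * a * a ∈ D := by
        rw [mul_assoc, aa, mul_one]; exact hbD
      exact g1 hD hbaD ha huv hp hxD h.symm hxa'
    · exact h.2.2.2
    · exfalso
      have h1 : orderOf (x * b) = 4 := by rw [orderOf_mul_comm']; exact hbx4
      have h2 : orderOf (x * (b * a)) = 4 := by rw [orderOf_mul_comm']; exact h
      exact k1 hD hbD ha hba hbaD hxD h1 h2 hxa'

end Cfsg.Agent.Lib.Helper5.RI47
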