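import Mathlib
import Cfsg.Agent.Lib.Helper3.RIBasic
import Cfsg.Agent.Lib.Helper3.RIG1
import Cfsg.Agent.Lib.Helper9.RIK1
import Cfsg.Agent.Lib.Helper4.RIBlock
import Cfsg.Agent.Lib.Helper8.RIBoot
import Cfsg.Agent.Lib.Helper9.RI47N

set_option autoImplicit false
set_option maxHeartbeats 4000000
set_option maxRecDepth 100000
set_option linter.unusedVariables false
set_option linter.unusedSectionVars false
set_option linter.style.longLine false

/-! Root involutions, S5047, piece P7: two applications of `exists_n` give an `S4`. -/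

namespace Cfsg.Agent.Lib.Helper5.RI47

open Cfsg Cfsg.Agent.Lib.Helper3.RootInv

universe u

variable {G : Type u} [Group G] {D : Set G}

/-- from `(a z)^2 = b` with `z` an involution: `a z a = b z` -/
theorem conj_of_sq {a z b : G} (zz : z * z = 1) (h : (a * z) ^ 2 = b) : a * z * a = b * z := by
  have h1 : a * z * a = (a * z) ^ 2 * z := by
    rw [pow_two]
    calc a * z * a = a * z * a * (z * z) := by rw [zz, mul_one]
      _ = a * z * (a * z) * z := by simp only [mul_assoc]
  rw [h1, h]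

theorem conj_pow_two' (ρ b : G) : ρ ^ 2 * b * (ρ ^ 2)⁻¹ = ρ * (ρ * b * ρ⁻¹) * ρ⁻¹ := by
  rw [pow_two, mul_inv_rev]; simp only [mul_assoc]

theorem conj_pow_three' (ρ b : G) :
    ρ ^ 3 * b * (ρ ^ 3)⁻¹ = ρ * (ρ * (ρ * b * ρ⁻¹) * ρ⁻¹) * ρ⁻¹ := by
  rw [pow_succ, pow_two, mul_inv_rev, mul_inv_rev]; simp only [mul_assoc]

theorem conj_pow_four' (ρ b : G) :
    ρ ^ 4 * b * (ρ ^ 4)⁻¹ = ρ * (ρ ^ 3 * b * (ρ ^ 3)⁻¹) * ρ⁻¹ := by
  rw [pow_succ' ρ 3, mul_inv_rev]; simp only [mul_assoc]

theorem conj_mul' (ρ b z : G) : ρ * (b * z) * ρ⁻¹ = (ρ * b * ρ⁻¹) * (ρ * z * ρ⁻¹) := by group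

theorem comm_of_conj' {g b : G} (h : g * b * g⁻¹ = b) : g * b = b * g := by
  calc g * b = (g * b * g⁻¹) * g := by group
    _ = b * g := by rw [h]

theorem main [Finite G] (hD : IsRootInvolutionSet D) (hc : IsConnectedSet (OddAdj D) D) {a b : G}
    (ha : a ∈ D) (hb : b ∈ productPartners D a) (hbE : b ∉ sameCommutingClass D a) :
    ∃ x ∈ fourPartners D b, orderOf (a * x) = 3 := by
  obtain ⟨z, hzD, hzb, hz2⟩ := exists_n hD hc ha hb hbE
  obtain ⟨⟨hbD, hba, hne⟩, hbaD⟩ := hb
  have aa := sq_one hD ha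
  have bb := sq_one hD hbD
  have zz := sq_one hD hzD
  have hb1 : b ≠ 1 := ne_one hD hbD
  have hz1 : z ≠ 1 := ne_one hD hzD
  have hab : a * b = b * a := hba.symm
  have hF1 : a * z * a = b * z := conj_of_sq zz hz2
  have hbzD : b * z ∈ D := by
    rw [← hF1]; exact conj_inv_mem hD hzD ha
  have hF3 : z ≠ b := by
    intro h
    rw [h] at hz2
    have := comm_sq hD ha hbD hab
    rw [this] at hz2
    exact hb1 hz2.symm
  have hF4 : a * z ≠ z * a := by
    intro h
    have := comm_sq hD ha hzD h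
    rw [this] at hz2
    exact hb1 hz2.symm
  have hF5 : z ∈ productPartners D b := by
    refine ⟨⟨hzD, hzb, hF3⟩, ?_⟩
    rw [hzb]; exact hbzD
  have hF6 : z ∉ sameCommutingClass D b := by
    rintro ⟨_, heq⟩
    have h1 : a ∈ commutingMembers D b := ⟨ha, hab⟩
    rw [heq] at h1
    exact hF4 h1.2
  obtain ⟨x, hxD, hxz, hx2⟩ := exists_n hD hc hbD hF5 hF6
  have xx := sq_one hD hxD
  have hF7 : x * b * x = b * z := by
    have := conj_of_sq (a := b) (z := x) (b := z) xx hx2
    -- this : b * x * b = z * x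
    calc x * b * x = x * (b * x * b) * b := by
            simp only [mul_assoc]; rw [bb, mul_one]
      _ = x * (z * x) * b := by rw [this]
      _ = z * (x * x) * b := by rw [← mul_assoc x z x, hxz, mul_assoc z x x]
      _ = z * b := by rw [xx, mul_one]
      _ = b * z := hzb
  have hxzx : x * z * x = z := by
    rw [hxz, mul_assoc, xx, mul_one]
  have haba : a * b * a = b := by
    rw [hab, mul_assoc, aa, mul_one]
  -- conjugation by ρ = a x
  have hinv : (a * x)⁻¹ = x * a := by
    rw [mul_inv_rev, inv_eq hD ha, inv_eq hD hxD]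
  have hc1 : (a * x) * b * (a * x)⁻¹ = z := by
    rw [hinv]
    calc a * x * b * (x * a) = a * (x * b * x) * a := by simp only [mul_assoc]
      _ = a * (b * z) * a := by rw [hF7]
      _ = (a * b * a) * (a * z * a) := by
            have e : a * b * a * (a * z * a) = a * b * (a * a) * z * a := by simp only [mul_assoc]
            rw [e, aa, mul_one]; simp only [mul_assoc]
      _ = b * (b * z) := by rw [haba, hF1]
      _ = z := by rw [← mul_assoc, bb, one_mul]
  have hc2 : (a * x) * z * (a * x)⁻¹ = b * z := by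
    rw [hinv]
    calc a * x * z * (x * a) = a * (x * z * x) * a := by simp only [mul_assoc]
      _ = a * z * a := by rw [hxzx]
      _ = b * z := hF1
  have hc3 : (a * x) * (b * z) * (a * x)⁻¹ = b := by
    calc (a * x) * (b * z) * (a * x)⁻¹
        = ((a * x) * b * (a * x)⁻¹) * ((a * x) * z * (a * x)⁻¹) := conj_mul' _ _ _
      _ = z * (b * z) := by rw [hc1, hc2]
      _ = b := by rw [← mul_assoc, hzb, mul_assoc, zz, mul_one]
  have hcube : (a * x) ^ 3 * b * ((a * x) ^ 3)⁻¹ = b := by
    calc (a * x) ^ 3 * b * ((a * x) ^ 3)⁻¹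
        = (a * x) * ((a * x) * ((a * x) * b * (a * x)⁻¹) * (a * x)⁻¹) * (a * x)⁻¹ := conj_pow_three' _ _
      _ = b := by rw [hc1, hc2, hc3]
  have hcube' : (a * x) ^ 3 * b = b * (a * x) ^ 3 := comm_of_conj' hcube
  -- order of b x
  have hbx4 : orderOf (b * x) = 4 := by
    have h1 : ¬ (b * x) ^ 2 ^ 1 = 1 := by
      rw [pow_one, hx2]; exact hz1
    have h2 : (b * x) ^ 2 ^ (1 + 1) = 1 := by
      have e : (2:ℕ) ^ (1 + 1) = 2 * 2 := by norm_num
      rw [e, pow_mul, hx2, pow_two, zz]
    have := orderOf_eq_prime_pow h1 h2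
    simpa using this
  refine ⟨x, ⟨hxD, hbx4⟩, ?_⟩
  rcases tri hD ha hxD with h | h | h
  · -- commuting: ρ^2 = 1
    exfalso
    have hsq : (a * x) ^ 2 = 1 := comm_sq hD ha hxD h
    have h1 : (a * x) ^ 2 * b * ((a * x) ^ 2)⁻¹ = b * z := by
      calc (a * x) ^ 2 * b * ((a * x) ^ 2)⁻¹
          = (a * x) * ((a * x) * b * (a * x)⁻¹) * (a * x)⁻¹ := conj_pow_two' _ _
        _ = b * z := by rw [hc1, hc2]
    rw [hsq] at h1
    simp only [one_mul, inv_one, mul_one] at h1
    -- b = b * z
    have : z = 1 := by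
      have h2 : b * 1 = b * z := by rw [mul_one]; exact h1
      exact (mul_left_cancel h2).symm
    exact hz1 this
  · -- odd order
    obtain ⟨_, _, hne_ax, hodd⟩ := h
    have hρ1 : a * x ≠ 1 := by
      intro h1
      apply hne_ax
      have : x = a⁻¹ := (inv_eq_of_mul_eq_one_right h1).symm
      rw [this, inv_eq hD ha]
    have hρ3 : (a * x) ^ 3 = 1 := by
      by_contra hne3
      -- y = a ρ^3 = x a x a x
      have hy : a * (a * x) ^ 3 = x * (a * x * a) * x := by
        calc a * (a * x) ^ 3 = (a * a) * x * a * x * a * x := by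
                simp only [pow_succ, pow_zero, one_mul, mul_assoc]
          _ = x * (a * x * a) * x := by rw [aa, one_mul]; simp only [mul_assoc]
      have hyD : a * (a * x) ^ 3 ∈ D := by
        rw [hy]
        exact conj_inv_mem hD (conj_inv_mem hD hxD ha) hxD
      have hycomm : a * (a * x) ^ 3 * b = b * (a * (a * x) ^ 3) := by
        calc a * (a * x) ^ 3 * b = a * ((a * x) ^ 3 * b) := by rw [mul_assoc]
          _ = a * (b * (a * x) ^ 3) := by rw [hcube']
          _ = (a * b) * (a * x) ^ 3 := by rw [mul_assoc]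
          _ = b * (a * (a * x) ^ 3) := by rw [hab, mul_assoc]
      have hyne : a ≠ a * (a * x) ^ 3 := by
        intro h1
        apply hne3
        have h2 : a * 1 = a * (a * x) ^ 3 := by rw [mul_one]; exact h1
        exact (mul_left_cancel h2).symm
      have hyodd : Odd (orderOf (a * (a * (a * x) ^ 3))) := by
        rw [← mul_assoc, aa, one_mul]
        exact Odd.of_dvd_nat hodd (orderOf_pow_dvd 3)
      have hay : OddAdj D a (a * (a * x) ^ 3) := ⟨ha, hyD, hyne, hyodd⟩
      exact g1 hD hbD ha hba hbaD hyD hycomm (oddAdj_symm hay)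
    exact orderOf_eq_prime hρ3 hρ1
  · -- order 4
    exfalso
    have h4 : (a * x) ^ 4 = 1 := by rw [← h]; exact pow_orderOf_eq_one _
    have h1 : (a * x) ^ 4 * b * ((a * x) ^ 4)⁻¹ = z := by
      calc (a * x) ^ 4 * b * ((a * x) ^ 4)⁻¹
          = (a * x) * ((a * x) ^ 3 * b * ((a * x) ^ 3)⁻¹) * (a * x)⁻¹ := conj_pow_four' _ _
        _ = z := by rw [hcube, hc1]
    rw [h4] at h1
    simp only [one_mul, inv_one, mul_one] at h1
    exact hF3 h1.symm

end Cfsg.Agent.Lib.Helper5.RI47
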