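import Mathlib
import Cfsg.Prelude
import Cfsg.Agent.Lib.Helper1.PL2
import Cfsg.Agent.Lib.Helper2.CoprimeGen
import Cfsg.Agent.Lib.Helper5.NA8U3

/-! Farm RK3 (S4404), lemma INV: the core argument, with claim A as an explicit hypothesis. -/
set_option autoImplicit false
set_option maxHeartbeats 1000000
set_option linter.unusedVariables false
set_option linter.style.longLine false
set_option linter.style.haveILetI false
open scoped commutatorElement

namespace Cfsg.Agent.Lib.Helper5.RK3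
open Cfsg.Agent.Lib.Helper1

universe u
variable {S : Type u} [Group S]

theorem mem_centralizer_sup_zpowers {a e y : S} (ha : y ∈ Subgroup.centralizer ({a} : Set S))
    (he : y ∈ Subgroup.centralizer ({e} : Set S)) :
    y ∈ Subgroup.centralizer ((Subgroup.zpowers a ⊔ Subgroup.zpowers e : Subgroup S) : Set S) := by
  have h1 : Subgroup.zpowers a ⊔ Subgroup.zpowers e ≤ Subgroup.centralizer ({y} : Set S) := by
    apply sup_le
    · rw [Subgroup.zpowers_le, Subgroup.mem_centralizer_iff]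
      intro g hg
      rw [Set.mem_singleton_iff] at hg
      rw [hg]
      exact (Subgroup.mem_centralizer_iff.mp ha a rfl).symm
    · rw [Subgroup.zpowers_le, Subgroup.mem_centralizer_iff]
      intro g hg
      rw [Set.mem_singleton_iff] at hg
      rw [hg]
      exact (Subgroup.mem_centralizer_iff.mp he e rfl).symm
  rw [Subgroup.mem_centralizer_iff]
  intro h hh
  exact (Subgroup.mem_centralizer_iff.mp (h1 hh) y rfl).symm

theorem card_zpowers_eq_three {F : Subgroup S} (hF3 : ∀ a ∈ F, a ^ 3 = 1) {a : S} (haF : a ∈ F)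
    (ha1 : a ≠ 1) : Nat.card ↥(Subgroup.zpowers a) = 3 := by
  have : Fact (Nat.Prime 3) := ⟨Nat.prime_three⟩
  rw [Nat.card_zpowers]
  exact orderOf_eq_prime (hF3 a haF) ha1

theorem card_sup_zpowers_eq_nine [Finite S] {F : Subgroup S}
    (hFc : ∀ a ∈ F, ∀ b ∈ F, a * b = b * a) (hF3 : ∀ a ∈ F, a ^ 3 = 1) {a e : S} (haF : a ∈ F)
    (ha1 : a ≠ 1) (heF : e ∈ F) (he : e ∉ Subgroup.zpowers a) :
    Nat.card ↥(Subgroup.zpowers a ⊔ Subgroup.zpowers e : Subgroup S) = 9 := by
  have he1 : e ≠ 1 := by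
    rintro rfl
    exact he (Subgroup.one_mem _)
  have hca := card_zpowers_eq_three hF3 haF ha1
  have hce := card_zpowers_eq_three hF3 heF he1
  have haF' : Subgroup.zpowers a ≤ F := by rw [Subgroup.zpowers_le]; exact haF
  have heF' : Subgroup.zpowers e ≤ F := by rw [Subgroup.zpowers_le]; exact heF
  have hnorm : Subgroup.zpowers a ≤ Subgroup.normalizer ((Subgroup.zpowers e : Subgroup S) : Set S) :=
    haF'.trans (PL.abelian_le_normalizer hFc heF')
  have h1 := GlaubermanRepl.card_sup_mul_card_inf_of_le_normalizer _ _ hnorm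
  rw [hca, hce] at h1
  have hI : Nat.card ↥(Subgroup.zpowers a ⊓ Subgroup.zpowers e : Subgroup S) = 1 := by
    have hd : Nat.card ↥(Subgroup.zpowers a ⊓ Subgroup.zpowers e : Subgroup S) ∣ 3 :=
      hce ▸ Subgroup.card_dvd_of_le inf_le_right
    rcases (Nat.dvd_prime Nat.prime_three).mp hd with h | h
    · exact h
    · exfalso
      have h2 : (Subgroup.zpowers a ⊓ Subgroup.zpowers e : Subgroup S) = Subgroup.zpowers e :=
        Subgroup.eq_of_le_of_card_ge inf_le_right (by rw [h, hce])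
      apply he
      have : e ∈ (Subgroup.zpowers a ⊓ Subgroup.zpowers e : Subgroup S) := by
        rw [h2]; exact Subgroup.mem_zpowers e
      exact this.1
  rw [hI] at h1
  omega

theorem exists_mem_not_mem_of_card_lt [Finite S] {F H : Subgroup S}
    (h : Nat.card ↥H < Nat.card ↥F) : ∃ b ∈ F, b ∉ H := by
  by_contra hcon
  have hle : F ≤ H := fun b hb => by
    by_contra hb'
    exact hcon ⟨b, hb, hb'⟩
  have := Subgroup.card_le_of_le hle
  omega

theorem not_isCyclic_of_exp_three [Finite S] {F : Subgroup S} (hF3 : ∀ a ∈ F, a ^ 3 = 1)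
    (hF : 3 < Nat.card ↥F) : ¬ IsCyclic ↥F := by
  intro hcyc
  obtain ⟨g, hg⟩ := hcyc.exists_generator
  have h1 : orderOf g = Nat.card ↥F := orderOf_eq_card_of_forall_mem_zpowers hg
  have h2 : g ^ 3 = 1 := by
    apply Subtype.ext
    rw [Subgroup.coe_pow]
    exact hF3 g g.2
  have h3 : orderOf g ∣ 3 := orderOf_dvd_of_pow_eq_one h2
  have h4 := Nat.le_of_dvd (by norm_num) h3
  omega

/-- Coprime generation by the centralizers of the subgroups of order `9` of `F ≅ Z_3^3`. -/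
theorem gen_nine [Finite S] {F N : Subgroup S} (hFc : ∀ a ∈ F, ∀ b ∈ F, a * b = b * a)
    (hF3 : ∀ a ∈ F, a ^ 3 = 1) (hF27 : Nat.card ↥F = 27)
    (hFN : F ≤ Subgroup.normalizer (N : Set S)) (hcop : (Nat.card ↥F).Coprime (Nat.card ↥N))
    (W : Subgroup S)
    (hW : ∀ D : Subgroup S, D ≤ F → Nat.card ↥D = 9 →
      N ⊓ Subgroup.centralizer (D : Set S) ≤ W) : N ≤ W := by
  haveI : IsMulCommutative ↥F := PL.isMulCommutative_of_comm hFc
  haveI : Fact (Nat.Prime 3) := ⟨Nat.prime_three⟩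
  have hnc : ¬ IsCyclic ↥F := not_isCyclic_of_exp_three hF3 (by rw [hF27]; norm_num)
  rw [← coprime_generated_by_centralizers F N hnc hFN hcop]
  apply iSup₂_le
  rintro a ⟨haF, ha1⟩
  have hca := card_zpowers_eq_three hF3 haF ha1
  obtain ⟨b, hbF, hb⟩ : ∃ b ∈ F, b ∉ Subgroup.zpowers a :=
    exists_mem_not_mem_of_card_lt (by rw [hca, hF27]; norm_num)
  have hcab := card_sup_zpowers_eq_nine hFc hF3 haF ha1 hbF hb
  obtain ⟨c, hcF, hc⟩ : ∃ c ∈ F, c ∉ (Subgroup.zpowers a ⊔ Subgroup.zpowers b : Subgroup S) :=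
    exists_mem_not_mem_of_card_lt (by rw [hcab, hF27]; norm_num)
  have haF' : Subgroup.zpowers a ≤ F := by rw [Subgroup.zpowers_le]; exact haF
  have hFa : F ≤ Subgroup.normalizer ((Subgroup.centralizer ({a} : Set S) : Subgroup S) : Set S) := by
    refine le_trans ?_ Subgroup.le_normalizer
    intro f hf
    rw [Subgroup.mem_centralizer_iff]
    intro g hg
    rw [Set.mem_singleton_iff] at hg
    rw [hg]
    exact hFc a haF f hf
  have hFNa : F ≤ Subgroup.normalizer ((N ⊓ Subgroup.centralizer ({a} : Set S) : Subgroup S) : Set S) :=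
    fun f hf => PL.mem_normalizer_inf (hFN hf) (hFa hf)
  have hcopa : (Nat.card ↥F).Coprime (Nat.card ↥(N ⊓ Subgroup.centralizer ({a} : Set S) : Subgroup S)) :=
    Nat.Coprime.coprime_dvd_right (Subgroup.card_dvd_of_le inf_le_left) hcop
  have hr : (Nat.card ↥(N ⊓ Subgroup.centralizer ({a} : Set S) : Subgroup S)).Coprime 3 := by
    rw [hF27] at hcopa
    exact (Nat.Coprime.coprime_dvd_left (by norm_num : 3 ∣ 27) hcopa).symm
  apply Cfsg.Agent.Lib.Helper2.gen_general F _ hFNa hcopa hr b c hbF hcF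
  · rw [hF3 b hbF]; exact Subgroup.one_mem _
  · rw [hF3 c hcF]; exact Subgroup.one_mem _
  · rintro y ⟨⟨hyN, hya⟩, hyb⟩
    exact hW _ (sup_le haF' (by rw [Subgroup.zpowers_le]; exact hbF)) hcab
      ⟨hyN, mem_centralizer_sup_zpowers hya hyb⟩
  · intro j
    rintro y ⟨⟨hyN, hya⟩, hyb⟩
    have heF : b ^ j * c ∈ F := F.mul_mem (F.pow_mem hbF j) hcF
    have he : b ^ j * c ∉ Subgroup.zpowers a := by
      intro hmem
      apply hc
      have h1 : b ^ j ∈ (Subgroup.zpowers a ⊔ Subgroup.zpowers b : Subgroup S) :=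
        Subgroup.pow_mem _ (le_sup_right (a := Subgroup.zpowers a) (Subgroup.mem_zpowers b)) j
      have h2 : b ^ j * c ∈ (Subgroup.zpowers a ⊔ Subgroup.zpowers b : Subgroup S) :=
        le_sup_left (b := Subgroup.zpowers b) hmem
      have h3 := Subgroup.mul_mem _ (Subgroup.inv_mem _ h1) h2
      rwa [inv_mul_cancel_left] at h3
    exact hW _ (sup_le haF' (by rw [Subgroup.zpowers_le]; exact heF))
      (card_sup_zpowers_eq_nine hFc hF3 haF ha1 heF he)
      ⟨hyN, mem_centralizer_sup_zpowers hya hyb⟩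

/-- INV, core form: `x` an element of odd order with `x ^ 3` centralizing the normal elementary
abelian `2`-subgroup `M`, `V = ⁅M, ⟨x⟩⁆` of order `4`, `F ≅ Z_3^3` normalized by `x`; claim A is
the hypothesis `hA`. -/
theorem inv_core [Finite S] (M : Subgroup S) [M.Normal]
    (hMc : ∀ a ∈ M, ∀ b ∈ M, a * b = b * a) (hM2 : ∀ a ∈ M, a ^ 2 = 1)
    (x : S) (hxodd : Odd (Nat.card ↥(Subgroup.zpowers x)))
    (hV4 : Nat.card ↥⁅M, Subgroup.zpowers x⁆ = 4)
    (F : Subgroup S) (hFc : ∀ a ∈ F, ∀ b ∈ F, a * b = b * a) (hF3 : ∀ a ∈ F, a ^ 3 = 1)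
    (hF27 : Nat.card ↥F = 27) (hxF : x ∈ Subgroup.normalizer (F : Set S))
    (hA : ∀ V N : Subgroup S, V ≤ M → Nat.card ↥V = 4 →
      x ∈ Subgroup.normalizer (V : Set S) → N ≤ M → F ≤ Subgroup.normalizer (N : Set S) →
      x ∈ Subgroup.normalizer (N : Set S) → N ⊓ Subgroup.centralizer (F : Set S) = ⊥ →
      (∀ m ∈ N, ⁅m, x⁆ ∈ V) → ∀ D : Subgroup S, D ≤ F → Nat.card ↥D = 9 → PL.cj x D ≠ D →
      N ⊓ Subgroup.centralizer (D : Set S) = ⊥) :
    9 ≤ Nat.card ↥(F ⊓ Subgroup.centralizer ((⁅M, Subgroup.zpowers x⁆ : Subgroup S) : Set S) :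
      Subgroup S) := by
  haveI : Fact (Nat.Prime 2) := ⟨Nat.prime_two⟩
  haveI : IsMulCommutative ↥M := PL.isMulCommutative_of_comm hMc
  obtain ⟨Q, hQ⟩ : ∃ Q : Subgroup S, Q = Subgroup.zpowers x := ⟨_, rfl⟩
  obtain ⟨V, hV⟩ : ∃ V : Subgroup S, V = ⁅M, Q⁆ := ⟨_, rfl⟩
  rw [← hQ] at hxodd hV4 ⊢
  rw [← hV] at hV4 ⊢
  have hxQ : x ∈ Q := by rw [hQ]; exact Subgroup.mem_zpowers x
  have hnormM : ∀ K : Subgroup S, K ≤ Subgroup.normalizer (M : Set S) := by
    intro K
    rw [Subgroup.normalizer_eq_top]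
    exact le_top
  have hQle : ∀ {K : Subgroup S}, x ∈ Subgroup.normalizer (K : Set S) →
      Q ≤ Subgroup.normalizer (K : Set S) := by
    intro K hK
    rw [hQ, Subgroup.zpowers_le]
    exact hK
  have hMp : IsPGroup 2 ↥M := by
    intro g
    refine ⟨1, ?_⟩
    apply Subtype.ext
    rw [pow_one, Subgroup.coe_pow]
    exact hM2 g g.2
  have hQM : Q ≤ Subgroup.normalizer (M : Set S) := hnormM Q
  have hVM : V ≤ M := by rw [hV]; exact Subgroup.commutator_le_left M Q
  have hVV : ⁅V, Q⁆ = V := by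
    rw [hV]
    exact NA8.commutator_commutator_eq hMp hxodd hQM
  have hQV : Q ≤ Subgroup.normalizer (V : Set S) := by
    rw [hV]
    exact PL.le_normalizer_commutator hQM Subgroup.le_normalizer
  have hVne : V ≠ ⊥ := by
    intro h
    rw [h, Subgroup.card_bot] at hV4
    omega
  have hne : ⁅V, Q⁆ ≠ ⊥ := by rw [hVV]; exact hVne
  have irr : ∀ U : Subgroup S, U ≤ V → Q ≤ Subgroup.normalizer (U : Set S) → U = ⊥ ∨ U = V :=
    fun U hUV hQU => NA8.irr_four hV4 hxodd hQV hne hUV hQU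
  -- the decomposition `M = C_M(F) × [M, F]`
  have hFM : F ≤ Subgroup.normalizer (M : Set S) := hnormM F
  have hcopFM : (Nat.card ↥F).Coprime (Nat.card ↥M) := by
    obtain ⟨n, hn⟩ := IsPGroup.iff_card.mp hMp
    rw [hn, hF27]
    exact Nat.Coprime.pow_right n (by norm_num)
  obtain ⟨hdec1, hdec2⟩ := coprime_abelian_decomposition F M hFM hcopFM
  obtain ⟨CM, hCM⟩ : ∃ CM : Subgroup S, CM = M ⊓ Subgroup.centralizer (F : Set S) := ⟨_, rfl⟩
  obtain ⟨N, hN⟩ : ∃ N : Subgroup S, N = ⁅M, F⁆ := ⟨_, rfl⟩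
  rw [← hCM, ← hN] at hdec1 hdec2
  have hxM : x ∈ Subgroup.normalizer (M : Set S) := hQM hxQ
  have hxCM : x ∈ Subgroup.normalizer (CM : Set S) := by
    rw [hCM]
    exact PL.mem_normalizer_inf hxM (PL.mem_normalizer_centralizer hxF)
  have hxN : x ∈ Subgroup.normalizer (N : Set S) := by
    rw [hN]
    exact PL.mem_normalizer_commutator hxM hxF
  have hNM : N ≤ M := by rw [hN]; exact Subgroup.commutator_le_left M F
  have hCMM : CM ≤ M := by rw [hCM]; exact inf_le_left
  have hFN : F ≤ Subgroup.normalizer (N : Set S) := by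
    rw [hN]
    exact PL.le_normalizer_commutator hFM Subgroup.le_normalizer
  have hNF : N ⊓ Subgroup.centralizer (F : Set S) = ⊥ := by
    rw [eq_bot_iff, ← hdec1, hCM]
    intro y hy
    exact ⟨⟨hNM hy.1, hy.2⟩, hy.1⟩
  have hcopFN : (Nat.card ↥F).Coprime (Nat.card ↥N) :=
    Nat.Coprime.coprime_dvd_right (Subgroup.card_dvd_of_le hNM) hcopFM
  -- the two pieces of `V`
  have hU1V : ⁅CM, Q⁆ ≤ V := by rw [hV]; exact Subgroup.commutator_mono hCMM le_rfl
  have hU2V : ⁅N, Q⁆ ≤ V := by rw [hV]; exact Subgroup.commutator_mono hNM le_rfl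
  have hQU1 : Q ≤ Subgroup.normalizer ((⁅CM, Q⁆ : Subgroup S) : Set S) :=
    PL.le_normalizer_commutator (hQle hxCM) Subgroup.le_normalizer
  have hQU2 : Q ≤ Subgroup.normalizer ((⁅N, Q⁆ : Subgroup S) : Set S) :=
    PL.le_normalizer_commutator (hQle hxN) Subgroup.le_normalizer
  rcases irr _ hU1V hQU1 with h1 | h1
  · -- `[C_M(F), Q] = 1`, so `V = [N, Q]`
    have h2 : ⁅N, Q⁆ = V := by
      rcases irr _ hU2V hQU2 with h2 | h2
      · exfalso
        apply hVne
        rw [hV, Subgroup.commutator_eq_bot_iff_le_centralizer, ← hdec2]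
        exact sup_le (Subgroup.commutator_eq_bot_iff_le_centralizer.mp h1)
          (Subgroup.commutator_eq_bot_iff_le_centralizer.mp h2)
      · exact h2
    -- some subgroup `D` of order `9` of `F` centralizes `V`
    have hex : ∃ D : Subgroup S, D ≤ F ∧ Nat.card ↥D = 9 ∧
        D ≤ Subgroup.centralizer (V : Set S) := by
      by_contra hcon
      apply hVne
      rw [← h2, Subgroup.commutator_eq_bot_iff_le_centralizer]
      apply gen_nine hFc hF3 hF27 hFN hcopFN
      intro D hDF hD9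
      by_cases hDx : PL.cj x D = D
      · have hxD : x ∈ Subgroup.normalizer (D : Set S) := PL.cj_eq_self_iff.mp hDx
        have hxND : x ∈ Subgroup.normalizer
            ((N ⊓ Subgroup.centralizer (D : Set S) : Subgroup S) : Set S) :=
          PL.mem_normalizer_inf hxN (PL.mem_normalizer_centralizer hxD)
        have hUV : ⁅N ⊓ Subgroup.centralizer (D : Set S), Q⁆ ≤ V := by
          rw [← h2]
          exact Subgroup.commutator_mono inf_le_left le_rfl
        have hQU : Q ≤ Subgroup.normalizer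
            ((⁅N ⊓ Subgroup.centralizer (D : Set S), Q⁆ : Subgroup S) : Set S) :=
          PL.le_normalizer_commutator (hQle hxND) Subgroup.le_normalizer
        rcases irr _ hUV hQU with h3 | h3
        · exact Subgroup.commutator_eq_bot_iff_le_centralizer.mp h3
        · exfalso
          apply hcon
          refine ⟨D, hDF, hD9, ?_⟩
          have h4 : V ≤ Subgroup.centralizer (D : Set S) := by
            rw [← h3]
            exact (Subgroup.le_normalizer_iff_commutator_le_left.mp (hQle hxND)).trans inf_le_right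
          exact Subgroup.le_centralizer_iff.mp h4
      · have hNV : ∀ m ∈ N, ⁅m, x⁆ ∈ V := fun m hm => by
          rw [hV]
          exact Subgroup.commutator_mem_commutator (hNM hm) hxQ
        rw [hA V N hVM hV4 (hQV hxQ) hNM hFN hxN hNF hNV D hDF hD9 hDx]
        exact bot_le
    obtain ⟨D, hDF, hD9, hDV⟩ := hex
    have := Subgroup.card_le_of_le (le_inf hDF hDV)
    omega
  · -- `V = [C_M(F), Q] ≤ C_M(F)`: all of `F` centralizes `V`
    have h2 : V ≤ Subgroup.centralizer (F : Set S) := by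
      rw [← h1]
      refine (Subgroup.le_normalizer_iff_commutator_le_left.mp (hQle hxCM)).trans ?_
      rw [hCM]
      exact inf_le_right
    have h3 : F ≤ F ⊓ Subgroup.centralizer (V : Set S) :=
      le_inf le_rfl (Subgroup.le_centralizer_iff.mp h2)
    have := Subgroup.card_le_of_le h3
    omega

/-- The statement of claim A (unit I1 of farm RK3), for all data in the group `S`. -/
def ClaimAStatement (S : Type u) [Group S] : Prop :=
  ∀ (M : Subgroup S) [M.Normal]
    (hMc : ∀ a ∈ M, ∀ b ∈ M, a * b = b * a) (hM2 : ∀ a ∈ M, a ^ 2 = 1)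
    (x : S) (hx3 : x ^ 3 ∈ Subgroup.centralizer (M : Set S))
    (V : Subgroup S) (hVM : V ≤ M) (hV4 : Nat.card ↥V = 4)
    (hxV : x ∈ Subgroup.normalizer (V : Set S))
    (F : Subgroup S) (hFc : ∀ a ∈ F, ∀ b ∈ F, a * b = b * a) (hF3 : ∀ a ∈ F, a ^ 3 = 1)
    (hF27 : Nat.card ↥F = 27) (hxF : x ∈ Subgroup.normalizer (F : Set S))
    (N : Subgroup S) (hNM : N ≤ M) (hFN : F ≤ Subgroup.normalizer (N : Set S))
    (hxN : x ∈ Subgroup.normalizer (N : Set S))
    (hNF : N ⊓ Subgroup.centralizer (F : Set S) = ⊥)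
    (hNV : ∀ m ∈ N, ⁅m, x⁆ ∈ V)
    (D : Subgroup S) (hDF : D ≤ F) (hD9 : Nat.card ↥D = 9) (hDx : PL.cj x D ≠ D),
    N ⊓ Subgroup.centralizer (D : Set S) = ⊥

/-- INV in the announced shape, from claim A. -/
theorem inv_of_claimA [Finite S] (hA : ClaimAStatement S) (M : Subgroup S) [M.Normal]
    (hM : Cfsg.IsElementaryAbelian 2 M) (Q : Subgroup S) (hQc : IsCyclic ↥Q) (hQ3 : IsPGroup 3 ↥Q)
    (hQ1 : ∀ x ∈ Q, x ^ 3 ∈ Subgroup.centralizer (M : Set S))
    (hQM : Nat.card ↥⁅Q, M⁆ = 4) (F : Subgroup S) (hF : Cfsg.IsElementaryAbelian 3 F)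
    (hF27 : Nat.card ↥F = 27) (hQF : Q ≤ Subgroup.normalizer (F : Set S)) :
    9 ≤ Nat.card ↥(F ⊓ Subgroup.centralizer ((⁅Q, M⁆ : Subgroup S) : Set S) : Subgroup S) := by
  haveI : Fact (Nat.Prime 3) := ⟨Nat.prime_three⟩
  obtain ⟨x, hx⟩ := (Subgroup.isCyclic_iff_exists_zpowers_eq_top Q).mp hQc
  have hxQ : x ∈ Q := by rw [← hx]; exact Subgroup.mem_zpowers x
  have hMc : ∀ a ∈ M, ∀ b ∈ M, a * b = b * a := fun a ha b hb =>
    congrArg Subtype.val (hM.1.is_comm.comm (⟨a, ha⟩ : M) ⟨b, hb⟩)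
  have hFc : ∀ a ∈ F, ∀ b ∈ F, a * b = b * a := fun a ha b hb =>
    congrArg Subtype.val (hF.1.is_comm.comm (⟨a, ha⟩ : F) ⟨b, hb⟩)
  have hodd : Odd (Nat.card ↥(Subgroup.zpowers x)) := by
    rw [hx]
    obtain ⟨n, hn⟩ := IsPGroup.iff_card.mp hQ3
    rw [hn]
    exact Odd.pow (by decide)
  have hcomm : (⁅Q, M⁆ : Subgroup S) = ⁅M, Subgroup.zpowers x⁆ := by
    rw [hx]; exact Subgroup.commutator_comm Q M
  rw [hcomm] at hQM ⊢
  exact inv_core M hMc hM.2 x hodd hQM F hFc hF.2 hF27 (hQF hxQ)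
    (fun V N hVM hV4 hxV hNM hFN hxN hNF hNV D hDF hD9 hDx =>
      hA M hMc hM.2 x (hQ1 x hxQ) V hVM hV4 hxV F hFc hF.2 hF27 (hQF hxQ) N hNM hFN hxN hNF hNV
        D hDF hD9 hDx)

end Cfsg.Agent.Lib.Helper5.RK3
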