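import Mathlib
import Cfsg.Prelude
import Cfsg.Agent.Lib.Helper5.RK3InvCore
import Cfsg.Agent.Lib.Helper8.RK3ClaimA

/-! Farm RK3 (S4404), lemma INV: `F ≅ Z_3^3` normalized by the cyclic `3`-group `Q` moving the
four-group `V = ⁅Q, M⁆` has `|C_F(V)| ≥ 9`. -/
set_option autoImplicit false
set_option linter.unusedVariables false
set_option linter.style.longLine false
open scoped commutatorElement

namespace Cfsg.Agent.Lib.Helper5.RK3

universe u
variable {S : Type u} [Group S]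

theorem claimAStatement [Finite S] : ClaimAStatement S :=
  fun M _ hMc hM2 x hx3 V hVM hV4 hxV F hFc hF3 hF27 hxF N hNM hFN hxN hNF hNV D hDF hD9 hDx =>
    Cfsg.Agent.Lib.Helper8.RK3.claimA M hMc hM2 x hx3 V hVM hV4 hxV F hFc hF3 hF27 hxF N hNM hFN
      hxN hNF hNV D hDF hD9 hDx

/-- LEMMA INV of farm RK3. -/
theorem inv [Finite S] (M : Subgroup S) [M.Normal]
    (hM : Cfsg.IsElementaryAbelian 2 M) (Q : Subgroup S) (hQc : IsCyclic ↥Q) (hQ3 : IsPGroup 3 ↥Q)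
    (hQ1 : ∀ x ∈ Q, x ^ 3 ∈ Subgroup.centralizer (M : Set S))
    (hQM : Nat.card ↥⁅Q, M⁆ = 4) (F : Subgroup S) (hF : Cfsg.IsElementaryAbelian 3 F)
    (hF27 : Nat.card ↥F = 27) (hQF : Q ≤ Subgroup.normalizer (F : Set S)) :
    9 ≤ Nat.card ↥(F ⊓ Subgroup.centralizer ((⁅Q, M⁆ : Subgroup S) : Set S) : Subgroup S) :=
  inv_of_claimA claimAStatement M hM Q hQc hQ3 hQ1 hQM F hF hF27 hQF

end Cfsg.Agent.Lib.Helper5.RK3
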