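import Mathlib
import Cfsg.Agent.Lib.Lead.RVDefs

/-!
# Farm RV (S3175), unit A7: an odd-order automorphism is trivial on `W / Z`.

`triv_on_quot_of` takes the statement of unit A6 (`abelian_coprime_fix`) as a hypothesis.
-/

set_option autoImplicit false

namespace Cfsg.Agent.Lib.Helper5.RVA7

universe u

/-- An automorphism of a finite group mapping a subgroup into itself maps it onto itself. -/
theorem map_eq_of_forall_mem {G : Type*} [Group G] [Finite G] (e : G ≃* G) (N : Subgroup G)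
    (h : ∀ x ∈ N, e x ∈ N) : N.map (e : G →* G) = N := by
  apply Subgroup.eq_of_le_of_card_ge
  · rintro _ ⟨x, hx, rfl⟩
    exact h x hx
  · rw [Subgroup.card_map_of_injective (f := (e : G →* G)) e.injective]

/-- The statement of unit A6, for types in one universe. -/
def A6Statement : Prop :=
  ∀ {M : Type u} [CommGroup M] [Finite M] (_ : IsPGroup 2 M)
    (κ : MulAut M) (_ : Odd (orderOf κ)) {Tt : Type u} [Group Tt] [Finite Tt] (_ : IsPGroup 2 Tt)
    (ρ : Tt →* MulAut M) (_ : ∀ (t : Tt) (m : M), κ (ρ t m) = ρ t (κ m))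
    (_ : ∀ a b : M, (∀ t, ρ t a = a) → (∀ t, ρ t b = b) → a ≠ 1 → b ≠ 1 → a = b),
    κ = 1

theorem triv_on_quot_of (hA6 : A6Statement.{u}) {P : Type u} [Group P] [Finite P]
    (hP : IsPGroup 2 P) (W Z : Subgroup P)
    [W.Normal] [Z.Normal] (hZW : Z ≤ W) (hab : ∀ a ∈ W, ∀ b ∈ W, a * b * a⁻¹ * b⁻¹ ∈ Z)
    (φ : MulAut P) (hφ : Odd (orderOf φ)) (hφW : ∀ w ∈ W, φ w ∈ W) (hφZ : ∀ z ∈ Z, φ z ∈ Z)
    (hφP : ∀ t : P, φ t * t⁻¹ ∈ W)
    (hsoc : ∀ a ∈ W, ∀ b ∈ W, (∀ t : P, t * a * t⁻¹ * a⁻¹ ∈ Z) → (∀ t : P, t * b * t⁻¹ * b⁻¹ ∈ Z) →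
      a ∉ Z → b ∉ Z → a * b⁻¹ ∈ Z) :
    ∀ w ∈ W, φ w * w⁻¹ ∈ Z := by
  classical
  have _ := hZW
  -- φ restricted to W
  have hWmap : W.map (φ : P →* P) = W := map_eq_of_forall_mem φ W hφW
  let φW : ↥W ≃* ↥W := (φ.subgroupMap W).trans (MulEquiv.subgroupCongr hWmap)
  have hφWc : ∀ w : ↥W, ((φW w : ↥W) : P) = φ (w : P) := fun w => rfl
  let N : Subgroup ↥W := Z.subgroupOf W
  have hNmem : ∀ w : ↥W, w ∈ N ↔ (w : P) ∈ Z := fun w => Subgroup.mem_subgroupOf
  have hNφ : N.map (φW : ↥W →* ↥W) = N := by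
    apply map_eq_of_forall_mem
    intro x hx
    rw [hNmem] at hx ⊢
    rw [hφWc]
    exact hφZ _ hx
  have hNconj : ∀ t : P, N.map ((MulAut.conjNormal t : MulAut ↥W) : ↥W →* ↥W) = N := by
    intro t
    apply map_eq_of_forall_mem
    intro x hx
    rw [hNmem] at hx ⊢
    rw [MulAut.conjNormal_apply]
    exact ‹Z.Normal›.conj_mem _ hx t
  -- the abelian quotient
  let instM : CommGroup (↥W ⧸ N) :=
    { (inferInstance : Group (↥W ⧸ N)) with
      mul_comm := by
        intro a b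
        induction a using QuotientGroup.induction_on with
        | H a =>
          induction b using QuotientGroup.induction_on with
          | H b =>
            rw [← QuotientGroup.mk_mul, ← QuotientGroup.mk_mul, QuotientGroup.eq, hNmem]
            have h := hab _ (W.inv_mem b.2) _ (W.inv_mem a.2)
            simpa [mul_assoc] using h }
  have hMp : IsPGroup 2 (↥W ⧸ N) := (hP.to_subgroup W).to_quotient N
  -- κ
  let κ : MulAut (↥W ⧸ N) := QuotientGroup.congr N N φW hNφ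
  have hκmk : ∀ w : ↥W, κ (QuotientGroup.mk w) = QuotientGroup.mk (φW w) := fun w =>
    QuotientGroup.congr_mk N N φW hNφ w
  -- ρ
  let ρ : P →* MulAut (↥W ⧸ N) := MonoidHom.mk'
    (fun t => QuotientGroup.congr N N (MulAut.conjNormal t : MulAut ↥W) (hNconj t)) (by
      intro s t
      apply MulEquiv.ext
      intro x
      induction x using QuotientGroup.induction_on with
      | H x =>
        rw [MulAut.mul_apply, QuotientGroup.congr_mk, QuotientGroup.congr_mk,
          QuotientGroup.congr_mk, map_mul, MulAut.mul_apply])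
  have hρmk : ∀ (t : P) (w : ↥W),
      ρ t (QuotientGroup.mk w) = QuotientGroup.mk ((MulAut.conjNormal t : MulAut ↥W) w) :=
    fun t w => QuotientGroup.congr_mk N N _ (hNconj t) w
  -- order of κ
  have hκpow : ∀ (k : ℕ) (w : ↥W), ∃ w' : ↥W, (w' : P) = (φ ^ k) (w : P) ∧
      (κ ^ k) (QuotientGroup.mk w) = QuotientGroup.mk w' := by
    intro k
    induction k with
    | zero => intro w; exact ⟨w, by simp, by simp⟩
    | succ k ih =>
      intro w
      obtain ⟨w', hw', hk⟩ := ih w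
      refine ⟨φW w', ?_, ?_⟩
      · rw [hφWc, hw', pow_succ', MulAut.mul_apply]
      · rw [pow_succ', MulAut.mul_apply, hk, hκmk]
  have hκn : κ ^ orderOf φ = 1 := by
    apply MulEquiv.ext
    intro x
    induction x using QuotientGroup.induction_on with
    | H w =>
      obtain ⟨w', hw', hk⟩ := hκpow (orderOf φ) w
      rw [hk]
      rw [pow_orderOf_eq_one, MulAut.one_apply] at hw'
      rw [Subtype.ext hw', MulAut.one_apply]
  have hκodd : Odd (orderOf κ) := by
    obtain ⟨d, hd⟩ := orderOf_dvd_of_pow_eq_one hκn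
    rw [hd] at hφ
    exact (Nat.odd_mul.mp hφ).1
  -- commutation of κ and ρ
  have hcomm : ∀ (t : P) (m : ↥W ⧸ N), κ (ρ t m) = ρ t (κ m) := by
    intro t m
    induction m using QuotientGroup.induction_on with
    | H w =>
      rw [hρmk, hκmk, hκmk, hρmk, QuotientGroup.eq, hNmem]
      simp only [Subgroup.coe_mul, Subgroup.coe_inv, hφWc, MulAut.conjNormal_apply, map_mul,
        map_inv]
      -- u = φ t * t⁻¹, v = t φ(w) t⁻¹
      have hu : φ t * t⁻¹ ∈ W := hφP t
      have hv : t * φ (w : P) * t⁻¹ ∈ W := ‹W.Normal›.conj_mem _ (hφW _ w.2) t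
      have h := hab _ hu _ (W.inv_mem hv)
      have e : (φ t * φ (w : P) * (φ t)⁻¹)⁻¹ * (t * φ (w : P) * t⁻¹) =
          φ t * t⁻¹ * (t * φ (w : P) * t⁻¹)⁻¹ * (φ t * t⁻¹)⁻¹ * (t * φ (w : P) * t⁻¹)⁻¹⁻¹ := by
        group
      rw [e]
      exact h
  -- socle condition
  have hfixlift : ∀ a : ↥W, (∀ t : P, ρ t (QuotientGroup.mk a) = QuotientGroup.mk a) →
      ∀ t : P, t * (a : P) * t⁻¹ * (a : P)⁻¹ ∈ Z := by
    intro a ha t
    have h := ha t
    rw [hρmk, eq_comm, QuotientGroup.eq, hNmem] at h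
    simp only [Subgroup.coe_mul, Subgroup.coe_inv, MulAut.conjNormal_apply] at h
    have h2 := ‹Z.Normal›.conj_mem _ h (a : P)
    have e : (a : P) * ((a : P)⁻¹ * (t * (a : P) * t⁻¹)) * (a : P)⁻¹ =
        t * (a : P) * t⁻¹ * (a : P)⁻¹ := by group
    rw [e] at h2
    exact h2
  have hfix : ∀ a b : ↥W ⧸ N, (∀ t, ρ t a = a) → (∀ t, ρ t b = b) → a ≠ 1 → b ≠ 1 → a = b := by
    intro a b
    induction a using QuotientGroup.induction_on with
    | H a =>
      induction b using QuotientGroup.induction_on with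
      | H b =>
        intro ha hb ha1 hb1
        have haZ : (a : P) ∉ Z := by
          intro h
          exact ha1 ((QuotientGroup.eq_one_iff _).mpr ((hNmem a).mpr h))
        have hbZ : (b : P) ∉ Z := by
          intro h
          exact hb1 ((QuotientGroup.eq_one_iff _).mpr ((hNmem b).mpr h))
        have h := hsoc _ a.2 _ b.2 (hfixlift a ha) (hfixlift b hb) haZ hbZ
        rw [QuotientGroup.eq, hNmem]
        simp only [Subgroup.coe_mul, Subgroup.coe_inv]
        have h2 := ‹Z.Normal›.conj_mem _ (Z.inv_mem h) (a : P)⁻¹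
        have e : (a : P)⁻¹ * ((a : P) * (b : P)⁻¹)⁻¹ * (a : P)⁻¹⁻¹ = (a : P)⁻¹ * (b : P) := by
          group
        rw [e] at h2
        exact h2
  have hκ1 : κ = 1 := hA6 hMp κ hκodd hP ρ hcomm hfix
  intro w hw
  have h : κ (QuotientGroup.mk (⟨w, hw⟩ : ↥W)) = QuotientGroup.mk (⟨w, hw⟩ : ↥W) := by
    rw [hκ1, MulAut.one_apply]
  rw [hκmk, eq_comm, QuotientGroup.eq, hNmem] at h
  simp only [Subgroup.coe_mul, Subgroup.coe_inv, hφWc] at h
  have h2 := ‹Z.Normal›.conj_mem _ h w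
  have e : w * (w⁻¹ * φ w) * w⁻¹ = φ w * w⁻¹ := by group
  rw [e] at h2
  exact h2

end Cfsg.Agent.Lib.Helper5.RVA7
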