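import Mathlib
import Cfsg.Agent.Lib.Lead.RVDefs
import Cfsg.Agent.Lib.Helper5.RVA7
import Cfsg.Agent.Lib.Helper8.RVA6

/-!
# Farm RV (S3175), unit A7 (`triv_on_quot`), statement verbatim from `Lib/Lead/RVStubs.lean`.
-/

set_option autoImplicit false

namespace Cfsg.Agent.Lib.Helper5.RVA7Final

/-- UNIT A7 (`φ` is trivial on `W / Z`). Build `M = W ⧸ Z`, apply A6. -/
theorem triv_on_quot {P : Type*} [Group P] [Finite P] (hP : IsPGroup 2 P) (W Z : Subgroup P)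
    [W.Normal] [Z.Normal] (hZW : Z ≤ W) (hab : ∀ a ∈ W, ∀ b ∈ W, a * b * a⁻¹ * b⁻¹ ∈ Z)
    (φ : MulAut P) (hφ : Odd (orderOf φ)) (hφW : ∀ w ∈ W, φ w ∈ W) (hφZ : ∀ z ∈ Z, φ z ∈ Z)
    (hφP : ∀ t : P, φ t * t⁻¹ ∈ W)
    (hsoc : ∀ a ∈ W, ∀ b ∈ W, (∀ t : P, t * a * t⁻¹ * a⁻¹ ∈ Z) → (∀ t : P, t * b * t⁻¹ * b⁻¹ ∈ Z) →
      a ∉ Z → b ∉ Z → a * b⁻¹ ∈ Z) :
    ∀ w ∈ W, φ w * w⁻¹ ∈ Z :=
  Cfsg.Agent.Lib.Helper5.RVA7.triv_on_quot_of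
    (fun hM κ hκ _ _ _ hT ρ hcomm hfix =>
      Cfsg.Agent.Lib.Helper8.RVA6.abelian_coprime_fix hM κ hκ hT ρ hcomm hfix)
    hP W Z hZW hab φ hφ hφW hφZ hφP hsoc

end Cfsg.Agent.Lib.Helper5.RVA7Final
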