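import Mathlib
import Cfsg.Prelude.Def_Transfer
import Cfsg.Agent.Lib.Lead.RVDefs

/-!
# Farm RV (S3175), unit B5 (`wc_of_unique`), statement verbatim from `Lib/Lead/RVStubs.lean`.
-/

set_option autoImplicit false

namespace Cfsg.Agent.Lib.Helper5.RVB5

/-- UNIT B5 (from the abstract uniqueness to `IsWeaklyClosed`). -/
theorem wc_of_unique {G : Type*} [Group G] (P : Subgroup G) (W : Subgroup ↥P)
    (h : ∀ X : Subgroup ↥P, Nonempty (↥W ≃* ↥X) → X = W) :
    Cfsg.IsWeaklyClosed (W.map P.subtype) P := by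
  refine ⟨?_, ?_⟩
  · rintro _ ⟨x, _, rfl⟩
    exact x.2
  · intro g hg
    set K : Subgroup G := (W.map P.subtype).map (MulAut.conj g).toMonoidHom with hK
    have e1 : ↥W ≃* ↥(W.map P.subtype) := W.equivMapOfInjective P.subtype P.subtype_injective
    have e2 : ↥(W.map P.subtype) ≃* ↥K :=
      (W.map P.subtype).equivMapOfInjective (MulAut.conj g).toMonoidHom (MulAut.conj g).injective
    have e3 : ↥(K.subgroupOf P) ≃* ↥K := Subgroup.subgroupOfEquivOfLe hg
    have hX : K.subgroupOf P = W := h _ ⟨(e1.trans e2).trans e3.symm⟩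
    have hmap : (K.subgroupOf P).map P.subtype = K := Subgroup.map_subgroupOf_eq_of_le hg
    rw [← hmap, hX]

end Cfsg.Agent.Lib.Helper5.RVB5
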