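import Mathlib
import Cfsg.Agent.Lib.Helper5.RegularNilpotent

set_option autoImplicit false

namespace Cfsg.Agent.Lib.Helper5

open Module

section
variable {F : Type*} [Field F] {V : Type*} [AddCommGroup V] [Module F V] [FiniteDimensional F V]

theorem apply_cyclicBasis (f : Module.End F V) (hn : f ^ finrank F V = 0)
    (z : V) (hz : (f ^ (finrank F V - 1)) z ≠ 0) (i : Fin (finrank F V)) :
    f (cyclicBasis f hn z hz i) =
      if h : (i : ℕ) + 1 < finrank F V then cyclicBasis f hn z hz ⟨(i : ℕ) + 1, h⟩ else 0 := by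
  rw [cyclicBasis_apply]
  split_ifs with h
  · rw [cyclicBasis_apply, pow_succ', Module.End.mul_apply]
  · have : (i : ℕ) + 1 = finrank F V := by have := i.isLt; omega
    rw [← Module.End.mul_apply, ← pow_succ', this, hn]
    rfl

/-- two regular nilpotent endomorphisms are conjugate, compatibly with chosen cyclic vectors -/
theorem exists_equiv_conj_of_cyclic (f f' : Module.End F V) (hn : f ^ finrank F V = 0)
    (hn' : f' ^ finrank F V = 0) (v w : V)
    (hv : (f ^ (finrank F V - 1)) v ≠ 0) (hw : (f' ^ (finrank F V - 1)) w ≠ 0) :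
    ∃ e : V ≃ₗ[F] V, (∀ x, e (f x) = f' (e x)) ∧ e v = w := by
  set bv := cyclicBasis f hn v hv
  set bw := cyclicBasis f' hn' w hw
  refine ⟨bv.equiv bw (Equiv.refl _), ?_, ?_⟩
  · have : (bv.equiv bw (Equiv.refl _)).toLinearMap ∘ₗ f =
        f' ∘ₗ (bv.equiv bw (Equiv.refl _)).toLinearMap := by
      apply bv.ext
      intro i
      simp only [LinearMap.coe_comp, LinearEquiv.coe_coe, Function.comp_apply, Basis.equiv_apply,
        Equiv.refl_apply]
      rw [show f (bv i) = _ from apply_cyclicBasis f hn v hv i,
        show f' (bw i) = _ from apply_cyclicBasis f' hn' w hw i]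
      split_ifs with h
      · rw [Basis.equiv_apply]; rfl
      · rw [map_zero]
    intro x
    exact congrArg (fun φ => φ x) this
  · have hpos : 0 < finrank F V := finrank_pos_of_cyclic f v hv
    have h1 : bv ⟨0, hpos⟩ = v := by
      rw [cyclicBasis_apply]; simp
    have h2 : bw ⟨0, hpos⟩ = w := by
      rw [cyclicBasis_apply]; simp
    rw [← h1, Basis.equiv_apply, Equiv.refl_apply, h2]

omit [FiniteDimensional F V] in
theorem pow_commute_apply (f g : Module.End F V) (hg : ∀ x, g (f x) = f (g x)) (k : ℕ) (x : V) :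
    g ((f ^ k) x) = (f ^ k) (g x) := by
  induction k generalizing x with
  | zero => simp
  | succ k ih =>
    rw [pow_succ, Module.End.mul_apply, ih, hg]
    rfl

theorem det_smul_one_add_nilpotent (g : Module.End F V) (hg : IsNilpotent g) (a : F) :
    LinearMap.det (a • (1 : Module.End F V) + g) = a ^ finrank F V := by
  have h1 : IsNilpotent (-g) := hg.neg
  have h2 := IsNilpotent.charpoly_eq_X_pow_finrank h1
  have h3 := LinearMap.eval_charpoly (-g) a
  rw [h2] at h3
  simp only [Polynomial.eval_pow, Polynomial.eval_X] at h3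
  rw [h3]
  congr 1
  rw [sub_neg_eq_add, Algebra.algebraMap_eq_smul_one]

/-- the determinant of an endomorphism commuting with a regular nilpotent one is an `n`-th power -/
theorem exists_det_eq_pow_of_commute (f : Module.End F V) (hker : finrank F (LinearMap.ker f) ≤ 1)
    (hn : f ^ finrank F V = 0) (hpos : 1 ≤ finrank F V) (e : Module.End F V)
    (he : ∀ x, e (f x) = f (e x)) : ∃ a : F, LinearMap.det e = a ^ finrank F V := by
  obtain ⟨v, hv⟩ := exists_cyclic f hker hn hpos
  set n := finrank F V with hnn
  set x₀ := (f ^ (n - 1)) v with hx₀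
  have hfx : ∀ x, f ((f ^ (n - 1)) x) = 0 := by
    intro x
    rw [← Module.End.mul_apply, ← pow_succ']
    have : n - 1 + 1 = n := by omega
    rw [this, hn]; rfl
  have hx₀k : x₀ ∈ LinearMap.ker f := hfx v
  have hkerspan : (F ∙ x₀) = LinearMap.ker f := by
    apply Submodule.eq_of_le_of_finrank_le
    · rw [Submodule.span_singleton_le_iff_mem]; exact hx₀k
    · rw [finrank_span_singleton hv]; exact hker
  have hex₀ : e x₀ ∈ LinearMap.ker f := by
    rw [LinearMap.mem_ker, ← he, hfx, map_zero]
  rw [← hkerspan] at hex₀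
  obtain ⟨a, ha⟩ := Submodule.mem_span_singleton.1 hex₀
  refine ⟨a, ?_⟩
  set g : Module.End F V := e - a • 1 with hg
  have hgf : ∀ x, g (f x) = f (g x) := by
    intro x
    simp only [hg, LinearMap.sub_apply, LinearMap.smul_apply, Module.End.one_apply, he, map_sub,
      map_smul]
  have hgx₀ : g x₀ = 0 := by
    simp only [hg, LinearMap.sub_apply, LinearMap.smul_apply, Module.End.one_apply, ← ha, sub_self]
  have hrange : LinearMap.range f = LinearMap.ker (f ^ (n - 1)) := by
    apply Submodule.eq_of_le_of_finrank_le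
    · rintro _ ⟨y, rfl⟩
      rw [LinearMap.mem_ker, ← Module.End.mul_apply, ← pow_succ]
      have : n - 1 + 1 = n := by omega
      rw [this, hn]; rfl
    · rw [finrank_ker_pow_eq f hker hn (n - 1) (by omega)]
      have := LinearMap.finrank_range_add_finrank_ker f
      omega
  have hgr : ∀ x, g x ∈ LinearMap.range f := by
    intro x
    rw [hrange, LinearMap.mem_ker, ← pow_commute_apply f g hgf]
    have h1 : (f ^ (n - 1)) x ∈ LinearMap.ker f := hfx x
    rw [← hkerspan] at h1
    obtain ⟨c, hc⟩ := Submodule.mem_span_singleton.1 h1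
    rw [← hc, map_smul, hgx₀, smul_zero]
  have hpow : ∀ k : ℕ, ∀ x, (g ^ k) x ∈ LinearMap.range (f ^ k) := by
    intro k
    induction k with
    | zero => intro x; simp
    | succ k ih =>
      intro x
      rw [pow_succ g, Module.End.mul_apply]
      obtain ⟨y, hy⟩ := hgr x
      rw [← hy]
      have hgkf : ∀ x, (g ^ k) (f x) = f ((g ^ k) x) := by
        intro x
        exact (pow_commute_apply g f (fun x => (hgf x).symm) k x).symm
      rw [hgkf]
      obtain ⟨z, hz⟩ := ih y
      rw [← hz]
      exact ⟨z, by rw [pow_succ', Module.End.mul_apply]⟩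
  have hgn : g ^ n = 0 := by
    ext x
    have := hpow n x
    rw [hn, LinearMap.range_zero, Submodule.mem_bot] at this
    rw [this]; rfl
  have heq : e = a • (1 : Module.End F V) + g := by
    rw [hg]; abel
  rw [heq]
  exact det_smul_one_add_nilpotent g ⟨n, hgn⟩ a

end

end Cfsg.Agent.Lib.Helper5
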