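import Mathlib
import Cfsg.Agent.Lib.Helper6.RvDefs
import Cfsg.Agent.Lib.Helper6.RvGen
import Cfsg.Agent.Lib.Helper6.PermChar
import Cfsg.Agent.Lib.Helper6.GenCharOps
import Cfsg.Agent.Lib.Helper6.RvIndexFix
import Cfsg.Agent.Lib.Helper7.RvB5
import Cfsg.Agent.Lib.Helper7.RvB5n

/-!
# S4959 piece B6: the orthogonal part (`mdata_of_quadratic`)
-/

set_option autoImplicit false
set_option linter.unusedVariables false
set_option linter.unusedSectionVars false
set_option linter.style.longLine false
set_option linter.style.haveILetI false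

namespace Cfsg.Agent.Lib.Helper6.Rv

open scoped ComplexConjugate
open Cfsg.Agent.Lib.Helper6

universe u v

section Quad

variable {p : ℕ} [Fact p.Prime] {H : Type u} [Group H] {M : Type v} [AddCommGroup M]
  [Module (ZMod p) M]

/-- the action of `H` on an invariant subset of the module -/
@[reducible] def h5_subAction (ρ : Representation (ZMod p) H M) (P : M → Prop)
    (hP : ∀ h x, P x → P (ρ h x)) : MulAction H {x : M // P x} where
  smul h x := ⟨ρ h x.1, hP h x.1 x.2⟩
  one_smul x := by
    apply Subtype.ext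
    show ρ 1 x.1 = x.1
    rw [map_one]; rfl
  mul_smul g h x := by
    apply Subtype.ext
    show ρ (g * h) x.1 = ρ g (ρ h x.1)
    rw [map_mul]; rfl

theorem h5_permChar_subAction (ρ : Representation (ZMod p) H M) (P : M → Prop)
    (hP : ∀ h x, P x → P (ρ h x)) (h : H) :
    @permChar H _ {x : M // P x} (h5_subAction ρ P hP) h =
      (Nat.card {c : M // ρ h c = c ∧ P c} : ℂ) := by
  letI := h5_subAction ρ P hP
  unfold permChar
  congr 1
  apply Nat.card_congr
  exact
    { toFun := fun x => ⟨x.1.1, by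
        have h1 := x.2
        rw [MulAction.mem_fixedBy] at h1
        exact ⟨congrArg Subtype.val h1, x.1.2⟩⟩
      invFun := fun c => ⟨⟨c.1, c.2.2⟩, by
        rw [MulAction.mem_fixedBy]
        exact Subtype.ext c.2.1⟩
      left_inv := fun x => rfl
      right_inv := fun c => rfl }

theorem h5_zetaP_pow (p : ℕ) [Fact p.Prime] : zetaP p ^ p = 1 := by
  unfold zetaP
  rw [← Complex.exp_nat_mul]
  have hp0 : (p : ℂ) ≠ 0 := Nat.cast_ne_zero.mpr (Fact.out : p.Prime).ne_zero
  rw [mul_div_cancel₀ _ hp0]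
  exact Complex.exp_two_pi_mul_I

theorem h5_card_pow (N : Type*) [AddCommGroup N] [Module (ZMod p) N] [Finite N] :
    ∃ a : ℕ, Nat.card N = p ^ a := by
  haveI : Fintype N := Fintype.ofFinite N
  refine ⟨Module.finrank (ZMod p) N, ?_⟩
  rw [Nat.card_eq_fintype_card, Module.card_eq_pow_finrank (K := ZMod p) (V := N), ZMod.card]

theorem h5_card_fix_pow [Finite M] (g : M →ₗ[ZMod p] M) :
    ∃ b : ℕ, Nat.card {x : M // g x = x} = p ^ b := by
  obtain ⟨b, hb⟩ := h5_card_pow (p := p) (LinearMap.ker (g - LinearMap.id))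
  refine ⟨b, ?_⟩
  rw [← hb]
  apply Nat.card_congr
  refine Equiv.subtypeEquivRight ?_
  intro x
  rw [LinearMap.mem_ker, LinearMap.sub_apply, LinearMap.id_apply, sub_eq_zero]

theorem h5_all_fixed_of_card [Finite M] (g : M → M)
    (hc : Nat.card {x : M // g x = x} = Nat.card M) : ∀ x, g x = x := by
  have hinj : Function.Injective (Subtype.val : {x : M // g x = x} → M) := Subtype.val_injective
  have hbij := Function.Injective.bijective_of_nat_card_le hinj (le_of_eq hc.symm)
  intro x
  obtain ⟨y, hy⟩ := hbij.2 x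
  rw [← hy]
  exact y.2

variable [Finite H] [Finite M]

/-- B6: the orthogonal part -/
theorem mdata_of_quadratic (hcop : ¬ p ∣ Nat.card H) (D : QuadData p H M) : MData p D.ρ := by
  classical
  have hpp : p.Prime := Fact.out
  have hMpos : 0 < Nat.card M := Nat.card_pos
  obtain ⟨a, ha⟩ := h5_card_pow (p := p) M
  -- the order of `ρ h`
  have hr : ∀ h : H, (D.ρ h) ^ (Nat.card H) = 1 := by
    intro h
    rw [← map_pow, pow_card_eq_one', map_one]
  have hFpos : ∀ h : H, 0 < Nat.card {x : M // D.ρ h x = x} := by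
    intro h
    haveI : Nonempty {x : M // D.ρ h x = x} := ⟨⟨0, map_zero _⟩⟩
    exact Nat.card_pos
  refine ⟨ZMod p, inferInstance, fun j h => (tauCount D.q (D.ρ h) j : ℂ),
    fun j => zetaP p ^ j.val, ?_, ?_, ?_, ?_, ?_⟩
  · -- roots of unity
    intro j
    rw [← pow_mul, mul_comm, pow_mul, h5_zetaP_pow, one_pow]
  · -- generalized characters
    intro j
    -- the actions
    letI actM : MulAction H {x : M // True} := h5_subAction D.ρ (fun _ => True) (fun _ _ _ => trivial)
    let actL : ∀ i : ZMod p, MulAction H {x : M // D.q x = i} := fun i =>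
      h5_subAction D.ρ (fun x => D.q x = i) (fun h x hx => by rw [D.hinv]; exact hx)
    let πM : H → ℂ := @permChar H _ {x : M // True} actM
    let πL : ZMod p → H → ℂ := fun i => @permChar H _ {x : M // D.q x = i} (actL i)
    have hπM : ∀ h, πM h = (Nat.card {x : M // D.ρ h x = x} : ℂ) := by
      intro h
      show @permChar H _ {x : M // True} actM h = _
      rw [h5_permChar_subAction]
      congr 1
      apply Nat.card_congr
      exact Equiv.subtypeEquivRight (fun x => by simp)
    have hπL : ∀ i h, πL i h = (piCount D.q (D.ρ h) i : ℂ) := by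
      intro i h
      show @permChar H _ {x : M // D.q x = i} (actL i) h = _
      rw [h5_permChar_subAction]
      rfl
    have hπMc : Cfsg.IsGeneralizedCharacter H πM :=
      IsCharacter.isGeneralizedCharacter (@isCharacter_permChar H _ {x : M // True} actM _)
    have hπLc : ∀ i, Cfsg.IsGeneralizedCharacter H (πL i) := fun i =>
      IsCharacter.isGeneralizedCharacter (@isCharacter_permChar H _ {x : M // D.q x = i} (actL i) _)
    have h1c : Cfsg.IsGeneralizedCharacter H (fun _ : H => (1 : ℂ)) :=
      IsCharacter.isGeneralizedCharacter isCharacter_one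
    have hDM := isGeneralizedCharacter_index_fix hcop D.ρ
    set DM : H → ℂ := fun h => (Nat.card M : ℂ) / (Nat.card {x : M // D.ρ h x = x} : ℂ) with hDMdef
    -- the bracket
    let Br : H → ℂ := ((Nat.card M : ℂ) • (fun _ : H => (1 : ℂ)) - (Nat.card M : ℂ) • πM) +
      (p : ℂ) • ∑ i : ZMod p, ((levelCount D.q (i + j) : ℕ) : ℂ) • πL i
    have hBr : Cfsg.IsGeneralizedCharacter H Br := by
      apply IsGeneralizedCharacter.add
      · apply IsGeneralizedCharacter.sub
        · exact IsGeneralizedCharacter.natCast_smul h1c _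
        · exact IsGeneralizedCharacter.natCast_smul hπMc _
      · apply IsGeneralizedCharacter.natCast_smul
        apply IsGeneralizedCharacter.sum
        intro i _
        exact IsGeneralizedCharacter.natCast_smul (hπLc i) _
    have hprod : Cfsg.IsGeneralizedCharacter H (DM * Br) := IsGeneralizedCharacter.mul hDM hBr
    -- the identity
    have hid : (((p * Nat.card M : ℕ) : ℂ) • fun h => (tauCount D.q (D.ρ h) j : ℂ)) = DM * Br := by
      funext h
      have hti := tau_identity D.q D.B D.hq D.hBadd D.hBnd (D.ρ h) (D.hinv h) (Nat.card H) (hr h) hcop j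
      have htiC : (p : ℂ) * (Nat.card {x : M // D.ρ h x = x} : ℂ) * (tauCount D.q (D.ρ h) j : ℂ) =
          (Nat.card M : ℂ) - (Nat.card M : ℂ) * (Nat.card {x : M // D.ρ h x = x} : ℂ) +
            (p : ℂ) * ∑ i : ZMod p, (levelCount D.q (i + j) : ℂ) * (piCount D.q (D.ρ h) i : ℂ) := by
        exact_mod_cast hti
      have hF0 : (Nat.card {x : M // D.ρ h x = x} : ℂ) ≠ 0 :=
        Nat.cast_ne_zero.mpr (hFpos h).ne'
      have hBrh : Br h = (Nat.card M : ℂ) - (Nat.card M : ℂ) * (Nat.card {x : M // D.ρ h x = x} : ℂ) +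
            (p : ℂ) * ∑ i : ZMod p, (levelCount D.q (i + j) : ℂ) * (piCount D.q (D.ρ h) i : ℂ) := by
        show ((Nat.card M : ℂ) • (fun _ : H => (1 : ℂ)) - (Nat.card M : ℂ) • πM +
          (p : ℂ) • ∑ i : ZMod p, ((levelCount D.q (i + j) : ℕ) : ℂ) • πL i) h = _
        simp only [Pi.add_apply, Pi.sub_apply, Pi.smul_apply, smul_eq_mul, mul_one,
          Finset.sum_apply, hπM, hπL]
      show ((p * Nat.card M : ℕ) : ℂ) * (tauCount D.q (D.ρ h) j : ℂ) = DM h * Br h
      rw [hBrh, ← htiC, hDMdef]
      push_cast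
      field_simp
    -- Bezout
    have hcls : Cfsg.IsClassFunction H (fun h => (tauCount D.q (D.ρ h) j : ℂ)) := by
      have h2 := IsGeneralizedCharacter.isClassFunction hprod
      rw [← hid] at h2
      intro g h
      have h3 := h2 g h
      simp only [Pi.smul_apply, smul_eq_mul] at h3
      have hne : ((p * Nat.card M : ℕ) : ℂ) ≠ 0 :=
        Nat.cast_ne_zero.mpr (Nat.mul_pos hpp.pos hMpos).ne'
      exact mul_left_cancel₀ hne h3
    apply isGeneralizedCharacter_of_coprime_smul hcls (fun g => ⟨(tauCount D.q (D.ρ g) j : ℤ), by simp⟩)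
      (p * Nat.card M)
    · rw [ha]
      have hc1 : Nat.Coprime p (Nat.card H) := (Nat.Prime.coprime_iff_not_dvd hpp).mpr hcop
      exact Nat.Coprime.mul_left hc1 (Nat.Coprime.pow_left a hc1)
    · rw [hid]
      exact hprod
  · -- trivial action
    intro h hx
    have hs := tau_sum D.q (D.ρ h)
    have hF : Nat.card {x : M // D.ρ h x = x} = Nat.card M := by
      apply Nat.card_congr
      exact (Equiv.subtypeUnivEquiv hx)
    rw [hF] at hs
    have hs1 : (∑ j : ZMod p, tauCount D.q (D.ρ h) j) = 1 := by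
      have : (∑ j : ZMod p, tauCount D.q (D.ρ h) j) * Nat.card M = 1 * Nat.card M := by
        rw [hs, one_mul]
      exact Nat.eq_of_mul_eq_mul_right hMpos this
    have : (∑ j : ZMod p, (tauCount D.q (D.ρ h) j : ℂ)) = ((∑ j : ZMod p, tauCount D.q (D.ρ h) j : ℕ) : ℂ) := by
      push_cast; rfl
    rw [this, hs1, Nat.cast_one]
  · -- nontrivial action
    intro h hx
    have hs := tau_sum D.q (D.ρ h)
    obtain ⟨b, hb⟩ := h5_card_fix_pow (p := p) (D.ρ h)
    rw [hb, ha] at hs
    set s := ∑ j : ZMod p, tauCount D.q (D.ρ h) j with hsdef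
    have hdvd : s ∣ p ^ a := ⟨p ^ b, hs.symm⟩
    obtain ⟨c, hca, hc⟩ := (Nat.dvd_prime_pow hpp).mp hdvd
    have hc0 : c ≠ 0 := by
      intro h0
      rw [h0, pow_zero] at hc
      rw [hc, one_mul] at hs
      apply hx
      apply h5_all_fixed_of_card
      rw [hb, ha, hs]
    obtain ⟨c', rfl⟩ := Nat.exists_eq_succ_of_ne_zero hc0
    refine ⟨((p ^ c' : ℕ) : ℂ), isIntegral_natCast _, ?_⟩
    have : (∑ j : ZMod p, (tauCount D.q (D.ρ h) j : ℂ)) = ((s : ℕ) : ℂ) := by
      rw [hsdef]; push_cast; rfl
    rw [this, hc, pow_succ]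
    push_cast
    ring
  · -- norms
    intro k hk h
    exact tau_norm D.q D.B D.hq D.hBadd D.hBnd (D.ρ h) (D.hinv h) (Nat.card H) (hr h) hcop k hk

end Quad

end Cfsg.Agent.Lib.Helper6.Rv
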