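import Mathlib
import Cfsg.Agent.Lib.Helper1.S1233Defs

/-!
# S1233 farm (helper5): the abelian group `⟨a, b⟩` with `a² = b² = z`, `z² = 1` (type `Z4 × Z2`)
-/

set_option autoImplicit false

namespace Cfsg.Agent.Lib.Helper5.S1233

open Cfsg.Agent.Lib.Helper1.S1233

variable {S : Type*} [Group S] {a b z : S}

/-- every element of `⟨a, b⟩` is `a ^ k * b ^ l` with `k < 4`, `l < 2` -/
theorem pair_form (hz : z * z = 1) (haa : a * a = z) (hbb : b * b = z) (hab : a * b = b * a) :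
    ∀ t ∈ Subgroup.closure {a, b}, ∃ k l : ℕ, k < 4 ∧ l < 2 ∧ t = a ^ k * b ^ l := by
  have hcomm : Commute a b := hab
  have ha4 : a ^ 4 = 1 := by
    have h : a ^ 4 = (a * a) * (a * a) := by rw [show (4 : ℕ) = 2 + 2 from rfl, pow_add, pow_two]
    rw [h, haa, hz]
  have hb4 : b ^ 4 = 1 := by
    have h : b ^ 4 = (b * b) * (b * b) := by rw [show (4 : ℕ) = 2 + 2 from rfl, pow_add, pow_two]
    rw [h, hbb, hz]
  have hb2 : b ^ 2 = a ^ 2 := by rw [pow_two, pow_two, hbb, haa]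
  have ha3 : a⁻¹ = a ^ 3 := by
    apply inv_eq_of_mul_eq_one_right
    rw [← pow_succ', ha4]
  have hb3 : b⁻¹ = b ^ 3 := by
    apply inv_eq_of_mul_eq_one_right
    rw [← pow_succ', hb4]
  have hgen : ∀ t ∈ Subgroup.closure {a, b}, ∃ k l : ℕ, t = a ^ k * b ^ l := by
    intro t ht
    induction ht using Subgroup.closure_induction with
    | mem t ht =>
      rcases ht with rfl | rfl
      · exact ⟨1, 0, by simp⟩
      · exact ⟨0, 1, by simp⟩
    | one => exact ⟨0, 0, by simp⟩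
    | mul x y _ _ ihx ihy =>
      obtain ⟨k, l, rfl⟩ := ihx
      obtain ⟨k', l', rfl⟩ := ihy
      refine ⟨k + k', l + l', ?_⟩
      have h1 : b ^ l * a ^ k' = a ^ k' * b ^ l := ((hcomm.pow_pow k' l).eq).symm
      calc a ^ k * b ^ l * (a ^ k' * b ^ l') = a ^ k * (b ^ l * a ^ k') * b ^ l' := by group
        _ = a ^ k * (a ^ k' * b ^ l) * b ^ l' := by rw [h1]
        _ = a ^ (k + k') * b ^ (l + l') := by rw [pow_add, pow_add]; group
    | inv x _ ihx =>
      obtain ⟨k, l, rfl⟩ := ihx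
      refine ⟨3 * k, 3 * l, ?_⟩
      have h1 : (a ^ k * b ^ l)⁻¹ = (a⁻¹) ^ k * (b⁻¹) ^ l := by
        rw [mul_inv_rev, inv_pow, inv_pow]
        exact ((hcomm.pow_pow k l).inv_inv).eq.symm
      rw [h1, ha3, hb3, ← pow_mul, ← pow_mul]
  intro t ht
  obtain ⟨k, l, rfl⟩ := hgen t ht
  refine ⟨(k + 2 * (l / 2)) % 4, l % 2, Nat.mod_lt _ (by norm_num), Nat.mod_lt _ (by norm_num), ?_⟩
  have hl : b ^ l = a ^ (2 * (l / 2)) * b ^ (l % 2) := by
    conv_lhs => rw [← Nat.div_add_mod l 2]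
    rw [pow_add, pow_mul, hb2, ← pow_mul]
  have hk : a ^ (k + 2 * (l / 2)) = a ^ ((k + 2 * (l / 2)) % 4) := by
    conv_lhs => rw [← Nat.div_add_mod (k + 2 * (l / 2)) 4]
    rw [pow_add, pow_mul, ha4, one_pow, one_mul]
  rw [hl, ← mul_assoc, ← pow_add, hk]

theorem pair_sq (haa : a * a = z) (hbb : b * b = z) (hab : a * b = b * a) (k l : ℕ) :
    (a ^ k * b ^ l) * (a ^ k * b ^ l) = z ^ (k + l) := by
  have hcomm : Commute a b := hab
  have h1 : b ^ l * a ^ k = a ^ k * b ^ l := ((hcomm.pow_pow k l).eq).symm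
  calc a ^ k * b ^ l * (a ^ k * b ^ l) = a ^ k * (b ^ l * a ^ k) * b ^ l := by group
    _ = a ^ k * (a ^ k * b ^ l) * b ^ l := by rw [h1]
    _ = (a ^ k * a ^ k) * (b ^ l * b ^ l) := by group
    _ = z ^ (k + l) := by
      rw [← (Commute.refl a).mul_pow, ← (Commute.refl b).mul_pow, haa, hbb, ← pow_add]

/-- the elements of `⟨a, b⟩` with square `z` -/
theorem pair_sq_z (hz : z * z = 1) (hzne : z ≠ 1) (hzc : ∀ g : S, g * z = z * g)
    (haa : a * a = z) (hbb : b * b = z) (hab : a * b = b * a) :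
    ∀ t ∈ Subgroup.closure {a, b}, t * t = z →
      ∃ s : S, (s = 1 ∨ s = z) ∧ (t = a * s ∨ t = b * s) := by
  intro t ht htt
  obtain ⟨k, l, hk, hl, rfl⟩ := pair_form hz haa hbb hab t ht
  rw [pair_sq haa hbb hab] at htt
  have hz2 : z ^ 2 = 1 := by rw [pow_two, hz]
  have hz3 : z ^ 3 = z := by rw [pow_succ, hz2, one_mul]
  have hz4 : z ^ 4 = 1 := by rw [pow_succ, hz3, hz]
  interval_cases k <;> interval_cases l
  · exfalso; rw [pow_zero] at htt; exact hzne htt.symm
  · exact ⟨1, Or.inl rfl, Or.inr (by simp)⟩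
  · exact ⟨1, Or.inl rfl, Or.inl (by simp)⟩
  · exfalso; rw [show 1 + 1 = 2 from rfl, hz2] at htt; exact hzne htt.symm
  · exfalso; rw [show 2 + 0 = 2 from rfl, hz2] at htt; exact hzne htt.symm
  · refine ⟨z, Or.inr rfl, Or.inr ?_⟩
    rw [pow_two, haa, pow_one, hzc b]
  · refine ⟨z, Or.inr rfl, Or.inl ?_⟩
    rw [pow_zero, mul_one, pow_succ, pow_two, haa, hzc a]
  · exfalso; rw [show 3 + 1 = 4 from rfl, hz4] at htt; exact hzne htt.symm

/-- the elements of `⟨a, b⟩` with square `1` -/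
theorem pair_sq_one (hz : z * z = 1) (hzne : z ≠ 1) (hzc : ∀ g : S, g * z = z * g)
    (haa : a * a = z) (hbb : b * b = z) (hab : a * b = b * a) :
    ∀ t ∈ Subgroup.closure {a, b}, t * t = 1 →
      t = 1 ∨ t = z ∨ t = a * b ∨ t = a * b * z := by
  intro t ht htt
  obtain ⟨k, l, hk, hl, rfl⟩ := pair_form hz haa hbb hab t ht
  rw [pair_sq haa hbb hab] at htt
  have hz2 : z ^ 2 = 1 := by rw [pow_two, hz]
  have hz3 : z ^ 3 = z := by rw [pow_succ, hz2, one_mul]
  interval_cases k <;> interval_cases l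
  · left; simp
  · exfalso; rw [show 0 + 1 = 1 from rfl, pow_one] at htt; exact hzne htt
  · exfalso; rw [show 1 + 0 = 1 from rfl, pow_one] at htt; exact hzne htt
  · right; right; left; simp
  · right; left; rw [pow_zero, mul_one, pow_two, haa]
  · exfalso; rw [show 2 + 1 = 3 from rfl, hz3] at htt; exact hzne htt
  · exfalso; rw [show 3 + 0 = 3 from rfl, hz3] at htt; exact hzne htt
  · right; right; right
    rw [pow_one, pow_succ, pow_two, haa, mul_assoc, ← hzc (a * b)]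

/-- every element of `⟨a, b⟩` commutes with `a` and `b` -/
theorem pair_comm_gen (hab : a * b = b * a) :
    ∀ t ∈ Subgroup.closure {a, b}, t * a = a * t ∧ t * b = b * t := by
  intro t ht
  have h : Subgroup.closure {a, b} ≤ Subgroup.centralizer {a, b} := by
    rw [Subgroup.closure_le]
    intro x hx
    rw [SetLike.mem_coe, Subgroup.mem_centralizer_iff]
    intro y hy
    rcases hx with rfl | rfl <;> rcases hy with rfl | rfl
    · rfl
    · exact hab.symm
    · exact hab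
    · rfl
  have h2 := Subgroup.mem_centralizer_iff.mp (h ht)
  exact ⟨(h2 a (by simp)).symm, (h2 b (by simp)).symm⟩

end Cfsg.Agent.Lib.Helper5.S1233
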