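import Mathlib
import Cfsg.Agent.Lib.Helper1.S1233Defs
import Cfsg.Agent.Lib.Helper5.S1233Pair

/-!
# S1233 farm (helper5): auxiliary lemmas for D5 (Lemma U)
-/

set_option autoImplicit false

namespace Cfsg.Agent.Lib.Helper5.S1233

open Cfsg.Agent.Lib.Helper1.S1233

variable {S : Type*} [Group S]

theorem comm_of_conj {g y : S} (h : g⁻¹ * y * g = y) : y * g = g * y := by
  have h1 : g * (g⁻¹ * y * g) = g * y := by rw [h]
  rw [← h1]
  group

theorem conj_of_comm {g y : S} (h : y * g = g * y) : g⁻¹ * y * g = y := by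
  rw [mul_assoc, h, ← mul_assoc, inv_mul_cancel, one_mul]

/-- if `g` maps `y` to `y z` then `y` maps `g` to `g z` -/
theorem conj_swap {g y z : S} (hzc : ∀ t : S, t * z = z * t) (hz : z * z = 1)
    (h : g⁻¹ * y * g = y * z) : y⁻¹ * g * y = g * z := by
  have h1 : y * g = g * (y * z) := by
    rw [← h]
    group
  have h2 : g * y = y * g * z := by
    rw [h1, mul_assoc, mul_assoc, hz, mul_one]
  rw [mul_assoc, h2]
  group

/-- the square of an element normalising `⟨y₁, y₂⟩` acts on it as the identity or the inversion -/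
theorem sq_act {y₁ y₂ z : S} (hz : z * z = 1) (hzne : z ≠ 1) (hzc : ∀ g : S, g * z = z * g)
    (h11 : y₁ * y₁ = z) (h22 : y₂ * y₂ = z) (h12 : y₁ * y₂ = y₂ * y₁)
    (hne : y₂ ∉ Subgroup.zpowers y₁) (m : S)
    (hm1 : m⁻¹ * y₁ * m ∈ Subgroup.closure {y₁, y₂})
    (hm2 : m⁻¹ * y₂ * m ∈ Subgroup.closure {y₁, y₂}) :
    ((m * m)⁻¹ * y₁ * (m * m) = y₁ ∧ (m * m)⁻¹ * y₂ * (m * m) = y₂) ∨
    ((m * m)⁻¹ * y₁ * (m * m) = y₁ * z ∧ (m * m)⁻¹ * y₂ * (m * m) = y₂ * z) := by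
  have hconjz : ∀ s : S, (s = 1 ∨ s = z) → ∀ g : S, g * s = s * g := by
    rintro s (rfl | rfl) g
    · rw [mul_one, one_mul]
    · exact hzc g
  have hss : ∀ s : S, (s = 1 ∨ s = z) → s * s = 1 := by
    rintro s (rfl | rfl)
    · rw [mul_one]
    · exact hz
  have hsq : ∀ y : S, y * y = z → (m⁻¹ * y * m) * (m⁻¹ * y * m) = z := by
    intro y hy
    have h : (m⁻¹ * y * m) * (m⁻¹ * y * m) = m⁻¹ * (y * y) * m := by group
    rw [h, hy, mul_assoc, ← hzc m, ← mul_assoc, inv_mul_cancel, one_mul]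
  obtain ⟨s₁, hs₁, hp₁⟩ := pair_sq_z hz hzne hzc h11 h22 h12 _ hm1 (hsq y₁ h11)
  obtain ⟨s₂, hs₂, hp₂⟩ := pair_sq_z hz hzne hzc h11 h22 h12 _ hm2 (hsq y₂ h22)
  have hc1 : (m * m)⁻¹ * y₁ * (m * m) = m⁻¹ * (m⁻¹ * y₁ * m) * m := by group
  have hc2 : (m * m)⁻¹ * y₂ * (m * m) = m⁻¹ * (m⁻¹ * y₂ * m) * m := by group
  have hcs : ∀ (y s : S), (s = 1 ∨ s = z) → m⁻¹ * (y * s) * m = (m⁻¹ * y * m) * s := by
    intro y s hs
    have h := hconjz s hs m
    calc m⁻¹ * (y * s) * m = m⁻¹ * y * (s * m) := by group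
      _ = m⁻¹ * y * (m * s) := by rw [h]
      _ = (m⁻¹ * y * m) * s := by group
  have hbad : ∀ y : S, (m⁻¹ * y₁ * m = y * s₁) → (m⁻¹ * y₂ * m = y * s₂) → False := by
    intro y e1 e2
    have hp : m⁻¹ * y₂ * m = (m⁻¹ * y₁ * m) * (s₁ * s₂) := by
      rw [e1, e2, mul_assoc, ← mul_assoc s₁, hss s₁ hs₁, one_mul]
    have hs12 : ∀ g : S, g * (s₁ * s₂) = (s₁ * s₂) * g := by
      intro g
      rw [← mul_assoc, hconjz s₁ hs₁ g, mul_assoc, hconjz s₂ hs₂ g, ← mul_assoc]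
    have hy : y₂ = y₁ * (s₁ * s₂) := by
      have h3 : m⁻¹ * (y₁ * (s₁ * s₂)) * m = m⁻¹ * y₂ * m := by
        calc m⁻¹ * (y₁ * (s₁ * s₂)) * m = m⁻¹ * y₁ * ((s₁ * s₂) * m) := by group
          _ = m⁻¹ * y₁ * (m * (s₁ * s₂)) := by rw [hs12 m]
          _ = (m⁻¹ * y₁ * m) * (s₁ * s₂) := by group
          _ = m⁻¹ * y₂ * m := hp.symm
      have h4 := mul_right_cancel h3
      exact (mul_left_cancel h4).symm
    apply hne
    rw [hy]
    have hzy : z ∈ Subgroup.zpowers y₁ := by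
      rw [← h11, ← pow_two]
      exact pow_mem (Subgroup.mem_zpowers _) 2
    have hsmem : ∀ s : S, (s = 1 ∨ s = z) → s ∈ Subgroup.zpowers y₁ := by
      rintro s (rfl | rfl)
      · exact one_mem _
      · exact hzy
    exact mul_mem (Subgroup.mem_zpowers _) (mul_mem (hsmem s₁ hs₁) (hsmem s₂ hs₂))
  rcases hp₁ with e1 | e1 <;> rcases hp₂ with e2 | e2
  · exact (hbad y₁ e1 e2).elim
  · left
    constructor
    · rw [hc1, e1, hcs y₁ s₁ hs₁, e1, mul_assoc, hss s₁ hs₁, mul_one]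
    · rw [hc2, e2, hcs y₂ s₂ hs₂, e2, mul_assoc, hss s₂ hs₂, mul_one]
  · have hs12 : s₁ * s₂ = 1 ∨ s₁ * s₂ = z := by
      rcases hs₁ with rfl | rfl <;> rcases hs₂ with rfl | rfl
      · left; rw [mul_one]
      · right; rw [one_mul]
      · right; rw [mul_one]
      · left; exact hz
    have r1 : (m * m)⁻¹ * y₁ * (m * m) = y₁ * (s₁ * s₂) := by
      rw [hc1, e1, hcs y₂ s₁ hs₁, e2, mul_assoc, hconjz s₁ hs₁ s₂]
    have r2 : (m * m)⁻¹ * y₂ * (m * m) = y₂ * (s₁ * s₂) := by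
      rw [hc2, e2, hcs y₁ s₂ hs₂, e1, mul_assoc]
    rcases hs12 with h | h
    · left
      rw [r1, r2, h, mul_one, mul_one]
      exact ⟨rfl, rfl⟩
    · right
      rw [r1, r2, h]
      exact ⟨rfl, rfl⟩
  · exact (hbad y₂ e1 e2).elim

/-- two generating pairs of the same `Z4 × Z2` -/
theorem pair_eq {a b y₁ y₂ z : S} (hz : z * z = 1) (hzne : z ≠ 1) (hzc : ∀ g : S, g * z = z * g)
    (haa : a * a = z) (hbb : b * b = z) (hab : a * b = b * a)
    (h11 : y₁ * y₁ = z) (h22 : y₂ * y₂ = z) (hne : y₂ ∉ Subgroup.zpowers y₁)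
    (hy₁ : y₁ ∈ Subgroup.closure {a, b}) (hy₂ : y₂ ∈ Subgroup.closure {a, b}) :
    Subgroup.closure {y₁, y₂} = Subgroup.closure {a, b} := by
  have hss : ∀ s : S, (s = 1 ∨ s = z) → s * s = 1 := by
    rintro s (rfl | rfl)
    · rw [mul_one]
    · exact hz
  have hy1B : y₁ ∈ Subgroup.closure {y₁, y₂} := Subgroup.subset_closure (by simp)
  have hy2B : y₂ ∈ Subgroup.closure {y₁, y₂} := Subgroup.subset_closure (by simp)
  have hzB : z ∈ Subgroup.closure {y₁, y₂} := by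
    rw [← h11]
    exact mul_mem hy1B hy1B
  have hsB : ∀ s : S, (s = 1 ∨ s = z) → s ∈ Subgroup.closure {y₁, y₂} := by
    rintro s (rfl | rfl)
    · exact one_mem _
    · exact hzB
  have hzy : z ∈ Subgroup.zpowers y₁ := by
    rw [← h11, ← pow_two]
    exact pow_mem (Subgroup.mem_zpowers _) 2
  have hsmem : ∀ s : S, (s = 1 ∨ s = z) → s ∈ Subgroup.zpowers y₁ := by
    rintro s (rfl | rfl)
    · exact one_mem _
    · exact hzy
  obtain ⟨s₁, hs₁, hp₁⟩ := pair_sq_z hz hzne hzc haa hbb hab y₁ hy₁ h11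
  obtain ⟨s₂, hs₂, hp₂⟩ := pair_sq_z hz hzne hzc haa hbb hab y₂ hy₂ h22
  have hbad : ∀ y : S, y₁ = y * s₁ → y₂ = y * s₂ → False := by
    intro y e1 e2
    apply hne
    have : y₂ = y₁ * (s₁ * s₂) := by
      rw [e1, e2, mul_assoc, ← mul_assoc s₁, hss s₁ hs₁, one_mul]
    rw [this]
    exact mul_mem (Subgroup.mem_zpowers _) (mul_mem (hsmem s₁ hs₁) (hsmem s₂ hs₂))
  apply le_antisymm
  · rw [Subgroup.closure_le]
    rintro x (rfl | rfl)
    · exact hy₁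
    · exact hy₂
  · rw [Subgroup.closure_le]
    have key : ∀ (y x s : S), (s = 1 ∨ s = z) → y = x * s → y ∈ Subgroup.closure {y₁, y₂} →
        x ∈ Subgroup.closure {y₁, y₂} := by
      intro y x s hs hyx hy
      have : x = y * s := by rw [hyx, mul_assoc, hss s hs, mul_one]
      rw [this]
      exact mul_mem hy (hsB s hs)
    rcases hp₁ with e1 | e1 <;> rcases hp₂ with e2 | e2
    · exact (hbad a e1 e2).elim
    · rintro x (rfl | rfl)
      · exact key y₁ _ s₁ hs₁ e1 hy1B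
      · exact key y₂ _ s₂ hs₂ e2 hy2B
    · rintro x (rfl | rfl)
      · exact key y₂ _ s₂ hs₂ e2 hy2B
      · exact key y₁ _ s₁ hs₁ e1 hy1B
    · exact (hbad b e1 e2).elim

end Cfsg.Agent.Lib.Helper5.S1233
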