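import Mathlib
import Cfsg.Agent.Lib.Helper1.S1233Defs
import Cfsg.Agent.Lib.Helper5.S1233Pair
import Cfsg.Agent.Lib.Helper5.S1233D5a

/-!
# S1233 farm (helper5): more auxiliary lemmas for D5 (Lemma U), pure group theory
-/

set_option autoImplicit false

namespace Cfsg.Agent.Lib.Helper5.S1233

open Cfsg.Agent.Lib.Helper1.S1233

variable {S : Type*} [Group S]

theorem conj_mul' (g a b : S) : g⁻¹ * (a * b) * g = (g⁻¹ * a * g) * (g⁻¹ * b * g) := by group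

theorem mul_z_mul_z {z : S} (hzc : ∀ g : S, g * z = z * g) (hz : z * z = 1) (a b : S) :
    (a * z) * (b * z) = a * b := by
  calc a * z * (b * z) = a * (z * b) * z := by group
    _ = a * (b * z) * z := by rw [hzc b]
    _ = a * b * (z * z) := by group
    _ = a * b := by rw [hz, mul_one]

theorem mem_Rs_of_conj {a b y : S} (ha : a⁻¹ * y * a = y) (hb : b⁻¹ * y * b = y) : y ∈ Rs a b := by
  rw [Subgroup.mem_centralizer_iff]
  rintro h (rfl | rfl)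
  · exact (comm_of_conj ha).symm
  · exact (comm_of_conj hb).symm

theorem mem_Rs_of_conj' {a b r : S} (ha : r⁻¹ * a * r = a) (hb : r⁻¹ * b * r = b) : r ∈ Rs a b := by
  rw [Subgroup.mem_centralizer_iff]
  rintro h (rfl | rfl)
  · exact comm_of_conj ha
  · exact comm_of_conj hb

theorem inv_eq_mul_z {i z : S} (hz : z * z = 1) (hii : i * i = z) : i⁻¹ = i * z := by
  apply inv_eq_of_mul_eq_one_right
  rw [← mul_assoc, hii, hz]

/-- `y₁ y₂` is an involution -/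
theorem prod_sq {y₁ y₂ z : S} (hz : z * z = 1) (h11 : y₁ * y₁ = z) (h22 : y₂ * y₂ = z)
    (h12 : y₁ * y₂ = y₂ * y₁) : (y₁ * y₂) * (y₁ * y₂) = 1 := by
  calc y₁ * y₂ * (y₁ * y₂) = y₁ * (y₂ * y₁) * y₂ := by group
    _ = y₁ * (y₁ * y₂) * y₂ := by rw [h12]
    _ = (y₁ * y₁) * (y₂ * y₂) := by group
    _ = 1 := by rw [h11, h22, hz]

/-- if `y₁ y₂ ∈ ⟨a, b⟩` then `y₁ y₂ = a b s` with `s ∈ ⟨z⟩` -/
theorem prod_form {a b y₁ y₂ z : S} (hz : z * z = 1) (hzne : z ≠ 1) (hzc : ∀ g : S, g * z = z * g)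
    (haa : a * a = z) (hbb : b * b = z) (hab : a * b = b * a)
    (h11 : y₁ * y₁ = z) (h22 : y₂ * y₂ = z) (h12 : y₁ * y₂ = y₂ * y₁)
    (hne : y₂ ∉ Subgroup.zpowers y₁) (hu : y₁ * y₂ ∈ Subgroup.closure {a, b}) :
    ∃ s : S, (s = 1 ∨ s = z) ∧ y₁ * y₂ = a * b * s := by
  rcases pair_sq_one hz hzne hzc haa hbb hab _ hu (prod_sq hz h11 h22 h12) with h | h | h | h
  · exfalso
    apply hne
    have : y₂ = y₁⁻¹ := by
      rw [eq_inv_iff_mul_eq_one, ← h12]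
      exact h
    rw [this]
    exact inv_mem (Subgroup.mem_zpowers _)
  · exfalso
    apply hne
    have : y₂ = y₁ := by
      have h3 : y₁ * y₂ = y₁ * y₁ := by rw [h, h11]
      exact mul_left_cancel h3
    rw [this]
    exact Subgroup.mem_zpowers _
  · exact ⟨1, Or.inl rfl, by rw [h, mul_one]⟩
  · exact ⟨z, Or.inr rfl, h⟩

/-- cases (ii) and (iv) of Lemma U are impossible -/
theorem mixed_false {a b y₁ y₂ z : S} (hz : z * z = 1) (hzne : z ≠ 1) (hzc : ∀ g : S, g * z = z * g)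
    (haa : a * a = z) (hbb : b * b = z) (hab : a * b = b * a)
    (h11 : y₁ * y₁ = z) (h22 : y₂ * y₂ = z) (h12 : y₁ * y₂ = y₂ * y₁)
    (hne : y₂ ∉ Subgroup.zpowers y₁)
    (ha1 : a⁻¹ * y₁ * a = y₁) (hb1 : b⁻¹ * y₁ * b = y₁ * z)
    (hu : y₁ * y₂ ∈ Subgroup.closure {a, b}) : False := by
  obtain ⟨s, hs, hus⟩ := prod_form hz hzne hzc haa hbb hab h11 h22 h12 hne hu
  have hsc : ∀ g : S, g * s = s * g := by
    rcases hs with rfl | rfl
    · intro g; rw [mul_one, one_mul]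
    · exact hzc
  have hc : (a * b * s)⁻¹ * y₁ * (a * b * s) = y₁ * z := by
    calc (a * b * s)⁻¹ * y₁ * (a * b * s) = s⁻¹ * (b⁻¹ * (a⁻¹ * y₁ * a) * b) * s := by group
      _ = s⁻¹ * ((y₁ * z) * s) := by rw [ha1, hb1, mul_assoc]
      _ = s⁻¹ * (s * (y₁ * z)) := by rw [hsc (y₁ * z)]
      _ = y₁ * z := by group
  have hc2 : (a * b * s)⁻¹ * y₁ * (a * b * s) = y₁ := by
    rw [← hus]
    apply conj_of_comm
    rw [mul_assoc, ← h12]
  rw [hc2] at hc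
  apply hzne
  have h3 : y₁ * 1 = y₁ * z := by rw [mul_one]; exact hc
  exact (mul_left_cancel h3).symm

/-- if `g` and `h` both map `i` to `i z` then `g⁻¹ h` centralizes `i` -/
theorem inv_mul_fix {g h i z : S} (hzc : ∀ t : S, t * z = z * t) (hz : z * z = 1)
    (hg : g⁻¹ * i * g = i * z) (hh : h⁻¹ * i * h = i * z) :
    (g⁻¹ * h)⁻¹ * i * (g⁻¹ * h) = i := by
  have h1 : g⁻¹ * (i * z) * g = i := by
    calc g⁻¹ * (i * z) * g = g⁻¹ * i * (z * g) := by group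
      _ = g⁻¹ * i * (g * z) := by rw [hzc g]
      _ = (g⁻¹ * i * g) * z := by group
      _ = i := by rw [hg, mul_assoc, hz, mul_one]
  have h2 : g * i * g⁻¹ = i * z := by
    conv_lhs => rw [← h1]
    group
  calc (g⁻¹ * h)⁻¹ * i * (g⁻¹ * h) = h⁻¹ * (g * i * g⁻¹) * h := by group
    _ = h⁻¹ * (i * z) * h := by rw [h2]
    _ = h⁻¹ * i * (z * h) := by group
    _ = h⁻¹ * i * (h * z) := by rw [hzc h]
    _ = (h⁻¹ * i * h) * z := by group
    _ = i := by rw [hh, mul_assoc, hz, mul_one]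

theorem cm_inv_mul_of_comm {J j y : S} (h : J * j = j * J) : cm (J⁻¹ * y) j = cm y j := by
  show (J⁻¹ * y)⁻¹ * j⁻¹ * (J⁻¹ * y) * j = y⁻¹ * j⁻¹ * y * j
  have h1 : J * j⁻¹ = j⁻¹ * J := by
    calc J * j⁻¹ = j⁻¹ * (j * J) * j⁻¹ := by group
      _ = j⁻¹ * (J * j) * j⁻¹ := by rw [h]
      _ = j⁻¹ * J := by group
  have h' : J * j⁻¹ * J⁻¹ = j⁻¹ := by
    rw [h1]; group
  calc (J⁻¹ * y)⁻¹ * j⁻¹ * (J⁻¹ * y) * j = y⁻¹ * (J * j⁻¹ * J⁻¹) * y * j := by group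
    _ = y⁻¹ * j⁻¹ * y * j := by rw [h']

/-- if `j` (with `j² = z`) normalises `⟨y₁, y₂⟩` and does not centralise `y₁ y₂`, then
`[y₁, j] ∈ ⟨z⟩` -/
theorem cm_j_mem {y₁ y₂ z j : S} (hz : z * z = 1) (hzne : z ≠ 1) (hzc : ∀ g : S, g * z = z * g)
    (h11 : y₁ * y₁ = z) (h22 : y₂ * y₂ = z) (h12 : y₁ * y₂ = y₂ * y₁)
    (hjj : j * j = z) (hn1 : j⁻¹ * y₁ * j ∈ Subgroup.closure {y₁, y₂})
    (hu : j⁻¹ * (y₁ * y₂) * j = (y₁ * y₂) * z) : cm y₁ j ∈ Zs z := by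
  have hsq : (j⁻¹ * y₁ * j) * (j⁻¹ * y₁ * j) = z := by
    have h : (j⁻¹ * y₁ * j) * (j⁻¹ * y₁ * j) = j⁻¹ * (y₁ * y₁) * j := by group
    rw [h, h11, mul_assoc, ← hzc j, ← mul_assoc, inv_mul_cancel, one_mul]
  obtain ⟨s, hs, hp⟩ := pair_sq_z hz hzne hzc h11 h22 h12 _ hn1 hsq
  have hsc : ∀ g : S, g * s = s * g := by
    rcases hs with rfl | rfl
    · intro g; rw [mul_one, one_mul]
    · exact hzc
  have hss : s * s = 1 := by
    rcases hs with rfl | rfl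
    · rw [mul_one]
    · exact hz
  have hsZ : s ∈ Zs z := by
    rcases hs with rfl | rfl
    · exact one_mem _
    · exact Subgroup.mem_zpowers _
  rcases hp with hp | hp
  · have : cm y₁ j = s := by
      show y₁⁻¹ * j⁻¹ * y₁ * j = s
      calc y₁⁻¹ * j⁻¹ * y₁ * j = y₁⁻¹ * (j⁻¹ * y₁ * j) := by group
        _ = s := by rw [hp]; group
    rw [this]
    exact hsZ
  · exfalso
    -- `j` swaps `y₁` and `y₂` up to `s`, hence centralises `y₁ y₂`
    have hy2 : y₂ = (j⁻¹ * y₁ * j) * s := by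
      rw [hp, mul_assoc, hss, mul_one]
    have hjz : (j * j)⁻¹ * y₁ * (j * j) = y₁ := by
      rw [hjj]
      apply conj_of_comm
      exact hzc y₁
    have h2 : j⁻¹ * y₂ * j = y₁ * s := by
      calc j⁻¹ * y₂ * j = j⁻¹ * ((j⁻¹ * y₁ * j) * s) * j := by rw [← hy2]
        _ = j⁻¹ * (j⁻¹ * y₁ * j) * (s * j) := by group
        _ = j⁻¹ * (j⁻¹ * y₁ * j) * (j * s) := by rw [hsc j]
        _ = ((j * j)⁻¹ * y₁ * (j * j)) * s := by group
        _ = y₁ * s := by rw [hjz]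
    have h3 : j⁻¹ * (y₁ * y₂) * j = y₁ * y₂ := by
      rw [conj_mul', hp, h2]
      calc y₂ * s * (y₁ * s) = y₂ * (s * y₁) * s := by group
        _ = y₂ * (y₁ * s) * s := by rw [hsc y₁]
        _ = y₂ * y₁ * (s * s) := by group
        _ = y₁ * y₂ := by rw [hss, mul_one, h12]
    rw [h3] at hu
    apply hzne
    have h4 : (y₁ * y₂) * 1 = (y₁ * y₂) * z := by rw [mul_one]; exact hu
    exact (mul_left_cancel h4).symm

end Cfsg.Agent.Lib.Helper5.S1233
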