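import Mathlib
import Cfsg.Agent.Lib.Helper1.S1233Defs
import Cfsg.Agent.Lib.Helper1.S1233Glue
import Cfsg.Agent.Lib.Helper3.S1233B2c
import Cfsg.Agent.Lib.Helper6.S1233A1
import Cfsg.Agent.Lib.Helper5.S1233Pair
import Cfsg.Agent.Lib.Helper5.S1233D5a
import Cfsg.Agent.Lib.Helper5.S1233D5b
import Cfsg.Agent.Lib.Helper5.S1233D4

/-!
# S1233 farm, unit U-D5 (helper5): Lemma U, with `D1_sq` as a hypothesis (`D5_of`)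
-/

set_option autoImplicit false

namespace Cfsg.Agent.Lib.Helper5.S1233

open Cfsg.Agent.Lib.Helper1.S1233

variable {S : Type*} [Group S] {Q₁ Q₂ : Subgroup S} {d : Dat S}

/-- case (iii) of Lemma U: both `i₁` and `i₂` invert `y₁, y₂` modulo `z` -/
theorem D5_caseIII (hC : Ctx Q₁ Q₂ d) (h1 : 3 ≤ d.n₁) (h2 : 3 ≤ d.n₂) (M : Subgroup S)
    (hM : Good Q₁ Q₂ d M)
    (y₁ y₂ : S) (hy₁ : y₁ ∈ M) (h11 : y₁ * y₁ = d.z) (h22 : y₂ * y₂ = d.z)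
    (h12 : y₁ * y₂ = y₂ * y₁) (hne : y₂ ∉ Subgroup.zpowers y₁)
    (hn : ∀ m ∈ M, m⁻¹ * y₁ * m ∈ Subgroup.closure {y₁, y₂} ∧
      m⁻¹ * y₂ * m ∈ Subgroup.closure {y₁, y₂})
    (hI1 : d.i₁⁻¹ * y₁ * d.i₁ = y₁ * d.z) (hI2 : d.i₂⁻¹ * y₁ * d.i₂ = y₁ * d.z)
    (hu : y₁ * y₂ ∈ Bs d.i₁ d.i₂) : False := by
  have hB := hC.base
  have hB' := base_symm hB
  have hz := hB.z_sq
  have hzne := hB.z_ne
  have hzc := hB.z_central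
  have hi1 : d.i₁ ∈ Q₁ := hC.s1.i_mem
  have hi2 : d.i₂ ∈ Q₂ := hC.s2.i_mem
  have hj1 : d.j₁ ∈ Q₁ := hC.s1.j_mem
  have hj2 : d.j₂ ∈ Q₂ := hC.s2.j_mem
  have hi1sq : d.i₁ * d.i₁ = d.z := Helper3.S1233B2.side_i_sq hC.s1
  have hi2sq : d.i₂ * d.i₂ = d.z := Helper3.S1233B2.side_i_sq hC.s2
  have hj1sq : d.j₁ * d.j₁ = d.z := Helper3.S1233B2.side_j_sq (Helper6.S1233A.A1_q8 hB) hC.s1
  have hj2sq : d.j₂ * d.j₂ = d.z := Helper3.S1233B2.side_j_sq (Helper6.S1233A.A1_q8 hB') hC.s2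
  have hi12 : d.i₁ * d.i₂ = d.i₂ * d.i₁ := hB.comm _ hi1 _ hi2
  have hj1X : d.j₁ ∈ cen Q₂ := Helper3.S1233B2.side_le hB hj1
  have hj2X : d.j₂ ∈ cen Q₁ := Helper3.S1233B2.side_le hB' hj2
  have hj1M : d.j₁ ∈ M := hM.le1 hj1X
  have hj2M : d.j₂ ∈ M := hM.le2 hj2X
  have hc1 : d.j₁⁻¹ * d.i₁ * d.j₁ = d.i₁ * d.z := by
    rw [Helper3.S1233B2.conj_i hB hC.s1 h1 d.j₁ hj1X hC.s1.j_not, inv_eq_mul_z hz hi1sq]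
  have hc2 : d.j₂⁻¹ * d.i₂ * d.j₂ = d.i₂ * d.z := by
    rw [Helper3.S1233B2.conj_i hB' hC.s2 h2 d.j₂ hj2X hC.s2.j_not, inv_eq_mul_z hz hi2sq]
  have hj1i2 : d.j₁⁻¹ * d.i₂ * d.j₁ = d.i₂ := conj_of_comm (hB.comm d.j₁ hj1 d.i₂ hi2).symm
  have hj2i1 : d.j₂⁻¹ * d.i₁ * d.j₂ = d.i₁ := conj_of_comm (hB.comm d.i₁ hi1 d.j₂ hj2)
  have hj12 : d.j₁ * d.j₂ = d.j₂ * d.j₁ := hB.comm d.j₁ hj1 d.j₂ hj2
  -- `u' = y₁ y₂ = i₁ i₂ s`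
  obtain ⟨s, hs, hus⟩ := prod_form hz hzne hzc hi1sq hi2sq hi12 h11 h22 h12 hne hu
  have hsc : ∀ g : S, g * s = s * g := by
    rcases hs with rfl | rfl
    · intro g; rw [mul_one, one_mul]
    · exact hzc
  -- `j₁`, `j₂` do not centralise `u'`
  have hconj_s : ∀ g : S, g⁻¹ * s * g = s := fun g => conj_of_comm (hsc g).symm
  have hu1 : d.j₁⁻¹ * (y₁ * y₂) * d.j₁ = (y₁ * y₂) * d.z := by
    rw [hus, conj_mul', conj_mul', hc1, hj1i2, hconj_s]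
    calc d.i₁ * d.z * d.i₂ * s = d.i₁ * (d.z * (d.i₂ * s)) := by group
      _ = d.i₁ * ((d.i₂ * s) * d.z) := by rw [hzc (d.i₂ * s)]
      _ = d.i₁ * d.i₂ * s * d.z := by group
  have hu2 : d.j₂⁻¹ * (y₁ * y₂) * d.j₂ = (y₁ * y₂) * d.z := by
    rw [hus, conj_mul', conj_mul', hc2, hj2i1, hconj_s]
    calc d.i₁ * (d.i₂ * d.z) * s = d.i₁ * d.i₂ * (d.z * s) := by group
      _ = d.i₁ * d.i₂ * (s * d.z) := by rw [hzc s]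
      _ = d.i₁ * d.i₂ * s * d.z := by group
  have hcm1 : cm y₁ d.j₁ ∈ Zs d.z :=
    cm_j_mem hz hzne hzc h11 h22 h12 hj1sq (hn d.j₁ hj1M).1 hu1
  have hcm2 : cm y₁ d.j₂ ∈ Zs d.z :=
    cm_j_mem hz hzne hzc h11 h22 h12 hj2sq (hn d.j₂ hj2M).1 hu2
  -- `J = j₁ j₂` inverts `i₁`, `i₂`
  have hJ1 : (d.j₁ * d.j₂)⁻¹ * d.i₁ * (d.j₁ * d.j₂) = d.i₁ * d.z := by
    calc (d.j₁ * d.j₂)⁻¹ * d.i₁ * (d.j₁ * d.j₂) = d.j₂⁻¹ * (d.j₁⁻¹ * d.i₁ * d.j₁) * d.j₂ := by group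
      _ = d.j₂⁻¹ * (d.i₁ * d.z) * d.j₂ := by rw [hc1]
      _ = (d.j₂⁻¹ * d.i₁ * d.j₂) * (d.j₂⁻¹ * d.z * d.j₂) := by group
      _ = d.i₁ * d.z := by rw [hj2i1, conj_of_comm (hzc d.j₂).symm]
  have hJ2 : (d.j₁ * d.j₂)⁻¹ * d.i₂ * (d.j₁ * d.j₂) = d.i₂ * d.z := by
    calc (d.j₁ * d.j₂)⁻¹ * d.i₂ * (d.j₁ * d.j₂) = d.j₂⁻¹ * (d.j₁⁻¹ * d.i₂ * d.j₁) * d.j₂ := by group
      _ = d.j₂⁻¹ * d.i₂ * d.j₂ := by rw [hj1i2]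
      _ = d.i₂ * d.z := hc2
  -- `y₁` inverts `i₁`, `i₂`
  have hY1 : y₁⁻¹ * d.i₁ * y₁ = d.i₁ * d.z := conj_swap hzc hz hI1
  have hY2 : y₁⁻¹ * d.i₂ * y₁ = d.i₂ * d.z := conj_swap hzc hz hI2
  -- `r = J⁻¹ y₁ ∈ R`
  have hrR : (d.j₁ * d.j₂)⁻¹ * y₁ ∈ Rs d.i₁ d.i₂ :=
    mem_Rs_of_conj' (inv_mul_fix hzc hz hJ1 hY1) (inv_mul_fix hzc hz hJ2 hY2)
  have hJj1 : (d.j₁ * d.j₂) * d.j₁ = d.j₁ * (d.j₁ * d.j₂) := by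
    rw [mul_assoc, ← hj12]
  have hJj2 : (d.j₁ * d.j₂) * d.j₂ = d.j₂ * (d.j₁ * d.j₂) := by
    rw [← mul_assoc, hj12]
  have hrj1 : cm ((d.j₁ * d.j₂)⁻¹ * y₁) d.j₁ ∈ Zs d.z := by
    rw [cm_inv_mul_of_comm hJj1]; exact hcm1
  have hrj2 : cm ((d.j₁ * d.j₂)⁻¹ * y₁) d.j₂ ∈ Zs d.z := by
    rw [cm_inv_mul_of_comm hJj2]; exact hcm2
  have hrB : (d.j₁ * d.j₂)⁻¹ * y₁ ∈ Bs d.i₁ d.i₂ := D4_B hC h1 h2 _ hrR hrj1 hrj2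
  -- the element `e₁`
  obtain ⟨he1sq, he1cm⟩ := Helper3.S1233B2.side_e hB hC.s1 h1
  obtain ⟨e, he⟩ : ∃ e : S, e = d.c₁ ^ (2 ^ (d.n₁ - 3)) := ⟨_, rfl⟩
  rw [← he] at he1sq he1cm
  have heX : e ∈ cen Q₂ := by
    rw [he]
    exact Helper3.S1233B2.zpowers_le hC.s1 (Subgroup.npow_mem_zpowers _ _)
  have heM : e ∈ M := hM.le1 heX
  have hecomm : ∀ b ∈ Q₂, b * e = e * b := fun b hb => Subgroup.mem_centralizer_iff.mp heX b hb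
  have hei1 : d.i₁ * e = e * d.i₁ := by
    rw [← he1sq, mul_assoc]
  have hei2 : d.i₂ * e = e * d.i₂ := hecomm d.i₂ hi2
  have hej2 : d.j₂ * e = e * d.j₂ := hecomm d.j₂ hj2
  have hBle : Bs d.i₁ d.i₂ ≤ Subgroup.centralizer {e} := by
    rw [Subgroup.closure_le]
    rintro x (rfl | rfl)
    · rw [SetLike.mem_coe, Subgroup.mem_centralizer_iff]
      intro h hh
      rw [Set.mem_singleton_iff] at hh
      subst hh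
      exact hei1.symm
    · rw [SetLike.mem_coe, Subgroup.mem_centralizer_iff]
      intro h hh
      rw [Set.mem_singleton_iff] at hh
      subst hh
      exact hei2.symm
  have her : e * ((d.j₁ * d.j₂)⁻¹ * y₁) = ((d.j₁ * d.j₂)⁻¹ * y₁) * e :=
    Subgroup.mem_centralizer_iff.mp (hBle hrB) e (Set.mem_singleton _)
  obtain ⟨r, hr⟩ : ∃ r : S, r = (d.j₁ * d.j₂)⁻¹ * y₁ := ⟨_, rfl⟩
  rw [← hr] at hrR hrB her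
  have hy1 : y₁ = d.j₁ * d.j₂ * r := by rw [hr]; group
  -- `ι = [j₁, e]` commutes with `j₂` and `r`
  have hiι : ∀ ι : S, (ι = d.i₁ ∨ ι = d.i₁⁻¹) → ι * d.j₂ = d.j₂ * ι ∧ ι * r = r * ι := by
    have hi1r : d.i₁ * r = r * d.i₁ := Subgroup.mem_centralizer_iff.mp hrR d.i₁ (by simp)
    have hi1j2 : d.i₁ * d.j₂ = d.j₂ * d.i₁ := hB.comm d.i₁ hi1 d.j₂ hj2
    rintro ι (rfl | rfl)
    · exact ⟨hi1j2, hi1r⟩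
    · constructor
      · calc d.i₁⁻¹ * d.j₂ = d.i₁⁻¹ * (d.j₂ * d.i₁) * d.i₁⁻¹ := by group
          _ = d.i₁⁻¹ * (d.i₁ * d.j₂) * d.i₁⁻¹ := by rw [hi1j2]
          _ = d.j₂ * d.i₁⁻¹ := by group
      · calc d.i₁⁻¹ * r = d.i₁⁻¹ * (r * d.i₁) * d.i₁⁻¹ := by group
          _ = d.i₁⁻¹ * (d.i₁ * r) * d.i₁⁻¹ := by rw [hi1r]
          _ = r * d.i₁⁻¹ := by group
  have hι : cm d.j₁ e = d.i₁ ∨ cm d.j₁ e = d.i₁⁻¹ := he1cm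
  obtain ⟨hιj2, hιr⟩ := hiι _ hι
  have hconj : e⁻¹ * y₁ * e = y₁ * cm d.j₁ e := by
    have hjr : e * (d.j₂ * r) = (d.j₂ * r) * e := by
      calc e * (d.j₂ * r) = (e * d.j₂) * r := by group
        _ = (d.j₂ * e) * r := by rw [hej2]
        _ = d.j₂ * (e * r) := by group
        _ = d.j₂ * (r * e) := by rw [her]
        _ = (d.j₂ * r) * e := by group
    calc e⁻¹ * y₁ * e = e⁻¹ * d.j₁ * ((d.j₂ * r) * e) := by rw [hy1]; group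
      _ = e⁻¹ * d.j₁ * (e * (d.j₂ * r)) := by rw [hjr]
      _ = d.j₁ * (cm d.j₁ e * d.j₂) * r := by
        show _ = d.j₁ * (d.j₁⁻¹ * e⁻¹ * d.j₁ * e * d.j₂) * r
        group
      _ = d.j₁ * (d.j₂ * cm d.j₁ e) * r := by rw [hιj2]
      _ = d.j₁ * d.j₂ * (cm d.j₁ e * r) := by group
      _ = d.j₁ * d.j₂ * (r * cm d.j₁ e) := by rw [hιr]
      _ = y₁ * cm d.j₁ e := by rw [hy1]; group
  have hιY : cm d.j₁ e ∈ Subgroup.closure {y₁, y₂} := by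
    have h3 : cm d.j₁ e = y₁⁻¹ * (e⁻¹ * y₁ * e) := by rw [hconj, inv_mul_cancel_left]
    rw [h3]
    exact mul_mem (inv_mem (Subgroup.subset_closure (by simp))) (hn e heM).1
  have hιy : cm d.j₁ e * y₁ = y₁ * cm d.j₁ e := (pair_comm_gen h12 _ hιY).1
  -- hence `i₁` commutes with `y₁`
  have hiy : y₁ * d.i₁ = d.i₁ * y₁ := by
    rcases hι with h | h
    · rw [h] at hιy; exact hιy.symm
    · rw [h] at hιy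
      calc y₁ * d.i₁ = d.i₁ * (d.i₁⁻¹ * y₁) * d.i₁ := by group
        _ = d.i₁ * (y₁ * d.i₁⁻¹) * d.i₁ := by rw [hιy]
        _ = d.i₁ * y₁ := by group
  have h5 := conj_of_comm hiy
  rw [hI1] at h5
  apply hzne
  have h6 : y₁ * d.z = y₁ * 1 := by rw [mul_one]; exact h5
  exact mul_left_cancel h6

/-- D5 (Lemma U), with `D1_sq` as a hypothesis -/
theorem D5_of (hD1sq : ∀ r : S, InR1 d r → r * r ∈ Zs d.z → r ∈ Bs d.i₁ d.i₂)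
    (hC : Ctx Q₁ Q₂ d) (h1 : 3 ≤ d.n₁) (h2 : 3 ≤ d.n₂) (M : Subgroup S) (hM : Good Q₁ Q₂ d M)
    (y₁ y₂ : S) (hy₁ : y₁ ∈ M) (hy₂ : y₂ ∈ M) (h11 : y₁ * y₁ = d.z) (h22 : y₂ * y₂ = d.z)
    (h12 : y₁ * y₂ = y₂ * y₁) (hne : y₂ ∉ Subgroup.zpowers y₁)
    (hn : ∀ m ∈ M, m⁻¹ * y₁ * m ∈ Subgroup.closure {y₁, y₂} ∧
      m⁻¹ * y₂ * m ∈ Subgroup.closure {y₁, y₂}) :
    Subgroup.closure {y₁, y₂} = Bs d.i₁ d.i₂ := by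
  have hB := hC.base
  have hB' := base_symm hB
  have hz := hB.z_sq
  have hzne := hB.z_ne
  have hzc := hB.z_central
  have hi1 : d.i₁ ∈ Q₁ := hC.s1.i_mem
  have hi2 : d.i₂ ∈ Q₂ := hC.s2.i_mem
  have hi1sq : d.i₁ * d.i₁ = d.z := Helper3.S1233B2.side_i_sq hC.s1
  have hi2sq : d.i₂ * d.i₂ = d.z := Helper3.S1233B2.side_i_sq hC.s2
  have hi12 : d.i₁ * d.i₂ = d.i₂ * d.i₁ := hB.comm _ hi1 _ hi2
  have he1sq := (Helper3.S1233B2.side_e hB hC.s1 h1).1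
  have he2sq := (Helper3.S1233B2.side_e hB' hC.s2 h2).1
  have he1M : d.c₁ ^ (2 ^ (d.n₁ - 3)) ∈ M :=
    hM.le1 (Helper3.S1233B2.zpowers_le hC.s1 (Subgroup.npow_mem_zpowers _ _))
  have he2M : d.c₂ ^ (2 ^ (d.n₂ - 3)) ∈ M :=
    hM.le2 (Helper3.S1233B2.zpowers_le hC.s2 (Subgroup.npow_mem_zpowers _ _))
  have hA1 := sq_act hz hzne hzc h11 h22 h12 hne _ (hn _ he1M).1 (hn _ he1M).2
  have hA2 := sq_act hz hzne hzc h11 h22 h12 hne _ (hn _ he2M).1 (hn _ he2M).2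
  rw [he1sq] at hA1
  rw [he2sq] at hA2
  have hzZ : d.z ∈ Zs d.z := Subgroup.mem_zpowers _
  have huM : y₁ * y₂ ∈ M := mul_mem hy₁ hy₂
  have huu : (y₁ * y₂) * (y₁ * y₂) ∈ Zs d.z := by
    rw [prod_sq hz h11 h22 h12]; exact one_mem _
  rcases hA1 with ⟨a1, a2⟩ | ⟨a1, a2⟩ <;> rcases hA2 with ⟨b1, b2⟩ | ⟨b1, b2⟩
  · -- (i) both trivial
    have hy1B : y₁ ∈ Bs d.i₁ d.i₂ :=
      hD1sq y₁ (hM.rM y₁ hy₁ (mem_Rs_of_conj a1 b1)) (by rw [h11]; exact hzZ)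
    have hy2B : y₂ ∈ Bs d.i₁ d.i₂ :=
      hD1sq y₂ (hM.rM y₂ hy₂ (mem_Rs_of_conj a2 b2)) (by rw [h22]; exact hzZ)
    exact pair_eq hz hzne hzc hi1sq hi2sq hi12 h11 h22 hne hy1B hy2B
  · -- (ii)
    exfalso
    have hu1 : d.i₁⁻¹ * (y₁ * y₂) * d.i₁ = y₁ * y₂ := by rw [conj_mul', a1, a2]
    have hu2 : d.i₂⁻¹ * (y₁ * y₂) * d.i₂ = y₁ * y₂ := by
      rw [conj_mul', b1, b2, mul_z_mul_z hzc hz]
    have huB : y₁ * y₂ ∈ Bs d.i₁ d.i₂ :=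
      hD1sq _ (hM.rM _ huM (mem_Rs_of_conj hu1 hu2)) huu
    exact mixed_false hz hzne hzc hi1sq hi2sq hi12 h11 h22 h12 hne a1 b1 huB
  · -- (iv)
    exfalso
    have hu1 : d.i₁⁻¹ * (y₁ * y₂) * d.i₁ = y₁ * y₂ := by
      rw [conj_mul', a1, a2, mul_z_mul_z hzc hz]
    have hu2 : d.i₂⁻¹ * (y₁ * y₂) * d.i₂ = y₁ * y₂ := by rw [conj_mul', b1, b2]
    have huB : y₁ * y₂ ∈ Bs d.i₁ d.i₂ :=
      hD1sq _ (hM.rM _ huM (mem_Rs_of_conj hu1 hu2)) huu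
    have huB' : y₁ * y₂ ∈ Subgroup.closure {d.i₂, d.i₁} := by
      have h := Bs_comm d.i₁ d.i₂
      rw [h] at huB
      exact huB
    exact mixed_false hz hzne hzc hi2sq hi1sq hi12.symm h11 h22 h12 hne b1 a1 huB'
  · -- (iii)
    exfalso
    have hu1 : d.i₁⁻¹ * (y₁ * y₂) * d.i₁ = y₁ * y₂ := by
      rw [conj_mul', a1, a2, mul_z_mul_z hzc hz]
    have hu2 : d.i₂⁻¹ * (y₁ * y₂) * d.i₂ = y₁ * y₂ := by
      rw [conj_mul', b1, b2, mul_z_mul_z hzc hz]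
    have huB : y₁ * y₂ ∈ Bs d.i₁ d.i₂ :=
      hD1sq _ (hM.rM _ huM (mem_Rs_of_conj hu1 hu2)) huu
    exact D5_caseIII hC h1 h2 M hM y₁ y₂ hy₁ h11 h22 h12 hne hn a1 b1 huB

end Cfsg.Agent.Lib.Helper5.S1233
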