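import Mathlib
import Cfsg.Agent.Lib.Helper1.S1233Defs
import Cfsg.Agent.Lib.Helper1.S1233D1
import Cfsg.Agent.Lib.Helper5.S1233D5

/-!
# S1233 farm, unit U-D5 (helper5): Lemma U, verbatim
-/

set_option autoImplicit false

namespace Cfsg.Agent.Lib.Helper5.S1233

open Cfsg.Agent.Lib.Helper1.S1233

variable {S : Type*} [Group S] {Q₁ Q₂ : Subgroup S} {d : Dat S}

/-- D5 (Lemma U) -/
theorem D5 (hC : Ctx Q₁ Q₂ d) (h1 : 3 ≤ d.n₁) (h2 : 3 ≤ d.n₂) (M : Subgroup S) (hM : Good Q₁ Q₂ d M)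
    (y₁ y₂ : S) (hy₁ : y₁ ∈ M) (hy₂ : y₂ ∈ M) (h11 : y₁ * y₁ = d.z) (h22 : y₂ * y₂ = d.z)
    (h12 : y₁ * y₂ = y₂ * y₁) (hne : y₂ ∉ Subgroup.zpowers y₁)
    (hn : ∀ m ∈ M, m⁻¹ * y₁ * m ∈ Subgroup.closure {y₁, y₂} ∧ m⁻¹ * y₂ * m ∈ Subgroup.closure {y₁, y₂}) :
    Subgroup.closure {y₁, y₂} = Bs d.i₁ d.i₂ :=
  D5_of (Cfsg.Agent.Lib.Helper1.S1233.D1_sq hC h1 h2) hC h1 h2 M hM y₁ y₂ hy₁ hy₂ h11 h22 h12 hne hn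

end Cfsg.Agent.Lib.Helper5.S1233
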