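import Mathlib
import Cfsg.Agent.Lib.Helper1.S1233Defs
import Cfsg.Agent.Lib.Helper1.S1233Glue
import Cfsg.Agent.Lib.Helper1.S1233Pre
import Cfsg.Agent.Lib.Helper1.S1233D1
import Cfsg.Agent.Lib.Helper3.S1233B2c
import Cfsg.Agent.Lib.Helper6.S1233A1
import Cfsg.Agent.Lib.Helper5.S1233D5a
import Cfsg.Agent.Lib.Helper5.S1233D5b
import Cfsg.Agent.Lib.Helper5.S1233D4
import Cfsg.Agent.Lib.Helper5.S1233D6a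

/-!
# S1233 farm, unit U-D6 (helper5): no diagonal
-/

set_option autoImplicit false

namespace Cfsg.Agent.Lib.Helper5.S1233

open Cfsg.Agent.Lib.Helper1.S1233

variable {S : Type*} [Group S] {Q₁ Q₂ : Subgroup S} {d : Dat S} {M : Subgroup S}

theorem good_symm (hM : Good Q₁ Q₂ d M) : Good Q₂ Q₁ d.swap M where
  le1 := hM.le2
  le2 := hM.le1
  nB := by
    intro m hm
    obtain ⟨a, b⟩ := hM.nB m hm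
    show m⁻¹ * d.i₂ * m ∈ Bs d.i₂ d.i₁ ∧ m⁻¹ * d.i₁ * m ∈ Bs d.i₂ d.i₁
    rw [Bs_comm d.i₂ d.i₁]
    exact ⟨b, a⟩
  rM := by
    intro r hr hrR
    have hrR' : r ∈ Rs d.i₁ d.i₂ := by
      have h : r ∈ Rs d.i₂ d.i₁ := hrR
      rw [Rs_comm] at h
      exact h
    obtain ⟨a, b⟩ := hM.rM r hr hrR'
    show cm r d.c₂ ∈ Zs d.z ∧ cm r d.c₁ ∈ Zs d.z
    exact ⟨b, a⟩

/-- `ρ₁ = j₁⁻¹ j₁^x ∈ R₁` -/
theorem rho_InR1 (hC : Ctx Q₁ Q₂ d) (h1 : 3 ≤ d.n₁) (hM : Good Q₁ Q₂ d M)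
    (x : S) (hx : ∀ m ∈ M, x⁻¹ * m * x ∈ M) (hxR : x ∈ Rs d.i₁ d.i₂) :
    InR1 d (d.j₁⁻¹ * (x⁻¹ * d.j₁ * x)) := by
  have hB := hC.base
  have hz := hB.z_sq
  have hzc := hB.z_central
  have hi1 : d.i₁ ∈ Q₁ := hC.s1.i_mem
  have hi2 : d.i₂ ∈ Q₂ := hC.s2.i_mem
  have hj1 : d.j₁ ∈ Q₁ := hC.s1.j_mem
  have hi1sq : d.i₁ * d.i₁ = d.z := Helper3.S1233B2.side_i_sq hC.s1
  have hj1X : d.j₁ ∈ cen Q₂ := Helper3.S1233B2.side_le hB hj1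
  have hj1M : d.j₁ ∈ M := hM.le1 hj1X
  have hxi1 : Commute d.i₁ x := Subgroup.mem_centralizer_iff.mp hxR d.i₁ (by simp)
  have hxi2 : Commute d.i₂ x := Subgroup.mem_centralizer_iff.mp hxR d.i₂ (by simp)
  have hc1 : d.j₁⁻¹ * d.i₁ * d.j₁ = d.i₁ * d.z := by
    rw [Helper3.S1233B2.conj_i hB hC.s1 h1 d.j₁ hj1X hC.s1.j_not, inv_eq_mul_z hz hi1sq]
  have hj1i2 : Commute d.i₂ d.j₁ := (hB.comm d.j₁ hj1 d.i₂ hi2).symm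
  have hjx : (x⁻¹ * d.j₁ * x)⁻¹ * d.i₁ * (x⁻¹ * d.j₁ * x) = d.i₁ * d.z := by
    have h3 : x * d.i₁ * x⁻¹ = d.i₁ := by
      rw [← hxi1.eq, mul_assoc, mul_inv_cancel, mul_one]
    have hzx : Commute d.z x := (hzc x).symm
    have h4 : Commute (d.i₁ * d.z) x := hxi1.mul_left hzx
    calc (x⁻¹ * d.j₁ * x)⁻¹ * d.i₁ * (x⁻¹ * d.j₁ * x)
        = x⁻¹ * (d.j₁⁻¹ * (x * d.i₁ * x⁻¹) * d.j₁) * x := by group
      _ = x⁻¹ * (d.i₁ * d.z) * x := by rw [h3, hc1]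
      _ = d.i₁ * d.z := conj_of_comm h4.eq
  have hρ1 : (d.j₁⁻¹ * (x⁻¹ * d.j₁ * x))⁻¹ * d.i₁ * (d.j₁⁻¹ * (x⁻¹ * d.j₁ * x)) = d.i₁ :=
    inv_mul_fix hzc hz hc1 hjx
  have hρ2 : Commute d.i₂ (d.j₁⁻¹ * (x⁻¹ * d.j₁ * x)) :=
    hj1i2.inv_right.mul_right ((hxi2.inv_right.mul_right hj1i2).mul_right hxi2)
  have hρR : d.j₁⁻¹ * (x⁻¹ * d.j₁ * x) ∈ Rs d.i₁ d.i₂ := by
    rw [Subgroup.mem_centralizer_iff]
    rintro h (rfl | rfl)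
    · exact comm_of_conj hρ1
    · exact hρ2
  exact hM.rM _ (mul_mem (inv_mem hj1M) (hx _ hj1M)) hρR

/-- the diagonal case `c₁^x = i₂ y` is impossible -/
theorem D6_odd_false (hC : Ctx Q₁ Q₂ d) (h1 : 3 ≤ d.n₁) (h2 : 3 ≤ d.n₂) (hM : Good Q₁ Q₂ d M)
    (x : S) (hx : ∀ m ∈ M, x⁻¹ * m * x ∈ M) (hxR : x ∈ Rs d.i₁ d.i₂)
    (y : S) (hy : y ∈ Subgroup.zpowers d.c₁) (hgy : x⁻¹ * d.c₁ * x = d.i₂ * y) : False := by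
  have hB := hC.base
  have hz := hB.z_sq
  have hzne := hB.z_ne
  have hzc := hB.z_central
  have hi2 : d.i₂ ∈ Q₂ := hC.s2.i_mem
  have hj1 : d.j₁ ∈ Q₁ := hC.s1.j_mem
  have hi2sq : d.i₂ * d.i₂ = d.z := Helper3.S1233B2.side_i_sq hC.s2
  have hj1sq : d.j₁ * d.j₁ = d.z := Helper3.S1233B2.side_j_sq (Helper6.S1233A.A1_q8 hB) hC.s1
  have hc1X : d.c₁ ∈ cen Q₂ := hC.s1.c_mem
  have hc2X : d.c₂ ∈ cen Q₁ := hC.s2.c_mem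
  have hj1X : d.j₁ ∈ cen Q₂ := Helper3.S1233B2.side_le hB hj1
  have hc1i2 : Commute d.i₂ d.c₁ := Subgroup.mem_centralizer_iff.mp hc1X d.i₂ hi2
  have hzC1 : d.z ∈ Subgroup.zpowers d.c₁ := Helper3.S1233B2.z_mem_zpowers hC.s1
  have hordpos : 0 < orderOf d.c₁ := by rw [hC.s1.ord]; positivity
  obtain ⟨ρ, hρ⟩ : ∃ ρ : S, ρ = d.j₁⁻¹ * (x⁻¹ * d.j₁ * x) := ⟨_, rfl⟩
  have hρIn : InR1 d ρ := by rw [hρ]; exact rho_InR1 hC h1 hM x hx hxR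
  have hjx : x⁻¹ * d.j₁ * x = d.j₁ * ρ := by rw [hρ]; group
  have hρR : ρ ∈ Rs d.i₁ d.i₂ := D1_cent hC h1 h2 ρ hρIn
  have hρi2 : Commute d.i₂ ρ := Subgroup.mem_centralizer_iff.mp hρR d.i₂ (by simp)
  have hact : d.j₁⁻¹ * d.c₁ * d.j₁ = d.c₁ ^ d.ε₁ := hC.s1.act d.j₁ hj1X hC.s1.j_not
  obtain ⟨hρ1, -⟩ := hρIn
  -- step 3 : `ρ⁻¹ c₁ ρ = c₁ z`
  have hρc : ρ⁻¹ * d.c₁ * ρ = d.c₁ * d.z := by
    rcases conj_of_cm hz hρ1 with h | h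
    · exfalso
      obtain ⟨l, rfl⟩ := mem_zpowers_nat hordpos hy
      have hcρ : Commute d.c₁ ρ := comm_of_conj h
      have hE1 : (x⁻¹ * d.j₁ * x)⁻¹ * (x⁻¹ * d.c₁ * x) * (x⁻¹ * d.j₁ * x)
          = (x⁻¹ * d.c₁ * x) ^ d.ε₁ := by
        rw [← Helper3.S1233B2.conj_pow', ← hact]; group
      rw [hgy, hjx] at hE1
      have hj1i2 : Commute d.i₂ d.j₁ := (hB.comm d.j₁ hj1 d.i₂ hi2).symm
      have hL : (d.j₁ * ρ)⁻¹ * (d.i₂ * d.c₁ ^ l) * (d.j₁ * ρ) = d.i₂ * (d.c₁ ^ l) ^ d.ε₁ := by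
        have h5 : d.j₁⁻¹ * d.c₁ ^ l * d.j₁ = (d.c₁ ^ l) ^ d.ε₁ := by
          rw [Helper3.S1233B2.conj_pow', hact, ← pow_mul, ← pow_mul, mul_comm]
        have h6 : d.j₁⁻¹ * d.i₂ * d.j₁ = d.i₂ := conj_of_comm hj1i2.eq
        have h7 : Commute (d.i₂ * (d.c₁ ^ l) ^ d.ε₁) ρ :=
          hρi2.mul_left ((hcρ.pow_left l).pow_left _)
        calc (d.j₁ * ρ)⁻¹ * (d.i₂ * d.c₁ ^ l) * (d.j₁ * ρ)
            = ρ⁻¹ * ((d.j₁⁻¹ * d.i₂ * d.j₁) * (d.j₁⁻¹ * d.c₁ ^ l * d.j₁)) * ρ := by group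
          _ = ρ⁻¹ * (d.i₂ * (d.c₁ ^ l) ^ d.ε₁) * ρ := by rw [h5, h6]
          _ = d.i₂ * (d.c₁ ^ l) ^ d.ε₁ := conj_of_comm h7.eq
      have hR : (d.i₂ * d.c₁ ^ l) ^ d.ε₁ = d.i₂ ^ d.ε₁ * (d.c₁ ^ l) ^ d.ε₁ :=
        (hc1i2.pow_right l).mul_pow _
      rw [hL, hR, pow_eps hz hi2sq (Helper3.S1233B2.side_eps hC.s1 h1)] at hE1
      have h8 := mul_right_cancel hE1
      apply hzne
      have h9 : d.i₂ * 1 = d.i₂ * d.z := by rw [mul_one]; exact h8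
      exact (mul_left_cancel h9).symm
    · exact h
  -- step 4 : `ρ = r₀ ^ k c'` with `k` odd
  obtain ⟨r₀, hr₀, hall⟩ := D1_cyc hC h1 h2
  have hρIn' : InR1 d ρ := by rw [hρ]; exact rho_InR1 hC h1 hM x hx hxR
  obtain ⟨k, c', hc', hρk⟩ := hall ρ hρIn'
  have hc'c : Commute d.c₁ c' := by
    obtain ⟨t, rfl⟩ := Subgroup.mem_zpowers_iff.mp hc'
    exact (Commute.refl d.c₁).zpow_right t
  obtain ⟨hr₀1, -⟩ := hr₀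
  have hkodd : k % 2 = 1 := by
    rcases conj_of_cm hz hr₀1 with h | h
    · exfalso
      have h3 : Commute d.c₁ (r₀ ^ k * c') :=
        ((show Commute d.c₁ r₀ from comm_of_conj h).pow_right k).mul_right hc'c
      have h4 := conj_of_comm h3.eq
      rw [← hρk, hρc] at h4
      have h5 : d.c₁ * d.z = d.c₁ * 1 := by rw [mul_one]; exact h4
      exact hzne (mul_left_cancel h5)
    · have h3 := conj_pow_z hzc h k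
      have hzk : Commute (d.z ^ k) c' := ((show Commute c' d.z from hzc c').pow_right k).symm
      have h4 : ρ⁻¹ * d.c₁ * ρ = d.c₁ * d.z ^ k := by
        rw [hρk]
        calc (r₀ ^ k * c')⁻¹ * d.c₁ * (r₀ ^ k * c')
            = c'⁻¹ * ((r₀ ^ k)⁻¹ * d.c₁ * r₀ ^ k) * c' := by group
          _ = c'⁻¹ * (d.c₁ * d.z ^ k) * c' := by rw [h3]
          _ = d.c₁ * d.z ^ k := conj_of_comm (hc'c.mul_left hzk).eq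
      rw [hρc] at h4
      exact odd_of_z_pow hz hzne (mul_left_cancel h4).symm
  -- generator switching
  obtain ⟨a, ha⟩ : ∃ a : ℕ, orderOf r₀ = 2 ^ a := by
    obtain ⟨t, ht⟩ := hB.pS r₀
    obtain ⟨a, -, ha⟩ := (Nat.dvd_prime_pow Nat.prime_two).mp (orderOf_dvd_of_pow_eq_one ht)
    exact ⟨a, ha⟩
  obtain ⟨k', hk'⟩ := exists_pow_inv ha hkodd
  have hc2In : InR1 d d.c₂ := by
    show cm d.c₂ d.c₁ ∈ Zs d.z ∧ cm d.c₂ d.c₂ ∈ Zs d.z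
    refine ⟨cm_mem_symm (hC.lemB d.c₁ hc1X d.c₂ hc2X), ?_⟩
    rw [cm_eq_one_of_comm rfl]
    exact one_mem _
  obtain ⟨m, c'', hc'', hc2m⟩ := hall d.c₂ hc2In
  have hρn : ∀ c ∈ Subgroup.zpowers d.c₁, ρ⁻¹ * c * ρ ∈ Subgroup.zpowers d.c₁ := by
    intro c hc
    obtain ⟨t, rfl⟩ := mem_zpowers_nat hordpos hc
    rw [Helper3.S1233B2.conj_pow', hρc]
    exact pow_mem (mul_mem (Subgroup.mem_zpowers _) hzC1) t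
  have hr₀k : r₀ ^ k = ρ * c'⁻¹ := by rw [hρk]; group
  have hr₀m : r₀ ^ m = (ρ * c'⁻¹) ^ (k' * m) := by
    rw [← hr₀k, ← pow_mul, ← mul_assoc, pow_mul, hk']
  obtain ⟨c₅, hc₅, h5⟩ := coset_pow hρn (k' * m) c'⁻¹ (inv_mem hc')
  obtain ⟨N, hN⟩ : ∃ N : ℕ, N = k' * m := ⟨_, rfl⟩
  rw [← hN] at h5 hr₀m
  obtain ⟨c₆, hc₆e⟩ : ∃ c₆ : S, c₆ = c₅ * c'' := ⟨_, rfl⟩
  have hc2N : d.c₂ = ρ ^ N * c₆ := by
    rw [hc2m, hr₀m, h5, hc₆e, mul_assoc]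
  have hc₆ : c₆ ∈ Subgroup.zpowers d.c₁ := by rw [hc₆e]; exact mul_mem hc₅ hc''
  -- step 5 : `j₁` inverts `ρ` and centralizes `c₂`
  have hinv : d.j₁⁻¹ * ρ * d.j₁ = ρ⁻¹ := by
    apply inverts_of_sq
    rw [← hjx, hj1sq]
    calc (x⁻¹ * d.j₁ * x) * (x⁻¹ * d.j₁ * x) = x⁻¹ * (d.j₁ * d.j₁) * x := by group
      _ = d.z := by rw [hj1sq]; exact conj_of_comm (hzc x).symm
  have hj1c2 : d.j₁⁻¹ * d.c₂ * d.j₁ = d.c₂ :=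
    conj_of_comm (Subgroup.mem_centralizer_iff.mp hc2X d.j₁ hj1).symm
  have hj1c6 : d.j₁⁻¹ * c₆ * d.j₁ ∈ Subgroup.zpowers d.c₁ := by
    obtain ⟨t, ht⟩ := mem_zpowers_nat hordpos hc₆
    rw [ht, Helper3.S1233B2.conj_pow', hact]
    exact pow_mem (pow_mem (Subgroup.mem_zpowers _) _) t
  have h6 : d.c₂ = (ρ ^ N)⁻¹ * (d.j₁⁻¹ * c₆ * d.j₁) := by
    have h7 : d.j₁⁻¹ * ρ ^ N * d.j₁ = (ρ ^ N)⁻¹ := by
      rw [Helper3.S1233B2.conj_pow', hinv, inv_pow]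
    calc d.c₂ = d.j₁⁻¹ * d.c₂ * d.j₁ := hj1c2.symm
      _ = d.j₁⁻¹ * (ρ ^ N * c₆) * d.j₁ := by rw [← hc2N]
      _ = (d.j₁⁻¹ * ρ ^ N * d.j₁) * (d.j₁⁻¹ * c₆ * d.j₁) := by group
      _ = (ρ ^ N)⁻¹ * (d.j₁⁻¹ * c₆ * d.j₁) := by rw [h7]
  have h8 : ρ ^ N * ρ ^ N = (d.j₁⁻¹ * c₆ * d.j₁) * c₆⁻¹ := by
    have h9 : ρ ^ N * c₆ = (ρ ^ N)⁻¹ * (d.j₁⁻¹ * c₆ * d.j₁) := by rw [← hc2N]; exact h6
    calc ρ ^ N * ρ ^ N = ρ ^ N * (ρ ^ N * c₆) * c₆⁻¹ := by group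
      _ = ρ ^ N * ((ρ ^ N)⁻¹ * (d.j₁⁻¹ * c₆ * d.j₁)) * c₆⁻¹ := by rw [h9]
      _ = (d.j₁⁻¹ * c₆ * d.j₁) * c₆⁻¹ := by group
  have h10 : ρ ^ N * ρ ^ N ∈ Subgroup.zpowers d.c₁ := by
    rw [h8]; exact mul_mem hj1c6 (inv_mem hc₆)
  have h11 : d.c₂ * d.c₂ ∈ Subgroup.zpowers d.c₁ := by
    have h12 : (ρ ^ N * c₆) * (ρ ^ N * c₆) = (ρ ^ N * ρ ^ N) * ((ρ ^ N)⁻¹ * c₆ * ρ ^ N) * c₆ := by
      group
    rw [hc2N, h12]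
    exact mul_mem (mul_mem h10 (norm_pow hρn N c₆ hc₆)) hc₆
  have h13 : d.c₂ * d.c₂ ∈ Zs d.z := by
    rw [← side_inf' hB]
    refine ⟨?_, ?_⟩
    · exact Helper3.S1233B2.zpowers_le hC.s1 h11
    · exact Helper3.S1233B2.zpowers_le hC.s2
        (mul_mem (Subgroup.mem_zpowers _) (Subgroup.mem_zpowers _))
  have h14 : d.c₂ ^ 4 = 1 := by
    have h15 : d.c₂ ^ 4 = (d.c₂ * d.c₂) * (d.c₂ * d.c₂) := by
      rw [show (4 : ℕ) = 2 + 2 from rfl, pow_add, pow_two]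
    rw [h15]
    rcases (mem_Zs_iff hz).mp h13 with h | h
    · rw [h, mul_one]
    · rw [h, hz]
  exact Helper3.S1233B2.c_pow_four_ne hC.s2 h2 h14

/-- D6, one side -/
theorem D6_side (hC : Ctx Q₁ Q₂ d) (h1 : 3 ≤ d.n₁) (h2 : 3 ≤ d.n₂) (hM : Good Q₁ Q₂ d M)
    (x : S) (hx : ∀ m ∈ M, x⁻¹ * m * x ∈ M) (hxR : x ∈ Rs d.i₁ d.i₂) :
    x⁻¹ * d.c₁ * x ∈ Subgroup.zpowers d.c₁ := by
  have hB := hC.base
  have hzc := hB.z_central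
  have hi2 : d.i₂ ∈ Q₂ := hC.s2.i_mem
  have hj2 : d.j₂ ∈ Q₂ := hC.s2.j_mem
  have hi2sq : d.i₂ * d.i₂ = d.z := Helper3.S1233B2.side_i_sq hC.s2
  have hc1X : d.c₁ ∈ cen Q₂ := hC.s1.c_mem
  have hc1M : d.c₁ ∈ M := hM.le1 hc1X
  have hxi1 : Commute d.i₁ x := Subgroup.mem_centralizer_iff.mp hxR d.i₁ (by simp)
  have hxi2 : Commute d.i₂ x := Subgroup.mem_centralizer_iff.mp hxR d.i₂ (by simp)
  have hc1i1 : Commute d.i₁ d.c₁ := by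
    rw [hC.s1.i_eq]; exact (Commute.refl d.c₁).pow_left _
  have hc1i2 : Commute d.i₂ d.c₁ := Subgroup.mem_centralizer_iff.mp hc1X d.i₂ hi2
  have hzC1 : d.z ∈ Subgroup.zpowers d.c₁ := Helper3.S1233B2.z_mem_zpowers hC.s1
  have hconjcomm : ∀ i c : S, Commute i x → Commute i c → Commute i (x⁻¹ * c * x) :=
    fun i c h1 h2 => (h1.inv_right.mul_right h2).mul_right h1
  obtain ⟨g, hg⟩ : ∃ g : S, g = x⁻¹ * d.c₁ * x := ⟨_, rfl⟩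
  have hgM : g ∈ M := by rw [hg]; exact hx _ hc1M
  have hgR : g ∈ Rs d.i₁ d.i₂ := by
    rw [hg, Subgroup.mem_centralizer_iff]
    rintro h (rfl | rfl)
    · exact hconjcomm _ _ hxi1 hc1i1
    · exact hconjcomm _ _ hxi2 hc1i2
  have hgIn : InR1 d g := hM.rM g hgM hgR
  have hρ2In : InR1 d (d.j₂⁻¹ * (x⁻¹ * d.j₂ * x)) := by
    have hxR' : x ∈ Rs d.swap.i₁ d.swap.i₂ := by
      show x ∈ Rs d.i₂ d.i₁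
      rw [Rs_comm]; exact hxR
    obtain ⟨a, b⟩ := rho_InR1 (ctx_symm hC) h2 (good_symm hM) x hx hxR'
    exact ⟨b, a⟩
  -- step 1 : `[g, j₂] ∈ ⟨z⟩`
  have hcmgj2 : cm g d.j₂ ∈ Zs d.z := by
    have hc1j2 : Commute d.j₂ d.c₁ := Subgroup.mem_centralizer_iff.mp hc1X d.j₂ hj2
    have h3 : (x⁻¹ * d.j₂ * x) * g = g * (x⁻¹ * d.j₂ * x) := by
      rw [hg]
      calc x⁻¹ * d.j₂ * x * (x⁻¹ * d.c₁ * x) = x⁻¹ * (d.j₂ * d.c₁) * x := by group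
        _ = x⁻¹ * (d.c₁ * d.j₂) * x := by rw [hc1j2.eq]
        _ = x⁻¹ * d.c₁ * x * (x⁻¹ * d.j₂ * x) := by group
    have h4 : (x⁻¹ * d.j₂ * x) ∈ CzR d.z hzc g := by
      show cm g (x⁻¹ * d.j₂ * x) ∈ Zs d.z
      rw [cm_eq_one_of_comm h3]
      exact one_mem _
    have h5 : (d.j₂⁻¹ * (x⁻¹ * d.j₂ * x)) ∈ CzR d.z hzc g := by
      show cm g (d.j₂⁻¹ * (x⁻¹ * d.j₂ * x)) ∈ Zs d.z
      exact D1_comm hC h1 h2 g _ hgIn hρ2In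
    have h6 : d.j₂ = (x⁻¹ * d.j₂ * x) * (d.j₂⁻¹ * (x⁻¹ * d.j₂ * x))⁻¹ := by group
    have h7 : (x⁻¹ * d.j₂ * x) * (d.j₂⁻¹ * (x⁻¹ * d.j₂ * x))⁻¹ ∈ CzR d.z hzc g :=
      (CzR d.z hzc g).mul_mem h4 (inv_mem h5)
    rw [← h6] at h7
    exact h7
  -- step 2
  obtain ⟨a, y, hy, hgy⟩ := D4_j2 hC h1 h2 g hgR hcmgj2
  have hi2pow : ∀ b : ℕ, d.i₂ ^ (2 * b) = d.z ^ b := by
    intro b; rw [pow_mul, pow_two, hi2sq]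
  rw [← hg]
  rcases Nat.even_or_odd' a with ⟨b, rfl | rfl⟩
  · rw [hgy, hi2pow]
    exact mul_mem (pow_mem hzC1 b) hy
  · exfalso
    have hzb : Commute (d.z ^ b) d.i₂ := ((show Commute d.i₂ d.z from hzc d.i₂).pow_right b).symm
    have h3 : d.i₂ ^ (2 * b + 1) = d.i₂ * d.z ^ b := by
      rw [pow_succ, hi2pow, hzb.eq]
    have hy'C : d.z ^ b * y ∈ Subgroup.zpowers d.c₁ := mul_mem (pow_mem hzC1 b) hy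
    exact D6_odd_false hC h1 h2 hM x hx hxR (d.z ^ b * y) hy'C
      (by rw [← hg, hgy, h3, mul_assoc])

/-- D6 -/
theorem D6 (hC : Ctx Q₁ Q₂ d) (h1 : 3 ≤ d.n₁) (h2 : 3 ≤ d.n₂) (M : Subgroup S) (hM : Good Q₁ Q₂ d M)
    (x : S) (hx : ∀ m ∈ M, x⁻¹ * m * x ∈ M) (hxR : x ∈ Rs d.i₁ d.i₂) :
    x⁻¹ * d.c₁ * x ∈ Subgroup.zpowers d.c₁ ∧ x⁻¹ * d.c₂ * x ∈ Subgroup.zpowers d.c₂ := by
  refine ⟨D6_side hC h1 h2 hM x hx hxR, ?_⟩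
  have hxR' : x ∈ Rs d.swap.i₁ d.swap.i₂ := by
    show x ∈ Rs d.i₂ d.i₁
    rw [Rs_comm]; exact hxR
  exact D6_side (ctx_symm hC) h2 h1 (good_symm hM) x hx hxR'

end Cfsg.Agent.Lib.Helper5.S1233
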