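import Mathlib
import Cfsg.Agent.Lib.Helper1.S1233Defs
import Cfsg.Agent.Lib.Helper5.S1233D5a

/-!
# S1233 farm (helper5): auxiliary lemmas for D6 (no diagonal), pure group theory
-/

set_option autoImplicit false

namespace Cfsg.Agent.Lib.Helper5.S1233

open Cfsg.Agent.Lib.Helper1.S1233

variable {S : Type*} [Group S]

/-- if `w` normalises `H` then `(w c) ^ N ∈ w ^ N H` -/
theorem coset_pow {H : Subgroup S} {w : S} (hw : ∀ c ∈ H, w⁻¹ * c * w ∈ H) :
    ∀ N : ℕ, ∀ c ∈ H, ∃ c' ∈ H, (w * c) ^ N = w ^ N * c' := by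
  intro N
  induction N with
  | zero =>
    intro c _
    exact ⟨1, one_mem _, by simp⟩
  | succ N ih =>
    intro c hc
    obtain ⟨c', hc', h⟩ := ih c hc
    refine ⟨(w⁻¹ * c' * w) * c, mul_mem (hw c' hc') hc, ?_⟩
    rw [pow_succ, h, pow_succ]
    group

/-- if `w` normalises `H` then so does `w ^ N` -/
theorem norm_pow {H : Subgroup S} {w : S} (hw : ∀ c ∈ H, w⁻¹ * c * w ∈ H) :
    ∀ N : ℕ, ∀ c ∈ H, (w ^ N)⁻¹ * c * w ^ N ∈ H := by
  intro N
  induction N with
  | zero =>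
    intro c hc
    simpa using hc
  | succ N ih =>
    intro c hc
    have h : (w ^ (N + 1))⁻¹ * c * w ^ (N + 1) = w⁻¹ * ((w ^ N)⁻¹ * c * w ^ N) * w := by
      rw [pow_succ]; group
    rw [h]
    exact hw _ (ih c hc)

theorem conj_pow_z {r c z : S} (hzc : ∀ g : S, g * z = z * g) (h : r⁻¹ * c * r = c * z) :
    ∀ k : ℕ, (r ^ k)⁻¹ * c * r ^ k = c * z ^ k := by
  intro k
  induction k with
  | zero => simp
  | succ k ih =>
    have h1 : (r ^ (k + 1))⁻¹ * c * r ^ (k + 1) = r⁻¹ * ((r ^ k)⁻¹ * c * r ^ k) * r := by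
      rw [pow_succ]; group
    have hzk : z ^ k * r = r * z ^ k := ((show Commute r z from hzc r).pow_right k).eq.symm
    rw [h1, ih]
    calc r⁻¹ * (c * z ^ k) * r = (r⁻¹ * c * r) * (r⁻¹ * z ^ k * r) := by group
      _ = c * z * z ^ k := by rw [h, conj_of_comm hzk]
      _ = c * z ^ (k + 1) := by rw [mul_assoc, ← pow_succ']

theorem conj_pow_fix {r c : S} (h : r⁻¹ * c * r = c) (k : ℕ) : (r ^ k)⁻¹ * c * r ^ k = c := by
  have h1 : Commute c r := comm_of_conj h
  exact conj_of_comm (h1.pow_right k).eq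

theorem exists_pow_inv {r : S} {a k : ℕ} (ho : orderOf r = 2 ^ a) (hk : k % 2 = 1) :
    ∃ k' : ℕ, r ^ (k * k') = r := by
  rcases Nat.eq_zero_or_pos a with rfl | ha
  · have h1 : r = 1 := by
      rw [pow_zero, orderOf_eq_one_iff] at ho
      exact ho
    exact ⟨0, by rw [h1]; simp⟩
  · have h1 : 1 < 2 ^ a := Nat.one_lt_two_pow (by omega)
    have hodd : Odd k := Nat.odd_iff.mpr hk
    have hco : Nat.Coprime k (2 ^ a) := Nat.Coprime.pow_right a (Nat.coprime_two_right.mpr hodd)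
    obtain ⟨k', -, hk'⟩ := Nat.exists_mul_mod_eq_one_of_coprime hco h1
    refine ⟨k', ?_⟩
    rw [← pow_mod_orderOf, ho, hk', pow_one]

theorem odd_of_z_pow {z : S} (hz : z * z = 1) (hzne : z ≠ 1) {k : ℕ} (h : z ^ k = z) :
    k % 2 = 1 := by
  by_contra hk
  have hk0 : k = 2 * (k / 2) := by omega
  have h1 : z ^ k = 1 := by
    rw [hk0, pow_mul, pow_two, hz, one_pow]
  rw [h1] at h
  exact hzne h.symm

theorem pow_eps {i z : S} (hz : z * z = 1) (hii : i * i = z) {ε : ℕ} (hε : ε % 4 = 3) :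
    i ^ ε = i * z := by
  have h4 : i ^ 4 = 1 := by
    rw [show (4 : ℕ) = 2 + 2 from rfl, pow_add, pow_two, hii, hz]
  have h3 : i ^ 3 = i * z := by
    rw [← hii]
    simp [pow_succ, mul_assoc]
  have he : ε = 4 * (ε / 4) + 3 := by omega
  rw [he, pow_add, pow_mul, h4, one_pow, one_mul, h3]

/-- `j⁻¹ w j = w⁻¹` from `(j w)² = j²` -/
theorem inverts_of_sq {j w : S} (h : (j * w) * (j * w) = j * j) : j⁻¹ * w * j = w⁻¹ := by
  have h1 : w * j * w = j := by
    have h2 : j * (w * j * w) = j * j := by rw [← h]; group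
    exact mul_left_cancel h2
  have h3 : w * j = j * w⁻¹ := by
    calc w * j = (w * j * w) * w⁻¹ := by group
      _ = j * w⁻¹ := by rw [h1]
  rw [mul_assoc, h3]
  group

end Cfsg.Agent.Lib.Helper5.S1233
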