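import Mathlib
import Cfsg.Agent.Lib.Helper1.SFour1
import Cfsg.Agent.Lib.Helper1.PConstrainedQuotient
import Cfsg.Agent.Lib.Helper5.S1932Defs
import Cfsg.Agent.Lib.Helper1.S1932H
import Cfsg.Agent.Lib.Helper1.S1932E
import Cfsg.Agent.Lib.Helper4.S1932B
import Cfsg.Agent.Lib.Helper2.S1932D

/-! Farm S1932, unit G: the induction step and the induction (glue). Steps 1-4 and 6 are
helper1's proof of S2010 (`Lib/Helper1/SFour1`), Step 5 is new. -/
set_option autoImplicit false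
universe u
open Cfsg
open scoped commutatorElement Pointwise

namespace Cfsg.Agent.Lib.Helper5S1932

open Cfsg.Agent.Lib.Helper1 Cfsg.Agent.Lib.Helper1.SFour Cfsg.Agent.Lib.Helper1.StableQuad
open Cfsg.Agent.Lib.Helper5.S1932
open Cfsg.Agent.Lib.Helper1.S1932H Cfsg.Agent.Lib.Helper1.S1932E Cfsg.Agent.Lib.Helper4.S1932B
open Cfsg.Agent.Lib.Helper2.S1932D

/-- the new Step 5 (non-solvable): a member of `maxElAbIn 2 S` centralizes `V`. -/
theorem step5 {G : Type u} [Group G] [Finite G] (IH : IHyp.{u} (Nat.card G))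
    (hS4 : ¬ Cfsg.Involves (Equiv.Perm (Fin 4)) G) (hO : Cfsg.pPrimeCore 2 G = ⊥)
    (hc : Subgroup.centralizer (Cfsg.pCore 2 G : Set G) ≤ Cfsg.pCore 2 G)
    (S : Sylow 2 G)
    (hcl : ∀ x ∈ (S : Subgroup G), ∀ y ∈ (S : Subgroup G), ∀ z ∈ (S : Subgroup G),
      ⁅⁅x, y⁆, z⁆ = 1)
    (V : Subgroup G) [hVn : V.Normal] (hVel : IsElementaryAbelian 2 V)
    (hVQ' : V ≤ Cfsg.pCore 2 G ⊓ Subgroup.centralizer (Cfsg.pCore 2 G : Set G))
    (hO2 : Cfsg.pCore 2 (G ⧸ Subgroup.centralizer (V : Set G)) = ⊥)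
    (Z : Subgroup G)
    (hZle : Z ≤ (S : Subgroup G) ⊓ Subgroup.centralizer ((S : Subgroup G) : Set G))
    (A : Subgroup G) (hAmem : A ∈ maxElAbIn 2 (S : Subgroup G))
    (hApow : ∀ a ∈ A, a ^ 2 = 1)
    (hcomm : ∀ s ∈ (S : Subgroup G), ∀ a ∈ A, ⁅s, a⁆ ∈ Z)
    (hoff : Nat.card V * Nat.card ↥(A ⊓ Subgroup.centralizer (V : Set G)) ≤
      Nat.card A * Nat.card ↥(V ⊓ Subgroup.centralizer (A : Set G))) :
    A ≤ Subgroup.centralizer (V : Set G) := by
  have : Fact (Nat.Prime 2) := ⟨Nat.prime_two⟩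
  have hAS : A ≤ S := hAmem.1
  by_contra hAU
  apply hS4
  have hQS : Cfsg.pCore 2 G ≤ S := pCore_le_sylow 2 S
  have hVQ : V ≤ Cfsg.pCore 2 G := hVQ'.trans inf_le_left
  have hV2 : IsPGroup 2 V := (pCore_isPGroup 2).to_le hVQ
  -- `Q ≤ U`
  have hQU : Cfsg.pCore 2 G ≤ Subgroup.centralizer (V : Set G) := by
    intro q hq
    rw [Subgroup.mem_centralizer_iff]
    intro v hv
    have h1 := Subgroup.mem_centralizer_iff.mp (hVQ' hv).2 q hq
    exact h1.symm
  -- `S` is abelian modulo `U`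
  have hSab : ∀ x ∈ (S : Subgroup G), ∀ y ∈ (S : Subgroup G),
      ⁅x, y⁆ ∈ Subgroup.centralizer (V : Set G) := by
    intro x hx y hy
    apply hQU
    apply hc
    rw [Subgroup.mem_centralizer_iff]
    intro q hq
    have h1 := hcl x hx y hy q (hQS hq)
    rw [commutatorElement_def] at h1
    have h2 := mul_inv_eq_one.mp h1
    exact (mul_inv_eq_iff_eq_mul.mp h2).symm
  -- `A` has exponent two
  have hA2 : ∀ a ∈ A, a * a = 1 := fun a ha => by rw [← pow_two]; exact hApow a ha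
  -- quadratic action of `A`
  have hAq : ∀ a ∈ A, ∀ a' ∈ A, ∀ v ∈ V,
      a * (a' * v * a'⁻¹ * v⁻¹) * a⁻¹ = a' * v * a'⁻¹ * v⁻¹ := by
    intro a ha a' ha' v hv
    have h1 : ⁅v, a'⁆ ∈ Z := hcomm v (hQS (hVQ hv)) a' ha'
    have h2 : a' * v * a'⁻¹ * v⁻¹ = (⁅v, a'⁆)⁻¹ := by rw [commutatorElement_def]; group
    have h3 : (⁅v, a'⁆)⁻¹ ∈ Z := Z.inv_mem h1
    have h4 := Subgroup.mem_centralizer_iff.mp (hZle h3).2 a (hAS ha)
    rw [h2]
    calc a * (⁅v, a'⁆)⁻¹ * a⁻¹ = (⁅v, a'⁆)⁻¹ * a * a⁻¹ := by rw [h4]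
      _ = (⁅v, a'⁆)⁻¹ := by group
  -- `J`, `M`
  obtain ⟨M, hM⟩ : ∃ M : Subgroup G,
      M = Subgroup.normalizer (thompsonSubgroupOf 2 (S : Subgroup G) : Set G) := ⟨_, rfl⟩
  have hNS : Subgroup.normalizer ((S : Subgroup G) : Set G) ≤ M := by
    rw [hM]
    exact normalizer_le_normalizer_thompsonSubgroupOf (thompsonSubgroupOf_le_self 2 _) le_rfl
  -- the subgroups `H_t`
  have hH : ∀ t ∈ (S : Subgroup G), t ∉ Subgroup.centralizer (V : Set G) →
      ∀ h : G, ⁅h, t⁆ ∈ Subgroup.centralizer (V : Set G) → h ∈ M := by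
    intro t ht htU
    obtain ⟨π, hπ⟩ : ∃ π : G →* G ⧸ Subgroup.centralizer (V : Set G),
        π = QuotientGroup.mk' (Subgroup.centralizer (V : Set G)) := ⟨_, rfl⟩
    have hπ1 : ∀ x : G, π x = 1 ↔ x ∈ Subgroup.centralizer (V : Set G) := by
      intro x; rw [hπ]; exact QuotientGroup.eq_one_iff x
    have hπs : Function.Surjective π := by
      rw [hπ]; exact QuotientGroup.mk'_surjective _
    obtain ⟨Ht, hHt⟩ : ∃ Ht : Subgroup G,
        Ht = (Subgroup.centralizer ({π t} : Set (G ⧸ Subgroup.centralizer (V : Set G)))).comap π :=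
      ⟨_, rfl⟩
    have hmemHt : ∀ h : G, h ∈ Ht ↔ ⁅h, t⁆ ∈ Subgroup.centralizer (V : Set G) := by
      intro h
      rw [hHt, Subgroup.mem_comap, Subgroup.mem_centralizer_singleton_iff, ← hπ1,
        map_commutatorElement, commutatorElement_eq_one_iff_mul_comm]
    have hSH : (S : Subgroup G) ≤ Ht := by
      intro s hs
      rw [hmemHt]
      exact hSab s hs t ht
    have hHtop : Ht ≠ ⊤ := by
      intro htop
      apply htU
      rw [← hπ1]
      -- `π t` is central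
      have hcen : ∀ y : G ⧸ Subgroup.centralizer (V : Set G), y * π t = π t * y := by
        intro y
        obtain ⟨h, rfl⟩ := hπs y
        have h1 : h ∈ Ht := by rw [htop]; exact Subgroup.mem_top h
        rw [hHt, Subgroup.mem_comap, Subgroup.mem_centralizer_singleton_iff] at h1
        exact h1
      have hZn : (Subgroup.zpowers (π t)).Normal := by
        constructor
        intro n hn y
        have h2 : y * n * y⁻¹ = n := by
          obtain ⟨k, rfl⟩ := Subgroup.mem_zpowers_iff.mp hn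
          have h3 : y * π t ^ k = π t ^ k * y := by
            have := (Commute.zpow_right (show Commute y (π t) from hcen y) k)
            exact this.eq
          rw [h3]; group
        rw [h2]; exact hn
      have hZp : IsPGroup 2 (Subgroup.zpowers (π t)) := by
        have h1 : IsPGroup 2 (Subgroup.zpowers t) :=
          S.2.to_le ((Subgroup.zpowers_le).mpr ht)
        have h2 : Subgroup.zpowers (π t) = (Subgroup.zpowers t).map π := by
          rw [MonoidHom.map_zpowers]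
        rw [h2]
        exact h1.map π
      have h3 := le_pCore hZn hZp
      rw [hO2, le_bot_iff] at h3
      have h4 : π t ∈ Subgroup.zpowers (π t) := Subgroup.mem_zpowers _
      rw [h3, Subgroup.mem_bot] at h4
      exact h4
    have h5 := le_normalizer_of_IH IH hS4 hO hc S hcl Ht hSH hHtop
    intro h hh
    rw [hM]
    exact h5 ((hmemHt h).mpr hh)
  -- `U ≤ M`
  obtain ⟨t₀, ht₀A, ht₀U⟩ : ∃ t ∈ A, t ∉ Subgroup.centralizer (V : Set G) := by
    by_contra hcon
    push Not at hcon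
    exact hAU hcon
  have hUM : Subgroup.centralizer (V : Set G) ≤ M := by
    intro u hu
    apply hH t₀ (hAS ht₀A) ht₀U u
    have hUn : (Subgroup.centralizer (V : Set G)).Normal := inferInstance
    rw [commutatorElement_def]
    have h1 : t₀ * u⁻¹ * t₀⁻¹ ∈ Subgroup.centralizer (V : Set G) :=
      hUn.conj_mem _ (inv_mem hu) t₀
    have h2 : u * t₀ * u⁻¹ * t₀⁻¹ = u * (t₀ * u⁻¹ * t₀⁻¹) := by group
    rw [h2]
    exact mul_mem hu h1
  -- `M ≠ ⊤`
  have hMtop : M ≠ ⊤ := by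
    intro htop
    apply hAU
    have hJn : (thompsonSubgroupOf 2 (S : Subgroup G)).Normal := by
      rw [← Subgroup.normalizer_eq_top_iff, ← hM, htop]
    have hJ2 : IsPGroup 2 (thompsonSubgroupOf 2 (S : Subgroup G)) :=
      S.2.to_le (thompsonSubgroupOf_le_self 2 _)
    exact (le_thompsonSubgroupOf_of_mem hAmem).trans ((le_pCore hJn hJ2).trans hQU)
  obtain ⟨g, hg⟩ : ∃ g : G, g ∉ M := by
    by_contra hcon
    push Not at hcon
    exact hMtop (eq_top_iff.mpr fun x _ => hcon x)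
  -- `B = A^g`
  obtain ⟨B, hB⟩ : ∃ B : Subgroup G, B = A.map (MulAut.conj g⁻¹).toMonoidHom := ⟨_, rfl⟩
  have hBmem : ∀ b ∈ B, g * b * g⁻¹ ∈ A := by
    intro b hb
    rw [hB] at hb
    obtain ⟨a, ha, rfl⟩ := hb
    have : g * ((MulAut.conj g⁻¹).toMonoidHom a) * g⁻¹ = a := by
      simp; group
    rw [this]; exact ha
  have hBof : ∀ a ∈ A, g⁻¹ * a * g ∈ B := by
    intro a ha
    rw [hB]
    refine ⟨a, ha, ?_⟩
    simp
  have hB2 : ∀ b ∈ B, b * b = 1 := by
    intro b hb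
    have h1 := hA2 _ (hBmem b hb)
    have h2 : g * b * g⁻¹ * (g * b * g⁻¹) = g * (b * b) * g⁻¹ := by group
    rw [h2] at h1
    have h3 : b * b = g⁻¹ * (g * (b * b) * g⁻¹) * g := by group
    rw [h3, h1]; group
  have hBq : ∀ b ∈ B, ∀ b' ∈ B, ∀ v ∈ V,
      b * (b' * v * b'⁻¹ * v⁻¹) * b⁻¹ = b' * v * b'⁻¹ * v⁻¹ := by
    intro b hb b' hb' v hv
    have h1 := hAq _ (hBmem b hb) _ (hBmem b' hb') (g * v * g⁻¹) (hVn.conj_mem v hv g)
    have h2 : b * (b' * v * b'⁻¹ * v⁻¹) * b⁻¹ =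
        g⁻¹ * (g * b * g⁻¹ * (g * b' * g⁻¹ * (g * v * g⁻¹) * (g * b' * g⁻¹)⁻¹ * (g * v * g⁻¹)⁻¹) *
          (g * b * g⁻¹)⁻¹) * g := by group
    rw [h2, h1]; group
  have hBU : ¬ B ≤ Subgroup.centralizer (V : Set G) := by
    intro hcon
    apply ht₀U
    have hUn : (Subgroup.centralizer (V : Set G)).Normal := inferInstance
    have h1 := hcon (hBof t₀ ht₀A)
    have h2 := hUn.conj_mem _ h1 g
    have h3 : g * (g⁻¹ * t₀ * g) * g⁻¹ = t₀ := by group
    rwa [h3] at h2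
  have hodd : ∀ a ∈ A, ∀ b ∈ B, a ∉ Subgroup.centralizer (V : Set G) →
      b ∉ Subgroup.centralizer (V : Set G) →
      a * b⁻¹ ∉ Subgroup.centralizer (V : Set G) ∧
        ∃ n : ℕ, Odd n ∧ (a * b) ^ n ∈ Subgroup.centralizer (V : Set G) := by
    intro a ha b hb haU hbU
    exact odd_of_control (Subgroup.centralizer (V : Set G)) S M hSab hUM hNS hH g hg a b
      (hAS ha) haU (hA2 a ha) (hAS (hBmem b hb)) hbU (hB2 b hb)
  obtain ⟨a, haA, b, hbB, -, -, h3⟩ :=
    exists_three_dvd V hVel A B hA2 hB2 hAq hBq hAU hBU hodd hoff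
  exact involves_S4_of_three_dvd V hV2 a b (hA2 a haA) (hB2 b hbB) h3

theorem le_pCore_of_mem_maxElAbIn_step {G : Type u} [Group G] [Finite G]
    (IH : IHyp.{u} (Nat.card G))
    (hS4 : ¬ Cfsg.Involves (Equiv.Perm (Fin 4)) G) (hO : Cfsg.pPrimeCore 2 G = ⊥)
    (hc : Subgroup.centralizer (Cfsg.pCore 2 G : Set G) ≤ Cfsg.pCore 2 G)
    (S : Sylow 2 G)
    (hcl : ∀ x ∈ (S : Subgroup G), ∀ y ∈ (S : Subgroup G), ∀ z ∈ (S : Subgroup G),
      ⁅⁅x, y⁆, z⁆ = 1)
    (A : Subgroup G) (hA : A ∈ maxElAbIn 2 (S : Subgroup G)) : A ≤ Cfsg.pCore 2 G := by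
  have : Fact (Nat.Prime 2) := ⟨Nat.prime_two⟩
  obtain ⟨hAS, hAel, hAmax⟩ := hA
  obtain ⟨hAcomm, hApow⟩ := isElementaryAbelian_iff.mp hAel
  have hAp : IsPGroup 2 A := S.2.to_le hAS
  obtain ⟨Q, hQ⟩ : ∃ Q : Subgroup G, Q = Cfsg.pCore 2 G := ⟨_, rfl⟩
  have hQn : Q.Normal := by rw [hQ]; exact Cfsg.Agent.Lib.Helper1.pCore_normal 2
  have hQ2 : IsPGroup 2 Q := by rw [hQ]; exact pCore_isPGroup 2
  have hQS : Q ≤ S := by rw [hQ]; exact pCore_le_sylow 2 S
  -- `Z = Ω₁(Z(S))`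
  obtain ⟨Z, hZ⟩ : ∃ Z : Subgroup G, Z = omegaOne 2 ((S : Subgroup G) ⊓
      Subgroup.centralizer ((S : Subgroup G) : Set G)) := ⟨_, rfl⟩
  have hZel : IsElementaryAbelian 2 Z := by
    rw [hZ]; exact isElementaryAbelian_omegaOne_center 2 (S : Subgroup G)
  have hZle : Z ≤ (S : Subgroup G) ⊓ Subgroup.centralizer ((S : Subgroup G) : Set G) := by
    rw [hZ]; exact omegaOne_le 2 _
  -- `V`
  obtain ⟨V, hV⟩ : ∃ V : Subgroup G, V = ⨆ T : Sylow 2 G, omegaOne 2 ((T : Subgroup G) ⊓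
      Subgroup.centralizer ((T : Subgroup G) : Set G)) := ⟨_, rfl⟩
  have hVn : V.Normal := by rw [hV]; exact iSup_omegaOne_center_sylow_normal 2
  have hVel : IsElementaryAbelian 2 V := by rw [hV]; exact (S0601_aux hc).2.1
  have hZV : Z ≤ V := by
    rw [hZ, hV]
    exact le_iSup (fun T : Sylow 2 G => omegaOne 2 ((T : Subgroup G) ⊓
      Subgroup.centralizer ((T : Subgroup G) : Set G))) S
  have hVQ' : V ≤ Q ⊓ Subgroup.centralizer (Q : Set G) := by
    rw [hV, hQ]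
    apply iSup_le
    intro T
    exact (omegaOne_center_sylow_le hc T).trans (omegaOne_le 2 _)
  have hVQ : V ≤ Q := hVQ'.trans inf_le_left
  have hgen : V = ⨆ T : Sylow 2 G, V ⊓ Subgroup.centralizer ((T : Subgroup G) : Set G) := by
    apply le_antisymm
    · nth_rewrite 1 [hV]
      apply iSup_le
      intro T
      refine le_trans ?_ (le_iSup (fun T : Sylow 2 G =>
        V ⊓ Subgroup.centralizer ((T : Subgroup G) : Set G)) T)
      apply le_inf
      · rw [hV]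
        exact le_iSup (fun T : Sylow 2 G => omegaOne 2 ((T : Subgroup G) ⊓
          Subgroup.centralizer ((T : Subgroup G) : Set G))) T
      · exact (omegaOne_le 2 _).trans inf_le_right
    · exact iSup_le (fun T => inf_le_left)
  have hO2 : Cfsg.pCore 2 (G ⧸ Subgroup.centralizer (V : Set G)) = ⊥ :=
    pCore_quotient_centralizer_eq_bot V hgen
  -- Step 1: `Z ≤ A`
  have hZA : Z ≤ A := by
    have hBel : IsElementaryAbelian 2 (A ⊔ Z) := by
      rw [Subgroup.sup_eq_closure]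
      apply isElementaryAbelian_closure
      · intro x hx y hy
        rcases hx with hx | hx <;> rcases hy with hy | hy
        · exact hAcomm x hx y hy
        · exact Subgroup.mem_centralizer_iff.mp (hZle hy).2 x (hAS hx)
        · exact (Subgroup.mem_centralizer_iff.mp (hZle hx).2 y (hAS hy)).symm
        · exact isElementaryAbelian_comm hZel hx hy
      · intro x hx
        rcases hx with hx | hx
        · exact hApow x hx
        · exact hZel.2 x hx
    have hBS : A ⊔ Z ≤ S := sup_le hAS (hZle.trans inf_le_left)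
    have hcard := hAmax _ hBS hBel
    have heq : A = A ⊔ Z := Subgroup.eq_of_le_of_card_ge le_sup_left hcard
    rw [heq]; exact le_sup_right
  -- Step 2: `[S, A] ≤ Z`
  have hcomm : ∀ s ∈ (S : Subgroup G), ∀ a ∈ A, ⁅s, a⁆ ∈ Z := by
    intro s hs a ha
    have haS := hAS ha
    have hcS : ⁅s, a⁆ ∈ (S : Subgroup G) := by
      rw [commutatorElement_def]
      exact mul_mem (mul_mem (mul_mem hs haS) (inv_mem hs)) (inv_mem haS)
    have hcC : ⁅s, a⁆ ∈ Subgroup.centralizer ((S : Subgroup G) : Set G) := by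
      rw [Subgroup.mem_centralizer_iff]
      intro t ht
      have h1 := hcl s hs a haS t ht
      rw [commutatorElement_def] at h1
      have h2 := mul_inv_eq_one.mp h1
      exact (mul_inv_eq_iff_eq_mul.mp h2).symm
    have ha2 : a * a = 1 := by rw [← pow_two]; exact hApow a ha
    have hainv : a⁻¹ = a := inv_eq_of_mul_eq_one_right ha2
    obtain ⟨b, hb⟩ : ∃ b : G, b = s * a * s⁻¹ := ⟨_, rfl⟩
    have hb2 : b * b = 1 := by
      rw [hb]
      calc s * a * s⁻¹ * (s * a * s⁻¹) = s * (a * a) * s⁻¹ := by group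
        _ = 1 := by rw [ha2]; group
    have hc_eq : ⁅s, a⁆ = b * a := by rw [commutatorElement_def, hainv, hb]
    have hca : a * ⁅s, a⁆ = ⁅s, a⁆ * a := Subgroup.mem_centralizer_iff.mp hcC a haS
    have h3 : a * b * a = b := by
      rw [hc_eq] at hca
      calc a * b * a = a * (b * a) := by group
        _ = b * a * a := hca
        _ = b * (a * a) := by group
        _ = b := by rw [ha2, mul_one]
    have hc2 : ⁅s, a⁆ * ⁅s, a⁆ = 1 := by
      rw [hc_eq]
      calc b * a * (b * a) = b * (a * b * a) := by group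
        _ = b * b := by rw [h3]
        _ = 1 := hb2
    rw [hZ]
    apply Subgroup.subset_closure
    exact ⟨Subgroup.mem_inf.mpr ⟨hcS, hcC⟩, by rw [pow_two]; exact hc2⟩
  -- Step 4: the offender inequality
  have hoff : Nat.card V * Nat.card ↥(A ⊓ Subgroup.centralizer (V : Set G)) ≤
      Nat.card A * Nat.card ↥(V ⊓ Subgroup.centralizer (A : Set G)) := by
    obtain ⟨U, hU⟩ : ∃ U : Subgroup G, U = Subgroup.centralizer (V : Set G) := ⟨_, rfl⟩
    rw [← hU]
    have hBel : IsElementaryAbelian 2 ((A ⊓ U) ⊔ V) := by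
      rw [Subgroup.sup_eq_closure]
      apply isElementaryAbelian_closure
      · intro x hx y hy
        rcases hx with hx | hx <;> rcases hy with hy | hy
        · exact hAcomm x (Subgroup.mem_inf.mp hx).1 y (Subgroup.mem_inf.mp hy).1
        · have h1 : x ∈ Subgroup.centralizer (V : Set G) := hU ▸ (Subgroup.mem_inf.mp hx).2
          exact (Subgroup.mem_centralizer_iff.mp h1 y hy).symm
        · have h1 : y ∈ Subgroup.centralizer (V : Set G) := hU ▸ (Subgroup.mem_inf.mp hy).2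
          exact Subgroup.mem_centralizer_iff.mp h1 x hx
        · exact isElementaryAbelian_comm hVel hx hy
      · intro x hx
        rcases hx with hx | hx
        · exact hApow x (Subgroup.mem_inf.mp hx).1
        · exact hVel.2 x hx
    have hBS : (A ⊓ U) ⊔ V ≤ S := sup_le (inf_le_left.trans hAS) (hVQ.trans hQS)
    have hcard := hAmax _ hBS hBel
    have hformula := Cfsg.Agent.Lib.Helper1.GlaubermanRepl.card_sup_mul_card_inf_of_le_normalizer (A ⊓ U) V
      (by rw [Subgroup.normalizer_eq_top]; exact le_top)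
    have hle2 : Nat.card ↥((A ⊓ U) ⊓ V) ≤ Nat.card ↥(V ⊓ Subgroup.centralizer (A : Set G)) := by
      apply Subgroup.card_le_of_le
      intro x hx
      obtain ⟨hx1, hx2⟩ := Subgroup.mem_inf.mp hx
      refine Subgroup.mem_inf.mpr ⟨hx2, ?_⟩
      rw [Subgroup.mem_centralizer_iff]
      intro a ha
      exact hAcomm a ha x (Subgroup.mem_inf.mp hx1).1
    calc Nat.card V * Nat.card ↥(A ⊓ U) = Nat.card ↥(A ⊓ U) * Nat.card V := mul_comm _ _
      _ = Nat.card ↥((A ⊓ U) ⊔ V) * Nat.card ↥((A ⊓ U) ⊓ V) := hformula.symm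
      _ ≤ Nat.card A * Nat.card ↥(V ⊓ Subgroup.centralizer (A : Set G)) :=
        Nat.mul_le_mul hcard hle2
  -- Step 5: `A` centralizes `V` (new, non-solvable)
  have hAU : A ≤ Subgroup.centralizer (V : Set G) := by
    subst hQ
    exact step5 IH hS4 hO hc S hcl V hVel hVQ' hO2 Z hZle A ⟨hAS, hAel, hAmax⟩ hApow hcomm hoff
  -- Step 6: the stabilizer of the chain `Q ≥ V ≥ 1`
  obtain ⟨K, hK⟩ : ∃ K : Subgroup G,
      K = sectionKernel Q V ⊓ Subgroup.centralizer (V : Set G) := ⟨_, rfl⟩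
  have hKn : K.Normal := by
    rw [hK]
    have h1 : (sectionKernel Q V).Normal := by
      unfold sectionKernel
      have h2 : (Q.map (QuotientGroup.mk' V)).Normal :=
        hQn.map _ (QuotientGroup.mk'_surjective V)
      exact Subgroup.Normal.comap inferInstance _
    infer_instance
  have hK2 : IsPGroup 2 K := by
    rintro ⟨y, hy⟩
    have hn0 : orderOf y ≠ 0 := (orderOf_pos y).ne'
    obtain ⟨e, m, hm, hem⟩ := Nat.exists_eq_pow_mul_and_not_dvd hn0 2 (by norm_num)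
    obtain ⟨x, hx⟩ : ∃ x : G, x = y ^ (2 ^ e) := ⟨_, rfl⟩
    have hxK : x ∈ K := hx ▸ K.pow_mem hy _
    have hxm : x ^ m = 1 := by rw [hx, ← pow_mul, ← hem]; exact pow_orderOf_eq_one y
    rw [hK] at hxK
    obtain ⟨hxK1, hxK2⟩ := Subgroup.mem_inf.mp hxK
    have hxQ : x ∈ Subgroup.centralizer (Q : Set G) := by
      rw [Subgroup.mem_centralizer_iff]
      intro q hq
      obtain ⟨c, hc'⟩ : ∃ c : G, c = q⁻¹ * (x * q * x⁻¹) := ⟨_, rfl⟩
      have hcV : c ∈ V := by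
        have h1 := (mem_sectionKernel_iff Q V x).mp hxK1 q hq
        have h2 := hVn.conj_mem _ h1 q⁻¹
        have e : q⁻¹ * (x * q * x⁻¹ * q⁻¹) * q⁻¹⁻¹ = c := by rw [hc']; group
        rwa [e] at h2
      have h3 : (MulAut.conj x) q = q * c := by rw [MulAut.conj_apply, hc']; group
      have h4 : (MulAut.conj x) c = c := by
        rw [MulAut.conj_apply]
        have h5 := Subgroup.mem_centralizer_iff.mp hxK2 c hcV
        rw [← h5]; group
      have h5 := aut_pow_apply_of_fixed (MulAut.conj x) q c h3 h4 m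
      rw [← map_pow, hxm, map_one, MulAut.one_apply] at h5
      have hcm : c ^ m = 1 := by
        have h6 : q * c ^ m = q * 1 := by rw [mul_one]; exact h5.symm
        exact mul_left_cancel h6
      have hc2 : c ^ 2 = 1 := hVel.2 c hcV
      have hc1 : c = 1 := by
        have h7 : orderOf c ∣ Nat.gcd 2 m :=
          Nat.dvd_gcd (orderOf_dvd_of_pow_eq_one hc2) (orderOf_dvd_of_pow_eq_one hcm)
        have h8 : Nat.gcd 2 m = 1 := (Nat.Prime.coprime_iff_not_dvd Nat.prime_two).mpr hm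
        rw [h8] at h7
        exact orderOf_eq_one_iff.mp (Nat.dvd_one.mp h7)
      rw [hc1, mul_one, MulAut.conj_apply] at h3
      calc q * x = (x * q * x⁻¹) * x := by rw [h3]
        _ = x * q := by group
    have hxQ2 : x ∈ Q := by
      rw [hQ] at hxQ ⊢
      exact hc hxQ
    obtain ⟨i, hi⟩ := hQ2 ⟨x, hxQ2⟩
    refine ⟨e + i, ?_⟩
    apply Subtype.ext
    have hi' := congrArg Subtype.val hi
    simp only [Subgroup.coe_pow, Subgroup.coe_one] at hi' ⊢
    rw [pow_add, pow_mul, ← hx]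
    exact hi'
  have hKQ : K ≤ Cfsg.pCore 2 G := le_pCore hKn hK2
  refine le_trans ?_ hKQ
  intro a ha
  rw [hK]
  refine Subgroup.mem_inf.mpr ⟨?_, hAU ha⟩
  rw [mem_sectionKernel_iff]
  intro q hq
  have h1 := hcomm q (hQS hq) a ha
  have h2 : a * q * a⁻¹ * q⁻¹ = (⁅q, a⁆)⁻¹ := by rw [commutatorElement_def]; group
  rw [h2]
  exact V.inv_mem (hZV h1)


/-- the statement for all groups of order `n`, by strong induction. -/
theorem le_pCore_of_mem_maxElAbIn_aux (n : ℕ) : ∀ (G : Type u) [Group G] [Finite G],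
    Nat.card G = n → ¬ Cfsg.Involves (Equiv.Perm (Fin 4)) G → Cfsg.pPrimeCore 2 G = ⊥ →
    Subgroup.centralizer (Cfsg.pCore 2 G : Set G) ≤ Cfsg.pCore 2 G →
    ∀ S : Sylow 2 G, (∀ x ∈ (S : Subgroup G), ∀ y ∈ (S : Subgroup G), ∀ z ∈ (S : Subgroup G),
      ⁅⁅x, y⁆, z⁆ = 1) →
    ∀ A ∈ maxElAbIn 2 (S : Subgroup G), A ≤ Cfsg.pCore 2 G := by
  induction n using Nat.strong_induction_on with
  | _ n ih =>
    intro G _ _ hn hS4 hO hc S hcl A hA
    have IH : IHyp.{u} (Nat.card G) := by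
      intro H _ _ hlt hS4' hO' hc' T hcl' A' hA'
      exact ih (Nat.card H) (hn ▸ hlt) H rfl hS4' hO' hc' T hcl' A' hA'
    exact le_pCore_of_mem_maxElAbIn_step IH hS4 hO hc S hcl A hA

/-- In an `S₄`-free group with `O_{2'}(G) = 1`, `C_G(O_2(G)) ≤ O_2(G)` and Sylow `2`-subgroup of
class at most two, every elementary abelian subgroup of `S` of maximal order lies in `O_2(G)`. -/
theorem le_pCore_of_mem_maxElAbIn_c {G : Type u} [Group G] [Finite G]
    (hS4 : ¬ Cfsg.Involves (Equiv.Perm (Fin 4)) G) (hO : Cfsg.pPrimeCore 2 G = ⊥)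
    (hc : Subgroup.centralizer (Cfsg.pCore 2 G : Set G) ≤ Cfsg.pCore 2 G)
    (S : Sylow 2 G)
    (hcl : ∀ x ∈ (S : Subgroup G), ∀ y ∈ (S : Subgroup G), ∀ z ∈ (S : Subgroup G),
      ⁅⁅x, y⁆, z⁆ = 1)
    (A : Subgroup G) (hA : A ∈ maxElAbIn 2 (S : Subgroup G)) : A ≤ Cfsg.pCore 2 G :=
  le_pCore_of_mem_maxElAbIn_aux (Nat.card G) G rfl hS4 hO hc S hcl A hA

/-- `J_e(S)` is normal in `G` under the hypotheses above. -/
theorem normalizer_thompsonSubgroupOf_eq_top_c {G : Type u} [Group G] [Finite G]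
    (hS4 : ¬ Cfsg.Involves (Equiv.Perm (Fin 4)) G) (hO : Cfsg.pPrimeCore 2 G = ⊥)
    (hc : Subgroup.centralizer (Cfsg.pCore 2 G : Set G) ≤ Cfsg.pCore 2 G)
    (S : Sylow 2 G)
    (hcl : ∀ x ∈ (S : Subgroup G), ∀ y ∈ (S : Subgroup G), ∀ z ∈ (S : Subgroup G),
      ⁅⁅x, y⁆, z⁆ = 1) :
    Subgroup.normalizer (thompsonSubgroupOf 2 (S : Subgroup G) : Set G) = ⊤ := by
  have : Fact (Nat.Prime 2) := ⟨Nat.prime_two⟩
  have hJQ : thompsonSubgroupOf 2 (S : Subgroup G) ≤ Cfsg.pCore 2 G := by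
    rw [thompsonSubgroupOf_eq_sSup]
    apply sSup_le
    intro A hA
    exact le_pCore_of_mem_maxElAbIn_c hS4 hO hc S hcl A hA
  have h1 := normalizer_le_normalizer_thompsonSubgroupOf (p := 2) hJQ (pCore_le_sylow 2 S)
  rw [eq_top_iff]
  refine le_trans ?_ h1
  have : (Cfsg.pCore 2 G).Normal := Cfsg.Agent.Lib.Helper1.pCore_normal 2
  rw [Subgroup.normalizer_eq_top]

/-- S1932. -/
theorem s1932 {G : Type u} [Group G] [Finite G] (hcon : Cfsg.IsPConstrained 2 G)
    (hS4 : ¬ Cfsg.Involves (Equiv.Perm (Fin 4)) G) (S : Sylow 2 G)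
    (hcl : Subgroup.lowerCentralSeries (S : Subgroup G) 2 = ⊥) :
    Subgroup.normalizer ((Cfsg.thompsonSubgroupOf 2 (S : Subgroup G)) : Set G) ⊔
      Cfsg.pPrimeCore 2 G = ⊤ := by
  have : Fact (Nat.Prime 2) := ⟨Nat.prime_two⟩
  have hcl' : ∀ x ∈ (S : Subgroup G), ∀ y ∈ (S : Subgroup G), ∀ z ∈ (S : Subgroup G),
      ⁅⁅x, y⁆, z⁆ = 1 := by
    intro x hx y hy z hz
    have h1 : ⁅⁅x, y⁆, z⁆ ∈ Subgroup.lowerCentralSeries (S : Subgroup G) 2 := by
      rw [Subgroup.lowerCentralSeries_succ, Subgroup.lowerCentralSeries_succ,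
        Subgroup.lowerCentralSeries_zero]
      exact Subgroup.commutator_mem_commutator (Subgroup.commutator_mem_commutator hx hy) hz
    rw [hcl, Subgroup.mem_bot] at h1
    exact h1
  obtain ⟨R, hR⟩ : ∃ R : Subgroup G, R = Cfsg.pPrimeCore 2 G := ⟨_, rfl⟩
  have hRn : R.Normal := by rw [hR]; exact Cfsg.Agent.Lib.Helper1.pPrimeCore_normal 2
  have hRc : (Nat.card R).Coprime 2 := by rw [hR]; exact pPrimeCore_card_coprime 2
  have hOq : Cfsg.pPrimeCore 2 (G ⧸ R) = ⊥ := by subst hR; exact pPrimeCore_quotient_eq_bot 2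
  rw [← hR]
  have hS4q : ¬ Cfsg.Involves (Equiv.Perm (Fin 4)) (G ⧸ R) :=
    fun h => hS4 (Cfsg.Agent.Lib.Helper2.Inv.involves_of_quotient R h)
  obtain ⟨π, hπ⟩ : ∃ π : G →* G ⧸ R, π = QuotientGroup.mk' R := ⟨_, rfl⟩
  have hπs : Function.Surjective π := by rw [hπ]; exact QuotientGroup.mk'_surjective R
  have hclq : ∀ x ∈ ((S.mapSurjective hπs : Sylow 2 (G ⧸ R)) : Subgroup (G ⧸ R)),
      ∀ y ∈ ((S.mapSurjective hπs : Sylow 2 (G ⧸ R)) : Subgroup (G ⧸ R)),
      ∀ z ∈ ((S.mapSurjective hπs : Sylow 2 (G ⧸ R)) : Subgroup (G ⧸ R)), ⁅⁅x, y⁆, z⁆ = 1 := by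
    intro x hx y hy z hz
    rw [Sylow.coe_mapSurjective] at hx hy hz
    obtain ⟨x', hx', rfl⟩ := hx
    obtain ⟨y', hy', rfl⟩ := hy
    obtain ⟨z', hz', rfl⟩ := hz
    rw [← map_commutatorElement, ← map_commutatorElement, hcl' x' hx' y' hy' z' hz', map_one]
  have hcq : Subgroup.centralizer (Cfsg.pCore 2 (G ⧸ R) : Set (G ⧸ R)) ≤ Cfsg.pCore 2 (G ⧸ R) := by
    subst hR
    exact (isPConstrained_iff_of_pPrimeCore_eq_bot hOq).mp (isPConstrained_iff_quotient.mp hcon)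
  have hchar := normalizer_thompsonSubgroupOf_eq_top_c hS4q hOq hcq (S.mapSurjective hπs) hclq
  have hdisj : (S : Subgroup G) ⊓ R = ⊥ := by
    apply Disjoint.eq_bot
    apply Subgroup.disjoint_of_coprime_natCard
    obtain ⟨k, hk⟩ := S.2.exists_card_eq
    rw [hk]
    exact Nat.Coprime.pow_left _ hRc.symm
  have hinj : ∀ s ∈ (S : Subgroup G), π s = 1 → s = 1 := by
    intro s hs h1
    have h2 : s ∈ R := by
      rw [hπ] at h1
      exact (QuotientGroup.eq_one_iff s).mp h1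
    have h3 : s ∈ (S : Subgroup G) ⊓ R := ⟨hs, h2⟩
    rw [hdisj, Subgroup.mem_bot] at h3
    exact h3
  rw [Sylow.coe_mapSurjective, thompsonSubgroupOf_map_of_injOn π _ hinj,
    Subgroup.normalizer_eq_top_iff] at hchar
  obtain ⟨J, hJ⟩ : ∃ J : Subgroup G, J = thompsonSubgroupOf 2 (S : Subgroup G) := ⟨_, rfl⟩
  rw [← hJ] at hchar ⊢
  have hJS : J ≤ S := hJ ▸ thompsonSubgroupOf_le_self 2 _
  have hJp : IsPGroup 2 J := S.2.to_le hJS
  have hKn : (J ⊔ R).Normal := by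
    have h1 : ((J.map π).comap π).Normal := Subgroup.Normal.comap hchar _
    rwa [Subgroup.comap_map_eq, hπ, QuotientGroup.ker_mk'] at h1
  rw [sup_comm]
  exact Cfsg.Agent.Lib.Helper1.ZJ.sup_normalizer_eq_top_of_sup_normal R hRc J hJp hKn


end Cfsg.Agent.Lib.Helper5S1932
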