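import Mathlib
import Cfsg.Agent.Lib.Helper1.SFour1
import Cfsg.Agent.Lib.Helper1.PConstrainedQuotient
import Cfsg.Agent.Lib.Helper8.S4Loc3
import Cfsg.Agent.Lib.Helper5.S1932Defs

/-! FARM S1932 (owner helper5): STUBS (statements only, every body is `sorry`; never imported by
graded files).  S1932 = helper1's S2010 with `Group.IsSolvable` replaced by `IsPConstrained 2`. -/
set_option autoImplicit false
universe u
open Cfsg
open scoped commutatorElement Pointwise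

namespace Cfsg.Agent.Lib.Helper5.S1932Stubs

open Cfsg.Agent.Lib.Helper1 Cfsg.Agent.Lib.Helper5.S1932

/-- UNIT C (CORE, Mathlib only): two quadratic families of nilpotent endomorphisms of a finite
elementary abelian 2-group, all mixed products `(1+α)(1+β)` of odd order, `𝔄` an offender:
then some mixed product has order divisible by 3. -/
theorem core {V : Type*} [AddCommGroup V] [Finite V] (h2 : ∀ v : V, v + v = 0)
    (𝔄 𝔅 : AddSubgroup (AddMonoid.End V))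
    (hqA : ∀ α ∈ 𝔄, ∀ α' ∈ 𝔄, α * α' = 0) (hqB : ∀ β ∈ 𝔅, ∀ β' ∈ 𝔅, β * β' = 0)
    (hA0 : 𝔄 ≠ ⊥) (hB0 : 𝔅 ≠ ⊥)
    (hodd : ∀ α ∈ 𝔄, ∀ β ∈ 𝔅, α ≠ 0 → β ≠ 0 →
      α ≠ β ∧ ∃ n : ℕ, Odd n ∧ ((1 + α) * (1 + β)) ^ n = 1)
    (hoff : Nat.card V ≤ Nat.card 𝔄 * Nat.card {v : V // ∀ α ∈ 𝔄, α v = 0}) :
    ∃ α ∈ 𝔄, ∃ β ∈ 𝔅, α ≠ 0 ∧ β ≠ 0 ∧ ∀ n : ℕ, ((1 + α) * (1 + β)) ^ n = 1 → 3 ∣ n := by
  sorry

/-- UNIT B (BRIDGE): the same for two subgroups `A`, `B` of exponent 2 acting by conjugation on a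
normal elementary abelian 2-subgroup `V`. Uses `core` on `Additive ↥V`. -/
theorem exists_three_dvd {G : Type u} [Group G] [Finite G] (V : Subgroup G) [V.Normal]
    (hVel : IsElementaryAbelian 2 V) (A B : Subgroup G)
    (hA2 : ∀ a ∈ A, a * a = 1) (hB2 : ∀ b ∈ B, b * b = 1)
    (hAq : ∀ a ∈ A, ∀ a' ∈ A, ∀ v ∈ V,
      a * (a' * v * a'⁻¹ * v⁻¹) * a⁻¹ = a' * v * a'⁻¹ * v⁻¹)
    (hBq : ∀ b ∈ B, ∀ b' ∈ B, ∀ v ∈ V,
      b * (b' * v * b'⁻¹ * v⁻¹) * b⁻¹ = b' * v * b'⁻¹ * v⁻¹)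
    (hAU : ¬ A ≤ Subgroup.centralizer (V : Set G))
    (hBU : ¬ B ≤ Subgroup.centralizer (V : Set G))
    (hodd : ∀ a ∈ A, ∀ b ∈ B, a ∉ Subgroup.centralizer (V : Set G) →
      b ∉ Subgroup.centralizer (V : Set G) →
      a * b⁻¹ ∉ Subgroup.centralizer (V : Set G) ∧
        ∃ n : ℕ, Odd n ∧ (a * b) ^ n ∈ Subgroup.centralizer (V : Set G))
    (hoff : Nat.card V * Nat.card ↥(A ⊓ Subgroup.centralizer (V : Set G)) ≤
      Nat.card A * Nat.card ↥(V ⊓ Subgroup.centralizer (A : Set G))) :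
    ∃ a ∈ A, ∃ b ∈ B, a ∉ Subgroup.centralizer (V : Set G) ∧
      b ∉ Subgroup.centralizer (V : Set G) ∧
      ∀ n : ℕ, (a * b) ^ n ∈ Subgroup.centralizer (V : Set G) → 3 ∣ n := by
  sorry

/-- UNIT E: two involutions whose product has order divisible by 3 modulo `C_G(V)`, `V` a normal
2-subgroup: `S₄` is involved (`Hyp V a ((a*b)^(m/3))` + `S4Loc.involves_of_hyp_aux`). -/
theorem involves_S4_of_three_dvd {G : Type u} [Group G] [Finite G] (V : Subgroup G) [V.Normal]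
    (hV : IsPGroup 2 V) (a b : G) (ha2 : a * a = 1) (hb2 : b * b = 1)
    (h3 : ∀ n : ℕ, (a * b) ^ n ∈ Subgroup.centralizer (V : Set G) → 3 ∣ n) :
    Cfsg.Involves (Equiv.Perm (Fin 4)) G := by
  sorry

/-- UNIT D (strongly-embedded type control gives odd products): `U` normal, `S` Sylow and abelian
mod `U`, `M ≥ U, N_G(S)` and `M` contains the preimage of `C_{G/U}(tU)` for every `t ∈ S \ U`.
Then for `g ∉ M`, involutions `a ∈ S \ U`, `b ∈ S^g \ U` are distinct mod `U` and `ab` has odd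
order mod `U`. -/
theorem odd_of_control {G : Type u} [Group G] [Finite G] (U : Subgroup G) [U.Normal]
    (S : Sylow 2 G) (M : Subgroup G)
    (hSab : ∀ x ∈ (S : Subgroup G), ∀ y ∈ (S : Subgroup G), ⁅x, y⁆ ∈ U)
    (hUM : U ≤ M) (hNS : Subgroup.normalizer ((S : Subgroup G) : Set G) ≤ M)
    (hH : ∀ t ∈ (S : Subgroup G), t ∉ U → ∀ h : G, ⁅h, t⁆ ∈ U → h ∈ M)
    (g : G) (hg : g ∉ M) (a b : G) (ha : a ∈ (S : Subgroup G)) (haU : a ∉ U) (ha2 : a * a = 1)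
    (hb : g * b * g⁻¹ ∈ (S : Subgroup G)) (hbU : b ∉ U) (hb2 : b * b = 1) :
    a * b⁻¹ ∉ U ∧ ∃ n : ℕ, Odd n ∧ (a * b) ^ n ∈ U := by
  sorry

/-- UNIT H (transport of the inductive hypothesis to a proper subgroup `H ≥ S`): `J_e(S) ⊴ H`. -/
theorem le_normalizer_of_IH {G : Type u} [Group G] [Finite G] (IH : IHyp.{u} (Nat.card G))
    (hS4 : ¬ Cfsg.Involves (Equiv.Perm (Fin 4)) G) (hO : Cfsg.pPrimeCore 2 G = ⊥)
    (hc : Subgroup.centralizer (Cfsg.pCore 2 G : Set G) ≤ Cfsg.pCore 2 G)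
    (S : Sylow 2 G)
    (hcl : ∀ x ∈ (S : Subgroup G), ∀ y ∈ (S : Subgroup G), ∀ z ∈ (S : Subgroup G),
      ⁅⁅x, y⁆, z⁆ = 1)
    (H : Subgroup G) (hSH : (S : Subgroup G) ≤ H) (hH : H ≠ ⊤) :
    H ≤ Subgroup.normalizer (thompsonSubgroupOf 2 (S : Subgroup G) : Set G) := by
  sorry

/-- UNIT G1 (new Step 5 + helper1's Steps 1-4, 6): the induction step. -/
theorem le_pCore_of_mem_maxElAbIn_step {G : Type u} [Group G] [Finite G]
    (IH : IHyp.{u} (Nat.card G))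
    (hS4 : ¬ Cfsg.Involves (Equiv.Perm (Fin 4)) G) (hO : Cfsg.pPrimeCore 2 G = ⊥)
    (hc : Subgroup.centralizer (Cfsg.pCore 2 G : Set G) ≤ Cfsg.pCore 2 G)
    (S : Sylow 2 G)
    (hcl : ∀ x ∈ (S : Subgroup G), ∀ y ∈ (S : Subgroup G), ∀ z ∈ (S : Subgroup G),
      ⁅⁅x, y⁆, z⁆ = 1)
    (A : Subgroup G) (hA : A ∈ maxElAbIn 2 (S : Subgroup G)) : A ≤ Cfsg.pCore 2 G := by
  sorry

/-- UNIT G2: the statement for all groups (strong induction on the order). -/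
theorem le_pCore_of_mem_maxElAbIn {G : Type u} [Group G] [Finite G]
    (hS4 : ¬ Cfsg.Involves (Equiv.Perm (Fin 4)) G) (hO : Cfsg.pPrimeCore 2 G = ⊥)
    (hc : Subgroup.centralizer (Cfsg.pCore 2 G : Set G) ≤ Cfsg.pCore 2 G)
    (S : Sylow 2 G)
    (hcl : ∀ x ∈ (S : Subgroup G), ∀ y ∈ (S : Subgroup G), ∀ z ∈ (S : Subgroup G),
      ⁅⁅x, y⁆, z⁆ = 1)
    (A : Subgroup G) (hA : A ∈ maxElAbIn 2 (S : Subgroup G)) : A ≤ Cfsg.pCore 2 G := by
  sorry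

end Cfsg.Agent.Lib.Helper5.S1932Stubs
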