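import Mathlib
import Cfsg.Agent.S1230
import Cfsg.Agent.Lib.Helper5.SL2Cyclic

set_option autoImplicit false
set_option linter.unusedSectionVars false
set_option linter.unusedVariables false
set_option linter.unusedSimpArgs false
set_option linter.style.haveILetI false

/-! S3043 piece D (farmed out by helper7): one class of involutions, `C(z)` elementary abelian of
order `q = 2^e`, `|G| = q(q²-1)`, `M` abelian of order `q+1` ⇒ `G ≃ PSL₂(F)`, `|F| = q`, `M` cyclic. -/

namespace Cfsg.Agent.Lib.Helper5.S3043D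

open Subgroup

variable {G : Type*} [Group G] [Finite G]

/-- in characteristic two the centre of `SL₂(F)` is trivial -/
theorem center_sl2_eq_bot {F : Type*} [Field F] [CharP F 2] :
    Subgroup.center (Matrix.SpecialLinearGroup (Fin 2) F) = ⊥ := by
  rw [eq_bot_iff]
  intro A hA
  rw [Matrix.SpecialLinearGroup.mem_center_iff] at hA
  obtain ⟨r, hr, hrA⟩ := hA
  rw [Subgroup.mem_bot]
  have h2 : r ^ 2 = 1 := by simpa using hr
  have h3 : (r + 1) ^ 2 = 0 := by
    rw [CharTwo.add_sq, h2, one_pow, CharTwo.add_self_eq_zero]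
  have h4 : r + 1 = 0 := by simpa using h3
  have h5 : r = 1 := by
    have := eq_neg_of_add_eq_zero_left h4
    rw [this, CharTwo.neg_eq]
  subst h5
  apply Subtype.ext
  rw [← hrA]
  simp

/-- an abelian group of odd order which embeds in `PSL₂(F)`, `F` of characteristic two, is cyclic -/
theorem isCyclic_of_odd_comm {F : Type} [Field F] [Fintype F] [CharP F 2]
    (φ : G ≃* Matrix.ProjectiveSpecialLinearGroup (Fin 2) F) (M : Subgroup G)
    (hMc : ∀ x ∈ M, ∀ y ∈ M, x * y = y * x) (hodd : Odd (Nat.card M)) : IsCyclic ↥M := by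
  classical
  letI : CommGroup ↥M :=
    { (inferInstance : Group ↥M) with
      mul_comm := fun a b => Subtype.ext (hMc a a.2 b b.2) }
  have hcen : Subgroup.center (Matrix.SpecialLinearGroup (Fin 2) F) = ⊥ := center_sl2_eq_bot
  let ψ : Matrix.ProjectiveSpecialLinearGroup (Fin 2) F ≃* Matrix.SpecialLinearGroup (Fin 2) F :=
    (QuotientGroup.quotientMulEquivOfEq hcen).trans QuotientGroup.quotientBot
  haveI : IsZGroup ↥M := by
    refine ⟨fun p hp P => ?_⟩
    haveI : Fact p.Prime := ⟨hp⟩
    by_cases hp2 : p = 2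
    · subst hp2
      have hcard : Nat.card ↥(P : Subgroup ↥M) = 1 := by
        obtain ⟨k, hk⟩ := P.isPGroup'.exists_card_eq
        have hdvd : Nat.card ↥(P : Subgroup ↥M) ∣ Nat.card ↥M := Subgroup.card_subgroup_dvd_card _
        rcases Nat.eq_zero_or_pos k with h0 | hpos
        · rw [hk, h0, pow_zero]
        · exfalso
          have h2 : 2 ∣ Nat.card ↥M :=
            dvd_trans (dvd_trans (dvd_pow_self 2 (Nat.pos_iff_ne_zero.mp hpos)) (hk ▸ dvd_rfl)) hdvd
          exact (Nat.not_even_iff_odd.mpr hodd) (even_iff_two_dvd.mpr h2)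
      haveI : Subsingleton ↥(P : Subgroup ↥M) := (Nat.card_eq_one_iff_unique.mp hcard).1
      exact isCyclic_of_subsingleton
    · let j : ↥(P : Subgroup ↥M) →* Matrix.SpecialLinearGroup (Fin 2) F :=
        ψ.toMonoidHom.comp (φ.toMonoidHom.comp ((Subgroup.subtype M).comp (Subgroup.subtype P.1)))
      have hj : Function.Injective j := by
        intro a b hab
        have h1 : φ ((a : ↥M) : G) = φ ((b : ↥M) : G) := ψ.injective hab
        have h2 : ((a : ↥M) : G) = ((b : ↥M) : G) := φ.injective h1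
        exact Subtype.ext (Subtype.ext h2)
      have hR : IsPGroup p ↥j.range := P.isPGroup'.of_equiv (MonoidHom.ofInjective hj)
      have hpF : (p : F) ≠ 0 := by
        intro h0
        rw [CharP.cast_eq_zero_iff F 2 p] at h0
        exact hp2 ((Nat.prime_dvd_prime_iff_eq Nat.prime_two hp).mp h0).symm
      haveI : IsCyclic ↥j.range :=
        Cfsg.Agent.Lib.Helper5.SL2Cyclic.isCyclic_of_isPGroup p hp2 hpF j.range hR
      exact isCyclic_of_surjective (MonoidHom.ofInjective hj).symm.toMonoidHom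
        (MonoidHom.ofInjective hj).symm.surjective
  infer_instance

theorem pieceD (M : Subgroup G) (z : G) (e : ℕ) (he : 1 < e) (hz : orderOf z = 2)
    (hconj : ∀ t : G, orderOf t = 2 → ∃ g : G, t = g * z * g⁻¹)
    (hCc : ∀ a ∈ centralizer ({z} : Set G), ∀ b ∈ centralizer ({z} : Set G), a * b = b * a)
    (hCe : ∀ a ∈ centralizer ({z} : Set G), a ^ 2 = 1)
    (hCcard : Nat.card (centralizer ({z} : Set G)) = 2 ^ e)
    (hG : Nat.card G = 2 ^ e * (2 ^ e + 1) * (2 ^ e - 1))
    (hMc : ∀ x ∈ M, ∀ y ∈ M, x * y = y * x) (hMcard : Nat.card M = 2 ^ e + 1) :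
    ∃ (F : Type) (_ : Field F) (_ : Fintype F), Fintype.card F = 2 ^ e ∧ IsCyclic ↥M ∧
      Nonempty (G ≃* Matrix.ProjectiveSpecialLinearGroup (Fin 2) F) := by
  classical
  haveI : Fact (Nat.Prime 2) := ⟨Nat.prime_two⟩
  set C : Subgroup G := centralizer ({z} : Set G) with hCdef
  have h4 : 4 ≤ 2 ^ e := by
    calc 4 = 2 ^ 2 := by norm_num
      _ ≤ 2 ^ e := Nat.pow_le_pow_right (by norm_num) he
  -- the odd part
  have hmodd : ¬ 2 ∣ (2 ^ e + 1) * (2 ^ e - 1) := by
    intro h
    rcases (Nat.Prime.dvd_mul Nat.prime_two).mp h with h1 | h1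
    · have : 2 ∣ 2 ^ e := dvd_pow_self 2 (by omega)
      omega
    · have : 2 ∣ 2 ^ e := dvd_pow_self 2 (by omega)
      omega
  have hm0 : (2 ^ e + 1) * (2 ^ e - 1) ≠ 0 := by
    have : 0 < 2 ^ e - 1 := by omega
    positivity
  have hfac : (Nat.card G).factorization 2 = e := by
    rw [hG, mul_assoc, Nat.factorization_mul (by positivity) hm0,
      Nat.Prime.factorization_pow Nat.prime_two]
    simp [Nat.factorization_eq_zero_of_not_dvd hmodd]
  let T : Sylow 2 G := Sylow.ofCard C (by rw [hfac]; exact hCcard)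
  have hTC : (T : Subgroup G) = C := Sylow.coe_ofCard _ _
  -- not cyclic
  have hnc : ¬ IsCyclic ↥(T : Subgroup G) := by
    rw [hTC]
    intro hcyc
    obtain ⟨g, hg⟩ := hcyc.exists_generator
    have hord : orderOf g = Nat.card ↥C := orderOf_eq_card_of_forall_mem_zpowers hg
    have hg2 : g ^ 2 = 1 := Subtype.ext (by simpa using hCe g.1 g.2)
    have : orderOf g ∣ 2 := orderOf_dvd_of_pow_eq_one hg2
    have := Nat.le_of_dvd (by norm_num) this
    rw [hord, hCcard] at this
    omega
  -- index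
  have hidx : C.index = (2 ^ e + 1) * (2 ^ e - 1) := by
    have h := Subgroup.card_mul_index C
    rw [hCcard, hG, mul_assoc] at h
    exact Nat.eq_of_mul_eq_mul_left (by positivity) h
  -- not normal
  have hnn : ¬ (T : Subgroup G).Normal := by
    rw [hTC]
    intro hn
    have hzC : z ∈ C := by
      rw [hCdef, Subgroup.mem_centralizer_singleton_iff]
    let f : G ⧸ C → ↥C := Quotient.lift (fun g : G => (⟨g * z * g⁻¹, hn.conj_mem z hzC g⟩ : ↥C))
      (by
        intro a b hab
        have hab' : a⁻¹ * b ∈ C := QuotientGroup.leftRel_apply.mp hab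
        rw [hCdef, Subgroup.mem_centralizer_singleton_iff] at hab'
        apply Subtype.ext
        show a * z * a⁻¹ = b * z * b⁻¹
        have h1 : b = a * (a⁻¹ * b) := by group
        rw [h1]
        have h2 : a * (a⁻¹ * b) * z * (a * (a⁻¹ * b))⁻¹ = a * ((a⁻¹ * b) * z) * (a⁻¹ * b)⁻¹ * a⁻¹ := by
          group
        rw [h2, hab']
        group)
    have hf : Function.Injective f := by
      intro a b
      refine Quotient.inductionOn₂ a b ?_
      intro a b hab
      have h1 : a * z * a⁻¹ = b * z * b⁻¹ := congrArg Subtype.val hab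
      apply Quotient.sound
      apply QuotientGroup.leftRel_apply.mpr
      rw [hCdef, Subgroup.mem_centralizer_singleton_iff]
      have h2 : z = a⁻¹ * (b * z * b⁻¹) * a := by rw [← h1]; group
      calc a⁻¹ * b * z = a⁻¹ * (b * z * b⁻¹) * a * (a⁻¹ * b) := by group
        _ = z * (a⁻¹ * b) := by rw [← h2]
    have hle := Nat.card_le_card_of_injective f hf
    rw [← Subgroup.index_eq_card, hidx, hCcard] at hle
    have h3 : 3 ≤ 2 ^ e - 1 := by omega
    have : (2 ^ e + 1) * 3 ≤ (2 ^ e + 1) * (2 ^ e - 1) := Nat.mul_le_mul_left _ h3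
    omega
  -- involution centralizers
  have hC : ∀ t : G, orderOf t = 2 →
      IsMulCommutative ↥(Subgroup.centralizer ({t} : Set G)) ∧
        ∀ c ∈ Subgroup.centralizer ({t} : Set G), c ^ 2 = 1 := by
    intro t ht
    obtain ⟨g, rfl⟩ := hconj t ht
    have key : ∀ c ∈ Subgroup.centralizer ({g * z * g⁻¹} : Set G), g⁻¹ * c * g ∈ C := by
      intro c hc
      rw [Subgroup.mem_centralizer_singleton_iff] at hc
      rw [hCdef, Subgroup.mem_centralizer_singleton_iff]
      calc g⁻¹ * c * g * z = g⁻¹ * (c * (g * z * g⁻¹)) * g := by group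
        _ = g⁻¹ * ((g * z * g⁻¹) * c) * g := by rw [hc]
        _ = z * (g⁻¹ * c * g) := by group
    refine ⟨⟨⟨fun a b => ?_⟩⟩, fun c hc => ?_⟩
    · apply Subtype.ext
      show (a : G) * b = b * a
      have h := hCc _ (key a.1 a.2) _ (key b.1 b.2)
      calc (a : G) * b = g * ((g⁻¹ * a * g) * (g⁻¹ * b * g)) * g⁻¹ := by group
        _ = g * ((g⁻¹ * b * g) * (g⁻¹ * a * g)) * g⁻¹ := by rw [h]
        _ = b * a := by group
    · have h := hCe _ (key c hc)
      have h' : (g⁻¹ * c * g) * (g⁻¹ * c * g) = 1 := by rw [← pow_two]; exact h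
      calc c ^ 2 = c * c := pow_two c
        _ = g * ((g⁻¹ * c * g) * (g⁻¹ * c * g)) * g⁻¹ := by group
        _ = 1 := by rw [h']; group
  obtain ⟨F, hField, hFin, hFcard, ⟨φ⟩⟩ := Cfsg.Agent.S1230.result T hnc hnn hC
  have hFc : Fintype.card F = 2 ^ e := by
    rw [hFcard, hTC, hCcard]
  refine ⟨F, hField, hFin, hFc, ?_, ⟨φ⟩⟩
  -- characteristic two
  obtain ⟨p, hchar⟩ := CharP.exists F
  haveI := hchar
  obtain ⟨n, hp, hn⟩ := FiniteField.card F p
  have hp2 : p = 2 := by
    have h1 : p ∣ 2 ^ e := by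
      rw [← hFc, hn]
      exact dvd_pow_self p n.ne_zero
    exact (Nat.prime_dvd_prime_iff_eq hp Nat.prime_two).mp (hp.dvd_of_dvd_pow h1)
  subst hp2
  have hoddM : Odd (Nat.card ↥M) := by
    rw [hMcard]
    have : Even (2 ^ e) := (Nat.even_pow).mpr ⟨even_two, by omega⟩
    exact this.add_one
  exact isCyclic_of_odd_comm φ M hMc hoddM

end Cfsg.Agent.Lib.Helper5.S3043D
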