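import Mathlib
import Cfsg.Prelude.Def_Transfer
import Cfsg.Agent.S0199
import Cfsg.Agent.S0206
import Cfsg.Agent.Lib.Helper1.NCycSD1
import Cfsg.Agent.Lib.Helper1.FpfCyclic
import Cfsg.Agent.Lib.Helper1.BswE4

set_option autoImplicit false
set_option linter.unusedSectionVars false
set_option linter.unusedVariables false
set_option linter.unusedSimpArgs false
set_option linter.style.haveILetI false
set_option maxHeartbeats 1000000

/-! S3043 piece E (farmed out by helper7): the case `k = 2`, `m = 2^d + 1`: Baer–Suzuki gives a normal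
elementary abelian subgroup `E` of order `2^(2d)` complementing the dihedral group `N`. -/

namespace Cfsg.Agent.Lib.Helper5.S3043E

open Subgroup

variable {G : Type*} [Group G] [Finite G]

/-- number theory: `2^d + 1 ∣ 2^c - 1`, `1 ≤ c ≤ 2d` forces `c = 2d` -/
theorem nt_two_pow {d c : ℕ} (hd : 1 ≤ d) (hc1 : 1 ≤ c) (hc2 : c ≤ 2 * d)
    (hdvd : 2 ^ d + 1 ∣ 2 ^ c - 1) : c = 2 * d := by
  by_contra hne
  have hclt : c < 2 * d := lt_of_le_of_ne hc2 hne
  have hcpos : 2 ≤ 2 ^ c := by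
    calc 2 = 2 ^ 1 := by norm_num
      _ ≤ 2 ^ c := Nat.pow_le_pow_right (by norm_num) hc1
  rcases Nat.lt_or_ge d c with hdc | hcd
  · -- d < c < 2d
    obtain ⟨j, rfl⟩ := Nat.exists_eq_add_of_lt hdc
    -- c = d + j + 1
    have hj : j + 1 < d := by omega
    have h1 : 2 ^ (d + j + 1) = 2 ^ (j + 1) * 2 ^ d := by
      rw [show d + j + 1 = (j + 1) + d by ring, pow_add]
    have h2 : 2 ^ (j + 1) * (2 ^ d + 1) = (2 ^ (d + j + 1) - 1) + (2 ^ (j + 1) + 1) := by
      rw [h1]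
      have : 1 ≤ 2 ^ (j + 1) * 2 ^ d := Nat.one_le_iff_ne_zero.mpr (by positivity)
      rw [mul_add, mul_one]
      omega
    have h3 : 2 ^ d + 1 ∣ 2 ^ (j + 1) + 1 := by
      have h4 : 2 ^ d + 1 ∣ (2 ^ (d + j + 1) - 1) + (2 ^ (j + 1) + 1) := by
        rw [← h2]; exact dvd_mul_left _ _
      exact (Nat.dvd_add_right hdvd).mp h4
    have h5 : 2 ^ (j + 1) < 2 ^ d := Nat.pow_lt_pow_right (by norm_num) hj
    have := Nat.le_of_dvd (by positivity) h3
    omega
  · -- c ≤ d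
    have h5 : 2 ^ c ≤ 2 ^ d := Nat.pow_le_pow_right (by norm_num) hcd
    have := Nat.le_of_dvd (by omega) hdvd
    omega

/-- the involution `v`, not conjugate to `z`, generates a `2`-group with each of its conjugates -/
theorem two_pow_of_pair (M N : Subgroup G) (z v : G) (d : ℕ)
    (hTI : ∀ g : G, M ⊓ M.map (MulAut.conj g).toMonoidHom ≠ ⊥ → g ∈ N)
    (hMcard : Nat.card M = 2 ^ d + 1)
    (hinvN : ∀ t ∈ N, orderOf t = 2 → ∃ x ∈ M, t = x * z * x⁻¹)
    (hG : Nat.card G = 2 ^ (2 * d + 1) * (2 ^ d + 1))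
    (hv : orderOf v = 2) (hvz : ∀ g : G, v ≠ g * z * g⁻¹) (g : G) :
    ∃ e : ℕ, (v * (g * v * g⁻¹)) ^ 2 ^ e = 1 := by
  classical
  have hv2 : v * v = 1 := by
    have := pow_orderOf_eq_one v
    rwa [hv, pow_two] at this
  have hvinv : v⁻¹ = v := inv_eq_of_mul_eq_one_left hv2
  set v' : G := g * v * g⁻¹ with hv'def
  have hv'2 : v' * v' = 1 := by
    rw [hv'def]
    calc g * v * g⁻¹ * (g * v * g⁻¹) = g * (v * v) * g⁻¹ := by group
      _ = 1 := by rw [hv2]; group
  have hv'inv : v'⁻¹ = v' := inv_eq_of_mul_eq_one_left hv'2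
  set w : G := v * v' with hwdef
  have hconjw : v * w * v⁻¹ = w⁻¹ := by
    rw [hwdef, mul_inv_rev, hvinv, hv'inv]
    calc v * (v * v') * v = (v * v) * v' * v := by group
      _ = v' * v := by rw [hv2, one_mul]
  have hn0 : orderOf w ≠ 0 := (orderOf_pos w).ne'
  obtain ⟨e, m', hm'odd, hn⟩ := Nat.exists_eq_two_pow_mul_odd hn0
  by_cases hm1 : m' = 1
  · refine ⟨e, ?_⟩
    have : orderOf w = 2 ^ e := by rw [hn, hm1, mul_one]
    rw [← this]; exact pow_orderOf_eq_one w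
  exfalso
  obtain ⟨r, hr, hrm⟩ := Nat.exists_prime_and_dvd hm1
  have hr2 : r ≠ 2 := by
    rintro rfl
    exact (Nat.not_even_iff_odd.mpr hm'odd) (even_iff_two_dvd.mpr hrm)
  have hrn : r ∣ orderOf w := hn ▸ Dvd.dvd.mul_left hrm _
  haveI : Fact r.Prime := ⟨hr⟩
  set y : G := w ^ (orderOf w / r) with hydef
  have hyord : orderOf y = r := orderOf_pow_orderOf_div hn0 hrn
  have hy1 : y ≠ 1 := by
    intro h
    rw [h, orderOf_one] at hyord
    exact hr.one_lt.ne hyord
  have hconjy : v * y * v⁻¹ = y⁻¹ := by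
    rw [hydef, ← conj_pow, hconjw, inv_pow]
  -- r divides |M|
  have hrG : r ∣ Nat.card G := hyord ▸ orderOf_dvd_natCard y
  have hnr2 : ¬ r ∣ 2 ^ (2 * d + 1) := by
    intro h
    exact hr2 ((Nat.prime_dvd_prime_iff_eq hr Nat.prime_two).mp (hr.dvd_of_dvd_pow h))
  have hrM : r ∣ Nat.card M := by
    rw [hG] at hrG
    rcases (Nat.Prime.dvd_mul hr).mp hrG with h | h
    · exact absurd h hnr2
    · rw [hMcard]; exact h
  -- a Sylow r-subgroup of G inside M
  let R0 : Sylow r ↥M := default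
  let R : Subgroup G := (R0 : Subgroup ↥M).map M.subtype
  have hRM : R ≤ M := by
    rintro _ ⟨a, _, rfl⟩
    exact a.2
  have hRcard : Nat.card R = r ^ (Nat.card G).factorization r := by
    have h1 : Nat.card R = Nat.card (R0 : Subgroup ↥M) :=
      Nat.card_congr ((R0 : Subgroup ↥M).equivMapOfInjective M.subtype M.subtype_injective).symm.toEquiv
    rw [h1, R0.card_eq_multiplicity]
    congr 1
    have hf0 : (2 ^ (2 * d + 1)).factorization r = 0 := Nat.factorization_eq_zero_of_not_dvd hnr2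
    rw [hG, ← hMcard, Nat.factorization_mul (by positivity) (Nat.card_pos.ne'), Finsupp.add_apply,
      hf0, zero_add]
  let P : Sylow r G := Sylow.ofCard R hRcard
  have hPR : (P : Subgroup G) = R := Sylow.coe_ofCard _ _
  have hY : IsPGroup r (zpowers y) := by
    apply IsPGroup.of_card (n := 1)
    rw [Nat.card_zpowers, hyord, pow_one]
  obtain ⟨P', hYP'⟩ := hY.exists_le_sylow
  obtain ⟨h, hh⟩ := MulAction.exists_smul_eq G P P'
  have hyP' : y ∈ (P' : Subgroup G) := hYP' (mem_zpowers y)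
  rw [← hh, Sylow.coe_subgroup_smul, Subgroup.mem_pointwise_smul_iff_inv_smul_mem] at hyP'
  have hy'M : h⁻¹ * y * h ∈ M := by
    apply hRM
    rw [← hPR]
    have : (MulAut.conj h)⁻¹ • y = h⁻¹ * y * h := by
      rw [MulAut.smul_def, MulAut.conj_inv_apply]
    rw [← this]
    exact hyP'
  set y' : G := h⁻¹ * y * h with hy'def
  set v'' : G := h⁻¹ * v * h with hv''def
  have hy'1 : y' ≠ 1 := by
    intro h1
    apply hy1
    have : y = h * y' * h⁻¹ := by rw [hy'def]; group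
    rw [this, h1]; group
  have hconjy' : v'' * y' * v''⁻¹ = y'⁻¹ := by
    rw [hv''def, hy'def]
    calc h⁻¹ * v * h * (h⁻¹ * y * h) * (h⁻¹ * v * h)⁻¹ = h⁻¹ * (v * y * v⁻¹) * h := by group
      _ = (h⁻¹ * y * h)⁻¹ := by rw [hconjy]; group
  have hne : M ⊓ M.map (MulAut.conj v'').toMonoidHom ≠ ⊥ := by
    intro hbot
    have hmem : y'⁻¹ ∈ M ⊓ M.map (MulAut.conj v'').toMonoidHom := by
      refine ⟨M.inv_mem hy'M, ?_⟩
      refine ⟨y', hy'M, ?_⟩
      show MulAut.conj v'' y' = y'⁻¹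
      rw [MulAut.conj_apply, hconjy']
    rw [hbot, Subgroup.mem_bot, inv_eq_one] at hmem
    exact hy'1 hmem
  have hv''N : v'' ∈ N := hTI v'' hne
  have hv''ord : orderOf v'' = 2 := by
    have := orderOf_injective (MulAut.conj h⁻¹).toMonoidHom (MulAut.conj h⁻¹).injective v
    rw [← hv, ← this]
    congr 1
    show h⁻¹ * v * h = MulAut.conj h⁻¹ v
    rw [MulAut.conj_apply, inv_inv]
  obtain ⟨x, hxM, hx⟩ := hinvN v'' hv''N hv''ord
  apply hvz (h * x)
  have : v = h * v'' * h⁻¹ := by rw [hv''def]; group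
  rw [this, hx]; group

theorem pieceE (M N : Subgroup G) (z v : G) (d : ℕ) (hd : 1 ≤ d)
    (hM1 : M ≠ ⊥) (hMN : M ≤ N)
    (hTI : ∀ g : G, M ⊓ M.map (MulAut.conj g).toMonoidHom ≠ ⊥ → g ∈ N)
    (hMc : ∀ x ∈ M, ∀ y ∈ M, x * y = y * x) (hMcard : Nat.card M = 2 ^ d + 1)
    (hNcard : Nat.card N = 2 * (2 ^ d + 1))
    (hz : orderOf z = 2) (hzN : z ∈ N) (hzinv : ∀ x ∈ M, z * x * z⁻¹ = x⁻¹)
    (hcent : ∀ x ∈ M, x ≠ 1 → centralizer ({x} : Set G) ≤ M)
    (hinvN : ∀ t ∈ N, orderOf t = 2 → ∃ x ∈ M, t = x * z * x⁻¹)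
    (hG : Nat.card G = 2 ^ (2 * d + 1) * (2 ^ d + 1))
    (hv : orderOf v = 2) (hvz : ∀ g : G, v ≠ g * z * g⁻¹) :
    ∃ E : Subgroup G, E.Normal ∧ Cfsg.IsElementaryAbelian 2 E ∧ Nat.card E = 2 ^ (2 * d) ∧
      E ⊓ N = ⊥ ∧ E ⊔ N = ⊤ ∧ Nonempty (↥N ≃* DihedralGroup (2 ^ d + 1)) := by
  classical
  haveI : Fact (Nat.Prime 2) := ⟨Nat.prime_two⟩
  have hz2 : z * z = 1 := by
    have := pow_orderOf_eq_one z
    rwa [hz, pow_two] at this
  have hzinv' : z⁻¹ = z := inv_eq_of_mul_eq_one_left hz2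
  have hv2 : v * v = 1 := by
    have := pow_orderOf_eq_one v
    rwa [hv, pow_two] at this
  have hv1 : v ≠ 1 := by
    intro h; rw [h, orderOf_one] at hv; omega
  have hModd : Odd (Nat.card ↥M) := by
    rw [hMcard]
    have : Even (2 ^ d) := (Nat.even_pow).mpr ⟨even_two, by omega⟩
    exact this.add_one
  -- elements of M that are 2-elements are trivial
  have hM2 : ∀ x ∈ M, ∀ k : ℕ, x ^ 2 ^ k = 1 → x = 1 := by
    intro x hx k hk
    have h1 : orderOf x ∣ 2 ^ k := orderOf_dvd_of_pow_eq_one hk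
    have h2 : orderOf x ∣ Nat.card ↥M := by
      have := orderOf_dvd_natCard (⟨x, hx⟩ : ↥M)
      rwa [← Subgroup.orderOf_mk x hx]
    have h3 : (orderOf x).Coprime (orderOf x) :=
      Nat.Coprime.coprime_dvd_left h1
        (Nat.Coprime.coprime_dvd_right h2 (Nat.Coprime.pow_left k (Nat.coprime_two_left.mpr hModd)))
    have h4 : orderOf x = 1 := (Nat.coprime_self _).mp h3
    exact orderOf_eq_one_iff.mp h4
  -- Baer–Suzuki
  have hX : IsPGroup 2 (zpowers v) := by
    apply IsPGroup.of_card (n := 1)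
    rw [Nat.card_zpowers, hv, pow_one]
  have hBS : ∀ g : G, IsPGroup 2 ↥(zpowers v ⊔ (zpowers v).map (MulAut.conj g).toMonoidHom) := by
    intro g
    rw [MonoidHom.map_zpowers]
    have hv'2 : (g * v * g⁻¹) * (g * v * g⁻¹) = 1 := by
      calc g * v * g⁻¹ * (g * v * g⁻¹) = g * (v * v) * g⁻¹ := by group
        _ = 1 := by rw [hv2]; group
    obtain ⟨e, he⟩ := two_pow_of_pair M N z v d hTI hMcard hinvN hG hv hvz g
    exact Cfsg.Agent.Lib.Helper1.NCyc.isPGroup_two_zpowers_sup hv2 hv'2 e he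
  obtain ⟨Q, hQn, hQ2, hvQ'⟩ := Cfsg.Agent.S0199.result (zpowers v) hX hBS
  haveI := hQn
  have hvQ : v ∈ Q := hvQ' (mem_zpowers v)
  have hQbot : Q ≠ ⊥ := by
    intro h; rw [h, Subgroup.mem_bot] at hvQ; exact hv1 hvQ
  -- 2-elements of Q
  have hQpow : ∀ q ∈ Q, ∃ k : ℕ, q ^ 2 ^ k = 1 := by
    intro q hq
    obtain ⟨k, hk⟩ := hQ2 ⟨q, hq⟩
    exact ⟨k, by simpa using congrArg Subtype.val hk⟩
  have hQM : ∀ q ∈ Q, q ∈ M → q = 1 := by
    intro q hq hqM
    obtain ⟨k, hk⟩ := hQpow q hq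
    exact hM2 q hqM k hk
  -- index two
  have hMidx : (M.subgroupOf N).index = 2 := by
    have h := Subgroup.card_mul_index (M.subgroupOf N)
    rw [Nat.card_congr (Subgroup.subgroupOfEquivOfLe hMN).toEquiv, hMcard, hNcard] at h
    have : (2 ^ d + 1) * (M.subgroupOf N).index = (2 ^ d + 1) * 2 := by rw [h]; ring
    exact Nat.eq_of_mul_eq_mul_left (by positivity) this
  have hzM : z ∉ M := by
    intro h
    have := hM2 z h 1 (by rw [pow_one, pow_two]; exact hz2)
    rw [this, orderOf_one] at hz; omega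
  -- elements of N outside M are of the form x * z
  have hNM : ∀ t ∈ N, t ∉ M → ∃ x ∈ M, t = x * z := by
    intro t htN htM
    have h1 : (⟨t, htN⟩ : ↥N) ∉ M.subgroupOf N := by rwa [Subgroup.mem_subgroupOf]
    have h2 : (⟨z, hzN⟩ : ↥N) ∉ M.subgroupOf N := by rwa [Subgroup.mem_subgroupOf]
    have h3 := (Subgroup.mul_mem_iff_of_index_two hMidx).mpr
      (iff_of_false h1 (by
        intro h
        apply h2
        have := (M.subgroupOf N).inv_mem h
        simpa using this : ¬ ((⟨z, hzN⟩ : ↥N)⁻¹ ∈ M.subgroupOf N)))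
    rw [Subgroup.mem_subgroupOf] at h3
    refine ⟨t * z⁻¹, by simpa using h3, by group⟩
  have hNMinv : ∀ t ∈ N, t ∉ M → orderOf t = 2 := by
    intro t htN htM
    obtain ⟨x, hxM, rfl⟩ := hNM t htN htM
    have hsq : (x * z) * (x * z) = 1 := by
      have := hzinv x hxM
      calc x * z * (x * z) = x * (z * x * z⁻¹) * (z * z) := by group
        _ = 1 := by rw [this, hz2]; group
    apply orderOf_eq_prime
    · rw [pow_two]; exact hsq
    · intro h1; apply htM; rw [h1]; exact M.one_mem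
  -- Q ⊓ N = ⊥
  have hQN : Q ⊓ N = ⊥ := by
    rw [eq_bot_iff]
    rintro q ⟨hqQ, hqN⟩
    rw [Subgroup.mem_bot]
    by_contra hq1
    have hqM : q ∉ M := fun h => hq1 (hQM q hqQ h)
    obtain ⟨x, hxM, hx⟩ := hinvN q hqN (hNMinv q hqN hqM)
    have hzQ : z ∈ Q := by
      have : z = x⁻¹ * q * x⁻¹⁻¹ := by rw [hx]; group
      rw [this]
      exact hQn.conj_mem q hqQ x⁻¹
    apply hM1
    rw [eq_bot_iff]
    intro a haM
    rw [Subgroup.mem_bot]
    have h1 : a * z * a⁻¹ ∈ Q := hQn.conj_mem z hzQ a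
    have h2 : a * z * a⁻¹ * z⁻¹ ∈ Q := Q.mul_mem h1 (Q.inv_mem hzQ)
    have h3 : a * z * a⁻¹ * z⁻¹ = a * a := by
      have := hzinv a⁻¹ (M.inv_mem haM)
      rw [inv_inv] at this
      calc a * z * a⁻¹ * z⁻¹ = a * (z * a⁻¹ * z⁻¹) := by group
        _ = a * a := by rw [this]
    rw [h3] at h2
    have h4 := hQM (a * a) h2 (M.mul_mem haM haM)
    exact hM2 a haM 1 (by rw [pow_one, pow_two]; exact h4)
  -- semiregular action of M on normal 2-subgroups inside Q
  have hfreeQ : ∀ x ∈ M, ∀ c ∈ Q, c ≠ 1 → x * c = c * x → x = 1 := by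
    intro x hxM c hcQ hc1 hxc
    by_contra hx1
    have hcC : c ∈ centralizer ({x} : Set G) := by
      rw [Subgroup.mem_centralizer_singleton_iff]; exact hxc.symm
    exact hc1 (hQM c hcQ (hcent x hxM hx1 hcC))
  have hcount : ∀ A : Subgroup G, A ≤ Q → A ≠ ⊥ → (∀ g : G, ∀ c ∈ A, g * c * g⁻¹ ∈ A) →
      Nat.card A = 2 ^ (2 * d) := by
    intro A hAQ hA1 hAn
    have hdvd : Nat.card ↥M ∣ Nat.card ↥A - 1 :=
      Cfsg.Agent.Lib.Helper1.BswE.card_dvd_of_semiregular A M (fun m _ c hc => hAn m c hc)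
        (fun m hm c hc hc1 hmc => hfreeQ m hm c (hAQ hc) hc1 hmc)
    have hA2 : IsPGroup 2 ↥A := hQ2.to_le hAQ
    obtain ⟨c, hc⟩ := hA2.exists_card_eq
    have hc1 : 1 ≤ c := by
      rcases Nat.eq_zero_or_pos c with h0 | hpos
      · exfalso
        rw [h0, pow_zero] at hc
        exact hA1 (Subgroup.card_eq_one.mp hc)
      · exact hpos
    have hle : Nat.card ↥A * Nat.card ↥N ≤ Nat.card G := by
      have hdisj : Disjoint A N := by
        rw [disjoint_iff, eq_bot_iff]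
        exact le_trans (inf_le_inf_right N hAQ) hQN.le
      have := Nat.card_le_card_of_injective _ (Subgroup.mul_injective_of_disjoint hdisj)
      rwa [Nat.card_prod] at this
    have hc2 : c ≤ 2 * d := by
      rw [hc, hNcard, hG] at hle
      have h1 : 2 ^ c * (2 * (2 ^ d + 1)) = 2 ^ (c + 1) * (2 ^ d + 1) := by ring
      rw [h1] at hle
      have h2 : 2 ^ (c + 1) ≤ 2 ^ (2 * d + 1) := Nat.le_of_mul_le_mul_right hle (by positivity)
      have h3 : c + 1 ≤ 2 * d + 1 := (Nat.pow_le_pow_iff_right (by norm_num)).mp h2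
      omega
    rw [hc, hMcard] at hdvd
    rw [hc, nt_two_pow hd hc1 hc2 hdvd]
  have hQcard : Nat.card Q = 2 ^ (2 * d) :=
    hcount Q le_rfl hQbot (fun g c hc => hQn.conj_mem c hc g)
  -- the central elements of exponent two
  let A : Subgroup G :=
    { carrier := {x | x ∈ Q ∧ (∀ q ∈ Q, q * x = x * q) ∧ x * x = 1}
      one_mem' := ⟨Q.one_mem, fun q _ => by rw [mul_one, one_mul], by rw [mul_one]⟩
      mul_mem' := by
        rintro a b ⟨haQ, hac, ha2⟩ ⟨hbQ, hbc, hb2⟩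
        refine ⟨Q.mul_mem haQ hbQ, fun q hq => ?_, ?_⟩
        · rw [← mul_assoc, hac q hq, mul_assoc, hbc q hq, mul_assoc]
        · have hab : a * b = b * a := (hbc a haQ)
          calc a * b * (a * b) = a * (b * a) * b := by group
            _ = a * (a * b) * b := by rw [hab]
            _ = (a * a) * (b * b) := by group
            _ = 1 := by rw [ha2, hb2, one_mul]
      inv_mem' := by
        rintro a ⟨haQ, hac, ha2⟩
        have hainv : a⁻¹ = a := inv_eq_of_mul_eq_one_left ha2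
        rw [hainv]
        exact ⟨haQ, hac, ha2⟩ }
  have hAQ : A ≤ Q := fun x hx => hx.1
  have hAn : ∀ g : G, ∀ c ∈ A, g * c * g⁻¹ ∈ A := by
    rintro g c ⟨hcQ, hcc, hc2⟩
    refine ⟨hQn.conj_mem c hcQ g, fun q hq => ?_, ?_⟩
    · have h1 : g⁻¹ * q * g⁻¹⁻¹ ∈ Q := hQn.conj_mem q hq g⁻¹
      have h2 := hcc _ h1
      calc q * (g * c * g⁻¹) = g * ((g⁻¹ * q * g⁻¹⁻¹) * c) * g⁻¹ := by group
        _ = g * (c * (g⁻¹ * q * g⁻¹⁻¹)) * g⁻¹ := by rw [h2]
        _ = g * c * g⁻¹ * q := by group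
    · calc g * c * g⁻¹ * (g * c * g⁻¹) = g * (c * c) * g⁻¹ := by group
        _ = 1 := by rw [hc2]; group
  have hA1 : A ≠ ⊥ := by
    haveI : Nontrivial ↥Q := (Subgroup.nontrivial_iff_ne_bot Q).mpr hQbot
    haveI : Nontrivial ↥(center ↥Q) := hQ2.center_nontrivial
    have hZ2 : IsPGroup 2 ↥(center ↥Q) := hQ2.to_subgroup _
    obtain ⟨k, hk⟩ := hZ2.exists_card_eq
    have hk1 : k ≠ 0 := by
      intro h0
      rw [h0, pow_zero] at hk
      have := (Subgroup.card_eq_one.mp hk)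
      exact (Subgroup.nontrivial_iff_ne_bot _).mp inferInstance this
    have h2dvd : 2 ∣ Nat.card ↥(center ↥Q) := hk ▸ dvd_pow_self 2 hk1
    obtain ⟨c, hc⟩ := exists_prime_orderOf_dvd_card' 2 h2dvd
    intro hbot
    have hcA : ((c : ↥Q) : G) ∈ A := by
      refine ⟨(c : ↥Q).2, fun q hq => ?_, ?_⟩
      · have := (Subgroup.mem_center_iff.mp c.2) ⟨q, hq⟩
        exact congrArg Subtype.val this
      · have h1 : c ^ 2 = 1 := by rw [← hc]; exact pow_orderOf_eq_one c
        have h2 : ((c : ↥Q) : G) ^ 2 = 1 := by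
          have := congrArg (fun t : ↥(center ↥Q) => ((t : ↥Q) : G)) h1
          simpa using this
        rwa [pow_two] at h2
    rw [hbot, Subgroup.mem_bot] at hcA
    have hc1 : c = 1 := Subtype.ext (Subtype.ext hcA)
    rw [hc1, orderOf_one] at hc
    omega
  have hAcard : Nat.card A = 2 ^ (2 * d) := hcount A hAQ hA1 hAn
  have hAeq : A = Q := Subgroup.eq_of_le_of_card_ge hAQ (by rw [hAcard, hQcard])
  have hQelem : Cfsg.IsElementaryAbelian 2 Q := by
    refine ⟨⟨⟨fun a b => ?_⟩⟩, fun a ha => ?_⟩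
    · have hbA : (b : G) ∈ A := by rw [hAeq]; exact b.2
      exact Subtype.ext (hbA.2.1 a a.2)
    · have haA : a ∈ A := by rw [hAeq]; exact ha
      rw [pow_two]; exact haA.2.2
  -- complement
  have hcompl : IsComplement' Q N := by
    apply Subgroup.isComplement'_of_card_mul_and_disjoint
    · rw [hQcard, hNcard, hG]; ring
    · rw [disjoint_iff]; exact hQN
  -- M is cyclic
  haveI : IsMulCommutative ↥M := ⟨⟨fun a b => Subtype.ext (hMc a a.2 b b.2)⟩⟩
  have hMcyc : IsCyclic ↥M := by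
    apply Cfsg.Agent.Lib.Helper1.isCyclic_of_fpf_of_abelian M Q hQbot
    · intro x _
      exact (Subgroup.normalizer_eq_top_iff.mpr hQn) ▸ Subgroup.mem_top x
    · intro a haM ha1
      rw [eq_bot_iff]
      rintro c ⟨hcQ, hcC⟩
      rw [Subgroup.mem_bot]
      by_contra hc1
      have hcC' : c ∈ centralizer ({a} : Set G) := hcC
      rw [Subgroup.mem_centralizer_singleton_iff] at hcC'
      exact ha1 (hfreeQ a haM c hcQ hc1 hcC'.symm)
  -- N is dihedral
  obtain ⟨⟨r0, hr0M⟩, hgen⟩ := hMcyc.exists_generator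
  have hr0ord : orderOf r0 = 2 ^ d + 1 := by
    have := orderOf_eq_card_of_forall_mem_zpowers hgen
    rw [hMcard] at this
    rwa [Subgroup.orderOf_mk] at this
  have hy2 : (z * r0) * (z * r0) = 1 := by
    have := hzinv r0 hr0M
    calc z * r0 * (z * r0) = (z * r0 * z⁻¹) * (z * z) * r0 := by group
      _ = 1 := by rw [this, hz2]; group
  have hzr0M : z * r0 ∉ M := by
    intro h
    apply hzM
    have : z = (z * r0) * r0⁻¹ := by group
    rw [this]
    exact M.mul_mem h (M.inv_mem hr0M)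
  have hyord : orderOf (z * r0) = 2 := by
    apply orderOf_eq_prime
    · rw [pow_two]; exact hy2
    · intro h1; apply hzr0M; rw [h1]; exact M.one_mem
  have hzy : z ≠ z * r0 := by
    intro h
    have : r0 = 1 := by
      have := mul_left_cancel (a := z) (b := 1) (c := r0) (by rw [mul_one]; exact h)
      exact this.symm
    rw [this, orderOf_one] at hr0ord
    have : 2 ≤ 2 ^ d := by
      calc 2 = 2 ^ 1 := by norm_num
        _ ≤ 2 ^ d := Nat.pow_le_pow_right (by norm_num) hd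
    omega
  obtain ⟨φ⟩ := Cfsg.Agent.S0206.result z (z * r0) hz hyord hzy
  have hprod : z * (z * r0) = r0 := by rw [← mul_assoc, hz2, one_mul]
  rw [hprod, hr0ord] at φ
  have hcl : closure ({z, z * r0} : Set G) = N := by
    apply Subgroup.eq_of_le_of_card_ge
    · rw [Subgroup.closure_le]
      rintro t (rfl | rfl)
      · exact hzN
      · exact N.mul_mem hzN (hMN hr0M)
    · rw [Nat.card_congr φ.toEquiv, DihedralGroup.nat_card, hNcard]
  refine ⟨Q, hQn, hQelem, hQcard, hQN, hcompl.sup_eq_top, ⟨?_⟩⟩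
  exact (MulEquiv.subgroupCongr hcl).symm.trans φ

end Cfsg.Agent.Lib.Helper5.S3043E
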