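import Mathlib

set_option autoImplicit false
set_option linter.unusedSectionVars false

universe u

namespace Cfsg.Agent.Lib.Helper5.S4079D

variable {L : Type u} [Group L] [Finite L] {p : ℕ} [Fact p.Prime]

/-- the subgroup of fixed points of an automorphism -/
def fixSub (a : MulAut L) : Subgroup L where
  carrier := {l | a l = l}
  mul_mem' := by
    intro x y hx hy
    simp only [Set.mem_ofPred_eq] at *
    rw [map_mul, hx, hy]
  one_mem' := map_one a
  inv_mem' := by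
    intro x hx
    simp only [Set.mem_ofPred_eq] at *
    rw [map_inv, hx]

lemma mem_fixSub {a : MulAut L} {l : L} : l ∈ fixSub a ↔ a l = l := Iff.rfl

/-- a subgroup of prime order is generated by any nonidentity element -/
lemma eq_zpowers_of_card_prime {I : Subgroup L} (hI : Nat.card I = p) {x : L} (hx : x ∈ I)
    (hx1 : x ≠ 1) : I = Subgroup.zpowers x := by
  have hpp : p.Prime := Fact.out
  have hle : Subgroup.zpowers x ≤ I := (Subgroup.zpowers_le).2 hx
  symm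
  apply Subgroup.eq_of_le_of_card_ge hle
  rw [Nat.card_zpowers, hI]
  have hd : orderOf x ∣ p := by
    have h1 : orderOf (⟨x, hx⟩ : I) ∣ Nat.card I := orderOf_dvd_natCard _
    rw [hI] at h1
    have h2 : orderOf (⟨x, hx⟩ : I) = orderOf x := by
      rw [← Subgroup.orderOf_coe]
    rwa [h2] at h1
  rcases (Nat.dvd_prime hpp).1 hd with h | h
  · exact absurd (orderOf_eq_one_iff.1 h) hx1
  · exact h.ge

lemma pow_p_of_mem_card_prime {I : Subgroup L} (hI : Nat.card I = p) {x : L} (hx : x ∈ I) :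
    x ^ p = 1 := by
  have h1 : (⟨x, hx⟩ : I) ^ Nat.card I = 1 := pow_card_eq_one'
  rw [hI] at h1
  exact congrArg Subtype.val h1

/-- an automorphism of `p`-power order acts trivially on an invariant subgroup of order `p` -/
lemma fix_of_card_prime (a : MulAut L) (ha : a ^ p = 1) {I : Subgroup L} (hI : Nat.card I = p)
    (hinv : ∀ x ∈ I, a x ∈ I) : ∀ x ∈ I, a x = x := by
  have hpp : p.Prime := Fact.out
  intro x hx
  by_cases hx1 : x = 1
  · subst hx1; exact map_one a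
  have hIz := eq_zpowers_of_card_prime hI hx hx1
  have hax : a x ∈ Subgroup.zpowers x := hIz ▸ hinv x hx
  obtain ⟨j, hj⟩ : ∃ j : ℕ, x ^ j = a x := by
    have := (mem_powers_iff_mem_zpowers (x := x) (y := a x)).2 hax
    exact (Submonoid.mem_powers_iff _ _).1 this
  have hxp : x ^ p = 1 := pow_p_of_mem_card_prime hI hx
  have hord : orderOf x = p := orderOf_eq_prime hxp hx1
  have hiter : ∀ k : ℕ, (a ^ k) x = x ^ (j ^ k) := by
    intro k
    induction k with
    | zero => simp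
    | succ k ih =>
      rw [pow_succ', MulAut.mul_apply, ih, map_pow, ← hj, ← pow_mul, pow_succ']
  have h1 : x ^ (j ^ p) = x := by
    rw [← hiter p, ha]; rfl
  have h2 : x ^ (j ^ p) = x ^ j := by
    rw [pow_eq_pow_iff_modEq, hord]
    have := ZMod.pow_card (j : ZMod p)
    exact (ZMod.natCast_eq_natCast_iff _ _ _).1 (by push_cast; exact this)
  rw [← hj, ← h2, h1]


/-- counting: `|range| * |K| = |A|` when the kernel is in bijection with `K` -/
lemma card_range_mul {A : Type*} [Group A] [Finite A] (f : A →* L) {K : Subgroup L}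
    (e : ↥f.ker ≃ ↥K) : Nat.card K * Nat.card f.range = Nat.card A := by
  rw [← Subgroup.index_ker, ← Nat.card_congr e, Subgroup.card_mul_index]

/-- PIECE D, part 1: the set-up facts -/
theorem setup {L : Type u} [Group L] [Finite L] {p : ℕ} [Fact p.Prime]
    (hL : IsPGroup p L) (W H : Subgroup L)
    (hW : ∀ x : L, x ∈ W ↔ x ^ p = 1) (hH : ∀ x : L, x ∈ H ↔ x ^ p ∈ W)
    (hWc : Nat.card W = p ^ 2) (hHc : Nat.card H = p ^ 4)
    (hcen : ∀ w ∈ W, ∀ h ∈ H, w * h = h * w)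
    (hpow : ∀ x ∈ H, ∀ y ∈ H, (x * y) ^ p = x ^ p * y ^ p)
    (a : MulAut L) (ha : a ^ p = 1) (x₀ : L) (hx₀ : x₀ ^ p = 1) (hmove : a x₀ ≠ x₀) :
    Nat.card ↥(W ⊓ fixSub a) = p ∧ (∀ w ∈ W, a (w⁻¹ * a w) = w⁻¹ * a w) ∧
      (∀ w ∈ W, ∃ h ∈ H, h ^ p = w) := by
  have hpp : p.Prime := Fact.out
  have haW : ∀ w ∈ W, a w ∈ W := fun w hw =>
    (hW _).2 (by rw [← map_pow, (hW w).1 hw, map_one])
  have haH : ∀ h ∈ H, a h ∈ H := fun h hh =>
    (hH _).2 (by rw [← map_pow]; exact haW _ ((hH h).1 hh))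
  have hWH : W ≤ H := fun w hw => (hH w).2 (by rw [(hW w).1 hw]; exact W.one_mem)
  have hWcomm : ∀ w₁ ∈ W, ∀ w₂ ∈ W, w₁ * w₂ = w₂ * w₁ :=
    fun w₁ h₁ w₂ h₂ => hcen w₁ h₁ w₂ (hWH h₂)
  -- a nontrivial fixed point
  have hΦne : ∃ b : L, a b = b ∧ b ≠ 1 := by
    classical
    have : Fintype L := Fintype.ofFinite L
    have hnt : Nontrivial L := ⟨⟨a x₀, x₀, hmove⟩⟩
    have hcardL : p ∣ Fintype.card L := by
      rcases hL.card_eq_or_dvd with h | h
      · exfalso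
        have : 1 < Nat.card L := Finite.one_lt_card
        omega
      · rwa [Nat.card_eq_fintype_card] at h
    have hσ : (MulAut.toPerm L a) ^ p ^ 1 = 1 := by rw [pow_one, ← map_pow, ha, map_one]
    exact Equiv.Perm.exists_fixed_point_of_prime' hcardL hσ (a := 1) (map_one a)
  obtain ⟨c, hcfix, hcp, hc1⟩ : ∃ c : L, a c = c ∧ c ^ p = 1 ∧ c ≠ 1 := by
    obtain ⟨b, hb, hb1⟩ := hΦne
    have hPhi : IsPGroup p (fixSub a) := hL.to_subgroup _
    have hdv : p ∣ Nat.card (fixSub a) := by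
      rcases hPhi.card_eq_or_dvd with h | h
      · exfalso
        have h2 := (Subgroup.card_eq_one).1 h
        have : b ∈ fixSub a := hb
        rw [h2] at this
        exact hb1 (Subgroup.mem_bot.1 this)
      · exact h
    obtain ⟨c, hc⟩ := exists_prime_orderOf_dvd_card' p hdv
    refine ⟨c.1, c.2, ?_, ?_⟩
    · have h3 := pow_orderOf_eq_one c
      rw [hc] at h3
      exact congrArg Subtype.val h3
    · intro h
      have h4 : c = 1 := Subtype.ext h
      rw [h4, orderOf_one] at hc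
      exact hpp.one_lt.ne hc
  have hcF : c ∈ W ⊓ fixSub a := ⟨(hW c).2 hcp, hcfix⟩
  have hFle : W ⊓ fixSub a ≤ W := inf_le_left
  have hFcard : Nat.card ↥(W ⊓ fixSub a) = p := by
    have hdvd : Nat.card ↥(W ⊓ fixSub a) ∣ p ^ 2 := hWc ▸ Subgroup.card_dvd_of_le hFle
    obtain ⟨j, hj2, hj⟩ := (Nat.dvd_prime_pow hpp).1 hdvd
    interval_cases j
    · exfalso
      rw [pow_zero] at hj
      have h5 := Subgroup.card_eq_one.1 hj
      rw [h5] at hcF
      exact hc1 (Subgroup.mem_bot.1 hcF)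
    · simpa using hj
    · exfalso
      have hFW : W ⊓ fixSub a = W := Subgroup.eq_of_le_of_card_ge hFle (by rw [hj, hWc])
      have h6 : x₀ ∈ W ⊓ fixSub a := by rw [hFW]; exact (hW x₀).2 hx₀
      exact hmove h6.2
  refine ⟨hFcard, ?_, ?_⟩
  · -- the hom δ
    let δ : ↥W →* L :=
      { toFun := fun w => (w : L)⁻¹ * a w
        map_one' := by simp
        map_mul' := by
          intro w₁ w₂
          have hu : (w₁ : L)⁻¹ * a w₁ ∈ W := W.mul_mem (W.inv_mem w₁.2) (haW _ w₁.2)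
          have hc := hWcomm (w₂ : L)⁻¹ (W.inv_mem w₂.2) _ hu
          show ((w₁ : L) * w₂)⁻¹ * a (w₁ * w₂) = (w₁ : L)⁻¹ * a w₁ * ((w₂ : L)⁻¹ * a w₂)
          calc ((w₁ : L) * w₂)⁻¹ * a (w₁ * w₂)
              = (w₂ : L)⁻¹ * ((w₁ : L)⁻¹ * a w₁) * a w₂ := by rw [map_mul, mul_inv_rev]; group
            _ = (w₁ : L)⁻¹ * a w₁ * (w₂ : L)⁻¹ * a w₂ := by rw [hc]
            _ = (w₁ : L)⁻¹ * a w₁ * ((w₂ : L)⁻¹ * a w₂) := by group }
    have hδ : ∀ w : ↥W, δ w = (w : L)⁻¹ * a w := fun _ => rfl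
    -- kernel ≃ F
    let e : ↥δ.ker ≃ ↥(W ⊓ fixSub a) :=
      { toFun := fun k => ⟨(k.1 : L), k.1.2, by
          have h := k.2
          rw [MonoidHom.mem_ker, hδ, inv_mul_eq_one] at h
          exact h.symm⟩
        invFun := fun f => ⟨⟨f.1, f.2.1⟩, by
          rw [MonoidHom.mem_ker, hδ, inv_mul_eq_one]
          exact (f.2.2).symm⟩
        left_inv := fun k => rfl
        right_inv := fun f => rfl }
    have hcount := card_range_mul δ e
    rw [hFcard, hWc, pow_two] at hcount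
    have hIcard : Nat.card δ.range = p := Nat.eq_of_mul_eq_mul_left hpp.pos hcount
    have hIinv : ∀ x ∈ δ.range, a x ∈ δ.range := by
      rintro x ⟨w, rfl⟩
      refine ⟨⟨a w, haW _ w.2⟩, ?_⟩
      rw [hδ, hδ, map_mul, map_inv]
    have hfix := fix_of_card_prime a ha hIcard hIinv
    intro w hw
    exact hfix _ ⟨⟨w, hw⟩, rfl⟩
  · -- the hom φ
    let φ : ↥H →* L :=
      { toFun := fun h => (h : L) ^ p
        map_one' := by simp
        map_mul' := fun h₁ h₂ => hpow _ h₁.2 _ h₂.2 }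
    have hφ : ∀ h : ↥H, φ h = (h : L) ^ p := fun _ => rfl
    let e : ↥φ.ker ≃ ↥W :=
      { toFun := fun k => ⟨(k.1 : L), (hW _).2 (by
          have h := k.2
          rwa [MonoidHom.mem_ker, hφ] at h)⟩
        invFun := fun w => ⟨⟨w.1, hWH w.2⟩, by
          rw [MonoidHom.mem_ker, hφ]
          exact (hW _).1 w.2⟩
        left_inv := fun k => rfl
        right_inv := fun w => rfl }
    have hcount := card_range_mul φ e
    rw [hWc, hHc] at hcount
    have hRcard : Nat.card φ.range = p ^ 2 := by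
      have h7 : p ^ 2 * Nat.card φ.range = p ^ 2 * p ^ 2 := by rw [hcount]; ring
      exact Nat.eq_of_mul_eq_mul_left (pow_pos hpp.pos 2) h7
    have hRle : φ.range ≤ W := by
      rintro x ⟨h, rfl⟩
      rw [hφ]
      exact (hH _).1 h.2
    have hRW : φ.range = W := Subgroup.eq_of_le_of_card_ge hRle (by rw [hRcard, hWc])
    intro w hw
    rw [← hRW] at hw
    obtain ⟨h, rfl⟩ := hw
    exact ⟨h.1, h.2, rfl⟩


/-- PIECE D -/
theorem compute {L : Type u} [Group L] [Finite L] {p : ℕ} [Fact p.Prime]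
    (hp : p ≠ 2) (hL : IsPGroup p L) (W H : Subgroup L)
    (hW : ∀ x : L, x ∈ W ↔ x ^ p = 1) (hH : ∀ x : L, x ∈ H ↔ x ^ p ∈ W)
    (hWc : Nat.card W = p ^ 2) (hHc : Nat.card H = p ^ 4)
    (hcen : ∀ w ∈ W, ∀ h ∈ H, w * h = h * w)
    (hpow : ∀ x ∈ H, ∀ y ∈ H, (x * y) ^ p = x ^ p * y ^ p)
    (a : MulAut L) (ha : a ^ p = 1) (x₀ : L) (hx₀ : x₀ ^ p = 1) (hmove : a x₀ ≠ x₀) :
    p = 3 ∧ Nat.card {l : L // a l = l} = 3 := by
  have hpp : p.Prime := Fact.out
  obtain ⟨hFcard, hδF, hφsurj⟩ := setup hL W H hW hH hWc hHc hcen hpow a ha x₀ hx₀ hmove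
  have haW : ∀ w ∈ W, a w ∈ W := fun w hw =>
    (hW _).2 (by rw [← map_pow, (hW w).1 hw, map_one])
  have haH : ∀ h ∈ H, a h ∈ H := fun h hh =>
    (hH _).2 (by rw [← map_pow]; exact haW _ ((hH h).1 hh))
  have hWH : W ≤ H := fun w hw => (hH w).2 (by rw [(hW w).1 hw]; exact W.one_mem)
  have hWcomm : ∀ w₁ ∈ W, ∀ w₂ ∈ W, w₁ * w₂ = w₂ * w₁ :=
    fun w₁ h₁ w₂ h₂ => hcen w₁ h₁ w₂ (hWH h₂)
  -- step 2
  obtain ⟨y, hyH, hxW⟩ : ∃ y ∈ H, y⁻¹ * a y ∉ W := by
    by_contra hcon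
    push Not at hcon
    apply hmove
    obtain ⟨y, hyH, hy⟩ := hφsurj x₀ ((hW x₀).2 hx₀)
    have hv := hcon y hyH
    have hay : a y = y * (y⁻¹ * a y) := by group
    calc a x₀ = a (y ^ p) := by rw [hy]
      _ = (a y) ^ p := map_pow a y p
      _ = (y * (y⁻¹ * a y)) ^ p := by rw [← hay]
      _ = y ^ p * (y⁻¹ * a y) ^ p := hpow _ hyH _ (hWH hv)
      _ = x₀ := by rw [(hW _).1 hv, mul_one, hy]
  obtain ⟨x, hx⟩ : ∃ x : L, x = y⁻¹ * a y := ⟨_, rfl⟩
  rw [← hx] at hxW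
  have hxH : x ∈ H := by rw [hx]; exact H.mul_mem (H.inv_mem hyH) (haH y hyH)
  have hay : a y = y * x := by rw [hx]; group
  obtain ⟨t, ht⟩ : ∃ t : L, t = x ^ p := ⟨_, rfl⟩
  have htW : t ∈ W := by rw [ht]; exact (hH x).1 hxH
  have ht1 : t ≠ 1 := fun h => hxW ((hW x).2 (by rw [← ht, h]))
  have htδ : t = (y ^ p)⁻¹ * a (y ^ p) := by
    rw [ht, hx, hpow _ (H.inv_mem hyH) _ (haH y hyH), inv_pow, map_pow]
  have hat : a t = t := by rw [htδ]; exact hδF _ ((hH y).1 hyH)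
  obtain ⟨w₁, hw₁⟩ : ∃ w₁ : L, w₁ = x⁻¹ * a x := ⟨_, rfl⟩
  have hw₁p : w₁ ^ p = 1 := by
    rw [hw₁, hpow _ (H.inv_mem hxH) _ (haH x hxH), inv_pow, ← map_pow, ← ht, hat, inv_mul_cancel]
  have hw₁W : w₁ ∈ W := (hW _).2 hw₁p
  have hax : a x = x * w₁ := by rw [hw₁]; group
  obtain ⟨t', ht'⟩ : ∃ t' : L, t' = w₁⁻¹ * a w₁ := ⟨_, rfl⟩
  have ht'W : t' ∈ W := by rw [ht']; exact W.mul_mem (W.inv_mem hw₁W) (haW _ hw₁W)
  have hat' : a t' = t' := by rw [ht']; exact hδF _ hw₁W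
  have haw₁ : a w₁ = w₁ * t' := by rw [ht']; group
  have ht'p : t' ^ p = 1 := (hW _).1 ht'W
  have cxw : Commute x w₁ := (hcen w₁ hw₁W x hxH).symm
  have cwt : Commute w₁ t' := hWcomm _ hw₁W _ ht'W
  -- step 3
  have hiter : ∀ k : ℕ, (a ^ k) y = y * x ^ k * w₁ ^ (k.choose 2) * t' ^ (k.choose 3) := by
    intro k
    induction k with
    | zero => simp
    | succ k ih =>
      have h2 : (k + 1).choose 2 = k + k.choose 2 := by
        have := Nat.choose_succ_succ' k 1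
        simpa using this
      have h3 : (k + 1).choose 3 = k.choose 2 + k.choose 3 := by
        have := Nat.choose_succ_succ' k 2
        simpa using this
      rw [pow_succ', MulAut.mul_apply, ih, map_mul, map_mul, map_mul, map_pow, map_pow, map_pow,
        hay, hax, haw₁, hat', cxw.mul_pow, cwt.mul_pow, h2, h3]
      simp only [pow_succ', pow_add, mul_assoc]
  -- step 4
  have hrel : t * w₁ ^ (p.choose 2) * t' ^ (p.choose 3) = 1 := by
    have h := hiter p
    rw [ha, MulAut.one_apply] at h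
    have h' : y * (x ^ p * w₁ ^ p.choose 2 * t' ^ p.choose 3) = y * 1 := by
      rw [mul_one]
      simpa [mul_assoc] using h.symm
    rw [ht]
    exact mul_left_cancel h'
  have hp3 : 2 < p := lt_of_le_of_ne hpp.two_le (Ne.symm hp)
  have hw2 : w₁ ^ (p.choose 2) = 1 := by
    obtain ⟨m, hm⟩ := hpp.dvd_choose_self (by norm_num : (2 : ℕ) ≠ 0) hp3
    rw [hm, pow_mul, hw₁p, one_pow]
  have hp_eq : p = 3 := by
    by_contra hne
    have h3 : 3 < p := lt_of_le_of_ne hp3 (Ne.symm hne)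
    have h4 : t' ^ (p.choose 3) = 1 := by
      obtain ⟨m, hm⟩ := hpp.dvd_choose_self (by norm_num : (3 : ℕ) ≠ 0) h3
      rw [hm, pow_mul, ht'p, one_pow]
    rw [hw2, h4, mul_one, mul_one] at hrel
    exact ht1 hrel
  subst hp_eq
  refine ⟨rfl, ?_⟩
  have htt' : t * t' = 1 := by
    rw [hw2, mul_one, Nat.choose_self, pow_one] at hrel
    exact hrel
  have ht'1 : t' ≠ 1 := fun h => ht1 (by rw [h, mul_one] at htt'; exact htt')
  have htF : t ∈ W ⊓ fixSub a := ⟨htW, hat⟩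
  have hFz : W ⊓ fixSub a = Subgroup.zpowers t := eq_zpowers_of_card_prime hFcard htF ht1
  have ht3 : t ^ 3 = 1 := (hW t).1 htW
  -- step 5
  have hfixH : ∀ h ∈ H, a h = h → h ∈ W := by
    intro h hh hah
    have hhp : h ^ 3 ∈ W ⊓ fixSub a :=
      ⟨(hH h).1 hh, by show a (h ^ 3) = h ^ 3; rw [map_pow, hah]⟩
    rw [hFz] at hhp
    obtain ⟨n, hn⟩ : ∃ n : ℕ, t ^ n = h ^ 3 := by
      have := (mem_powers_iff_mem_zpowers (x := t) (y := h ^ 3)).2 hhp
      exact (Submonoid.mem_powers_iff _ _).1 this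
    obtain ⟨i, hi3, hn'⟩ : ∃ i : ℕ, i < 3 ∧ t ^ i = h ^ 3 :=
      ⟨n % 3, Nat.mod_lt _ (by norm_num), by rw [← hn, pow_eq_pow_mod n ht3]⟩
    have hxiH : x ^ i ∈ H := H.pow_mem hxH i
    obtain ⟨w, hwdef⟩ : ∃ w : L, w = (x ^ i)⁻¹ * h := ⟨_, rfl⟩
    have hwp : w ^ 3 = 1 := by
      rw [hwdef, hpow _ (H.inv_mem hxiH) _ hh, inv_pow, ← pow_mul, mul_comm i 3, pow_mul, ← ht,
        hn', inv_mul_cancel]
    have hwW : w ∈ W := (hW w).2 hwp
    have hh_eq : h = x ^ i * w := by rw [hwdef]; group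
    have hah2 : a h = x ^ i * w₁ ^ i * a w := by
      rw [hh_eq, map_mul, map_pow, hax, cxw.mul_pow]
    have h11 : w₁ ^ i * a w = w := by
      have h8 : x ^ i * (w₁ ^ i * a w) = x ^ i * w := by
        rw [← mul_assoc, ← hah2, hah, ← hh_eq]
      exact mul_left_cancel h8
    have hw1i : w₁ ^ i = w * (a w)⁻¹ := eq_mul_inv_of_mul_eq h11
    have hfixw : a (w₁ ^ i) = w₁ ^ i := by
      have h9 : w * (a w)⁻¹ = (w⁻¹ * a w)⁻¹ := by
        rw [mul_inv_rev, inv_inv]
        exact hWcomm _ hwW _ (W.inv_mem (haW _ hwW))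
      rw [hw1i, h9, map_inv, hδF w hwW]
    have h10 : a (w₁ ^ i) = w₁ ^ i * t' ^ i := by rw [map_pow, haw₁, cwt.mul_pow]
    have ht'i : t' ^ i = 1 := by
      have h12 : w₁ ^ i * t' ^ i = w₁ ^ i * 1 := by rw [← h10, hfixw, mul_one]
      exact mul_left_cancel h12
    have hi0 : i = 0 := by
      have hord : orderOf t' = 3 := orderOf_eq_prime ht'p ht'1
      have hdv : 3 ∣ i := by rw [← hord]; exact orderOf_dvd_of_pow_eq_one ht'i
      omega
    rw [hh_eq, hi0, pow_zero, one_mul]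
    exact hwW
  -- step 6
  have key : ∀ k : ℕ, ∀ g : L, a g = g → g ^ (3 ^ k) = 1 → g ^ 3 = 1 := by
    intro k
    induction k with
    | zero =>
      intro g _ h
      rw [pow_zero, pow_one] at h
      rw [h, one_pow]
    | succ k ih =>
      intro g hg h
      rcases Nat.eq_zero_or_pos k with hk | hk
      · subst hk
        simpa using h
      · have h1 : (g ^ 3) ^ (3 ^ k) = 1 := by
          rw [← pow_mul, ← pow_succ']
          exact h
        have h2 : (g ^ 3) ^ 3 = 1 := ih (g ^ 3) (by rw [map_pow, hg]) h1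
        have hgH : g ∈ H := (hH g).2 ((hW _).2 h2)
        exact (hW g).1 (hfixH g hgH hg)
  have hΦW : ∀ g : L, a g = g → g ^ 3 = 1 := by
    intro g hg
    obtain ⟨k, hk⟩ := hL g
    exact key k g hg hk
  refine (Nat.card_congr ?_).trans hFcard
  exact
    { toFun := fun l => ⟨l.1, (hW _).2 (hΦW l.1 l.2), l.2⟩
      invFun := fun f => ⟨f.1, f.2.2⟩
      left_inv := fun _ => rfl
      right_inv := fun _ => rfl }

end Cfsg.Agent.Lib.Helper5.S4079D
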