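import Mathlib

/-! # `A₆ ⊴ G` of index two with outer elements centralizing all elements of order three:
`G ≅ S₆` (farm-out E2 of S3333) -/

set_option autoImplicit false

namespace Cfsg.Agent.Lib.Helper5.S6End

open Equiv Equiv.Perm

/-- A subgroup of order `60` of `Perm (Fin 6)` containing a three-cycle fixes a point. -/
lemma exists_fixed_of_card_sixty (H : Subgroup (Perm (Fin 6))) (hH : Nat.card H = 60)
    {s : Perm (Fin 6)} (hs : s ∈ H) (hs3 : s.IsThreeCycle) : ∃ p : Fin 6, ∀ h ∈ H, h p = p := by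
  classical
  have : Fact (Nat.Prime 5) := ⟨by norm_num⟩
  obtain ⟨c, hc⟩ := exists_prime_orderOf_dvd_card' (G := ↥H) 5 (by rw [hH]; norm_num)
  have hc5 : orderOf (c : Perm (Fin 6)) = 5 := by rw [Subgroup.orderOf_coe, hc]
  have hcyc : (c : Perm (Fin 6)).IsCycle :=
    isCycle_of_prime_order' (by rw [hc5]; norm_num) (by rw [hc5]; simp)
  have hsupp : (c : Perm (Fin 6)).support.card = 5 := by rw [← hcyc.orderOf, hc5]
  have hcompl : ((c : Perm (Fin 6)).support)ᶜ.card = 1 := by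
    rw [Finset.card_compl, hsupp]; simp
  obtain ⟨p, hp⟩ := Finset.card_eq_one.mp hcompl
  have hpfix : ∀ y, (c : Perm (Fin 6)) y ≠ y ↔ y ≠ p := by
    intro y
    rw [← Equiv.Perm.mem_support]
    have h1 : y ∈ ((c : Perm (Fin 6)).support)ᶜ ↔ y = p := by rw [hp]; simp
    rw [Finset.mem_compl] at h1
    tauto
  refine ⟨p, ?_⟩
  by_contra hcon
  push Not at hcon
  obtain ⟨h, hhH, hhp⟩ := hcon
  have htr : ∀ y, ∃ k ∈ H, k p = y := by
    intro y
    by_cases hy : y = p
    · exact ⟨1, H.one_mem, by simp [hy]⟩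
    · obtain ⟨i, hi⟩ := hcyc.exists_pow_eq ((hpfix _).mpr hhp) ((hpfix y).mpr hy)
      exact ⟨(c : Perm (Fin 6)) ^ i * h, H.mul_mem (H.pow_mem c.2 i) hhH, by simpa using hi⟩
  have : MulAction.IsPretransitive ↥H (Fin 6) := by
    refine ⟨fun x y => ?_⟩
    obtain ⟨k1, hk1, hk1p⟩ := htr x
    obtain ⟨k2, hk2, hk2p⟩ := htr y
    refine ⟨⟨k2 * k1⁻¹, H.mul_mem hk2 (H.inv_mem hk1)⟩, ?_⟩
    show (k2 * k1⁻¹) x = y
    rw [← hk1p]
    simp [hk2p]
  have hs_supp : s.support.card = 3 := hs3.card_support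
  obtain ⟨q, hq⟩ : ∃ q, q ∉ s.support := by
    by_contra hall
    push Not at hall
    have h1 : s.support = Finset.univ := Finset.eq_univ_iff_forall.mpr hall
    rw [h1] at hs_supp
    simp at hs_supp
  have hsq : s q = q := by rwa [Equiv.Perm.notMem_support] at hq
  have hidx := MulAction.index_stabilizer_of_transitive ↥H q
  have hcard := Subgroup.card_mul_index (MulAction.stabilizer ↥H q)
  rw [hidx, hH, Nat.card_eq_fintype_card (α := Fin 6), Fintype.card_fin] at hcard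
  have h10 : Nat.card (MulAction.stabilizer ↥H q) = 10 := by
    omega
  have hmem : (⟨s, hs⟩ : ↥H) ∈ MulAction.stabilizer ↥H q := by
    rw [MulAction.mem_stabilizer_iff]
    exact hsq
  have ho : orderOf (⟨⟨s, hs⟩, hmem⟩ : ↥(MulAction.stabilizer ↥H q)) = 3 := by
    rw [← Subgroup.orderOf_coe, ← Subgroup.orderOf_coe]
    exact hs3.orderOf
  have h3 := orderOf_dvd_natCard (⟨⟨s, hs⟩, hmem⟩ : ↥(MulAction.stabilizer ↥H q))
  rw [ho, h10] at h3
  norm_num at h3

lemma aux_two : ∀ i j : Fin 6, i ≠ j →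
    ∃ a b : Fin 6, a ≠ i ∧ a ≠ j ∧ b ≠ i ∧ b ≠ j ∧ a ≠ b := by decide

lemma aux_three : ∀ i : Fin 6,
    ∃ a b c : Fin 6, a ≠ i ∧ b ≠ i ∧ c ≠ i ∧ a ≠ b ∧ a ≠ c ∧ b ≠ c := by decide

/-- point stabilizers of `A₆` have distinct fixed points -/
lemma sep (i j : Fin 6)
    (h : ∀ σ : alternatingGroup (Fin 6), (σ : Perm (Fin 6)) i = i → (σ : Perm (Fin 6)) j = j) :
    i = j := by
  by_contra hne
  obtain ⟨a, b, hai, haj, hbi, hbj, hab⟩ := aux_two i j hne
  have h3 : IsThreeCycle (swap j a * swap j b) :=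
    isThreeCycle_swap_mul_swap_same (Ne.symm haj) (Ne.symm hbj) hab
  have h1 := h ⟨swap j a * swap j b, h3.mem_alternatingGroup⟩ (by
    show (swap j a * swap j b) i = i
    rw [Perm.mul_apply, swap_apply_of_ne_of_ne hne hbi.symm, swap_apply_of_ne_of_ne hne hai.symm])
  have h2 : (swap j a * swap j b) j = b := by
    rw [Perm.mul_apply, swap_apply_left, swap_apply_of_ne_of_ne hbj (Ne.symm hab)]
  have h1' : (swap j a * swap j b) j = j := h1
  rw [h2] at h1'
  exact hbj h1'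

lemma exists_threeCycle_fix (i : Fin 6) :
    ∃ σ : alternatingGroup (Fin 6), IsThreeCycle (σ : Perm (Fin 6)) ∧ (σ : Perm (Fin 6)) i = i := by
  obtain ⟨a, b, c, hai, hbi, hci, hab, hac, hbc⟩ := aux_three i
  have h3 : IsThreeCycle (swap a b * swap a c) := isThreeCycle_swap_mul_swap_same hab hac hbc
  refine ⟨⟨swap a b * swap a c, h3.mem_alternatingGroup⟩, h3, ?_⟩
  show (swap a b * swap a c) i = i
  rw [Perm.mul_apply, swap_apply_of_ne_of_ne hai.symm hci.symm,
    swap_apply_of_ne_of_ne hai.symm hbi.symm]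

lemma pretransitiveA6 : MulAction.IsPretransitive ↥(alternatingGroup (Fin 6)) (Fin 6) := by
  refine ⟨fun x y => ?_⟩
  by_cases hxy : x = y
  · exact ⟨1, by rw [hxy, one_smul]⟩
  · obtain ⟨a, b, hax, hay, hbx, hby, hab⟩ := aux_two x y hxy
    refine ⟨⟨swap x y * swap a b, ?_⟩, ?_⟩
    · rw [Equiv.Perm.mem_alternatingGroup, Perm.sign_mul, Perm.sign_swap hxy, Perm.sign_swap hab]
      rfl
    · show (swap x y * swap a b) x = y
      rw [Perm.mul_apply, swap_apply_of_ne_of_ne hax.symm hbx.symm, swap_apply_left]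

lemma card_stab (i : Fin 6) :
    Nat.card (MulAction.stabilizer ↥(alternatingGroup (Fin 6)) i) = 60 := by
  have := pretransitiveA6
  have hidx := MulAction.index_stabilizer_of_transitive ↥(alternatingGroup (Fin 6)) i
  have hcard := Subgroup.card_mul_index (MulAction.stabilizer ↥(alternatingGroup (Fin 6)) i)
  rw [hidx, nat_card_alternatingGroup, Nat.card_eq_fintype_card (α := Fin 6),
    Fintype.card_fin] at hcard
  have h720 : Nat.factorial 6 / 2 = 360 := by decide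
  rw [h720] at hcard
  omega

section Main

variable {G : Type*} [Group G] (K : Subgroup G) [hK : K.Normal]
  (φ : ↥K ≃* ↥(alternatingGroup (Fin 6)))

/-- conjugation by `g` on the normal subgroup `K` -/
def cj (g : G) : ↥K ≃* ↥K := MulAut.conjNormal g

lemma cj_coe (g : G) (k : ↥K) : ((cj K g k : ↥K) : G) = g * k * g⁻¹ :=
  MulAut.conjNormal_apply g k

lemma cj_mul (g h : G) (k : ↥K) : cj K (g * h) k = cj K g (cj K h k) := by
  apply Subtype.ext
  rw [cj_coe, cj_coe, cj_coe]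
  group

lemma cj_one (k : ↥K) : cj K 1 k = k := by
  apply Subtype.ext
  rw [cj_coe]
  group

lemma cj_mem (u : ↥K) (k : ↥K) : cj K (u : G) k = u * k * u⁻¹ := by
  apply Subtype.ext
  rw [cj_coe]
  simp

omit hK in
/-- the point `(φ k) i` -/
def pt (k : ↥K) (i : Fin 6) : Fin 6 := ((φ k : alternatingGroup (Fin 6)) : Perm (Fin 6)) i

/-- `α_g (A_i)` fixes `j` -/
def Fix (g : G) (i j : Fin 6) : Prop :=
  ∀ k : ↥K, pt K φ k i = i → pt K φ (cj K g k) j = j

lemma Fix_trans {g h : G} {i j l : Fin 6} (h1 : Fix K φ h i j) (h2 : Fix K φ g j l) :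
    Fix K φ (g * h) i l := by
  intro k hk
  rw [cj_mul]
  exact h2 _ (h1 k hk)

lemma Fix_one_iff {i j : Fin 6} (h : Fix K φ 1 i j) : i = j := by
  apply sep
  intro σ hσ
  have h1 := h (φ.symm σ) (by simpa [pt] using hσ)
  simpa [pt, cj_one] using h1

lemma threeCycle_cj [Finite G] (hG : Nat.card G = 720)
    (hτ : ∀ x : G, x ∈ K → orderOf x = 3 → ∃ τ : G, τ ∉ K ∧ τ * x = x * τ) (g : G) (k : ↥K)
    (hk : IsThreeCycle ((φ k : alternatingGroup (Fin 6)) : Perm (Fin 6))) :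
    IsThreeCycle ((φ (cj K g k) : alternatingGroup (Fin 6)) : Perm (Fin 6)) := by
  have hKcard : Nat.card ↥K = 360 := by
    rw [Nat.card_congr φ.toEquiv, nat_card_alternatingGroup,
      Nat.card_eq_fintype_card (α := Fin 6), Fintype.card_fin]
    decide
  have hidx : K.index = 2 := by
    have h1 := K.card_mul_index
    rw [hKcard, hG] at h1
    omega
  obtain ⟨c0, hc0, -⟩ := exists_threeCycle_fix 0
  obtain ⟨x0, hx0def⟩ : ∃ x0 : ↥K, x0 = φ.symm c0 := ⟨_, rfl⟩
  have hφx0 : φ x0 = c0 := by rw [hx0def]; simp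
  have hx0 : orderOf (x0 : G) = 3 := by
    rw [Subgroup.orderOf_coe, ← MulEquiv.orderOf_eq φ x0, hφx0, ← Subgroup.orderOf_coe]
    exact hc0.orderOf
  obtain ⟨τ, hτK, hτx⟩ := hτ (x0 : G) x0.2 hx0
  have hA : ∀ g : G, ∃ y : ↥K, cj K g x0 = y * x0 * y⁻¹ := by
    intro g
    by_cases hg : g ∈ K
    · exact ⟨⟨g, hg⟩, cj_mem K ⟨g, hg⟩ x0⟩
    · have hτi : τ⁻¹ ∉ K := fun h => hτK (by simpa using K.inv_mem h)
      have hk' : τ⁻¹ * g ∈ K :=
        (Subgroup.mul_mem_iff_of_index_two hidx).mpr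
          ⟨fun h => absurd h hτi, fun h => absurd h hg⟩
      refine ⟨cj K τ ⟨τ⁻¹ * g, hk'⟩, ?_⟩
      apply Subtype.ext
      simp only [cj_coe, Subgroup.coe_mul, Subgroup.coe_inv]
      have h1 : τ * (x0 : G) * τ⁻¹ = x0 := by rw [hτx]; group
      calc g * (x0 : G) * g⁻¹
          = τ * (τ⁻¹ * g) * τ⁻¹ * (τ * (x0 : G) * τ⁻¹) * (τ * (τ⁻¹ * g) * τ⁻¹)⁻¹ := by group
        _ = τ * (τ⁻¹ * g) * τ⁻¹ * (x0 : G) * (τ * (τ⁻¹ * g) * τ⁻¹)⁻¹ := by rw [h1]
  obtain ⟨a, ha⟩ := isConj_iff.mp (alternatingGroup.isThreeCycle_isConj (by simp) hc0 hk)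
  obtain ⟨y, hy⟩ := hA g
  have hkeq : k = φ.symm a * x0 * (φ.symm a)⁻¹ := by
    apply φ.injective
    rw [map_mul, map_mul, map_inv, hφx0, MulEquiv.apply_symm_apply, ha]
  have h2 : cj K g k = (cj K g (φ.symm a) * y) * x0 * (cj K g (φ.symm a) * y)⁻¹ := by
    rw [hkeq, map_mul, map_mul, map_inv, hy]
    group
  rw [h2, map_mul, map_mul, map_inv, hφx0]
  simp only [Subgroup.coe_mul, Subgroup.coe_inv]
  unfold IsThreeCycle
  rw [cycleType_conj]
  exact hc0

lemma exists_Fix [Finite G] (hG : Nat.card G = 720)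
    (hτ : ∀ x : G, x ∈ K → orderOf x = 3 → ∃ τ : G, τ ∉ K ∧ τ * x = x * τ) (g : G) (i : Fin 6) :
    ∃ j, Fix K φ g i j := by
  let θ : ↥(alternatingGroup (Fin 6)) →* Perm (Fin 6) :=
    (alternatingGroup (Fin 6)).subtype.comp
      (φ.toMonoidHom.comp ((cj K g).toMonoidHom.comp φ.symm.toMonoidHom))
  have hθ : ∀ σ, θ σ = ((φ (cj K g (φ.symm σ)) : alternatingGroup (Fin 6)) : Perm (Fin 6)) :=
    fun σ => rfl
  have hθinj : Function.Injective θ := by
    intro σ σ' h
    have h1 : φ (cj K g (φ.symm σ)) = φ (cj K g (φ.symm σ')) := Subtype.ext h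
    exact φ.symm.injective ((cj K g).injective (φ.injective h1))
  let H' : Subgroup (Perm (Fin 6)) :=
    (MulAction.stabilizer ↥(alternatingGroup (Fin 6)) i).map θ
  have hH' : Nat.card H' = 60 := by
    rw [Subgroup.card_map_of_injective hθinj, card_stab]
  obtain ⟨s, hs3, hsi⟩ := exists_threeCycle_fix i
  have hsmem : θ s ∈ H' := Subgroup.mem_map_of_mem θ (by
    rw [MulAction.mem_stabilizer_iff]; exact hsi)
  have hs3' : IsThreeCycle (θ s) := by
    rw [hθ]
    exact threeCycle_cj K φ hG hτ g (φ.symm s) (by simpa using hs3)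
  obtain ⟨p, hp⟩ := exists_fixed_of_card_sixty H' hH' hsmem hs3'
  refine ⟨p, fun k hk => ?_⟩
  have h1 : θ (φ k) ∈ H' := Subgroup.mem_map_of_mem θ (by
    rw [MulAction.mem_stabilizer_iff]; exact hk)
  have h2 := hp _ h1
  rw [hθ] at h2
  simpa [pt] using h2

lemma Fix_unique [Finite G] (hG : Nat.card G = 720)
    (hτ : ∀ x : G, x ∈ K → orderOf x = 3 → ∃ τ : G, τ ∉ K ∧ τ * x = x * τ) {g : G}
    {i j j' : Fin 6} (h1 : Fix K φ g i j) (h2 : Fix K φ g i j') : j = j' := by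
  obtain ⟨i', hi'⟩ := exists_Fix K φ hG hτ g⁻¹ j
  have e1 : i = i' := Fix_one_iff K φ (by
    have h3 := Fix_trans K φ h1 hi'
    rwa [inv_mul_cancel] at h3)
  subst e1
  exact Fix_one_iff K φ (by
    have h3 := Fix_trans K φ hi' h2
    rwa [mul_inv_cancel] at h3)

end Main

theorem s6_of_a6_index_two {G : Type*} [Group G] [Finite G] (hG : Nat.card G = 720)
    (K : Subgroup G) (hK : K.Normal) (φ : ↥K ≃* ↥(alternatingGroup (Fin 6)))
    (hτ : ∀ x : G, x ∈ K → orderOf x = 3 → ∃ τ : G, τ ∉ K ∧ τ * x = x * τ)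
    (hcent : ∀ g : G, (∀ k ∈ K, g * k = k * g) → g = 1) :
    Nonempty (G ≃* Equiv.Perm (Fin 6)) := by
  classical
  have := hK
  choose act hact using exists_Fix K φ hG hτ
  have huniq : ∀ g i j, Fix K φ g i j → j = act g i :=
    fun g i j h => Fix_unique K φ hG hτ h (hact g i)
  have hone : ∀ i, act 1 i = i :=
    fun i => (huniq 1 i i (fun k hk => by rwa [cj_one])).symm
  have hmul : ∀ g h i, act (g * h) i = act g (act h i) :=
    fun g h i => (huniq (g * h) i _ (Fix_trans K φ (hact h i) (hact g (act h i)))).symm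
  let _ : MulAction G (Fin 6) := { smul := act, one_smul := hone, mul_smul := hmul }
  let ρ : G →* Perm (Fin 6) := MulAction.toPermHom G (Fin 6)
  have hρ : ∀ g i, ρ g i = act g i := fun g i => rfl
  -- the kernel meets `K` trivially
  have hkerK : ∀ u ∈ K, (∀ i, act u i = i) → u = 1 := by
    intro u hu hfix
    have hσ : φ ⟨u, hu⟩ = 1 := by
      apply Subtype.ext
      apply Equiv.ext
      intro i
      have h1 : i = ((φ ⟨u, hu⟩ : alternatingGroup (Fin 6)) : Perm (Fin 6))⁻¹ i := by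
        apply sep
        intro τ' hτ'
        have h2 := hact u i (φ.symm τ') (by simpa [pt] using hτ')
        rw [hfix i] at h2
        have h3 : cj K u (φ.symm τ') = ⟨u, hu⟩ * φ.symm τ' * (⟨u, hu⟩ : ↥K)⁻¹ :=
          cj_mem K ⟨u, hu⟩ (φ.symm τ')
        rw [h3] at h2
        simp only [pt, map_mul, map_inv, MulEquiv.apply_symm_apply, Subgroup.coe_mul,
          Subgroup.coe_inv, Perm.mul_apply] at h2
        have h4 := congrArg (fun x => ((φ ⟨u, hu⟩ : alternatingGroup (Fin 6)) : Perm (Fin 6))⁻¹ x) h2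
        simp only [Equiv.Perm.inv_def, Equiv.symm_apply_apply] at h4 ⊢
        exact h4
      show ((φ ⟨u, hu⟩ : alternatingGroup (Fin 6)) : Perm (Fin 6)) i = i
      conv_lhs => rw [h1]
      simp
    have h1 : (⟨u, hu⟩ : ↥K) = 1 := (map_eq_one_iff φ φ.injective).mp hσ
    exact congrArg Subtype.val h1
  have hinj : Function.Injective ρ := by
    rw [injective_iff_map_eq_one]
    intro z hz
    have hzact : ∀ i, act z i = i := fun i => by rw [← hρ, hz]; rfl
    have hzinv : ∀ i, act z⁻¹ i = i := fun i => by rw [← hρ, map_inv, hz]; rfl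
    apply hcent
    intro k hk
    have hu : z * k * z⁻¹ * k⁻¹ ∈ K := K.mul_mem (hK.conj_mem k hk z) (K.inv_mem hk)
    have h1 := hkerK _ hu (fun i => by
      rw [hmul, hmul, hmul, hzact, hzinv, ← hmul, mul_inv_cancel, hone])
    have h2 : z * k * z⁻¹ = k := mul_inv_eq_one.mp h1
    exact mul_inv_eq_iff_eq_mul.mp h2
  have hbij : Function.Bijective ρ := hinj.bijective_of_nat_card_le (by
    rw [hG, Nat.card_eq_fintype_card, Fintype.card_perm, Fintype.card_fin]
    decide)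
  exact ⟨MulEquiv.ofBijective ρ hbij⟩

end Cfsg.Agent.Lib.Helper5.S6End
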