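import Mathlib

set_option autoImplicit false
set_option linter.unusedSectionVars false
set_option linter.unusedVariables false
set_option linter.unusedSimpArgs false

/-! Transvections in `SL_3(F)`: all are conjugate; involutions in characteristic two are
transvections. -/

namespace Cfsg.Agent.Lib.Helper5.SL3Tv

open Matrix

variable {F : Type*} [Field F]

/-- the standard transvection -/
def stdMat (F : Type*) [Field F] : Matrix (Fin 3) (Fin 3) F := 1 + vecMulVec (Pi.single 0 1) (Pi.single 2 1)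

/-- the matrix of `x ↦ x + φ(x) v` -/
def tvMat (v φ : Fin 3 → F) : Matrix (Fin 3) (Fin 3) F := 1 + vecMulVec v φ

theorem det_tvMat (v φ : Fin 3 → F) (h : φ ⬝ᵥ v = 0) : (tvMat v φ).det = 1 := by
  unfold tvMat
  rw [vecMulVec_eq Unit, det_one_add_replicateCol_mul_replicateRow, h, add_zero]

theorem exists_dot_eq_one (φ : Fin 3 → F) (hφ : φ ≠ 0) : ∃ u : Fin 3 → F, φ ⬝ᵥ u = 1 := by
  obtain ⟨k, hk⟩ : ∃ k, φ k ≠ 0 := by
    by_contra h
    push Not at h
    exact hφ (funext h)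
  refine ⟨Pi.single k (φ k)⁻¹, ?_⟩
  rw [dotProduct_single, mul_inv_cancel₀ hk]

/-- a unimodular frame adapted to a transvection -/
theorem exists_frame (v φ : Fin 3 → F) (hv : v ≠ 0) (hφ : φ ≠ 0) (h : φ ⬝ᵥ v = 0) :
    ∃ w u : Fin 3 → F, φ ⬝ᵥ w = 0 ∧ φ ⬝ᵥ u = 1 ∧ Matrix.det ![v, w, u] = 1 := by
  obtain ⟨u, hu⟩ := exists_dot_eq_one φ hφ
  obtain ⟨m, hm⟩ := exists_dot_eq_one v hv
  refine ⟨crossProduct φ m, u, dot_self_cross φ m, hu, ?_⟩
  rw [← triple_product_eq_det, triple_product_permutation, cross_dot_cross, hu, h,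
    dotProduct_comm m v, hm]
  ring

/-- every transvection is conjugate to the standard one by a unimodular matrix -/
theorem exists_conj (v φ : Fin 3 → F) (hv : v ≠ 0) (hφ : φ ≠ 0) (h : φ ⬝ᵥ v = 0) :
    ∃ P : Matrix (Fin 3) (Fin 3) F, P.det = 1 ∧ P * stdMat F = tvMat v φ * P := by
  obtain ⟨w, u, hw, hu, hdet⟩ := exists_frame v φ hv hφ h
  refine ⟨(Matrix.of ![v, w, u])ᵀ, by rw [det_transpose]; exact hdet, ?_⟩
  unfold stdMat tvMat
  rw [mul_add, add_mul, mul_one, one_mul, mul_vecMulVec, vecMulVec_mul]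
  congr 1
  have h1 : (Matrix.of ![v, w, u])ᵀ *ᵥ Pi.single 0 1 = v := by
    rw [mulVec_single_one]
    ext i
    simp
  have h2 : φ ᵥ* (Matrix.of ![v, w, u])ᵀ = Pi.single 2 1 := by
    rw [vecMul_transpose]
    ext j
    fin_cases j
    · simpa [mulVec, dotProduct_comm] using h
    · simpa [mulVec, dotProduct_comm] using hw
    · simpa [mulVec, dotProduct_comm] using hu
  rw [h1, h2]

/-- the standard transvection in `SL_3` -/
def stdSL (F : Type*) [Field F] : SpecialLinearGroup (Fin 3) F :=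
  ⟨stdMat F, by
    have := det_tvMat (F := F) (Pi.single 0 1) (Pi.single 2 1) (by simp)
    exact this⟩

/-- every transvection in `SL_3` is conjugate to the standard one -/
theorem isConj_std (g : SpecialLinearGroup (Fin 3) F) (v φ : Fin 3 → F) (hv : v ≠ 0) (hφ : φ ≠ 0)
    (h : φ ⬝ᵥ v = 0) (hg : (g : Matrix (Fin 3) (Fin 3) F) = tvMat v φ) : IsConj (stdSL F) g := by
  obtain ⟨P, hP, hPE⟩ := exists_conj v φ hv hφ h
  obtain ⟨Ps, hPs⟩ : ∃ Ps : SpecialLinearGroup (Fin 3) F, (Ps : Matrix (Fin 3) (Fin 3) F) = P :=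
    ⟨⟨P, hP⟩, rfl⟩
  rw [isConj_iff]
  refine ⟨Ps, ?_⟩
  rw [mul_inv_eq_iff_eq_mul]
  apply Subtype.ext
  show (Ps : Matrix (Fin 3) (Fin 3) F) * stdMat F = (g : Matrix (Fin 3) (Fin 3) F) * Ps
  rw [hPs, hPE, hg]

section char2
variable [CharP F 2]

/-- an involution of `SL_3` in characteristic two is a transvection -/
theorem exists_tv_of_involution (g : SpecialLinearGroup (Fin 3) F) (hg1 : g ≠ 1) (hg2 : g * g = 1) :
    ∃ v φ : Fin 3 → F, v ≠ 0 ∧ φ ≠ 0 ∧ φ ⬝ᵥ v = 0 ∧
      (g : Matrix (Fin 3) (Fin 3) F) = tvMat v φ := by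
  set G : Matrix (Fin 3) (Fin 3) F := (g : Matrix (Fin 3) (Fin 3) F) with hG
  have hGG : G * G = 1 := by
    have := congrArg (fun x : SpecialLinearGroup (Fin 3) F => (x : Matrix (Fin 3) (Fin 3) F)) hg2
    simpa using this
  set N : Matrix (Fin 3) (Fin 3) F := G - 1 with hN
  have hNN : N * N = 0 := by
    have h1 : N * N = G * G - (G + G) + 1 := by rw [hN]; noncomm_ring
    rw [h1, hGG, CharTwo.add_self_eq_zero, sub_zero, CharTwo.add_self_eq_zero]
  have hN0 : N ≠ 0 := by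
    intro h
    apply hg1
    apply Subtype.ext
    show G = 1
    exact sub_eq_zero.mp h
  -- a nonzero column
  obtain ⟨j₀, hj₀⟩ : ∃ j, N *ᵥ Pi.single j 1 ≠ 0 := by
    by_contra hcon
    push Not at hcon
    apply hN0
    ext i j
    have := congrFun (hcon j) i
    rw [mulVec_single_one] at this
    simpa using this
  set v : Fin 3 → F := N *ᵥ Pi.single j₀ 1 with hv
  set f : (Fin 3 → F) →ₗ[F] (Fin 3 → F) := Matrix.mulVecLin N with hf
  have hrk : LinearMap.range f ≤ LinearMap.ker f := by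
    rintro x ⟨y, rfl⟩
    rw [LinearMap.mem_ker, hf, mulVecLin_apply, mulVecLin_apply, mulVec_mulVec, hNN, zero_mulVec]
  have hdim := LinearMap.finrank_range_add_finrank_ker f
  rw [Module.finrank_fintype_fun_eq_card, Fintype.card_fin] at hdim
  have hle := Submodule.finrank_mono hrk
  have hvR : v ∈ LinearMap.range f := ⟨Pi.single j₀ 1, rfl⟩
  have hpos : 0 < Module.finrank F ↥(LinearMap.range f) := by
    rw [Module.finrank_pos_iff_exists_ne_zero]
    exact ⟨⟨v, hvR⟩, fun h => hj₀ (congrArg Subtype.val h)⟩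
  have hone : Module.finrank F ↥(LinearMap.range f) = 1 := by omega
  have hall : ∀ j : Fin 3, ∃ c : F, c • v = N *ᵥ Pi.single j 1 := by
    intro j
    have hmem : N *ᵥ Pi.single j 1 ∈ LinearMap.range f := ⟨Pi.single j 1, rfl⟩
    obtain ⟨c, hc⟩ := exists_smul_eq_of_finrank_eq_one hone
      (x := (⟨v, hvR⟩ : ↥(LinearMap.range f))) (fun h => hj₀ (congrArg Subtype.val h))
      ⟨_, hmem⟩
    exact ⟨c, congrArg Subtype.val hc⟩
  choose φ hφ using hall
  have hNeq : N = vecMulVec v φ := by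
    ext i j
    have := congrFun (hφ j) i
    rw [mulVec_single_one] at this
    rw [vecMulVec_apply]
    simp only [Pi.smul_apply, smul_eq_mul, col_apply] at this
    rw [← this, mul_comm]
  have hφ0 : φ ≠ 0 := by
    intro h
    apply hN0
    rw [hNeq, h]
    ext i j
    simp [vecMulVec_apply]
  have hNv : N *ᵥ v = 0 := by
    rw [hv, mulVec_mulVec, hNN, zero_mulVec]
  have hφv : φ ⬝ᵥ v = 0 := by
    rw [hNeq, vecMulVec_mulVec] at hNv
    have h2 : (φ ⬝ᵥ v) • v = 0 := by
      rw [← hNv]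
      ext i
      simp [mul_comm]
    rcases smul_eq_zero.mp h2 with h3 | h3
    · exact h3
    · exact absurd h3 hj₀
  refine ⟨v, φ, hj₀, hφ0, hφv, ?_⟩
  unfold tvMat
  rw [← hNeq, hN]
  abel

/-- in characteristic two all involutions of `SL_3` are conjugate -/
theorem isConj_of_involution (g g' : SpecialLinearGroup (Fin 3) F) (hg1 : g ≠ 1)
    (hg2 : g * g = 1) (hg1' : g' ≠ 1) (hg2' : g' * g' = 1) : IsConj g g' := by
  obtain ⟨v, φ, hv, hφ, h, hg⟩ := exists_tv_of_involution g hg1 hg2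
  obtain ⟨v', φ', hv', hφ', h', hg'⟩ := exists_tv_of_involution g' hg1' hg2'
  exact (isConj_std g v φ hv hφ h hg).symm.trans (isConj_std g' v' φ' hv' hφ' h' hg')

end char2

end Cfsg.Agent.Lib.Helper5.SL3Tv
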