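import Mathlib
import Cfsg.Agent.Lib.Helper6.Flg3

/-! S4538/S2440 farm, units Y3/Y4 (matrix level): superdiagonal sum of upper unitriangular
matrices is additive; conjugating a transvection by a permutation matrix; a permutation with no
adjacent ascent is the reversal. -/

set_option autoImplicit false
set_option linter.unusedSectionVars false
set_option linter.unusedVariables false
set_option linter.style.longLine false
set_option linter.unusedDecidableInType false

namespace Cfsg.Agent.Lib.Helper5.SLGG

open Matrix Cfsg.Agent.Lib.Helper6.BW

variable {n : ℕ} {F : Type*} [Field F]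

/-- upper unitriangular matrices -/
def IsUUT (A : Matrix (Fin n) (Fin n) F) : Prop :=
  A.BlockTriangular id ∧ ∀ i, A i i = 1

theorem isUUT_one : IsUUT (1 : Matrix (Fin n) (Fin n) F) :=
  ⟨Matrix.blockTriangular_one, fun i => Matrix.one_apply_eq i⟩

theorem IsUUT.mul {A B : Matrix (Fin n) (Fin n) F} (hA : IsUUT A) (hB : IsUUT B) :
    IsUUT (A * B) := by
  refine ⟨Matrix.BlockTriangular.mul hA.1 hB.1, fun i => ?_⟩
  rw [Matrix.mul_apply, Finset.sum_eq_single i]
  · rw [hA.2, hB.2, one_mul]
  · intro k _ hk
    rcases lt_or_gt_of_ne hk with h | h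
    · rw [hA.1 (show id k < id i from h), zero_mul]
    · rw [hB.1 (show id i < id k from h), mul_zero]
  · intro h
    exact absurd (Finset.mem_univ _) h

/-- the superdiagonal entries add up under multiplication -/
theorem IsUUT.mul_super {A B : Matrix (Fin n) (Fin n) F} (hA : IsUUT A) (hB : IsUUT B)
    (i j : Fin n) (hij : j.val = i.val + 1) : (A * B) i j = A i j + B i j := by
  have hne : i ≠ j := by
    intro h
    rw [h] at hij
    omega
  rw [Matrix.mul_apply, Finset.sum_eq_add i j hne]
  · rw [hA.2, hB.2, one_mul, mul_one, add_comm]
  · intro k _ hk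
    by_cases h1 : k < i
    · rw [hA.1 (show id k < id i from h1), zero_mul]
    · have h2 : j < k := by
        rw [Fin.lt_def]
        have h3 : i.val ≤ k.val := by
          rw [Fin.lt_def] at h1
          omega
        have h4 : k.val ≠ i.val := fun h => hk.1 (Fin.ext h)
        have h5 : k.val ≠ j.val := fun h => hk.2 (Fin.ext h)
        omega
      rw [hB.1 (show id j < id k from h2), mul_zero]
  · intro h
    exact absurd (Finset.mem_univ _) h
  · intro h
    exact absurd (Finset.mem_univ _) h

/-- sum of the superdiagonal entries -/
def superSum (A : Matrix (Fin n) (Fin n) F) : F :=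
  ∑ i : Fin n, ∑ j : Fin n, if j.val = i.val + 1 then A i j else 0

theorem superSum_mul {A B : Matrix (Fin n) (Fin n) F} (hA : IsUUT A) (hB : IsUUT B) :
    superSum (A * B) = superSum A + superSum B := by
  unfold superSum
  rw [← Finset.sum_add_distrib]
  refine Finset.sum_congr rfl (fun i _ => ?_)
  rw [← Finset.sum_add_distrib]
  refine Finset.sum_congr rfl (fun j _ => ?_)
  by_cases h : j.val = i.val + 1
  · rw [if_pos h, if_pos h, if_pos h, hA.mul_super hB i j h]
  · rw [if_neg h, if_neg h, if_neg h, add_zero]

theorem superSum_one : superSum (1 : Matrix (Fin n) (Fin n) F) = 0 := by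
  unfold superSum
  refine Finset.sum_eq_zero (fun i _ => Finset.sum_eq_zero (fun j _ => ?_))
  by_cases h : j.val = i.val + 1
  · rw [if_pos h, Matrix.one_apply_ne]
    intro hh
    rw [hh] at h
    omega
  · rw [if_neg h]

/-- a transvection above the diagonal is upper unitriangular -/
theorem isUUT_transvection (i j : Fin n) (hij : i < j) (c : F) :
    IsUUT (Matrix.transvection i j c) := by
  have hne : i ≠ j := ne_of_lt hij
  refine ⟨?_, ?_⟩
  · intro a b hba
    have hba' : b < a := hba
    rw [Matrix.transvection, Matrix.add_apply, Matrix.one_apply_ne (ne_of_gt hba'), zero_add]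
    by_cases h : i = a ∧ j = b
    · obtain ⟨rfl, rfl⟩ := h
      exact absurd hij (not_lt.mpr (le_of_lt hba'))
    · rw [Matrix.single_apply, if_neg h]
  · intro a
    rw [Matrix.transvection, Matrix.add_apply, Matrix.one_apply_eq, Matrix.single_apply,
      if_neg (fun h => hne (h.1.trans h.2.symm)), add_zero]

theorem superSum_transvection (i j : Fin n) (hij : j.val = i.val + 1) (c : F) :
    superSum (Matrix.transvection i j c) = c := by
  have hne : i ≠ j := by
    intro h
    rw [h] at hij
    omega
  unfold superSum
  rw [Finset.sum_eq_single i]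
  · rw [Finset.sum_eq_single j]
    · rw [if_pos hij, Matrix.transvection, Matrix.add_apply, Matrix.one_apply_ne hne, zero_add,
        Matrix.single_apply, if_pos ⟨rfl, rfl⟩]
    · intro b _ hb
      by_cases h : b.val = i.val + 1
      · exact absurd (Fin.ext (h.trans hij.symm)) hb
      · rw [if_neg h]
    · intro h
      exact absurd (Finset.mem_univ _) h
  · intro a _ ha
    refine Finset.sum_eq_zero (fun b _ => ?_)
    by_cases h : b.val = a.val + 1
    · rw [if_pos h, Matrix.transvection, Matrix.add_apply, Matrix.single_apply,
        if_neg (fun hh => ha hh.1.symm), add_zero, Matrix.one_apply_ne]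
      intro hh
      rw [hh] at h
      omega
    · rw [if_neg h]
  · intro h
    exact absurd (Finset.mem_univ _) h

/-- conjugating a transvection by a permutation matrix -/
theorem perm_conj_transvection (w : Equiv.Perm (Fin n)) (i j : Fin n) (c : F) :
    permMatrixHom (R := F) w * Matrix.transvection i j c * permMatrixHom (R := F) w⁻¹ =
      Matrix.transvection (w i) (w j) c := by
  ext a b
  rw [mul_pm, pm_mul]
  simp only [Matrix.transvection, Matrix.add_apply, Matrix.single_apply,
    Matrix.one_apply]
  have e1 : (w.symm a = w⁻¹ b) ↔ a = b := by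
    constructor
    · intro h
      have := congrArg w h
      simpa using this
    · intro h
      rw [h]
      rfl
  have e2 : (i = w.symm a ∧ j = w⁻¹ b) ↔ (w i = a ∧ w j = b) := by
    constructor
    · rintro ⟨h1, h2⟩
      refine ⟨by rw [h1]; simp, by rw [h2]; simp⟩
    · rintro ⟨h1, h2⟩
      refine ⟨by rw [← h1]; simp, by rw [← h2]; simp⟩
  simp only [e1, e2]

/-- a permutation of `Fin n` without adjacent ascent is the reversal -/
theorem eq_rev_of_no_ascent (w : Equiv.Perm (Fin n))
    (h : ∀ i j : Fin n, j.val = i.val + 1 → w j < w i) : ∀ i, w i = Fin.rev i := by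
  have hanti : StrictAnti w := by
    intro a b hab
    -- induction on the gap
    have key : ∀ d : ℕ, ∀ a b : Fin n, b.val = a.val + d + 1 → w b < w a := by
      intro d
      induction d with
      | zero => intro a b hab; exact h a b (by omega)
      | succ d ih =>
        intro a b hab
        have hc : a.val + d + 1 < n := by have := b.2; omega
        exact lt_trans (h ⟨a.val + d + 1, hc⟩ b (by simp; omega)) (ih a ⟨a.val + d + 1, hc⟩ rfl)
    exact key (b.val - a.val - 1) a b (by rw [Fin.lt_def] at hab; omega)
  have hmono : StrictMono (fun i => w (Fin.rev i)) := fun a b hab =>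
    hanti (Fin.rev_lt_rev.mpr hab)
  have hid : ∀ i : Fin n, w (Fin.rev i) = i := by
    have hbij : Function.Bijective (fun i => w (Fin.rev i)) :=
      w.bijective.comp Fin.rev_bijective
    let e : Fin n ≃o Fin n := hmono.orderIsoOfSurjective _ hbij.2
    have : e = OrderIso.refl (Fin n) := Subsingleton.elim _ _
    intro i
    have h1 : e i = i := by rw [this]; rfl
    exact h1
  intro i
  have := hid (Fin.rev i)
  rw [Fin.rev_rev] at this
  exact this

end Cfsg.Agent.Lib.Helper5.SLGG
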