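import Mathlib
import Cfsg.Prelude.Def_Characters
import Cfsg.Prelude.Def_Blocks
import Cfsg.Agent.Lib.Helper2.GLU0
import Cfsg.Agent.Lib.Helper5.SLGG1
import Cfsg.Agent.Lib.Helper1.MackeyBound
import Cfsg.Agent.Lib.Helper1.BruhatU

/-! S4538/S2440 farm (coordinator helper2), units Y3, Y4, YC, verbatim to
`tools/helper2/S4538_stubs.lean.txt`. -/

set_option autoImplicit false
set_option linter.unusedSectionVars false
set_option linter.unusedVariables false
set_option linter.style.longLine false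
set_option linter.unusedDecidableInType false
set_option linter.style.haveILetI false

namespace Cfsg.Agent.Lib.Helper5.SLGG

open Matrix Cfsg Cfsg.Agent.Lib.Helper2.GLU Cfsg.Agent.Lib.Helper6.Flg

variable {n : ℕ} {F : Type*} [Field F]

theorem isUUT_of_mem_uni {u : GL (Fin n) F} (hu : u ∈ uni n F) :
    IsUUT (u : Matrix (Fin n) (Fin n) F) := by
  rw [mem_uni] at hu
  refine ⟨?_, ?_⟩
  · intro a b hba
    have hba' : b < a := hba
    rw [hu a b hba'.le, Matrix.one_apply_ne (ne_of_gt hba')]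
  · intro a
    rw [hu a a le_rfl, Matrix.one_apply_eq]

theorem h5_uni_le_B : uni n F ≤ upperTriangularGL n F := fun u hu => (isUUT_of_mem_uni hu).1

theorem y4_xel_mem (a b : Fin n) (hab : a < b) (c : F) : xel F a b hab.ne c ∈ uni n F := by
  rw [mem_uni]
  intro a' b' hba
  rw [xel_val, Matrix.transvection, Matrix.add_apply, Matrix.single_apply, if_neg, add_zero]
  rintro ⟨rfl, rfl⟩
  exact absurd hab (not_lt.mpr hba)

theorem y4_conj (w : Equiv.Perm (Fin n)) (a b : Fin n) (hab : a ≠ b) (c : F) :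
    Wgl n F w * xel F a b hab c * (Wgl n F w)⁻¹ =
      xel F (w a) (w b) (fun h => hab (w.injective h)) c := by
  apply Units.ext
  rw [← map_inv, Units.val_mul, Units.val_mul, Wgl_val, Wgl_val, xel_val, xel_val]
  exact perm_conj_transvection w a b c

/-- two permutations that reverse every adjacent pair are equal (both are the reversal) -/
theorem y4_rev_unique (w w' : Equiv.Perm (Fin n))
    (hw : ∀ (i : ℕ) (hi : i + 1 < n), w ⟨i + 1, hi⟩ < w ⟨i, by omega⟩)
    (hw' : ∀ (i : ℕ) (hi : i + 1 < n), w' ⟨i + 1, hi⟩ < w' ⟨i, by omega⟩) : w = w' := by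
  have key : ∀ v : Equiv.Perm (Fin n),
      (∀ (i : ℕ) (hi : i + 1 < n), v ⟨i + 1, hi⟩ < v ⟨i, by omega⟩) → ∀ i, v i = Fin.rev i := by
    intro v hv
    apply eq_rev_of_no_ascent
    intro i j hij
    have hi : i.val + 1 < n := by have := j.2; omega
    have e1 : j = ⟨i.val + 1, hi⟩ := Fin.ext hij
    have e2 : i = ⟨i.val, by omega⟩ := rfl
    rw [e1]
    exact hv i.val hi
  apply Equiv.ext
  intro i
  rw [key w hw i, key w' hw' i]

/-- Y3: a linear character of `U` nontrivial on every simple root subgroup. -/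
theorem y3_psi [Fintype F] :
    ∃ ψ : uni n F →* ℂˣ, ∀ (i : ℕ) (hi : i + 1 < n), ∃ c : F,
      ∀ h : xadj F i hi c ∈ uni n F, ψ ⟨_, h⟩ ≠ 1 := by
  classical
  obtain ⟨ψ0, hψ0⟩ := (AddChar.exists_apply_ne_zero (α := F) (a := (1 : F))).mpr one_ne_zero
  let ψ : uni n F →* ℂˣ :=
    { toFun := fun u => (ψ0.val_isUnit (superSum ((u : GL (Fin n) F) : Matrix (Fin n) (Fin n) F))).unit
      map_one' := by
        apply Units.ext
        rw [IsUnit.unit_spec]
        show ψ0 (superSum ((1 : GL (Fin n) F) : Matrix (Fin n) (Fin n) F)) = 1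
        rw [Units.val_one, superSum_one, AddChar.map_zero_eq_one]
      map_mul' := by
        intro u v
        apply Units.ext
        rw [Units.val_mul, IsUnit.unit_spec, IsUnit.unit_spec, IsUnit.unit_spec]
        show ψ0 (superSum (((u : GL (Fin n) F) * (v : GL (Fin n) F) : GL (Fin n) F) :
          Matrix (Fin n) (Fin n) F)) = _
        rw [Units.val_mul, superSum_mul (isUUT_of_mem_uni u.2) (isUUT_of_mem_uni v.2),
          AddChar.map_add_eq_mul] }
  refine ⟨ψ, fun i hi => ⟨1, fun h hc => ?_⟩⟩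
  have h1 : ((ψ ⟨_, h⟩ : ℂˣ) : ℂ) = ψ0 1 := by
    show ((ψ0.val_isUnit _).unit : ℂ) = _
    rw [IsUnit.unit_spec]
    show ψ0 (superSum ((xadj F i hi 1 : GL (Fin n) F) : Matrix (Fin n) (Fin n) F)) = _
    rw [xadj, xel_val, superSum_transvection _ _ rfl]
  rw [hc, Units.val_one] at h1
  exact hψ0 h1.symm

/-- YC: `⟨Ind_B^G φ, Ind_U^G ψ⟩ ≤ 1` for `φ` trivial on `U`. -/
theorem yc_bound [Fintype (GL (Fin n) F)] (ψ : uni n F →* ℂˣ)
    (hψ : ∀ (i : ℕ) (hi : i + 1 < n), ∃ c : F, ∀ h : xadj F i hi c ∈ uni n F, ψ ⟨_, h⟩ ≠ 1)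
    (φ : upperTriangularGL n F →* ℂˣ)
    (hφ : ∀ b : upperTriangularGL n F, (b : GL (Fin n) F) ∈ uni n F → φ b = 1) :
    (classInner (indFun (upperTriangularGL n F) (fun b => ((φ b : ℂˣ) : ℂ)))
      (indFun (uni n F) (fun u => ((ψ u : ℂˣ) : ℂ)))).re ≤ 1 := by
  classical
  have hcover : ∀ g : GL (Fin n) F, ∃ w : Equiv.Perm (Fin n), ∃ h ∈ upperTriangularGL n F,
      ∃ k ∈ uni n F, g = h * Wgl n F w * k := by
    intro g
    obtain ⟨b, hb, w, u, hu, hu1, hg⟩ :=
      Cfsg.Agent.Lib.Helper1.BruhatU.bruhat_cover_unitri g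
    refine ⟨w, b, hb, u, ?_, hg⟩
    rw [mem_uni]
    intro a c hca
    rcases eq_or_lt_of_le hca with h | h
    · subst h
      rw [hu1, Matrix.one_apply_eq]
    · rw [hu (show id c < id a from h), Matrix.one_apply_ne (ne_of_gt h)]
  obtain ⟨m, hm, hle⟩ := Cfsg.Agent.Lib.Helper1.MackeyBound.mackey_bound
    (upperTriangularGL n F) (uni n F) φ ψ (fun w : Equiv.Perm (Fin n) => Wgl n F w) hcover
  rw [hm, Complex.natCast_re]
  have hsub : Subsingleton {w : Equiv.Perm (Fin n) //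
      ∀ (h : upperTriangularGL n F) (k : uni n F),
        (h : GL (Fin n) F) * Wgl n F w = Wgl n F w * (k : GL (Fin n) F) → φ h = ψ k} := by
    refine ⟨fun ⟨w, hw⟩ ⟨w', hw'⟩ => ?_⟩
    have key : ∀ v : Equiv.Perm (Fin n),
        (∀ (h : upperTriangularGL n F) (k : uni n F),
          (h : GL (Fin n) F) * Wgl n F v = Wgl n F v * (k : GL (Fin n) F) → φ h = ψ k) →
        ∀ (i : ℕ) (hi : i + 1 < n), v ⟨i + 1, hi⟩ < v ⟨i, by omega⟩ := by
      intro v hv i hi
      by_contra hlt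
      have hne : v ⟨i, by omega⟩ ≠ v ⟨i + 1, hi⟩ := fun h => fin_adj_ne i hi (v.injective h)
      have hlt' : v ⟨i, by omega⟩ < v ⟨i + 1, hi⟩ :=
        lt_of_le_of_ne (not_lt.mp hlt) hne
      obtain ⟨c, hc⟩ := hψ i hi
      have hk : xadj F i hi c ∈ uni n F := y4_xel_mem _ _ (by rw [Fin.lt_def]; simp) c
      have hh : xel F (v ⟨i, by omega⟩) (v ⟨i + 1, hi⟩) hlt'.ne c ∈ uni n F :=
        y4_xel_mem _ _ hlt' c
      have hconj := y4_conj (F := F) v ⟨i, by omega⟩ ⟨i + 1, hi⟩ (fin_adj_ne i hi) c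
      have heq : (xel F (v ⟨i, by omega⟩) (v ⟨i + 1, hi⟩) hlt'.ne c) * Wgl n F v =
          Wgl n F v * xadj F i hi c := by
        rw [xadj, ← hconj]
        group
      have := hv ⟨_, h5_uni_le_B hh⟩ ⟨_, hk⟩ heq
      rw [hφ ⟨_, h5_uni_le_B hh⟩ hh] at this
      exact hc hk this.symm
    exact Subtype.ext (y4_rev_unique w w' (key w hw) (key w' hw'))
  have hcard : Nat.card {w : Equiv.Perm (Fin n) //
      ∀ (h : upperTriangularGL n F) (k : uni n F),
        (h : GL (Fin n) F) * Wgl n F w = Wgl n F w * (k : GL (Fin n) F) → φ h = ψ k} ≤ 1 :=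
    Finite.card_le_one_iff_subsingleton.mpr hsub
  exact_mod_cast le_trans hle hcard

end Cfsg.Agent.Lib.Helper5.SLGG
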