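import Mathlib
import Cfsg.Agent.Lib.Helper2.SLkDefs

/-!
# S2479 piece C4a (torus twist lemmas) - DUPLICATE of Lib/Helper9/SLkTw (use that one); names prefixed h5dup_ to avoid clashes
-/

set_option autoImplicit false
set_option linter.unusedVariables false
set_option linter.unusedSectionVars false
set_option linter.style.longLine false
set_option linter.style.haveILetI false

namespace Cfsg.Agent.Lib.Helper2.GLk

open Polynomial

universe u v

variable {F : Type u} [Field F]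

theorem h5_tw_of_eq {n : ℕ} (c : Fin n → Fˣ) (f : Fin n → F[X]) (j : Fin n) (h : f j = 1) :
    tw c f j = 1 := by
  unfold tw
  rw [if_pos h]

theorem h5_tw_of_ne {n : ℕ} (c : Fin n → Fˣ) (f : Fin n → F[X]) (j : Fin n) (h : f j ≠ 1) :
    tw c f j = f j + C (((c j : F) - 1) * (f j).coeff 0) := by
  unfold tw
  rw [if_neg h]

theorem h5_natDegree_pos {g : F[X]} (hg : g.Monic) (h1 : g ≠ 1) : 0 < g.natDegree := by
  rcases Nat.eq_zero_or_pos g.natDegree with h | h
  · exact absurd (eq_one_of_monic_natDegree_zero hg h) h1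
  · exact h

theorem h5_add_C_monic {g : F[X]} (hg : g.Monic) (h1 : g ≠ 1) (a : F) : (g + C a).Monic := by
  apply hg.add_of_left
  have hpos := h5_natDegree_pos hg h1
  calc (C a).degree ≤ 0 := degree_C_le
    _ < g.degree := by
        rw [degree_eq_natDegree hg.ne_zero]
        exact_mod_cast hpos

theorem h5_add_C_coeff (g : F[X]) (a : F) : (g + C a).coeff 0 = g.coeff 0 + a := by
  rw [coeff_add, coeff_C_zero]

theorem h5_tw_spec {n : ℕ} (c : Fin n → Fˣ) (f : Fin n → F[X]) (hf : f ∈ T F n n) (j : Fin n) :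
    (tw c f j).Monic ∧ (tw c f j).natDegree = (f j).natDegree ∧
      (f j ≠ 1 → (tw c f j).coeff 0 = (c j : F) * (f j).coeff 0) ∧ (tw c f j).coeff 0 ≠ 0 := by
  obtain ⟨hmon, h0⟩ := hf.1 j
  by_cases h : f j = 1
  · rw [h5_tw_of_eq c f j h, h]
    refine ⟨monic_one, rfl, fun hh => absurd rfl hh, ?_⟩
    simp
  · rw [h5_tw_of_ne c f j h]
    have hc : (f j + C (((c j : F) - 1) * (f j).coeff 0)).coeff 0 = (c j : F) * (f j).coeff 0 := by
      rw [h5_add_C_coeff]; ring
    refine ⟨h5_add_C_monic hmon h _, natDegree_add_C, fun _ => hc, ?_⟩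
    rw [hc]
    exact mul_ne_zero (Units.ne_zero _) h0

/-- C4a -/
theorem h5dup_tw_mem {n : ℕ} (c : Fin n → Fˣ) (f : Fin n → F[X]) (hf : f ∈ T F n n) :
    tw c f ∈ T F n n := by
  refine ⟨fun j => ⟨(h5_tw_spec c f hf j).1, (h5_tw_spec c f hf j).2.2.2⟩, ?_⟩
  have h2 := hf.2
  calc ∑ j : Fin n, (j.val + 1) * (tw c f j).natDegree
      = ∑ j : Fin n, (j.val + 1) * (f j).natDegree := by
        apply Finset.sum_congr rfl
        intro j _
        rw [(h5_tw_spec c f hf j).2.1]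
    _ = n := h2

theorem h5dup_tw_eq_one_iff {n : ℕ} (c : Fin n → Fˣ) (f : Fin n → F[X]) (hf : f ∈ T F n n) (j : Fin n) :
    tw c f j = 1 ↔ f j = 1 := by
  constructor
  · intro h
    by_contra hne
    have hpos := h5_natDegree_pos (hf.1 j).1 hne
    have hdeg := (h5_tw_spec c f hf j).2.1
    rw [h, natDegree_one] at hdeg
    omega
  · intro h
    exact h5_tw_of_eq c f j h

theorem h5dup_tw_inv {n : ℕ} (c : Fin n → Fˣ) (f : Fin n → F[X]) (hf : f ∈ T F n n) :
    tw c⁻¹ (tw c f) = f := by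
  funext j
  by_cases h : f j = 1
  · rw [h5_tw_of_eq c⁻¹ (tw c f) j (h5_tw_of_eq c f j h), h]
  · have h' : tw c f j ≠ 1 := fun hh => h ((h5dup_tw_eq_one_iff c f hf j).mp hh)
    rw [h5_tw_of_ne c⁻¹ (tw c f) j h', (h5_tw_spec c f hf j).2.2.1 h, h5_tw_of_ne c f j h,
      add_assoc, ← C_add]
    have hz : ((c j : F) - 1) * (f j).coeff 0 +
        ((((c⁻¹ : Fin n → Fˣ) j : Fˣ) : F) - 1) * ((c j : F) * (f j).coeff 0) = 0 := by
      have hcc : (((c⁻¹ : Fin n → Fˣ) j : Fˣ) : F) * (c j : F) = 1 := by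
        rw [Pi.inv_apply]
        exact_mod_cast Units.inv_mul (c j)
      have : ((((c⁻¹ : Fin n → Fˣ) j : Fˣ) : F) - 1) * ((c j : F) * (f j).coeff 0) =
          ((((c⁻¹ : Fin n → Fˣ) j : Fˣ) : F) * (c j : F)) * (f j).coeff 0 - (c j : F) * (f j).coeff 0 := by
        ring
      rw [this, hcc]
      ring
    rw [hz, C_0, add_zero]

theorem h5dup_gsz_tw {n : ℕ} (c : Fin n → Fˣ) (f : Fin n → F[X]) (hf : f ∈ T F n n) :
    gsz (tw c f) = gsz f := by
  classical
  apply Nat.dvd_antisymm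
  · rw [dvd_gsz_iff]
    intro j hj
    exact (dvd_gsz_iff (tw c f) _).mp dvd_rfl j (fun hh => hj ((h5dup_tw_eq_one_iff c f hf j).mp hh))
  · rw [dvd_gsz_iff]
    intro j hj
    exact (dvd_gsz_iff f _).mp dvd_rfl j (fun hh => hj ((h5dup_tw_eq_one_iff c f hf j).mpr hh))

open Classical in
theorem h5dup_ddet_tw {n : ℕ} (c : Fin n → Fˣ) (f : Fin n → F[X]) (hf : f ∈ T F n n) :
    ddet (tw c f) =
      (∏ j ∈ Finset.univ.filter (fun j : Fin n => f j ≠ 1), ((c j : Fˣ) : F) ^ (j.val + 1)) * ddet f := by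
  unfold ddet
  rw [Finset.prod_filter, ← Finset.prod_mul_distrib]
  apply Finset.prod_congr rfl
  intro j _
  by_cases h : f j = 1
  · rw [if_neg (not_not.mpr h), one_mul, h5_tw_of_eq c f j h, h]
  · rw [if_pos h, (h5_tw_spec c f hf j).2.1, (h5_tw_spec c f hf j).2.2.1 h, ← mul_pow]
    congr 1
    ring

theorem h5dup_ddet_ne_zero {n : ℕ} (f : Fin n → F[X]) (hf : f ∈ T F n n) : ddet f ≠ 0 := by
  unfold ddet
  rw [Finset.prod_ne_zero_iff]
  intro j _
  apply pow_ne_zero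
  apply mul_ne_zero
  · exact pow_ne_zero _ (by norm_num)
  · exact (hf.1 j).2

end Cfsg.Agent.Lib.Helper2.GLk
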