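import Mathlib

set_option autoImplicit false
set_option linter.style.haveILetI false

namespace Cfsg.Agent.Lib.Helper5.SN17

open MulAction

/-- N2: a transitive permutation group of degree `p+1` whose point stabilizer normalizes a
subgroup of order `p` has order `(p+1) p d` with `d < p`. -/
theorem perm_card {α : Type*} [Fintype α] [DecidableEq α] {p : ℕ} (hp : p.Prime)
    (hα : Fintype.card α = p + 1) (H : Subgroup (Equiv.Perm α)) [MulAction.IsPretransitive H α]
    (x : α) (C : Subgroup (Equiv.Perm α)) (hC : Nat.card C = p) (hCH : C ≤ H)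
    (hCx : ∀ c ∈ C, c x = x)
    (hN : ∀ h ∈ H, h x = x → ∀ c ∈ C, h * c * h⁻¹ ∈ C) :
    ∃ d, d < p ∧ Nat.card H = (p + 1) * p * d := by
  classical
  have hp2 := hp.two_le
  have hCne : C ≠ ⊥ := by
    intro h
    rw [h, Subgroup.card_bot] at hC
    omega
  obtain ⟨⟨c, hcC⟩, hc1'⟩ := (Subgroup.ne_bot_iff_exists_ne_one).1 hCne
  have hc1 : c ≠ 1 := by
    intro h
    apply hc1'
    exact Subtype.ext h
  have hoc : orderOf c = p := by
    have h1 : orderOf c ∣ p := hC ▸ Subgroup.orderOf_dvd_natCard C hcC
    rcases (Nat.dvd_prime hp).1 h1 with h | h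
    · exact absurd (orderOf_eq_one_iff.1 h) hc1
    · exact h
  obtain ⟨y, hy⟩ : ∃ y, c y ≠ y := by
    by_contra hcon
    push Not at hcon
    exact hc1 (Equiv.ext hcon)
  have hyx : y ≠ x := by
    intro h
    rw [h] at hy
    exact hy (hCx c hcC)
  have hpowC : ∀ i : ℕ, c ^ i ∈ C := fun i => C.pow_mem hcC i
  have hfix : ∀ i : ℕ, (c ^ i) x = x := fun i => hCx _ (hpowC i)
  -- no nontrivial power of c fixes y
  have haux : ∀ k : ℕ, 0 < k → k < p → (c ^ k) y ≠ y := by
    intro k hk0 hkp hk
    have hcop : Nat.Coprime k (orderOf c) := by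
      rw [hoc]
      exact Nat.Coprime.symm ((Nat.Prime.coprime_iff_not_dvd hp).2
        (Nat.not_dvd_of_pos_of_lt hk0 hkp))
    obtain ⟨m, hm⟩ := exists_pow_eq_self_of_coprime hcop
    have hall : ∀ m : ℕ, ((c ^ k) ^ m) y = y := by
      intro m
      induction m with
      | zero => simp
      | succ n ih => rw [pow_succ, Equiv.Perm.mul_apply, hk, ih]
    apply hy
    have := hall m
    rw [hm] at this
    exact this
  have hinjpow : ∀ i j : ℕ, i < p → j < p → i ≤ j → (c ^ i) y = (c ^ j) y → i = j := by
    intro i j hi hj hij h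
    by_contra hne
    have hlt : i < j := lt_of_le_of_ne hij hne
    have h2 : c ^ j = c ^ i * c ^ (j - i) := by
      rw [← pow_add]
      congr 1
      omega
    rw [h2, Equiv.Perm.mul_apply] at h
    have h3 := (c ^ i).injective h
    exact haux (j - i) (by omega) (by omega) h3.symm
  have hne : ∀ i : ℕ, (c ^ i) y ≠ x := by
    intro i h
    apply hyx
    apply (c ^ i).injective
    rw [h, hfix]
  have hcard : Fintype.card {w : α // w ≠ x} = p := by
    have h1 : Fintype.card {w : α // w ≠ x} = Fintype.card α - Fintype.card {w : α // w = x} :=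
      Fintype.card_subtype_compl _
    rw [h1, Fintype.card_subtype_eq, hα]
    omega
  have hreg : ∀ w : α, w ≠ x → ∃ i : ℕ, (c ^ i) y = w := by
    let f : Fin p → {w : α // w ≠ x} := fun i => ⟨(c ^ (i : ℕ)) y, hne i⟩
    have hf : Function.Injective f := by
      intro i j hij
      have h : (c ^ (i : ℕ)) y = (c ^ (j : ℕ)) y := congrArg Subtype.val hij
      rcases Nat.le_total i j with hle | hle
      · exact Fin.ext (hinjpow i j i.2 j.2 hle h)
      · exact Fin.ext (hinjpow j i j.2 i.2 hle h.symm).symm
    have hbij : Function.Bijective f := by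
      rw [Fintype.bijective_iff_injective_and_card]
      refine ⟨hf, ?_⟩
      rw [Fintype.card_fin, hcard]
    intro w hw
    obtain ⟨i, hi⟩ := hbij.2 ⟨w, hw⟩
    exact ⟨i, congrArg Subtype.val hi⟩
  -- the orbit of (x, y)
  have horb : MulAction.orbit H ((x, y) : α × α) = {ab : α × α | ab.1 ≠ ab.2} := by
    ext ⟨a, b⟩
    constructor
    · rintro ⟨g, hg⟩
      have h1 : (g : Equiv.Perm α) x = a := congrArg Prod.fst hg
      have h2 : (g : Equiv.Perm α) y = b := congrArg Prod.snd hg
      show a ≠ b
      rw [← h1, ← h2]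
      intro h
      exact hyx ((g : Equiv.Perm α).injective h).symm
    · intro hab
      have hab' : a ≠ b := hab
      obtain ⟨g, hg⟩ := MulAction.exists_smul_eq H x a
      have hg' : (g : Equiv.Perm α) x = a := hg
      have hw : (g : Equiv.Perm α)⁻¹ b ≠ x := by
        intro h
        apply hab'
        rw [← hg', ← h]
        simp
      obtain ⟨i, hi⟩ := hreg _ hw
      refine ⟨g * ⟨c ^ i, hCH (hpowC i)⟩, ?_⟩
      show (((g : Equiv.Perm α) * c ^ i) x, ((g : Equiv.Perm α) * c ^ i) y) = (a, b)
      rw [Equiv.Perm.mul_apply, Equiv.Perm.mul_apply, hfix, hi, hg']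
      simp
  have hcardorb : (MulAction.orbit H ((x, y) : α × α)).ncard = (p + 1) * p := by
    rw [horb]
    have h1 : {ab : α × α | ab.1 ≠ ab.2} = ((Finset.univ : Finset α).offDiag : Set (α × α)) := by
      ext ab
      simp
    rw [h1, Set.ncard_coe_finset, Finset.offDiag_card, Finset.card_univ, hα]
    have : (p + 1) * (p + 1) = (p + 1) * p + (p + 1) := by ring
    omega
  have hidx := MulAction.index_stabilizer H ((x, y) : α × α)
  have hmul := Subgroup.index_mul_card (MulAction.stabilizer H ((x, y) : α × α))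
  refine ⟨Nat.card (MulAction.stabilizer H ((x, y) : α × α)), ?_, ?_⟩
  · -- injection into C missing 1
    haveI : Finite C := Nat.finite_of_card_ne_zero (by omega)
    haveI : Fintype C := Fintype.ofFinite C
    haveI : Fintype (MulAction.stabilizer H ((x, y) : α × α)) := Fintype.ofFinite _
    have hstab : ∀ g : MulAction.stabilizer H ((x, y) : α × α),
        ((g : H) : Equiv.Perm α) x = x ∧ ((g : H) : Equiv.Perm α) y = y := by
      intro g
      have hg : (g : H) • ((x, y) : α × α) = (x, y) := g.2
      exact ⟨congrArg Prod.fst hg, congrArg Prod.snd hg⟩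
    let f : MulAction.stabilizer H ((x, y) : α × α) → C := fun g =>
      ⟨((g : H) : Equiv.Perm α) * c * ((g : H) : Equiv.Perm α)⁻¹,
        hN _ (g : H).2 (hstab g).1 c hcC⟩
    have hf : Function.Injective f := by
      intro g g' hgg
      have h0 : ((g : H) : Equiv.Perm α) * c * ((g : H) : Equiv.Perm α)⁻¹ =
          ((g' : H) : Equiv.Perm α) * c * ((g' : H) : Equiv.Perm α)⁻¹ :=
        congrArg Subtype.val hgg
      set u : Equiv.Perm α := ((g' : H) : Equiv.Perm α)⁻¹ * ((g : H) : Equiv.Perm α) with hu
      have hcomm : u * c = c * u := by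
        have : ((g' : H) : Equiv.Perm α)⁻¹ * (((g : H) : Equiv.Perm α) * c *
            ((g : H) : Equiv.Perm α)⁻¹) * ((g : H) : Equiv.Perm α) =
            ((g' : H) : Equiv.Perm α)⁻¹ * (((g' : H) : Equiv.Perm α) * c *
            ((g' : H) : Equiv.Perm α)⁻¹) * ((g : H) : Equiv.Perm α) := by rw [h0]
        rw [hu]
        simpa [mul_assoc] using this
      have hcommi : ∀ i : ℕ, u * c ^ i = c ^ i * u := by
        intro i
        exact (Commute.pow_right hcomm i)
      have hux : u x = x := by
        rw [hu, Equiv.Perm.mul_apply, (hstab g).1]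
        rw [Equiv.Perm.inv_eq_iff_eq]
        exact ((hstab g').1).symm
      have huy : u y = y := by
        rw [hu, Equiv.Perm.mul_apply, (hstab g).2]
        rw [Equiv.Perm.inv_eq_iff_eq]
        exact ((hstab g').2).symm
      have hu1 : u = 1 := by
        apply Equiv.ext
        intro w
        by_cases hw : w = x
        · rw [hw, hux]; rfl
        · obtain ⟨i, hi⟩ := hreg w hw
          rw [← hi, ← Equiv.Perm.mul_apply, hcommi i, Equiv.Perm.mul_apply, huy]
          rfl
      have : ((g : H) : Equiv.Perm α) = ((g' : H) : Equiv.Perm α) := by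
        have := congrArg (fun t => ((g' : H) : Equiv.Perm α) * t) hu1
        simpa [hu] using this
      exact Subtype.ext (Subtype.ext this)
    have hnot : (1 : C) ∉ Set.range f := by
      rintro ⟨g, hg⟩
      have h0 : ((g : H) : Equiv.Perm α) * c * ((g : H) : Equiv.Perm α)⁻¹ = 1 :=
        congrArg Subtype.val hg
      apply hc1
      have := congrArg (fun t => ((g : H) : Equiv.Perm α)⁻¹ * t * ((g : H) : Equiv.Perm α)) h0
      simpa [mul_assoc] using this
    have hlt := Fintype.card_lt_of_injective_of_notMem f hf hnot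
    rw [← Nat.card_eq_fintype_card, ← Nat.card_eq_fintype_card, hC] at hlt
    exact hlt
  · rw [← hmul, hidx, hcardorb]

end Cfsg.Agent.Lib.Helper5.SN17
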