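import Mathlib
import Cfsg.Agent.S0732
import Cfsg.Agent.Lib.Helper5.SN17Perm

set_option autoImplicit false
set_option linter.style.haveILetI false
open Cfsg

namespace Cfsg.Agent.Lib.Helper5.SN17

open MulAction

/-- N3: if `G` has exactly 18 Sylow 17-subgroups, its image in `Sym(Syl_17 G)` is `PGL(2,17)` or
`PSL(2,17)`. -/
theorem range_iso {G : Type*} [Group G] [Finite G] (h17 : Nat.card (Sylow 17 G) = 18) :
    Nonempty ((MulAction.toPermHom G (Sylow 17 G)).range ≃*
      Matrix.ProjGenLinGroup (Fin 2) (ZMod 17)) ∨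
    Nonempty ((MulAction.toPermHom G (Sylow 17 G)).range ≃*
      Matrix.ProjectiveSpecialLinearGroup (Fin 2) (ZMod 17)) := by
  classical
  have hp17 : Nat.Prime 17 := by norm_num
  haveI : Fact (Nat.Prime 17) := ⟨hp17⟩
  haveI : Fintype (Sylow 17 G) := Fintype.ofFinite _
  have hα : Fintype.card (Sylow 17 G) = 17 + 1 := by
    rw [← Nat.card_eq_fintype_card, h17]
  set φ : G →* Equiv.Perm (Sylow 17 G) := MulAction.toPermHom G (Sylow 17 G) with hφ
  have hφapp : ∀ (g : G) (Q : Sylow 17 G), φ g Q = g • Q := fun g Q => rfl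
  haveI htr : MulAction.IsPretransitive φ.range (Sylow 17 G) := by
    refine ⟨fun P Q => ?_⟩
    obtain ⟨g, hg⟩ := MulAction.exists_smul_eq G P Q
    exact ⟨⟨φ g, ⟨g, rfl⟩⟩, hg⟩
  obtain ⟨P⟩ : Nonempty (Sylow 17 G) := inferInstance
  set C : Subgroup (Equiv.Perm (Sylow 17 G)) := (P : Subgroup G).map φ with hCdef
  have hCH : C ≤ φ.range := Subgroup.map_le_range φ _
  have hsmulP : ∀ g : G, g ∈ (P : Subgroup G) → ∀ Q : Sylow 17 G,
      (g • Q = Q ↔ g ∈ Subgroup.normalizer (Q : Set G)) := fun g _ Q =>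
    Sylow.smul_eq_iff_mem_normalizer
  have hCx : ∀ c ∈ C, c P = P := by
    rintro c ⟨g, hg, rfl⟩
    rw [hφapp]
    exact Sylow.smul_eq_iff_mem_normalizer.2 (Subgroup.le_normalizer hg)
  have hN : ∀ h ∈ φ.range, h P = P → ∀ c ∈ C, h * c * h⁻¹ ∈ C := by
    rintro h ⟨g, rfl⟩ hgP c ⟨u, hu, rfl⟩
    rw [hφapp] at hgP
    have hgN : g ∈ Subgroup.normalizer ((P : Subgroup G) : Set G) :=
      Sylow.smul_eq_iff_mem_normalizer.1 hgP
    refine ⟨g * u * g⁻¹, ?_, ?_⟩
    · exact (Subgroup.mem_normalizer_iff.1 hgN u).1 hu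
    · simp [map_mul, map_inv]
  have hCp : IsPGroup 17 C := P.2.map φ
  have hCcard : Nat.card C = 17 := by
    obtain ⟨k, hk⟩ := IsPGroup.iff_card.1 hCp
    have hdvd : Nat.card C ∣ Nat.card (Equiv.Perm (Sylow 17 G)) := Subgroup.card_subgroup_dvd_card C
    rw [Nat.card_eq_fintype_card (α := Equiv.Perm (Sylow 17 G)), Fintype.card_perm, hα, hk] at hdvd
    have hfac : (17 + 1).factorial = 6402373705728000 := by decide
    rw [hfac] at hdvd
    have hk1 : k ≤ 1 := by
      by_contra hcon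
      push Not at hcon
      have h2 : 17 ^ 2 ∣ 17 ^ k := pow_dvd_pow 17 hcon
      have h3 := h2.trans hdvd
      norm_num at h3
    have hk0 : k ≠ 0 := by
      intro h0
      rw [h0, pow_zero] at hk
      have hCbot : C = ⊥ := Subgroup.card_eq_one.1 hk
      have hall : ∀ Q : Sylow 17 G, Q = P := by
        intro Q
        have hfixed : Q ∈ MulAction.fixedPoints (P : Subgroup G) (Sylow 17 G) := by
          intro g
          have hg1 : φ (g : G) = 1 := by
            have : φ (g : G) ∈ C := ⟨g, g.2, rfl⟩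
            rw [hCbot] at this
            exact Subgroup.mem_bot.1 this
          show (g : G) • Q = Q
          rw [← hφapp, hg1]
          rfl
        have hle : (P : Subgroup G) ≤ Q := (P.2.sylow_mem_fixedPoints_iff).1 hfixed
        exact Sylow.ext (P.3 Q.2 hle)
      have hsub : Subsingleton (Sylow 17 G) := ⟨fun a b => (hall a).trans (hall b).symm⟩
      have : Nat.card (Sylow 17 G) ≤ 1 := Finite.card_le_one_iff_subsingleton.2 hsub
      omega
    have : k = 1 := by omega
    rw [hk, this, pow_one]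
  obtain ⟨d, hd, hcardH⟩ := perm_card hp17 hα φ.range P C hCcard hCH hCx hN
  rcases Cfsg.Agent.S0732.result hp17 hα φ.range hcardH hd with ⟨-, h⟩ | ⟨-, h⟩ | ⟨q, hq, h2q, -⟩
  · exact Or.inl h
  · exact Or.inr h
  · exfalso
    have hq5 : q < 5 := by
      by_contra hcon
      push Not at hcon
      have : 2 ^ 5 ≤ 2 ^ q := Nat.pow_le_pow_right (by norm_num) hcon
      omega
    interval_cases q <;> omega

end Cfsg.Agent.Lib.Helper5.SN17
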