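import Mathlib
import Cfsg.Agent.Lib.Helper5.SPEDefs
import Cfsg.Agent.Lib.Helper1.SPEDefs
import Cfsg.Agent.Lib.Helper5.SympPrimitive

set_option autoImplicit false
set_option linter.unusedSectionVars false
set_option linter.unusedVariables false

/-!
# Farm SPE: S2333 (Landazuri-Seitz bound for `Sp_{2n}(q)`, `q` even), REPRESENTATION HALF, STUBS

(The orbit half - `orbit_bound_even` - is helper1's farm, stubs `tools/helper1/SPE_orbit_stubs.lean.txt`.)
All statements below are `sorry` stubs (this file is imported by no statement).  Copy the statements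
of your unit VERBATIM into your own file `Cfsg/Agent/Lib/<You>/SPE<unit>.lean`, namespace
`Cfsg.Agent.Lib.<You>.SPE`, `import Cfsg.Agent.Lib.Helper5.SPEDefs` (NOT this file), and post a DONE
tip with the import path.

`G = Sp_{2n}(q)`, `Q = {uQ S = [[1, S], [0, 1]] : S symmetric}`, `lev A = diag (A, A⁻ᵀ)`,
`lev A * uQ S * (lev A)⁻¹ = uQ (A S Aᵀ)` (helper6 `WlC`, characteristic free).  In characteristic 2
the trace pairing on symmetric matrices is degenerate; the characters of `Q` are `S ↦ ψ (tr (C S))` for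
ARBITRARY matrices `C`, and `tr (C S)` depends only on the quadratic form `qf C`
(`tr (C (a x xᵀ)) = a qf C x`).  `GL_n` acts by `C ↦ Bᵀ C B`, `qf (Bᵀ C B) x = qf C (B x)` (`Wl.qf_conj`).

(P) `e_C` are idempotents, `e_C e_C' = 0` when `qf C ≠ qf C'`, `∑_{all C} e_C = (|Mat| / |Sym|) • 1`,
`tr e_{Bᵀ C B} = tr e_C`; pairwise form-distinct `C`'s with `tr e_C = r` give `|𝒪| r ≤ dim V`.
(N) `ρ` irreducible of degree `≥ 2`: `ker ρ ≤ Z(G)` (helper5 `SympPrimitive.normal_le_center_or_eq_top`,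
`G` perfect; `ker ρ = ⊤` contradicts helper6 `Wl.not_irreducible_of_trivial`), `uQ (E₀₁ + E₁₀)` is not
central (it does not commute with `lQ E₀₀`: the top left blocks are `1 + S0 E₀₀ = 1 + E₁₀` and `1`), so
`ρ (uQ S0) ≠ 1`; if every `C` with `e_C ≠ 0` had `ψ (tr (C S0)) = 1` then
`ρ (uQ S0) * ∑ e_C = ∑ ψ (tr (C S0)) e_C = ∑ e_C`, so `ρ (uQ S0) = 1` (`sum_eC`, the scalar is not zero).
So some `C` with `e_C ≠ 0` has `ψ (tr (C S0)) ≠ 1`, and `tr (C S0) = (C + Cᵀ) 0 1`: `C + Cᵀ ≠ 0`.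
(Z) `dim V ≥ |qOrbit C| * tr e_C ≥ (q^n - 1)(q^n - q) / (2 (q + 1))` (helper1 `orbit_bound_even`).
-/

namespace Cfsg.Agent.Lib.Helper5.SPEStub

open Matrix Cfsg Cfsg.Agent.Lib.Helper6.Wl Cfsg.Agent.Lib.Helper5.SPE Cfsg.Agent.Lib.Helper1.SPE

/-! ## Unit P: the projectors `eC` (port of helper6 `WlC` / helper3 `MNUP`) -/
section unitP
variable {F : Type*} [Field F] [Fintype F] [DecidableEq F] {n : ℕ}
variable {V : Type*} [AddCommGroup V] [Module ℂ V] [FiniteDimensional ℂ V]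
variable (ρ : Representation ℂ (symplecticGroup (Fin n) F) V) (ψ : AddChar F ℂ)

/-- `tr (D (a x xᵀ)) = a qf D x` -/
theorem trace_mul_vecMulVec (D : Matrix (Fin n) (Fin n) F) (a : F) (x : Fin n → F) :
    Matrix.trace (D * (a • vecMulVec x x)) = a * qf D x := by
  sorry

theorem rho_mul_eC (S0 : symAdd F n) (C : Matrix (Fin n) (Fin n) F) :
    ρ (uQ S0) * eC ρ ψ C = ψ (Matrix.trace (C * (S0 : Matrix (Fin n) (Fin n) F))) • eC ρ ψ C := by
  sorry

theorem eC_mul_rho (S0 : symAdd F n) (C : Matrix (Fin n) (Fin n) F) :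
    eC ρ ψ C * ρ (uQ S0) = ψ (Matrix.trace (C * (S0 : Matrix (Fin n) (Fin n) F))) • eC ρ ψ C := by
  sorry

theorem eC_idem (C : Matrix (Fin n) (Fin n) F) : IsIdempotentElem (eC ρ ψ C) := by
  sorry

/-- different quadratic forms give orthogonal projectors: some `S = a x xᵀ` has
`ψ (tr (C S)) ≠ ψ (tr (C' S))` (`trace_mul_vecMulVec`), and
`ψ (tr (C S)) • (e_C e_C') = e_C ρ (uQ S) e_C' = ψ (tr (C' S)) • (e_C e_C')` -/
theorem eC_mul_eC_of_ne (hψ : ψ ≠ 1) (C C' : Matrix (Fin n) (Fin n) F) (h : qf C ≠ qf C') :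
    eC ρ ψ C * eC ρ ψ C' = 0 := by
  sorry

/-- sum over ALL matrices: `∑_C ψ (-tr (C S)) = 0` for `S ≠ 0` -/
theorem sum_eC (hψ : ψ ≠ 1) : ∑ C : Matrix (Fin n) (Fin n) F, eC ρ ψ C =
    ((Fintype.card (Matrix (Fin n) (Fin n) F) : ℂ) * ((Fintype.card (symAdd F n) : ℂ))⁻¹) •
      (1 : Module.End ℂ V) := by
  sorry

theorem trace_eC_cong (B : GL (Fin n) F) (C : Matrix (Fin n) (Fin n) F) :
    LinearMap.trace ℂ V (eC ρ ψ ((B : Matrix (Fin n) (Fin n) F)ᵀ * C * (B : Matrix (Fin n) (Fin n) F))) =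
      LinearMap.trace ℂ V (eC ρ ψ C) := by
  sorry

/-- the trace of an idempotent is a natural number, positive if the idempotent is not zero -/
theorem trace_idem_nat (e : Module.End ℂ V) (he : IsIdempotentElem e) :
    ∃ r : ℕ, LinearMap.trace ℂ V e = (r : ℂ) ∧ (e ≠ 0 → 1 ≤ r) := by
  sorry

/-- dimension count: pairwise form-distinct matrices whose projectors all have trace `r`
(`∑_{C ∈ O} e_C` is an idempotent of trace `|O| r`) -/
theorem finrank_ge (hψ : ψ ≠ 1) (O : Finset (Matrix (Fin n) (Fin n) F)) (r : ℕ)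
    (hne : ∀ C ∈ O, ∀ C' ∈ O, C ≠ C' → qf C ≠ qf C')
    (hr : ∀ C ∈ O, LinearMap.trace ℂ V (eC ρ ψ C) = (r : ℂ)) :
    O.card * r ≤ Module.finrank ℂ V := by
  sorry

end unitP

/-! ## Unit N: a projector with nonzero polar form -/
section unitN
variable {F : Type*} [Field F] [Fintype F] [DecidableEq F] {n : ℕ}
variable {V : Type*} [AddCommGroup V] [Module ℂ V] [FiniteDimensional ℂ V]
variable (ρ : Representation ℂ (symplecticGroup (Fin n) F) V) (ψ : AddChar F ℂ)

/-- (N) see the file header; uses `sum_eC`, `rho_mul_eC`, helper6 `Wl.not_irreducible_of_trivial`,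
helper5 `SympPrimitive.normal_le_center_or_eq_top` -/
theorem exists_C_polar (hn : 2 ≤ n) (hperf : commutator (symplecticGroup (Fin n) F) = ⊤)
    (hψ : ψ ≠ 1) (hirr : ρ.IsIrreducible) (hdim : 2 ≤ Module.finrank ℂ V) :
    ∃ C : Matrix (Fin n) (Fin n) F, eC ρ ψ C ≠ 0 ∧ C + Cᵀ ≠ 0 := by
  sorry

end unitN

/-! ## helper1's orbit bound (restated) -/
section unitG
variable {F : Type*} [Field F] [Fintype F] [DecidableEq F]

theorem orbit_bound_even (h2 : (2 : F) = 0) {n : ℕ} (hn : 2 ≤ n)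
    (T : Matrix (Fin n) (Fin n) F) (hT : T + Tᵀ ≠ 0) :
    (Fintype.card F ^ n - 1) * (Fintype.card F ^ n - Fintype.card F) ≤
      2 * (Fintype.card F + 1) * (qOrbit T).card := by
  sorry

end unitG

/-! ## Unit Z: assembly (helper5) -/
section unitZ
variable {F : Type*} [Field F] [Fintype F] [DecidableEq F]

theorem sp_even_bound (n : ℕ) (hn : 2 ≤ n) (heven : Even (Fintype.card F))
    (hex : (n, Fintype.card F) ≠ (2, 2)) (k : ℕ)
    (ρ : Representation ℂ (Matrix.symplecticGroup (Fin n) F) (Fin k → ℂ)) (hirr : ρ.IsIrreducible)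
    (hk : 2 ≤ k) :
    (Fintype.card F ^ n - 1) * (Fintype.card F ^ n - Fintype.card F) / (2 * (Fintype.card F + 1)) ≤
      k := by
  sorry

end unitZ

end Cfsg.Agent.Lib.Helper5.SPEStub
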