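import Mathlib
import Cfsg.Agent.Lib.Helper5.SPEDefs
import Cfsg.Agent.Lib.Helper1.SPEDefs
import Cfsg.Agent.Lib.Helper5.SympPrimitive
import Cfsg.Agent.Lib.Helper6.SPEP
import Cfsg.Agent.Lib.Helper2.SPEN2
import Cfsg.Agent.Lib.Helper1.SPEG

set_option autoImplicit false
set_option linter.unusedSectionVars false
set_option linter.unusedVariables false

/-!
Farm SPE (statement S2333), unit Z: assembly of the Landazuri-Seitz bound for `Sp_{2n}(q)`, `q` even.
-/

namespace Cfsg.Agent.Lib.Helper5.SPE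

open Matrix Cfsg Cfsg.Agent.Lib.Helper6.Wl Cfsg.Agent.Lib.Helper1.SPE
open Cfsg.Agent.Lib.Helper6.SPE (rho_mul_eC sum_eC eC_idem trace_idem_nat trace_eC_cong finrank_ge)
open Cfsg.Agent.Lib.Helper2.SPE (exists_C_polar_of)

theorem two_eq_zero_of_even {F : Type*} [Field F] [Fintype F] (heven : Even (Fintype.card F)) :
    (2 : F) = 0 := by
  obtain ⟨p, hp⟩ := CharP.exists F
  obtain ⟨k, hprime, hcard⟩ := FiniteField.card F p
  have h2 : 2 ∣ p ^ (k : ℕ) := by rw [← hcard]; exact heven.two_dvd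
  have h3 : 2 ∣ p := Nat.Prime.dvd_of_dvd_pow Nat.prime_two h2
  have h4 : p = 2 := ((Nat.prime_dvd_prime_iff_eq Nat.prime_two hprime).1 h3).symm
  subst h4
  have := CharP.cast_eq_zero F 2
  exact_mod_cast this

section unitZ
variable {F : Type*} [Field F] [Fintype F] [DecidableEq F]

theorem sp_even_bound (n : ℕ) (hn : 2 ≤ n) (heven : Even (Fintype.card F))
    (hex : (n, Fintype.card F) ≠ (2, 2)) (k : ℕ)
    (ρ : Representation ℂ (Matrix.symplecticGroup (Fin n) F) (Fin k → ℂ)) (hirr : ρ.IsIrreducible)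
    (hk : 2 ≤ k) :
    (Fintype.card F ^ n - 1) * (Fintype.card F ^ n - Fintype.card F) / (2 * (Fintype.card F + 1)) ≤
      k := by
  classical
  have h2 : (2 : F) = 0 := two_eq_zero_of_even heven
  have hq2 : 2 ≤ Fintype.card F := Fintype.one_lt_card
  have hperf : commutator (symplecticGroup (Fin n) F) = ⊤ := by
    apply Cfsg.Agent.Lib.Helper5.SympPerfect.perfect n
    by_cases h3 : 3 ≤ n
    · exact Or.inl h3
    · have hn2 : n = 2 := by omega
      refine Or.inr (Or.inl ⟨hn2, ?_⟩)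
      have : Fintype.card F ≠ 2 := by
        intro h
        apply hex
        rw [hn2, h]
      omega
  obtain ⟨ψ, hψ⟩ := exists_psi_ne_one F
  have hfin : Module.finrank ℂ (Fin k → ℂ) = k := by simp
  obtain ⟨C0, heC0, hC0⟩ := exists_C_polar_of ρ ψ hn hperf hψ hirr (by rw [hfin]; exact hk)
    (rho_mul_eC ρ ψ) (sum_eC ρ ψ hψ)
  obtain ⟨r, hr, hr1⟩ := trace_idem_nat (eC ρ ψ C0) (eC_idem ρ ψ C0)
  have hr1' : 1 ≤ r := hr1 heC0
  -- choose a matrix for every form in the orbit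
  have hch : ∀ φ ∈ qOrbit C0, ∃ B : GL (Fin n) F,
      φ = qf ((B : Matrix (Fin n) (Fin n) F)ᵀ * C0 * (B : Matrix (Fin n) (Fin n) F)) := by
    intro φ hφ
    obtain ⟨g, -, rfl⟩ := Finset.mem_image.1 hφ
    refine ⟨g, ?_⟩
    funext x
    rw [qf_conj]
  choose! Bf hBf using hch
  have hinj : ∀ φ ∈ qOrbit C0, ∀ φ' ∈ qOrbit C0,
      (Bf φ : Matrix (Fin n) (Fin n) F)ᵀ * C0 * (Bf φ : Matrix (Fin n) (Fin n) F) =
        (Bf φ' : Matrix (Fin n) (Fin n) F)ᵀ * C0 * (Bf φ' : Matrix (Fin n) (Fin n) F) → φ = φ' := by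
    intro φ hφ φ' hφ' h
    rw [hBf φ hφ, hBf φ' hφ', h]
  let O : Finset (Matrix (Fin n) (Fin n) F) := (qOrbit C0).image
    (fun φ => (Bf φ : Matrix (Fin n) (Fin n) F)ᵀ * C0 * (Bf φ : Matrix (Fin n) (Fin n) F))
  have hOcard : O.card = (qOrbit C0).card := by
    apply Finset.card_image_of_injOn
    intro φ hφ φ' hφ' h
    exact hinj φ hφ φ' hφ' h
  have hne : ∀ C ∈ O, ∀ C' ∈ O, C ≠ C' → qf C ≠ qf C' := by
    intro C hC C' hC' hCC' hq
    obtain ⟨φ, hφ, rfl⟩ := Finset.mem_image.1 hC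
    obtain ⟨φ', hφ', rfl⟩ := Finset.mem_image.1 hC'
    apply hCC'
    have : φ = φ' := by rw [hBf φ hφ, hBf φ' hφ']; exact hq
    rw [this]
  have hrO : ∀ C ∈ O, LinearMap.trace ℂ (Fin k → ℂ) (eC ρ ψ C) = (r : ℂ) := by
    intro C hC
    obtain ⟨φ, hφ, rfl⟩ := Finset.mem_image.1 hC
    rw [trace_eC_cong, hr]
  have hge := finrank_ge ρ ψ hψ O r hne hrO
  rw [hfin, hOcard] at hge
  have hob := orbit_bound_even h2 hn C0 hC0
  apply Nat.div_le_of_le_mul
  calc (Fintype.card F ^ n - 1) * (Fintype.card F ^ n - Fintype.card F)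
      ≤ 2 * (Fintype.card F + 1) * (qOrbit C0).card := hob
    _ ≤ 2 * (Fintype.card F + 1) * k := by
        apply Nat.mul_le_mul_left
        calc (qOrbit C0).card ≤ (qOrbit C0).card * r := Nat.le_mul_of_pos_right _ hr1'
          _ ≤ k := hge

end unitZ

end Cfsg.Agent.Lib.Helper5.SPE
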