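import Mathlib
import Cfsg.Agent.Lib.Helper1.SPEDefs
import Cfsg.Agent.Lib.Helper5.SPEDefs
import Cfsg.Agent.Lib.Helper5.SPWIDefs

set_option autoImplicit false
set_option linter.unusedSectionVars false
set_option linter.unusedVariables false

/-!
Farm SPW (statement S2524), PART I (gap bound), STUBS ONLY (imported by nothing).
Port of the SPE orbit half to `q` odd.  Each unit goes to its own file with the statement verbatim.
-/

namespace Cfsg.Agent.Lib.Helper5.SPWIStubs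

open Matrix Cfsg Cfsg.Agent.Lib.Helper6.Wl Cfsg.Agent.Lib.Helper1.SPE Cfsg.Agent.Lib.Helper5.SPWI

variable {F : Type*} [Field F] [Fintype F] [DecidableEq F]

/-! ### unit IB : binary forms, `q` odd -/

theorem card_bq_le_odd (h2 : (2 : F) ≠ 0) (a b c : F)
    (hani : ∀ s t : F, bq a b c s t = 0 → s = 0 ∧ t = 0) (a' : F) (ha' : a' ≠ 0) :
    (Finset.univ.filter (fun p : F × F => bq a b c p.1 p.2 = a')).card ≤ Fintype.card F + 1 := by
  sorry

theorem card_bq_pairs_le_odd (h2 : (2 : F) ≠ 0) (a b c : F)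
    (hani : ∀ s t : F, bq a b c s t = 0 → s = 0 ∧ t = 0) (a' b' c' : F) :
    (Finset.univ.filter (fun p : (F × F) × (F × F) =>
      bq a b c p.1.1 p.1.2 = a' ∧ bq a b c p.2.1 p.2.2 = c' ∧
      2 * a * p.1.1 * p.2.1 + b * (p.1.1 * p.2.2 + p.1.2 * p.2.1) + 2 * c * p.1.2 * p.2.2 = b')).card
      ≤ 2 * (Fintype.card F + 1) := by
  sorry

/-! ### unit IC : a nondegenerate plane, anisotropic or (hyperbolic with `Q = 0` on the perp) -/

theorem exists_plane_odd (h2 : (2 : F) ≠ 0) {n : ℕ} (T : Matrix (Fin n) (Fin n) F)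
    (hT : ¬ RankLeOne T) :
    ∃ x₀ y₀ : Fin n → F,
      4 * qf T x₀ * qf T y₀ - polF (qf T) x₀ y₀ * polF (qf T) x₀ y₀ ≠ 0 ∧
      (Ani (qf T) x₀ y₀ ∨ Hyp (qf T) x₀ y₀) := by
  sorry

/-! ### unit IE : the upper count -/

theorem card_pairs_le_odd (h2 : (2 : F) ≠ 0) {m : ℕ} (T : Matrix (Fin (m + 2)) (Fin (m + 2)) F)
    (hd : 4 * qf T (Pi.single 0 1) * qf T (Pi.single 1 1) -
      polF (qf T) (Pi.single 0 1) (Pi.single 1 1) * polF (qf T) (Pi.single 0 1) (Pi.single 1 1) ≠ 0)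
    (hcase : Ani (qf T) (Pi.single 0 1) (Pi.single 1 1) ∨
      Hyp (qf T) (Pi.single 0 1) (Pi.single 1 1)) :
    (Finset.univ.filter (fun p : (Fin (m + 2) → F) × (Fin (m + 2) → F) =>
      qf T p.1 = qf T (Pi.single 0 1) ∧ qf T p.2 = qf T (Pi.single 1 1) ∧
      polF (qf T) p.1 p.2 = polF (qf T) (Pi.single 0 1) (Pi.single 1 1))).card ≤
      2 * (Fintype.card F + 1) * Fintype.card F ^ (2 * m) := by
  sorry

/-! ### unit IF : the lower count (shears) -/

theorem card_orbit_pairs_ge_odd {m : ℕ} (T : Matrix (Fin (m + 2)) (Fin (m + 2)) F)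
    (hd : 4 * qf T (Pi.single 0 1) * qf T (Pi.single 1 1) -
      polF (qf T) (Pi.single 0 1) (Pi.single 1 1) * polF (qf T) (Pi.single 0 1) (Pi.single 1 1) ≠ 0)
    (x y : Fin (m + 2) → F) (h : GL (Fin (m + 2)) F)
    (hx : (h : Matrix (Fin (m + 2)) (Fin (m + 2)) F) *ᵥ Pi.single 0 1 = x)
    (hy : (h : Matrix (Fin (m + 2)) (Fin (m + 2)) F) *ᵥ Pi.single 1 1 = y) :
    Fintype.card F ^ (2 * m) ≤ ((qOrbit T).filter (fun Q' =>
      Q' x = qf T (Pi.single 0 1) ∧ Q' y = qf T (Pi.single 1 1) ∧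
      polF Q' x y = polF (qf T) (Pi.single 0 1) (Pi.single 1 1))).card := by
  sorry

/-! ### unit IG : the orbit bound (helper5) -/

theorem orbit_bound_odd (h2 : (2 : F) ≠ 0) {n : ℕ} (hn : 2 ≤ n) (T : Matrix (Fin n) (Fin n) F)
    (hT : ¬ RankLeOne T) :
    (Fintype.card F ^ n - 1) * (Fintype.card F ^ n - Fintype.card F) ≤
      2 * (Fintype.card F + 1) * (qOrbit T).card := by
  sorry

/-! ### unit IZ : the gap bound (helper5) -/

theorem spw_gap {n : ℕ} (hn : 2 ≤ n) (h2 : (2 : F) ≠ 0)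
    {V : Type*} [AddCommGroup V] [Module ℂ V] [FiniteDimensional ℂ V]
    (ρ : Representation ℂ (symplecticGroup (Fin n) F) V) (ψ : AddChar F ℂ) (hψ : ψ ≠ 1)
    (C0 : Matrix (Fin n) (Fin n) F) (heC0 : Cfsg.Agent.Lib.Helper5.SPE.eC ρ ψ C0 ≠ 0)
    (hC0 : ¬ RankLeOne C0) :
    (Fintype.card F ^ n - 1) * (Fintype.card F ^ n - Fintype.card F) ≤
      2 * (Fintype.card F + 1) * Module.finrank ℂ V := by
  sorry

end Cfsg.Agent.Lib.Helper5.SPWIStubs
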