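import Mathlib
import Cfsg.Prelude.Def_Local
import Cfsg.Prelude.Def_CaseTheorems
import Cfsg.Agent.Lib.Helper2.Components
import Cfsg.Agent.Lib.Helper2.Quasisimple

/-!
# Farm SRC (S3153): interface-independent cores of units U1 and U5.
-/

set_option autoImplicit false

namespace Cfsg.Agent.Lib.Helper5.SRCU5

open Cfsg

/-- U1 core: the centralizer of an involution of a tightly embedded subgroup `K` normalizes `K`. -/
theorem centralizer_le_normalizer_of_tight {X : Type*} [Group X] [Finite X] (K : Subgroup X)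
    (hK : Cfsg.IsTightlyEmbedded K) (t : X) (ht : orderOf t = 2) (htK : t ∈ K) (x : X)
    (hx : x * t = t * x) : x ∈ Subgroup.normalizer (K : Set X) := by
  by_contra hn
  have hodd := hK.2 x hn
  have hmem : t ∈ K ⊓ K.map (MulAut.conj x).toMonoidHom := by
    refine ⟨htK, ⟨t, htK, ?_⟩⟩
    show x * t * x⁻¹ = t
    rw [hx, mul_inv_cancel_right]
  have h2 : 2 ∣ Nat.card ↥(K ⊓ K.map (MulAut.conj x).toMonoidHom) := by
    have := orderOf_dvd_natCard (⟨t, hmem⟩ : ↥(K ⊓ K.map (MulAut.conj x).toMonoidHom))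
    rwa [Subgroup.orderOf_mk, ht] at this
  exact (Nat.not_even_iff_odd.mpr hodd) (even_iff_two_dvd.mpr h2)

/-- U5 core: a subgroup `C` of a normal odd-order subgroup `W` that normalizes the quasisimple
subgroup `P` (of even order) centralizes `P`. -/
theorem centralizes_of_odd_normal {X : Type*} [Group X] [Finite X] (P W : Subgroup X)
    (hq : Cfsg.IsQuasisimple ↥P) [W.Normal] (hW : Odd (Nat.card W)) (p : X) (hp : p ∈ P)
    (hp2 : orderOf p = 2) (C : Subgroup X) (hCW : C ≤ W)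
    (hCN : C ≤ Subgroup.normalizer (P : Set X)) : ∀ c ∈ C, ∀ x ∈ P, c * x = x * c := by
  -- `W ∩ P` is central in `P`
  have hnorm : ((W ⊓ P).subgroupOf P).Normal := by
    constructor
    intro n hn g
    rw [Subgroup.mem_subgroupOf] at hn ⊢
    refine ⟨?_, (g * n * g⁻¹).2⟩
    have := (inferInstance : W.Normal).conj_mem (n : X) hn.1 (g : X)
    simpa using this
  have hcen : (W ⊓ P).subgroupOf P ≤ Subgroup.center ↥P := by
    rcases Cfsg.Agent.Lib.Helper2.isQuasisimple_normal_eq_top_or_le_center hq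
      ((W ⊓ P).subgroupOf P) with h | h
    · exfalso
      have hpW : p ∈ W := by
        have : (⟨p, hp⟩ : ↥P) ∈ (W ⊓ P).subgroupOf P := by rw [h]; exact Subgroup.mem_top _
        rw [Subgroup.mem_subgroupOf] at this
        exact this.1
      have h2 : 2 ∣ Nat.card ↥W := by
        have := orderOf_dvd_natCard (⟨p, hpW⟩ : ↥W)
        rwa [Subgroup.orderOf_mk, hp2] at this
      exact (Nat.not_even_iff_odd.mpr hW) (even_iff_two_dvd.mpr h2)
    · exact h
  intro c hc
  have hcW : c ∈ W := hCW hc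
  have hcN : c ∈ Subgroup.normalizer (P : Set X) := hCN hc
  have hconj : ∀ x ∈ P, c * x * c⁻¹ ∈ P := fun x hx =>
    (Subgroup.mem_normalizer_iff.mp hcN x).mp hx
  -- `z x = c x c⁻¹ x⁻¹` is central in `P`
  have hz : ∀ x : ↥P, (⟨c * x * c⁻¹ * (x : X)⁻¹, P.mul_mem (hconj x x.2) (P.inv_mem x.2)⟩ : ↥P) ∈
      Subgroup.center ↥P := by
    intro x
    apply hcen
    rw [Subgroup.mem_subgroupOf]
    refine ⟨?_, P.mul_mem (hconj x x.2) (P.inv_mem x.2)⟩
    have h1 : (x : X) * c⁻¹ * (x : X)⁻¹ ∈ W :=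
      (inferInstance : W.Normal).conj_mem c⁻¹ (W.inv_mem hcW) (x : X)
    have := W.mul_mem hcW h1
    simpa [mul_assoc] using this
  -- the homomorphism `x ↦ z x` into the centre
  let ψ : ↥P →* ↥(Subgroup.center ↥P) :=
    MonoidHom.mk' (fun x => ⟨⟨c * x * c⁻¹ * (x : X)⁻¹, P.mul_mem (hconj x x.2) (P.inv_mem x.2)⟩, hz x⟩)
      (by
        intro a b
        apply Subtype.ext
        apply Subtype.ext
        have hb := Subgroup.mem_center_iff.mp (hz b) a⁻¹
        have hb' : (a : X)⁻¹ * (c * b * c⁻¹ * (b : X)⁻¹) = (c * b * c⁻¹ * (b : X)⁻¹) * (a : X)⁻¹ := by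
          simpa using congrArg (fun y : ↥P => (y : X)) hb
        show c * ((a : X) * (b : X)) * c⁻¹ * ((a : X) * (b : X))⁻¹ =
          (c * a * c⁻¹ * (a : X)⁻¹) * (c * b * c⁻¹ * (b : X)⁻¹)
        calc c * ((a : X) * (b : X)) * c⁻¹ * ((a : X) * (b : X))⁻¹
            = c * a * c⁻¹ * ((c * b * c⁻¹ * (b : X)⁻¹) * (a : X)⁻¹) := by group
          _ = c * a * c⁻¹ * ((a : X)⁻¹ * (c * b * c⁻¹ * (b : X)⁻¹)) := by rw [hb']
          _ = (c * a * c⁻¹ * (a : X)⁻¹) * (c * b * c⁻¹ * (b : X)⁻¹) := by group)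
  intro x hx
  have h1 : ψ ⟨x, hx⟩ = 1 :=
    Cfsg.Agent.Lib.Helper2.hom_eq_one_of_isPerfect hq.1
      (fun a b => by
        apply Subtype.ext
        have := Subgroup.mem_center_iff.mp b.2 (a : ↥P)
        simpa using this) ψ ⟨x, hx⟩
  have h2 : c * x * c⁻¹ * x⁻¹ = 1 := by
    have := congrArg (fun y : ↥(Subgroup.center ↥P) => ((y : ↥P) : X)) h1
    simpa [ψ] using this
  calc c * x = (c * x * c⁻¹ * x⁻¹) * (x * c) := by group
    _ = x * c := by rw [h2, one_mul]

end Cfsg.Agent.Lib.Helper5.SRCU5
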