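import Mathlib
import Cfsg.Prelude.Def_Local
import Cfsg.Agent.Lib.Helper1.FittingCentralizer
import Cfsg.Agent.Lib.Helper1.PLengthOne
import Cfsg.Agent.Lib.Helper5.SRCU5

/-!
# Farm SRC (S3153): units U1 and U5, verbatim as in `Lib/Helper7/SRCStubs`.
-/

set_option autoImplicit false

namespace Cfsg.Agent.Lib.Helper5.SRC

open Cfsg

/-- U1: tight embedding: the centralizer of an involution `t` of `C_X(P)` lies in `N_X(P)`. -/
theorem U1 {X : Type*} [Group X] [Finite X] (P : Subgroup X)
    (hK : Cfsg.IsTightlyEmbedded (Subgroup.centralizer (P : Set X)))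
    (hN : Subgroup.normalizer (P : Set X) =
      Subgroup.normalizer (Subgroup.centralizer (P : Set X) : Set X))
    (t : X) (ht : orderOf t = 2) (htP : t ∈ Subgroup.centralizer (P : Set X))
    (x : X) (hx : x * t = t * x) : x ∈ Subgroup.normalizer (P : Set X) := by
  rw [hN]
  exact Cfsg.Agent.Lib.Helper5.SRCU5.centralizer_le_normalizer_of_tight _ hK t ht htP x hx

/-- U5: if `C_X(t) ≤ N_X(P)`, `P` quasisimple of even order, then `C_{O(X)}(t)` centralizes `P`. -/
theorem U5 {X : Type*} [Group X] [Finite X] (P : Subgroup X)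
    (hq : Cfsg.IsQuasisimple ↥P) (p : X) (hpP : p ∈ P) (hp : orderOf p = 2)
    (t : X) (hCt : ∀ x : X, x * t = t * x → x ∈ Subgroup.normalizer (P : Set X))
    (w : X) (hw : w ∈ Cfsg.oddCore X) (hwt : w * t = t * w) :
    w ∈ Subgroup.centralizer (P : Set X) := by
  haveI : (Cfsg.oddCore X).Normal := Cfsg.Agent.Lib.Helper1.pPrimeCore_normal 2
  have hodd : Odd (Nat.card ↥(Cfsg.oddCore X)) := by
    have h := Cfsg.Agent.Lib.Helper1.pPrimeCore_card_coprime (G := X) 2
    exact Nat.Coprime.odd_of_right h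
  -- the subgroup `C = O(X) ∩ C_X(t)`
  let C : Subgroup X := Cfsg.oddCore X ⊓ Subgroup.centralizer ({t} : Set X)
  have hCW : C ≤ Cfsg.oddCore X := inf_le_left
  have hCN : C ≤ Subgroup.normalizer (P : Set X) := by
    intro c hc
    apply hCt
    have := Subgroup.mem_centralizer_iff.mp hc.2 t rfl
    exact this.symm
  have hwt' : w ∈ Subgroup.centralizer ({t} : Set X) := by
    rw [Subgroup.mem_centralizer_iff]
    intro h hh
    rw [Set.mem_singleton_iff] at hh
    rw [hh, hwt]
  have hwC : w ∈ C := ⟨hw, hwt'⟩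
  have key := Cfsg.Agent.Lib.Helper5.SRCU5.centralizes_of_odd_normal P (Cfsg.oddCore X) hq hodd p hpP hp
    C hCW hCN w hwC
  rw [Subgroup.mem_centralizer_iff]
  intro x hx
  exact (key x hx).symm

end Cfsg.Agent.Lib.Helper5.SRC
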