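import Mathlib
import Cfsg.Prelude
import Cfsg.Agent.Lib.Helper5.SU3Sylow

set_option autoImplicit false
open Cfsg

/-! Further properties of groups isomorphic to the model group, in characteristic two. -/

namespace Cfsg.Agent.Lib.Helper5.SU3SylowProps

open Cfsg.Agent.Lib.Helper5.SuzukiModel

section gen
variable {G H : Type*} [Group G] [Group H]

theorem mem_center_equiv (e : G ≃* H) (x : G) :
    e x ∈ Subgroup.center H ↔ x ∈ Subgroup.center G := by
  rw [Subgroup.mem_center_iff, Subgroup.mem_center_iff]
  constructor
  · intro h g
    apply e.injective
    rw [map_mul, map_mul]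
    exact h (e g)
  · intro h k
    have := congrArg e (h (e.symm k))
    rwa [map_mul, map_mul, e.apply_symm_apply] at this

theorem map_center_equiv (e : G ≃* H) :
    (Subgroup.center G).map e.toMonoidHom = Subgroup.center H := by
  ext y
  constructor
  · rintro ⟨x, hx, rfl⟩
    exact (mem_center_equiv e x).mpr hx
  · intro hy
    refine ⟨e.symm y, ?_, e.apply_symm_apply y⟩
    have : e.symm y ∈ Subgroup.center G := by
      rw [← mem_center_equiv e, e.apply_symm_apply]
      exact hy
    exact this

theorem map_commutator_equiv (e : G ≃* H) :
    (commutator G).map e.toMonoidHom = commutator H := by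
  rw [commutator_def, commutator_def, Subgroup.map_commutator,
    Subgroup.map_top_of_surjective _ e.surjective]

end gen

section main
variable {F : Type*} [Field F] [Fintype F] {q : ℕ} [hF : Fact (Fintype.card F = q ^ 2)]
  [CharP F 2]
variable {G : Type*} [Group G] (e : G ≃* M F q)

include e in
theorem sq_mem_center' (g : G) : g * g ∈ Subgroup.center G := by
  rw [← mem_center_equiv e, map_mul]
  exact sq_mem_center (e g)

include e in
theorem mul_self_eq_one_iff' (g : G) : g * g = 1 ↔ g ∈ Subgroup.center G := by
  rw [← mem_center_equiv e, mem_center_iff, ← SuzukiModel.mul_self_eq_one_iff, ← map_mul]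
  constructor
  · intro h; rw [h, map_one]
  · intro h; exact e.injective (h.trans (map_one e).symm)

include e in
theorem commutator_eq_center' : commutator G = Subgroup.center G := by
  have hinj : Function.Injective e.toMonoidHom := e.injective
  apply Subgroup.map_injective hinj
  rw [map_commutator_equiv, map_center_equiv, commutator_eq_center]

include e in
theorem card' : Nat.card G = q ^ 3 := by
  rw [Nat.card_congr e.toEquiv, card_M]

include e in
theorem card_center' : Nat.card (Subgroup.center G) = q := by
  rw [Nat.card_congr (Subgroup.centerCongr e).toEquiv, card_center]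

include e in
theorem center_eq_closure_involutions :
    Subgroup.center G = Subgroup.closure {x : G | orderOf x = 2} := by
  apply le_antisymm
  · intro z hz
    by_cases hz1 : z = 1
    · rw [hz1]; exact Subgroup.one_mem _
    · apply Subgroup.subset_closure
      have h1 : z ^ 2 = 1 := by rw [pow_two]; exact (mul_self_eq_one_iff' e z).mpr hz
      exact orderOf_eq_prime h1 hz1
  · rw [Subgroup.closure_le]
    intro x hx
    rw [Set.mem_ofPred_eq] at hx
    have h1 : x ^ 2 = 1 := by rw [← hx]; exact pow_orderOf_eq_one x
    rw [pow_two] at h1
    exact (mul_self_eq_one_iff' e x).mp h1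

include e in
theorem quotient_sq (x : G ⧸ Subgroup.center G) : x ^ 2 = 1 := by
  induction x using QuotientGroup.induction_on with
  | H g =>
    rw [← QuotientGroup.mk_pow, QuotientGroup.eq_one_iff, pow_two]
    exact sq_mem_center' e g

end main

end Cfsg.Agent.Lib.Helper5.SU3SylowProps
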