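import Mathlib
import Cfsg.Prelude.Def_ClassicalGeometry
import Cfsg.Agent.Lib.Helper5.SL4Orth
import Cfsg.Agent.Lib.Helper5.SL2SL2Orth
import Cfsg.Agent.Lib.Helper5.SpinorHyp2

set_option autoImplicit false
open Cfsg

namespace Cfsg.Agent.Lib.Helper5.Sp4Orth

open Matrix QuadraticMap Cfsg.Agent.Lib.Helper5.OrthCard Cfsg.Agent.Lib.Helper5.SL4Orth
  Cfsg.Agent.Lib.Helper5.SL2SL2Orth Cfsg.Agent.Lib.Helper5.SpinorHyp2

variable {F : Type*} [Field F]

/-- the symplectic Gram matrix in `Fin 4` coordinates -/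
def J4 : Matrix (Fin 4) (Fin 4) F :=
  !![0, 0, -1, 0; 0, 0, 0, -1; 1, 0, 0, 0; 0, 1, 0, 0]

/-- the bivector of the symplectic form -/
def wJ : Fin 6 → F := ![0, -1, 0, 0, 1, 0]

/-- the wedge quadratic form in coordinates -/
def Q6 (w : Fin 6 → F) : F := w 0 * w 3 + w 1 * w 4 + w 2 * w 5

/-- its polar form -/
def B6 (w w' : Fin 6 → F) : F :=
  w 0 * w' 3 + w 3 * w' 0 + w 1 * w' 4 + w 4 * w' 1 + w 2 * w' 5 + w 5 * w' 2

theorem Q6_add (w w' : Fin 6 → F) : Q6 (w + w') = Q6 w + Q6 w' + B6 w w' := by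
  simp only [Q6, B6, Pi.add_apply]
  ring

theorem Q6_L6 (g : Matrix (Fin 4) (Fin 4) F) (w : Fin 6 → F) :
    Q6 (L6 g *ᵥ w) = g.det * Q6 w := L6_quad g w

theorem B6_L6 (g : Matrix (Fin 4) (Fin 4) F) (w w' : Fin 6 → F) :
    B6 (L6 g *ᵥ w) (L6 g *ᵥ w') = g.det * B6 w w' := by
  have h1 := Q6_add (L6 g *ᵥ w) (L6 g *ᵥ w')
  rw [← Matrix.mulVec_add, Q6_L6, Q6_L6, Q6_L6, Q6_add] at h1
  linear_combination -h1

theorem L6_wJ (g : Matrix (Fin 4) (Fin 4) F)
    (hg : g * (J4 : Matrix (Fin 4) (Fin 4) F) * gᵀ = J4) : L6 g *ᵥ wJ = wJ := by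
  have H : ∀ a b : Fin 4, (g * (J4 : Matrix (Fin 4) (Fin 4) F) * gᵀ) a b =
      (J4 : Matrix (Fin 4) (Fin 4) F) a b :=
    fun a b => by rw [hg]
  simp only [Matrix.mul_apply, Matrix.transpose_apply, Fin.sum_univ_four, J4] at H
  simp at H
  ext i
  fin_cases i
  · have := H 0 1
    simp [L6, P1, P2, wJ, Matrix.mulVec, dotProduct, Fin.sum_univ_six] at this ⊢
    linear_combination this
  · have := H 0 2
    simp [L6, P1, P2, wJ, Matrix.mulVec, dotProduct, Fin.sum_univ_six] at this ⊢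
    linear_combination this
  · have := H 0 3
    simp [L6, P1, P2, wJ, Matrix.mulVec, dotProduct, Fin.sum_univ_six] at this ⊢
    linear_combination this
  · have := H 2 3
    simp [L6, P1, P2, wJ, Matrix.mulVec, dotProduct, Fin.sum_univ_six] at this ⊢
    linear_combination this
  · have := H 3 1
    simp [L6, P1, P2, wJ, Matrix.mulVec, dotProduct, Fin.sum_univ_six] at this ⊢
    linear_combination this
  · have := H 1 2
    simp [L6, P1, P2, wJ, Matrix.mulVec, dotProduct, Fin.sum_univ_six] at this ⊢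
    linear_combination this

theorem Q6_wJ : Q6 (wJ : Fin 6 → F) = -1 := by
  simp [Q6, wJ]

theorem B6_wJ (w : Fin 6 → F) : B6 w wJ = w 1 - w 4 := by
  simp [B6, wJ]
  ring

theorem det_of_J4 (g : Matrix (Fin 4) (Fin 4) F)
    (hg : g * (J4 : Matrix (Fin 4) (Fin 4) F) * gᵀ = J4) : g.det = 1 := by
  have h := Q6_L6 g wJ
  rw [L6_wJ g hg, Q6_wJ] at h
  linear_combination h

theorem L6_mem_H (g : Matrix (Fin 4) (Fin 4) F)
    (hg : g * (J4 : Matrix (Fin 4) (Fin 4) F) * gᵀ = J4) (w : Fin 6 → F) (hw : w 1 = w 4) :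
    (L6 g *ᵥ w) 1 = (L6 g *ᵥ w) 4 := by
  have h := B6_L6 g w wJ
  rw [L6_wJ g hg, B6_wJ, B6_wJ, det_of_J4 g hg, hw] at h
  linear_combination h

/-- the inclusion of the five-dimensional space `wJ^⊥` -/
def Einc (F : Type*) [Field F] : Matrix (Fin 6) (Fin 5) F :=
  !![0, 1, 0, 0, 0; 1, 0, 0, 0, 0; 0, 0, 1, 0, 0; 0, 0, 0, 1, 0; 1, 0, 0, 0, 0; 0, 0, 0, 0, 1]

/-- the projection onto five coordinates -/
def Eprj (F : Type*) [Field F] : Matrix (Fin 5) (Fin 6) F :=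
  !![0, 1, 0, 0, 0, 0; 1, 0, 0, 0, 0, 0; 0, 0, 1, 0, 0, 0; 0, 0, 0, 1, 0, 0; 0, 0, 0, 0, 0, 1]

theorem Eprj_mul_Einc : Eprj F * Einc F = 1 := by
  ext i j
  fin_cases i <;> fin_cases j <;> simp [Eprj, Einc, Matrix.mul_apply, Fin.sum_univ_six]

theorem Einc_mulVec (v : Fin 5 → F) :
    Einc F *ᵥ v = ![v 1, v 0, v 2, v 3, v 0, v 4] := by
  ext i
  fin_cases i <;> simp [Einc, Matrix.mulVec, dotProduct, Fin.sum_univ_five]

theorem Eprj_mulVec (w : Fin 6 → F) :
    Eprj F *ᵥ w = ![w 1, w 0, w 2, w 3, w 5] := by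
  ext i
  fin_cases i <;> simp [Eprj, Matrix.mulVec, dotProduct, Fin.sum_univ_six]

theorem Einc_Eprj_mulVec (w : Fin 6 → F) (hw : w 1 = w 4) :
    Einc F *ᵥ (Eprj F *ᵥ w) = w := by
  rw [Eprj_mulVec, Einc_mulVec]
  ext i
  fin_cases i <;> simp [hw]

theorem Einc_Eprj_mul (M : Matrix (Fin 6) (Fin 5) F) (hM : ∀ j, M 1 j = M 4 j) :
    Einc F * Eprj F * M = M := by
  ext i j
  fin_cases i <;>
    simp [Eprj, Einc, Matrix.mul_apply, Fin.sum_univ_six, hM]

/-- the action on the five-dimensional space `wJ^⊥` -/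
def P5 (g : Matrix (Fin 4) (Fin 4) F) : Matrix (Fin 5) (Fin 5) F :=
  Eprj F * L6 g * Einc F

theorem P5_one : P5 (1 : Matrix (Fin 4) (Fin 4) F) = 1 := by
  unfold P5
  rw [L6_one, Matrix.mul_one, Eprj_mul_Einc]

theorem L6_Einc_row (g : Matrix (Fin 4) (Fin 4) F)
    (hg : g * (J4 : Matrix (Fin 4) (Fin 4) F) * gᵀ = J4) (j : Fin 5) :
    (L6 g * Einc F) 1 j = (L6 g * Einc F) 4 j := by
  have h := L6_mem_H g hg (fun k => Einc F k j) (by
    fin_cases j <;> simp [Einc])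
  exact h

theorem P5_mul (g h : Matrix (Fin 4) (Fin 4) F)
    (hh : h * (J4 : Matrix (Fin 4) (Fin 4) F) * hᵀ = J4) : P5 (g * h) = P5 g * P5 h := by
  unfold P5
  rw [L6_mul]
  have key := Einc_Eprj_mul (L6 h * Einc F) (L6_Einc_row h hh)
  calc Eprj F * (L6 g * L6 h) * Einc F = Eprj F * L6 g * (L6 h * Einc F) := by
        simp only [Matrix.mul_assoc]
    _ = Eprj F * L6 g * (Einc F * Eprj F * (L6 h * Einc F)) := by rw [key]
    _ = Eprj F * L6 g * Einc F * (Eprj F * L6 h * Einc F) := by simp only [Matrix.mul_assoc]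

/-- the five-dimensional quadratic form in coordinates -/
def Q5 (v : Fin 5 → F) : F := v 0 ^ 2 + v 1 * v 3 + v 2 * v 4

theorem Q5_eq (v : Fin 5 → F) : Q5 v = Q6 (Einc F *ᵥ v) := by
  rw [Einc_mulVec]
  simp [Q5, Q6]
  ring

theorem Q6_eq (w : Fin 6 → F) (hw : w 1 = w 4) :
    Q6 w = Q5 (Eprj F *ᵥ w) := by
  rw [Eprj_mulVec]
  simp [Q5, Q6, ← hw]
  ring

theorem P5_quad (g : Matrix (Fin 4) (Fin 4) F)
    (hg : g * (J4 : Matrix (Fin 4) (Fin 4) F) * gᵀ = J4) (v : Fin 5 → F) :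
    Q5 (P5 g *ᵥ v) = Q5 v := by
  have h1 : P5 g *ᵥ v = Eprj F *ᵥ (L6 g *ᵥ (Einc F *ᵥ v)) := by
    unfold P5
    rw [Matrix.mulVec_mulVec, Matrix.mulVec_mulVec]
  have h2 : (L6 g *ᵥ (Einc F *ᵥ v)) 1 =
      (L6 g *ᵥ (Einc F *ᵥ v)) 4 := by
    apply L6_mem_H g hg
    rw [Einc_mulVec]
    simp
  rw [h1, ← Q6_eq _ h2, Q6_L6, det_of_J4 g hg, one_mul, Q5_eq]

theorem L6_eq_one_of_P5 (h2 : (2 : F) ≠ 0) (g : Matrix (Fin 4) (Fin 4) F)
    (hg : g * (J4 : Matrix (Fin 4) (Fin 4) F) * gᵀ = J4) (hP : P5 g = 1) : L6 g = 1 := by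
  have hH : ∀ w : Fin 6 → F, w 1 = w 4 → L6 g *ᵥ w = w := by
    intro w hw
    have h1 := L6_mem_H g hg w hw
    have h3 : Eprj F *ᵥ (L6 g *ᵥ (Einc F *ᵥ (Eprj F *ᵥ w))) = Eprj F *ᵥ w := by
      have : P5 g *ᵥ (Eprj F *ᵥ w) = Eprj F *ᵥ w := by rw [hP, Matrix.one_mulVec]
      unfold P5 at this
      rwa [← Matrix.mulVec_mulVec, ← Matrix.mulVec_mulVec] at this
    rw [Einc_Eprj_mulVec w hw] at h3
    rw [← Einc_Eprj_mulVec _ h1, h3, Einc_Eprj_mulVec w hw]
  have hall : ∀ w : Fin 6 → F, L6 g *ᵥ w = w := by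
    intro w
    obtain ⟨c, hc⟩ : ∃ c : F, c = (w 4 - w 1) / 2 := ⟨_, rfl⟩
    have hw : w = (w - c • (wJ : Fin 6 → F)) + c • (wJ : Fin 6 → F) := by abel
    have h1 : (w - c • (wJ : Fin 6 → F)) 1 = (w - c • (wJ : Fin 6 → F)) 4 := by
      simp [wJ, hc]
      field_simp
      ring
    rw [hw, Matrix.mulVec_add, Matrix.mulVec_smul, L6_wJ g hg, hH _ h1]
  ext i j
  have := congrFun (hall (Pi.single j 1)) i
  simpa [Matrix.one_apply, Pi.single_apply, eq_comm] using this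

theorem P5_smul_one (a : F) (ha : a ^ 2 = 1) :
    P5 (a • (1 : Matrix (Fin 4) (Fin 4) F)) = 1 := by
  unfold P5
  rw [L6_smul_one, ha, one_smul, Matrix.mul_one, Eprj_mul_Einc]

/-- index type of the five-dimensional form -/
abbrev I5 : Type := Unit ⊕ (Fin 2 ⊕ Fin 2)

/-- coordinates `(t, x0, x1, y0, y1)` -/
def e5 : I5 ≃ Fin 5 where
  toFun := fun i => match i with
    | .inl _ => 0
    | .inr (.inl 0) => 1
    | .inr (.inl 1) => 2
    | .inr (.inr 0) => 3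
    | .inr (.inr 1) => 4
  invFun := fun i => match i with
    | 0 => .inl ()
    | 1 => .inr (.inl 0)
    | 2 => .inr (.inl 1)
    | 3 => .inr (.inr 0)
    | 4 => .inr (.inr 1)
  left_inv := by
    rintro (⟨⟩ | i | i)
    · rfl
    · fin_cases i <;> rfl
    · fin_cases i <;> rfl
  right_inv := by
    intro i
    fin_cases i <;> rfl

/-- a matrix over `Fin 2 ⊕ Fin 2` in `Fin 4` coordinates -/
def red (A : Matrix I4 I4 F) : Matrix (Fin 4) (Fin 4) F := A.submatrix e4.symm e4.symm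

theorem red_mul (A B : Matrix I4 I4 F) : red (A * B) = red A * red B := by
  unfold red
  rw [Matrix.submatrix_mul_equiv]

theorem red_one : red (1 : Matrix I4 I4 F) = 1 := by
  unfold red
  rw [submatrix_one_equiv]

theorem red_J : red (Matrix.J (Fin 2) F) = J4 := by
  ext i j
  fin_cases i <;> fin_cases j <;> simp [red, Matrix.J, J4, e4, Matrix.fromBlocks]

theorem red_symplectic (A : Matrix I4 I4 F) (hA : A ∈ Matrix.symplecticGroup (Fin 2) F) :
    red A * (J4 : Matrix (Fin 4) (Fin 4) F) * (red A)ᵀ = J4 := by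
  rw [_root_.SymplecticGroup.mem_iff] at hA
  have h := congrArg red hA
  rw [red_mul, red_mul, red_J] at h
  exact h

theorem red_smul_one (a : F) : red (a • (1 : Matrix I4 I4 F)) = a • 1 := by
  ext i j
  simp [red, Matrix.one_apply]

omit [Field F] in
theorem red_injective : Function.Injective (red : Matrix I4 I4 F → Matrix (Fin 4) (Fin 4) F) := by
  intro A B h
  unfold red at h
  have h1 := congrArg (fun A => A.submatrix e4 e4) h
  simpa only [Matrix.submatrix_submatrix, Equiv.symm_comp_self, Matrix.submatrix_id_id] using h1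

/-- the action on the five-dimensional space over `I5` -/
def tauMat (A : Matrix I4 I4 F) : Matrix I5 I5 F := (P5 (red A)).submatrix e5 e5

theorem tauMat_one : tauMat (1 : Matrix I4 I4 F) = 1 := by
  unfold tauMat
  rw [red_one, P5_one, submatrix_one_equiv]

theorem tauMat_mul (A B : Matrix I4 I4 F) (hB : B ∈ Matrix.symplecticGroup (Fin 2) F) :
    tauMat (A * B) = tauMat A * tauMat B := by
  unfold tauMat
  rw [red_mul, P5_mul _ _ (red_symplectic B hB), Matrix.submatrix_mul_equiv]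

theorem odd_eq (v : I5 → F) : oddForm 2 F v = Q5 (v ∘ e5.symm) := by
  rw [oddForm_apply]
  simp [Cfsg.quadFormOdd, e5, Q5, Fin.sum_univ_two]
  ring

theorem tauMat_mulVec (A : Matrix I4 I4 F) (v : I5 → F) :
    (tauMat A *ᵥ v) ∘ e5.symm = P5 (red A) *ᵥ (v ∘ e5.symm) := by
  unfold tauMat
  rw [Matrix.submatrix_mulVec_equiv]
  ext i
  simp

theorem quad_tauMat (A : Matrix I4 I4 F) (hA : A ∈ Matrix.symplecticGroup (Fin 2) F)
    (v : I5 → F) : oddForm 2 F (tauMat A *ᵥ v) = oddForm 2 F v := by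
  rw [odd_eq, odd_eq, tauMat_mulVec, P5_quad _ (red_symplectic A hA)]

/-- `tauMat` as a monoid homomorphism on the symplectic group -/
def tauHom : ↥(Matrix.symplecticGroup (Fin 2) F) →* Matrix I5 I5 F where
  toFun := fun A => tauMat (A : Matrix I4 I4 F)
  map_one' := tauMat_one
  map_mul' := fun A B => tauMat_mul _ _ B.2

/-- the homomorphism `Sp_4(F) → O_5(F)` -/
noncomputable def tau : ↥(Matrix.symplecticGroup (Fin 2) F) →*
    ↥(isometryGroup F ⇑(oddForm 2 F)) :=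
  (tauHom (F := F)).toHomUnits.codRestrict (isometryGroup F ⇑(oddForm 2 F)) (by
    intro A
    rw [mem_isometryGroup_iff]
    intro v
    exact quad_tauMat _ A.2 v)

theorem tau_coe (A : ↥(Matrix.symplecticGroup (Fin 2) F)) :
    (((tau A : ↥(isometryGroup F ⇑(oddForm 2 F))) : Matrix.GeneralLinearGroup I5 F) :
      Matrix I5 I5 F) = tauMat (A : Matrix I4 I4 F) := rfl

theorem tau_eq_one_iff (h2 : (2 : F) ≠ 0) (A : ↥(Matrix.symplecticGroup (Fin 2) F)) :
    tau A = 1 ↔ ∃ a : F, a ^ 2 = 1 ∧ (A : Matrix I4 I4 F) = a • (1 : Matrix I4 I4 F) := by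
  constructor
  · intro h
    have h1 : tauMat (A : Matrix I4 I4 F) = 1 := by
      rw [← tau_coe, h]; rfl
    have h3 : P5 (red (A : Matrix I4 I4 F)) = 1 := by
      unfold tauMat at h1
      have h4 := congrArg (fun A => A.submatrix e5.symm e5.symm) h1
      simpa only [Matrix.submatrix_submatrix, Equiv.self_comp_symm, Matrix.submatrix_id_id,
        submatrix_one_equiv] using h4
    obtain ⟨h5, h6⟩ := scalar_of_L6_eq_one _
      (L6_eq_one_of_P5 h2 _ (red_symplectic _ A.2) h3)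
    refine ⟨_, h6, ?_⟩
    apply red_injective
    rw [red_smul_one]
    exact h5
  · rintro ⟨a, ha, hA⟩
    apply Subtype.ext
    apply Units.ext
    rw [tau_coe, hA]
    unfold tauMat
    rw [red_smul_one, P5_smul_one a ha, submatrix_one_equiv]
    rfl

theorem ker_tau_le_center (h2 : (2 : F) ≠ 0) :
    (tau (F := F)).ker ≤ Subgroup.center ↥(Matrix.symplecticGroup (Fin 2) F) := by
  intro A hA
  rw [MonoidHom.mem_ker, tau_eq_one_iff h2] at hA
  obtain ⟨a, -, hA⟩ := hA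
  rw [Subgroup.mem_center_iff]
  intro B
  apply Subtype.ext
  show (B : Matrix I4 I4 F) * (A : Matrix I4 I4 F) = (A : Matrix I4 I4 F) * (B : Matrix I4 I4 F)
  rw [hA, Matrix.mul_smul, Matrix.smul_mul, Matrix.mul_one, Matrix.one_mul]

end Cfsg.Agent.Lib.Helper5.Sp4Orth
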