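import Mathlib
import Cfsg.Prelude
import Cfsg.Agent.Lib.Helper5.QuadExt
import Cfsg.Agent.Lib.Helper5.Sp4Orth
import Cfsg.Agent.Lib.Helper5.Descent
import Cfsg.Agent.Lib.Helper5.HermSU
import Cfsg.Agent.Lib.Helper5.QuadStd
import Cfsg.Agent.Lib.Helper5.OrthCard

set_option autoImplicit false
open Cfsg

/-! The action of `SU_4(q)` on the fixed points of the twisted Hodge star in the exterior square:
`Ω_6^-(q)`. -/

namespace Cfsg.Agent.Lib.Helper5.SU4Orth

open Matrix Cfsg.Agent.Lib.Helper5.SL4Orth Cfsg.Agent.Lib.Helper5.Sp4Orth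

variable {K : Type*} [Field K]

theorem L6_transpose (g : Matrix (Fin 4) (Fin 4) K) : L6 gᵀ = (L6 g)ᵀ := by
  ext i k
  simp only [L6, Matrix.of_apply, Matrix.transpose_apply]
  ring

theorem L6_map (f : K →+* K) (g : Matrix (Fin 4) (Fin 4) K) : L6 (g.map f) = (L6 g).map f := by
  ext i k
  simp [L6]

theorem B6_sub_right (u x y : Fin 6 → K) : B6 u (x - y) = B6 u x - B6 u y := by
  simp only [B6, Pi.sub_apply]
  ring

theorem eq_zero_of_B6 (x : Fin 6 → K) (h : ∀ u, B6 u x = 0) : x = 0 := by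
  funext k
  fin_cases k
  · have := h (Pi.single 3 1)
    simpa [B6, Pi.single_apply] using this
  · have := h (Pi.single 4 1)
    simpa [B6, Pi.single_apply] using this
  · have := h (Pi.single 5 1)
    simpa [B6, Pi.single_apply] using this
  · have := h (Pi.single 0 1)
    simpa [B6, Pi.single_apply] using this
  · have := h (Pi.single 1 1)
    simpa [B6, Pi.single_apply] using this
  · have := h (Pi.single 2 1)
    simpa [B6, Pi.single_apply] using this

theorem L6_surjective (g : Matrix (Fin 4) (Fin 4) K) (hdet : g.det = 1) (u : Fin 6 → K) :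
    ∃ w, L6 g *ᵥ w = u := by
  refine ⟨L6 g⁻¹ *ᵥ u, ?_⟩
  rw [Matrix.mulVec_mulVec, ← L6_mul, Matrix.mul_nonsing_inv _ (by rw [hdet]; exact isUnit_one),
    L6_one, Matrix.one_mulVec]

end Cfsg.Agent.Lib.Helper5.SU4Orth

namespace Cfsg.Agent.Lib.Helper5.QuadExt.Data

open Matrix Cfsg.Agent.Lib.Helper5.SL4Orth Cfsg.Agent.Lib.Helper5.Sp4Orth
  Cfsg.Agent.Lib.Helper5.SU4Orth Cfsg.Agent.Lib.Helper5.OrthCard

variable {F K : Type*} [Field F] [Fintype F] [Field K] [Fintype K] {q : ℕ} {a b : F}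
  (D : Data F K q a b)

/-- the twisted Hodge star on the exterior square -/
def star6 (w : Fin 6 → K) : Fin 6 → K := fun i => D.frob (w (i + 3))

theorem star6_apply (w : Fin 6 → K) (i : Fin 6) : D.star6 w i = D.frob (w (i + 3)) := rfl

theorem star6_star6 (w : Fin 6 → K) : D.star6 (D.star6 w) = w := by
  funext i
  rw [star6_apply, star6_apply, D.frob_frob]
  congr 1
  fin_cases i <;> rfl

theorem star6_sub (w w' : Fin 6 → K) : D.star6 (w - w') = D.star6 w - D.star6 w' := by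
  funext i
  simp [star6_apply]

theorem star6_smul (c : K) (w : Fin 6 → K) : D.star6 (c • w) = D.frob c • D.star6 w := by
  funext i
  simp [star6_apply]

theorem B6_star6 (w w' : Fin 6 → K) : B6 w (D.star6 w') = w ⬝ᵥ (D.frob ∘ w') := by
  simp only [B6, star6_apply, dotProduct, Fin.sum_univ_six, Function.comp_apply]
  have h1 : ((3 : Fin 6) + 3) = 0 := rfl
  have h2 : ((0 : Fin 6) + 3) = 3 := rfl
  have h3 : ((4 : Fin 6) + 3) = 1 := rfl
  have h4 : ((1 : Fin 6) + 3) = 4 := rfl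
  have h5 : ((5 : Fin 6) + 3) = 2 := rfl
  have h6 : ((2 : Fin 6) + 3) = 5 := rfl
  rw [h1, h2, h3, h4, h5, h6]
  ring

theorem herm6 (G : Matrix (Fin 6) (Fin 6) K) (hG : Gᵀ * G.map D.frob = 1) (w w' : Fin 6 → K) :
    (G *ᵥ w) ⬝ᵥ (D.frob ∘ (G *ᵥ w')) = w ⬝ᵥ (D.frob ∘ w') := by
  have h1 : D.frob ∘ (G *ᵥ w') = G.map D.frob *ᵥ (D.frob ∘ w') := by
    funext i
    exact RingHom.map_mulVec D.frob G w' i
  rw [h1, dotProduct_comm, Matrix.dotProduct_mulVec, ← Matrix.mulVec_transpose, dotProduct_comm,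
    Matrix.mulVec_mulVec, hG, Matrix.one_mulVec]

theorem L6_star6 (g : Matrix (Fin 4) (Fin 4) K) (hdet : g.det = 1)
    (hu : gᵀ * g.map D.frob = 1) (w : Fin 6 → K) :
    L6 g *ᵥ D.star6 w = D.star6 (L6 g *ᵥ w) := by
  have hG : (L6 g)ᵀ * (L6 g).map D.frob = 1 := by
    rw [← L6_transpose, ← L6_map, ← L6_mul, hu, L6_one]
  have hx : D.star6 (L6 g *ᵥ w) - L6 g *ᵥ D.star6 w = 0 := by
    apply eq_zero_of_B6
    intro u
    obtain ⟨w'', rfl⟩ := L6_surjective g hdet u
    rw [B6_sub_right, B6_star6, D.herm6 _ hG, B6_L6, hdet, one_mul, B6_star6, sub_self]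
  exact (sub_eq_zero.mp hx).symm

theorem unitary_of_SU (A : ↥(Cfsg.SU 4 K q)) :
    ((A : Matrix.SpecialLinearGroup (Fin 4) K) : Matrix (Fin 4) (Fin 4) K)ᵀ *
      ((A : Matrix.SpecialLinearGroup (Fin 4) K) : Matrix (Fin 4) (Fin 4) K).map D.frob = 1 := by
  have h := (Cfsg.Agent.Lib.Helper5.HermBlock.mem_GU_iff D.hK
    ((Cfsg.Agent.Lib.Helper5.HermSU.toGU 4 A : ↥(Cfsg.GU 4 K q)) :
      Matrix.GeneralLinearGroup (Fin 4) K)).mp (Cfsg.Agent.Lib.Helper5.HermSU.toGU 4 A).2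
  rw [Cfsg.Agent.Lib.Helper5.HermSU.toGU_coe] at h
  exact h

theorem SU_star6 (A : ↥(Cfsg.SU 4 K q)) (w : Fin 6 → K) :
    L6 ((A : Matrix.SpecialLinearGroup (Fin 4) K) : Matrix (Fin 4) (Fin 4) K) *ᵥ D.star6 w =
      D.star6 (L6 ((A : Matrix.SpecialLinearGroup (Fin 4) K) : Matrix (Fin 4) (Fin 4) K) *ᵥ w) :=
  D.L6_star6 _ A.1.det_coe (D.unitary_of_SU A) w

/-! ### The `F`-form of the six-dimensional space -/

/-- `δ = θ - θ^q` -/
def delta : K := D.θ - D.frob D.θ

theorem delta_eq : D.delta = 2 * D.θ - D.j a := by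
  unfold delta
  rw [frob_theta]
  ring

theorem delta_ne_zero : D.delta ≠ 0 := by
  intro h
  obtain ⟨t, ht⟩ := D.mem_range_of_frob D.θ (by unfold delta at h; linear_combination -h)
  exact D.theta_ne t ht

theorem delta_sq : D.delta ^ 2 = D.j (a ^ 2 - 4 * b) := by
  rw [delta_eq]
  simp only [map_sub, map_mul, map_pow, map_ofNat]
  linear_combination 4 * D.hθ

theorem disc_ne_zero : D.j (a ^ 2 - 4 * b) ≠ 0 := by
  rw [← delta_sq]
  exact pow_ne_zero 2 D.delta_ne_zero

theorem frob_delta : D.frob D.delta = -D.delta := by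
  unfold delta
  rw [map_sub, frob_frob]
  ring

theorem coord_mul (x0 x1 c0 c1 : F) :
    D.coord x0 x1 * D.coord c0 c1 =
      D.coord (x0 * c0 - b * (x1 * c1)) (x0 * c1 + x1 * c0 + a * (x1 * c1)) := by
  unfold coord
  simp only [map_add, map_sub, map_mul]
  linear_combination (D.j x1 * D.j c1) * D.hθ

theorem coord_sub_frob (p r : F) :
    D.coord p r - D.frob (D.coord p r) = D.j r * D.delta := by
  rw [frob_coord, delta_eq]
  unfold coord
  ring

theorem coord_sub (z0 z1 w0 w1 : F) :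
    D.coord (z0 - w0) (z1 - w1) = D.coord z0 z1 - D.coord w0 w1 := by
  simp only [coord, map_sub]
  ring

/-- index type of the six-dimensional minus form -/
abbrev I6m : Type := (Fin 2 ⊕ Fin 2) ⊕ Fin 2

/-- the `A`-part -/
def cA (v : I6m → F) : K := D.coord (v (.inl (.inl 0))) (v (.inl (.inl 1)))

/-- the `C`-part -/
def cC (v : I6m → F) : K :=
  D.coord (v (.inl (.inr 1)) - a * v (.inl (.inr 0))) (v (.inl (.inr 0)))

/-- the anisotropic part -/
def cZ (v : I6m → F) : K := D.coord (v (.inr 0)) (v (.inr 1))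

/-- the first three coordinates -/
def core (η : K) (v : I6m → F) : Fin 3 → K :=
  ![D.cA v + D.frob D.θ * (D.frob (D.cC v) / D.j (a ^ 2 - 4 * b)),
    η * (D.cA v + D.θ * (D.frob (D.cC v) / D.j (a ^ 2 - 4 * b))),
    D.cZ v]

/-- the fixed vector with given first three coordinates -/
def inc6 (u : Fin 3 → K) : Fin 6 → K :=
  ![u 0, u 1, u 2, D.frob (u 0), D.frob (u 1), D.frob (u 2)]

theorem star6_inc6 (u : Fin 3 → K) : D.star6 (D.inc6 u) = D.inc6 u := by
  funext i
  rw [star6_apply]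
  fin_cases i <;> simp [inc6, D.frob_frob]

theorem eq_inc6_of_star6 (w : Fin 6 → K) (hw : D.star6 w = w) :
    w = D.inc6 ![w 0, w 1, w 2] := by
  have h3 := congrFun hw 3
  have h4 := congrFun hw 4
  have h5 := congrFun hw 5
  rw [star6_apply] at h3 h4 h5
  have e3 : ((3 : Fin 6) + 3) = 0 := rfl
  have e4 : ((4 : Fin 6) + 3) = 1 := rfl
  have e5 : ((5 : Fin 6) + 3) = 2 := rfl
  rw [e3] at h3
  rw [e4] at h4
  rw [e5] at h5
  funext i
  fin_cases i <;> simp [inc6, h3, h4, h5]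

theorem cA_add (u v : I6m → F) : D.cA (u + v) = D.cA u + D.cA v := by
  unfold cA
  rw [Pi.add_apply, Pi.add_apply, coord_add]

theorem cC_add (u v : I6m → F) : D.cC (u + v) = D.cC u + D.cC v := by
  unfold cC
  rw [Pi.add_apply, Pi.add_apply, ← coord_add]
  congr 1
  ring

theorem cZ_add (u v : I6m → F) : D.cZ (u + v) = D.cZ u + D.cZ v := by
  unfold cZ
  rw [Pi.add_apply, Pi.add_apply, coord_add]

theorem cA_smul (c : F) (v : I6m → F) : D.cA (c • v) = D.j c * D.cA v := by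
  unfold cA
  rw [Pi.smul_apply, Pi.smul_apply, smul_eq_mul, smul_eq_mul, coord_smul]

theorem cC_smul (c : F) (v : I6m → F) : D.cC (c • v) = D.j c * D.cC v := by
  unfold cC
  rw [Pi.smul_apply, Pi.smul_apply, smul_eq_mul, smul_eq_mul, ← coord_smul]
  congr 1
  ring

theorem cZ_smul (c : F) (v : I6m → F) : D.cZ (c • v) = D.j c * D.cZ v := by
  unfold cZ
  rw [Pi.smul_apply, Pi.smul_apply, smul_eq_mul, smul_eq_mul, coord_smul]

theorem core_add (η : K) (u v : I6m → F) : D.core η (u + v) = D.core η u + D.core η v := by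
  funext i
  fin_cases i <;> simp [core, cA_add, cC_add, cZ_add] <;> ring

theorem core_smul (η : K) (c : F) (v : I6m → F) : D.core η (c • v) = D.j c • D.core η v := by
  funext i
  fin_cases i <;> simp [core, cA_smul, cC_smul, cZ_smul, D.frob_j] <;> ring

theorem inc6_add (u v : Fin 3 → K) : D.inc6 (u + v) = D.inc6 u + D.inc6 v := by
  funext i
  fin_cases i <;> simp [inc6]

theorem inc6_smul (c : F) (u : Fin 3 → K) : D.inc6 (D.j c • u) = D.j c • D.inc6 u := by
  funext i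
  fin_cases i <;> simp [inc6, D.frob_j]

theorem inc6_injective : Function.Injective D.inc6 := by
  intro u v h
  funext i
  fin_cases i
  · have := congrFun h 0
    simpa [inc6] using this
  · have := congrFun h 1
    simpa [inc6] using this
  · have := congrFun h 2
    simpa [inc6] using this

theorem coord_eq_zero_iff (z0 z1 : F) : D.coord z0 z1 = 0 ↔ z0 = 0 ∧ z1 = 0 := by
  constructor
  · exact D.coord_eq_zero z0 z1
  · rintro ⟨rfl, rfl⟩
    simp [coord]

theorem core_eq_zero (η : K) (hη : η ≠ 0) (v : I6m → F) (h : D.core η v = 0) : v = 0 := by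
  have h0 := congrFun h 0
  have h1 := congrFun h 1
  have h2 := congrFun h 2
  simp only [core, Matrix.cons_val_zero, Matrix.cons_val_one, Matrix.cons_val, Pi.zero_apply]
    at h0 h1 h2
  have h1' : D.cA v + D.θ * (D.frob (D.cC v) / D.j (a ^ 2 - 4 * b)) = 0 := by
    rcases mul_eq_zero.mp h1 with h | h
    · exact absurd h hη
    · exact h
  have h3 : D.delta * (D.frob (D.cC v) / D.j (a ^ 2 - 4 * b)) = 0 := by
    unfold delta
    linear_combination h1' - h0
  have h4 : D.frob (D.cC v) = 0 := by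
    rcases mul_eq_zero.mp h3 with h | h
    · exact absurd h D.delta_ne_zero
    · rcases div_eq_zero_iff.mp h with h | h
      · exact h
      · exact absurd h D.disc_ne_zero
  have h5 : D.cC v = 0 := D.frob.injective (by rw [h4, map_zero])
  have h6 : D.cA v = 0 := by
    rw [h4] at h0
    simpa using h0
  unfold cC at h5
  unfold cA at h6
  unfold cZ at h2
  rw [coord_eq_zero_iff] at h5 h6 h2
  obtain ⟨h5a, h5b⟩ := h5
  rw [h5b, mul_zero, sub_zero] at h5a
  funext i
  rcases i with (i | i) | i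
  · fin_cases i
    · exact h6.1
    · exact h6.2
  · fin_cases i
    · exact h5b
    · exact h5a
  · fin_cases i
    · exact h2.1
    · exact h2.2

theorem core_injective (η : K) (hη : η ≠ 0) : Function.Injective (D.core η) := by
  intro u v h
  have h1 : D.core η (u - v) = 0 := by
    have h2 := D.core_add η (u - v) v
    rw [sub_add_cancel, h] at h2
    exact (add_eq_right.mp h2.symm)
  exact sub_eq_zero.mp (D.core_eq_zero η hη _ h1)

theorem core_bijective (η : K) (hη : η ≠ 0) : Function.Bijective (D.core η) := by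
  rw [Fintype.bijective_iff_injective_and_card]
  refine ⟨D.core_injective η hη, ?_⟩
  simp only [Fintype.card_pi, Finset.prod_const, Finset.card_univ, Fintype.card_sum,
    Fintype.card_fin, D.hF, D.hK]
  ring

/-- the `F`-form embedding -/
def emb (η : K) (v : I6m → F) : Fin 6 → K := D.inc6 (D.core η v)

theorem emb_add (η : K) (u v : I6m → F) : D.emb η (u + v) = D.emb η u + D.emb η v := by
  unfold emb
  rw [core_add, inc6_add]

theorem emb_smul (η : K) (c : F) (v : I6m → F) : D.emb η (c • v) = D.j c • D.emb η v := by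
  unfold emb
  rw [core_smul, inc6_smul]

theorem emb_injective (η : K) (hη : η ≠ 0) : Function.Injective (D.emb η) := by
  intro u v h
  exact D.core_injective η hη (D.inc6_injective h)

theorem star6_emb (η : K) (v : I6m → F) : D.star6 (D.emb η v) = D.emb η v :=
  D.star6_inc6 _

theorem exists_emb (η : K) (hη : η ≠ 0) (w : Fin 6 → K) (hw : D.star6 w = w) :
    ∃ v, D.emb η v = w := by
  obtain ⟨v, hv⟩ := (D.core_bijective η hη).2 ![w 0, w 1, w 2]
  refine ⟨v, ?_⟩
  unfold emb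
  rw [hv]
  exact (D.eq_inc6_of_star6 w hw).symm

theorem Q6_inc6 (u : Fin 3 → K) :
    Q6 (D.inc6 u) = u 0 * D.frob (u 0) + u 1 * D.frob (u 1) + u 2 * D.frob (u 2) := by
  simp [Q6, inc6]

theorem hyp_part (η : K) (hη : η * D.frob η = -1) (v : I6m → F) :
    D.core η v 0 * D.frob (D.core η v 0) + D.core η v 1 * D.frob (D.core η v 1) =
      D.j (v (.inl (.inl 0)) * v (.inl (.inr 0)) + v (.inl (.inl 1)) * v (.inl (.inr 1))) := by
  obtain ⟨Δ, hΔ⟩ : ∃ Δ : K, Δ = D.j (a ^ 2 - 4 * b) := ⟨_, rfl⟩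
  have hΔ0 : Δ ≠ 0 := by rw [hΔ]; exact D.disc_ne_zero
  have hfΔ : D.frob Δ = Δ := by rw [hΔ, D.frob_j]
  have h1 : D.core η v 0 * D.frob (D.core η v 0) + D.core η v 1 * D.frob (D.core η v 1) =
      D.delta * (D.cA v * D.cC v - D.frob (D.cA v) * D.frob (D.cC v)) / Δ := by
    simp only [core, Matrix.cons_val_zero, Matrix.cons_val_one, ← hΔ, map_add, map_mul, map_div₀,
      D.frob_frob, hfΔ]
    unfold delta
    field_simp
    linear_combination (D.frob (D.cA v) * Δ + D.frob D.θ * D.cC v) *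
      (D.cA v * Δ + D.θ * D.frob (D.cC v)) * hη
  rw [h1]
  have h2 : D.cA v * D.cC v - D.frob (D.cA v) * D.frob (D.cC v) =
      D.j (v (.inl (.inl 0)) * v (.inl (.inr 0)) + v (.inl (.inl 1)) * v (.inl (.inr 1))) *
        D.delta := by
    rw [← map_mul]
    unfold cA cC
    rw [coord_mul, coord_sub_frob]
    congr 2
    ring
  rw [h2]
  have h3 : D.delta * D.delta = Δ := by rw [hΔ, ← delta_sq, sq]
  field_simp
  linear_combination (D.j (v (.inl (.inl 0)) * v (.inl (.inr 0)) +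
    v (.inl (.inl 1)) * v (.inl (.inr 1)))) * h3

theorem Q6_emb (η : K) (hη : η * D.frob η = -1) (v : I6m → F) :
    Q6 (D.emb η v) = D.j (Cfsg.quadFormMinus 2 F a b v) := by
  unfold emb
  rw [Q6_inc6, hyp_part D η hη]
  have h := D.norm_coord (v (.inr 0)) (v (.inr 1))
  have h2 : D.core η v 2 = D.coord (v (.inr 0)) (v (.inr 1)) := rfl
  rw [h2, h]
  simp only [Cfsg.quadFormMinus, Fin.sum_univ_two, map_add]

theorem exists_eta : ∃ η : K, η * D.frob η = -1 := by
  obtain ⟨l, hl⟩ := Cfsg.Agent.Lib.Helper5.HermCount.exists_norm_eq D.hK (-1 : K)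
    (by simp) (Cfsg.Agent.Lib.Helper5.Herm.pow_q_neg_one D.hK)
  refine ⟨l, ?_⟩
  rw [frob_apply, ← pow_succ', hl]

/-- the exterior square representation of `SU_4` -/
def phi6 : ↥(Cfsg.SU 4 K q) →* Matrix (Fin 6) (Fin 6) K where
  toFun A := L6 ((A : Matrix.SpecialLinearGroup (Fin 4) K) : Matrix (Fin 4) (Fin 4) K)
  map_one' := L6_one
  map_mul' A B := L6_mul _ _

omit [Fintype F] [Fintype K] in
theorem phi6_apply (A : ↥(Cfsg.SU 4 K q)) :
    phi6 (K := K) (q := q) A =
      L6 ((A : Matrix.SpecialLinearGroup (Fin 4) K) : Matrix (Fin 4) (Fin 4) K) := rfl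

theorem stab_emb (η : K) (hη : η ≠ 0) (A : ↥(Cfsg.SU 4 K q)) (v : I6m → F) :
    ∃ v', D.emb η v' = phi6 A *ᵥ D.emb η v := by
  apply D.exists_emb η hη
  rw [phi6_apply, ← SU_star6, star6_emb]

/-- the descended representation on `F^6` -/
noncomputable def rho6 (η : K) (hη : η ≠ 0) : ↥(Cfsg.SU 4 K q) →* Matrix I6m I6m F :=
  Cfsg.Agent.Lib.Helper5.Descent.descHom D.j (D.emb η) (D.emb_add η) (D.emb_smul η)
    (D.emb_injective η hη) phi6 (D.stab_emb η hη)

theorem emb_rho6 (η : K) (hη : η ≠ 0) (A : ↥(Cfsg.SU 4 K q)) (v : I6m → F) :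
    D.emb η (D.rho6 η hη A *ᵥ v) = phi6 A *ᵥ D.emb η v :=
  Cfsg.Agent.Lib.Helper5.Descent.E_descHom D.j (D.emb η) (D.emb_add η) (D.emb_smul η)
    (D.emb_injective η hη) phi6 (D.stab_emb η hη) A v

theorem quad_rho6 (η : K) (hη : η * D.frob η = -1) (hη0 : η ≠ 0) (A : ↥(Cfsg.SU 4 K q))
    (v : I6m → F) :
    Cfsg.quadFormMinus 2 F a b (D.rho6 η hη0 A *ᵥ v) = Cfsg.quadFormMinus 2 F a b v := by
  apply D.j_injective
  rw [← Q6_emb D η hη, ← Q6_emb D η hη, emb_rho6, phi6_apply, Q6_L6, A.1.det_coe, one_mul]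

/-- the homomorphism `SU_4(q) → O_6^-(q)` -/
noncomputable def tau6 (η : K) (hη : η * D.frob η = -1) (hη0 : η ≠ 0) : ↥(Cfsg.SU 4 K q) →*
    ↥(isometryGroup F ⇑(minusForm 2 F a b)) :=
  (D.rho6 η hη0).toHomUnits.codRestrict (isometryGroup F ⇑(minusForm 2 F a b)) (by
    intro A
    rw [mem_isometryGroup_iff]
    intro v
    rw [coe_minusForm]
    exact D.quad_rho6 η hη hη0 A v)

theorem tau6_coe (η : K) (hη : η * D.frob η = -1) (hη0 : η ≠ 0) (A : ↥(Cfsg.SU 4 K q)) :
    (((D.tau6 η hη hη0 A : ↥(isometryGroup F ⇑(minusForm 2 F a b))) :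
      Matrix.GeneralLinearGroup I6m F) : Matrix I6m I6m F) = D.rho6 η hη0 A := rfl

theorem L6_eq_one_of_fix (G : Matrix (Fin 6) (Fin 6) K)
    (h : ∀ w : Fin 6 → K, D.star6 w = w → G *ᵥ w = w) : G = 1 := by
  have hall : ∀ w : Fin 6 → K, G *ᵥ w = w := by
    intro w
    obtain ⟨w2, hw2⟩ : ∃ w2 : Fin 6 → K, w2 = D.delta⁻¹ • (w - D.star6 w) := ⟨_, rfl⟩
    have h2 : D.star6 w2 = w2 := by
      rw [hw2, star6_smul, star6_sub, star6_star6, map_inv₀, frob_delta]
      rw [inv_neg, neg_smul, ← smul_neg, neg_sub]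
    obtain ⟨w1, hw1⟩ : ∃ w1 : Fin 6 → K, w1 = w - D.θ • w2 := ⟨_, rfl⟩
    have hd : D.delta • w2 = w - D.star6 w := by
      rw [hw2, smul_smul, mul_inv_cancel₀ D.delta_ne_zero, one_smul]
    have h1 : D.star6 w1 = w1 := by
      rw [hw1, star6_sub, star6_smul, h2]
      have : D.frob D.θ = D.θ - D.delta := by unfold delta; ring
      rw [this, sub_smul, hd]
      abel
    have hw : w = w1 + D.θ • w2 := by rw [hw1]; abel
    rw [hw, Matrix.mulVec_add, Matrix.mulVec_smul, h _ h1, h _ h2]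
  ext i k
  have := congrFun (hall (Pi.single k 1)) i
  simpa [Matrix.one_apply, Pi.single_apply, eq_comm] using this

theorem tau6_eq_one (η : K) (hη : η * D.frob η = -1) (hη0 : η ≠ 0) (A : ↥(Cfsg.SU 4 K q))
    (h : D.tau6 η hη hη0 A = 1) :
    ((A : Matrix.SpecialLinearGroup (Fin 4) K) : Matrix (Fin 4) (Fin 4) K) =
      ((A : Matrix.SpecialLinearGroup (Fin 4) K) : Matrix (Fin 4) (Fin 4) K) 0 0 • 1 ∧
      ((A : Matrix.SpecialLinearGroup (Fin 4) K) : Matrix (Fin 4) (Fin 4) K) 0 0 ^ 2 = 1 := by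
  have h1 : D.rho6 η hη0 A = 1 := by
    rw [← tau6_coe D η hη hη0, h]; rfl
  have h2 : ∀ v, phi6 A *ᵥ D.emb η v = D.emb η v :=
    Cfsg.Agent.Lib.Helper5.Descent.fix_of_descHom_eq_one D.j (D.emb η) (D.emb_add η)
      (D.emb_smul η) (D.emb_injective η hη0) phi6 (D.stab_emb η hη0) A h1
  have h3 : phi6 (K := K) (q := q) A = 1 := by
    apply D.L6_eq_one_of_fix
    intro w hw
    obtain ⟨v, rfl⟩ := D.exists_emb η hη0 w hw
    exact h2 v
  rw [phi6_apply] at h3
  exact scalar_of_L6_eq_one _ h3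

theorem ker_tau6_le_center (η : K) (hη : η * D.frob η = -1) (hη0 : η ≠ 0) :
    (D.tau6 η hη hη0).ker ≤ Subgroup.center ↥(Cfsg.SU 4 K q) := by
  intro M hM
  rw [MonoidHom.mem_ker] at hM
  obtain ⟨h1, -⟩ := D.tau6_eq_one η hη hη0 M hM
  rw [Subgroup.mem_center_iff]
  intro N
  apply Subtype.ext
  apply Subtype.ext
  show ((N : Matrix.SpecialLinearGroup (Fin 4) K) : Matrix (Fin 4) (Fin 4) K) *
      ((M : Matrix.SpecialLinearGroup (Fin 4) K) : Matrix (Fin 4) (Fin 4) K) =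
    ((M : Matrix.SpecialLinearGroup (Fin 4) K) : Matrix (Fin 4) (Fin 4) K) *
      ((N : Matrix.SpecialLinearGroup (Fin 4) K) : Matrix (Fin 4) (Fin 4) K)
  rw [h1, Matrix.mul_smul, Matrix.smul_mul, Matrix.mul_one, Matrix.one_mul]

end Cfsg.Agent.Lib.Helper5.QuadExt.Data
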