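import Mathlib
import Cfsg.Prelude
import Cfsg.Agent.Lib.Helper5.SU4Orth
import Cfsg.Agent.Lib.Helper5.HermOrth2
import Cfsg.Agent.Lib.Helper5.HermSimple
import Cfsg.Agent.Lib.Helper5.HermCard
import Cfsg.Agent.Lib.Helper5.SL4Orth2
import Cfsg.Agent.Lib.Helper5.SpinorNorm
import Cfsg.Agent.Lib.Helper5.PerfectCentral
import Cfsg.Agent.Lib.Helper5.OrthPlane
import Cfsg.Agent.S0288

set_option autoImplicit false
open Cfsg

namespace Cfsg.Agent.Lib.Helper5.QuadExt.Data

open Matrix QuadraticMap Cfsg.Agent.Lib.Helper5.OrthCard Cfsg.Agent.Lib.Helper5.OrthPlane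
  Cfsg.Agent.Lib.Helper5.SL2SL2Orth Cfsg.Agent.Lib.Helper5.SL4Orth

variable {F K : Type*} [Field F] [Fintype F] [Field K] [Fintype K] {q : ℕ} {a b : F}
  (D : Data F K q a b)

theorem card_ker_tau6_le (η : K) (hη : η * D.frob η = -1) (hη0 : η ≠ 0) :
    Nat.card ↥(D.tau6 η hη hη0).ker ≤ Nat.gcd 2 (Fintype.card K - 1) := by
  rw [← card_sq_eq_one]
  apply Nat.card_le_card_of_injective
    (fun g : ↥(D.tau6 η hη hη0).ker =>
      (⟨(((g : ↥(Cfsg.SU 4 K q)) : Matrix.SpecialLinearGroup (Fin 4) K) :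
          Matrix (Fin 4) (Fin 4) K) 0 0,
        (D.tau6_eq_one η hη hη0 g.1 (MonoidHom.mem_ker.mp g.2)).2⟩ : {x : K // x ^ 2 = 1}))
  intro g g' hgg
  have h1 : (((g : ↥(Cfsg.SU 4 K q)) : Matrix.SpecialLinearGroup (Fin 4) K) :
      Matrix (Fin 4) (Fin 4) K) 0 0 =
      (((g' : ↥(Cfsg.SU 4 K q)) : Matrix.SpecialLinearGroup (Fin 4) K) :
      Matrix (Fin 4) (Fin 4) K) 0 0 :=
    congrArg Subtype.val hgg
  have h2 := (D.tau6_eq_one η hη hη0 g.1 (MonoidHom.mem_ker.mp g.2)).1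
  have h3 := (D.tau6_eq_one η hη hη0 g'.1 (MonoidHom.mem_ker.mp g'.2)).1
  apply Subtype.ext
  apply Subtype.ext
  apply Subtype.ext
  rw [h2, h3, h1]

include D in
theorem SU4_perfect : commutator ↥(Cfsg.SU 4 K q) = ⊤ :=
  Cfsg.Agent.Lib.Helper5.HermSimple.perfect D.hK 4 (by norm_num) (by omega)

include D in
theorem card_SU4 :
    Nat.card ↥(Cfsg.SU 4 K q) = q ^ 6 * ((q ^ 2 - 1) * (q ^ 3 + 1) * (q ^ 4 - 1)) := by
  have h1 := Cfsg.Agent.Lib.Helper5.HermCard.card_SU D.hK 4 (by norm_num)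
  rw [Cfsg.Agent.Lib.Helper5.HermCard.card_GU D.hK 4] at h1
  simp [Finset.prod_range_succ] at h1
  have h2 : ¬ Even 3 := by decide
  have h3 : Even 2 := by decide
  simp only [h2, h3, if_true, if_false] at h1
  have hpos : 0 < q + 1 := by omega
  apply Nat.eq_of_mul_eq_mul_left hpos
  rw [h1]
  ring

include D in
theorem card_O6m :
    Nat.card ↥(isometryGroup F ⇑(minusForm 2 F a b)) = 2 * Nat.card ↥(Cfsg.SU 4 K q) := by
  have := Cfsg.Agent.S0288.result (F := F) D.hF 3 (by norm_num) a b D.hab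
  rw [coe_minusForm, D.card_SU4]
  have h1 : (3 : ℕ) - 1 = 2 := rfl
  rw [h1] at this
  rw [this]
  simp [Finset.prod_range_succ]
  ring

include D in
theorem minus2_nondegenerate : (polarBilin (minusForm 2 F a b)).Nondegenerate := by
  have h := genForm_nondegenerate _ (binForm_nondegenerate a b (anisotropic_of a b D.hab)) 2
  have h2 : minusForm 2 F a b = genForm (binForm a b) 2 := by
    apply DFunLike.coe_injective
    rw [coe_minusForm, Cfsg.Agent.S0288.minus_eq]
  rw [h2]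
  exact h

theorem range_tau6 (η : K) (hη : η * D.frob η = -1) (hη0 : η ≠ 0) :
    (D.tau6 η hη hη0).range = commutator ↥(isometryGroup F ⇑(minusForm 2 F a b)) := by
  have : Finite ↥(isometryGroup F ⇑(minusForm 2 F a b)) := inferInstance
  apply Cfsg.Agent.Lib.Helper5.Descent.range_eq_commutator _ D.SU4_perfect D.card_O6m
  have hk := D.card_ker_tau6_le η hη hη0
  rw [gcd_two _ Fintype.card_pos, D.hK] at hk
  by_cases h2 : (2 : F) = 0
  · left
    have he : Even q := by
      rw [← D.hF]; exact two_eq_zero_iff_even.mp h2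
    have he2 : Even (q ^ 2) := by
      rw [Nat.even_pow]; exact ⟨he, by norm_num⟩
    rw [if_pos he2] at hk
    exact hk
  · right
    constructor
    · split_ifs at hk <;> omega
    · have hn : 2 ≤ Fintype.card I6m := by
        simp only [Fintype.card_sum, Fintype.card_fin]; omega
      exact Cfsg.Agent.Lib.Helper5.SpinorNorm.index_commutator (minusForm 2 F a b) h2
        D.minus2_nondegenerate hn

include D in
/-- `PΩ_6^-(q) ≅ PSU_4(q)` -/
theorem nonempty_mulEquiv6 :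
    Nonempty (Cfsg.POmega F ⇑(minusForm 2 F a b) ≃* Cfsg.PSU 4 K q) := by
  obtain ⟨η, hη⟩ := D.exists_eta
  have hη0 : η ≠ 0 := by
    rintro rfl
    rw [zero_mul] at hη
    exact absurd hη (by norm_num)
  let f : ↥(Cfsg.SU 4 K q) →*
      ↥(commutator ↥(isometryGroup F ⇑(minusForm 2 F a b))) :=
    (D.tau6 η hη hη0).codRestrict _
      (Cfsg.Agent.Lib.Helper5.Descent.map_mem_commutator _ D.SU4_perfect)
  have hf : Function.Surjective f := by
    rintro ⟨x, hx⟩
    rw [← D.range_tau6 η hη hη0] at hx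
    obtain ⟨p, hp⟩ := hx
    exact ⟨p, Subtype.ext hp⟩
  have hker : f.ker ≤ Subgroup.center ↥(Cfsg.SU 4 K q) := by
    intro g hg
    apply D.ker_tau6_le_center η hη hη0
    rw [MonoidHom.mem_ker] at hg ⊢
    exact congrArg Subtype.val hg
  exact Cfsg.Agent.Lib.Helper5.PerfectCentral.nonempty_quotient_center_equiv D.SU4_perfect f hf
    hker

end Cfsg.Agent.Lib.Helper5.QuadExt.Data
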