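/-
Farm SW (S3211), unit C: the lower bound `Setting.lower` for the number of square roots of `j`
commuting with the involution `a * b`.
-/
import Mathlib
import Cfsg.Agent.Lib.Lead.SWDefs

set_option autoImplicit false
set_option linter.unusedVariables false
set_option linter.unusedSectionVars false
set_option linter.style.longLine false

namespace Cfsg.Agent.Lib.Helper5.SWLower

open Cfsg.Agent.Lib.Lead.SWD

variable {G : Type*} [Group G]

/-- a map all of whose fibres lie in `{d, σ d}` has a domain of size at most twice the codomain -/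
theorem card_le_two_mul {A B : Type*} [Finite A] [Finite B] (f : A → B) (σ : A → A)
    (h : ∀ d d', f d = f d' → d' = d ∨ d' = σ d) : Nat.card A ≤ 2 * Nat.card B := by
  classical
  have := Fintype.ofFinite A
  have := Fintype.ofFinite B
  rw [Nat.card_eq_fintype_card, Nat.card_eq_fintype_card]
  calc Fintype.card A = (Finset.univ : Finset A).card := rfl
    _ ≤ 2 * ((Finset.univ : Finset A).image f).card := by
        apply Finset.card_le_mul_card_image
        intro r hr
        obtain ⟨d, -, rfl⟩ := Finset.mem_image.mp hr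
        calc _ ≤ ({d, σ d} : Finset A).card := by
              apply Finset.card_le_card
              intro d' hd'
              simp only [Finset.mem_filter, Finset.mem_univ, true_and] at hd'
              rcases h d d' hd'.symm with h1 | h1 <;> simp [h1]
          _ ≤ 2 := Finset.card_le_two
    _ ≤ 2 * Fintype.card B := by
        apply Nat.mul_le_mul_left
        exact Finset.card_le_univ _

section basics

variable {L₁ L₂ : Subgroup G} {j n : G}

theorem j_mul_j (S : Setting L₁ L₂ j n) : j * j = 1 := by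
  have h := pow_orderOf_eq_one j
  rw [S.hj, pow_two] at h
  exact h

theorem j_ne_one (S : Setting L₁ L₂ j n) : j ≠ 1 := by
  intro h
  have := S.hj
  rw [h, orderOf_one] at this
  omega

theorem j_inv (S : Setting L₁ L₂ j n) : j⁻¹ = j :=
  inv_eq_of_mul_eq_one_left (j_mul_j S)

theorem mem_zp (S : Setting L₁ L₂ j n) (x : G) : x ∈ Subgroup.zpowers j ↔ x = 1 ∨ x = j := by
  constructor
  · intro hx
    obtain ⟨k, rfl⟩ := Subgroup.mem_zpowers_iff.mp hx
    rw [← zpow_mod_orderOf, S.hj]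
    have h1 : 0 ≤ k % 2 := Int.emod_nonneg _ (by norm_num)
    have h2 : k % 2 < 2 := Int.emod_lt_of_pos _ (by norm_num)
    have h3 : k % 2 = 0 ∨ k % 2 = 1 := by omega
    rcases h3 with h3 | h3
    · left; rw [show ((k % ((2 : ℕ) : ℤ)) : ℤ) = 0 from h3, zpow_zero]
    · right; rw [show ((k % ((2 : ℕ) : ℤ)) : ℤ) = 1 from h3, zpow_one]
  · rintro (h | h)
    · rw [h]; exact Subgroup.one_mem _
    · rw [h]; exact Subgroup.mem_zpowers j

theorem mem_inf (S : Setting L₁ L₂ j n) (x : G) : x ∈ L₁ ⊓ L₂ ↔ x = 1 ∨ x = j := by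
  rw [S.hm]; exact mem_zp S x

theorem inf_cases (S : Setting L₁ L₂ j n) {x : G} (h1 : x ∈ L₁) (h2 : x ∈ L₂) : x = 1 ∨ x = j :=
  (mem_inf S x).mp ⟨h1, h2⟩

theorem j_mem1 (S : Setting L₁ L₂ j n) : j ∈ L₁ := S.q1.j_mem

theorem j_mem2 (S : Setting L₁ L₂ j n) : j ∈ L₂ :=
  ((mem_inf S j).mpr (Or.inr rfl)).2

/-- elements of `L₁` commute with `j` -/
theorem comm_j1 (S : Setting L₁ L₂ j n) {x : G} (hx : x ∈ L₁) : x * j = j * x := by
  have h : x ∈ Subgroup.centralizer ({j} : Set G) := S.hle (Subgroup.mem_sup_left hx)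
  exact (Subgroup.mem_centralizer_iff.mp h j rfl).symm

theorem comm_j2 (S : Setting L₁ L₂ j n) {x : G} (hx : x ∈ L₂) : x * j = j * x := by
  have h : x ∈ Subgroup.centralizer ({j} : Set G) := S.hle (Subgroup.mem_sup_right hx)
  exact (Subgroup.mem_centralizer_iff.mp h j rfl).symm

theorem comm_jn (S : Setting L₁ L₂ j n) : n * j = j * n :=
  (Subgroup.mem_centralizer_iff.mp S.hn j rfl).symm

theorem n_mul_n (S : Setting L₁ L₂ j n) : n * n = j := by
  rw [← pow_two]; exact S.hn2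

theorem n_inv (S : Setting L₁ L₂ j n) : n⁻¹ = n * j := by
  apply inv_eq_of_mul_eq_one_right
  rw [← mul_assoc, n_mul_n S, j_mul_j S]

/-- `n` carries `L₁` into `L₂` -/
theorem conj_mem2 (S : Setting L₁ L₂ j n) {x : G} (hx : x ∈ L₁) : n * x * n⁻¹ ∈ L₂ := by
  rw [← S.hswap]
  exact ⟨x, hx, rfl⟩

/-- `n` carries `L₂` into `L₁` -/
theorem conj_mem1 (S : Setting L₁ L₂ j n) {y : G} (hy : y ∈ L₂) : n * y * n⁻¹ ∈ L₁ := by
  rw [← S.hswap] at hy
  obtain ⟨x, hx, rfl⟩ := hy
  have h : n * (MulAut.conj n).toMonoidHom x * n⁻¹ = x := by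
    simp only [MulEquiv.coe_toMonoidHom, MulAut.conj_apply]
    have e1 : n * (n * x * n⁻¹) * n⁻¹ = (n * n) * x * (n * n)⁻¹ := by group
    rw [e1, n_mul_n S, j_inv S, ← comm_j1 S hx, mul_assoc, j_mul_j S, mul_one]
  rw [h]; exact hx

/-- `n⁻¹` also carries `L₁` into `L₂` -/
theorem conj_inv_mem2 (S : Setting L₁ L₂ j n) {x : G} (hx : x ∈ L₁) : n⁻¹ * x * n ∈ L₂ := by
  have h : n⁻¹ * x * n = n * x * n⁻¹ := by
    have e : n = n⁻¹ * j := by
      rw [n_inv S, mul_assoc, j_mul_j S, mul_one]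
    calc n⁻¹ * x * n = n * j * x * (n⁻¹ * j) := by rw [← n_inv S, ← e]
      _ = n * x * n⁻¹ * (j * j) := by
          have c1 := comm_j1 S hx
          have c2 : n⁻¹ * j = j * n⁻¹ := by
            rw [n_inv S, mul_assoc, j_mul_j S, ← mul_assoc, ← comm_jn S, mul_assoc, j_mul_j S]
          calc n * j * x * (n⁻¹ * j) = n * (j * x) * (n⁻¹ * j) := by group
            _ = n * (x * j) * (j * n⁻¹) := by rw [c1, c2]
            _ = n * x * (j * j) * n⁻¹ := by group
            _ = n * x * n⁻¹ := by rw [j_mul_j S, mul_one]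
            _ = n * x * n⁻¹ * (j * j) := by rw [j_mul_j S, mul_one]
      _ = n * x * n⁻¹ := by rw [j_mul_j S, mul_one]
  rw [h]; exact conj_mem2 S hx

/-- `n` normalises neither factor: it is not in `L₁ ⊔ L₂` as soon as `L₁` has an element of order 4 -/
theorem n_not_mem (S : Setting L₁ L₂ j n) {a : G} (ha : a ∈ L₁) (ha2 : a ^ 2 = j) :
    n ∉ L₁ ⊔ L₂ := by
  intro hn
  have hle : L₁ ⊔ L₂ ≤ Subgroup.normalizer (L₁ : Set G) := by
    apply sup_le
    · exact Subgroup.le_normalizer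
    · intro y hy
      rw [Subgroup.mem_normalizer_iff]
      intro x
      have key : ∀ x ∈ L₁, y * x * y⁻¹ = x := by
        intro x hx
        rw [← S.hc x hx y hy, mul_assoc, mul_inv_cancel, mul_one]
      constructor
      · intro hx; rw [key x hx]; exact hx
      · intro hx
        have hx' : y⁻¹ * (y * x * y⁻¹) * y = x := by group
        have h2 := key _ hx
        have h3 : y⁻¹ * (y * x * y⁻¹) * y = y * x * y⁻¹ := by
          have := S.hc _ hx y hy
          calc y⁻¹ * (y * x * y⁻¹) * y = y⁻¹ * ((y * x * y⁻¹) * y) := by group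
            _ = y⁻¹ * (y * (y * x * y⁻¹)) := by rw [this]
            _ = y * x * y⁻¹ := by group
        rw [← hx', h3]; exact hx
  have hn' := hle hn
  rw [Subgroup.mem_normalizer_iff] at hn'
  have ha' : n * a * n⁻¹ ∈ L₁ := (hn' a).mp ha
  have ha'' : n * a * n⁻¹ ∈ L₂ := conj_mem2 S ha
  have hsq : (n * a * n⁻¹) ^ 2 = j := by
    rw [pow_two]
    have : n * a * n⁻¹ * (n * a * n⁻¹) = n * (a * a) * n⁻¹ := by group
    rw [this, ← pow_two, ha2, comm_jn S, mul_assoc, mul_inv_cancel, mul_one]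
  rcases inf_cases S ha' ha'' with h | h
  · rw [h, one_pow] at hsq; exact j_ne_one S hsq.symm
  · rw [h, pow_two, j_mul_j S] at hsq; exact j_ne_one S hsq.symm

end basics

section main

variable {L₁ L₂ : Subgroup G} {j n : G}

/-- `1` or `j` -/
def jp (j : G) (γ : Bool) : G := if γ then j else 1

theorem jp_mem (S : Setting L₁ L₂ j n) (γ : Bool) : jp j γ ∈ L₁ ⊓ L₂ := by
  cases γ
  · exact Subgroup.one_mem _
  · exact ⟨j_mem1 S, j_mem2 S⟩

theorem jp_sq (S : Setting L₁ L₂ j n) (γ : Bool) : jp j γ * jp j γ = 1 := by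
  cases γ
  · simp [jp]
  · simpa [jp] using j_mul_j S

theorem jp_inv (S : Setting L₁ L₂ j n) (γ : Bool) : (jp j γ)⁻¹ = jp j γ :=
  inv_eq_of_mul_eq_one_left (jp_sq S γ)

theorem jp_inj (S : Setting L₁ L₂ j n) {γ γ' : Bool} (h : jp j γ = jp j γ') : γ = γ' := by
  cases γ <;> cases γ' <;> simp [jp] at h ⊢
  · exact j_ne_one S h.symm
  · exact j_ne_one S h

theorem jp_comm1 (S : Setting L₁ L₂ j n) (γ : Bool) {x : G} (hx : x ∈ L₁) :
    x * jp j γ = jp j γ * x := by
  cases γ
  · simp [jp]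
  · simpa [jp] using comm_j1 S hx

theorem jp_comm2 (S : Setting L₁ L₂ j n) (γ : Bool) {x : G} (hx : x ∈ L₂) :
    x * jp j γ = jp j γ * x := by
  cases γ
  · simp [jp]
  · simpa [jp] using comm_j2 S hx

theorem jp_commn (S : Setting L₁ L₂ j n) (γ : Bool) : n * jp j γ = jp j γ * n := by
  cases γ
  · simp [jp]
  · simpa [jp] using comm_jn S

/-- the key rigidity: `y n y⁻¹ ∈ {n, n j}` with `y ∈ L₁` forces `y ∈ {1, j}` and `y n y⁻¹ = n` -/
theorem key (S : Setting L₁ L₂ j n) {y : G} (hy : y ∈ L₁) {γ γ' : Bool}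
    (h : y * n * y⁻¹ * jp j γ = n * jp j γ') : γ = γ' ∧ (y = 1 ∨ y = j) := by
  set ε := jp j γ' * jp j γ with hε
  have h1 : y * n * y⁻¹ = n * ε := by
    calc y * n * y⁻¹ = y * n * y⁻¹ * (jp j γ * jp j γ) := by rw [jp_sq S, mul_one]
      _ = (y * n * y⁻¹ * jp j γ) * jp j γ := by group
      _ = n * ε := by rw [h, hε]; group
  have h2 : n⁻¹ * y * n = ε * y := by
    calc n⁻¹ * y * n = n⁻¹ * (y * n * y⁻¹) * y := by group
      _ = ε * y := by rw [h1]; group
  have h3 : ε * y ∈ L₂ := h2 ▸ conj_inv_mem2 S hy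
  have h4 : ε ∈ L₁ ⊓ L₂ := Subgroup.mul_mem _ (jp_mem S γ') (jp_mem S γ)
  have h6 : y ∈ L₂ := by
    have := L₂.mul_mem (L₂.inv_mem h4.2) h3
    rwa [inv_mul_cancel_left] at this
  have hy' : y = 1 ∨ y = j := inf_cases S hy h6
  have hyn : y * n * y⁻¹ = n := by
    rcases hy' with h' | h'
    · rw [h']; group
    · rw [h', ← comm_jn S, mul_assoc, mul_inv_cancel, mul_one]
  have h7 : ε = 1 := by
    rw [hyn] at h1
    exact (mul_eq_left.mp h1.symm)
  have h8 : jp j γ' = jp j γ := by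
    have : jp j γ' = (jp j γ)⁻¹ := eq_inv_of_mul_eq_one_left (by rw [← hε]; exact h7)
    rw [this, jp_inv S]
  exact ⟨(jp_inj S h8).symm, hy'⟩

/-- membership: the outer square roots of `j` commuting with `a * b` -/
theorem out_mem (S : Setting L₁ L₂ j n) {a b : G} (ha : a ∈ L₁) (hb : b ∈ L₂)
    {x : G} (hx : x ∈ L₁) (β γ : Bool) (hxa : x⁻¹ * a * x = n * b * n⁻¹ * jp j β) :
    (x * n * x⁻¹ * jp j γ) ^ 2 = j ∧
      (x * n * x⁻¹ * jp j γ) * (a * b) = (a * b) * (x * n * x⁻¹ * jp j γ) := by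
  set ε := jp j β with hε
  set δ := jp j γ with hδ
  set a' := n * b * n⁻¹ with ha'
  have hxinv : x⁻¹ ∈ L₁ := L₁.inv_mem hx
  constructor
  · have hc : Commute (x * n * x⁻¹) δ := by
      show x * n * x⁻¹ * δ = δ * (x * n * x⁻¹)
      calc x * n * x⁻¹ * δ = x * n * (x⁻¹ * δ) := by group
        _ = x * n * (δ * x⁻¹) := by rw [jp_comm1 S γ hxinv]
        _ = x * (n * δ) * x⁻¹ := by group
        _ = x * (δ * n) * x⁻¹ := by rw [jp_commn S γ]
        _ = (x * δ) * n * x⁻¹ := by group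
        _ = (δ * x) * n * x⁻¹ := by rw [jp_comm1 S γ hx]
        _ = δ * (x * n * x⁻¹) := by group
    rw [hc.mul_pow, conj_pow, S.hn2, pow_two, jp_sq S, mul_one, comm_j1 S hx, mul_assoc,
      mul_inv_cancel, mul_one]
  · -- semiconjugation chains
    have hab : a * b = b * a := S.hc a ha b hb
    have s_δa : SemiconjBy δ a a := (jp_comm1 S γ ha).symm
    have s_δb : SemiconjBy δ b b := (jp_comm2 S γ hb).symm
    have s_xinv_a : SemiconjBy x⁻¹ a (a' * ε) := by
      show x⁻¹ * a = a' * ε * x⁻¹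
      rw [← hxa]; group
    have s_xinv_b : SemiconjBy x⁻¹ b b := S.hc x⁻¹ hxinv b hb
    have s_n_a' : SemiconjBy n (a' * ε) (b * ε) := by
      show n * (a' * ε) = b * ε * n
      have e1 : n * a' = b * n := by
        rw [ha']
        calc n * (n * b * n⁻¹) = (n * n) * b * n⁻¹ := by group
          _ = j * b * n⁻¹ := by rw [n_mul_n S]
          _ = b * j * n⁻¹ := by rw [comm_j2 S hb]
          _ = b * (n * n) * n⁻¹ := by rw [n_mul_n S]
          _ = b * n := by group
      calc n * (a' * ε) = (n * a') * ε := by group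
        _ = b * n * ε := by rw [e1]
        _ = b * (n * ε) := by group
        _ = b * (ε * n) := by rw [jp_commn S β]
        _ = b * ε * n := by group
    have s_n_b : SemiconjBy n b a' := by
      show n * b = a' * n
      rw [ha']; group
    have s_x_bε : SemiconjBy x (b * ε) (b * ε) := by
      show x * (b * ε) = b * ε * x
      calc x * (b * ε) = (x * b) * ε := by group
        _ = (b * x) * ε := by rw [S.hc x hx b hb]
        _ = b * (x * ε) := by group
        _ = b * (ε * x) := by rw [jp_comm1 S β hx]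
        _ = b * ε * x := by group
    have s_x_a' : SemiconjBy x a' (a * ε) := by
      show x * a' = a * ε * x
      have e2 : a' = x⁻¹ * a * x * ε := by
        rw [hxa, mul_assoc, jp_sq S, mul_one]
      rw [e2]
      calc x * (x⁻¹ * a * x * ε) = a * (x * ε) := by group
        _ = a * (ε * x) := by rw [jp_comm1 S β hx]
        _ = a * ε * x := by group
    have s_r_a : SemiconjBy (x * n * x⁻¹ * δ) a (b * ε) :=
      ((s_x_bε.mul_left s_n_a').mul_left s_xinv_a).mul_left s_δa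
    have s_r_b : SemiconjBy (x * n * x⁻¹ * δ) b (a * ε) :=
      ((s_x_a'.mul_left s_n_b).mul_left s_xinv_b).mul_left s_δb
    have s_r := s_r_a.mul_right s_r_b
    have e3 : b * ε * (a * ε) = a * b := by
      calc b * ε * (a * ε) = b * (ε * a) * ε := by group
        _ = b * (a * ε) * ε := by rw [jp_comm1 S β ha]
        _ = (b * a) * (ε * ε) := by group
        _ = a * b := by rw [jp_sq S, mul_one, hab]
    have := s_r.eq
    rw [e3] at this
    exact this

/-- fibres of the outer parametrisation -/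
theorem out_fiber (S : Setting L₁ L₂ j n) {a b : G} (ha : a ∈ L₁) (hb : b ∈ L₂)
    {x x' : G} (hx : x ∈ L₁) (hx' : x' ∈ L₁) {β β' γ γ' : Bool}
    (hxa : x⁻¹ * a * x = n * b * n⁻¹ * jp j β) (hxa' : x'⁻¹ * a * x' = n * b * n⁻¹ * jp j β')
    (h : x * n * x⁻¹ * jp j γ = x' * n * x'⁻¹ * jp j γ') :
    γ = γ' ∧ β = β' ∧ (x = x' ∨ x = x' * j) := by
  have hy : x'⁻¹ * x ∈ L₁ := L₁.mul_mem (L₁.inv_mem hx') hx
  have hx'inv : x'⁻¹ ∈ L₁ := L₁.inv_mem hx'
  have hk : (x'⁻¹ * x) * n * (x'⁻¹ * x)⁻¹ * jp j γ = n * jp j γ' := by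
    calc (x'⁻¹ * x) * n * (x'⁻¹ * x)⁻¹ * jp j γ = x'⁻¹ * (x * n * x⁻¹) * (x' * jp j γ) := by group
      _ = x'⁻¹ * (x * n * x⁻¹) * (jp j γ * x') := by rw [jp_comm1 S γ hx']
      _ = x'⁻¹ * (x * n * x⁻¹ * jp j γ) * x' := by group
      _ = x'⁻¹ * (x' * n * x'⁻¹ * jp j γ') * x' := by rw [h]
      _ = n * (x'⁻¹ * jp j γ') * x' := by group
      _ = n * (jp j γ' * x'⁻¹) * x' := by rw [jp_comm1 S γ' hx'inv]
      _ = n * jp j γ' := by group
  obtain ⟨hγ, hy'⟩ := key S hy hk
  have hxx : x = x' ∨ x = x' * j := by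
    rcases hy' with h' | h'
    · left
      have : x = x' * (x'⁻¹ * x) := by group
      rw [this, h', mul_one]
    · right
      have : x = x' * (x'⁻¹ * x) := by group
      rw [this, h']
  refine ⟨hγ, ?_, hxx⟩
  have hsame : x⁻¹ * a * x = x'⁻¹ * a * x' := by
    rcases hxx with h' | h'
    · rw [h']
    · rw [h']
      have hm : x'⁻¹ * a * x' ∈ L₁ := L₁.mul_mem (L₁.mul_mem hx'inv ha) hx'
      calc (x' * j)⁻¹ * a * (x' * j) = j⁻¹ * ((x'⁻¹ * a * x') * j) := by group
        _ = j⁻¹ * (j * (x'⁻¹ * a * x')) := by rw [comm_j1 S hm]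
        _ = x'⁻¹ * a * x' := by group
  rw [hxa, hxa'] at hsame
  exact jp_inj S (mul_left_cancel hsame)

/-- the outer elements are not in `L₁ ⊔ L₂` -/
theorem out_not_mem (S : Setting L₁ L₂ j n) {a : G} (ha : a ∈ L₁) (ha2 : a ^ 2 = j)
    {x : G} (hx : x ∈ L₁) (γ : Bool) : x * n * x⁻¹ * jp j γ ∉ L₁ ⊔ L₂ := by
  intro h
  apply n_not_mem S ha ha2
  have hxL : x ∈ L₁ ⊔ L₂ := Subgroup.mem_sup_left hx
  have hδ : jp j γ ∈ L₁ ⊔ L₂ := Subgroup.mem_sup_left (jp_mem S γ).1
  have : n = x⁻¹ * ((x * n * x⁻¹ * jp j γ) * (jp j γ)⁻¹) * x := by group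
  rw [this]
  exact Subgroup.mul_mem _ (Subgroup.mul_mem _ (Subgroup.inv_mem _ hxL)
    (Subgroup.mul_mem _ h (Subgroup.inv_mem _ hδ))) hxL

/-- Unit C of farm SW: lower bound for the square roots of `j` commuting with `a * b` -/
theorem lower_aux [Finite G] (S : Setting L₁ L₂ j n) (a b : G)
    (ha : a ∈ L₁) (hb : b ∈ L₂) (ha2 : a ^ 2 = j) (hb2 : b ^ 2 = j) :
    4 + 2 * Nat.card {x : G // x ∈ L₁ ∧ x * a = a * x} ≤
      Nat.card {r : G // r ^ 2 = j ∧ r * (a * b) = (a * b) * r} := by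
  classical
  set a' := n * b * n⁻¹ with ha'
  have ha'1 : a' ∈ L₁ := conj_mem1 S hb
  have ha'sq : a' ^ 2 = j := by
    rw [ha', conj_pow, hb2, comm_jn S, mul_assoc, mul_inv_cancel, mul_one]
  have ha'j : ∀ β, (a' * jp j β) ^ 2 = j := by
    intro β
    have hc : Commute a' (jp j β) := jp_comm1 S β ha'1
    rw [hc.mul_pow, ha'sq, pow_two, jp_sq S, mul_one]
  have hex : ∀ β, ∃ g ∈ L₁, g * (a' * jp j β) * g⁻¹ = a := fun β =>
    S.q1.conj4 _ (L₁.mul_mem ha'1 (jp_mem S β).1) a ha (ha'j β) ha2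
  choose gs hgs hgsa using hex
  have hxa : ∀ z : G, z ∈ L₁ → z * a = a * z → ∀ β,
      (z * gs β)⁻¹ * a * (z * gs β) = a' * jp j β := by
    intro z hz hza β
    have e := hgsa β
    calc (z * gs β)⁻¹ * a * (z * gs β) = (gs β)⁻¹ * (z⁻¹ * (a * z)) * gs β := by group
      _ = (gs β)⁻¹ * (z⁻¹ * (z * a)) * gs β := by rw [hza]
      _ = (gs β)⁻¹ * a * gs β := by group
      _ = (gs β)⁻¹ * (gs β * (a' * jp j β) * (gs β)⁻¹) * gs β := by rw [e]
      _ = a' * jp j β := by group
  -- basic facts on a, b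
  have hab : a * b = b * a := S.hc a ha b hb
  have haa : a * a = j := by rw [← pow_two]; exact ha2
  have hbb : b * b = j := by rw [← pow_two]; exact hb2
  have ha_ne : a ≠ 1 ∧ a ≠ j := by
    constructor
    · intro h; rw [h, one_pow] at ha2; exact j_ne_one S ha2.symm
    · intro h; rw [h, pow_two, j_mul_j S] at ha2; exact j_ne_one S ha2.symm
  have hb_ne : b ≠ 1 ∧ b ≠ j := by
    constructor
    · intro h; rw [h, one_pow] at hb2; exact j_ne_one S hb2.symm
    · intro h; rw [h, pow_two, j_mul_j S] at hb2; exact j_ne_one S hb2.symm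
  have ha_notL2 : a ∉ L₂ := fun h => by
    rcases inf_cases S ha h with h' | h'
    · exact ha_ne.1 h'
    · exact ha_ne.2 h'
  have hainv_notL2 : a⁻¹ ∉ L₂ := fun h => ha_notL2 (by simpa using L₂.inv_mem h)
  have ha_inv_ne : a ≠ a⁻¹ := by
    intro h
    have : a * a = 1 := by nth_rewrite 2 [h]; exact mul_inv_cancel a
    rw [haa] at this; exact j_ne_one S this
  have hb_inv_ne : b ≠ b⁻¹ := by
    intro h
    have : b * b = 1 := by nth_rewrite 2 [h]; exact mul_inv_cancel b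
    rw [hbb] at this; exact j_ne_one S this
  have hinv_sq : ∀ c : G, c ^ 2 = j → (c⁻¹) ^ 2 = j := by
    intro c hc; rw [inv_pow, hc, j_inv S]
  let vec : Fin 4 → G := ![a, a⁻¹, b, b⁻¹]
  have hvec_mem : ∀ i, (vec i) ^ 2 = j ∧ vec i * (a * b) = (a * b) * vec i := by
    intro i
    fin_cases i
    · refine ⟨ha2, ?_⟩
      show a * (a * b) = a * b * a
      calc a * (a * b) = a * (b * a) := by rw [hab]
        _ = a * b * a := by rw [mul_assoc]
    · refine ⟨hinv_sq a ha2, ?_⟩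
      show a⁻¹ * (a * b) = a * b * a⁻¹
      calc a⁻¹ * (a * b) = b * a * a⁻¹ := by group
        _ = a * b * a⁻¹ := by rw [hab]
    · refine ⟨hb2, ?_⟩
      show b * (a * b) = a * b * b
      calc b * (a * b) = b * a * b := by rw [mul_assoc]
        _ = a * b * b := by rw [hab]
    · refine ⟨hinv_sq b hb2, ?_⟩
      show b⁻¹ * (a * b) = a * b * b⁻¹
      calc b⁻¹ * (a * b) = b⁻¹ * (b * a) := by rw [hab]
        _ = a * b * b⁻¹ := by group
  have hvec_L : ∀ i, vec i ∈ L₁ ⊔ L₂ := by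
    intro i
    fin_cases i
    · exact Subgroup.mem_sup_left ha
    · exact Subgroup.mem_sup_left (L₁.inv_mem ha)
    · exact Subgroup.mem_sup_right hb
    · exact Subgroup.mem_sup_right (L₂.inv_mem hb)
  have hvec_inj : ∀ i i', vec i = vec i' → i = i' := by
    intro i i' h
    fin_cases i <;> fin_cases i' <;> first
      | rfl
      | (exfalso
         simp only [vec, Matrix.cons_val_zero, Matrix.cons_val_one, Matrix.cons_val_two,
           Matrix.cons_val_three, Fin.isValue, Fin.zero_eta, Fin.mk_one,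
           Fin.reduceFinMk] at h
         first
          | exact ha_inv_ne h
          | exact ha_inv_ne h.symm
          | exact hb_inv_ne h
          | exact hb_inv_ne h.symm
          | exact ha_notL2 (h ▸ hb)
          | exact ha_notL2 (h ▸ L₂.inv_mem hb)
          | exact hainv_notL2 (h ▸ hb)
          | exact hainv_notL2 (h ▸ L₂.inv_mem hb)
          | exact ha_notL2 (h.symm ▸ hb)
          | exact ha_notL2 (h.symm ▸ L₂.inv_mem hb)
          | exact hainv_notL2 (h.symm ▸ hb)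
          | exact hainv_notL2 (h.symm ▸ L₂.inv_mem hb))
  -- the parametrisation
  let elt : (Fin 4 × Bool) ⊕ ({x : G // x ∈ L₁ ∧ x * a = a * x} × Bool × Bool) → G :=
    fun d => match d with
      | Sum.inl (i, _) => vec i
      | Sum.inr (z, β, γ) => (z.1 * gs β) * n * (z.1 * gs β)⁻¹ * jp j γ
  have helt : ∀ d, (elt d) ^ 2 = j ∧ elt d * (a * b) = (a * b) * elt d := by
    intro d
    rcases d with ⟨i, β⟩ | ⟨z, β, γ⟩
    · exact hvec_mem i
    · exact out_mem S ha hb (L₁.mul_mem z.2.1 (hgs β)) β γ (hxa z.1 z.2.1 z.2.2 β)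
  let Θ : (Fin 4 × Bool) ⊕ ({x : G // x ∈ L₁ ∧ x * a = a * x} × Bool × Bool) →
      {r : G // r ^ 2 = j ∧ r * (a * b) = (a * b) * r} := fun d => ⟨elt d, helt d⟩
  let σ : (Fin 4 × Bool) ⊕ ({x : G // x ∈ L₁ ∧ x * a = a * x} × Bool × Bool) →
      (Fin 4 × Bool) ⊕ ({x : G // x ∈ L₁ ∧ x * a = a * x} × Bool × Bool) :=
    fun d => match d with
      | Sum.inl (i, β) => Sum.inl (i, !β)
      | Sum.inr (z, β, γ) => Sum.inr (⟨z.1 * j, L₁.mul_mem z.2.1 (j_mem1 S), by
          rw [mul_assoc, ← comm_j1 S ha, ← mul_assoc, z.2.2, mul_assoc]⟩, β, γ)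
  have hfib : ∀ d d', Θ d = Θ d' → d' = d ∨ d' = σ d := by
    intro d d' h
    have h' : elt d = elt d' := congrArg Subtype.val h
    rcases d with ⟨i, β⟩ | ⟨z, β, γ⟩ <;> rcases d' with ⟨i', β'⟩ | ⟨z', β', γ'⟩
    · have hi : i = i' := hvec_inj i i' h'
      subst hi
      cases β <;> cases β' <;> simp [σ]
    · exfalso
      have h1 : elt (Sum.inl (i, β)) ∈ L₁ ⊔ L₂ := hvec_L i
      rw [h'] at h1
      exact out_not_mem S ha ha2 (L₁.mul_mem z'.2.1 (hgs β')) γ' h1
    · exfalso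
      have h1 : elt (Sum.inl (i', β')) ∈ L₁ ⊔ L₂ := hvec_L i'
      rw [← h'] at h1
      exact out_not_mem S ha ha2 (L₁.mul_mem z.2.1 (hgs β)) γ h1
    · obtain ⟨hγ, hβ, hxx⟩ := out_fiber S ha hb (L₁.mul_mem z.2.1 (hgs β))
        (L₁.mul_mem z'.2.1 (hgs β')) (hxa z.1 z.2.1 z.2.2 β) (hxa z'.1 z'.2.1 z'.2.2 β') h'
      subst hγ; subst hβ
      rcases hxx with h2 | h2
      · left
        have : z = z' := Subtype.ext (mul_right_cancel h2)
        rw [this]
      · right
        have h3 : z.1 * gs β = (z'.1 * j) * gs β := by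
          rw [h2, mul_assoc, comm_j1 S (hgs β), ← mul_assoc]
        have h4 : z.1 = z'.1 * j := mul_right_cancel h3
        have h5 : z'.1 = z.1 * j := by rw [h4, mul_assoc, j_mul_j S, mul_one]
        have : z' = ⟨z.1 * j, L₁.mul_mem z.2.1 (j_mem1 S), by
          rw [mul_assoc, ← comm_j1 S ha, ← mul_assoc, z.2.2, mul_assoc]⟩ := Subtype.ext h5
        rw [this]
  have hcard := card_le_two_mul Θ σ hfib
  have hD : Nat.card ((Fin 4 × Bool) ⊕ ({x : G // x ∈ L₁ ∧ x * a = a * x} × Bool × Bool)) =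
      8 + 4 * Nat.card {x : G // x ∈ L₁ ∧ x * a = a * x} := by
    rw [Nat.card_sum, Nat.card_prod, Nat.card_prod, Nat.card_prod, Nat.card_eq_fintype_card (α := Bool),
      Nat.card_eq_fintype_card (α := Fin 4), Fintype.card_bool, Fintype.card_fin]
    ring
  omega

end main

/-- Unit C of farm SW (`Setting.lower` of `Lib/Lead/SWStubs.lean`, stated with the structures of
`Lib/Lead/SWDefs.lean`), binders in the order of the stub. -/
theorem lower {G : Type*} [Group G] [Finite G] {L₁ L₂ : Subgroup G} {j n : G}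
    (S : Setting L₁ L₂ j n) (a b : G)
    (ha : a ∈ L₁) (hb : b ∈ L₂) (ha2 : a ^ 2 = j) (hb2 : b ^ 2 = j) :
    4 + 2 * Nat.card {x : G // x ∈ L₁ ∧ x * a = a * x} ≤
      Nat.card {r : G // r ^ 2 = j ∧ r * (a * b) = (a * b) * r} :=
  lower_aux S a b ha hb ha2 hb2

end Cfsg.Agent.Lib.Helper5.SWLower
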