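import Mathlib
import Cfsg.Agent.Lib.Lead.SchSyl

set_option autoImplicit false

/-!
# S4394, piece S-abs

`N` a finite `p`-group, `y` an automorphism of prime order `r ≠ p` such that every proper
`y`-invariant subgroup is fixed pointwise by `y`.  Then `N` has the "Schmidt–Sylow" property
`SSP p N` (in particular when `N` is not commutative).
-/

open scoped commutatorElement

namespace Cfsg.Agent.Lib.Helper5.SchSylS

open Cfsg.Agent.Lib.Lead.SchSyl

/-- the hypotheses of piece S-abs -/
structure AutHyp (p : ℕ) {N : Type*} [Group N] (y : MulAut N) (r : ℕ) : Prop where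
  pgrp : IsPGroup p N
  inv : ∀ A : Subgroup N, A.map y.toMonoidHom = A → A ≠ ⊤ → ∀ a ∈ A, y a = a
  ne : y ≠ 1
  rprime : r.Prime
  rp : r ≠ p
  pow : y ^ r = 1

variable {p : ℕ} [hp : Fact p.Prime] {N : Type*} [Group N] [Finite N] {y : MulAut N} {r : ℕ}

omit hp [Finite N] in
theorem map_eq_of_forall_mem [Finite N] (y : MulAut N) (A : Subgroup N) (h : ∀ a ∈ A, y a ∈ A) :
    A.map y.toMonoidHom = A := by
  have hle : A.map y.toMonoidHom ≤ A := by
    rintro _ ⟨a, ha, rfl⟩
    exact h a ha
  apply Subgroup.eq_of_le_of_card_ge hle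
  rw [Subgroup.card_map_of_injective]
  exact y.injective

omit hp in
theorem AutHyp.inv' (H : AutHyp p y r) (A : Subgroup N) (hA : ∀ a ∈ A, y a ∈ A) (hne : A ≠ ⊤) :
    ∀ a ∈ A, y a = a :=
  H.inv A (map_eq_of_forall_mem y A hA) hne

omit hp [Finite N] in
theorem pow_apply_of_fix {n c : N} (hc : y c = c) (hn : y n = n * c) (k : ℕ) :
    (y ^ k) n = n * c ^ k := by
  induction k with
  | zero => simp
  | succ k ih =>
    rw [pow_succ', MulAut.mul_apply, ih, map_mul, map_pow, hn, hc, pow_succ', mul_assoc]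

theorem eq_one_of_pow_of_isPGroup {M : Type*} [Group M] (hM : IsPGroup p M) {r : ℕ}
    (hr : r.Prime) (hrp : r ≠ p) {c : M} (hc : c ^ r = 1) : c = 1 := by
  obtain ⟨k, hk⟩ := hM c
  have h1 : orderOf c ∣ r := orderOf_dvd_of_pow_eq_one hc
  have h2 : orderOf c ∣ p ^ k := orderOf_dvd_of_pow_eq_one hk
  have hcop : Nat.Coprime r (p ^ k) :=
    Nat.Coprime.pow_right k ((Nat.coprime_primes hr hp.out).mpr hrp)
  have h3 : orderOf c ∣ 1 := by
    have := Nat.dvd_gcd h1 h2
    rwa [hcop] at this
  exact orderOf_eq_one_iff.mp (Nat.dvd_one.mp h3)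

/-- the generators of `[N, y]` -/
def Wset (y : MulAut N) : Set N := {x | ∃ n : N, x = n⁻¹ * y n}

theorem AutHyp.closure_W (H : AutHyp p y r) : Subgroup.closure (Wset y) = ⊤ := by
  by_contra hne
  have hinv : ∀ a ∈ Subgroup.closure (Wset y), y a ∈ Subgroup.closure (Wset y) := by
    intro a ha
    have hle : Subgroup.closure (Wset y) ≤ (Subgroup.closure (Wset y)).comap y.toMonoidHom := by
      rw [Subgroup.closure_le]
      rintro _ ⟨n, rfl⟩
      apply Subgroup.subset_closure
      exact ⟨y n, by simp⟩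
    exact hle ha
  have hfix := H.inv' _ hinv hne
  apply H.ne
  ext n
  have hc : y (n⁻¹ * y n) = n⁻¹ * y n := hfix _ (Subgroup.subset_closure ⟨n, rfl⟩)
  have hn : y n = n * (n⁻¹ * y n) := by group
  have h0 := pow_apply_of_fix hc hn r
  rw [H.pow, MulAut.one_apply] at h0
  have h1 : (n⁻¹ * y n) ^ r = 1 := by
    have : n * 1 = n * (n⁻¹ * y n) ^ r := by rw [mul_one]; exact h0
    exact (mul_left_cancel this).symm
  have h2 := eq_one_of_pow_of_isPGroup H.pgrp H.rprime H.rp h1
  rw [MulAut.one_apply]
  exact (eq_of_inv_mul_eq_one h2).symm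

theorem AutHyp.commutator_ne_top (H : AutHyp p y r) : commutator N ≠ ⊤ := by
  have : Nontrivial N := by
    by_contra hcon
    rw [not_nontrivial_iff_subsingleton] at hcon
    apply H.ne
    ext n
    exact Subsingleton.elim _ _
  have : Group.IsNilpotent N := H.pgrp.isNilpotent
  exact (Group.IsSolvable.commutator_lt_top_of_nontrivial N).ne

theorem AutHyp.comm_fix (H : AutHyp p y r) (a b : N) : y ⁅a, b⁆ = ⁅a, b⁆ := by
  have hchar : (commutator N).map y.toMonoidHom = commutator N :=
    Subgroup.characteristic_iff_map_eq.mp inferInstance y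
  exact H.inv _ hchar H.commutator_ne_top _
    (Subgroup.commutator_mem_commutator (Subgroup.mem_top a) (Subgroup.mem_top b))

theorem AutHyp.fix_mem_center (H : AutHyp p y r) {c : N} (hc : y c = c) :
    c ∈ Subgroup.center N := by
  have hle : Subgroup.closure (Wset y) ≤ Subgroup.centralizer {c} := by
    rw [Subgroup.closure_le]
    rintro _ ⟨x, rfl⟩
    rw [SetLike.mem_coe, Subgroup.mem_centralizer_singleton_iff]
    have h1 := H.comm_fix x c
    rw [map_commutatorElement, hc] at h1
    simp only [commutatorElement_def] at h1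
    have h2 : y x * c * (y x)⁻¹ = x * c * x⁻¹ := mul_right_cancel h1
    have e : x⁻¹ * y x * c = x⁻¹ * (y x * c * (y x)⁻¹) * y x := by group
    rw [e, h2]; group
  rw [H.closure_W] at hle
  rw [Subgroup.mem_center_iff]
  intro g
  have := hle (Subgroup.mem_top g)
  rw [Subgroup.mem_centralizer_singleton_iff] at this
  exact this

theorem AutHyp.comm_center (H : AutHyp p y r) (a b : N) : ⁅a, b⁆ ∈ Subgroup.center N :=
  H.fix_mem_center (H.comm_fix a b)

omit hp [Finite N] in
theorem AutHyp.center_fix (H : AutHyp p y r) (hna : ¬ ∀ g h : N, g * h = h * g) {z : N}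
    (hz : z ∈ Subgroup.center N) : y z = z := by
  have hchar : (Subgroup.center N).map y.toMonoidHom = Subgroup.center N :=
    Subgroup.characteristic_iff_map_eq.mp inferInstance y
  have hne : Subgroup.center N ≠ ⊤ := by
    intro htop
    apply hna
    intro g h
    have : h ∈ Subgroup.center N := htop ▸ Subgroup.mem_top h
    exact Subgroup.mem_center_iff.mp this g
  exact H.inv _ hchar hne z hz

omit hp in
/-- a pairwise commuting set with `y`-invariant closure is fixed pointwise
(when `N` is not commutative) -/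
theorem AutHyp.fix_of_comm_closure (H : AutHyp p y r) (hna : ¬ ∀ g h : N, g * h = h * g)
    (S : Set N) (hS : ∀ s ∈ S, y s ∈ Subgroup.closure S)
    (hcomm : ∀ s ∈ S, ∀ t ∈ S, s * t = t * s) : ∀ s ∈ S, y s = s := by
  have hne : Subgroup.closure S ≠ ⊤ := by
    intro htop
    apply hna
    have h1 : S ⊆ Subgroup.centralizer S := fun s hs => by
      rw [SetLike.mem_coe, Subgroup.mem_centralizer_iff]
      intro t ht
      exact hcomm t ht s hs
    have h2 : Subgroup.closure S ≤ Subgroup.centralizer S := (Subgroup.closure_le _).mpr h1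
    have h3 : ∀ s ∈ S, s ∈ Subgroup.center N := by
      intro s hs
      rw [Subgroup.mem_center_iff]
      intro g
      have hg : g ∈ Subgroup.centralizer S := h2 (htop ▸ Subgroup.mem_top g)
      exact (Subgroup.mem_centralizer_iff.mp hg s hs).symm
    have h4 : Subgroup.closure S ≤ Subgroup.center N := (Subgroup.closure_le _).mpr h3
    intro g h
    have : h ∈ Subgroup.center N := h4 (htop ▸ Subgroup.mem_top h)
    exact Subgroup.mem_center_iff.mp this g
  have hinv : ∀ a ∈ Subgroup.closure S, y a ∈ Subgroup.closure S := by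
    intro a ha
    have hle : Subgroup.closure S ≤ (Subgroup.closure S).comap y.toMonoidHom := by
      rw [Subgroup.closure_le]
      intro s hs
      exact hS s hs
    exact hle ha
  intro s hs
  exact H.inv' _ hinv hne s (Subgroup.subset_closure hs)

omit hp in
/-- the same with the centre thrown in -/
theorem AutHyp.fix_of_center_union (H : AutHyp p y r) (hna : ¬ ∀ g h : N, g * h = h * g)
    (T : Set N) (hT : ∀ t ∈ T, y t ∈ Subgroup.closure ((Subgroup.center N : Set N) ∪ T))
    (hcomm : ∀ s ∈ T, ∀ t ∈ T, s * t = t * s) : ∀ t ∈ T, y t = t := by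
  intro t ht
  apply H.fix_of_comm_closure hna ((Subgroup.center N : Set N) ∪ T) ?_ ?_ t (Or.inr ht)
  · rintro s (hs | hs)
    · rw [H.center_fix hna hs]
      exact Subgroup.subset_closure (Or.inl hs)
    · exact hT s hs
  · rintro s (hs | hs) t' (ht' | ht')
    · exact (Subgroup.mem_center_iff.mp hs t').symm
    · exact (Subgroup.mem_center_iff.mp hs t').symm
    · exact Subgroup.mem_center_iff.mp ht' s
    · exact hcomm s hs t' ht'

omit hp in
theorem AutHyp.fix_of_mul_center (H : AutHyp p y r) (hna : ¬ ∀ g h : N, g * h = h * g) {m c : N}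
    (hc : c ∈ Subgroup.center N) (hm : y m = m * c) : y m = m := by
  apply H.fix_of_center_union hna {m} ?_ ?_ m rfl
  · intro t ht
    rw [Set.mem_singleton_iff] at ht
    rw [ht, hm]
    exact mul_mem (Subgroup.subset_closure (Or.inr rfl)) (Subgroup.subset_closure (Or.inl hc))
  · intro s hs t ht
    rw [Set.mem_singleton_iff] at hs ht
    rw [hs, ht]

/-! ### `p`-th powers are fixed -/

theorem AutHyp.pow_fix (H : AutHyp p y r) (a : N) : y (a ^ p) = a ^ p := by
  let P : Subgroup (Abelianization N) :=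
    (powMonoidHom p : Abelianization N →* Abelianization N).range
  let Φ : Subgroup N := P.comap Abelianization.of
  have hmem : a ^ p ∈ Φ := by
    show Abelianization.of (a ^ p) ∈ P
    exact ⟨Abelianization.of a, by rw [powMonoidHom_apply, map_pow]⟩
  have hinv : ∀ n ∈ Φ, y n ∈ Φ := by
    rintro n ⟨b, hb⟩
    show Abelianization.of (y n) ∈ P
    refine ⟨Abelianization.map y.toMonoidHom b, ?_⟩
    rw [powMonoidHom_apply] at hb ⊢
    rw [← map_pow, hb, Abelianization.map_of]
    rfl
  have hne : Φ ≠ ⊤ := by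
    intro htop
    have hsurj : Function.Surjective (powMonoidHom p : Abelianization N →* Abelianization N) := by
      intro b
      obtain ⟨n, rfl⟩ := QuotientGroup.mk_surjective b
      have hn : n ∈ Φ := htop ▸ Subgroup.mem_top n
      exact hn
    have hinj : Function.Injective (powMonoidHom p : Abelianization N →* Abelianization N) :=
      Finite.injective_iff_surjective.mpr hsurj
    have key : ∀ k : ℕ, ∀ b : Abelianization N, b ^ p ^ k = 1 → b = 1 := by
      intro k
      induction k with
      | zero => intro b hb; simpa using hb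
      | succ k ih =>
        intro b hb
        have h1 : b ^ p = 1 := ih (b ^ p) (by rw [← pow_mul, ← pow_succ']; exact hb)
        apply hinj
        rw [powMonoidHom_apply, powMonoidHom_apply, one_pow]
        exact h1
    apply H.commutator_ne_top
    rw [eq_top_iff]
    intro n _
    obtain ⟨k, hk⟩ := (H.pgrp.to_quotient (commutator N)) (Abelianization.of n)
    have h1 : Abelianization.of n = 1 := key k _ hk
    rwa [← MonoidHom.mem_ker, Abelianization.ker_of] at h1
  exact H.inv' Φ hinv hne _ hmem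

/-! ### fixed points lie in the commutator subgroup (norm map) -/

theorem AutHyp.fix_mem_commutator (H : AutHyp p y r) {c : N} (hc : y c = c) :
    c ∈ commutator N := by
  let τ : N →* Abelianization N :=
    ∏ i ∈ Finset.range r, (Abelianization.of).comp ((y ^ i : MulAut N).toMonoidHom)
  have hτ : ∀ n, τ n = ∏ i ∈ Finset.range r, Abelianization.of ((y ^ i) n) := by
    intro n
    simp [τ]
  have hshift : ∀ n, τ (y n) = τ n := by
    intro n
    rw [hτ, hτ]
    have e1 : ∀ i, (y ^ i) (y n) = (y ^ (i + 1)) n := by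
      intro i; rw [pow_succ, MulAut.mul_apply]
    simp_rw [e1]
    have h1 := Finset.prod_range_succ' (fun i => Abelianization.of ((y ^ i) n)) r
    have h2 := Finset.prod_range_succ (fun i => Abelianization.of ((y ^ i) n)) r
    rw [h1] at h2
    simp only [H.pow, pow_zero] at h2
    exact mul_right_cancel h2
  have hker : Subgroup.closure (Wset y) ≤ τ.ker := by
    rw [Subgroup.closure_le]
    rintro _ ⟨n, rfl⟩
    rw [SetLike.mem_coe, MonoidHom.mem_ker, map_mul, map_inv, hshift, inv_mul_cancel]
  rw [H.closure_W] at hker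
  have h1 : τ c = 1 := hker (Subgroup.mem_top c)
  have hfixpow : ∀ i : ℕ, (y ^ i) c = c := by
    intro i
    induction i with
    | zero => simp
    | succ i ih => rw [pow_succ, MulAut.mul_apply, hc, ih]
  rw [hτ] at h1
  simp_rw [hfixpow] at h1
  rw [Finset.prod_const, Finset.card_range] at h1
  have h2 : Abelianization.of c = 1 :=
    eq_one_of_pow_of_isPGroup (H.pgrp.to_quotient (commutator N)) H.rprime H.rp h1
  rwa [← MonoidHom.mem_ker, Abelianization.ker_of] at h2

/-! ### class two identities -/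

omit hp [Finite N] in
theorem comm_mul_right' (hcc : ∀ a b : N, ⁅a, b⁆ ∈ Subgroup.center N) (a x1 x2 : N) :
    ⁅a, x1 * x2⁆ = ⁅a, x1⁆ * ⁅a, x2⁆ := by
  have h := Subgroup.mem_center_iff.mp (hcc a x2) x1
  have e : ⁅a, x1 * x2⁆ = ⁅a, x1⁆ * (x1 * ⁅a, x2⁆) * x1⁻¹ := by
    simp only [commutatorElement_def]; group
  rw [e, h]; group

omit hp [Finite N] in
theorem comm_mul_left' (hcc : ∀ a b : N, ⁅a, b⁆ ∈ Subgroup.center N) (x1 x2 b : N) :
    ⁅x1 * x2, b⁆ = ⁅x1, b⁆ * ⁅x2, b⁆ := by
  have h := Subgroup.mem_center_iff.mp (hcc x2 b) x1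
  have e : ⁅x1 * x2, b⁆ = (x1 * ⁅x2, b⁆) * x1⁻¹ * ⁅x1, b⁆ := by
    simp only [commutatorElement_def]; group
  have h' := Subgroup.mem_center_iff.mp (hcc x2 b) ⁅x1, b⁆
  rw [e, h, h']; group

/-- the image of `x ↦ ⁅a, x⁆` -/
def Bsub (hcc : ∀ a b : N, ⁅a, b⁆ ∈ Subgroup.center N) (a : N) : Subgroup N where
  carrier := {z | ∃ x, ⁅a, x⁆ = z}
  one_mem' := ⟨1, by simp⟩
  mul_mem' := by
    rintro _ _ ⟨x1, rfl⟩ ⟨x2, rfl⟩
    exact ⟨x1 * x2, comm_mul_right' hcc a x1 x2⟩
  inv_mem' := by
    rintro _ ⟨x, rfl⟩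
    refine ⟨x⁻¹, ?_⟩
    have h := comm_mul_right' hcc a x x⁻¹
    rw [mul_inv_cancel, commutatorElement_one_right] at h
    exact eq_inv_of_mul_eq_one_right h.symm

/-- the elements all of whose commutators lie in `Bsub a` -/
def NB (hcc : ∀ a b : N, ⁅a, b⁆ ∈ Subgroup.center N) (a : N) : Subgroup N where
  carrier := {n | ∀ x, ⁅n, x⁆ ∈ Bsub hcc a}
  one_mem' := fun x => by rw [commutatorElement_one_left]; exact one_mem _
  mul_mem' := fun {n1 n2} h1 h2 x => by
    rw [comm_mul_left' hcc]; exact mul_mem (h1 x) (h2 x)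
  inv_mem' := fun {n} h x => by
    have e := comm_mul_left' hcc n n⁻¹ x
    rw [mul_inv_cancel, commutatorElement_one_left] at e
    rw [eq_inv_of_mul_eq_one_right e.symm]
    exact inv_mem (h x)

theorem AutHyp.surj (H : AutHyp p y r) {a : N} (ha : a ∉ Subgroup.center N) {z : N}
    (hz : z ∈ Subgroup.center N) : ∃ b, ⁅a, b⁆ = z := by
  have hcc := H.comm_center
  have hna : ¬ ∀ g h : N, g * h = h * g :=
    fun hab => ha (Subgroup.mem_center_iff.mpr (fun g => hab g a))
  have hNB : NB hcc a = ⊤ := by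
    by_contra hne
    have hinv : ∀ n ∈ NB hcc a, y n ∈ NB hcc a := by
      intro n hn x
      have e : ⁅y n, x⁆ = ⁅n, y.symm x⁆ := by
        rw [← H.comm_fix n (y.symm x), map_commutatorElement, MulEquiv.apply_symm_apply]
      rw [e]; exact hn _
    have haNB : a ∈ NB hcc a := fun x => ⟨x, rfl⟩
    exact ha (H.fix_mem_center (H.inv' _ hinv hne a haNB))
  have hle : commutator N ≤ Bsub hcc a := by
    rw [commutator_eq_closure, Subgroup.closure_le]
    rintro _ ⟨n, x, rfl⟩
    have hn : n ∈ NB hcc a := hNB ▸ Subgroup.mem_top n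
    exact hn x
  have hzfix : y z = z := H.center_fix hna hz
  exact hle (H.fix_mem_commutator hzfix)

/-! ### the small cases -/

theorem AutHyp.r_dvd (H : AutHyp p y r) (hna : ¬ ∀ g h : N, g * h = h * g)
    (hidx : (Subgroup.center N).index = p ^ 2) : r ∣ p ^ 2 - 1 := by
  have : Fact r.Prime := ⟨H.rprime⟩
  have hZ : IsPGroup r (Subgroup.zpowers y) := by
    rintro ⟨g, hg⟩
    obtain ⟨k, rfl⟩ := Subgroup.mem_zpowers_iff.mp hg
    refine ⟨1, ?_⟩
    apply Subtype.ext
    rw [pow_one, Subgroup.coe_pow, Subgroup.coe_one, ← zpow_natCast, ← zpow_mul, mul_comm,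
      zpow_mul, zpow_natCast, H.pow, one_zpow]
  have hmod := hZ.card_modEq_card_fixedPoints N
  have hset : MulAction.fixedPoints (Subgroup.zpowers y) N = (Subgroup.center N : Set N) := by
    ext n
    rw [MulAction.mem_fixedPoints, SetLike.mem_coe]
    constructor
    · intro h
      have h1 : y n = n := h ⟨y, Subgroup.mem_zpowers y⟩
      exact H.fix_mem_center h1
    · rintro hn ⟨g, hg⟩
      have h1 : y n = n := H.center_fix hna hn
      have h2 : y ∈ MulAction.stabilizer (MulAut N) n := by
        rw [MulAction.mem_stabilizer_iff, MulAut.smul_def]; exact h1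
      have h3 : g ∈ MulAction.stabilizer (MulAut N) n :=
        (Subgroup.zpowers_le.mpr h2) hg
      rw [MulAction.mem_stabilizer_iff] at h3
      exact h3
  rw [hset] at hmod
  have hmod' : Nat.card N ≡ Nat.card (Subgroup.center N) [MOD r] := hmod
  have hcardN : Nat.card N = p ^ 2 * Nat.card (Subgroup.center N) := by
    rw [← hidx]; exact (Subgroup.index_mul_card _).symm
  have hp2 : 1 ≤ p ^ 2 := Nat.one_le_pow _ _ hp.out.pos
  have hle : Nat.card (Subgroup.center N) ≤ Nat.card N := by
    rw [hcardN]; exact Nat.le_mul_of_pos_left _ (by omega)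
  have hd : r ∣ Nat.card N - Nat.card (Subgroup.center N) :=
    (Nat.modEq_iff_dvd' hle).mp hmod'.symm
  have he : Nat.card N - Nat.card (Subgroup.center N)
      = (p ^ 2 - 1) * Nat.card (Subgroup.center N) := by
    rw [hcardN, Nat.sub_mul, one_mul]
  rw [he] at hd
  obtain ⟨k, hk⟩ := IsPGroup.iff_card.mp (H.pgrp.to_subgroup (Subgroup.center N))
  have hcop : Nat.Coprime r (Nat.card (Subgroup.center N)) := by
    rw [hk]
    exact Nat.Coprime.pow_right k ((Nat.coprime_primes H.rprime hp.out).mpr H.rp)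
  exact hcop.dvd_of_dvd_mul_right hd

/-- `r = 2` is impossible when `N` is not commutative -/
theorem AutHyp.false_of_two (H : AutHyp p y 2) (hna : ¬ ∀ g h : N, g * h = h * g) : False := by
  apply hna
  have hy2 : ∀ n, y (y n) = n := by
    intro n
    have h2 : (y ^ 2) n = n := by rw [H.pow]; rfl
    rwa [pow_two, MulAut.mul_apply] at h2
  have hcen : ∀ n : N, n ∈ Subgroup.center N := by
    intro n
    have hm : y (n * y n) = (n * y n) * ⁅(n * y n)⁻¹, n⁻¹⁆ := by
      rw [map_mul, hy2]; simp only [commutatorElement_def]; group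
    have hmfix : y (n * y n) = n * y n := H.fix_of_mul_center hna (H.comm_center _ _) hm
    have hmc : n * y n ∈ Subgroup.center N := H.fix_mem_center hmfix
    have hyn : y n = n⁻¹ * (n * y n) := by group
    have hfix : y n = n := by
      apply H.fix_of_center_union hna {n} ?_ ?_ n rfl
      · intro t ht
        rw [Set.mem_singleton_iff] at ht
        rw [ht, hyn]
        exact mul_mem (inv_mem (Subgroup.subset_closure (Or.inr rfl)))
          (Subgroup.subset_closure (Or.inl hmc))
      · intro s hs t ht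
        rw [Set.mem_singleton_iff] at hs ht
        rw [hs, ht]
    exact H.fix_mem_center hfix
  intro g h
  exact Subgroup.mem_center_iff.mp (hcen h) g

omit hp [Finite N] in
theorem comm_of_involutions {a b c : N} (ha : a * a = 1) (hb : b * b = 1) (hc : c * c = 1)
    (hm : (a * b * c) * (a * b * c) = 1) (hcm : c * (a * b * c) = (a * b * c) * c) :
    a * b = b * a := by
  have h1 : (a * b) * (a * b) = (a * b * c) * (c⁻¹ * (a * b * c)) * c⁻¹ := by group
  have h2 : c⁻¹ * (a * b * c) = (a * b * c) * c⁻¹ := by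
    have e : c⁻¹ * (a * b * c) = c⁻¹ * ((a * b * c) * c) * c⁻¹ := by group
    rw [e, ← hcm]; group
  rw [h2] at h1
  have h3 : (a * b * c) * ((a * b * c) * c⁻¹) * c⁻¹ = ((a * b * c) * (a * b * c)) * (c * c)⁻¹ := by
    group
  rw [h3, hm, hc, inv_one, mul_one] at h1
  have ha' : a⁻¹ = a := (eq_inv_of_mul_eq_one_left ha).symm
  have hb' : b⁻¹ = b := (eq_inv_of_mul_eq_one_left hb).symm
  calc a * b = (a * b)⁻¹ := eq_inv_of_mul_eq_one_left h1
    _ = b⁻¹ * a⁻¹ := mul_inv_rev a b
    _ = b * a := by rw [ha', hb']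

/-- for `r = 3`: involutions are central -/
theorem AutHyp.mem_center_of_sq (H : AutHyp p y 3) {a : N} (ha2 : a ^ 2 = 1) :
    a ∈ Subgroup.center N := by
  by_contra ha
  have hna : ¬ ∀ g h : N, g * h = h * g :=
    fun hab => ha (Subgroup.mem_center_iff.mpr (fun g => hab g a))
  have hy3 : ∀ n, y (y (y n)) = n := by
    intro n
    have h3 : (y ^ 3) n = n := by rw [H.pow]; rfl
    rwa [pow_succ, pow_two, MulAut.mul_apply, MulAut.mul_apply] at h3
  have hm : y (a * y a * y (y a)) = (a * y a * y (y a)) * ⁅(a * y a * y (y a))⁻¹, a⁻¹⁆ := by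
    rw [map_mul, map_mul, hy3]; simp only [commutatorElement_def]; group
  have hmfix := H.fix_of_mul_center hna (H.comm_center _ _) hm
  have hmc : a * y a * y (y a) ∈ Subgroup.center N := H.fix_mem_center hmfix
  have hexp : ∀ z ∈ Subgroup.center N, z * z = 1 := by
    intro z hz
    obtain ⟨x, rfl⟩ := H.surj ha hz
    have h := comm_mul_left' H.comm_center a a x
    rw [← pow_two, ha2, commutatorElement_one_left] at h
    exact h.symm
  have haa : a * a = 1 := by rw [← pow_two]; exact ha2
  have hbb : y a * y a = 1 := by rw [← map_mul, haa, map_one]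
  have hcc : y (y a) * y (y a) = 1 := by rw [← map_mul, hbb, map_one]
  have hab : a * y a = y a * a :=
    comm_of_involutions haa hbb hcc (hexp _ hmc) (Subgroup.mem_center_iff.mp hmc _)
  have hfix : y a = a := by
    apply H.fix_of_center_union hna {a, y a} ?_ ?_ a (Or.inl rfl)
    · rintro t (ht | ht)
      · rw [ht]
        exact Subgroup.subset_closure (Or.inr (Or.inr rfl))
      · rw [Set.mem_singleton_iff] at ht
        rw [ht]
        have e : y (y a) = (y a)⁻¹ * (a⁻¹ * (a * y a * y (y a))) := by group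
        rw [e]
        exact mul_mem (inv_mem (Subgroup.subset_closure (Or.inr (Or.inr rfl))))
          (mul_mem (inv_mem (Subgroup.subset_closure (Or.inr (Or.inl rfl))))
            (Subgroup.subset_closure (Or.inl hmc)))
    · rintro s (hs | hs) t (ht | ht)
      · rw [hs, ht]
      · rw [Set.mem_singleton_iff] at ht; rw [hs, ht]; exact hab
      · rw [Set.mem_singleton_iff] at hs; rw [hs, ht]; exact hab.symm
      · rw [Set.mem_singleton_iff] at hs ht; rw [hs, ht]
  exact ha (H.fix_mem_center hfix)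

theorem AutHyp.small (H : AutHyp p y r) (hidx : (Subgroup.center N).index = p ^ 2) :
    p ≠ 3 ∧ (p = 2 → ∀ a : N, a ^ 2 = 1 → a ∈ Subgroup.center N) := by
  have hp2 : 2 ≤ p := hp.out.two_le
  have hna : ¬ ∀ g h : N, g * h = h * g := by
    intro hab
    have htop : Subgroup.center N = ⊤ := by
      rw [eq_top_iff]
      intro g _
      exact Subgroup.mem_center_iff.mpr (fun h => hab h g)
    rw [htop, Subgroup.index_top] at hidx
    nlinarith
  have hdvd := H.r_dvd hna hidx
  constructor
  · intro h3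
    subst h3
    have h8 : r ∣ 2 ^ 3 := by
      have : (3 : ℕ) ^ 2 - 1 = 2 ^ 3 := by norm_num
      rw [this] at hdvd
      exact hdvd
    have hr2 : r = 2 :=
      (Nat.prime_dvd_prime_iff_eq H.rprime Nat.prime_two).mp (H.rprime.dvd_of_dvd_pow h8)
    subst hr2
    exact H.false_of_two hna
  · intro h2 a ha2
    subst h2
    have h3 : r ∣ 3 := by
      have : (2 : ℕ) ^ 2 - 1 = 3 := by norm_num
      rw [this] at hdvd
      exact hdvd
    have hr3 : r = 3 := (Nat.prime_dvd_prime_iff_eq H.rprime Nat.prime_three).mp h3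
    subst hr3
    exact H.mem_center_of_sq ha2

/-- **Piece S-abs**: the Schmidt–Sylow property. -/
theorem ssp_of_aut (H : AutHyp p y r) : SSP p N :=
  ⟨H.comm_center, fun a => H.fix_mem_center (H.pow_fix a), fun _ ha _ hz => H.surj ha hz,
    H.small⟩

/-- **Piece S-abs** in the shape of the farm-out. -/
theorem comm_or_ssp {p : ℕ} [Fact p.Prime] {N : Type*} [Group N] [Finite N] (hN : IsPGroup p N)
    (y : MulAut N)
    (h1 : ∀ A : Subgroup N, A.map y.toMonoidHom = A → A ≠ ⊤ → ∀ a ∈ A, y a = a) (h2 : y ≠ 1)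
    {r : ℕ} (hr : r.Prime) (hrp : r ≠ p) (h3 : y ^ r = 1) :
    (∀ a b : N, a * b = b * a) ∨ SSP p N :=
  Or.inr (ssp_of_aut ⟨hN, h1, h2, hr, hrp, h3⟩)

end Cfsg.Agent.Lib.Helper5.SchSylS
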