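import Mathlib

set_option autoImplicit false

namespace Cfsg.Agent.Lib.Helper5.SemisimpleInvariant

open Module

variable {F V : Type*} [Field F] [AddCommGroup V] [Module F V] [FiniteDimensional F V]

theorem exists_le_finrank_eq (C : Submodule F V) (k : ℕ) (hk : k ≤ finrank F C) :
    ∃ C' : Submodule F V, C' ≤ C ∧ finrank F C' = k := by
  let b := Module.finBasis F C
  let v : Fin k → V := fun i => (b (Fin.castLE hk i) : V)
  have hli : LinearIndependent F v := by
    have h1 : LinearIndependent F (fun i : Fin k => b (Fin.castLE hk i)) :=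
      b.linearIndependent.comp _ (Fin.castLE_injective hk)
    exact h1.map' C.subtype (Submodule.ker_subtype C)
  refine ⟨Submodule.span F (Set.range v), ?_, ?_⟩
  · rw [Submodule.span_le]
    rintro _ ⟨i, rfl⟩
    exact (b (Fin.castLE hk i)).2
  · rw [finrank_span_eq_card hli, Fintype.card_fin]

theorem finrank_biSup {ι : Type*} [DecidableEq ι] (B : ι → Submodule F V) (hB : iSupIndep B)
    (a : ℕ) (ha : ∀ j, finrank F (B j) = a) (J : Finset ι) :
    finrank F ↥(⨆ j ∈ J, B j) = J.card * a := by
  induction J using Finset.induction_on with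
  | empty => simp
  | insert j J hj ih =>
    rw [Finset.iSup_insert, Finset.card_insert_of_notMem hj]
    have hdisj : Disjoint (B j) (⨆ i ∈ (J : Set ι), B i) :=
      hB.disjoint_biSup (by simpa using hj)
    simp only [Finset.mem_coe] at hdisj
    have := Submodule.finrank_sup_add_finrank_inf_eq (B j) (⨆ i ∈ J, B i)
    rw [hdisj.eq_bot, finrank_bot, add_zero, ih, ha] at this
    rw [this]
    ring

/-- invariant subspaces of a sum of irreducibles of dimension `a` have dimension a multiple
of `a` -/
theorem finrank_invariant {ι : Type*} [Fintype ι] [DecidableEq ι] (f : V →ₗ[F] V)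
    (B : ι → Submodule F V) (hB : iSupIndep B) (a : ℕ) (ha : ∀ j, finrank F (B j) = a)
    (hinv : ∀ j, (B j).map f ≤ B j)
    (hirr : ∀ j, ∀ W : Submodule F V, W ≤ B j → W.map f ≤ W → W = ⊥ ∨ W = B j)
    (W : Submodule F V) (hW : W ≤ ⨆ j, B j) (hWinv : W.map f ≤ W) :
    ∃ k, k ≤ Fintype.card ι ∧ finrank F W = k * a := by
  classical
  -- maximal J with W disjoint from B_J
  let S : Finset (Finset ι) := Finset.univ.filter fun J => Disjoint W (⨆ j ∈ J, B j)
  have hS : S.Nonempty := ⟨∅, by simp [S]⟩
  obtain ⟨J, hJS, hJmax⟩ := S.exists_max_image Finset.card hS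
  have hJ : Disjoint W (⨆ j ∈ J, B j) := (Finset.mem_filter.mp hJS).2
  have hBJinv : (⨆ j ∈ J, B j).map f ≤ ⨆ j ∈ J, B j := by
    rw [Submodule.map_iSup]
    apply iSup_le
    intro j
    rw [Submodule.map_iSup]
    apply iSup_le
    intro hj
    exact le_trans (hinv j) (le_iSup₂ (f := fun j (_ : j ∈ J) => B j) j hj)
  have hcover : ∀ j, B j ≤ W ⊔ ⨆ i ∈ J, B i := by
    intro j
    by_cases hj : j ∈ J
    · exact le_trans (le_iSup₂ (f := fun j (_ : j ∈ J) => B j) j hj) le_sup_right
    · have hXinv : ((W ⊔ ⨆ i ∈ J, B i) ⊓ B j).map f ≤ (W ⊔ ⨆ i ∈ J, B i) ⊓ B j := by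
        refine le_trans (Submodule.map_inf_le f) (inf_le_inf ?_ (hinv j))
        rw [Submodule.map_sup]
        exact sup_le_sup hWinv hBJinv
      rcases hirr j _ inf_le_right hXinv with h | h
      · exfalso
        have hnew : insert j J ∈ S := by
          refine Finset.mem_filter.mpr ⟨Finset.mem_univ _, ?_⟩
          rw [Finset.iSup_insert, Submodule.disjoint_def]
          intro w hw hw2
          obtain ⟨v, hv, u, hu, hvu⟩ := Submodule.mem_sup.mp hw2
          have hv0 : v ∈ (W ⊔ ⨆ i ∈ J, B i) ⊓ B j := by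
            refine ⟨?_, hv⟩
            have : v = w - u := by rw [← hvu]; abel
            rw [this]
            exact Submodule.sub_mem _ (Submodule.mem_sup_left hw) (Submodule.mem_sup_right hu)
          rw [h, Submodule.mem_bot] at hv0
          rw [hv0, zero_add] at hvu
          rw [← hvu] at hw ⊢
          exact (Submodule.disjoint_def.mp hJ) u hw hu
        have := hJmax _ hnew
        rw [Finset.card_insert_of_notMem hj] at this
        omega
      · rw [← h]
        exact inf_le_left
  have hsup : W ⊔ ⨆ i ∈ J, B i = ⨆ j, B j := by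
    apply le_antisymm
    · exact sup_le hW (iSup₂_le fun j _ => le_iSup B j)
    · exact iSup_le hcover
  have h1 := Submodule.finrank_sup_add_finrank_inf_eq W (⨆ i ∈ J, B i)
  have h2 : finrank F ↥(⨆ j, B j) = Fintype.card ι * a := by
    have := finrank_biSup B hB a ha Finset.univ
    have h3 : (⨆ j ∈ (Finset.univ : Finset ι), B j) = ⨆ j, B j := by
      apply le_antisymm
      · exact iSup₂_le fun j _ => le_iSup B j
      · exact iSup_le fun j => le_iSup₂ (f := fun j (_ : j ∈ Finset.univ) => B j) j
          (Finset.mem_univ j)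
    rw [h3, Finset.card_univ] at this
    exact this
  rw [hsup, hJ.eq_bot, finrank_bot, add_zero, h2, finrank_biSup B hB a ha J] at h1
  refine ⟨Fintype.card ι - J.card, Nat.sub_le _ _, ?_⟩
  have hJle : J.card ≤ Fintype.card ι := Finset.card_le_univ J
  rw [Nat.sub_mul]
  omega

omit [FiniteDimensional F V] in
theorem biSup_map_le {ι : Type*} (f : V →ₗ[F] V) (B : ι → Submodule F V)
    (hinv : ∀ j, (B j).map f ≤ B j) (J : Set ι) :
    (⨆ j ∈ J, B j).map f ≤ ⨆ j ∈ J, B j := by
  rw [Submodule.map_iSup]
  apply iSup_le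
  intro j
  rw [Submodule.map_iSup]
  apply iSup_le
  intro hj
  exact le_trans (hinv j) (le_iSup₂ (f := fun j (_ : j ∈ J) => B j) j hj)

omit [FiniteDimensional F V] in
theorem iSup_map_le {ι : Type*} (f : V →ₗ[F] V) (B : ι → Submodule F V)
    (hinv : ∀ j, (B j).map f ≤ B j) : (⨆ j, B j).map f ≤ ⨆ j, B j := by
  rw [Submodule.map_iSup]
  apply iSup_le
  intro j
  exact le_trans (hinv j) (le_iSup B j)

theorem finrank_iSup {ι : Type*} [Fintype ι] [DecidableEq ι] (B : ι → Submodule F V)
    (hB : iSupIndep B) (a : ℕ) (ha : ∀ j, finrank F (B j) = a) :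
    finrank F ↥(⨆ j, B j) = Fintype.card ι * a := by
  have := finrank_biSup B hB a ha Finset.univ
  have h3 : (⨆ j ∈ (Finset.univ : Finset ι), B j) = ⨆ j, B j := by
    apply le_antisymm
    · exact iSup₂_le fun j _ => le_iSup B j
    · exact iSup_le fun j => le_iSup₂ (f := fun j (_ : j ∈ Finset.univ) => B j) j
        (Finset.mem_univ j)
  rw [h3, Finset.card_univ] at this
  exact this

theorem criterion (f : V →ₗ[F] V) {s a : ℕ} (U : Fin s → Submodule F V)
    (hUinv : ∀ j, (U j).map f ≤ U j) (hUdim : ∀ j, finrank F ↥(U j) = a)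
    (hUirr : ∀ j, ∀ W : Submodule F V, W ≤ U j → W.map f ≤ W → W = ⊥ ∨ W = U j)
    (hdec : DirectSum.IsInternal
      (fun o : Option (Fin s) => o.elim (Module.End.eigenspace f 1) U))
    (m : ℕ) (hmV : m < finrank F V) :
    (∃ W : Submodule F V, finrank F ↥W = m ∧ W.map f ≤ W) ↔
    (m ≤ finrank F ↥(Module.End.eigenspace f 1) ∨
      (a ≤ m ∧ m % a ≤ finrank F ↥(Module.End.eigenspace f 1))) := by
  classical
  set C := Module.End.eigenspace f 1 with hCdef
  set A : Option (Fin s) → Submodule F V := fun o => o.elim C U with hA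
  have hind : iSupIndep A := hdec.submodule_iSupIndep
  have htop : ⨆ o, A o = ⊤ := hdec.submodule_iSup_eq_top
  have hUind : iSupIndep U := by
    have := hind.comp (Option.some_injective (Fin s))
    exact this
  have hCU : Disjoint C (⨆ j, U j) := by
    have h1 := hind none
    refine h1.mono_right ?_
    apply iSup_le
    intro j
    exact le_iSup₂ (f := fun (o : Option (Fin s)) (_ : o ≠ none) => A o) (some j)
      (Option.some_ne_none j)
  have hsup : C ⊔ ⨆ j, U j = ⊤ := by
    rw [← htop, iSup_option]
    rfl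
  have hfU : finrank F ↥(⨆ j, U j) = s * a := by
    rw [finrank_iSup U hUind a hUdim, Fintype.card_fin]
  have hdimV : finrank F V = finrank F C + s * a := by
    have := Submodule.finrank_sup_add_finrank_inf_eq C (⨆ j, U j)
    rw [hsup, hCU.eq_bot, finrank_bot, add_zero, finrank_top, hfU] at this
    exact this
  have hCfix : ∀ w ∈ C, f w = w := by
    intro w hw
    have := Module.End.mem_eigenspace_iff.mp hw
    rw [one_smul] at this
    exact this
  have hCinv : ∀ C' : Submodule F V, C' ≤ C → C'.map f ≤ C' := by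
    intro C' hC'
    rintro _ ⟨w, hw, rfl⟩
    rw [hCfix w (hC' hw)]
    exact hw
  constructor
  · rintro ⟨W, hWm, hWinv⟩
    set g : V →ₗ[F] V := f - 1 with hg
    have hgker : ∀ w, g w = 0 ↔ w ∈ C := by
      intro w
      rw [hg, LinearMap.sub_apply, Module.End.one_apply, sub_eq_zero, hCdef,
        Module.End.mem_eigenspace_iff, one_smul]
    have hfW : ∀ w ∈ W, f w ∈ W := fun w hw => hWinv ⟨w, hw, rfl⟩
    have hW'inv : (W.map g).map f ≤ W.map g := by
      rintro _ ⟨_, ⟨w, hw, rfl⟩, rfl⟩
      refine ⟨f w, hfW w hw, ?_⟩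
      rw [hg, LinearMap.sub_apply, LinearMap.sub_apply, Module.End.one_apply,
        Module.End.one_apply, map_sub]
    have hUsinv : ∀ u ∈ ⨆ j, U j, f u ∈ ⨆ j, U j :=
      fun u hu => iSup_map_le f U hUinv ⟨u, hu, rfl⟩
    have hW'le : W.map g ≤ ⨆ j, U j := by
      rintro _ ⟨w, _, rfl⟩
      have hw : w ∈ C ⊔ ⨆ j, U j := by rw [hsup]; trivial
      obtain ⟨c, hc, u, hu, rfl⟩ := Submodule.mem_sup.mp hw
      rw [map_add, (hgker c).mpr hc, zero_add, hg, LinearMap.sub_apply, Module.End.one_apply]
      exact Submodule.sub_mem _ (hUsinv u hu) hu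
    obtain ⟨k, hks, hk⟩ := finrank_invariant f U hUind a hUdim hUinv hUirr (W.map g) hW'le hW'inv
    have hrn := LinearMap.finrank_range_add_finrank_ker (g.domRestrict W)
    rw [LinearMap.range_domRestrict, hWm, hk] at hrn
    have hkerle : finrank F ↥(LinearMap.ker (g.domRestrict W)) ≤ finrank F C := by
      rw [← Submodule.finrank_map_subtype_eq W (LinearMap.ker (g.domRestrict W))]
      apply Submodule.finrank_mono
      rintro _ ⟨w, hw, rfl⟩
      exact (hgker _).mp hw
    rcases Nat.eq_zero_or_pos k with rfl | hkpos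
    · left
      omega
    · right
      constructor
      · have : a ≤ k * a := Nat.le_mul_of_pos_left a hkpos
        omega
      · rw [← hrn, mul_comm, Nat.mul_add_mod]
        exact le_trans (Nat.mod_le _ _) hkerle
  · rintro (hmc | ⟨ham, hmod⟩)
    · obtain ⟨C', hC', hfr⟩ := exists_le_finrank_eq C m hmc
      exact ⟨C', hfr, hCinv C' hC'⟩
    · set k' := min (m / a) s with hk'
      have hk's : k' ≤ s := min_le_right _ _
      have hk'm : k' * a ≤ m :=
        le_trans (Nat.mul_le_mul_right a (min_le_left _ _)) (Nat.div_mul_le_self m a)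
      have hc' : m - k' * a ≤ finrank F C := by
        rcases le_total (m / a) s with h | h
        · have : k' = m / a := min_eq_left h
          rw [this]
          have := Nat.mod_add_div m a
          have h2 : m / a * a = a * (m / a) := mul_comm _ _
          omega
        · have : k' = s := min_eq_right h
          rw [this]
          omega
      obtain ⟨C', hC', hfr⟩ := exists_le_finrank_eq C (m - k' * a) hc'
      obtain ⟨J, -, hJ⟩ := Finset.exists_subset_card_eq (s := (Finset.univ : Finset (Fin s)))
        (n := k') (by rw [Finset.card_univ, Fintype.card_fin]; exact hk's)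
      refine ⟨C' ⊔ ⨆ j ∈ J, U j, ?_, ?_⟩
      · have hdisj : Disjoint C' (⨆ j ∈ J, U j) :=
          hCU.mono hC' (iSup₂_le fun j _ => le_iSup U j)
        have := Submodule.finrank_sup_add_finrank_inf_eq C' (⨆ j ∈ J, U j)
        rw [hdisj.eq_bot, finrank_bot, add_zero, hfr, finrank_biSup U hUind a hUdim J, hJ] at this
        omega
      · rw [Submodule.map_sup]
        exact sup_le_sup (hCinv C' hC') (biSup_map_le f U hUinv (J : Set (Fin s)))

end Cfsg.Agent.Lib.Helper5.SemisimpleInvariant
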