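import Mathlib
import Cfsg.Agent.Lib.Helper2.Zsigmondy

set_option autoImplicit false

namespace Cfsg.Agent.Lib.Helper5.SingerAbelian

theorem arith (q r n c d : ℕ) (hr : r.Prime) (hrq : r ∣ q ^ n - 1) (hq : 2 ≤ q)
    (hprim : ∀ k, 0 < k → k < n → ¬ r ∣ q ^ k - 1) (hcd : c ≤ d) (hdn : d ≤ n)
    (h : q ^ d ≡ q ^ c [MOD r]) : c = d ∨ (c = 0 ∧ d = n) := by
  rcases Nat.eq_or_lt_of_le hcd with h1 | h1
  · exact Or.inl h1
  · right
    have hn : 0 < n := by omega
    have hcop : Nat.Coprime r q := by
      rw [Nat.Prime.coprime_iff_not_dvd hr]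
      intro hrq'
      have h2 : r ∣ q ^ n := dvd_pow hrq' hn.ne'
      have h3 : 1 ≤ q ^ n := Nat.one_le_pow _ _ (by omega)
      have h4 : r ∣ q ^ n - (q ^ n - 1) := Nat.dvd_sub h2 hrq
      have h5 : q ^ n - (q ^ n - 1) = 1 := by omega
      rw [h5] at h4
      exact hr.one_lt.ne' (Nat.dvd_one.mp h4)
    have h2 : q ^ c * q ^ (d - c) ≡ q ^ c * 1 [MOD r] := by
      rw [← pow_add, mul_one, Nat.add_sub_cancel' hcd]
      exact h
    have hcop2 : Nat.gcd r (q ^ c) = 1 := Nat.Coprime.pow_right c hcop
    have h3 : q ^ (d - c) ≡ 1 [MOD r] := Nat.ModEq.cancel_left_of_coprime hcop2 h2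
    have h4 : r ∣ q ^ (d - c) - 1 :=
      (Nat.modEq_iff_dvd' (Nat.one_le_pow _ _ (by omega))).mp h3.symm
    have h5 : ¬ (d - c < n) := fun h6 => hprim (d - c) (by omega) h6 h4
    omega

theorem prime_of_isPrimePow_of_add_one_eq_two_pow (q m : ℕ) (hq : IsPrimePow q)
    (h : q + 1 = 2 ^ m) : q.Prime := by
  obtain ⟨p, f, hp, hf, rfl⟩ := hq
  have hp' : p.Prime := hp.nat_prime
  suffices hf1 : f = 1 by rw [hf1, pow_one]; exact hp'
  by_contra hf1
  have hf2 : 2 ≤ f := by omega
  have hp2 : 2 ≤ p := hp'.two_le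
  have hbig : p ^ 2 ≤ p ^ f := Nat.pow_le_pow_right (by omega) hf2
  rcases hp'.eq_two_or_odd' with rfl | hodd
  · have h1 : Odd (2 ^ f + 1) := (Nat.even_pow.mpr ⟨even_two, by omega⟩).add_one
    rw [h] at h1
    have hm : m = 0 := by
      by_contra hm
      exact (Nat.not_odd_iff_even.mpr (Nat.even_pow.mpr ⟨even_two, hm⟩)) h1
    subst hm
    have : 0 < 2 ^ f := by positivity
    omega
  · rcases Nat.even_or_odd f with hev | hod
    · obtain ⟨k, rfl⟩ := hev
      have h1 : Odd (p ^ k) := hodd.pow
      obtain ⟨j, hj⟩ := h1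
      have h2 : (p ^ (k + k)) % 4 = 1 := by
        rw [pow_add, hj]
        have : (2 * j + 1) % 4 = 1 ∨ (2 * j + 1) % 4 = 3 := by omega
        rcases this with h3 | h3 <;> simp [Nat.mul_mod, h3]
      have h4 : p ^ 2 = p * p := by ring
      have h5 : 4 ≤ p * p := Nat.mul_le_mul hp2 hp2
      rcases Nat.lt_or_ge m 2 with hm | hm
      · have : m = 0 ∨ m = 1 := by omega
        rcases this with rfl | rfl
        · simp at h
          omega
        · simp at h
          omega
      · obtain ⟨t, rfl⟩ := Nat.exists_eq_add_of_le hm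
        have h6 : 2 ^ (2 + t) = 4 * 2 ^ t := by rw [pow_add]; norm_num
        rw [h6] at h
        omega
    · have hdiv : p + 1 ∣ p ^ f + 1 := by
        simpa using Odd.nat_add_dvd_pow_add_pow p 1 hod
      rw [h] at hdiv
      obtain ⟨s, hs, hps⟩ := (Nat.dvd_prime_pow Nat.prime_two).mp hdiv
      have hlt : 2 ^ s < 2 ^ m := by
        rw [← hps, ← h]
        have h4 : p ^ 2 = p * p := by ring
        have : p < p * p := by nlinarith
        omega
      have hsm : s < m := (Nat.pow_lt_pow_iff_right (by norm_num)).mp hlt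
      have hM : 2 ^ (s + 1) ∣ 2 ^ m := Nat.pow_dvd_pow 2 hsm
      have hM2 : 2 ^ (s + 1) = 2 * (p + 1) := by rw [pow_succ, ← hps]; ring
      obtain ⟨j, hj⟩ := hodd
      have hpp : p * p ≡ 1 [MOD 2 * (p + 1)] := by
        have : p * p = 2 * (p + 1) * j + 1 := by
          subst hj
          ring
        rw [this]
        exact ((Nat.modEq_iff_dvd' (by omega)).mpr (by simp)).symm
      obtain ⟨t, ht⟩ := hod
      have hpf : p ^ f ≡ p [MOD 2 * (p + 1)] := by
        rw [ht, pow_succ, pow_mul, pow_two]
        have := (hpp.pow t).mul_right p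
        simpa using this
      have h6 : p ^ f + 1 ≡ p + 1 [MOD 2 * (p + 1)] := hpf.add_right 1
      rw [h, ← hM2] at h6
      have h7 : 2 ^ m ≡ 0 [MOD 2 ^ (s + 1)] := (Nat.modEq_zero_iff_dvd).mpr hM
      have h8 := h7.symm.trans h6
      rw [hM2] at h8
      have h9 := (Nat.modEq_zero_iff_dvd).mp h8.symm
      have := Nat.le_of_dvd (by omega) h9
      omega

section irr

variable {F V : Type*} [Field F] [Finite F] [AddCommGroup V] [Module F V] [Finite V]

theorem dichotomy (x : Module.End F V) (r : ℕ) (hr : r.Prime) (hx : x ^ r = 1)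
    (hrq : r ∣ Nat.card F ^ Module.finrank F V - 1)
    (hprim : ∀ k, 0 < k → k < Module.finrank F V → ¬ r ∣ Nat.card F ^ k - 1)
    (W : Submodule F V) (hW : ∀ w ∈ W, x w ∈ W) :
    (∀ w ∈ W, x w = w) ∨ (W = ⊤ ∧ ∀ v, x v = v → v = 0) := by
  classical
  have : Fact r.Prime := ⟨hr⟩
  have hq : 2 ≤ Nat.card F := by
    have := Finite.one_lt_card (α := F)
    omega
  have : Fintype W := Fintype.ofFinite W
  let f : Function.End W := fun w => ⟨x w, hW w w.2⟩
  have hfk : ∀ k : ℕ, ∀ w : W, ((f ^ k) w : V) = (x ^ k) w := by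
    intro k
    induction k with
    | zero => intro w; rfl
    | succ k ih =>
      intro w
      rw [pow_succ', pow_succ']
      show x ((f ^ k) w : V) = x ((x ^ k) w)
      rw [ih]
  have hf : f ^ r ^ 1 = 1 := by
    rw [pow_one]
    funext w
    apply Subtype.ext
    rw [hfk, hx]
    rfl
  have hmod := Equiv.Perm.card_fixedPoints_modEq (p := r) (n := 1) hf
  let C : Submodule F W := LinearMap.ker ((x - 1).domRestrict W)
  have hC : ∀ w : W, w ∈ C ↔ x w = w := by
    intro w
    show (x - 1) (w : V) = 0 ↔ _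
    rw [LinearMap.sub_apply, Module.End.one_apply, sub_eq_zero]
  have hfix : Function.fixedPoints f = (C : Set W) := by
    ext w
    rw [Function.mem_fixedPoints, SetLike.mem_coe, hC]
    constructor
    · intro h
      exact congrArg Subtype.val h
    · intro h
      exact Subtype.ext h
  have hcard1 : Fintype.card (Function.fixedPoints f) = Nat.card C := by
    rw [← Nat.card_eq_fintype_card]
    exact Nat.card_congr (Equiv.setCongr hfix)
  rw [hcard1, ← Nat.card_eq_fintype_card, Module.natCard_eq_pow_finrank (K := F) (V := W),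
    Module.natCard_eq_pow_finrank (K := F) (V := C)] at hmod
  have hle1 : Module.finrank F C ≤ Module.finrank F W := Submodule.finrank_le C
  have hle2 : Module.finrank F W ≤ Module.finrank F V := Submodule.finrank_le W
  rcases arith _ r _ _ _ hr hrq hq hprim hle1 hle2 hmod with h | ⟨h1, h2⟩
  · left
    have hCtop : C = ⊤ := Submodule.eq_top_of_finrank_eq h
    intro w hw
    have : (⟨w, hw⟩ : W) ∈ C := by rw [hCtop]; trivial
    exact (hC ⟨w, hw⟩).mp this
  · right
    have hWtop : W = ⊤ := Submodule.eq_top_of_finrank_eq h2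
    refine ⟨hWtop, ?_⟩
    intro v hv
    have hCbot : C = ⊥ := Submodule.finrank_eq_zero.mp h1
    have hvW : v ∈ W := by rw [hWtop]; trivial
    have : (⟨v, hvW⟩ : W) ∈ C := (hC ⟨v, hvW⟩).mpr hv
    rw [hCbot, Submodule.mem_bot] at this
    exact congrArg Subtype.val this

theorem irreducible (x : Module.End F V) (r : ℕ) (hr : r.Prime) (hx : x ^ r = 1) (hx1 : x ≠ 1)
    (hrq : r ∣ Nat.card F ^ Module.finrank F V - 1)
    (hprim : ∀ k, 0 < k → k < Module.finrank F V → ¬ r ∣ Nat.card F ^ k - 1)
    (W : Submodule F V) (hW : ∀ w ∈ W, x w ∈ W) : W = ⊥ ∨ W = ⊤ := by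
  have h0 : ∀ v, x v = v → v = 0 := by
    rcases dichotomy x r hr hx hrq hprim ⊤ (fun _ _ => trivial) with h | h
    · exfalso
      apply hx1
      ext v
      exact h v trivial
    · exact h.2
  rcases dichotomy x r hr hx hrq hprim W hW with h | h
  · left
    rw [eq_bot_iff]
    intro w hw
    exact h0 w (h w hw)
  · exact Or.inr h.1

end irr

section main

variable {F K : Type*} [Field F] [Fintype F] [Field K] [Fintype K] [Algebra F K]

theorem ker_eq_bot_of_commute (x : Module.End F K) (r : ℕ) (hr : r.Prime) (hx : x ^ r = 1)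
    (hx1 : x ≠ 1) (hrq : r ∣ Nat.card F ^ Module.finrank F K - 1)
    (hprim : ∀ k, 0 < k → k < Module.finrank F K → ¬ r ∣ Nat.card F ^ k - 1)
    (e : Module.End F K) (he : x * e = e * x) (he0 : e ≠ 0) : LinearMap.ker e = ⊥ := by
  have hinv : ∀ w ∈ LinearMap.ker e, x w ∈ LinearMap.ker e := by
    intro w hw
    rw [LinearMap.mem_ker] at hw ⊢
    have : (e * x) w = (x * e) w := by rw [he]
    rw [Module.End.mul_apply, Module.End.mul_apply, hw, map_zero] at this
    exact this
  rcases irreducible x r hr hx hx1 hrq hprim _ hinv with h | h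
  · exact h
  · exfalso
    apply he0
    exact LinearMap.ker_eq_top.mp h

theorem exists_conj (U : Subgroup (Module.End F K)ˣ) (hU : IsMulCommutative U)
    (hcard : Nat.card U = Fintype.card K - 1)
    (r : ℕ) (hr : r.Prime) (hrq : r ∣ Nat.card F ^ Module.finrank F K - 1)
    (hprim : ∀ k, 0 < k → k < Module.finrank F K → ¬ r ∣ Nat.card F ^ k - 1) :
    ∃ g : (Module.End F K)ˣ, U.map (MulAut.conj g).toMonoidHom =
      (Units.map ((Algebra.lmul F K : K →ₐ[F] Module.End F K) : K →* Module.End F K)).range := by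
  classical
  have hr' : Fact r.Prime := ⟨hr⟩
  have hfinE : Finite (Module.End F K) := DFunLike.finite (K →ₗ[F] K)
  have hfinU : Finite (Module.End F K)ˣ := inferInstance
  have hKcard : Nat.card K = Nat.card F ^ Module.finrank F K :=
    Module.natCard_eq_pow_finrank (K := F) (V := K)
  have hcard' : Nat.card U = Nat.card F ^ Module.finrank F K - 1 := by
    rw [hcard, ← Nat.card_eq_fintype_card, hKcard]
  -- an element of order r
  obtain ⟨u₀, hu₀⟩ := exists_prime_orderOf_dvd_card' (G := U) r (by rw [hcard']; exact hrq)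
  set x : Module.End F K := ((u₀ : (Module.End F K)ˣ) : Module.End F K) with hxdef
  have hx : x ^ r = 1 := by
    have h1 : u₀ ^ r = 1 := by rw [← hu₀]; exact pow_orderOf_eq_one u₀
    have h2 := congrArg (fun u : U => ((u : (Module.End F K)ˣ) : Module.End F K)) h1
    simpa using h2
  have hx1 : x ≠ 1 := by
    intro h
    have h1 : u₀ = 1 := by
      apply Subtype.ext
      apply Units.ext
      exact h
    rw [h1, orderOf_one] at hu₀
    exact hr.one_lt.ne hu₀
  have hker : ∀ e : Module.End F K, x * e = e * x → e ≠ 0 → LinearMap.ker e = ⊥ :=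
    fun e he he0 => ker_eq_bot_of_commute x r hr hx hx1 hrq hprim e he he0
  let E : Subalgebra F (Module.End F K) := Subalgebra.centralizer F {x}
  have hEmem : ∀ e : Module.End F K, e ∈ E ↔ x * e = e * x := by
    intro e
    rw [Subalgebra.mem_centralizer_iff]
    simp
  let ev : E →ₗ[F] K :=
    { toFun := fun e => e.1 1, map_add' := fun a b => rfl, map_smul' := fun c a => rfl }
  have hev : Function.Injective ev := by
    rw [injective_iff_map_eq_zero]
    intro e he
    by_contra he0
    have h1 : (e : Module.End F K) ≠ 0 := fun h => he0 (Subtype.ext h)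
    have h2 := hker e.1 ((hEmem _).mp e.2) h1
    have h3 : (1 : K) ∈ LinearMap.ker e.1 := he
    rw [h2, Submodule.mem_bot] at h3
    exact one_ne_zero h3
  have hEcard : Nat.card E ≤ Nat.card K := Nat.card_le_card_of_injective ev hev
  have hUcomm : ∀ u : U, ((u : (Module.End F K)ˣ) : Module.End F K) ∈ E := by
    intro u
    rw [hEmem]
    have := hU.is_comm.comm u₀ u
    have h2 := congrArg (fun u : U => ((u : (Module.End F K)ˣ) : Module.End F K)) this
    simpa using h2
  let ι' : Option U → E := fun o => match o with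
    | none => 0
    | some u => ⟨_, hUcomm u⟩
  have hι' : Function.Injective ι' := by
    intro a b hab
    rcases a with _ | a <;> rcases b with _ | b
    · rfl
    · exfalso
      have := congrArg Subtype.val hab
      exact (Units.ne_zero _) this.symm
    · exfalso
      have := congrArg Subtype.val hab
      exact (Units.ne_zero _) this
    · congr 1
      apply Subtype.ext
      apply Units.ext
      exact congrArg Subtype.val hab
  have hq2 : 2 ≤ Nat.card F := by
    have := Finite.one_lt_card (α := F)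
    omega
  have hpos : 1 ≤ Nat.card F ^ Module.finrank F K := Nat.one_le_pow _ _ (by omega)
  have hbij : Function.Bijective ι' := hι'.bijective_of_nat_card_le (by
    rw [Finite.card_option, hcard']
    omega)
  have hEcard' : Nat.card E = Nat.card F ^ Module.finrank F K := by
    rw [← Nat.card_congr (Equiv.ofBijective ι' hbij), Finite.card_option, hcard']
    omega
  have hsurj : ∀ e : E, e = 0 ∨ ∃ u : U, e = ⟨_, hUcomm u⟩ := by
    intro e
    obtain ⟨o, ho⟩ := hbij.2 e
    rcases o with _ | u
    · left; exact ho.symm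
    · right; exact ⟨u, ho.symm⟩
  have hfield : IsField E :=
    { exists_pair_ne := ⟨0, 1, zero_ne_one⟩
      mul_comm := by
        intro a b
        rcases hsurj a with rfl | ⟨u, rfl⟩
        · simp
        · rcases hsurj b with rfl | ⟨v, rfl⟩
          · simp
          · apply Subtype.ext
            have := hU.is_comm.comm u v
            have h2 := congrArg (fun u : U => ((u : (Module.End F K)ˣ) : Module.End F K)) this
            simpa using h2
      mul_inv_cancel := by
        intro a ha
        rcases hsurj a with rfl | ⟨u, rfl⟩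
        · exact absurd rfl ha
        · refine ⟨⟨_, hUcomm u⁻¹⟩, ?_⟩
          apply Subtype.ext
          show ((u : (Module.End F K)ˣ) : Module.End F K) *
            (((u⁻¹ : U) : (Module.End F K)ˣ) : Module.End F K) = 1
          rw [← Units.val_mul, ← Subgroup.coe_mul, mul_inv_cancel, Subgroup.coe_one,
            Units.val_one] }
  let _instE : Field E := hfield.toField
  have hfr : Module.finrank F K ∣ Module.finrank F E := by
    have h1 : Nat.card E = Nat.card F ^ Module.finrank F E :=
      Module.natCard_eq_pow_finrank (K := F) (V := E)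
    rw [hEcard'] at h1
    have := Nat.pow_right_injective hq2 h1
    rw [this]
  obtain ⟨φ⟩ := FiniteField.nonempty_algHom_of_finrank_dvd (F := F) (K := K) (L := E) hfr
  have hφinj : Function.Injective φ := φ.toRingHom.injective
  let g₀ : K →ₗ[F] K := ev.comp φ.toLinearMap
  have hg₀ : ∀ k, g₀ k = (φ k).1 1 := fun k => rfl
  have hg₀inj : Function.Injective g₀ := hev.comp hφinj
  have hg₀mul : ∀ k k' : K, g₀ (k * k') = (φ k).1 (g₀ k') := by
    intro k k'
    rw [hg₀, hg₀, map_mul]
    rfl
  have hfd : FiniteDimensional F K := Module.Finite.of_finite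
  let G : K ≃ₗ[F] K := LinearEquiv.ofInjectiveEndo g₀ hg₀inj
  have hG : ∀ k, G k = g₀ k := fun k => rfl
  let Gu : (Module.End F K)ˣ :=
    ⟨G.toLinearMap, G.symm.toLinearMap, by ext k; simp, by ext k; simp⟩
  refine ⟨Gu⁻¹, ?_⟩
  symm
  apply Subgroup.eq_of_le_of_card_ge
  · rintro _ ⟨k, rfl⟩
    have hk0 : φ (k : K) ≠ 0 := by
      intro h
      have := hφinj (h.trans (map_zero φ).symm)
      exact k.ne_zero this
    rcases hsurj (φ (k : K)) with h | ⟨u, hu⟩
    · exact absurd h hk0
    · refine ⟨u, u.2, ?_⟩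
      show Gu⁻¹ * (u : (Module.End F K)ˣ) * (Gu⁻¹)⁻¹ = _
      rw [inv_inv, mul_assoc, inv_mul_eq_iff_eq_mul]
      apply Units.ext
      apply LinearMap.ext
      intro k'
      show ((u : (Module.End F K)ˣ) : Module.End F K) (G k') = G ((k : K) * k')
      rw [hG, hG, hg₀mul, hu]
  · rw [Subgroup.card_map_of_injective (MulEquiv.injective _), hcard]
    have hinj : Function.Injective (Units.map
        ((Algebra.lmul F K : K →ₐ[F] Module.End F K) : K →* Module.End F K)) := by
      intro a b hab
      apply Units.ext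
      have h1 := congrArg (fun u : (Module.End F K)ˣ => (u : Module.End F K) 1) hab
      simpa using h1
    rw [Nat.card_congr (MonoidHom.ofInjective hinj).toEquiv.symm, Nat.card_units,
      Nat.card_eq_fintype_card]

end main

end Cfsg.Agent.Lib.Helper5.SingerAbelian
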