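import Mathlib
import Cfsg.Prelude.Def_ClassicalGeometry
import Cfsg.Agent.Lib.Helper5.Sp4Orth
import Cfsg.Agent.Lib.Helper5.SL4Orth2
import Cfsg.Agent.Lib.Helper5.SL2Orth
import Cfsg.Agent.Lib.Helper5.SympCard
import Cfsg.Agent.Lib.Helper5.SympPerfect
import Cfsg.Agent.Lib.Helper5.SpinorNorm
import Cfsg.Agent.Lib.Helper5.PerfectCentral
import Cfsg.Agent.S0286

set_option autoImplicit false
open Cfsg

namespace Cfsg.Agent.Lib.Helper5.Sp4Orth

open Matrix QuadraticMap Cfsg.Agent.Lib.Helper5.OrthCard Cfsg.Agent.Lib.Helper5.SL4Orth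
  Cfsg.Agent.Lib.Helper5.SL2SL2Orth Cfsg.Agent.Lib.Helper5.SpinorHyp2

variable {F : Type*} [Field F] [Fintype F]

theorem card_ker_tau_le (h2 : (2 : F) ≠ 0) : Nat.card ↥(tau (F := F)).ker ≤ 2 := by
  have hspec : ∀ g : ↥(tau (F := F)).ker, ∃ a : F, a ^ 2 = 1 ∧
      ((g : ↥(Matrix.symplecticGroup (Fin 2) F)) : Matrix I4 I4 F) =
        a • (1 : Matrix I4 I4 F) := fun g =>
    (tau_eq_one_iff h2 g.1).mp (MonoidHom.mem_ker.mp g.2)
  have h00 : ∀ g : ↥(tau (F := F)).ker,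
      ((g : ↥(Matrix.symplecticGroup (Fin 2) F)) : Matrix I4 I4 F) (Sum.inl 0) (Sum.inl 0) ^ 2
        = 1 := by
    intro g
    obtain ⟨a, ha, hg⟩ := hspec g
    rw [hg]
    simpa using ha
  have hle : Nat.card ↥(tau (F := F)).ker ≤ Nat.card {a : F // a ^ 2 = 1} := by
    apply Nat.card_le_card_of_injective
      (fun g : ↥(tau (F := F)).ker =>
        (⟨((g : ↥(Matrix.symplecticGroup (Fin 2) F)) : Matrix I4 I4 F) (Sum.inl 0) (Sum.inl 0),
          h00 g⟩ : {a : F // a ^ 2 = 1}))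
    intro g g' hgg
    have h1 : ((g : ↥(Matrix.symplecticGroup (Fin 2) F)) : Matrix I4 I4 F) (Sum.inl 0) (Sum.inl 0) =
        ((g' : ↥(Matrix.symplecticGroup (Fin 2) F)) : Matrix I4 I4 F) (Sum.inl 0) (Sum.inl 0) :=
      congrArg Subtype.val hgg
    obtain ⟨a, -, hg⟩ := hspec g
    obtain ⟨a', -, hg'⟩ := hspec g'
    rw [hg, hg'] at h1
    simp at h1
    apply Subtype.ext
    apply Subtype.ext
    rw [hg, hg', h1]
  refine hle.trans ?_
  rw [card_sq_eq_one]
  exact Nat.le_of_dvd (by norm_num) (Nat.gcd_dvd_left _ _)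

theorem card_I5 : Fintype.card I5 = 5 := by
  simp only [Fintype.card_sum, Fintype.card_fin, Fintype.card_unit]

theorem Sp4_perfect (hq : 3 ≤ Fintype.card F) :
    commutator ↥(Matrix.symplecticGroup (Fin 2) F) = ⊤ :=
  Cfsg.Agent.Lib.Helper5.SympPerfect.perfect 2 (Or.inr (Or.inl ⟨rfl, hq⟩))

theorem tau_mem_commutator (hq : 3 ≤ Fintype.card F) (g : ↥(Matrix.symplecticGroup (Fin 2) F)) :
    tau g ∈ commutator ↥(isometryGroup F ⇑(oddForm 2 F)) := by
  have hg : g ∈ commutator ↥(Matrix.symplecticGroup (Fin 2) F) := by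
    rw [Sp4_perfect hq]; trivial
  rw [commutator_def] at hg ⊢
  have := Subgroup.mem_map_of_mem (tau (F := F)) hg
  rw [Subgroup.map_commutator] at this
  exact Subgroup.commutator_mono le_top le_top this

theorem card_O5 (h2 : (2 : F) ≠ 0) :
    Nat.card ↥(isometryGroup F ⇑(oddForm 2 F)) =
      2 * Nat.card ↥(Matrix.symplecticGroup (Fin 2) F) := by
  have := Cfsg.Agent.S0286.result (F := F) rfl (Cfsg.Agent.Lib.Helper5.SL2Orth.odd_card h2) 2
  rw [coe_oddForm, this, Cfsg.Agent.Lib.Helper5.SympCard.card_symplecticGroup]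
  ring

theorem range_tau (h2 : (2 : F) ≠ 0) :
    (tau (F := F)).range = commutator ↥(isometryGroup F ⇑(oddForm 2 F)) := by
  have hq : 3 ≤ Fintype.card F := by
    have h1 := Cfsg.Agent.Lib.Helper5.SL2Orth.odd_card h2
    have h3 : 1 < Fintype.card F := Fintype.one_lt_card
    obtain ⟨k, hk⟩ := h1
    omega
  have : Finite ↥(isometryGroup F ⇑(oddForm 2 F)) := inferInstance
  apply Subgroup.eq_of_le_of_card_ge
  · rintro _ ⟨p, rfl⟩
    exact tau_mem_commutator hq p
  · have h1 := Subgroup.card_mul_index (tau (F := F)).ker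
    rw [Subgroup.index_ker] at h1
    have hQ := oddForm_nondegenerate h2 2
    have hn : 2 ≤ Fintype.card I5 := by rw [card_I5]; omega
    have h3 := Subgroup.card_mul_index (commutator ↥(isometryGroup F ⇑(oddForm 2 F)))
    rw [Cfsg.Agent.Lib.Helper5.SpinorNorm.index_commutator (oddForm 2 F) h2 hQ hn, card_O5 h2,
      ← h1] at h3
    have h4 := card_ker_tau_le h2
    have h5 : Nat.card ↥(tau (F := F)).ker * Nat.card ↥(tau (F := F)).range ≤
        2 * Nat.card ↥(tau (F := F)).range := Nat.mul_le_mul_right _ h4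
    omega

/-- `PΩ_5(q) ≅ PSp_4(q)` for odd `q` -/
theorem nonempty_mulEquiv (h2 : (2 : F) ≠ 0) :
    Nonempty (Cfsg.POmega F ⇑(oddForm 2 F) ≃* Cfsg.PSp 2 F) := by
  have hq : 3 ≤ Fintype.card F := by
    have h1 := Cfsg.Agent.Lib.Helper5.SL2Orth.odd_card h2
    have h3 : 1 < Fintype.card F := Fintype.one_lt_card
    obtain ⟨k, hk⟩ := h1
    omega
  let f : ↥(Matrix.symplecticGroup (Fin 2) F) →*
      ↥(commutator ↥(isometryGroup F ⇑(oddForm 2 F))) :=
    tau.codRestrict _ (tau_mem_commutator hq)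
  have hf : Function.Surjective f := by
    rintro ⟨x, hx⟩
    rw [← range_tau h2] at hx
    obtain ⟨p, hp⟩ := hx
    exact ⟨p, Subtype.ext hp⟩
  have hker : f.ker ≤ Subgroup.center ↥(Matrix.symplecticGroup (Fin 2) F) := by
    intro g hg
    apply ker_tau_le_center h2
    rw [MonoidHom.mem_ker] at hg ⊢
    exact congrArg Subtype.val hg
  exact Cfsg.Agent.Lib.Helper5.PerfectCentral.nonempty_quotient_center_equiv (Sp4_perfect hq) f hf
    hker

end Cfsg.Agent.Lib.Helper5.Sp4Orth
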