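import Mathlib

set_option autoImplicit false

namespace Cfsg.Agent.Lib.Helper5.SpInvolBlocks

open Submodule Function

variable {F : Type*} [Field F] {V : Type*} [AddCommGroup V] [Module F V]
variable (B : LinearMap.BilinForm F V)

/-- nondegeneracy of the restriction of `B` to `M` -/
def Nondeg (M : Submodule F V) : Prop := ∀ u ∈ M, u ≠ 0 → ∃ v ∈ M, B u v ≠ 0

/-- the part of `M` orthogonal to `e` and `f` -/
def perp2 (M : Submodule F V) (e f : V) : Submodule F V :=
  M ⊓ (LinearMap.ker (B e) ⊓ LinearMap.ker (B f))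

theorem mem_perp2 {M : Submodule F V} {e f v : V} :
    v ∈ perp2 B M e f ↔ v ∈ M ∧ B e v = 0 ∧ B f v = 0 := by
  unfold perp2
  rw [mem_inf, mem_inf, LinearMap.mem_ker, LinearMap.mem_ker]

/-- a symplectic frame of `M` -/
structure Frame (M : Submodule F V) {ι : Type} (e f : ι → V) : Prop where
  e_mem : ∀ i, e i ∈ M
  f_mem : ∀ i, f i ∈ M
  ef : ∀ i, B (e i) (f i) = 1
  ee : ∀ i j, B (e i) (e j) = 0
  ff : ∀ i j, B (f i) (f j) = 0
  ef' : ∀ i j, i ≠ j → B (e i) (f j) = 0
  span : M ≤ span F (Set.range e ∪ Set.range f)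

section alt
variable (hB0 : ∀ v, B v v = 0) (hB : ∀ u v, B u v = - B v u)

include hB0 hB in
theorem proj_mem {M : Submodule F V} {e f : V} (he : e ∈ M) (hf : f ∈ M) (hef : B e f = 1)
    {v : V} (hv : v ∈ M) : v - B v f • e + B v e • f ∈ perp2 B M e f := by
  rw [mem_perp2]
  refine ⟨add_mem (sub_mem hv (smul_mem _ _ he)) (smul_mem _ _ hf), ?_, ?_⟩
  · simp only [map_add, map_sub, map_smul, smul_eq_mul, hef, hB0 e]
    rw [hB e v]; ring
  · simp only [map_add, map_sub, map_smul, smul_eq_mul, hB0 f]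
    rw [hB f e, hef, hB f v]; ring

include hB0 hB in
theorem nondeg_perp2 {M : Submodule F V} {e f : V} (he : e ∈ M) (hf : f ∈ M) (hef : B e f = 1)
    (hM : Nondeg B M) : Nondeg B (perp2 B M e f) := by
  intro u hu hu0
  obtain ⟨huM, hue, huf⟩ := (mem_perp2 B).mp hu
  obtain ⟨v, hv, hne⟩ := hM u huM hu0
  refine ⟨_, proj_mem B hB0 hB he hf hef hv, ?_⟩
  simp only [map_add, map_sub, map_smul, smul_eq_mul]
  rw [hB u e, hue, hB u f, huf]
  simpa using hne

include hB in
theorem perp2_lt {M : Submodule F V} {e f : V} (he : e ∈ M) (hef : B e f = 1) :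
    perp2 B M e f < M := by
  refine lt_of_le_of_ne inf_le_left ?_
  intro h
  have h1 : e ∈ perp2 B M e f := by rw [h]; exact he
  have h2 := ((mem_perp2 B).mp h1).2.2
  rw [hB f e, hef] at h2
  simp at h2

include hB0 hB in
theorem Frame.add_pair {M : Submodule F V} {e₀ f₀ : V} (he : e₀ ∈ M) (hf : f₀ ∈ M)
    (hef : B e₀ f₀ = 1) {ι : Type} {e f : ι → V} (h : Frame B (perp2 B M e₀ f₀) e f) :
    Frame B M (fun o : Option ι => o.elim e₀ e) (fun o : Option ι => o.elim f₀ f) where
  e_mem := by
    rintro (_ | i)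
    · exact he
    · exact ((mem_perp2 B).mp (h.e_mem i)).1
  f_mem := by
    rintro (_ | i)
    · exact hf
    · exact ((mem_perp2 B).mp (h.f_mem i)).1
  ef := by
    rintro (_ | i)
    · exact hef
    · exact h.ef i
  ee := by
    rintro (_ | i) (_ | j)
    · exact hB0 e₀
    · exact ((mem_perp2 B).mp (h.e_mem j)).2.1
    · change B (e i) e₀ = 0
      rw [hB, ((mem_perp2 B).mp (h.e_mem i)).2.1, neg_zero]
    · exact h.ee i j
  ff := by
    rintro (_ | i) (_ | j)
    · exact hB0 f₀
    · exact ((mem_perp2 B).mp (h.f_mem j)).2.2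
    · change B (f i) f₀ = 0
      rw [hB, ((mem_perp2 B).mp (h.f_mem i)).2.2, neg_zero]
    · exact h.ff i j
  ef' := by
    rintro (_ | i) (_ | j) hij
    · exact absurd rfl hij
    · exact ((mem_perp2 B).mp (h.f_mem j)).2.1
    · change B (e i) f₀ = 0
      rw [hB, ((mem_perp2 B).mp (h.e_mem i)).2.2, neg_zero]
    · exact h.ef' i j (fun hc => hij (by rw [hc]))
  span := by
    intro v hv
    have h1 := proj_mem B hB0 hB he hf hef hv
    have h2 : Submodule.span F (Set.range e ∪ Set.range f) ≤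
        Submodule.span F (Set.range (fun o : Option ι => o.elim e₀ e) ∪
          Set.range (fun o : Option ι => o.elim f₀ f)) := by
      apply span_mono
      rintro _ (⟨i, rfl⟩ | ⟨i, rfl⟩)
      · left; exact ⟨some i, rfl⟩
      · right; exact ⟨some i, rfl⟩
    have h3 := h2 (h.span h1)
    have he' : e₀ ∈ Submodule.span F (Set.range (fun o : Option ι => o.elim e₀ e) ∪
          Set.range (fun o : Option ι => o.elim f₀ f)) :=
      subset_span (Or.inl ⟨none, rfl⟩)
    have hf' : f₀ ∈ Submodule.span F (Set.range (fun o : Option ι => o.elim e₀ e) ∪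
          Set.range (fun o : Option ι => o.elim f₀ f)) :=
      subset_span (Or.inr ⟨none, rfl⟩)
    have : v = (v - B v f₀ • e₀ + B v e₀ • f₀) + B v f₀ • e₀ - B v e₀ • f₀ := by abel
    rw [this]
    exact sub_mem (add_mem h3 (smul_mem _ _ he')) (smul_mem _ _ hf')

end alt

/-- block structure of an isometry with scalar square -/
def HasBlocks (x : V →ₗ[F] V) (C : V → V → Prop) (sw : Prop) (M : Submodule F V) : Prop :=
  ∃ (ι : Type) (_ : Fintype ι) (e f : ι → V) (τ : ι → ι), Involutive τ ∧ Frame B M e f ∧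
    (∀ i, x (e i) ∈ span F {e (τ i), f (τ i)} ∧ x (f i) ∈ span F {e (τ i), f (τ i)}) ∧
    (∀ i, τ i = i → C (e i) (f i)) ∧ (¬ sw → ∀ i, τ i = i)

section main
variable (hB0 : ∀ v, B v v = 0) (hB : ∀ u v, B u v = - B v u)
variable (x : V →ₗ[F] V) (z : F) (hz : z ≠ 0) (hx : ∀ v, x (x v) = z • v)
  (hxB : ∀ u v, B (x u) (x v) = B u v)

include hz hx hxB in
/-- `B u (x v) = 0` when `v ⊥ z⁻¹ x u` -/
theorem apply_x_right (u v : V) : B u (x v) = z⁻¹ * B (x u) v := by
  have : u = x (z⁻¹ • x u) := by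
    rw [map_smul, hx, smul_smul, inv_mul_cancel₀ hz, one_smul]
  conv_lhs => rw [this]
  rw [hxB, map_smul, LinearMap.smul_apply, smul_eq_mul]

include hB0 hB hz hx hxB in
theorem exists_blocks [FiniteDimensional F V] (C : V → V → Prop) (sw : Prop)
    (hC : ∀ e f, C e f → x e ∈ span F {e, f} ∧ x f ∈ span F {e, f})
    (hpiece : ∀ M : Submodule F V, M ≠ ⊥ → (∀ v ∈ M, x v ∈ M) → Nondeg B M →
      (∃ e f, e ∈ M ∧ f ∈ M ∧ B e f = 1 ∧ C e f) ∨
      (sw ∧ ∃ e f, e ∈ M ∧ f ∈ M ∧ B e f = 1 ∧ B e (x e) = 0 ∧ B e (x f) = 0 ∧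
        B f (x e) = 0 ∧ B f (x f) = 0)) :
    ∀ (k : ℕ) (M : Submodule F V), Module.finrank F M = k → (∀ v ∈ M, x v ∈ M) → Nondeg B M →
      HasBlocks B x C sw M := by
  intro k
  induction k using Nat.strong_induction_on with
  | _ k ih =>
    intro M hk hinv hnd
    by_cases hbot : M = ⊥
    · subst hbot
      refine ⟨Empty, inferInstance, fun i => i.elim, fun i => i.elim, id, fun i => rfl,
        ⟨fun i => i.elim, fun i => i.elim, fun i => i.elim, fun i => i.elim, fun i => i.elim,
          fun i => i.elim, bot_le⟩, fun i => i.elim, fun i => i.elim, fun _ i => i.elim⟩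
    · rcases hpiece M hbot hinv hnd with ⟨e₀, f₀, he, hf, hef, hCef⟩ |
        ⟨hsw, e₀, f₀, he, hf, hef, h1, h2, h3, h4⟩
      · -- invariant plane
        have hlt := perp2_lt B hB he hef
        have hnd' := nondeg_perp2 B hB0 hB he hf hef hnd
        obtain ⟨hxe, hxf⟩ := hC e₀ f₀ hCef
        have hinv' : ∀ v ∈ perp2 B M e₀ f₀, x v ∈ perp2 B M e₀ f₀ := by
          intro v hv
          obtain ⟨hvM, hve, hvf⟩ := (mem_perp2 B).mp hv
          have hperp : ∀ y ∈ span F {e₀, f₀}, B y v = 0 := by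
            intro y hy
            obtain ⟨a, b, rfl⟩ := mem_span_pair.mp hy
            rw [map_add, map_smul, map_smul, LinearMap.add_apply, LinearMap.smul_apply,
              LinearMap.smul_apply, hve, hvf]
            simp
          rw [mem_perp2]
          refine ⟨hinv v hvM, ?_, ?_⟩
          · rw [apply_x_right B x z hz hx hxB, hperp _ hxe, mul_zero]
          · rw [apply_x_right B x z hz hx hxB, hperp _ hxf, mul_zero]
        obtain ⟨ι, _, e, f, τ, hτ, hfr, hact, hCτ, hswτ⟩ :=
          ih _ (by rw [← hk]; exact Submodule.finrank_lt_finrank_of_lt hlt) _ rfl hinv' hnd'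
        refine ⟨Option ι, inferInstance, fun o => o.elim e₀ e, fun o => o.elim f₀ f,
          Option.map τ, ?_, hfr.add_pair B hB0 hB he hf hef, ?_, ?_, ?_⟩
        · rintro (_ | i)
          · rfl
          · simp [hτ i]
        · rintro (_ | i)
          · exact ⟨hxe, hxf⟩
          · exact hact i
        · rintro (_ | i) hi
          · exact hCef
          · apply hCτ i
            simpa using hi
        · intro hnsw
          rintro (_ | i)
          · rfl
          · simp [hswτ hnsw i]
      · -- swapped pair of planes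
        have hlt := perp2_lt B hB he hef
        have hnd₁ := nondeg_perp2 B hB0 hB he hf hef hnd
        have he₁ : x e₀ ∈ perp2 B M e₀ f₀ := (mem_perp2 B).mpr ⟨hinv _ he, h1, h3⟩
        have hf₁ : x f₀ ∈ perp2 B M e₀ f₀ := (mem_perp2 B).mpr ⟨hinv _ hf, h2, h4⟩
        have hef₁ : B (x e₀) (x f₀) = 1 := by rw [hxB, hef]
        have hlt₁ := perp2_lt B hB he₁ hef₁
        have hnd₂ := nondeg_perp2 B hB0 hB he₁ hf₁ hef₁ hnd₁
        have hinv' : ∀ v ∈ perp2 B (perp2 B M e₀ f₀) (x e₀) (x f₀),
            x v ∈ perp2 B (perp2 B M e₀ f₀) (x e₀) (x f₀) := by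
          intro v hv
          obtain ⟨hv1, hve₁, hvf₁⟩ := (mem_perp2 B).mp hv
          obtain ⟨hvM, hve, hvf⟩ := (mem_perp2 B).mp hv1
          rw [mem_perp2, mem_perp2]
          refine ⟨⟨hinv v hvM, ?_, ?_⟩, ?_, ?_⟩
          · rw [apply_x_right B x z hz hx hxB, hve₁, mul_zero]
          · rw [apply_x_right B x z hz hx hxB, hvf₁, mul_zero]
          · rw [hxB, hve]
          · rw [hxB, hvf]
        have hlt₂ : Module.finrank F (perp2 B (perp2 B M e₀ f₀) (x e₀) (x f₀)) < k := by
          rw [← hk]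
          exact lt_trans (Submodule.finrank_lt_finrank_of_lt hlt₁)
            (Submodule.finrank_lt_finrank_of_lt hlt)
        obtain ⟨ι, _, e, f, τ, hτ, hfr, hact, hCτ, hswτ⟩ := ih _ hlt₂ _ rfl hinv' hnd₂
        refine ⟨Option (Option ι), inferInstance,
          fun o => o.elim e₀ (fun o' => o'.elim (x e₀) e),
          fun o => o.elim f₀ (fun o' => o'.elim (x f₀) f),
          fun o => o.elim (some none) (fun o' => o'.elim none (fun i => some (some (τ i)))), ?_,
          (hfr.add_pair B hB0 hB he₁ hf₁ hef₁).add_pair B hB0 hB he hf hef, ?_, ?_, ?_⟩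
        · rintro (_ | _ | i)
          · rfl
          · rfl
          · simp [hτ i]
        · rintro (_ | _ | i)
          · exact ⟨subset_span (by simp), subset_span (by simp)⟩
          · change x (x e₀) ∈ span F {e₀, f₀} ∧ x (x f₀) ∈ span F {e₀, f₀}
            rw [hx, hx]
            exact ⟨smul_mem _ _ (subset_span (by simp)), smul_mem _ _ (subset_span (by simp))⟩
          · exact hact i
        · rintro (_ | _ | i) hi
          · simp at hi
          · simp at hi
          · apply hCτ i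
            simpa using hi
        · intro hnsw
          exact absurd hsw hnsw

end main

end Cfsg.Agent.Lib.Helper5.SpInvolBlocks
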