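import Mathlib
import Cfsg.Agent.Lib.Helper5.SpInvolBlocks

set_option autoImplicit false

namespace Cfsg.Agent.Lib.Helper5.SpInvolPieces

open Submodule Function Cfsg.Agent.Lib.Helper5.SpInvolBlocks

variable {F : Type*} [Field F] {V : Type*} [AddCommGroup V] [Module F V]
variable (B : LinearMap.BilinForm F V)

section pieces
variable (hB : ∀ u v, B u v = - B v u)
variable (x : V →ₗ[F] V) (hxB : ∀ u v, B (x u) (x v) = B u v)

include hxB in
/-- involutions in odd characteristic: a hyperbolic pair of eigenvectors -/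
theorem piece_one (h2 : (2 : F) ≠ 0) (hx : ∀ v, x (x v) = v) (M : Submodule F V) (hM : M ≠ ⊥)
    (hinv : ∀ v ∈ M, x v ∈ M) (hnd : Nondeg B M) :
    ∃ e f, e ∈ M ∧ f ∈ M ∧ B e f = 1 ∧ ∃ ε : F, x e = ε • e ∧ x f = ε • f := by
  obtain ⟨v, hvM, hv0⟩ := Submodule.exists_mem_ne_zero_of_ne_bot hM
  have key : ∃ e ∈ M, e ≠ 0 ∧ ∃ ε : F, ε * ε = 1 ∧ x e = ε • e := by
    by_cases h : v + x v = 0
    · refine ⟨v - x v, sub_mem hvM (hinv v hvM), ?_, -1, by ring, ?_⟩
      · intro h'
        have : (2 : F) • v = 0 := by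
          rw [two_smul]
          calc v + v = (v + x v) + (v - x v) := by abel
            _ = 0 := by rw [h, h', add_zero]
        rcases smul_eq_zero.mp this with h3 | h3
        · exact h2 h3
        · exact hv0 h3
      · rw [map_sub, hx, neg_smul, one_smul, neg_sub]
    · refine ⟨v + x v, add_mem hvM (hinv v hvM), h, 1, by ring, ?_⟩
      rw [map_add, hx, one_smul, add_comm]
  obtain ⟨e, heM, he0, ε, hεε, hxe⟩ := key
  obtain ⟨f', hf'M, hne⟩ := hnd e heM he0
  have hxf'' : x (f' + ε • x f') = ε • (f' + ε • x f') := by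
    rw [map_add, map_smul, hx, smul_add, smul_smul, hεε, one_smul, add_comm]
  have hBe : B e (x f') = ε * B e f' := by
    have : e = ε • x e := by rw [hxe, smul_smul, hεε, one_smul]
    conv_lhs => rw [this]
    rw [map_smul, LinearMap.smul_apply, hxB, smul_eq_mul]
  have hBef'' : B e (f' + ε • x f') = 2 * B e f' := by
    rw [map_add, map_smul, hBe, smul_eq_mul, ← mul_assoc, hεε]; ring
  have hne'' : B e (f' + ε • x f') ≠ 0 := by rw [hBef'']; exact mul_ne_zero h2 hne
  refine ⟨e, (B e (f' + ε • x f'))⁻¹ • (f' + ε • x f'), heM,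
    smul_mem _ _ (add_mem hf'M (smul_mem _ _ (hinv _ hf'M))), ?_, ε, hxe, ?_⟩
  · rw [map_smul, smul_eq_mul, inv_mul_cancel₀ hne'']
  · rw [map_smul, hxf'', smul_comm]

include hB hxB in
/-- elements of square `-1` in odd characteristic: a hyperbolic pair `e, x e` -/
theorem piece_two (h2 : (2 : F) ≠ 0) (hx : ∀ v, x (x v) = -v) (M : Submodule F V) (hM : M ≠ ⊥)
    (hinv : ∀ v ∈ M, x v ∈ M) (hnd : Nondeg B M) :
    ∃ e f, e ∈ M ∧ f ∈ M ∧ B e f = 1 ∧ x e ∈ span F {f} ∧ x f ∈ span F {e} := by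
  have key : ∃ e ∈ M, B e (x e) ≠ 0 := by
    by_contra hcon
    push Not at hcon
    have hsym : ∀ u v, B v (x u) = B u (x v) := by
      intro u v
      have h1 : B (x u) v = B (x u) (x (-(x v))) := by rw [map_neg, hx, neg_neg]
      rw [hB v (x u), h1, hxB, map_neg, neg_neg]
    have hall : ∀ u ∈ M, ∀ v ∈ M, B u (x v) = 0 := by
      intro u hu v hv
      have h := hcon (u + v) (add_mem hu hv)
      simp only [map_add, LinearMap.add_apply] at h
      have e1 := hcon u hu
      have e2 := hcon v hv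
      have e3 := hsym u v
      have : (2 : F) * B u (x v) = 0 := by linear_combination h - e1 - e2 - e3
      rcases mul_eq_zero.mp this with h3 | h3
      · exact absurd h3 h2
      · exact h3
    obtain ⟨u, huM, hu0⟩ := Submodule.exists_mem_ne_zero_of_ne_bot hM
    obtain ⟨w, hwM, hne⟩ := hnd u huM hu0
    apply hne
    have : w = x (-(x w)) := by rw [map_neg, hx, neg_neg]
    rw [this]
    exact hall u huM _ (neg_mem (hinv _ hwM))
  obtain ⟨e, heM, hc⟩ := key
  refine ⟨e, (B e (x e))⁻¹ • x e, heM, smul_mem _ _ (hinv e heM),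
    by rw [map_smul, smul_eq_mul, inv_mul_cancel₀ hc], ?_, ?_⟩
  · rw [mem_span_singleton]
    exact ⟨B e (x e), by rw [smul_smul, mul_inv_cancel₀ hc, one_smul]⟩
  · rw [map_smul, hx, mem_span_singleton]
    exact ⟨-(B e (x e))⁻¹, by rw [neg_smul, smul_neg]⟩

include hB hxB in
/-- involutions in characteristic two: an invariant hyperbolic plane, or a swapped pair -/
theorem piece_three (h2 : (2 : F) = 0) (hx : ∀ v, x (x v) = v) (M : Submodule F V) (hM : M ≠ ⊥)
    (hinv : ∀ v ∈ M, x v ∈ M) (hnd : Nondeg B M) :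
    (∃ e f, e ∈ M ∧ f ∈ M ∧ B e f = 1 ∧ (x e ∈ span F {e, f} ∧ x f ∈ span F {e, f})) ∨
    (∃ e f, e ∈ M ∧ f ∈ M ∧ B e f = 1 ∧ B e (x e) = 0 ∧ B e (x f) = 0 ∧
        B f (x e) = 0 ∧ B f (x f) = 0) := by
  by_cases hc1 : ∃ u ∈ M, B u (x u) ≠ 0
  · obtain ⟨u, huM, hc⟩ := hc1
    left
    refine ⟨u, (B u (x u))⁻¹ • x u, huM, smul_mem _ _ (hinv u huM),
      by rw [map_smul, smul_eq_mul, inv_mul_cancel₀ hc], ?_, ?_⟩
    · rw [mem_span_pair]
      exact ⟨0, B u (x u), by rw [zero_smul, zero_add, smul_smul, mul_inv_cancel₀ hc, one_smul]⟩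
    · rw [map_smul, hx, mem_span_pair]
      exact ⟨(B u (x u))⁻¹, 0, by rw [zero_smul, add_zero]⟩
  · push Not at hc1
    have hsym : ∀ u ∈ M, ∀ v ∈ M, B u (x v) = B (x u) v := by
      intro u hu v hv
      have h := hc1 (u + v) (add_mem hu hv)
      simp only [map_add, LinearMap.add_apply] at h
      have e1 := hc1 u hu
      have e2 := hc1 v hv
      have e3 := hB v (x u)
      linear_combination h - e1 - e2 - e3
    by_cases hc2 : ∀ u ∈ M, x u = u
    · left
      obtain ⟨u, huM, hu0⟩ := Submodule.exists_mem_ne_zero_of_ne_bot hM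
      obtain ⟨v, hvM, hne⟩ := hnd u huM hu0
      refine ⟨u, (B u v)⁻¹ • v, huM, smul_mem _ _ hvM,
        by rw [map_smul, smul_eq_mul, inv_mul_cancel₀ hne], ?_, ?_⟩
      · rw [hc2 u huM]; exact subset_span (by simp)
      · rw [hc2 _ (smul_mem _ _ hvM)]; exact subset_span (by simp)
    · right
      push Not at hc2
      obtain ⟨u, huM, hxu⟩ := hc2
      have hw0 : x u - u ≠ 0 := sub_ne_zero.mpr hxu
      obtain ⟨v₀, hv₀M, hne⟩ := hnd (x u - u) (sub_mem (hinv u huM) huM) hw0
      obtain ⟨v, hvM, hwv⟩ : ∃ v ∈ M, B (x u - u) v = 1 :=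
        ⟨(B (x u - u) v₀)⁻¹ • v₀, smul_mem _ _ hv₀M,
          by rw [map_smul, smul_eq_mul, inv_mul_cancel₀ hne]⟩
      have hwv' : B (x u) v - B u v = 1 := by rw [← hwv, map_sub, LinearMap.sub_apply]
      obtain ⟨c, hc⟩ : ∃ c, c = B u v := ⟨_, rfl⟩
      have hcc : c + c = 0 := by rw [← two_mul, h2, zero_mul]
      have hv'M : v + c • (x v - v) ∈ M :=
        add_mem hvM (smul_mem _ _ (sub_mem (hinv v hvM) hvM))
      have huv' : B u (v + c • (x v - v)) = 0 := by
        rw [map_add, map_smul, map_sub, smul_eq_mul, hsym u huM v hvM, hwv', mul_one, ← hc, hcc]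
      have hxuv' : B (x u) (v + c • (x v - v)) = 1 := by
        rw [map_add, map_smul, map_sub, smul_eq_mul, hxB, ← hc]
        rw [← hc] at hwv'
        linear_combination (1 - c) * hwv'
      refine ⟨u, x (v + c • (x v - v)), huM, hinv _ hv'M, ?_, hc1 u huM, ?_, ?_, ?_⟩
      · rw [hsym u huM _ hv'M, hxuv']
      · rw [hx, huv']
      · rw [hxB, hB, huv', neg_zero]
      · rw [hx, hB, hc1 _ hv'M, neg_zero]

end pieces

section frame
variable {B}

theorem Frame.linearIndependent (hB : ∀ u v, B u v = - B v u) {M : Submodule F V} {ι : Type}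
    [Fintype ι] [DecidableEq ι] {e f : ι → V} (h : Frame B M e f) :
    LinearIndependent F (Sum.elim e f) := by
  rw [Fintype.linearIndependent_iff]
  intro g hg
  have h1 : ∀ j, B (∑ s, g s • Sum.elim e f s) (f j) = g (Sum.inl j) := by
    intro j
    rw [Fintype.sum_sum_type]
    simp only [Sum.elim_inl, Sum.elim_inr, map_add, map_sum, map_smul, LinearMap.add_apply,
      LinearMap.sum_apply, LinearMap.smul_apply, smul_eq_mul, h.ff, mul_zero,
      Finset.sum_const_zero, add_zero]
    rw [Finset.sum_eq_single j]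
    · rw [h.ef, mul_one]
    · intro i _ hij
      rw [h.ef' i j hij, mul_zero]
    · intro hj; exact absurd (Finset.mem_univ j) hj
  have h2 : ∀ j, B (∑ s, g s • Sum.elim e f s) (e j) = - g (Sum.inr j) := by
    intro j
    rw [Fintype.sum_sum_type]
    simp only [Sum.elim_inl, Sum.elim_inr, map_add, map_sum, map_smul, LinearMap.add_apply,
      LinearMap.sum_apply, LinearMap.smul_apply, smul_eq_mul, h.ee, mul_zero,
      Finset.sum_const_zero, zero_add]
    rw [Finset.sum_eq_single j]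
    · rw [hB, h.ef, mul_neg, mul_one]
    · intro i _ hij
      rw [hB, h.ef' j i (Ne.symm hij), neg_zero, mul_zero]
    · intro hj; exact absurd (Finset.mem_univ j) hj
  rintro (j | j)
  · rw [← h1 j, hg, map_zero, LinearMap.zero_apply]
  · have := h2 j
    rw [hg, map_zero, LinearMap.zero_apply] at this
    exact neg_eq_zero.mp this.symm

theorem Frame.span_eq_top {ι : Type} {e f : ι → V} (h : Frame B ⊤ e f) :
    Submodule.span F (Set.range (Sum.elim e f)) = ⊤ := by
  rw [Set.Sum.elim_range]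
  exact top_le_iff.mp h.span

end frame

end Cfsg.Agent.Lib.Helper5.SpInvolPieces
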