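import Mathlib
import Cfsg.Prelude.Def_GeometricClasses
import Cfsg.Agent.Lib.Helper5.SympBridge
import Cfsg.Agent.Lib.Helper5.InvolComb
import Cfsg.Agent.Lib.Helper5.DecompAssemble
import Cfsg.Agent.Lib.Helper5.InvolLinear
import Cfsg.Agent.Lib.Helper5.SpInvolBlocks
import Cfsg.Agent.Lib.Helper5.SpInvolPieces

set_option autoImplicit false
open Cfsg

namespace Cfsg.Agent.Lib.Helper5.SpInvolConcrete

open Matrix Submodule Function Cfsg.Agent.Lib.Helper5.SympTv Cfsg.Agent.Lib.Helper5.SympGen
  Cfsg.Agent.Lib.Helper5.SympBridge Cfsg.Agent.Lib.Helper5.SpInvolBlocks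
  Cfsg.Agent.Lib.Helper5.SpInvolPieces Cfsg.Agent.Lib.Helper5.DecompAssemble

section gen
variable {F : Type*} [Field F] {V : Type*} [AddCommGroup V] [Module F V]

theorem form_span_zero (B : LinearMap.BilinForm F V) {S T : Set V}
    (h : ∀ s ∈ S, ∀ t ∈ T, B s t = 0) : ∀ u ∈ span F S, ∀ v ∈ span F T, B u v = 0 := by
  intro u hu v hv
  have h1 : ∀ s ∈ S, span F T ≤ LinearMap.ker (B s) :=
    fun s hs => span_le.mpr (fun t ht => h s hs t ht)
  have h2 : span F S ≤ LinearMap.ker (LinearMap.flip B v) :=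
    span_le.mpr (fun s hs => by
      have := h1 s hs hv
      rw [LinearMap.mem_ker] at this
      rw [SetLike.mem_coe, LinearMap.mem_ker, LinearMap.flip_apply]
      exact this)
  have h3 := h2 hu
  rw [LinearMap.mem_ker, LinearMap.flip_apply] at h3
  exact h3

end gen

section conc
variable {F : Type*} [Field F] (d : ℕ)

theorem sympBilin_self (v : Fin d ⊕ Fin d → F) : sympBilin F d v v = 0 := sympForm_self d v

theorem sympBilin_swap (u v : Fin d ⊕ Fin d → F) : sympBilin F d u v = - sympBilin F d v u :=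
  sympForm_swap d u v

variable (x : ↥(Matrix.symplecticGroup (Fin d) F)) (z : F)
  (hz : ((x ^ 2 : ↥(Matrix.symplecticGroup (Fin d) F)) :
    Matrix (Fin d ⊕ Fin d) (Fin d ⊕ Fin d) F) = z • (1 : Matrix (Fin d ⊕ Fin d) (Fin d ⊕ Fin d) F))

/-- the linear map of a symplectic matrix -/
noncomputable def xl : (Fin d ⊕ Fin d → F) →ₗ[F] (Fin d ⊕ Fin d → F) :=
  Matrix.toLin' (x : Matrix (Fin d ⊕ Fin d) (Fin d ⊕ Fin d) F)

include hz in
theorem xl_sq (v : Fin d ⊕ Fin d → F) : xl d x (xl d x v) = z • v := by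
  unfold xl
  have hMM : (x : Matrix (Fin d ⊕ Fin d) (Fin d ⊕ Fin d) F) *
      (x : Matrix (Fin d ⊕ Fin d) (Fin d ⊕ Fin d) F) = z • 1 := by
    rw [← hz, pow_two]; rfl
  rw [Matrix.toLin'_apply, Matrix.toLin'_apply, Matrix.mulVec_mulVec, hMM, Matrix.smul_mulVec,
    Matrix.one_mulVec]

theorem xl_form (u v : Fin d ⊕ Fin d → F) :
    sympBilin F d (xl d x u) (xl d x v) = sympBilin F d u v := by
  unfold xl
  rw [sympBilin_apply, sympBilin_apply, Matrix.toLin'_apply, Matrix.toLin'_apply]
  exact sympForm_mulVec d x.2 u v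

include hz in
theorem z_sq (hd : 1 ≤ d) : z * z = 1 := by
  have h1 : sympBilin F d (xl d x (xl d x (Pi.single (Sum.inr ⟨0, hd⟩) 1)))
      (xl d x (xl d x (Pi.single (Sum.inl ⟨0, hd⟩) 1))) =
      sympBilin F d (Pi.single (Sum.inr ⟨0, hd⟩) 1) (Pi.single (Sum.inl ⟨0, hd⟩) 1) := by
    rw [xl_form, xl_form]
  rw [xl_sq d x z hz, xl_sq d x z hz] at h1
  simp only [map_smul, LinearMap.smul_apply, smul_eq_mul, sympBilin_apply, sympForm_single_inl,
    Pi.single_eq_same, mul_one] at h1
  exact h1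

include hz in
theorem z_ne_zero (hd : 1 ≤ d) : z ≠ 0 := by
  intro h
  have := z_sq d x z hz hd
  rw [h, mul_zero] at this
  exact zero_ne_one this

theorem nondeg_top : Nondeg (sympBilin F d) ⊤ := by
  intro u _ hu
  by_contra hcon
  push Not at hcon
  exact hu (eq_zero_of_sympForm_right d u (fun v => hcon v mem_top))

include hz in
/-- the block structure of a symplectic element with scalar square, in general -/
theorem hasBlocks_gen [Finite F] (hd : 1 ≤ d) :
    HasBlocks (sympBilin F d) (xl d x)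
      (fun e f => xl d x e ∈ span F {e, f} ∧ xl d x f ∈ span F {e, f}) True ⊤ := by
  have hzz := z_sq d x z hz hd
  have hz0 := z_ne_zero d x z hz hd
  apply exists_blocks (sympBilin F d) (sympBilin_self d) (sympBilin_swap d) (xl d x) z hz0
    (xl_sq d x z hz) (xl_form d x) _ True (fun e f h => h) ?_ _ ⊤ rfl
    (fun v _ => mem_top) (nondeg_top d)
  intro M hM hinv hnd
  by_cases h2 : (2 : F) = 0
  · have hz1 : z = 1 := by
      have : (z - 1) * (z - 1) = 0 := by
        have : (z - 1) * (z - 1) = z * z - 2 * z + 1 := by ring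
        rw [this, hzz, h2, zero_mul, sub_zero, ← two_mul, h2, zero_mul]
      exact sub_eq_zero.mp (mul_self_eq_zero.mp this)
    have hx1 : ∀ v, xl d x (xl d x v) = v := fun v => by rw [xl_sq d x z hz, hz1, one_smul]
    rcases piece_three (sympBilin F d) (sympBilin_swap d) (xl d x) (xl_form d x) h2 hx1 M hM hinv
      hnd with h | h
    · left; exact h
    · right; exact ⟨trivial, h⟩
  · left
    have hz1 : z = 1 ∨ z = -1 := by
      have : (z - 1) * (z + 1) = 0 := by
        have : (z - 1) * (z + 1) = z * z - 1 := by ring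
        rw [this, hzz, sub_self]
      rcases mul_eq_zero.mp this with h | h
      · left; exact sub_eq_zero.mp h
      · right; exact eq_neg_of_add_eq_zero_left h
    rcases hz1 with hz1 | hz1
    · have hx1 : ∀ v, xl d x (xl d x v) = v := fun v => by rw [xl_sq d x z hz, hz1, one_smul]
      obtain ⟨e, f, he, hf, hef, ε, hxe, hxf⟩ :=
        piece_one (sympBilin F d) (xl d x) (xl_form d x) h2 hx1 M hM hinv hnd
      refine ⟨e, f, he, hf, hef, ?_, ?_⟩
      · rw [hxe]; exact smul_mem _ _ (subset_span (by simp))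
      · rw [hxf]; exact smul_mem _ _ (subset_span (by simp))
    · have hx1 : ∀ v, xl d x (xl d x v) = -v := fun v => by
        rw [xl_sq d x z hz, hz1, neg_smul, one_smul]
      obtain ⟨e, f, he, hf, hef, hxe, hxf⟩ :=
        piece_two (sympBilin F d) (sympBilin_swap d) (xl d x) (xl_form d x) h2 hx1 M hM hinv hnd
      refine ⟨e, f, he, hf, hef, ?_, ?_⟩
      · exact span_mono (by simp) hxe
      · exact span_mono (by simp) hxf

include hz in
/-- every symplectic element with scalar square stabilises an orthogonal decomposition into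
nondegenerate subspaces of dimension `a` -/
theorem stabilises_decomp [Finite F] (hd : 1 ≤ d) (a t : ℕ) (hat : 2 * d = a * t) (ha : 2 ≤ a)
    (hae : Even a) (ht : 2 ≤ t) :
    ∃ D : Fin t → Submodule F (Fin d ⊕ Fin d → F), (Cfsg.Geo.IsMDecomposition a D ∧
      (∀ j, ∀ u ∈ D j, u ≠ 0 → ∃ v ∈ D j, Cfsg.sympForm d F u v ≠ 0) ∧
      (∀ j j', j ≠ j' → ∀ u ∈ D j, ∀ v ∈ D j', Cfsg.sympForm d F u v = 0)) ∧
      ∃ σ : Equiv.Perm (Fin t), ∀ j, (D j).map
        (Matrix.toLin' (x : Matrix (Fin d ⊕ Fin d) (Fin d ⊕ Fin d) F)) = D (σ j) := by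
  classical
  obtain ⟨ι, _, e, f, τ, hτ, hfr, hact, -, -⟩ := hasBlocks_gen d x z hz hd
  have hli := Frame.linearIndependent (sympBilin_swap d) hfr
  have hsp := Frame.span_eq_top hfr
  obtain ⟨c, hc⟩ := hae
  have hcard : Fintype.card ι = c * t := by
    have h1 := Module.finrank_eq_card_basis (Module.Basis.mk hli hsp.ge)
    rw [Module.finrank_fintype_fun_eq_card, Fintype.card_sum, Fintype.card_sum, Fintype.card_fin]
      at h1
    have : 2 * Fintype.card ι = 2 * (c * t) := by
      rw [← mul_assoc, two_mul c, ← hc, ← hat]; omega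
    omega
  obtain ⟨g, σ, hg, hgσ⟩ := Cfsg.Agent.Lib.Helper5.InvolComb.exists_chunking τ hτ c t
    (by omega) hcard
  have hG : ∀ j, Fintype.card {s : ι ⊕ ι // Sum.elim g g s = j} = a := by
    intro j
    have hg' : Nat.card {i // g i = j} = c := by
      have := hg j
      rw [← Nat.card_eq_fintype_card] at this
      exact this
    rw [← Nat.card_eq_fintype_card,
      Nat.card_congr (Equiv.subtypeSum (p := fun s : ι ⊕ ι => Sum.elim g g s = j)), Nat.card_sum]
    simp only [Sum.elim_inl, Sum.elim_inr]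
    rw [hg', hc]
  have hz0 := z_ne_zero d x z hz hd
  have hinj : Function.Injective (xl d x) :=
    Cfsg.Agent.Lib.Helper5.InvolLinear.injective_of_sq _ z hz0 (xl_sq d x z hz)
  have horth : ∀ j j', j ≠ j' → ∀ u ∈ blk (F := F) (Sum.elim e f) (Sum.elim g g) j,
      ∀ v ∈ blk (F := F) (Sum.elim e f) (Sum.elim g g) j', sympBilin F d u v = 0 := by
    intro j j' hjj'
    apply form_span_zero
    rintro _ ⟨s, hs, rfl⟩ _ ⟨s', hs', rfl⟩
    rw [Set.mem_ofPred_eq] at hs hs'
    rcases s with i | i <;> rcases s' with i' | i'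
    · exact hfr.ee i i'
    · apply hfr.ef' i i'
      rintro rfl
      simp only [Sum.elim_inl, Sum.elim_inr] at hs hs'
      exact hjj' (hs.symm.trans hs')
    · simp only [Sum.elim_inl, Sum.elim_inr]
      rw [sympBilin_swap, hfr.ef' i' i, neg_zero]
      rintro rfl
      simp only [Sum.elim_inl, Sum.elim_inr] at hs hs'
      exact hjj' (hs.symm.trans hs')
    · exact hfr.ff i i'
  have hdec := isMDecomposition (Sum.elim g g) hli hsp a (by omega) ht hG
  refine ⟨blk (Sum.elim e f) (Sum.elim g g), ⟨hdec, ?_, ?_⟩, σ, ?_⟩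
  · intro j u hu hu0
    by_contra hcon
    push Not at hcon
    apply hu0
    apply eq_zero_of_sympForm_right d u
    intro v
    have hle : (⨆ k, blk (F := F) (Sum.elim e f) (Sum.elim g g) k) ≤
        LinearMap.ker (sympBilin F d u) := by
      apply iSup_le
      intro k w hw
      rw [LinearMap.mem_ker]
      by_cases hkj : k = j
      · subst hkj; exact hcon w hw
      · exact horth j k (Ne.symm hkj) u hu w hw
    have hv : v ∈ (⨆ k, blk (F := F) (Sum.elim e f) (Sum.elim g g) k) := by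
      rw [hdec.iSup_eq_top]; exact mem_top
    have := hle hv
    rw [LinearMap.mem_ker] at this
    exact this
  · intro j j' hjj' u hu v hv
    exact horth j j' hjj' u hu v hv
  · apply map_blk (Sum.elim g g) hli a hG (xl d x) hinj σ
    have hle : ∀ i, span F {e (τ i), f (τ i)} ≤
        blk (F := F) (Sum.elim e f) (Sum.elim g g) (σ (g i)) := by
      intro i
      rw [span_le, ← hgσ i]
      rintro _ (rfl | rfl)
      · exact mem_blk (Sum.elim e f) (Sum.elim g g) (Sum.inl (τ i))
      · exact mem_blk (Sum.elim e f) (Sum.elim g g) (Sum.inr (τ i))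
    rintro (i | i)
    · exact hle i (hact i).1
    · exact hle i (hact i).2

include hz in
/-- in odd characteristic, a symplectic element with scalar square fixes or swaps the members of
a pair of complementary totally isotropic subspaces -/
theorem polar_pair [Finite F] (hd : 1 ≤ d) (h2 : (2 : F) ≠ 0) :
    ∃ U W : Submodule F (Fin d ⊕ Fin d → F), IsCompl U W ∧
      (∀ u ∈ U, ∀ v ∈ U, Cfsg.sympForm d F u v = 0) ∧
      (∀ u ∈ W, ∀ v ∈ W, Cfsg.sympForm d F u v = 0) ∧
      ((U.map (Matrix.toLin' (x : Matrix (Fin d ⊕ Fin d) (Fin d ⊕ Fin d) F)) = U ∧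
        W.map (Matrix.toLin' (x : Matrix (Fin d ⊕ Fin d) (Fin d ⊕ Fin d) F)) = W) ∨
       (U.map (Matrix.toLin' (x : Matrix (Fin d ⊕ Fin d) (Fin d ⊕ Fin d) F)) = W ∧
        W.map (Matrix.toLin' (x : Matrix (Fin d ⊕ Fin d) (Fin d ⊕ Fin d) F)) = U)) := by
  classical
  have hzz := z_sq d x z hz hd
  have hz0 := z_ne_zero d x z hz hd
  have hinj : Function.Injective (xl d x) :=
    Cfsg.Agent.Lib.Helper5.InvolLinear.injective_of_sq _ z hz0 (xl_sq d x z hz)
  have hmap : ∀ U W : Submodule F (Fin d ⊕ Fin d → F), U.map (xl d x) ≤ W →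
      Module.finrank F U = Module.finrank F W → U.map (xl d x) = W := by
    intro U W hle hfin
    apply Submodule.eq_of_le_of_finrank_eq hle
    rw [← hfin]
    exact (Submodule.equivMapOfInjective (xl d x) hinj U).finrank_eq.symm
  -- common conclusion from a frame
  have hcommon : ∀ (ι : Type) [Fintype ι] (e f : ι → (Fin d ⊕ Fin d → F)),
      Frame (sympBilin F d) ⊤ e f →
      IsCompl (span F (Set.range e)) (span F (Set.range f)) ∧
      (∀ u ∈ span F (Set.range e), ∀ v ∈ span F (Set.range e), Cfsg.sympForm d F u v = 0) ∧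
      (∀ u ∈ span F (Set.range f), ∀ v ∈ span F (Set.range f), Cfsg.sympForm d F u v = 0) ∧
      Module.finrank F (span F (Set.range e)) = Module.finrank F (span F (Set.range f)) := by
    intro ι _ e f hfr
    have hli := Frame.linearIndependent (sympBilin_swap d) hfr
    obtain ⟨hle, hlf, hdisj⟩ := linearIndependent_sum.mp hli
    rw [Sum.elim_comp_inl, Sum.elim_comp_inr] at hdisj
    rw [Sum.elim_comp_inl] at hle
    rw [Sum.elim_comp_inr] at hlf
    refine ⟨⟨hdisj, ?_⟩, ?_, ?_, ?_⟩
    · rw [codisjoint_iff, ← span_union]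
      exact top_le_iff.mp hfr.span
    · apply form_span_zero (sympBilin F d)
      rintro _ ⟨i, rfl⟩ _ ⟨j, rfl⟩
      exact hfr.ee i j
    · apply form_span_zero (sympBilin F d)
      rintro _ ⟨i, rfl⟩ _ ⟨j, rfl⟩
      exact hfr.ff i j
    · rw [finrank_span_eq_card hle, finrank_span_eq_card hlf]
  have hz1 : z = 1 ∨ z = -1 := by
    have : (z - 1) * (z + 1) = 0 := by
      have : (z - 1) * (z + 1) = z * z - 1 := by ring
      rw [this, hzz, sub_self]
    rcases mul_eq_zero.mp this with h | h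
    · left; exact sub_eq_zero.mp h
    · right; exact eq_neg_of_add_eq_zero_left h
  rcases hz1 with hz1 | hz1
  · have hx1 : ∀ v, xl d x (xl d x v) = v := fun v => by rw [xl_sq d x z hz, hz1, one_smul]
    obtain ⟨ι, _, e, f, τ, hτ, hfr, hact, hCτ, hswτ⟩ :=
      exists_blocks (sympBilin F d) (sympBilin_self d) (sympBilin_swap d) (xl d x) z hz0
        (xl_sq d x z hz) (xl_form d x)
        (fun e f => ∃ ε : F, xl d x e = ε • e ∧ xl d x f = ε • f) False
        (fun e f h => by
          obtain ⟨ε, h1, h2⟩ := h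
          rw [h1, h2]
          exact ⟨smul_mem _ _ (subset_span (by simp)), smul_mem _ _ (subset_span (by simp))⟩)
        (fun M hM hinv hnd => Or.inl
          (piece_one (sympBilin F d) (xl d x) (xl_form d x) h2 hx1 M hM hinv hnd))
        _ ⊤ rfl (fun v _ => mem_top) (nondeg_top d)
    have hC : ∀ i, ∃ ε : F, xl d x (e i) = ε • e i ∧ xl d x (f i) = ε • f i :=
      fun i => hCτ i (hswτ not_false i)
    obtain ⟨hcompl, hU, hW, hfin⟩ := hcommon ι e f hfr
    refine ⟨span F (Set.range e), span F (Set.range f), hcompl, hU, hW, Or.inl ⟨?_, ?_⟩⟩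
    · apply hmap _ _ _ rfl
      rw [Submodule.map_span, span_le]
      rintro _ ⟨_, ⟨i, rfl⟩, rfl⟩
      obtain ⟨ε, h1, -⟩ := hC i
      rw [h1]
      exact smul_mem _ _ (subset_span ⟨i, rfl⟩)
    · apply hmap _ _ _ rfl
      rw [Submodule.map_span, span_le]
      rintro _ ⟨_, ⟨i, rfl⟩, rfl⟩
      obtain ⟨ε, -, h1⟩ := hC i
      rw [h1]
      exact smul_mem _ _ (subset_span ⟨i, rfl⟩)
  · have hx1 : ∀ v, xl d x (xl d x v) = -v := fun v => by
      rw [xl_sq d x z hz, hz1, neg_smul, one_smul]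
    obtain ⟨ι, _, e, f, τ, hτ, hfr, hact, hCτ, hswτ⟩ :=
      exists_blocks (sympBilin F d) (sympBilin_self d) (sympBilin_swap d) (xl d x) z hz0
        (xl_sq d x z hz) (xl_form d x)
        (fun e f => xl d x e ∈ span F {f} ∧ xl d x f ∈ span F {e}) False
        (fun e f h => ⟨span_mono (by simp) h.1, span_mono (by simp) h.2⟩)
        (fun M hM hinv hnd => Or.inl
          (piece_two (sympBilin F d) (sympBilin_swap d) (xl d x) (xl_form d x) h2 hx1 M hM hinv
            hnd))
        _ ⊤ rfl (fun v _ => mem_top) (nondeg_top d)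
    have hC : ∀ i, xl d x (e i) ∈ span F {f i} ∧ xl d x (f i) ∈ span F {e i} :=
      fun i => hCτ i (hswτ not_false i)
    obtain ⟨hcompl, hU, hW, hfin⟩ := hcommon ι e f hfr
    refine ⟨span F (Set.range e), span F (Set.range f), hcompl, hU, hW, Or.inr ⟨?_, ?_⟩⟩
    · apply hmap _ _ _ hfin
      rw [Submodule.map_span, span_le]
      rintro _ ⟨_, ⟨i, rfl⟩, rfl⟩
      exact span_mono (by rintro _ rfl; exact ⟨i, rfl⟩) (hC i).1
    · apply hmap _ _ _ hfin.symm
      rw [Submodule.map_span, span_le]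
      rintro _ ⟨_, ⟨i, rfl⟩, rfl⟩
      exact span_mono (by rintro _ rfl; exact ⟨i, rfl⟩) (hC i).2

end conc

end Cfsg.Agent.Lib.Helper5.SpInvolConcrete
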