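import Mathlib

set_option autoImplicit false

namespace Cfsg.Agent.Lib.Helper5.SpTorusPerm

open Equiv Equiv.Perm

/-- the partner involution -/
def tau (m : ℕ) : Perm (Fin m ⊕ Fin m) := Equiv.sumComm (Fin m) (Fin m)

@[simp] theorem tau_inl (m : ℕ) (k : Fin m) : tau m (Sum.inl k) = Sum.inr k := rfl
@[simp] theorem tau_inr (m : ℕ) (k : Fin m) : tau m (Sum.inr k) = Sum.inl k := rfl

theorem tau_tau (m : ℕ) (i : Fin m ⊕ Fin m) : tau m (tau m i) = i := by
  rcases i with k | k <;> rfl

theorem tau_ne (m : ℕ) (i : Fin m ⊕ Fin m) : tau m i ≠ i := by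
  rcases i with k | k <;> simp

theorem tau_sq (m : ℕ) : tau m ^ 2 = 1 := by
  ext i
  rw [pow_two, Perm.mul_apply, tau_tau, Perm.one_apply]

theorem cycleType_tau (m : ℕ) : (tau m).cycleType = Multiset.replicate m 2 := by
  have h2 : ∀ n ∈ (tau m).cycleType, n = 2 := by
    intro n hn
    have h1 : n ∣ 2 := (dvd_of_mem_cycleType hn).trans (orderOf_dvd_of_pow_eq_one (tau_sq m))
    have h3 := two_le_of_mem_cycleType hn
    exact le_antisymm (Nat.le_of_dvd zero_lt_two h1) h3
  have h3 := Multiset.eq_replicate_card.mpr h2
  have h4 := (tau m).sum_cycleType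
  have hsupp : (tau m).support = Finset.univ := by
    ext i
    simp only [Perm.mem_support, Finset.mem_univ, iff_true]
    exact tau_ne m i
  rw [hsupp, Finset.card_univ, Fintype.card_sum, Fintype.card_fin, h3, Multiset.sum_replicate,
    smul_eq_mul] at h4
  have : Multiset.card (tau m).cycleType = m := by omega
  rw [h3, this]

theorem card_centralizer_tau (m : ℕ) :
    Nat.card (Subgroup.centralizer {tau m}) = 2 ^ m * Nat.factorial m := by
  rw [nat_card_centralizer, cycleType_tau, Multiset.sum_replicate, Multiset.prod_replicate,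
    Fintype.card_sum, Fintype.card_fin, smul_eq_mul]
  rcases Nat.eq_zero_or_pos m with rfl | hm
  · simp
  · have : (Multiset.replicate m 2).toFinset = {2} := by
      ext n
      simp only [Multiset.mem_toFinset, Multiset.mem_replicate, Finset.mem_singleton]
      constructor
      · exact fun h => h.2
      · exact fun h => ⟨by omega, h⟩
    rw [this, Finset.prod_singleton, Multiset.count_replicate_self]
    have : m + m - m * 2 = 0 := by omega
    rw [this, Nat.factorial_zero, one_mul]

end Cfsg.Agent.Lib.Helper5.SpTorusPerm
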