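import Mathlib
import Cfsg.Prelude.Def_ClassicalGeometry
import Cfsg.Agent.Lib.Helper5.SympTv
import Cfsg.Agent.Lib.Helper5.SympGen
import Cfsg.Agent.Lib.Helper5.SympBridge
import Cfsg.Agent.Lib.Helper5.SpTorusPerm

set_option autoImplicit false
open Cfsg

namespace Cfsg.Agent.Lib.Helper5.SpTorusNorm

open Matrix Cfsg.Agent.Lib.Helper5.SympTv Cfsg.Agent.Lib.Helper5.SympGen
  Cfsg.Agent.Lib.Helper5.SympBridge Cfsg.Agent.Lib.Helper5.SpTorusPerm

variable {F : Type*} [Field F] (m : ℕ)

/-- sign function -/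
def sg (F : Type*) [Field F] (m : ℕ) : Fin m ⊕ Fin m → F := Sum.elim (fun _ => -1) (fun _ => 1)

theorem sg_mul_self (i : Fin m ⊕ Fin m) : sg F m i * sg F m i = 1 := by
  rcases i with k | k <;> simp [sg]

theorem sg_tau (i : Fin m ⊕ Fin m) : sg F m (tau m i) = - sg F m i := by
  rcases i with k | k <;> simp [sg]

theorem sg_ne_zero (i : Fin m ⊕ Fin m) : sg F m i ≠ 0 := by
  intro h
  have := sg_mul_self (F := F) m i
  rw [h, zero_mul] at this
  exact zero_ne_one this

theorem sympForm_eq_sum (u v : Fin m ⊕ Fin m → F) :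
    sympForm m F u v = ∑ i, sg F m i * u i * v (tau m i) := by
  unfold sympForm
  simp [dotProduct, mulVec, J, Fintype.sum_sum_type, Matrix.one_apply, sg]

/-- monomial matrix with column `j` equal to `c j • e_{σ j}` -/
def monMat (σ : Equiv.Perm (Fin m ⊕ Fin m)) (c : Fin m ⊕ Fin m → F) :
    Matrix (Fin m ⊕ Fin m) (Fin m ⊕ Fin m) F :=
  Matrix.of fun i j => if i = σ j then c j else 0

theorem monMat_apply (σ : Equiv.Perm (Fin m ⊕ Fin m)) (c : Fin m ⊕ Fin m → F)
    (i j : Fin m ⊕ Fin m) : monMat m σ c i j = if i = σ j then c j else 0 := rfl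

theorem monMat_mulVec (σ : Equiv.Perm (Fin m ⊕ Fin m)) (c v : Fin m ⊕ Fin m → F)
    (i : Fin m ⊕ Fin m) : (monMat m σ c *ᵥ v) i = c (σ.symm i) * v (σ.symm i) := by
  rw [mulVec, dotProduct, Finset.sum_eq_single (σ.symm i)]
  · rw [monMat_apply, Equiv.apply_symm_apply, if_pos rfl]
  · intro j _ hj
    rw [monMat_apply, if_neg, zero_mul]
    intro h
    apply hj
    rw [h, Equiv.symm_apply_apply]
  · intro h
    exact absurd (Finset.mem_univ _) h

theorem monMat_one (c : Fin m ⊕ Fin m → F) : monMat m 1 c = Matrix.diagonal c := by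
  ext i j
  rw [monMat_apply, Equiv.Perm.one_apply, Matrix.diagonal_apply]
  by_cases h : i = j
  · subst h; simp
  · rw [if_neg h, if_neg h]

theorem monMat_mem (σ : Equiv.Perm (Fin m ⊕ Fin m)) (c : Fin m ⊕ Fin m → F)
    (hσ : ∀ i, σ (tau m i) = tau m (σ i))
    (hc : ∀ j, sg F m (σ j) * c j * c (tau m j) = sg F m j) :
    monMat m σ c ∈ symplecticGroup (Fin m) F := by
  rw [mem_symplectic_iff]
  intro u v
  rw [sympForm_eq_sum, sympForm_eq_sum, ← Equiv.sum_comp σ]
  apply Finset.sum_congr rfl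
  intro j _
  rw [monMat_mulVec, monMat_mulVec, σ.symm_apply_apply, ← hσ, σ.symm_apply_apply, ← hc j]
  ring

theorem mem_span_single_iff (j : Fin m ⊕ Fin m) (v : Fin m ⊕ Fin m → F) :
    v ∈ Submodule.span F {(Pi.single j (1 : F) : Fin m ⊕ Fin m → F)} ↔ ∀ i, i ≠ j → v i = 0 := by
  rw [Submodule.mem_span_singleton]
  constructor
  · rintro ⟨a, rfl⟩ i hi
    simp [hi]
  · intro h
    refine ⟨v j, ?_⟩
    ext i
    by_cases hi : i = j
    · subst hi; simp
    · simp [hi, h i hi]

/-- the torus of the statement -/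
def torus (F : Type*) [Field F] (m : ℕ) : Subgroup (symplecticGroup (Fin m) F) :=
  ⨅ i : Fin m ⊕ Fin m, Cfsg.stabilizing (Cfsg.spToMat m F)
    ((Submodule.span F {(Pi.single i (1 : F) : Fin m ⊕ Fin m → F)} :
      Submodule F (Fin m ⊕ Fin m → F)) : Set (Fin m ⊕ Fin m → F))

theorem diag_ne_zero (g : symplecticGroup (Fin m) F)
    (h : ∀ i j, i ≠ j → g.1 i j = 0) (i : Fin m ⊕ Fin m) :
    g.1 i i ≠ 0 := by
  intro h0
  have hdet : g.1.det = 0 := by
    apply Matrix.det_eq_zero_of_row_eq_zero i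
    intro j
    by_cases hij : i = j
    · subst hij; exact h0
    · exact h i j hij
  have := SymplecticGroup.symplectic_det g.2
  rw [hdet] at this
  exact not_isUnit_zero this

theorem mulVec_of_diag (A : Matrix (Fin m ⊕ Fin m) (Fin m ⊕ Fin m) F)
    (h : ∀ i j, i ≠ j → A i j = 0) (v : Fin m ⊕ Fin m → F) (i : Fin m ⊕ Fin m) :
    (A *ᵥ v) i = A i i * v i := by
  rw [mulVec, dotProduct, Finset.sum_eq_single i]
  · intro j _ hj
    rw [h i j (Ne.symm hj), zero_mul]
  · intro h
    exact absurd (Finset.mem_univ _) h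

theorem mem_torus_iff (g : symplecticGroup (Fin m) F) :
    g ∈ torus F m ↔ ∀ i j, i ≠ j → g.1 i j = 0 := by
  unfold torus
  rw [Subgroup.mem_iInf]
  constructor
  · intro h i j hij
    have h1 := (h j (Pi.single j 1)).mp (Submodule.subset_span rfl)
    rw [SetLike.mem_coe, mem_span_single_iff] at h1
    have h2 := h1 i hij
    change (g.1 *ᵥ Pi.single j 1) i = 0 at h2
    rw [mulVec_single_one] at h2
    exact h2
  · intro h j v
    change v ∈ Submodule.span F _ ↔ (g.1 *ᵥ v) ∈ Submodule.span F _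
    rw [mem_span_single_iff, mem_span_single_iff]
    constructor
    · intro hv i hi
      rw [mulVec_of_diag m _ h, hv i hi, mul_zero]
    · intro hv i hi
      have := hv i hi
      rw [mulVec_of_diag m _ h] at this
      rcases mul_eq_zero.mp this with h0 | h0
      · exact absurd h0 (diag_ne_zero m g h i)
      · exact h0

/-- the test coefficients -/
def tc (a : F) (j : Fin m ⊕ Fin m) : Fin m ⊕ Fin m → F :=
  fun i => if i = j then a else if i = tau m j then a⁻¹ else 1

theorem tc_mul (a : F) (ha : a ≠ 0) (j i : Fin m ⊕ Fin m) :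
    tc m a j i * tc m a j (tau m i) = 1 := by
  unfold tc
  by_cases h1 : i = j
  · subst h1
    rw [if_pos rfl, if_neg (tau_ne m i), if_pos rfl, mul_inv_cancel₀ ha]
  · by_cases h2 : i = tau m j
    · subst h2
      rw [if_neg h1, if_pos rfl, tau_tau, if_pos rfl, inv_mul_cancel₀ ha]
    · have h3 : tau m i ≠ j := fun h => h2 (by rw [← h, tau_tau])
      have h4 : tau m i ≠ tau m j := fun h => h1 ((tau m).injective h)
      rw [if_neg h1, if_neg h2, if_neg h3, if_neg h4, mul_one]

/-- the test torus element -/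
def tEl (a : F) (ha : a ≠ 0) (j : Fin m ⊕ Fin m) : symplecticGroup (Fin m) F :=
  ⟨monMat m 1 (tc m a j), monMat_mem m 1 _ (fun i => rfl)
    (fun i => by rw [Equiv.Perm.one_apply, mul_assoc, tc_mul m a ha, mul_one])⟩

theorem tEl_apply (a : F) (ha : a ≠ 0) (j i l : Fin m ⊕ Fin m) :
    (tEl m a ha j).1 i l = if i = l then tc m a j l else 0 := by
  show monMat m 1 _ i l = _
  rw [monMat_apply, Equiv.Perm.one_apply]

theorem tEl_mem (a : F) (ha : a ≠ 0) (j : Fin m ⊕ Fin m) : tEl m a ha j ∈ torus F m := by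
  rw [mem_torus_iff]
  intro i l hil
  rw [tEl_apply, if_neg hil]

theorem entries_of_conj (g t t' : symplecticGroup (Fin m) F) (ht : t ∈ torus F m)
    (ht' : t' ∈ torus F m) (h : t' * g = g * t) (i l : Fin m ⊕ Fin m) (hg : g.1 i l ≠ 0) :
    t'.1 i i = t.1 l l := by
  rw [mem_torus_iff] at ht ht'
  have h1 : (t'.1 * g.1) i l = (g.1 * t.1) i l := by
    have := congrArg Subtype.val h
    rw [Submonoid.coe_mul, Submonoid.coe_mul] at this
    rw [this]
  rw [Matrix.mul_apply, Matrix.mul_apply,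
    Finset.sum_eq_single i (fun k _ hk => by rw [ht' i k (Ne.symm hk), zero_mul])
      (fun h => absurd (Finset.mem_univ _) h),
    Finset.sum_eq_single l (fun k _ hk => by rw [ht k l hk, mul_zero])
      (fun h => absurd (Finset.mem_univ _) h), mul_comm] at h1
  exact mul_left_cancel₀ hg h1

theorem tc_self (a : F) (j : Fin m ⊕ Fin m) : tc m a j j = a := by
  unfold tc
  rw [if_pos rfl]

theorem tc_ne (a : F) (ha0 : a ≠ 0) (ha : a * a ≠ 1) (j l : Fin m ⊕ Fin m) (hl : l ≠ j) :
    tc m a j l ≠ a := by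
  unfold tc
  rw [if_neg hl]
  by_cases h2 : l = tau m j
  · rw [if_pos h2]
    intro h
    apply ha
    nth_rewrite 1 [← h]
    exact inv_mul_cancel₀ ha0
  · rw [if_neg h2]
    intro h
    apply ha
    rw [← h, mul_one]

theorem unique_of_normalizer (a : F) (ha0 : a ≠ 0) (ha : a * a ≠ 1)
    (g : symplecticGroup (Fin m) F)
    (hg : g ∈ Subgroup.normalizer ((torus F m : Subgroup _) : Set (symplecticGroup (Fin m) F))) :
    (∀ i i' l, g.1 i l ≠ 0 → g.1 i' l ≠ 0 → i = i') ∧
      (∀ i j l, g.1 i j ≠ 0 → g.1 i l ≠ 0 → j = l) := by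
  constructor
  · intro i i' l h1 h2
    by_contra hne
    have hg' := Subgroup.inv_mem _ hg
    rw [Subgroup.mem_set_normalizer_iff] at hg'
    have ht := (hg' (tEl m a ha0 i)).mp (tEl_mem m a ha0 i)
    rw [inv_inv, SetLike.mem_coe] at ht
    have hc : tEl m a ha0 i * g = g * (g⁻¹ * tEl m a ha0 i * g) := by group
    have e1 := entries_of_conj m g _ _ ht (tEl_mem m a ha0 i) hc i l h1
    have e2 := entries_of_conj m g _ _ ht (tEl_mem m a ha0 i) hc i' l h2
    rw [← e2, tEl_apply, tEl_apply, if_pos rfl, if_pos rfl, tc_self] at e1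
    exact tc_ne m a ha0 ha i i' (Ne.symm hne) e1.symm
  · intro i j l h1 h2
    by_contra hne
    rw [Subgroup.mem_set_normalizer_iff] at hg
    have ht := (hg (tEl m a ha0 j)).mp (tEl_mem m a ha0 j)
    rw [SetLike.mem_coe] at ht
    have hc : (g * tEl m a ha0 j * g⁻¹) * g = g * tEl m a ha0 j := by group
    have e1 := entries_of_conj m g _ _ (tEl_mem m a ha0 j) ht hc i j h1
    have e2 := entries_of_conj m g _ _ (tEl_mem m a ha0 j) ht hc i l h2
    rw [e1, tEl_apply, tEl_apply, if_pos rfl, if_pos rfl, tc_self] at e2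
    exact tc_ne m a ha0 ha j l (Ne.symm hne) e2.symm

theorem exists_monMat (a : F) (ha0 : a ≠ 0) (ha : a * a ≠ 1)
    (g : symplecticGroup (Fin m) F)
    (hg : g ∈ Subgroup.normalizer ((torus F m : Subgroup _) : Set (symplecticGroup (Fin m) F))) :
    ∃ (σ : Equiv.Perm (Fin m ⊕ Fin m)) (c : Fin m ⊕ Fin m → F),
      (∀ j, c j ≠ 0) ∧ g.1 = monMat m σ c := by
  obtain ⟨hcol, hrow⟩ := unique_of_normalizer m a ha0 ha g hg
  have hex : ∀ j, ∃ i, g.1 i j ≠ 0 := by
    intro j
    by_contra hcon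
    push Not at hcon
    have hdet : g.1.det = 0 := Matrix.det_eq_zero_of_column_eq_zero j hcon
    have := SymplecticGroup.symplectic_det g.2
    rw [hdet] at this
    exact not_isUnit_zero this
  choose f hf using hex
  have hinj : Function.Injective f := by
    intro j j' hjj
    have h1 := hf j
    have h2 := hf j'
    rw [← hjj] at h2
    exact hrow _ _ _ h1 h2
  refine ⟨Equiv.ofBijective f ⟨hinj, Finite.surjective_of_injective hinj⟩,
    fun j => g.1 (f j) j, hf, ?_⟩
  ext i j
  rw [monMat_apply]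
  change g.1 i j = if i = f j then g.1 (f j) j else 0
  by_cases hij : i = f j
  · rw [if_pos hij, hij]
  · rw [if_neg hij]
    by_contra h0
    exact hij (hcol _ _ _ h0 (hf j))

theorem monMat_mulVec_single (σ : Equiv.Perm (Fin m ⊕ Fin m)) (c : Fin m ⊕ Fin m → F)
    (j : Fin m ⊕ Fin m) : monMat m σ c *ᵥ Pi.single j 1 = Pi.single (σ j) (c j) := by
  ext i
  rw [monMat_mulVec]
  by_cases h : i = σ j
  · subst h
    simp
  · have : σ.symm i ≠ j := fun h' => h (by rw [← h', Equiv.apply_symm_apply])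
    simp [h, this]

theorem sympForm_single_single (i j : Fin m ⊕ Fin m) (a b : F) :
    sympForm m F (Pi.single i a) (Pi.single j b) =
      if j = tau m i then sg F m i * a * b else 0 := by
  rw [sympForm_eq_sum, Finset.sum_eq_single i]
  · by_cases h : j = tau m i
    · subst h
      simp
    · rw [if_neg h]
      simp [Ne.symm h]
  · intro k _ hk
    simp [hk]
  · simp

theorem monMat_conds (σ : Equiv.Perm (Fin m ⊕ Fin m)) (c : Fin m ⊕ Fin m → F)
    (h : monMat m σ c ∈ symplecticGroup (Fin m) F) :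
    (∀ i, σ (tau m i) = tau m (σ i)) ∧
      (∀ j, sg F m (σ j) * c j * c (tau m j) = sg F m j) := by
  rw [mem_symplectic_iff] at h
  have key : ∀ j, σ (tau m j) = tau m (σ j) ∧
      sg F m (σ j) * c j * c (tau m j) = sg F m j := by
    intro j
    have := h (Pi.single j 1) (Pi.single (tau m j) 1)
    rw [monMat_mulVec_single, monMat_mulVec_single, sympForm_single_single,
      sympForm_single_single, if_pos rfl, mul_one, mul_one] at this
    by_cases hc : σ (tau m j) = tau m (σ j)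
    · rw [if_pos hc] at this
      exact ⟨hc, this⟩
    · rw [if_neg hc] at this
      exact absurd this.symm (sg_ne_zero m j)
  exact ⟨fun i => (key i).1, fun j => (key j).2⟩

theorem mem_normalizer_of_conj_mem {G : Type*} [Group G] [Finite G] (H : Subgroup G) (g : G)
    (h : ∀ x ∈ H, g * x * g⁻¹ ∈ H) : g ∈ Subgroup.normalizer (H : Set G) := by
  rw [Subgroup.mem_normalizer_iff_map_conj_eq]
  apply Subgroup.eq_of_le_of_card_ge
  · rintro _ ⟨x, hx, rfl⟩
    exact h x hx
  · rw [Subgroup.card_map_of_injective (MulAut.conj g).injective]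

theorem monMat_mem_normalizer [Finite F] (g : symplecticGroup (Fin m) F)
    (σ : Equiv.Perm (Fin m ⊕ Fin m)) (c : Fin m ⊕ Fin m → F) (hg : g.1 = monMat m σ c) :
    g ∈ Subgroup.normalizer ((torus F m : Subgroup _) : Set (symplecticGroup (Fin m) F)) := by
  apply mem_normalizer_of_conj_mem
  intro h hh
  rw [mem_torus_iff] at hh ⊢
  have h1 : g.1 * h.1 = Matrix.diagonal (fun i => h.1 (σ.symm i) (σ.symm i)) * g.1 := by
    ext i l
    rw [Matrix.diagonal_mul, Matrix.mul_apply,
      Finset.sum_eq_single l (fun k _ hk => by rw [hh k l hk, mul_zero])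
        (fun h => absurd (Finset.mem_univ _) h), hg, monMat_apply]
    by_cases hil : i = σ l
    · rw [if_pos hil, hil, Equiv.symm_apply_apply, mul_comm]
    · rw [if_neg hil, zero_mul, mul_zero]
  have h2 : (g * h * g⁻¹).1 = Matrix.diagonal (fun i => h.1 (σ.symm i) (σ.symm i)) := by
    have h3 : g.1 * (g⁻¹).1 = 1 := by
      have := congrArg Subtype.val (mul_inv_cancel g)
      rwa [Submonoid.coe_mul, Submonoid.coe_one] at this
    rw [Submonoid.coe_mul, Submonoid.coe_mul, h1, Matrix.mul_assoc, h3, Matrix.mul_one]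
  intro i j hij
  rw [h2, Matrix.diagonal_apply_ne _ hij]

theorem monMat_injective (σ σ' : Equiv.Perm (Fin m ⊕ Fin m)) (c c' : Fin m ⊕ Fin m → F)
    (hc : ∀ j, c j ≠ 0) (h : monMat m σ c = monMat m σ' c') : σ = σ' ∧ c = c' := by
  have key : ∀ j, σ j = σ' j ∧ c j = c' j := by
    intro j
    have := congrFun (congrFun h (σ j)) j
    rw [monMat_apply, monMat_apply, if_pos rfl] at this
    by_cases h1 : σ j = σ' j
    · rw [if_pos h1] at this
      exact ⟨h1, this⟩
    · rw [if_neg h1] at this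
      exact absurd this (hc j)
  exact ⟨Equiv.ext fun j => (key j).1, funext fun j => (key j).2⟩

/-- the coefficient vector attached to a permutation and a choice of units -/
def cc (σ : Equiv.Perm (Fin m ⊕ Fin m)) (d : Fin m → Fˣ) : Fin m ⊕ Fin m → F :=
  Sum.elim (fun k => (d k : F))
    (fun k => sg F m (Sum.inl k) * sg F m (σ (Sum.inl k)) * ((d k)⁻¹ : Fˣ))

theorem cc_ne_zero (σ : Equiv.Perm (Fin m ⊕ Fin m)) (d : Fin m → Fˣ) (j : Fin m ⊕ Fin m) :
    cc m σ d j ≠ 0 := by
  rcases j with k | k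
  · exact (d k).ne_zero
  · exact mul_ne_zero (mul_ne_zero (sg_ne_zero m _) (sg_ne_zero m _)) ((d k)⁻¹).ne_zero

theorem cc_cond (σ : Equiv.Perm (Fin m ⊕ Fin m)) (hσ : ∀ i, σ (tau m i) = tau m (σ i))
    (d : Fin m → Fˣ) (j : Fin m ⊕ Fin m) :
    sg F m (σ j) * cc m σ d j * cc m σ d (tau m j) = sg F m j := by
  have hd : ∀ k, ((d k : Fˣ) : F) * (((d k)⁻¹ : Fˣ) : F) = 1 := fun k => by
    rw [← Units.val_mul, mul_inv_cancel, Units.val_one]
  rcases j with k | k
  · have h1 := sg_mul_self (F := F) m (σ (Sum.inl k))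
    show sg F m (σ (Sum.inl k)) * (d k : F) *
      (sg F m (Sum.inl k) * sg F m (σ (Sum.inl k)) * ((d k)⁻¹ : Fˣ)) = sg F m (Sum.inl k)
    linear_combination (sg F m (Sum.inl k) * (d k : F) * (((d k)⁻¹ : Fˣ) : F)) * h1 +
      sg F m (Sum.inl k) * hd k
  · have h1 := sg_mul_self (F := F) m (σ (Sum.inl k))
    have h2 : σ (Sum.inr k) = tau m (σ (Sum.inl k)) := by
      rw [← hσ, tau_inl]
    have h3 : sg F m (Sum.inr k) = - sg F m (Sum.inl k) := by
      rw [← sg_tau, tau_inl]
    show sg F m (σ (Sum.inr k)) *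
      (sg F m (Sum.inl k) * sg F m (σ (Sum.inl k)) * ((d k)⁻¹ : Fˣ)) * (d k : F) =
        sg F m (Sum.inr k)
    rw [h2, sg_tau, h3]
    linear_combination (-(sg F m (Sum.inl k) * (d k : F) * (((d k)⁻¹ : Fˣ) : F))) * h1 -
      sg F m (Sum.inl k) * hd k

theorem comm_of_mem_centralizer (σ : Equiv.Perm (Fin m ⊕ Fin m))
    (hσ : σ ∈ Subgroup.centralizer {tau m}) (i : Fin m ⊕ Fin m) :
    σ (tau m i) = tau m (σ i) := by
  rw [Subgroup.mem_centralizer_iff] at hσ
  have := hσ (tau m) rfl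
  have h2 := congrArg (fun p : Equiv.Perm (Fin m ⊕ Fin m) => p i) this
  simp only [Equiv.Perm.mul_apply] at h2
  exact h2.symm

theorem mem_centralizer_of_comm (σ : Equiv.Perm (Fin m ⊕ Fin m))
    (hσ : ∀ i, σ (tau m i) = tau m (σ i)) : σ ∈ Subgroup.centralizer {tau m} := by
  rw [Subgroup.mem_centralizer_iff]
  intro h hh
  rw [Set.mem_singleton_iff] at hh
  subst hh
  ext i
  rw [Equiv.Perm.mul_apply, Equiv.Perm.mul_apply, hσ]

/-- the parametrisation of the normaliser -/
noncomputable def Phi [Finite F]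
    (p : Subgroup.centralizer {tau m} × (Fin m → Fˣ)) :
    Subgroup.normalizer ((torus F m : Subgroup _) : Set (symplecticGroup (Fin m) F)) :=
  ⟨⟨monMat m p.1.1 (cc m p.1.1 p.2), monMat_mem m _ _ (comm_of_mem_centralizer m _ p.1.2)
    (cc_cond m _ (comm_of_mem_centralizer m _ p.1.2) p.2)⟩,
    monMat_mem_normalizer m _ _ _ rfl⟩

theorem Phi_injective [Finite F] : Function.Injective (Phi (F := F) m) := by
  rintro ⟨⟨σ, hσ⟩, d⟩ ⟨⟨σ', hσ'⟩, d'⟩ h
  have h1 : monMat m σ (cc m σ d) = monMat m σ' (cc m σ' d') :=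
    congrArg (fun x => x.1.1) h
  obtain ⟨h2, h3⟩ := monMat_injective m _ _ _ _ (cc_ne_zero m σ d) h1
  subst h2
  have h4 : d = d' := by
    funext k
    apply Units.ext
    exact congrFun h3 (Sum.inl k)
  subst h4
  rfl

theorem Phi_surjective [Finite F] (a : F) (ha0 : a ≠ 0) (ha : a * a ≠ 1) :
    Function.Surjective (Phi (F := F) m) := by
  rintro ⟨g, hg⟩
  obtain ⟨σ, c, hc, hgc⟩ := exists_monMat m a ha0 ha g hg
  have hmem : monMat m σ c ∈ symplecticGroup (Fin m) F := by
    rw [← hgc]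
    exact g.2
  obtain ⟨hσ, hcond⟩ := monMat_conds m σ c hmem
  refine ⟨⟨⟨σ, mem_centralizer_of_comm m σ hσ⟩, fun k => Units.mk0 (c (Sum.inl k)) (hc _)⟩, ?_⟩
  apply Subtype.ext
  apply Subtype.ext
  show monMat m σ (cc m σ _) = g.1
  rw [hgc]
  congr 1
  funext j
  rcases j with k | k
  · rfl
  · show sg F m (Sum.inl k) * sg F m (σ (Sum.inl k)) *
      (((Units.mk0 (c (Sum.inl k)) (hc _))⁻¹ : Fˣ) : F) = c (Sum.inr k)
    have h1 := hcond (Sum.inl k)
    rw [tau_inl] at h1
    have h2 := sg_mul_self (F := F) m (σ (Sum.inl k))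
    rw [Units.val_inv_eq_inv_val, Units.val_mk0, ← h1]
    have h3 := hc (Sum.inl k)
    field_simp
    linear_combination (c (Sum.inr k)) * h2

theorem exists_good (hF : 4 ≤ Nat.card F) [Finite F] : ∃ a : F, a ≠ 0 ∧ a * a ≠ 1 := by
  classical
  have := Fintype.ofFinite F
  by_contra hcon
  push Not at hcon
  have hsub : (Finset.univ : Finset F) ⊆ {0, 1, -1} := by
    intro a _
    by_cases h0 : a = 0
    · simp [h0]
    · have := hcon a h0
      rcases mul_self_eq_one_iff.mp this with h | h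
      · simp [h]
      · simp [h]
  have h1 := Finset.card_le_card hsub
  have h2 : ({0, 1, -1} : Finset F).card ≤ 3 := Finset.card_le_three
  rw [Finset.card_univ, ← Nat.card_eq_fintype_card] at h1
  omega

theorem card_normalizer [Fintype F] {q : ℕ} (hF : Fintype.card F = q) (hq : 4 ≤ q) :
    Nat.card (Subgroup.normalizer
      ((torus F m : Subgroup _) : Set (symplecticGroup (Fin m) F))) =
      2 ^ m * Nat.factorial m * (q - 1) ^ m := by
  have hF' : Nat.card F = q := by rw [Nat.card_eq_fintype_card, hF]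
  obtain ⟨a, ha0, ha⟩ := exists_good (F := F) (by rw [hF']; exact hq)
  rw [← Nat.card_congr (Equiv.ofBijective (Phi (F := F) m)
    ⟨Phi_injective m, Phi_surjective m a ha0 ha⟩), Nat.card_prod, card_centralizer_tau,
    Nat.card_fun, Nat.card_units, hF', Nat.card_eq_fintype_card, Fintype.card_fin]

end Cfsg.Agent.Lib.Helper5.SpTorusNorm
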