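import Mathlib
import Cfsg.Prelude.Def_GeometricClasses
import Cfsg.Agent.Lib.Helper5.SpDecompMax
import Cfsg.Agent.Lib.Helper5.OrthPlusPlane

set_option autoImplicit false
set_option linter.unusedSectionVars false
set_option linter.unusedVariables false

/-! Over the field with two elements the stabiliser of an orthogonal decomposition into
non-degenerate planes preserves a quadratic form, hence is not maximal in the symplectic group. -/

namespace Cfsg.Agent.Lib.Helper5.SpTwoWreath

open Matrix Cfsg Cfsg.Agent.Lib.Helper5.SympTv Cfsg.Agent.Lib.Helper5.SympGen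
  Cfsg.Agent.Lib.Helper5.SympBridge Cfsg.Agent.Lib.Helper5.SpCentres
  Cfsg.Agent.Lib.Helper5.SpSingularMax Cfsg.Agent.Lib.Helper5.SpNondegMax
  Cfsg.Agent.Lib.Helper5.SpDecompMax

variable {F : Type*} [Field F] [Fintype F] {m : ℕ} {t : ℕ}
  {D : Fin t → Submodule F (Fin m ⊕ Fin m → F)}

theorem eq_zero_or_one (hq : Fintype.card F = 2) (a : F) : a = 0 ∨ a = 1 := by
  by_cases ha : a = 0
  · exact Or.inl ha
  · right
    have h1 := FiniteField.pow_card_sub_one_eq_one a ha
    rw [hq] at h1
    simpa using h1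

theorem two_eq_zero (hq : Fintype.card F = 2) : (2 : F) = 0 := by
  rcases eq_zero_or_one hq (2 : F) with h | h
  · exact h
  · exfalso
    have : (1 : F) = 0 := by linear_combination h
    exact one_ne_zero this

open Classical in
/-- the parity form: the number of blocks not orthogonal to `x` -/
noncomputable def par (D : Fin t → Submodule F (Fin m ⊕ Fin m → F)) (x : Fin m ⊕ Fin m → F) : F :=
  ∑ i, if (∃ d ∈ D i, sympForm m F x d ≠ 0) then (1 : F) else 0

/-- the intermediate subgroup: symplectic matrices preserving the parity form -/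
noncomputable def midGroup (D : Fin t → Submodule F (Fin m ⊕ Fin m → F)) :
    Subgroup (Matrix.GeneralLinearGroup (Fin m ⊕ Fin m) F) where
  carrier := {g | g ∈ spGL m F ∧ ∀ x, par D ((g : Matrix _ _ F) *ᵥ x) = par D x}
  mul_mem' {a b} ha hb := by
    refine ⟨(spGL m F).mul_mem ha.1 hb.1, fun x => ?_⟩
    rw [Units.val_mul, ← Matrix.mulVec_mulVec, ha.2, hb.2]
  one_mem' := ⟨(spGL m F).one_mem, fun x => by simp⟩
  inv_mem' {a} ha := by
    refine ⟨(spGL m F).inv_mem ha.1, fun x => ?_⟩
    have h1 := ha.2 (((a⁻¹ : Matrix.GeneralLinearGroup (Fin m ⊕ Fin m) F) : Matrix _ _ F) *ᵥ x)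
    rw [Matrix.mulVec_mulVec, ← Units.val_mul, mul_inv_cancel, Units.val_one, Matrix.one_mulVec]
      at h1
    exact h1.symm

theorem mem_midGroup (g : Matrix.GeneralLinearGroup (Fin m ⊕ Fin m) F) :
    g ∈ midGroup D ↔ g ∈ spGL m F ∧ ∀ x, par D ((g : Matrix _ _ F) *ᵥ x) = par D x := Iff.rfl

/-- the stabiliser of the decomposition preserves the parity form -/
theorem stab_le_mid : Cfsg.Geo.decompositionStabilizer D ⊓ spGL m F ≤ midGroup D := by
  rintro g ⟨⟨σ, hσ⟩, hsp⟩
  refine ⟨hsp, fun x => ?_⟩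
  unfold par
  rw [← Equiv.sum_comp σ]
  apply Finset.sum_congr rfl
  intro i _
  have hiff : (∃ d ∈ D (σ i), sympForm m F ((g : Matrix _ _ F) *ᵥ x) d ≠ 0) ↔
      (∃ d ∈ D i, sympForm m F x d ≠ 0) := by
    constructor
    · rintro ⟨d', hd', hne⟩
      rw [← hσ i] at hd'
      obtain ⟨d, hd, rfl⟩ := hd'
      refine ⟨d, hd, ?_⟩
      rw [Matrix.toLin'_apply, (mem_spGL_iff m g).mp hsp] at hne
      exact hne
    · rintro ⟨d, hd, hne⟩
      refine ⟨(g : Matrix _ _ F) *ᵥ d, ?_, ?_⟩
      · rw [← hσ i]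
        exact ⟨d, hd, by rw [Matrix.toLin'_apply]⟩
      · rw [(mem_spGL_iff m g).mp hsp]
        exact hne
  by_cases h1 : ∃ d ∈ D i, sympForm m F x d ≠ 0
  · rw [if_pos h1, if_pos (hiff.mpr h1)]
  · rw [if_neg h1, if_neg (fun h2 => h1 (hiff.mp h2))]

/-- a plane block is spanned by a symplectic pair -/
theorem block_span (hD : Cfsg.Geo.IsNondegenerateMDecomposition (sympForm m F) 2 D) {i : Fin t}
    {e f : Fin m ⊕ Fin m → F} (he : e ∈ D i) (hf : f ∈ D i) (hef : sympForm m F e f = 1) :
    Submodule.span F ({e, f} : Set (Fin m ⊕ Fin m → F)) = D i := by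
  have hfe : sympForm m F f e = -1 := by rw [sympForm_swap, hef]
  have hli : LinearIndependent F ![e, f] := by
    rw [LinearIndependent.pair_iff]
    intro a b hab
    have e1 := congrArg (fun v => sympForm m F e v) hab
    have e2 := congrArg (fun v => sympForm m F f v) hab
    simp only [sympForm_add_right, sympForm_smul_right, sympForm_self, hef, hfe,
      sympForm_zero_right, mul_zero, zero_add, add_zero, mul_one, mul_neg, neg_eq_zero] at e1 e2
    exact ⟨e2, e1⟩
  apply Submodule.eq_of_le_of_finrank_eq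
  · rw [Submodule.span_le]
    intro z hz
    rcases hz with rfl | hz
    · exact he
    · rw [Set.mem_singleton_iff] at hz
      rw [hz]; exact hf
  · rw [OrthPlusPlane.finrank_span_pair_eq e f hli, hD.decomp.finrank_eq]

/-- non-orthogonality to a plane block in terms of a symplectic pair -/
theorem exists_iff (hD : Cfsg.Geo.IsNondegenerateMDecomposition (sympForm m F) 2 D) {i : Fin t}
    {e f : Fin m ⊕ Fin m → F} (he : e ∈ D i) (hf : f ∈ D i) (hef : sympForm m F e f = 1)
    (y : Fin m ⊕ Fin m → F) :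
    (∃ d ∈ D i, sympForm m F y d ≠ 0) ↔ (sympForm m F y e ≠ 0 ∨ sympForm m F y f ≠ 0) := by
  constructor
  · rintro ⟨d, hd, hne⟩
    rw [← block_span hD he hf hef] at hd
    obtain ⟨a, b, rfl⟩ := Submodule.mem_span_pair.mp hd
    by_contra hcon
    push Not at hcon
    apply hne
    rw [sympForm_add_right, sympForm_smul_right, sympForm_smul_right, hcon.1, hcon.2]
    ring
  · rintro (h | h)
    · exact ⟨e, he, h⟩
    · exact ⟨f, hf, h⟩

/-- the effect on the parity form of adding a non-zero vector of one block -/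
theorem par_add_block (hq : Fintype.card F = 2)
    (hD : Cfsg.Geo.IsNondegenerateMDecomposition (sympForm m F) 2 D) {i₀ : Fin t}
    {e : Fin m ⊕ Fin m → F} (he : e ∈ D i₀) (he0 : e ≠ 0) (x : Fin m ⊕ Fin m → F) :
    par D (x + e) = par D x + 1 + sympForm m F x e := by
  classical
  have h2 := two_eq_zero hq
  obtain ⟨f₀, hf₀, hef₀⟩ := nd hD i₀ e he he0
  have hef : sympForm m F e f₀ = 1 := (eq_zero_or_one hq _).resolve_left hef₀
  have key : ∀ i, (if (∃ d ∈ D i, sympForm m F (x + e) d ≠ 0) then (1 : F) else 0) =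
      (if (∃ d ∈ D i, sympForm m F x d ≠ 0) then (1 : F) else 0) +
        (if i = i₀ then 1 + sympForm m F x e else 0) := by
    intro i
    by_cases hi : i = i₀
    · subst hi
      rw [if_pos rfl]
      have h1 := exists_iff hD he hf₀ hef (x + e)
      have h1' := exists_iff hD he hf₀ hef x
      rw [sympForm_add_left, sympForm_add_left, sympForm_self, hef, add_zero] at h1
      rcases eq_zero_or_one hq (sympForm m F x e) with ha | ha <;>
        rcases eq_zero_or_one hq (sympForm m F x f₀) with hb | hb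
      · rw [ha, hb] at h1 h1'
        rw [if_pos (h1.mpr (Or.inr (by rw [zero_add]; exact one_ne_zero))),
          if_neg (fun h => by rcases h1'.mp h with h3 | h3 <;> exact h3 rfl), ha]
        ring
      · rw [ha, hb] at h1 h1'
        have h3 : (1 : F) + 1 = 0 := by rw [← h2]; ring
        rw [if_neg (fun h => by
            rcases h1.mp h with h4 | h4
            · exact h4 rfl
            · exact h4 h3),
          if_pos (h1'.mpr (Or.inr one_ne_zero)), ha]
        linear_combination -h2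
      · rw [ha, hb] at h1 h1'
        rw [if_pos (h1.mpr (Or.inl one_ne_zero)), if_pos (h1'.mpr (Or.inl one_ne_zero)), ha]
        linear_combination -h2
      · rw [ha, hb] at h1 h1'
        rw [if_pos (h1.mpr (Or.inl one_ne_zero)), if_pos (h1'.mpr (Or.inl one_ne_zero)), ha]
        linear_combination -h2
    · rw [if_neg hi, add_zero]
      have hiff : (∃ d ∈ D i, sympForm m F (x + e) d ≠ 0) ↔ (∃ d ∈ D i, sympForm m F x d ≠ 0) := by
        constructor
        · rintro ⟨d, hd, hne⟩
          refine ⟨d, hd, ?_⟩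
          rwa [sympForm_add_left, orth' hD (Ne.symm hi) he hd, add_zero] at hne
        · rintro ⟨d, hd, hne⟩
          refine ⟨d, hd, ?_⟩
          rwa [sympForm_add_left, orth' hD (Ne.symm hi) he hd, add_zero]
      by_cases h1 : ∃ d ∈ D i, sympForm m F x d ≠ 0
      · rw [if_pos h1, if_pos (hiff.mpr h1)]
      · rw [if_neg h1, if_neg (fun h3 => h1 (hiff.mp h3))]
  unfold par
  have hsum : (∑ i, if (∃ d ∈ D i, sympForm m F (x + e) d ≠ 0) then (1 : F) else 0) =
      ∑ i, ((if (∃ d ∈ D i, sympForm m F x d ≠ 0) then (1 : F) else 0) +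
        (if i = i₀ then 1 + sympForm m F x e else 0)) := by
    apply Finset.sum_congr rfl
    intro i _
    convert key i
  rw [hsum, Finset.sum_add_distrib, Finset.sum_ite_eq' Finset.univ i₀, if_pos (Finset.mem_univ _)]
  ring

/-- the number of blocks -/
theorem card_blocks {k : ℕ} (hD : Cfsg.Geo.IsNondegenerateMDecomposition (sympForm m F) k D) :
    t * k = 2 * m := by
  have hInt : DirectSum.IsInternal D :=
    DirectSum.isInternal_submodule_of_iSupIndep_of_iSup_eq_top hD.decomp.indep
      hD.decomp.iSup_eq_top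
  have hb := hInt.collectedBasis (fun i => Module.finBasis F (D i))
  have h1 := Module.finrank_eq_card_basis hb
  rw [Module.finrank_fintype_fun_eq_card, Fintype.card_sum, Fintype.card_fin, Fintype.card_sigma]
    at h1
  simp only [Fintype.card_fin, hD.decomp.finrank_eq, Finset.sum_const, Finset.card_univ,
    smul_eq_mul] at h1
  omega

/-- a symplectic pair in a block -/
theorem exists_pair (hq : Fintype.card F = 2)
    (hD : Cfsg.Geo.IsNondegenerateMDecomposition (sympForm m F) 2 D) (i : Fin t) :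
    ∃ e ∈ D i, ∃ f ∈ D i, e ≠ 0 ∧ sympForm m F e f = 1 := by
  have hne : D i ≠ ⊥ := by
    intro h0
    have := hD.decomp.finrank_eq i
    rw [h0, finrank_bot] at this
    omega
  obtain ⟨e, he, he0⟩ := (Submodule.ne_bot_iff _).1 hne
  obtain ⟨f, hf, hef⟩ := nd hD i e he he0
  exact ⟨e, he, f, hf, he0, (eq_zero_or_one hq _).resolve_left hef⟩

/-- Over the field with two elements the stabiliser of an orthogonal decomposition into
non-degenerate planes is not maximal in the symplectic group. -/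
theorem not_maximal (hm : 7 ≤ m) (hq : Fintype.card F = 2)
    (hD : Cfsg.Geo.IsNondegenerateMDecomposition (sympForm m F) 2 D) :
    ∃ K : Subgroup (Matrix.GeneralLinearGroup (Fin m ⊕ Fin m) F),
      Cfsg.Geo.decompositionStabilizer D ⊓ spGL m F < K ∧ K < spGL m F := by
  have h2 := two_eq_zero hq
  have hneg : (-1 : F) = 1 := by linear_combination -h2
  have ht := card_blocks hD
  have ht3 : 3 ≤ t := by omega
  obtain ⟨i₁, i₂, i₃, h12, h13, h23⟩ : ∃ i₁ i₂ i₃ : Fin t, i₁ ≠ i₂ ∧ i₁ ≠ i₃ ∧ i₂ ≠ i₃ := by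
    refine ⟨⟨0, by omega⟩, ⟨1, by omega⟩, ⟨2, by omega⟩, ?_, ?_, ?_⟩ <;>
      simp [Fin.ext_iff]
  obtain ⟨e₁, he₁, f₁, hf₁, he₁0, hef₁⟩ := exists_pair hq hD i₁
  obtain ⟨e₂, he₂, f₂, hf₂, he₂0, hef₂⟩ := exists_pair hq hD i₂
  obtain ⟨e₃, he₃, f₃, hf₃, he₃0, hef₃⟩ := exists_pair hq hD i₃
  have hfe₁ : sympForm m F f₁ e₁ = 1 := by rw [sympForm_swap, hef₁, hneg]
  refine ⟨midGroup D, lt_of_le_of_ne stab_le_mid ?_, lt_of_le_of_ne (fun g hg => hg.1) ?_⟩
  · -- a transvection preserving the parity form but not the decomposition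
    intro heq
    have hmem : tvGL m (e₁ + e₂ + e₃) 1 ∈ midGroup D := by
      refine ⟨tvGL_mem m _ _, fun x => ?_⟩
      rw [tvGL_mulVec, one_mul]
      rcases eq_zero_or_one hq (sympForm m F x (e₁ + e₂ + e₃)) with h0 | h1
      · rw [h0, zero_smul, add_zero]
      · rw [h1, one_smul]
        have e1 : x + (e₁ + e₂ + e₃) = x + e₁ + e₂ + e₃ := by abel
        rw [e1, par_add_block hq hD he₃ he₃0, par_add_block hq hD he₂ he₂0,
          par_add_block hq hD he₁ he₁0]
        rw [sympForm_add_right, sympForm_add_right] at h1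
        rw [sympForm_add_left, sympForm_add_left, sympForm_add_left, orth' hD h12 he₁ he₂,
          orth' hD h13 he₁ he₃, orth' hD h23 he₂ he₃]
        linear_combination h1 + 2 * h2
    rw [← heq] at hmem
    obtain ⟨⟨σ, hσ⟩, -⟩ := hmem
    have hv₁ : sympForm m F e₁ (e₁ + e₂ + e₃) = 0 := by
      rw [sympForm_add_right, sympForm_add_right, sympForm_self, orth' hD h12 he₁ he₂,
        orth' hD h13 he₁ he₃]
      ring
    have hfix : (tvGL m (e₁ + e₂ + e₃) 1 : Matrix _ _ F) *ᵥ e₁ = e₁ := by
      rw [tvGL_mulVec, hv₁, mul_zero, zero_smul, add_zero]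
    have hσ1 : σ i₁ = i₁ := by
      by_contra hne
      have h3 : e₁ ∈ D (σ i₁) := by
        rw [← hσ i₁]
        exact ⟨e₁, he₁, by rw [Matrix.toLin'_apply, hfix]⟩
      exact he₁0 (inter_eq_zero hD (Ne.symm hne) he₁ h3)
    have hv₂ : sympForm m F f₁ (e₁ + e₂ + e₃) = 1 := by
      rw [sympForm_add_right, sympForm_add_right, hfe₁, orth' hD h12 hf₁ he₂,
        orth' hD h13 hf₁ he₃]
      ring
    have h4 : f₁ + (e₁ + e₂ + e₃) ∈ D i₁ := by
      have : (tvGL m (e₁ + e₂ + e₃) 1 : Matrix _ _ F) *ᵥ f₁ ∈ D (σ i₁) := by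
        rw [← hσ i₁]
        exact ⟨f₁, hf₁, by rw [Matrix.toLin'_apply]⟩
      rwa [tvGL_mulVec, hv₂, mul_one, one_smul, hσ1] at this
    have h5 : e₂ + e₃ ∈ D i₁ := by
      have := (D i₁).sub_mem ((D i₁).sub_mem h4 hf₁) he₁
      have e2 : f₁ + (e₁ + e₂ + e₃) - f₁ - e₁ = e₂ + e₃ := by abel
      rwa [e2] at this
    have h6 := orth' hD h12 h5 hf₂
    rw [sympForm_add_left, hef₂, orth' hD h23.symm he₃ hf₂, add_zero] at h6
    exact one_ne_zero h6
  · -- a transvection not preserving the parity form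
    intro heq
    have hmem : tvGL m (e₁ + e₂) 1 ∈ midGroup D := by
      rw [heq]
      exact tvGL_mem m _ _
    have h3 := hmem.2 f₁
    have hv : sympForm m F f₁ (e₁ + e₂) = 1 := by
      rw [sympForm_add_right, hfe₁, orth' hD h12 hf₁ he₂, add_zero]
    rw [tvGL_mulVec, hv, mul_one, one_smul] at h3
    have e1 : f₁ + (e₁ + e₂) = f₁ + e₁ + e₂ := by abel
    rw [e1, par_add_block hq hD he₂ he₂0, par_add_block hq hD he₁ he₁0, sympForm_add_left,
      hfe₁, orth' hD h12 he₁ he₂, orth' hD h12 hf₁ he₂] at h3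
    have : (1 : F) = 0 := by linear_combination h3 - h2
    exact one_ne_zero this

end Cfsg.Agent.Lib.Helper5.SpTwoWreath
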