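import Mathlib
import Cfsg.Prelude.Def_ChevStructure
import Cfsg.Prelude.Def_Characters
import Cfsg.Prelude.Def_Blocks
import Cfsg.Agent.Lib.Helper7.ChR1
import Cfsg.Agent.Lib.Helper9.ChST
import Cfsg.Agent.Lib.Helper6.BlkNormalDef

set_option autoImplicit false
set_option linter.style.haveILetI false
set_option maxHeartbeats 1000000

/-!
S2318 farm, unit C2: an irreducible character of `Γ = G ⊔ T` (`T` an extended torus) whose degree is
divisible by `|U|` vanishes on `U ∖ 1`.
-/

namespace Cfsg.Agent.Lib.Helper5.StUniq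

open Cfsg Cfsg.Lie Cfsg.Agent.Lib.Helper5.ChevSym Cfsg.Agent.Lib.Helper5.ChevStruct
  Cfsg.Agent.Lib.Helper5.UniTri Cfsg.Agent.Lib.Helper7.ChR1 Cfsg.Agent.Lib.Helper6
open scoped Pointwise

variable {F : Type*} [Field F]

/-- `T` normalises `G` -/
theorem extTorus_conj_group (D : ChevalleyDatum) (hD : D ∈ Seven) (T : Subgroup (GL D.Idx F))
    (hT : ExtTorus D hD T) (a : GL D.Idx F) (ha : a ∈ T) (g : GL D.Idx F) (hg : g ∈ D.group F) :
    a * g * a⁻¹ ∈ D.group F := by
  unfold ChevalleyDatum.group at hg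
  induction hg using Subgroup.closure_induction with
  | mem y hy =>
    obtain ⟨r, t, hy⟩ := hy
    have hyx : y = xGL D hD r.val t := by
      apply Units.ext
      rw [hy, xGL_val]
      unfold ChevalleyDatum.x
      rw [dif_pos r.2]
    obtain ⟨c, hc⟩ := hT.hroot a ha r.val t
    rw [hyx, hc]
    exact xGL_mem_group D hD _ _
  | one =>
    simp only [mul_one, mul_inv_cancel]
    exact one_mem _
  | mul x y _ _ hx hy =>
    have e' : a * (x * y) * a⁻¹ = (a * x * a⁻¹) * (a * y * a⁻¹) := by group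
    rw [e']
    exact mul_mem hx hy
  | inv x _ hx =>
    have e' : a * x⁻¹ * a⁻¹ = (a * x * a⁻¹)⁻¹ := by group
    rw [e']
    exact inv_mem hx

/-- `Γ = G ⊔ T` normalises `G` -/
theorem sup_conj_group (D : ChevalleyDatum) (hD : D ∈ Seven) (T : Subgroup (GL D.Idx F))
    (hT : ExtTorus D hD T) (γ : GL D.Idx F) (hγ : γ ∈ D.group F ⊔ T) (g : GL D.Idx F)
    (hg : g ∈ D.group F) : γ * g * γ⁻¹ ∈ D.group F := by
  have hle : D.group F ⊔ T ≤ Subgroup.normalizer (D.group F : Set (GL D.Idx F)) := by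
    apply sup_le Subgroup.le_normalizer
    intro a ha
    rw [Subgroup.mem_normalizer_iff]
    intro x
    refine ⟨fun hx => extTorus_conj_group D hD T hT a ha x hx, fun hx => ?_⟩
    have := extTorus_conj_group D hD T hT a⁻¹ (inv_mem ha) _ hx
    have e : a⁻¹ * (a * x * a⁻¹) * a⁻¹⁻¹ = x := by group
    rwa [e] at this
  exact (Subgroup.mem_normalizer_iff.1 (hle hγ) g).1 hg

/-- a diagonal invertible matrix over `F_q` has `(q-1)`-th power `1` -/
theorem diagSub_pow_card_sub_one [Fintype F] {ι : Type*} [Fintype ι] [DecidableEq ι]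
    (a : GL ι F) (ha : a ∈ diagSub ι F) : a ^ (Fintype.card F - 1) = 1 := by
  have h1 : (a : Matrix ι ι F) = Matrix.diagonal (fun j => (a : Matrix ι ι F) j j) := by
    ext i j
    by_cases hij : i = j
    · subst hij; simp
    · rw [Matrix.diagonal_apply_ne _ hij]
      exact ha.1 i j hij
  have hne : ∀ j, (a : Matrix ι ι F) j j ≠ 0 := by
    intro j h0
    have hdet : (a : Matrix ι ι F).det = ∏ k, (a : Matrix ι ι F) k k := by
      conv_lhs => rw [h1]
      rw [Matrix.det_diagonal]
    have hz : (a : Matrix ι ι F).det = 0 := by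
      rw [hdet]
      exact Finset.prod_eq_zero (Finset.mem_univ j) h0
    have hu : IsUnit (a : Matrix ι ι F).det := by
      have := (Matrix.isUnit_iff_isUnit_det (a : Matrix ι ι F)).1 ⟨a, rfl⟩
      exact this
    rw [hz] at hu
    exact not_isUnit_zero hu
  apply Units.ext
  rw [Units.val_pow_eq_pow_val, Units.val_one, h1, Matrix.diagonal_pow, ← Matrix.diagonal_one]
  congr 1
  funext j
  show ((a : Matrix ι ι F) j j) ^ (Fintype.card F - 1) = 1
  exact FiniteField.pow_card_sub_one_eq_one _ (hne j)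

section main


/-- the index of `G` in `Γ = G ⊔ T` is prime to `p`, so `ν_p |Γ| = ν_p |G|` -/
theorem factorization_sup [Fintype F] (p : ℕ) [Fact p.Prime] [CharP F p] (D : ChevalleyDatum)
    (hD : D ∈ Seven) (T : Subgroup (GL D.Idx F))
    (hT : ExtTorus D hD T) :
    (Nat.card ↥(D.group F ⊔ T)).factorization p = (Nat.card ↥(D.group F)).factorization p := by
  classical
  have hp : p.Prime := Fact.out
  set Γ : Subgroup (GL D.Idx F) := D.group F ⊔ T with hΓ
  haveI : Finite (GL D.Idx F) := inferInstance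
  let N : Subgroup Γ := (D.group F).subgroupOf Γ
  have hN : N.Normal := by
    constructor
    intro n hn g
    show ((g * n * g⁻¹ : Γ) : GL D.Idx F) ∈ D.group F
    have := sup_conj_group D hD T hT g.1 g.2 n.1 hn
    simpa using this
  have hle : D.group F ≤ Γ := le_sup_left
  have hcardN : Nat.card N = Nat.card ↥(D.group F) :=
    Nat.card_congr (Subgroup.subgroupOfEquivOfLe hle).toEquiv
  -- every element of the quotient has order dividing `q - 1`
  have hpow : ∀ x : Γ ⧸ N, x ^ (Fintype.card F - 1) = 1 := by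
    intro x
    induction x using QuotientGroup.induction_on with
    | H γ =>
      -- γ = g * t
      have hγ : (γ : GL D.Idx F) ∈ D.group F ⊔ T := γ.2
      have hγ' : ∃ t ∈ T, ∃ g ∈ D.group F, (γ : GL D.Idx F) = t * g := by
        have hc : ((T ⊔ D.group F : Subgroup (GL D.Idx F)) : Set (GL D.Idx F))
            = (T : Set (GL D.Idx F)) * (D.group F : Set (GL D.Idx F)) := by
          apply Subgroup.coe_mul_of_left_le_normalizer_right
          intro a ha
          rw [Subgroup.mem_normalizer_iff]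
          intro x
          refine ⟨fun hx => extTorus_conj_group D hD T hT a ha x hx, fun hx => ?_⟩
          have := extTorus_conj_group D hD T hT a⁻¹ (inv_mem ha) _ hx
          have e : a⁻¹ * (a * x * a⁻¹) * a⁻¹⁻¹ = x := by group
          rwa [e] at this
        have : (γ : GL D.Idx F) ∈ ((T ⊔ D.group F : Subgroup (GL D.Idx F)) : Set (GL D.Idx F)) := by
          rw [sup_comm]; exact hγ
        rw [hc] at this
        obtain ⟨t, ht, g, hg, e⟩ := Set.mem_mul.1 this
        exact ⟨t, ht, g, hg, e.symm⟩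
      obtain ⟨t, ht, g, hg, e⟩ := hγ'
      let t' : Γ := ⟨t, Subgroup.mem_sup_right ht⟩
      let g' : Γ := ⟨g, Subgroup.mem_sup_left hg⟩
      have e' : γ = t' * g' := Subtype.ext e
      have hgN : g' ∈ N := hg
      have hmk : (QuotientGroup.mk γ : Γ ⧸ N) = QuotientGroup.mk t' := by
        rw [e', QuotientGroup.mk_mul, (QuotientGroup.eq_one_iff g').2 hgN, mul_one]
      rw [hmk, ← QuotientGroup.mk_pow]
      have ht1 : t' ^ (Fintype.card F - 1) = 1 := by
        apply Subtype.ext
        rw [Subgroup.coe_pow, Subgroup.coe_one]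
        exact diagSub_pow_card_sub_one t (hT.hdiag ht)
      rw [ht1, QuotientGroup.mk_one]
  have hQ : ¬ p ∣ Nat.card (Γ ⧸ N) := by
    intro hdvd
    haveI : Fintype (Γ ⧸ N) := Fintype.ofFinite _
    rw [Nat.card_eq_fintype_card] at hdvd
    obtain ⟨x, hx⟩ := exists_prime_orderOf_dvd_card p hdvd
    have h1 : orderOf x ∣ Fintype.card F - 1 := orderOf_dvd_of_pow_eq_one (hpow x)
    rw [hx] at h1
    -- p ∣ q
    have h2 : p ∣ Fintype.card F := by
      obtain ⟨n, hn⟩ := FiniteField.card F p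
      rw [hn.2]
      exact dvd_pow_self p n.ne_zero
    have hq1 : 1 ≤ Fintype.card F := Fintype.card_pos
    have h3 : p ∣ Fintype.card F - (Fintype.card F - 1) := Nat.dvd_sub h2 h1
    have h4 : Fintype.card F - (Fintype.card F - 1) = 1 := by omega
    rw [h4] at h3
    exact hp.one_lt.ne' (Nat.dvd_one.1 h3)
  have hcard : Nat.card Γ = Nat.card (Γ ⧸ N) * Nat.card N :=
    Subgroup.card_eq_card_quotient_mul_card_subgroup N
  have hQ0 : Nat.card (Γ ⧸ N) ≠ 0 := Nat.card_pos.ne'
  have hN0 : Nat.card N ≠ 0 := Nat.card_pos.ne'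
  rw [hcard, Nat.factorization_mul hQ0 hN0, Finsupp.add_apply,
    Nat.factorization_eq_zero_of_not_dvd hQ, zero_add, hcardN]

/-- **C2.** vanishing on `U ∖ 1` in `Γ = G ⊔ T` -/
theorem vanish_in [Fintype F] (p : ℕ) [Fact p.Prime] [CharP F p] (D : ChevalleyDatum)
    (hD : D ∈ Seven) (T : Subgroup (GL D.Idx F))
    (hT : ExtTorus D hD T) (χ : IrrCharacter ↥(D.group F ⊔ T))
    (hdeg : Nat.card ↥(D.posUnipotent F) ∣ charDegree χ.1)
    (u : ↥(D.group F ⊔ T)) (hu : u ∈ (D.posUnipotent F).subgroupOf (D.group F ⊔ T))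
    (hu1 : u ≠ 1) : χ.1 u = 0 := by
  classical
  have hp : p.Prime := Fact.out
  haveI : Finite (GL D.Idx F) := inferInstance
  set n := (Nat.card ↥(D.group F)).factorization p with hn
  have hfac := factorization_sup p D hD T hT
  have hUcard : Nat.card ↥(D.posUnipotent F) = p ^ n := by
    have h1 := Cfsg.Agent.Lib.Helper9.ChST.pow_factorization_eq (F := F) p D hD
    rw [hn, h1]
    exact (Nat.card_congr
      (Subgroup.subgroupOfEquivOfLe (pos_le_group D hD)).toEquiv).symm
  have hΓ0 : Nat.card ↥(D.group F ⊔ T) ≠ 0 := Nat.card_pos.ne'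
  have hdvd : p ^ n ∣ Nat.card ↥(D.group F ⊔ T) := by
    rw [hn, ← hfac]
    exact Nat.ordProj_dvd _ _
  have hndvd : ¬ p ^ (n + 1) ∣ Nat.card ↥(D.group F ⊔ T) := by
    rw [hn, ← hfac]
    exact Nat.pow_succ_factorization_not_dvd hΓ0 hp
  -- `p ∣ orderOf u`
  have hord : p ∣ orderOf u := by
    obtain ⟨P, hP⟩ := pos_isSylow (F := F) p D hD
    have hPg : IsPGroup p (P : Subgroup ↥(D.group F)) := P.isPGroup'
    rw [hP] at hPg
    have huU : (u : GL D.Idx F) ∈ D.posUnipotent F := hu
    let u0 : ↥(D.group F) := ⟨(u : GL D.Idx F), pos_le_group D hD huU⟩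
    have hu0 : u0 ∈ (D.posUnipotent F).subgroupOf (D.group F) := huU
    obtain ⟨k, hk⟩ := hPg ⟨u0, hu0⟩
    have hk' : (u : GL D.Idx F) ^ p ^ k = 1 := by
      have := congrArg (fun z => ((z : ↥(D.group F)) : GL D.Idx F)) (congrArg Subtype.val hk)
      simpa [u0] using this
    have hk'' : u ^ p ^ k = 1 := by
      apply Subtype.ext
      rw [Subgroup.coe_pow, Subgroup.coe_one]
      exact hk'
    have h3 : orderOf u ∣ p ^ k := orderOf_dvd_of_pow_eq_one hk''
    obtain ⟨j, _, hj⟩ := (Nat.dvd_prime_pow hp).mp h3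
    rcases Nat.eq_zero_or_pos j with h0 | h0
    · exfalso
      rw [h0, pow_zero, orderOf_eq_one_iff] at hj
      exact hu1 hj
    · rw [hj]
      exact dvd_pow_self p h0.ne'
  exact IsIrrCharacter.eq_zero_of_defect_zero χ.2 p n hp hdvd hndvd (by rw [← hUcard]; exact hdeg)
    u hord

end main

end Cfsg.Agent.Lib.Helper5.StUniq
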