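import Mathlib
import Cfsg.Prelude.Def_LinearParabolics
import Cfsg.Agent.Lib.Helper5.StVDefs

set_option autoImplicit false
set_option linter.unusedSectionVars false
set_option linter.unusedVariables false

open scoped Polynomial MatrixGroups

namespace Cfsg.Agent.Lib.Helper5.StV

theorem hess_zero {R : Type*} [Ring R] (z : ℕ → R) (s : ℕ) : hess z 0 s = 1 := by
  unfold hess
  simp

/-- the summand of `hess` -/
noncomputable def h5_hterm {R : Type*} [Ring R] (z : ℕ → R) (n s : ℕ) (κ : Equiv.Perm (Fin n)) : R :=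
  if ∀ i : Fin n, (κ i).val ≤ 1 + i.val then
    ((Equiv.Perm.sign κ : ℤˣ) : ℤ) •
      (List.ofFn fun i : Fin n => z (1 + i.val - (κ i).val + if (κ i).val = 0 then s else 0)).prod
  else 0

theorem h5_hess_eq {R : Type*} [Ring R] (z : ℕ → R) (n s : ℕ) :
    hess z n s = ∑ κ : Equiv.Perm (Fin n), h5_hterm z n s κ := rfl

theorem h5_hterm_zero {R : Type*} [Ring R] (z : ℕ → R) (n s : ℕ) (e : Equiv.Perm (Fin n)) :
    h5_hterm z (n + 1) s (Equiv.Perm.decomposeFin.symm (0, e)) = z (1 + s) * h5_hterm z n 0 e := by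
  have hk : ∀ i : Fin n, (Equiv.Perm.decomposeFin.symm ((0 : Fin (n + 1)), e)) i.succ = (e i).succ := by
    intro i
    rw [Equiv.Perm.decomposeFin_symm_apply_succ]
    simp
  have hk0 : (Equiv.Perm.decomposeFin.symm ((0 : Fin (n + 1)), e)) 0 = 0 :=
    Equiv.Perm.decomposeFin_symm_apply_zero _ _
  have hiff : (∀ i : Fin (n + 1), ((Equiv.Perm.decomposeFin.symm ((0 : Fin (n + 1)), e)) i).val ≤ 1 + i.val) ↔
      ∀ i : Fin n, (e i).val ≤ 1 + i.val := by
    rw [Fin.forall_fin_succ]
    simp only [hk0, hk, Fin.val_zero, Fin.val_succ]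
    constructor
    · rintro ⟨_, h⟩ i
      have := h i
      omega
    · intro h
      refine ⟨by omega, fun i => ?_⟩
      have := h i
      omega
  unfold h5_hterm
  by_cases h : ∀ i : Fin n, (e i).val ≤ 1 + i.val
  · rw [if_pos h, if_pos (hiff.mpr h), Equiv.Perm.decomposeFin.symm_sign, if_pos rfl, one_mul,
      List.ofFn_succ, List.prod_cons, mul_smul_comm]
    have hfirst : z (1 + (0 : Fin (n + 1)).val - ((Equiv.Perm.decomposeFin.symm ((0 : Fin (n + 1)), e)) 0).val +
        if ((Equiv.Perm.decomposeFin.symm ((0 : Fin (n + 1)), e)) 0).val = 0 then s else 0) = z (1 + s) := by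
      rw [hk0]
      simp
    have hrest : (fun i : Fin n => z (1 + i.succ.val -
        ((Equiv.Perm.decomposeFin.symm ((0 : Fin (n + 1)), e)) i.succ).val +
        if ((Equiv.Perm.decomposeFin.symm ((0 : Fin (n + 1)), e)) i.succ).val = 0 then s else 0)) =
        fun i : Fin n => z (1 + i.val - (e i).val + if (e i).val = 0 then 0 else 0) := by
      funext i
      rw [hk]
      simp only [Fin.val_succ]
      congr 1
      have : ¬ ((e i).val + 1 = 0) := by omega
      rw [if_neg this, ite_self]
      omega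
    rw [hfirst, hrest]
  · rw [if_neg h, if_neg (fun h' => h (hiff.mp h')), mul_zero]

theorem h5_hterm_one {R : Type*} [Ring R] (z : ℕ → R) (hz : z 0 = 1) (m s : ℕ) (e : Equiv.Perm (Fin (m + 1))) :
    h5_hterm z (m + 2) s (Equiv.Perm.decomposeFin.symm (1, e)) = - h5_hterm z (m + 1) (s + 1) e := by
  have hk : ∀ i : Fin (m + 1), ((Equiv.Perm.decomposeFin.symm ((1 : Fin (m + 2)), e)) i.succ).val =
      if (e i).val = 0 then 0 else (e i).val + 1 := by
    intro i
    rw [Equiv.Perm.decomposeFin_symm_apply_succ]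
    by_cases h0 : (e i).val = 0
    · rw [if_pos h0]
      have : (e i).succ = 1 := by
        apply Fin.ext
        simp [h0]
      rw [this, Equiv.swap_apply_right]
      rfl
    · rw [if_neg h0]
      have h1 : (e i).succ ≠ 0 := Fin.succ_ne_zero _
      have h2 : (e i).succ ≠ 1 := by
        intro h
        apply h0
        have := congrArg Fin.val h
        simp only [Fin.val_succ, Fin.val_one] at this
        omega
      rw [Equiv.swap_apply_of_ne_of_ne h1 h2]
      simp
  have hk0 : (Equiv.Perm.decomposeFin.symm ((1 : Fin (m + 2)), e)) 0 = 1 :=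
    Equiv.Perm.decomposeFin_symm_apply_zero _ _
  have hiff : (∀ i : Fin (m + 2), ((Equiv.Perm.decomposeFin.symm ((1 : Fin (m + 2)), e)) i).val ≤ 1 + i.val) ↔
      ∀ i : Fin (m + 1), (e i).val ≤ 1 + i.val := by
    rw [Fin.forall_fin_succ]
    simp only [hk0, hk, Fin.val_zero, Fin.val_succ, Fin.val_one]
    constructor
    · rintro ⟨_, h⟩ i
      have := h i
      split_ifs at this <;> omega
    · intro h
      refine ⟨by omega, fun i => ?_⟩
      have := h i
      split_ifs <;> omega
  unfold h5_hterm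
  by_cases h : ∀ i : Fin (m + 1), (e i).val ≤ 1 + i.val
  · rw [if_pos h, if_pos (hiff.mpr h), Equiv.Perm.decomposeFin.symm_sign,
      if_neg (by simp : ¬ ((1 : Fin (m + 2)) = 0)),
      List.ofFn_succ, List.prod_cons]
    have hfirst : z (1 + (0 : Fin (m + 2)).val - ((Equiv.Perm.decomposeFin.symm ((1 : Fin (m + 2)), e)) 0).val +
        if ((Equiv.Perm.decomposeFin.symm ((1 : Fin (m + 2)), e)) 0).val = 0 then s else 0) = 1 := by
      rw [hk0]
      simp [hz]
    rw [hfirst, one_mul]
    have hrest : (fun i : Fin (m + 1) => z (1 + i.succ.val -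
        ((Equiv.Perm.decomposeFin.symm ((1 : Fin (m + 2)), e)) i.succ).val +
        if ((Equiv.Perm.decomposeFin.symm ((1 : Fin (m + 2)), e)) i.succ).val = 0 then s else 0)) =
        fun i : Fin (m + 1) => z (1 + i.val - (e i).val + if (e i).val = 0 then s + 1 else 0) := by
      funext i
      rw [hk]
      congr 1
      by_cases h0 : (e i).val = 0
      · simp only [h0, if_true, Fin.val_succ]
        omega
      · simp only [h0, if_false, Fin.val_succ]
        have : ¬ ((e i).val + 1 = 0) := by omega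
        rw [if_neg this]
        omega
    rw [hrest]
    simp
  · rw [if_neg h, if_neg (fun h' => h (hiff.mp h')), neg_zero]

theorem h5_hterm_ge_two {R : Type*} [Ring R] (z : ℕ → R) (m s : ℕ) (p : Fin m) (e : Equiv.Perm (Fin (m + 1))) :
    h5_hterm z (m + 2) s (Equiv.Perm.decomposeFin.symm (p.succ.succ, e)) = 0 := by
  unfold h5_hterm
  rw [if_neg]
  intro h
  have := h 0
  rw [Equiv.Perm.decomposeFin_symm_apply_zero] at this
  simp at this

theorem hess_succ {R : Type*} [Ring R] (z : ℕ → R) (hz : z 0 = 1) (n s : ℕ) :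
    hess z (n + 1) s = z (1 + s) * hess z n 0 - (if n = 0 then 0 else hess z n (s + 1)) := by
  rw [h5_hess_eq, ← Equiv.sum_comp Equiv.Perm.decomposeFin.symm, Fintype.sum_prod_type, Fin.sum_univ_succ]
  have h0 : ∑ e : Equiv.Perm (Fin n), h5_hterm z (n + 1) s (Equiv.Perm.decomposeFin.symm (0, e)) =
      z (1 + s) * hess z n 0 := by
    rw [h5_hess_eq, Finset.mul_sum]
    exact Finset.sum_congr rfl (fun e _ => h5_hterm_zero z n s e)
  rw [h0]
  rcases n with _ | m
  · simp
  · rw [if_neg (by omega), Fin.sum_univ_succ]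
    have h1 : ∑ e : Equiv.Perm (Fin (m + 1)), h5_hterm z (m + 2) s (Equiv.Perm.decomposeFin.symm ((0 : Fin (m + 1)).succ, e)) =
        - hess z (m + 1) (s + 1) := by
      rw [h5_hess_eq, ← Finset.sum_neg_distrib]
      apply Finset.sum_congr rfl
      intro e _
      have : (0 : Fin (m + 1)).succ = (1 : Fin (m + 2)) := rfl
      rw [this]
      exact h5_hterm_one z hz m s e
    rw [h1]
    have h2 : ∑ i : Fin m, ∑ e : Equiv.Perm (Fin (m + 1)),
        h5_hterm z (m + 2) s (Equiv.Perm.decomposeFin.symm (i.succ.succ, e)) = 0 := by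
      apply Finset.sum_eq_zero
      intro i _
      apply Finset.sum_eq_zero
      intro e _
      exact h5_hterm_ge_two z m s i e
    rw [h2]
    abel

end Cfsg.Agent.Lib.Helper5.StV
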