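import Mathlib
import Cfsg.Prelude.Def_LinearParabolics
import Cfsg.Agent.Lib.Helper5.StVDefs

set_option autoImplicit false
set_option linter.unusedSectionVars false
set_option linter.unusedVariables false

open scoped Polynomial MatrixGroups

namespace Cfsg.Agent.Lib.Helper5.StV

theorem h5_sum_Icc_one {M : Type*} [AddCommMonoid M] (n : ℕ) (f : ℕ → M) :
    ∑ k ∈ Finset.Icc 1 n, f k = ∑ i ∈ Finset.range n, f (i + 1) := by
  induction n with
  | zero => simp
  | succ n ih =>
    rw [Finset.sum_range_succ, ← ih, Finset.sum_Icc_succ_top (by omega)]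

theorem expand_of_rec {R : Type*} [Ring R] (z : ℕ → R) (H : ℕ → ℕ → R)
    (h1 : ∀ s, H 1 s = z (1 + s) * H 0 0)
    (hrec : ∀ n, 1 ≤ n → ∀ s, H (n + 1) s = z (1 + s) * H n 0 - H n (s + 1)) (n : ℕ) (hn : 1 ≤ n) (s : ℕ) :
    H n s = ∑ k ∈ Finset.Icc 1 n, ((-1 : ℤ) ^ (k - 1)) • (z (k + s) * H (n - k) 0) := by
  induction n, hn using Nat.le_induction generalizing s with
  | base =>
    rw [h5_sum_Icc_one, Finset.sum_range_one, h1 s]
    simp
  | succ n hn ih =>
    rw [hrec n hn s, ih (s + 1), h5_sum_Icc_one, h5_sum_Icc_one, Finset.sum_range_succ']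
    have : ∑ i ∈ Finset.range n, (-1 : ℤ) ^ (i + 1 + 1 - 1) • (z (i + 1 + 1 + s) * H (n + 1 - (i + 1 + 1)) 0) =
        - ∑ i ∈ Finset.range n, (-1 : ℤ) ^ (i + 1 - 1) • (z (i + 1 + (s + 1)) * H (n - (i + 1)) 0) := by
      rw [← Finset.sum_neg_distrib]
      apply Finset.sum_congr rfl
      intro i _
      have e1 : i + 1 + 1 - 1 = (i + 1 - 1) + 1 := by omega
      have e2 : i + 1 + 1 + s = i + 1 + (s + 1) := by omega
      have e3 : n + 1 - (i + 1 + 1) = n - (i + 1) := by omega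
      rw [e1, e2, e3, pow_succ]
      simp
    rw [this]
    simp only [zero_add, Nat.sub_self, pow_zero, one_smul, Nat.add_sub_cancel]
    abel

end Cfsg.Agent.Lib.Helper5.StV
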