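import Mathlib
import Cfsg.Prelude.Def_LinearParabolics
import Cfsg.Agent.Lib.Helper5.StVDefs

set_option autoImplicit false
set_option linter.unusedSectionVars false
set_option linter.unusedVariables false

open scoped Polynomial MatrixGroups

namespace Cfsg.Agent.Lib.Helper5.StV

section

variable {F : Type*} [Field F] {V : Type*} [AddCommGroup V] [Module F V] [FiniteDimensional F V]

theorem h5_mem_cyc_iff (x : Module.End F V) (u v : V) :
    v ∈ cyc x u ↔ ∃ p : F[X], Polynomial.aeval x p u = v := by
  unfold cyc
  rw [LinearMap.mem_range]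
  rfl

theorem cyc_mem_invt (x : Module.End F V) (u : V) : cyc x u ∈ Module.End.invtSubmodule x := by
  rw [Module.End.mem_invtSubmodule_iff_forall_mem_of_mem]
  intro v hv
  rw [h5_mem_cyc_iff] at hv ⊢
  obtain ⟨p, rfl⟩ := hv
  refine ⟨Polynomial.X * p, ?_⟩
  rw [map_mul, Polynomial.aeval_X]
  rfl

theorem mem_cyc_self (x : Module.End F V) (u : V) : u ∈ cyc x u := by
  rw [h5_mem_cyc_iff]
  exact ⟨1, by simp⟩

theorem h5_aeval_mem (x : Module.End F V) (W : Submodule F V) (hW : W ∈ Module.End.invtSubmodule x)
    (p : F[X]) (v : V) (hv : v ∈ W) : Polynomial.aeval x p v ∈ W := by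
  induction p using Polynomial.induction_on' with
  | add p q hp hq =>
    rw [map_add, LinearMap.add_apply]
    exact W.add_mem hp hq
  | monomial n a =>
    rw [Polynomial.aeval_monomial]
    have hpow : ∀ n : ℕ, (x ^ n) v ∈ W := by
      intro n
      induction n with
      | zero => simpa using hv
      | succ n ih =>
        rw [pow_succ', Module.End.mul_apply]
        exact ((Module.End.mem_invtSubmodule_iff_forall_mem_of_mem (f := x)).mp hW) _ ih
    rw [Module.End.mul_apply, Module.algebraMap_end_apply]
    exact W.smul_mem _ (hpow n)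

theorem cyc_le (x : Module.End F V) (u : V) (W : Inv x) (hu : u ∈ W.1) : cyc x u ≤ W.1 := by
  intro v hv
  rw [h5_mem_cyc_iff] at hv
  obtain ⟨p, rfl⟩ := hv
  exact h5_aeval_mem x W.1 W.2 p u hu

theorem cyc_isAtom (x : Module.End F V) (f : F[X]) (hf : Irreducible f) (u : V) (hu : u ≠ 0)
    (hfu : Polynomial.aeval x f u = 0) : IsAtom (⟨cyc x u, cyc_mem_invt x u⟩ : Inv x) := by
  constructor
  · intro h
    have h1 : cyc x u = ⊥ := by
      have := congrArg Subtype.val h
      exact this
    have h2 := mem_cyc_self x u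
    rw [h1, Submodule.mem_bot] at h2
    exact hu h2
  · intro W hW
    by_contra hne
    -- W ≠ ⊥ : pick a nonzero element
    have hW1 : W.1 ≠ ⊥ := by
      intro h
      apply hne
      apply Subtype.ext
      exact h
    obtain ⟨w, hwW, hw0⟩ := Submodule.exists_mem_ne_zero_of_ne_bot hW1
    have hle : W.1 ≤ cyc x u := hW.le
    have hwc := hle hwW
    rw [h5_mem_cyc_iff] at hwc
    obtain ⟨p, hp⟩ := hwc
    have hnd : ¬ f ∣ p := by
      rintro ⟨c, rfl⟩
      apply hw0
      rw [← hp, mul_comm, map_mul, Module.End.mul_apply, hfu, map_zero]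
    have hcop : IsCoprime f p := (Irreducible.coprime_iff_not_dvd hf).mpr hnd
    obtain ⟨a, b, hab⟩ := hcop
    have hu' : u = Polynomial.aeval x b w := by
      have h1 : Polynomial.aeval x (a * f + b * p) u = u := by
        rw [hab]; simp
      rw [map_add, LinearMap.add_apply, map_mul, map_mul, Module.End.mul_apply, Module.End.mul_apply, hfu,
        map_zero, zero_add, hp] at h1
      exact h1.symm
    have huW : u ∈ W.1 := by
      rw [hu']
      exact h5_aeval_mem x W.1 W.2 b w hwW
    have hge : cyc x u ≤ W.1 := cyc_le x u W huW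
    have : W = ⟨cyc x u, cyc_mem_invt x u⟩ := by
      apply Subtype.ext
      exact le_antisymm hle hge
    exact (ne_of_lt hW) this

end

end Cfsg.Agent.Lib.Helper5.StV
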