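import Mathlib
import Cfsg.Prelude.Def_LinearParabolics
import Cfsg.Agent.Lib.Helper5.StVDefs
import Cfsg.Agent.Lib.Helper2.StVWeisner
import Cfsg.Agent.Lib.Helper2.StVTau
import Cfsg.Agent.Lib.Helper6.StVSemiA
import Cfsg.Agent.Lib.Helper6.StVSemiB
import Cfsg.Agent.Lib.Helper7.StVSemiE
import Cfsg.Agent.Lib.Helper6.StVSemiD

set_option autoImplicit false
set_option linter.unusedSectionVars false
set_option linter.unusedVariables false

open scoped Polynomial MatrixGroups

namespace Cfsg.Agent.Lib.Helper5.StV

theorem h5_tau_zero {F : Type*} [Field F] [DecidableEq F] (q : ℕ) : tau q (0 : Multiset F[X]) = 1 := by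
  unfold tau
  simp

theorem mu_semisimple.{u} {F : Type*} [Field F] [Fintype F] [DecidableEq F] {V : Type u} [AddCommGroup V] [Module F V]
    [FiniteDimensional F V] (x : Module.End F V) (hx : x.IsSemisimple) (e : Inv x → ℤ) (he : IsUpperMu e) :
    e ⊥ = tau (Fintype.card F) (UniqueFactorizationMonoid.normalizedFactors x.charpoly) := by
  classical
  induction' hd : Module.finrank F V using Nat.strong_induction_on with d ih generalizing V
  rcases subsingleton_or_nontrivial V with hsub | hnt
  · -- trivial space
    have hss : Subsingleton (Inv x) := by
      constructor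
      intro a b
      apply Subtype.ext
      exact Subsingleton.elim _ _
    have h1 := he ⊤
    rw [if_pos rfl] at h1
    have hf : (Finset.univ.filter (fun u : Inv x => (⊤ : Inv x) ≤ u)) = {⊥} := by
      ext u
      simp only [Finset.mem_filter, Finset.mem_univ, true_and, Finset.mem_singleton]
      constructor
      · intro _; exact Subsingleton.elim _ _
      · intro h; rw [h]; exact le_of_eq (Subsingleton.elim _ _)
    have hf' : (Finset.univ.filter (fun u : Inv x => (⊤ : Inv x) ≤ u)) = {⊥} := hf
    have h2 : e ⊥ = 1 := by
      rw [← h1]
      convert (Finset.sum_singleton e (⊥ : Inv x)).symm using 2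
    have hc : x.charpoly = 1 := by
      apply Polynomial.eq_one_of_monic_natDegree_zero (LinearMap.charpoly_monic x)
      rw [LinearMap.charpoly_natDegree]
      exact Module.finrank_zero_of_subsingleton
    rw [h2, hc, UniqueFactorizationMonoid.normalizedFactors_one, h5_tau_zero]
  · -- nontrivial space
    obtain ⟨A, V', hA, hc⟩ := exists_atom_isCompl x hx
    have hV'top : V' ≠ ⊤ := by
      intro h
      rw [h] at hc
      exact hA.1 (eq_bot_of_isCompl_top hc)
    have hco : IsCoatom V' := isCoatom_of_isCompl x A V' hA hc
    have hw := weisner e he V' hV'top
    -- the value on complements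
    have hlt : Module.finrank F V'.1 < d := by
      rw [← hd]
      apply Submodule.finrank_lt
      intro h
      apply hV'top
      apply Subtype.ext
      exact h
    have hval : ∀ U : Inv x, IsCompl U V' →
        e U = tau (Fintype.card F) (UniqueFactorizationMonoid.normalizedFactors (restr x V').charpoly) := by
      intro U hU
      obtain ⟨e', he', hbot⟩ := exists_upperMu_restr x e he U V' hU
      rw [← hbot]
      exact ih _ hlt (restr x V') (isSemisimple_restr x hx V') e' he' rfl
    -- split the Weisner sum
    have hsplit : (Finset.univ.filter (fun u : Inv x => u ⊓ V' = ⊥)) =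
        insert ⊥ (Finset.univ.filter (fun u : Inv x => IsCompl u V')) := by
      ext u
      simp only [Finset.mem_filter, Finset.mem_univ, true_and, Finset.mem_insert]
      constructor
      · intro h
        by_cases hu : u = ⊥
        · left; exact hu
        · right
          refine ⟨disjoint_iff.mpr h, ?_⟩
          rw [codisjoint_iff]
          have hle : V' ≤ u ⊔ V' := le_sup_right
          rcases eq_or_lt_of_le hle with h1 | h1
          · exfalso
            apply hu
            have : u ≤ V' := by rw [h1]; exact le_sup_left
            rw [← h, eq_comm, inf_eq_left]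
            exact this
          · exact hco.2 _ h1
      · rintro (h | h)
        · rw [h]; exact bot_inf_eq _
        · exact disjoint_iff.mp h.1
    have hnotmem : (⊥ : Inv x) ∉ (Finset.univ.filter (fun u : Inv x => IsCompl u V')) := by
      simp only [Finset.mem_filter, Finset.mem_univ, true_and]
      intro h
      exact hV'top (eq_top_of_bot_isCompl h)
    rw [hsplit, Finset.sum_insert hnotmem] at hw
    have hsum : ∑ u ∈ Finset.univ.filter (fun u : Inv x => IsCompl u V'), e u =
        ((Finset.univ.filter (fun u : Inv x => IsCompl u V')).card : ℤ) *
          tau (Fintype.card F) (UniqueFactorizationMonoid.normalizedFactors (restr x V').charpoly) := by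
      rw [Finset.sum_congr rfl (fun u hu => hval u (Finset.mem_filter.mp hu).2)]
      rw [Finset.sum_const, nsmul_eq_mul]
    have hcard : (Finset.univ.filter (fun u : Inv x => IsCompl u V')).card =
        (Fintype.card F ^ (restr x A).charpoly.natDegree) ^
          (UniqueFactorizationMonoid.normalizedFactors (restr x V').charpoly).count (restr x A).charpoly := by
      rw [← card_isCompl x hx A V' hA hc, Nat.card_eq_fintype_card, Fintype.card_subtype]
    rw [hsum, hcard] at hw
    -- the factorization
    obtain ⟨hirr, _⟩ := charpoly_restr_atom x A hA
    have hmul := charpoly_eq_mul x A V' hc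
    have hfm : (restr x A).charpoly.Monic := LinearMap.charpoly_monic _
    have hgm : (restr x V').charpoly.Monic := LinearMap.charpoly_monic _
    have hnf : UniqueFactorizationMonoid.normalizedFactors x.charpoly =
        (restr x A).charpoly ::ₘ UniqueFactorizationMonoid.normalizedFactors (restr x V').charpoly := by
      rw [hmul, UniqueFactorizationMonoid.normalizedFactors_mul hfm.ne_zero hgm.ne_zero,
        UniqueFactorizationMonoid.normalizedFactors_irreducible hirr, hfm.normalize_eq_self]
      rfl
    rw [hnf, tau_cons]
    push_cast at hw ⊢
    linarith

end Cfsg.Agent.Lib.Helper5.StV
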