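import Mathlib
import Cfsg.Prelude.Def_LinearParabolics
import Cfsg.Agent.Lib.Helper5.StVDefs

set_option autoImplicit false
set_option linter.unusedSectionVars false
set_option linter.unusedVariables false

open scoped Polynomial MatrixGroups

namespace Cfsg.Agent.Lib.Helper5.StV

section

variable {L : Type*} [PartialOrder L] [Fintype L] [DecidableEq L] (r : L → ℕ)

open Classical in
theorem h5_stepMat_apply (k : ℕ) (U U' : L) :
    stepMat r k U U' = (if U ≤ U' ∧ r U' = r U + k then 1 else 0 : ℤ) := by
  unfold stepMat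
  rfl

theorem stepMat_zero (hr : StrictMono r) : stepMat r 0 = 1 := by
  ext U U'
  rw [h5_stepMat_apply, Matrix.one_apply]
  by_cases h : U = U'
  · subst h
    simp
  · rw [if_neg h, if_neg]
    rintro ⟨hle, hrk⟩
    have hlt : U < U' := lt_of_le_of_ne hle h
    have := hr hlt
    omega

/-- the chain predicate -/
def h5_chainP (n : ℕ) (μ : Fin n → ℕ) (U U' : L) (W : Fin (n + 1) → L) : Prop :=
  W 0 = U ∧ W (Fin.last n) = U' ∧
    ∀ i : Fin n, W i.castSucc ≤ W i.succ ∧ r (W i.succ) = r (W i.castSucc) + μ i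

theorem h5_chainP_succ (n : ℕ) (μ : Fin (n + 1) → ℕ) (U U' : L) (W : Fin (n + 2) → L) :
    h5_chainP r (n + 1) μ U U' W ↔
      W 0 = U ∧ (U ≤ W 1 ∧ r (W 1) = r U + μ 0) ∧
        h5_chainP r n (fun i => μ i.succ) (W 1) U' (fun j => W j.succ) := by
  unfold h5_chainP
  constructor
  · rintro ⟨h0, hl, hs⟩
    refine ⟨h0, ?_, rfl, ?_, ?_⟩
    · have := hs 0
      simp only [Fin.castSucc_zero, Fin.succ_zero_eq_one] at this
      rw [h0] at this
      exact this
    · show W (Fin.last n).succ = U'
      rw [Fin.succ_last]; exact hl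
    · intro i
      show W i.castSucc.succ ≤ W i.succ.succ ∧ r (W i.succ.succ) = r (W i.castSucc.succ) + μ i.succ
      have := hs i.succ
      rw [← Fin.succ_castSucc] at this
      exact this
  · rintro ⟨h0, hst, _, hl, hs⟩
    refine ⟨h0, ?_, ?_⟩
    · have hl' : W (Fin.last n).succ = U' := hl
      rw [← Fin.succ_last]; exact hl'
    · intro i
      refine Fin.cases ?_ (fun j => ?_) i
      · simp only [Fin.castSucc_zero, Fin.succ_zero_eq_one]
        rw [h0]
        exact hst
      · have : W j.castSucc.succ ≤ W j.succ.succ ∧ r (W j.succ.succ) = r (W j.castSucc.succ) + μ j.succ := hs j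
        rw [← Fin.succ_castSucc]
        exact this

open Classical in
theorem h5_card_chain_zero (U U' : L) (μ : Fin 0 → ℕ) :
    Fintype.card {W : Fin 1 → L // h5_chainP r 0 μ U U' W} = if U = U' then 1 else 0 := by
  by_cases h : U = U'
  · subst h
    rw [if_pos rfl, Fintype.card_eq_one_iff]
    refine ⟨⟨fun _ => U, rfl, rfl, fun i => i.elim0⟩, ?_⟩
    rintro ⟨W, h0, _, _⟩
    apply Subtype.ext
    funext j
    have : j = 0 := Subsingleton.elim _ _
    rw [this]
    exact h0
  · rw [if_neg h, Fintype.card_eq_zero_iff]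
    constructor
    rintro ⟨W, h0, hl, _⟩
    apply h
    rw [← h0, ← hl]
    rfl

open Classical in
theorem h5_card_chain_succ (n : ℕ) (μ : Fin (n + 1) → ℕ) (U U' : L) :
    Fintype.card {W : Fin (n + 2) → L // h5_chainP r (n + 1) μ U U' W} =
      ∑ U'' : L, (if U ≤ U'' ∧ r U'' = r U + μ 0 then 1 else 0) *
        Fintype.card {W' : Fin (n + 1) → L // h5_chainP r n (fun i => μ i.succ) U'' U' W'} := by
  rw [Fintype.card_subtype,
    Finset.card_eq_sum_card_fiberwise (f := fun W : Fin (n + 2) → L => W 1) (t := Finset.univ)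
      (fun _ _ => Finset.mem_univ _)]
  apply Finset.sum_congr rfl
  intro U'' _
  by_cases hst : U ≤ U'' ∧ r U'' = r U + μ 0
  · rw [if_pos hst, one_mul, Fintype.card_subtype]
    apply Finset.card_nbij' (fun W => fun j => W j.succ) (fun W' => Fin.cons U W')
    · intro W hW
      simp only [Finset.coe_filter, Finset.mem_filter, Finset.mem_univ, true_and, Set.mem_ofPred_eq] at hW ⊢
      obtain ⟨hP, h1⟩ := hW
      rw [h5_chainP_succ] at hP
      rw [← h1]
      exact hP.2.2
    · intro W' hW'
      simp only [Finset.coe_filter, Finset.mem_filter, Finset.mem_univ, true_and, Set.mem_ofPred_eq] at hW' ⊢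
      have h10 : (Fin.cons U W' : Fin (n + 2) → L) 1 = W' 0 := by
        rw [← Fin.succ_zero_eq_one, Fin.cons_succ]
      have hW0 : W' 0 = U'' := hW'.1
      refine ⟨?_, ?_⟩
      · rw [h5_chainP_succ]
        refine ⟨Fin.cons_zero _ _, ?_, ?_⟩
        · rw [h10, hW0]; exact hst
        · rw [h10, hW0]
          simp only [Fin.cons_succ]
          exact hW'
      · rw [h10, hW0]
    · intro W hW
      simp only [Finset.coe_filter, Finset.mem_filter, Finset.mem_univ, true_and, Set.mem_ofPred_eq] at hW
      obtain ⟨hP, h1⟩ := hW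
      funext j
      refine Fin.cases ?_ (fun i => ?_) j
      · show (Fin.cons U (fun j => W j.succ) : Fin (n + 2) → L) 0 = W 0
        rw [Fin.cons_zero]; exact hP.1.symm
      · show (Fin.cons U (fun j => W j.succ) : Fin (n + 2) → L) i.succ = W i.succ
        rw [Fin.cons_succ]
    · intro W' _
      funext j
      show (Fin.cons U W' : Fin (n + 2) → L) j.succ = W' j
      rw [Fin.cons_succ]
  · rw [if_neg hst, zero_mul, Finset.card_eq_zero, Finset.filter_eq_empty_iff]
    intro W hW
    simp only [Finset.mem_filter, Finset.mem_univ, true_and] at hW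
    intro h1
    apply hst
    rw [h5_chainP_succ] at hW
    rw [← h1]
    exact hW.2.1

open Classical in
theorem h5_prod_stepMat (n : ℕ) : ∀ (μ : Fin n → ℕ) (U U' : L),
    (List.ofFn fun i : Fin n => stepMat r (μ i)).prod U U' =
      (Fintype.card {W : Fin (n + 1) → L // h5_chainP r n μ U U' W} : ℤ) := by
  classical
  induction n with
  | zero =>
    intro μ U U'
    rw [h5_card_chain_zero]
    simp [Matrix.one_apply]
  | succ n ih =>
    intro μ U U'
    rw [List.ofFn_succ, List.prod_cons, Matrix.mul_apply, h5_card_chain_succ]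
    push_cast
    apply Finset.sum_congr rfl
    intro U'' _
    rw [h5_stepMat_apply, ih (fun i => μ i.succ) U'' U']

theorem prod_stepMat_apply (n : ℕ) (μ : Fin n → ℕ) (U U' : L) :
    (List.ofFn fun i : Fin n => stepMat r (μ i)).prod U U' =
      (Nat.card {W : Fin (n + 1) → L // W 0 = U ∧ W (Fin.last n) = U' ∧
        ∀ i : Fin n, W i.castSucc ≤ W i.succ ∧ r (W i.succ) = r (W i.castSucc) + μ i} : ℤ) := by
  classical
  rw [h5_prod_stepMat, ← Nat.card_eq_fintype_card]
  rfl

end

end Cfsg.Agent.Lib.Helper5.StV
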