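import Mathlib
import Cfsg.Prelude.Def_LinearParabolics
import Cfsg.Agent.Lib.Helper5.StVDefs

set_option autoImplicit false
set_option linter.unusedSectionVars false
set_option linter.unusedVariables false

open scoped Polynomial MatrixGroups

namespace Cfsg.Agent.Lib.Helper5.StV

section

variable {L : Type*} [PartialOrder L] [Fintype L] [DecidableEq L] [BoundedOrder L] (r : L → ℕ)

open Classical in
theorem h5_stepMat_apply' (k : ℕ) (U U' : L) :
    stepMat r k U U' = (if U ≤ U' ∧ r U' = r U + k then 1 else 0 : ℤ) := by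
  unfold stepMat
  rfl

open Classical in
/-- the entry `(y, ⊤)` of the expansion, as a sum over the elements above `y` -/
theorem h5_entry (hr : StrictMono r) (n : ℕ) (htop : r ⊤ = n) (H : ℕ → Matrix L L ℤ) (y : L) (hy : y ≠ ⊤) :
    (∑ k ∈ Finset.Icc 1 (n - r y), ((-1 : ℤ) ^ (k - 1)) • (stepMat r k * H (n - r y - k))) y ⊤ =
      ∑ U ∈ Finset.univ.filter (fun U : L => y < U), (-1 : ℤ) ^ (r U - r y - 1) * H (n - r U) U ⊤ := by
  have hmono : Monotone r := hr.monotone
  rw [Matrix.sum_apply]
  simp only [Matrix.smul_apply, Matrix.mul_apply, smul_eq_mul, Finset.mul_sum]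
  rw [Finset.sum_comm, Finset.sum_filter]
  apply Finset.sum_congr rfl
  intro U _
  by_cases hU : y < U
  · rw [if_pos hU]
    have hlt : r y < r U := hr hU
    have hle : r U ≤ n := by rw [← htop]; exact hmono le_top
    rw [Finset.sum_eq_single (r U - r y)]
    · rw [h5_stepMat_apply', if_pos ⟨hU.le, by omega⟩, one_mul]
      congr 2
      omega
    · intro k _ hk
      rw [h5_stepMat_apply', if_neg, zero_mul, mul_zero]
      rintro ⟨_, h⟩
      apply hk
      omega
    · intro h
      exfalso
      apply h
      rw [Finset.mem_Icc]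
      omega
  · rw [if_neg hU]
    apply Finset.sum_eq_zero
    intro k hk
    rw [Finset.mem_Icc] at hk
    rw [h5_stepMat_apply', if_neg, zero_mul, mul_zero]
    rintro ⟨hle, h⟩
    apply hU
    apply lt_of_le_of_ne hle
    intro heq
    rw [heq] at h
    omega

theorem isUpperMu_of_expand (hr : StrictMono r) (n : ℕ) (htop : r ⊤ = n) (H : ℕ → Matrix L L ℤ) (h0 : H 0 = 1)
    (hexp : ∀ m, 1 ≤ m → H m = ∑ k ∈ Finset.Icc 1 m, ((-1 : ℤ) ^ (k - 1)) • (stepMat r k * H (m - k))) :
    IsUpperMu (fun U : L => (-1 : ℤ) ^ (n - r U) * (H (n - r U)) U ⊤) := by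
  classical
  have hmono : Monotone r := hr.monotone
  intro y
  by_cases hy : y = ⊤
  · subst hy
    rw [if_pos rfl]
    have hf : (Finset.univ.filter (fun u : L => (⊤ : L) ≤ u)) = {⊤} := by
      ext u
      simp only [Finset.mem_filter, Finset.mem_univ, true_and, Finset.mem_singleton, top_le_iff]
    have hf' : ∑ u ∈ Finset.univ.filter (fun u : L => (⊤ : L) ≤ u),
        (-1 : ℤ) ^ (n - r u) * (H (n - r u)) u ⊤ = (-1 : ℤ) ^ (n - r ⊤) * (H (n - r ⊤)) ⊤ ⊤ := by
      rw [hf, Finset.sum_singleton]
    convert hf' using 1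
    rw [htop, Nat.sub_self, h0]
    simp
  · rw [if_neg hy]
    have hylt : y < ⊤ := lt_top_iff_ne_top.mpr hy
    have hry : r y < n := by rw [← htop]; exact hr hylt
    have hsplit : (Finset.univ.filter (fun u : L => y ≤ u)) =
        insert y (Finset.univ.filter (fun u : L => y < u)) := by
      ext u
      simp only [Finset.mem_filter, Finset.mem_univ, true_and, Finset.mem_insert]
      constructor
      · intro h
        rcases eq_or_lt_of_le h with h1 | h1
        · left; exact h1.symm
        · right; exact h1
      · rintro (h | h)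
        · rw [h]
        · exact h.le
    have hnm : y ∉ (Finset.univ.filter (fun u : L => y < u)) := by
      simp
    have key : ∑ u ∈ Finset.univ.filter (fun u : L => y ≤ u),
        (-1 : ℤ) ^ (n - r u) * (H (n - r u)) u ⊤ = 0 := by
      rw [hsplit, Finset.sum_insert hnm]
      have hm : 1 ≤ n - r y := by omega
      have hH : (H (n - r y)) y ⊤ = ∑ U ∈ Finset.univ.filter (fun U : L => y < U),
          (-1 : ℤ) ^ (r U - r y - 1) * H (n - r U) U ⊤ := by
        rw [← h5_entry r hr n htop H y hy]
        conv_lhs => rw [hexp (n - r y) hm]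
      rw [hH, Finset.mul_sum, ← Finset.sum_add_distrib]
      apply Finset.sum_eq_zero
      intro U hU
      simp only [Finset.mem_filter, Finset.mem_univ, true_and] at hU
      have hlt : r y < r U := hr hU
      have hle : r U ≤ n := by rw [← htop]; exact hmono le_top
      have e1 : n - r y = (n - r U) + (r U - r y - 1) + 1 := by omega
      rw [← mul_assoc, ← pow_add, e1]
      have e2 : (n - r U) + (r U - r y - 1) + 1 + (r U - r y - 1) = (n - r U) + (2 * (r U - r y - 1) + 1) := by
        omega
      rw [e2, pow_add, pow_add, pow_mul]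
      simp
    convert key using 1

end

end Cfsg.Agent.Lib.Helper5.StV
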