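import Mathlib
import Cfsg.Prelude.Def_LinearParabolics
import Cfsg.Agent.Lib.Helper5.StVDefs
import Cfsg.Agent.Lib.Helper5.StVHess1
import Cfsg.Agent.Lib.Helper5.StVHess2
import Cfsg.Agent.Lib.Helper5.StVStep
import Cfsg.Agent.Lib.Helper5.StVUpper
import Cfsg.Agent.Lib.Helper5.StVMain
import Cfsg.Agent.Lib.Helper7.StVMisc
import Cfsg.Agent.Lib.Helper6.GLFlag4

/-! Assembly of S2425: the values of the Steinberg character of `GL_n(q)` at elements of order prime to `p`. -/

set_option autoImplicit false
set_option linter.unusedSectionVars false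
set_option linter.unusedVariables false

open scoped Polynomial MatrixGroups

namespace Cfsg.Agent.Lib.Helper5.StV

theorem hess_expand {R : Type*} [Ring R] (z : ℕ → R) (hz : z 0 = 1) (n : ℕ) (hn : 1 ≤ n) (s : ℕ) :
    hess z n s = ∑ k ∈ Finset.Icc 1 n, ((-1 : ℤ) ^ (k - 1)) • (z (k + s) * hess z (n - k) 0) := by
  apply expand_of_rec z (fun n s => hess z n s)
  · intro s
    have := hess_succ z hz 0 s
    rw [if_pos rfl, sub_zero] at this
    exact this
  · intro n hn s
    have := hess_succ z hz n s
    rw [if_neg (by omega)] at this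
    exact this
  · exact hn

theorem isUpperMu_hess {L : Type*} [PartialOrder L] [Fintype L] [DecidableEq L] [BoundedOrder L] (r : L → ℕ)
    (hr : StrictMono r) (n : ℕ) (htop : r ⊤ = n) :
    IsUpperMu (fun U : L => (-1 : ℤ) ^ (n - r U) * (hess (stepMat r) (n - r U) 0) U ⊤) := by
  apply isUpperMu_of_expand r hr n htop (fun m => hess (stepMat r) m 0) (hess_zero _ _)
  intro m hm
  have := hess_expand (stepMat r) (stepMat_zero r hr) m hm 0
  simpa using this

theorem steinberg_value {F : Type*} [Field F] [Fintype F] [DecidableEq F] {q : ℕ} (hq : Fintype.card F = q)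
    (p : ℕ) [Fact p.Prime] [CharP F p] {n : ℕ} (x : GL (Fin n) F) (hx : (orderOf x).Coprime p) :
    Cfsg.unipotentCharacterGL n F (fun _ => 1) x =
      ∏ f ∈ (UniqueFactorizationMonoid.normalizedFactors (x : Matrix (Fin n) (Fin n) F).charpoly).toFinset,
        (-1 : ℂ) ^ ((f.natDegree - 1) * (UniqueFactorizationMonoid.normalizedFactors (x : Matrix (Fin n) (Fin n) F).charpoly).count f) *
          (q : ℂ) ^ (f.natDegree * (UniqueFactorizationMonoid.normalizedFactors (x : Matrix (Fin n) (Fin n) F).charpoly).count f *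
            ((UniqueFactorizationMonoid.normalizedFactors (x : Matrix (Fin n) (Fin n) F).charpoly).count f - 1) / 2) := by
  set X : Module.End F (Fin n → F) := Matrix.toLin' (x : Matrix (Fin n) (Fin n) F) with hX
  have hXc : X.charpoly = (x : Matrix (Fin n) (Fin n) F).charpoly := Matrix.charpoly_toLin' _
  have h1 : ∀ κ : Equiv.Perm (Fin n), (∀ i : Fin n, (κ i).val ≤ 1 + i.val) →
      Cfsg.fixedPointCharacter (Cfsg.parabolicGL n F fun i => 1 + i.val - (κ i).val) x =
        (((List.ofFn fun i : Fin n => stepMat (rk X) (1 + i.val - (κ i).val)).prod ⊥ ⊤ : ℤ) : ℂ) := by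
    intro κ hκ
    rw [Cfsg.Agent.Lib.Helper6.GLFlag.fixedPointCharacter_parabolicGL_eq _ (sum_hess_comp κ hκ) x,
      card_chains_bridge' X _ (sum_hess_comp κ hκ), prod_stepMat_apply]
    push_cast
    rfl
  have h2 : Cfsg.unipotentCharacterGL n F (fun _ => 1) x = (((hess (stepMat (rk X)) n 0) ⊥ ⊤ : ℤ) : ℂ) := by
    unfold Cfsg.unipotentCharacterGL hess
    rw [Matrix.sum_apply]
    push_cast
    apply Finset.sum_congr rfl
    intro κ _
    by_cases h : ∀ i : Fin n, (κ i).val ≤ 1 + i.val
    · rw [if_pos h, if_pos h, h1 κ h, Matrix.smul_apply]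
      simp only [ite_self, add_zero]
      rw [zsmul_eq_mul]
      push_cast
      rfl
    · rw [if_neg h, if_neg h]
      simp
  have h3 := isUpperMu_hess (rk X) (rk_strictMono X) n (by rw [rk_top]; simp)
  have h4 := mu_semisimple X (isSemisimple_toLin' p x hx) _ h3
  simp only [rk_bot, Nat.sub_zero] at h4
  have hs : ∀ f ∈ UniqueFactorizationMonoid.normalizedFactors X.charpoly, 1 ≤ f.natDegree := by
    intro f hf
    have := UniqueFactorizationMonoid.irreducible_of_normalized_factor f hf
    exact Polynomial.natDegree_pos_iff_degree_pos.mpr (Polynomial.degree_pos_of_irreducible this)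
  have hn : ((UniqueFactorizationMonoid.normalizedFactors X.charpoly).map Polynomial.natDegree).sum = n := by
    have hm : X.charpoly.Monic := LinearMap.charpoly_monic X
    have h0 : (0 : F[X]) ∉ UniqueFactorizationMonoid.normalizedFactors X.charpoly :=
      UniqueFactorizationMonoid.zero_notMem_normalizedFactors _
    rw [← Polynomial.natDegree_multiset_prod _ h0,
      UniqueFactorizationMonoid.prod_normalizedFactors_eq hm.ne_zero, hm.normalize_eq_self,
      LinearMap.charpoly_natDegree]
    simp
  have h5 := tau_eq_prod (Fintype.card F) n (UniqueFactorizationMonoid.normalizedFactors X.charpoly) hs hn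
  rw [h2, ← hXc, ← hq, ← h5, ← h4]
  push_cast
  rw [← mul_assoc, ← mul_pow]
  simp

end Cfsg.Agent.Lib.Helper5.StV
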