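import Mathlib
import Cfsg.Prelude.Def_ClassicalGeometry

set_option autoImplicit false
open Cfsg

namespace Cfsg.Agent.Lib.Helper5.StabConj

open Matrix

variable {H : Type*} [Group H] {ι : Type} [Fintype ι] [DecidableEq ι] {F : Type*} [CommRing F]

theorem toMat_inv_mulVec (toMat : H →* Matrix ι ι F) (h : H) (v : ι → F) :
    toMat h⁻¹ *ᵥ (toMat h *ᵥ v) = v := by
  rw [Matrix.mulVec_mulVec, ← map_mul, inv_mul_cancel, map_one, Matrix.one_mulVec]

theorem toMat_mulVec_inv (toMat : H →* Matrix ι ι F) (h : H) (v : ι → F) :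
    toMat h *ᵥ (toMat h⁻¹ *ᵥ v) = v := by
  rw [Matrix.mulVec_mulVec, ← map_mul, mul_inv_cancel, map_one, Matrix.one_mulVec]

theorem conj_mem (toMat : H →* Matrix ι ι F) (S S' : Set (ι → F)) (h : H)
    (hh : ∀ v, v ∈ S ↔ toMat h *ᵥ v ∈ S') (g : H) (hg : g ∈ stabilizing toMat S) :
    h * g * h⁻¹ ∈ stabilizing toMat S' := by
  intro w
  have e1 : w ∈ S' ↔ toMat h⁻¹ *ᵥ w ∈ S := by
    rw [hh (toMat h⁻¹ *ᵥ w), toMat_mulVec_inv]
  rw [e1, hg (toMat h⁻¹ *ᵥ w), hh, map_mul, map_mul, ← Matrix.mulVec_mulVec, ← Matrix.mulVec_mulVec]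

/-- stabilisers of sets in the same orbit are isomorphic -/
theorem stabilizing_conj_equiv (toMat : H →* Matrix ι ι F) (S S' : Set (ι → F)) (h : H)
    (hh : ∀ v, v ∈ S ↔ toMat h *ᵥ v ∈ S') :
    Nonempty (↥(stabilizing toMat S) ≃* ↥(stabilizing toMat S')) := by
  have hh' : ∀ v, v ∈ S' ↔ toMat h⁻¹ *ᵥ v ∈ S := by
    intro w
    rw [hh (toMat h⁻¹ *ᵥ w), toMat_mulVec_inv]
  exact ⟨{
    toFun := fun g => ⟨h * g.1 * h⁻¹, conj_mem toMat S S' h hh g.1 g.2⟩
    invFun := fun g => ⟨h⁻¹ * g.1 * h, by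
      have := conj_mem toMat S' S h⁻¹ hh' g.1 g.2
      rwa [inv_inv] at this⟩
    left_inv := fun g => by
      apply Subtype.ext
      show h⁻¹ * (h * g.1 * h⁻¹) * h = g.1
      group
    right_inv := fun g => by
      apply Subtype.ext
      show h * (h⁻¹ * g.1 * h) * h⁻¹ = g.1
      group
    map_mul' := fun a b => by
      apply Subtype.ext
      show h * (a.1 * b.1) * h⁻¹ = (h * a.1 * h⁻¹) * (h * b.1 * h⁻¹)
      group }⟩

end Cfsg.Agent.Lib.Helper5.StabConj
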