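import Mathlib
import Cfsg.Prelude.Def_ChevStructure
import Cfsg.Agent.Lib.Helper5.FieldFix.Basic
import Cfsg.Agent.Lib.Helper5.ChevCore
import Cfsg.Agent.Lib.Helper5.ChevWKer

set_option autoImplicit false

/-!
Centralisers and normalisers of subfield subgroups of Chevalley groups.

* an element of `G(F)` commuting with all `x_r(1)` is trivial;
* the elements of `G(F)` fixed by a field endomorphism `σ` are products `l₁ h l₂` with `l₁, l₂` in the
  subgroup generated by the root elements with `σ`-fixed parameter and `h ∈ H` fixed by `σ`.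
-/

namespace Cfsg.Agent.Lib.Helper5.SubfieldNorm

open Cfsg Cfsg.Lie Cfsg.Agent.Lib.Helper5.ChevSym Cfsg.Agent.Lib.Helper5.ChevStruct
  Cfsg.Agent.Lib.Helper5.FieldFix

variable {F : Type*} [Field F]

theorem xGL_one_ne_one (D : ChevalleyDatum) (hD : D ∈ Seven) (r : ℕ) (hr : r < D.nroots) :
    (xGL D hD r (1 : F) : GL D.Idx F) ≠ 1 := by
  intro h
  have h1 : D.x F r (1 : F) = D.x F r 0 := by
    rw [← xGL_val D hD r 1, h, Units.val_one, x_at_zero]
  exact one_ne_zero (x_inj_param D hD r hr 1 0 h1)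

/-- an element commuting with the positive root elements `x_r(1)` lies in `B` -/
theorem mem_borel_of_comm (D : ChevalleyDatum) (hD : D ∈ Seven) (g : GL D.Idx F)
    (hg : g ∈ D.group F)
    (hc : ∀ r, D.IsPosRoot r → g * xGL D hD r 1 = xGL D hD r 1 * g) :
    g ∈ D.borelSubgroup F := by
  obtain ⟨w, hw, b, hb, v, hv, rfl⟩ := bruhat_exists_word D hD g hg
  have hvB : v ∈ D.borelSubgroup F :=
    pos_le_borel D (unegOf_le_pos D _ (unegSub_le_unegOf D hD w hw hv))
  by_cases hcard : (negSet D w).card = 0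
  · have h1 := wPerm_eq_one_of_card D hD w hw hcard
    have h2 : ∀ r < D.nroots, wAct D w r = r := by
      intro r hr
      have := wPerm_apply D hD w hw ⟨r, hr⟩
      rw [h1] at this
      exact this.symm
    have h3 := wGL_mem_diagonal_of_act (F := F) D hD w hw h2
    exact mul_mem (mul_mem hb (diagonal_le_borel D h3)) hvB
  · exfalso
    obtain ⟨r, hr⟩ := Finset.card_pos.1 (Nat.pos_of_ne_zero hcard)
    rw [mem_negSet] at hr
    have hy : xGL D hD r (1 : F) ∈ unegSub D F w := xGL_mem_rootSetSub D hD _ r hr 1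
    have e := hc r hr.1
    have e' : b * wGL D hD w * (v * xGL D hD r 1) = (xGL D hD r 1 * b) * wGL D hD w * v := by
      rw [← mul_assoc, e]
      group
    have hwN := wGL_mem (F := F) D hD w hw
    have huq := (bruhat_unique D hD b (xGL D hD r 1 * b) (wGL D hD w) (wGL D hD w)
      (v * xGL D hD r 1) v hb
      (mul_mem (pos_le_borel D (unegOf_le_pos D _ (unegSub_le_unegOf D hD w hw hy))) hb) hwN hwN
      (unegSub_le_unegOf D hD w hw (mul_mem hv hy)) (unegSub_le_unegOf D hD w hw hv) e').2 rfl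
    have h1 : xGL D hD r (1 : F) = 1 := by
      have := huq.1
      exact mul_eq_right.1 this.symm
    exact xGL_one_ne_one D hD r hr.1.1 h1

theorem xGL_inv' (D : ChevalleyDatum) (hD : D ∈ Seven) (r : ℕ) (t : F) :
    (xGL D hD r t : GL D.Idx F)⁻¹ = xGL D hD r (-t) := by
  rw [inv_eq_iff_mul_eq_one]
  apply Units.ext
  rw [Units.val_mul, xGL_val, xGL_val, Units.val_one]
  exact x_mul_neg D hD r t

/-- commuting with `x_r(1)` implies commuting with `x_r(ε)`, `ε = ±1` -/
theorem comm_sign (D : ChevalleyDatum) (hD : D ∈ Seven) (g : GL D.Idx F) (r : ℕ)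
    (hc : g * xGL D hD r 1 = xGL D hD r 1 * g) (ε : F) (hε : ε = 1 ∨ ε = -1) :
    g * xGL D hD r ε = xGL D hD r ε * g := by
  rcases hε with rfl | rfl
  · exact hc
  · rw [← xGL_inv', eq_comm, inv_mul_eq_iff_eq_mul, ← mul_assoc, ← hc, mul_assoc, mul_inv_cancel,
      mul_one]

/-- an element commuting with all root elements `x_r(1)` lies in `H` -/
theorem mem_diagonal_of_comm (D : ChevalleyDatum) (hD : D ∈ Seven) (g : GL D.Idx F)
    (hg : g ∈ D.group F)
    (hc : ∀ r < D.nroots, g * xGL D hD r 1 = xGL D hD r 1 * g) :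
    g ∈ D.diagonalSubgroup F := by
  have hB : g ∈ D.borelSubgroup F := mem_borel_of_comm D hD g hg (fun r hr => hc r hr.1)
  obtain ⟨w, hchk⟩ := exists_w0 D hD
  have hchk' := hchk
  unfold checkW0 at hchk'
  rw [Bool.and_eq_true, List.all_eq_true, List.all_eq_true] at hchk'
  obtain ⟨hw0, hroots⟩ := hchk'
  have hw : Wd D w := fun i hi => by
    have := hw0 i hi
    rwa [Nat.blt_eq] at this
  have hpos : ∀ r, D.IsPosRoot r → D.IsNegRoot (wAct D w r) := by
    intro r hr
    have := hroots r (List.mem_range.2 hr.1)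
    rw [Bool.and_eq_true, Bool.or_eq_true, Bool.or_eq_true, wActC_eq, wActC_eq] at this
    rcases this.1 with h1 | h1
    · simp [hr] at h1
    · exact of_decide_eq_true h1
  set m : GL D.Idx F := wGL D hD w with hm
  have hmN : m ∈ D.monomialSubgroup F := wGL_mem D hD w hw
  have hmG : m ∈ D.group F := monomial_le_group D hD hmN
  -- `m⁻¹ g m` commutes with the positive root elements
  have hc' : ∀ r, D.IsPosRoot r → (m⁻¹ * g * m) * xGL D hD r 1 = xGL D hD r 1 * (m⁻¹ * g * m) := by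
    intro r hr
    obtain ⟨ε, hε, hconj⟩ := wGL_conj (F := F) D hD w hw r hr.1
    have h1 : m * xGL D hD r 1 * m⁻¹ = xGL D hD (wAct D w r) (ε * 1) := by
      apply Units.ext
      rw [xGL_val]
      exact hconj 1 (xGL D hD r 1) (xGL_val D hD r 1)
    rw [mul_one] at h1
    have h2 := comm_sign D hD g (wAct D w r) (hc _ (wAct_lt D hD w hw r hr.1)) ε hε
    rw [← h1] at h2
    calc m⁻¹ * g * m * xGL D hD r 1 = m⁻¹ * (g * (m * xGL D hD r 1 * m⁻¹)) * m := by group
      _ = m⁻¹ * ((m * xGL D hD r 1 * m⁻¹) * g) * m := by rw [h2]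
      _ = xGL D hD r 1 * (m⁻¹ * g * m) := by group
  have hB' : m⁻¹ * g * m ∈ D.borelSubgroup F :=
    mem_borel_of_comm D hD _ (mul_mem (mul_mem (inv_mem hmG) hg) hmG) hc'
  -- hence `g ∈ m B m⁻¹ = V H`
  have hmapU : (D.posUnipotent F).map (MulAut.conj m).toMonoidHom ≤ D.negUnipotent F := by
    unfold ChevalleyDatum.posUnipotent
    rw [MonoidHom.map_closure, Subgroup.closure_le]
    rintro y ⟨x, ⟨r, t, hr, hx⟩, rfl⟩
    obtain ⟨ε, _, hconj⟩ := wGL_conj (F := F) D hD w hw r hr.1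
    apply Subgroup.subset_closure
    exact ⟨wAct D w r, ε * t, hpos r hr, hconj t x hx⟩
  have h2 : g ∈ (D.borelSubgroup F).map (MulAut.conj m).toMonoidHom := by
    refine ⟨m⁻¹ * g * m, hB', ?_⟩
    show m * (m⁻¹ * g * m) * m⁻¹ = g
    group
  have h3 : (D.borelSubgroup F).map (MulAut.conj m).toMonoidHom
      ≤ D.negUnipotent F ⊔ D.diagonalSubgroup F := by
    unfold ChevalleyDatum.borelSubgroup
    rw [Subgroup.map_sup, diagonal_map_conj D hD m hmN]
    exact sup_le_sup_right hmapU _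
  have h4 : g ∈ D.borelSubgroup F ⊓ (D.negUnipotent F ⊔ D.diagonalSubgroup F) := ⟨hB, h3 h2⟩
  rwa [borel_inf_negBorel D hD] at h4

/-- an element of `G(F)` commuting with all root elements `x_r(1)` is trivial -/
theorem eq_one_of_comm (D : ChevalleyDatum) (hD : D ∈ Seven) (g : GL D.Idx F)
    (hg : g ∈ D.group F)
    (hc : ∀ r < D.nroots, g * xGL D hD r 1 = xGL D hD r 1 * g) : g = 1 := by
  have hH := mem_diagonal_of_comm D hD g hg hc
  obtain ⟨c, hc0, hval⟩ := exists_torusMat_of_mem D hD g hH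
  have hchi : ∀ r < D.nroots, chi D c r = 1 := by
    intro r hr
    have h1 := torus_conj_x D hD g (xGL D hD r 1) c hc0 hval r 1 (xGL_val D hD r 1)
    have h2 : g * xGL D hD r 1 * g⁻¹ = xGL D hD r 1 := by
      rw [hc r hr, mul_inv_cancel_right]
    rw [h2, xGL_val, mul_one] at h1
    exact (x_inj_param D hD r hr _ _ h1).symm
  apply Units.ext
  rw [hval, Units.val_one]
  unfold torusMat
  rw [← Matrix.diagonal_one]
  congr 1
  funext j
  rcases j with i | s
  · rfl
  · simp only [Sum.elim_inr]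
    exact hchi s.val s.isLt

/-! ### elements fixed by a field endomorphism -/

/-- the subgroup generated by the root elements with parameter fixed by `σ` -/
def Lsub (D : ChevalleyDatum) (σ : F →+* F) : Subgroup (GL D.Idx F) :=
  Subgroup.closure {g : GL D.Idx F | ∃ (s : ℕ) (t : F), σ t = t ∧
    (g : Matrix D.Idx D.Idx F) = D.x F s t}

theorem xGL_mem_Lsub (D : ChevalleyDatum) (hD : D ∈ Seven) (σ : F →+* F) (s : ℕ) (t : F)
    (ht : σ t = t) : xGL D hD s t ∈ Lsub D σ :=
  Subgroup.subset_closure ⟨s, t, ht, rfl⟩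

theorem Lsub_fixed (D : ChevalleyDatum) (hD : D ∈ Seven) (σ : F →+* F) (g : GL D.Idx F)
    (hg : g ∈ Lsub D σ) : glM D σ g = g := by
  unfold Lsub at hg
  induction hg using Subgroup.closure_induction with
  | mem y hy =>
    obtain ⟨s, t, ht, hy⟩ := hy
    have : y = xGL D hD s t := Units.ext hy
    rw [this, glM_xGL, ht]
  | one => exact map_one _
  | mul a b _ _ ha hb => rw [map_mul, ha, hb]
  | inv a _ ha => rw [map_inv, ha]

theorem Lsub_le_group (D : ChevalleyDatum) (hD : D ∈ Seven) (σ : F →+* F) :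
    Lsub D σ ≤ D.group F := by
  unfold Lsub
  rw [Subgroup.closure_le]
  rintro y ⟨s, t, -, hy⟩
  have : y = xGL D hD s t := Units.ext hy
  rw [this]
  exact xGL_mem_group D hD s t

theorem wordGL_mem_Lsub (D : ChevalleyDatum) (hD : D ∈ Seven) (σ : F →+* F) (w : List (ℕ × F))
    (hw : ∀ p ∈ w, σ p.2 = p.2) : wordGL D hD w ∈ Lsub D σ := by
  unfold wordGL
  apply Subgroup.list_prod_mem
  intro g hg
  rw [List.mem_map] at hg
  obtain ⟨p, hp, rfl⟩ := hg
  exact xGL_mem_Lsub D hD σ p.1 p.2 (hw p hp)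

theorem wGL_mem_Lsub (D : ChevalleyDatum) (hD : D ∈ Seven) (σ : F →+* F) (w : List ℕ) :
    (wGL D hD w : GL D.Idx F) ∈ Lsub D σ := by
  unfold wGL
  apply Subgroup.list_prod_mem
  intro g hg
  rw [List.mem_map] at hg
  obtain ⟨i, -, rfl⟩ := hg
  unfold nGL
  apply wordGL_mem_Lsub
  intro p hp
  unfold ChevalleyDatum.nWord at hp
  simp only [List.mem_cons, List.not_mem_nil, or_false] at hp
  rcases hp with rfl | rfl | rfl
  · exact map_one σ
  · show σ (-(1 : F)⁻¹) = -(1 : F)⁻¹
    rw [map_neg, map_inv₀, map_one]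
  · exact map_one σ

/-- fixed elements of `U` are products of root elements with fixed parameter -/
theorem pos_fixed_mem (D : ChevalleyDatum) (hD : D ∈ Seven) (σ : F →+* F) (u : GL D.Idx F)
    (hu : u ∈ D.posUnipotent F) (hσ : glM D σ u = u) : u ∈ Lsub D σ := by
  obtain ⟨t, ⟨ht0, hut⟩, huniq⟩ := (pos_unique_product (F := F) D hD).1 u hu
  have h1 : (u : Matrix D.Idx D.Idx F)
      = D.wordMat F (D.posRoots.map fun r => (r, σ (t r))) := by
    have := congrArg (fun g : GL D.Idx F => (g : Matrix D.Idx D.Idx F)) hσ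
    simp only [glM_val] at this
    rw [← this, hut, wordMat_map, List.map_map]
    rfl
  have h2 := huniq (fun r => σ (t r)) ⟨fun r hr => by show σ (t r) = 0; rw [ht0 r hr, map_zero], h1⟩
  have h3 : u = wordGL D hD (D.posRoots.map fun r => (r, t r)) := by
    apply Units.ext
    rw [wordGL_val, hut]
  rw [h3]
  apply wordGL_mem_Lsub
  intro p hp
  rw [List.mem_map] at hp
  obtain ⟨r, -, rfl⟩ := hp
  exact congrFun h2 r

/-- the elements of `G(F)` fixed by `σ` -/
theorem fixed_decomp (D : ChevalleyDatum) (hD : D ∈ Seven) (σ : F →+* F) (g : GL D.Idx F)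
    (hg : g ∈ D.group F) (hσ : glM D σ g = g) :
    ∃ l₁ ∈ Lsub D σ, ∃ h ∈ D.diagonalSubgroup F, glM D σ h = h ∧ ∃ l₂ ∈ Lsub D σ,
      g = l₁ * h * l₂ := by
  obtain ⟨w, hw, b, hb, v, hv, rfl⟩ := bruhat_exists_word D hD g hg
  have hwN := wGL_mem (F := F) D hD w hw
  rw [map_mul, map_mul, glM_wGL] at hσ
  have hSb : glM D σ b ∈ D.borelSubgroup F := glM_borel D σ b hb
  have hSv : glM D σ v ∈ unegSub D F w := glM_rootSetSub D σ _ v hv
  have huq := (bruhat_unique D hD (glM D σ b) b (wGL D hD w) (wGL D hD w) (glM D σ v) v hSb hb hwN hwN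
    (unegSub_le_unegOf D hD w hw hSv) (unegSub_le_unegOf D hD w hw hv) hσ).2 rfl
  obtain ⟨hb1, hv1⟩ := huq
  have hb' : b ∈ ((D.posUnipotent F ⊔ D.diagonalSubgroup F : Subgroup (GL D.Idx F)) :
      Set (GL D.Idx F)) := hb
  rw [Subgroup.coe_mul_of_right_le_normalizer_left _ _ (diagonal_le_normalizer_pos D hD)] at hb'
  obtain ⟨u, hu, h, hh, rfl⟩ := Set.mem_mul.1 hb'
  rw [map_mul] at hb1
  have hSu : glM D σ u ∈ D.posUnipotent F := glM_pos D σ u hu
  have hSh : glM D σ h ∈ D.diagonalSubgroup F := glM_diag D σ h hh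
  have e : u⁻¹ * glM D σ u = h * (glM D σ h)⁻¹ := by
    have : glM D σ u = u * h * (glM D σ h)⁻¹ := by
      rw [← hb1]; group
    rw [this]; group
  have h4 : u⁻¹ * glM D σ u ∈ D.posUnipotent F ⊓ D.diagonalSubgroup F :=
    ⟨(D.posUnipotent F).mul_mem ((D.posUnipotent F).inv_mem hu) hSu, by
      rw [e]
      exact (D.diagonalSubgroup F).mul_mem hh ((D.diagonalSubgroup F).inv_mem hSh)⟩
  rw [pos_inf_diagonal D hD, Subgroup.mem_bot] at h4
  have hu1 : glM D σ u = u := by
    have := congrArg (fun y => u * y) h4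
    simpa using this
  have hh1 : glM D σ h = h := by
    rw [hu1] at hb1
    exact mul_left_cancel hb1
  have hvU : v ∈ D.posUnipotent F := unegOf_le_pos D _ (unegSub_le_unegOf D hD w hw hv)
  refine ⟨u, pos_fixed_mem D hD σ u hu hu1, h, hh, hh1, wGL D hD w * v,
    mul_mem (wGL_mem_Lsub D hD σ w) (pos_fixed_mem D hD σ v hvU hv1), ?_⟩
  group

/-- fixed elements of `H` normalise `Lsub` -/
theorem diag_conj_Lsub (D : ChevalleyDatum) (hD : D ∈ Seven) (σ : F →+* F) (h : GL D.Idx F)
    (hh : h ∈ D.diagonalSubgroup F) (hσ : glM D σ h = h) (x : GL D.Idx F) (hx : x ∈ Lsub D σ) :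
    h * x * h⁻¹ ∈ Lsub D σ := by
  obtain ⟨c, hc0, hval⟩ := exists_torusMat_of_mem D hD h hh
  unfold Lsub at hx
  induction hx using Subgroup.closure_induction with
  | mem y hy =>
    obtain ⟨s, t, ht, hy⟩ := hy
    have h1 := torus_conj_x D hD h y c hc0 hval s t hy
    have h2 : h * y * h⁻¹ = xGL D hD s (chi D c s * t) := Units.ext h1
    rw [h2]
    by_cases hs : s < D.nroots
    · apply xGL_mem_Lsub
      have h3 := congrArg (fun g : GL D.Idx F =>
        (g : Matrix D.Idx D.Idx F) (Sum.inr ⟨s, hs⟩) (Sum.inr ⟨s, hs⟩)) hσ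
      simp only [glM_val, Matrix.map_apply, hval] at h3
      unfold torusMat at h3
      rw [Matrix.diagonal_apply_eq] at h3
      simp only [Sum.elim_inr] at h3
      rw [map_mul, h3, ht]
    · have : xGL D hD s (chi D c s * t) = 1 := by
        apply Units.ext
        rw [xGL_val, Units.val_one]
        unfold ChevalleyDatum.x
        rw [dif_neg hs]
      rw [this]
      exact one_mem _
  | one =>
    simp only [mul_one, mul_inv_cancel]
    exact one_mem _
  | mul a b _ _ ha hb =>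
    have e : h * (a * b) * h⁻¹ = (h * a * h⁻¹) * (h * b * h⁻¹) := by group
    rw [e]
    exact mul_mem ha hb
  | inv a _ ha =>
    have e : h * a⁻¹ * h⁻¹ = (h * a * h⁻¹)⁻¹ := by group
    rw [e]
    exact inv_mem ha

/-- a subgroup between `Lsub` and the fixed points is normalised by every fixed point -/
theorem conj_mem_of_fixed (D : ChevalleyDatum) (hD : D ∈ Seven) (σ : F →+* F)
    (K : Subgroup (GL D.Idx F)) (hKG : K ≤ D.group F) (hLK : Lsub D σ ≤ K)
    (hKfix : ∀ x ∈ K, glM D σ x = x) (g : GL D.Idx F) (hg : g ∈ D.group F)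
    (hσ : glM D σ g = g) (x : GL D.Idx F) (hx : x ∈ K) : g * x * g⁻¹ ∈ K := by
  obtain ⟨l₁, hl₁, h, hh, hhσ, l₂, hl₂, rfl⟩ := fixed_decomp D hD σ g hg hσ
  -- conjugation by `h` preserves `K`
  have key : ∀ y ∈ K, h * y * h⁻¹ ∈ K := by
    intro y hy
    obtain ⟨l₃, hl₃, h', hh', -, l₄, hl₄, rfl⟩ := fixed_decomp D hD σ y (hKG hy) (hKfix y hy)
    have hh'K : h' ∈ K := by
      have : h' = l₃⁻¹ * (l₃ * h' * l₄) * l₄⁻¹ := by group
      rw [this]
      exact mul_mem (mul_mem (inv_mem (hLK hl₃)) hy) (inv_mem (hLK hl₄))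
    have hcomm : h * h' * h⁻¹ = h' := by
      obtain ⟨c, -, hval⟩ := exists_torusMat_of_mem D hD h hh
      obtain ⟨c', -, hval'⟩ := exists_torusMat_of_mem D hD h' hh'
      have : h * h' = h' * h := by
        apply Units.ext
        rw [Units.val_mul, Units.val_mul, hval, hval', torusMat_mul, torusMat_mul]
        congr 1
        funext i
        exact mul_comm _ _
      rw [this, mul_inv_cancel_right]
    have e : h * (l₃ * h' * l₄) * h⁻¹ = (h * l₃ * h⁻¹) * (h * h' * h⁻¹) * (h * l₄ * h⁻¹) := by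
      group
    rw [e, hcomm]
    exact mul_mem (mul_mem (hLK (diag_conj_Lsub D hD σ h hh hhσ l₃ hl₃)) hh'K)
      (hLK (diag_conj_Lsub D hD σ h hh hhσ l₄ hl₄))
  have e : l₁ * h * l₂ * x * (l₁ * h * l₂)⁻¹ = l₁ * (h * (l₂ * x * l₂⁻¹) * h⁻¹) * l₁⁻¹ := by group
  rw [e]
  exact mul_mem (mul_mem (hLK hl₁) (key _ (mul_mem (mul_mem (hLK hl₂) hx) (inv_mem (hLK hl₂)))))
    (inv_mem (hLK hl₁))

theorem glM_eq_iff (D : ChevalleyDatum) (σ : F →+* F) (g : GL D.Idx F) :
    glM D σ g = g ↔ ∀ i j : D.Idx, σ ((g : Matrix D.Idx D.Idx F) i j)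
      = (g : Matrix D.Idx D.Idx F) i j := by
  constructor
  · intro h i j
    have := congrArg (fun x : GL D.Idx F => (x : Matrix D.Idx D.Idx F) i j) h
    simpa [glM_val] using this
  · intro h
    apply Units.ext
    ext i j
    rw [glM_val, Matrix.map_apply]
    exact h i j

/-- centraliser and normaliser of a subgroup between the subfield group and the fixed points -/
theorem cent_norm_of_fixed (D : ChevalleyDatum) (hD : D ∈ Seven) (σ : F →+* F)
    (K : Subgroup (GL D.Idx F)) (hKG : K ≤ D.group F) (hLK : Lsub D σ ≤ K)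
    (hKfix : ∀ x ∈ K, glM D σ x = x) :
    D.group F ⊓ Subgroup.centralizer (K : Set (GL D.Idx F)) = ⊥ ∧
    ∀ g : GL D.Idx F, g ∈ D.group F →
      (g ∈ Subgroup.normalizer (K : Set (GL D.Idx F)) ↔ glM D σ g = g) := by
  have hxK : ∀ r, xGL D hD r (1 : F) ∈ K := fun r =>
    hLK (xGL_mem_Lsub D hD σ r 1 (map_one σ))
  constructor
  · rw [eq_bot_iff]
    rintro g ⟨hg, hc⟩
    rw [Subgroup.mem_bot]
    apply eq_one_of_comm D hD g hg
    intro r _
    exact (Subgroup.mem_centralizer_iff.1 hc _ (hxK r)).symm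
  · intro g hg
    constructor
    · intro hn
      rw [Subgroup.mem_normalizer_iff] at hn
      have hc : glM D σ g ∈ D.group F := glM_group D σ g hg
      have h1 : g⁻¹ * glM D σ g = 1 := by
        apply eq_one_of_comm D hD _ (mul_mem (inv_mem hg) hc)
        intro r _
        have h2 : g * xGL D hD r 1 * g⁻¹ ∈ K := (hn _).1 (hxK r)
        have h3 := hKfix _ h2
        rw [map_mul, map_mul, map_inv, hKfix _ (hxK r)] at h3
        calc g⁻¹ * glM D σ g * xGL D hD r 1
            = g⁻¹ * (glM D σ g * xGL D hD r 1 * (glM D σ g)⁻¹) * glM D σ g := by group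
          _ = g⁻¹ * (g * xGL D hD r 1 * g⁻¹) * glM D σ g := by rw [h3]
          _ = xGL D hD r 1 * (g⁻¹ * glM D σ g) := by group
      exact (inv_mul_eq_one.1 h1).symm
    · intro hσ
      rw [Subgroup.mem_normalizer_iff]
      intro x
      constructor
      · exact conj_mem_of_fixed D hD σ K hKG hLK hKfix g hg hσ x
      · intro hx
        have hσ' : glM D σ g⁻¹ = g⁻¹ := by rw [map_inv, hσ]
        have := conj_mem_of_fixed D hD σ K hKG hLK hKfix g⁻¹ (inv_mem hg) hσ' _ hx
        have e : g⁻¹ * (g * x * g⁻¹) * g⁻¹⁻¹ = x := by group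
        rwa [e] at this

end Cfsg.Agent.Lib.Helper5.SubfieldNorm
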