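import Mathlib
import Cfsg.Prelude.Def_Classical

/-!
# Farm TGS (S3161), unit U10: definitions (sorry-free).

The hermitian form in "hyperbolic" coordinates `hJ u v = u₀ v₂^q + u₁ v₁^q + u₂ v₀^q`, its special unitary
group `SUJ K q ≤ SL₃(K)`, and the stabiliser `PJ K q` of the isotropic vector `e₀` in `SUJ K q`.
All three are defined for any field `K` and any `q`.
-/

set_option autoImplicit false

namespace Cfsg.Agent.Lib.Helper5.TGSU10

open Matrix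

/-- the hermitian form `u₀ v₂^q + u₁ v₁^q + u₂ v₀^q` -/
def hJ (K : Type*) [Field K] (q : ℕ) (u v : Fin 3 → K) : K :=
  u 0 * v 2 ^ q + u 1 * v 1 ^ q + u 2 * v 0 ^ q

/-- `SU₃` for the form `hJ` -/
def SUJ (K : Type*) [Field K] (q : ℕ) : Subgroup (SpecialLinearGroup (Fin 3) K) :=
  Cfsg.preserving (Cfsg.slToMat 3 K) (hJ K q)

/-- the first basis vector -/
def e0 (K : Type*) [Field K] : Fin 3 → K := ![1, 0, 0]

/-- the stabiliser of the isotropic vector `e₀` in `SUJ K q` -/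
def PJ (K : Type*) [Field K] (q : ℕ) : Subgroup (SpecialLinearGroup (Fin 3) K) where
  carrier := {g | g ∈ SUJ K q ∧ Cfsg.slToMat 3 K g *ᵥ e0 K = e0 K}
  one_mem' := ⟨one_mem _, by simp⟩
  mul_mem' := by
    rintro a b ⟨ha, ha'⟩ ⟨hb, hb'⟩
    refine ⟨mul_mem ha hb, ?_⟩
    rw [map_mul, ← Matrix.mulVec_mulVec, hb', ha']
  inv_mem' := by
    rintro a ⟨ha, ha'⟩
    refine ⟨inv_mem ha, ?_⟩
    have h := congrArg (fun v => Cfsg.slToMat 3 K a⁻¹ *ᵥ v) ha'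
    simp only [Matrix.mulVec_mulVec, ← map_mul, inv_mul_cancel, map_one, Matrix.one_mulVec] at h
    exact h.symm

theorem mem_SUJ_iff {K : Type*} [Field K] {q : ℕ} {g : SpecialLinearGroup (Fin 3) K} :
    g ∈ SUJ K q ↔ ∀ u v, hJ K q (Cfsg.slToMat 3 K g *ᵥ u) (Cfsg.slToMat 3 K g *ᵥ v) = hJ K q u v :=
  Iff.rfl

theorem mem_PJ_iff {K : Type*} [Field K] {q : ℕ} {g : SpecialLinearGroup (Fin 3) K} :
    g ∈ PJ K q ↔ g ∈ SUJ K q ∧ Cfsg.slToMat 3 K g *ᵥ e0 K = e0 K :=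
  Iff.rfl

theorem slToMat_apply {K : Type*} [Field K] (g : SpecialLinearGroup (Fin 3) K) :
    Cfsg.slToMat 3 K g = (g : Matrix (Fin 3) (Fin 3) K) := rfl

end Cfsg.Agent.Lib.Helper5.TGSU10
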