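import Mathlib
import Cfsg.Prelude.Def_Blocks
import Cfsg.Agent.Lib.Helper6.TdG
import Cfsg.Agent.Lib.Helper6.TdH

/-! # Degrees modulo nine for the local data `Td.Loc` (farm-out G3 of S3716 / S3333) -/

set_option autoImplicit false

namespace Cfsg.Agent.Lib.Helper5.TdDeg

open Cfsg Cfsg.Agent.Lib.Helper6 Cfsg.Agent.Lib.Helper6.Td
open scoped ComplexConjugate

theorem deg_mod_nine {G : Type*} [Group G] [Fintype G] {P : Sylow 3 G} {a b t₁ t₂ w : G}
    (hcomm : ∀ x ∈ (P : Subgroup G), ∀ y ∈ (P : Subgroup G), x * y = y * x)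
    (hexp : ∀ x ∈ (P : Subgroup G), x ^ 3 = 1) (L : Loc P a b t₁ t₂ w)
    (hcardP : Nat.card (P : Subgroup G) = 9) {χ : G → ℂ} (hχ : Cfsg.IsCharacter G χ) :
    ∃ m : ℕ, χ 1 + 4 * χ a + 4 * χ (a * b) = 9 * (m : ℂ) := by
  classical
  have hcf := IsCharacter.isClassFunction hχ
  have hres := IsCharacter.restrict (P : Subgroup G) hχ
  obtain ⟨m, hm⟩ := IsCharacter.classInner_irr_nat hres
    (isIrrCharacter_one (G := ↥(P : Subgroup G)))
  refine ⟨m, ?_⟩
  have hsum : ∑ h : ↥(P : Subgroup G), χ h = χ 1 + 4 * χ a + 4 * χ (a * b) := by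
    let e : Fin 3 × Fin 3 → ↥(P : Subgroup G) := fun p => ⟨E a b p.1 p.2, L.E_mem p.1 p.2⟩
    have hinj : Function.Injective e := by
      rintro ⟨i, j⟩ ⟨k, l⟩ h
      have h' : E a b i j = E a b k l := congrArg Subtype.val h
      rw [L.E_eq_iff hcomm hexp] at h'
      have h1 : (i : ℕ) = k := by
        have := h'.1
        rw [Nat.mod_eq_of_lt i.2, Nat.mod_eq_of_lt k.2] at this
        exact this
      have h2 : (j : ℕ) = l := by
        have := h'.2
        rw [Nat.mod_eq_of_lt j.2, Nat.mod_eq_of_lt l.2] at this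
        exact this
      rw [Prod.mk.injEq]
      exact ⟨Fin.ext h1, Fin.ext h2⟩
    have hbij : Function.Bijective e := hinj.bijective_of_nat_card_le (by
      rw [hcardP]; simp)
    rw [← hbij.sum_comp (fun h : ↥(P : Subgroup G) => χ h), Fintype.sum_prod_type]
    simp only [Fin.sum_univ_three, e, Fin.val_zero, Fin.val_one, Fin.val_two]
    have h00 : E a b 0 0 = 1 := by simp [E]
    rw [h00, L.E10 hcomm hexp, L.E01 hcomm hexp, L.E11 hcomm hexp, L.E20 hcomm hexp,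
      L.E02 hcomm hexp, L.E12 hcomm hexp, L.E21 hcomm hexp, L.E22 hcomm hexp]
    have e1 : χ a⁻¹ = χ a :=
      (Cfsg.Agent.Lib.Helper8.Gl.eq_of_isConj hcf (L.isConj_a_inv hcomm hexp)).symm
    have e2 : χ b = χ a :=
      (Cfsg.Agent.Lib.Helper8.Gl.eq_of_isConj hcf (L.isConj_a_b hcomm hexp)).symm
    have e3 : χ b⁻¹ = χ a := by
      rw [← e2]
      exact (Cfsg.Agent.Lib.Helper8.Gl.eq_of_isConj hcf (isConj_iff.mpr ⟨t₁, L.h₁b⟩)).symm
    have e4 : χ (a * b)⁻¹ = χ (a * b) :=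
      (Cfsg.Agent.Lib.Helper8.Gl.eq_of_isConj hcf (L.isConj_ab_inv hcomm hexp)).symm
    have e5 : χ (a * b⁻¹) = χ (a * b) :=
      (Cfsg.Agent.Lib.Helper8.Gl.eq_of_isConj hcf (L.isConj_ab_ab' hcomm hexp)).symm
    have e6 : χ (a⁻¹ * b) = χ (a * b) := by
      refine (Cfsg.Agent.Lib.Helper8.Gl.eq_of_isConj hcf (isConj_iff.mpr ⟨t₂, ?_⟩)).symm
      calc t₂ * (a * b) * t₂⁻¹ = (t₂ * a * t₂⁻¹) * (t₂ * b * t₂⁻¹) := by group
        _ = a⁻¹ * b := by rw [L.h₂a, L.c₂b]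
    rw [e1, e2, e3, e4, e5, e6]
    ring
  unfold Cfsg.classInner at hm
  rw [hcardP] at hm
  have h9 : ∑ h : ↥(P : Subgroup G), χ h = 9 * (m : ℂ) := by
    have h1 : ∑ g : ↥(P : Subgroup G), (fun h : ↥(P : Subgroup G) => χ h) g *
        conj ((fun _ : ↥(P : Subgroup G) => (1 : ℂ)) g) = ∑ h : ↥(P : Subgroup G), χ h := by
      apply Finset.sum_congr rfl
      intro x _
      simp
    rw [h1] at hm
    have h2 : ((9 : ℕ) : ℂ) ≠ 0 := by norm_num
    field_simp at hm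
    rw [hm]
    push_cast
    ring
  rw [← hsum, h9]

end Cfsg.Agent.Lib.Helper5.TdDeg
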