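import Mathlib
import Cfsg.Agent.Lib.Helper6.TdA
import Cfsg.Agent.Lib.Helper7.Ix13B3

/-! # Local structure of `N(M) = 3² : D₈` (farm-out F2 of S3716 / S3333) -/

set_option autoImplicit false

namespace Cfsg.Agent.Lib.Helper5.TdLoc

open Cfsg.Agent.Lib.Helper6
open Cfsg.Agent.Lib.Helper7

/-- An element `g` with `g ^ r = 1`, `r` a prime other than `2` and `3`, normalizing a group `D`
of order `9`, centralizes `D`. -/
lemma centralizes_of_prime_order {G : Type*} [Group G] [Finite G] (D : Subgroup G)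
    (hD : Nat.card D = 9) {g : G}
    (hg : g ∈ Subgroup.normalizer (D : Set G)) {r : ℕ} (hr : r.Prime) (hr2 : r ≠ 2) (hr3 : r ≠ 3)
    (hgr : g ^ r = 1) : ∀ d ∈ D, g * d * g⁻¹ = d := by
  classical
  have : Fact r.Prime := ⟨hr⟩
  have : Fintype ↥D := Fintype.ofFinite _
  have hmem : ∀ (n : ℕ) (d : G), d ∈ D → g ^ n * d * (g ^ n)⁻¹ ∈ D := by
    intro n d hd
    have : g ^ n ∈ Subgroup.normalizer (D : Set G) := Subgroup.pow_mem _ hg n
    exact (Subgroup.mem_normalizer_iff.mp this d).mp hd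
  let f : Function.End ↥D := fun d => ⟨g * d * g⁻¹, by simpa using hmem 1 d d.2⟩
  have hfpow : ∀ n : ℕ, ∀ d : ↥D, (((f ^ n) d : ↥D) : G) = g ^ n * d * (g ^ n)⁻¹ := by
    intro n
    induction n with
    | zero =>
      intro d
      rw [pow_zero, pow_zero]
      show (d : G) = 1 * d * 1⁻¹
      group
    | succ n ih =>
      intro d
      rw [pow_succ]
      show (((f ^ n) (f d) : ↥D) : G) = _
      rw [ih (f d)]
      show g ^ n * (g * d * g⁻¹) * (g ^ n)⁻¹ = _
      rw [pow_succ]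
      group
  have hfr : f ^ r ^ 1 = 1 := by
    rw [pow_one]
    funext d
    apply Subtype.ext
    rw [hfpow r d, hgr]
    show 1 * (d : G) * 1⁻¹ = d
    group
  have hmod := Equiv.Perm.card_fixedPoints_modEq (f := f) (p := r) (n := 1) hfr
  let C : Subgroup ↥D :=
    { carrier := {d | g * (d : G) * g⁻¹ = d}
      one_mem' := by simp
      mul_mem' := by
        intro x y hx hy
        simp only [Set.mem_ofPred_eq, Subgroup.coe_mul] at *
        calc g * ((x : G) * y) * g⁻¹ = (g * x * g⁻¹) * (g * y * g⁻¹) := by group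
          _ = x * y := by rw [hx, hy]
      inv_mem' := by
        intro x hx
        simp only [Set.mem_ofPred_eq, Subgroup.coe_inv] at *
        calc g * (x : G)⁻¹ * g⁻¹ = (g * x * g⁻¹)⁻¹ := by group
          _ = (x : G)⁻¹ := by rw [hx] }
  have hfix : Function.fixedPoints f = (C : Set ↥D) := by
    ext d
    rw [Function.mem_fixedPoints, Function.IsFixedPt]
    show f d = d ↔ g * (d : G) * g⁻¹ = d
    rw [Subtype.ext_iff]
  have hcardfix : Fintype.card (Function.fixedPoints f) = Nat.card C := by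
    rw [Fintype.card_eq_nat_card]
    exact Nat.card_congr (Equiv.setCongr hfix)
  rw [hcardfix, Fintype.card_eq_nat_card, hD] at hmod
  have hdvd : Nat.card C ∣ 9 := by
    have := Subgroup.card_subgroup_dvd_card C
    rwa [hD] at this
  have hle : Nat.card C ≤ 9 := Nat.le_of_dvd (by norm_num) hdvd
  have hC9 : Nat.card C = 9 := by
    have h1 := (Nat.modEq_iff_dvd' hle).mp hmod.symm
    interval_cases hc : Nat.card C
    · simp at hdvd
    · exfalso
      have : r ∣ 2 ^ 3 := by simpa using h1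
      exact hr2 ((Nat.prime_dvd_prime_iff_eq hr Nat.prime_two).mp (hr.dvd_of_dvd_pow this))
    · norm_num at hdvd
    · exfalso
      have : r ∣ 2 * 3 := by simpa using h1
      rcases (Nat.Prime.dvd_mul hr).mp this with h | h
      · exact hr2 ((Nat.prime_dvd_prime_iff_eq hr Nat.prime_two).mp h)
      · exact hr3 ((Nat.prime_dvd_prime_iff_eq hr Nat.prime_three).mp h)
    · norm_num at hdvd
    · norm_num at hdvd
    · norm_num at hdvd
    · norm_num at hdvd
    · norm_num at hdvd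
    · rfl
  have hCtop : C = ⊤ := by
    rw [← Subgroup.card_eq_iff_eq_top, hC9, hD]
  intro d hd
  have : (⟨d, hd⟩ : ↥D) ∈ C := by rw [hCtop]; exact Subgroup.mem_top _
  exact this

theorem exists_loc_d8 {G : Type*} [Group G] [Finite G] (M : Sylow 3 G)
    (hM9 : Nat.card ↥(M : Subgroup G) = 9) (hMel : ∀ m ∈ (M : Subgroup G), m ^ 3 = 1)
    (hCM : Subgroup.centralizer ((M : Subgroup G) : Set G) = (M : Subgroup G))
    (hS : ∀ S : Sylow 2 ↥(Subgroup.normalizer ((M : Subgroup G) : Set G)),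
      Nonempty (↥(S : Subgroup ↥(Subgroup.normalizer ((M : Subgroup G) : Set G))) ≃*
        DihedralGroup 4)) :
    ∃ a b t₁ t₂ w : G, Td.Loc M a b t₁ t₂ w := by
  classical
  have hDN : (M : Subgroup G) ≤ Subgroup.normalizer ((M : Subgroup G) : Set G) :=
    Subgroup.le_normalizer
  have hcomm : ∀ x ∈ (M : Subgroup G), ∀ y ∈ (M : Subgroup G), x * y = y * x :=
    Ix13B3.comm_of_card (M : Subgroup G) hM9
  have : Fact (Nat.Prime 2) := ⟨Nat.prime_two⟩
  have : Fact (Nat.Prime 3) := ⟨Nat.prime_three⟩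
  obtain ⟨S⟩ := (inferInstance : Nonempty
    (Sylow 2 ↥(Subgroup.normalizer ((M : Subgroup G) : Set G))))
  obtain ⟨φ⟩ := hS S
  let ψ : DihedralGroup 4 →* G :=
    (Subgroup.normalizer ((M : Subgroup G) : Set G)).subtype.comp
      ((S : Subgroup ↥(Subgroup.normalizer ((M : Subgroup G) : Set G))).subtype.comp
        φ.symm.toMonoidHom)
  have hψinj : Function.Injective ψ := by
    intro x y hxy
    have h1 : ((φ.symm x : ↥(S : Subgroup ↥(Subgroup.normalizer ((M : Subgroup G) : Set G)))) :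
        ↥(Subgroup.normalizer ((M : Subgroup G) : Set G))) = (φ.symm y) :=
      Subtype.ext hxy
    exact φ.symm.injective (Subtype.ext h1)
  have hψN : ∀ d, ψ d ∈ Subgroup.normalizer ((M : Subgroup G) : Set G) := fun d =>
    ((φ.symm d : ↥(S : Subgroup ↥(Subgroup.normalizer ((M : Subgroup G) : Set G)))) :
        ↥(Subgroup.normalizer ((M : Subgroup G) : Set G))).2
  have hS8 : Nat.card (S : Subgroup ↥(Subgroup.normalizer ((M : Subgroup G) : Set G))) = 8 := by
    rw [Nat.card_congr φ.toEquiv, DihedralGroup.nat_card]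
  -- (0) |N| = 72
  have hcardM' : Nat.card ((M : Subgroup G).subgroupOf
      (Subgroup.normalizer ((M : Subgroup G) : Set G))) = 9 := by
    rw [← hM9]
    exact Nat.card_congr (Subgroup.subgroupOfEquivOfLe hDN).toEquiv
  have h3 : ¬ 3 ∣ ((M : Subgroup G).subgroupOf
      (Subgroup.normalizer ((M : Subgroup G) : Set G))).index := by
    have := (M.subtype hDN).not_dvd_index
    rwa [Sylow.coe_subtype] at this
  have h2 : ¬ 2 ∣ (S : Subgroup ↥(Subgroup.normalizer ((M : Subgroup G) : Set G))).index :=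
    S.not_dvd_index
  have e3 := Subgroup.card_mul_index ((M : Subgroup G).subgroupOf
      (Subgroup.normalizer ((M : Subgroup G) : Set G)))
  have e2 := Subgroup.card_mul_index
    (S : Subgroup ↥(Subgroup.normalizer ((M : Subgroup G) : Set G)))
  rw [hcardM'] at e3
  rw [hS8] at e2
  have hprimes : ∀ r : ℕ, r.Prime →
      r ∣ Nat.card ↥(Subgroup.normalizer ((M : Subgroup G) : Set G)) → r = 2 ∨ r = 3 := by
    intro r hr hdvd
    by_contra hne
    push Not at hne
    have : Fact r.Prime := ⟨hr⟩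
    obtain ⟨x, hx⟩ := exists_prime_orderOf_dvd_card' r hdvd
    have hxr : (x : G) ^ r = 1 := by
      have h1 : x ^ r = 1 := by rw [← hx]; exact pow_orderOf_eq_one x
      have h2 := congrArg Subtype.val h1
      simpa using h2
    have hcen := centralizes_of_prime_order (M : Subgroup G) hM9 x.2 hr hne.1 hne.2 hxr
    have hxM : (x : G) ∈ (M : Subgroup G) := by
      apply hCM.le
      rw [Subgroup.mem_centralizer_iff]
      intro d hd
      have := hcen d hd
      rw [mul_inv_eq_iff_eq_mul] at this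
      exact this.symm
    have : orderOf (x : G) ∣ 3 := orderOf_dvd_of_pow_eq_one (hMel _ hxM)
    rw [Subgroup.orderOf_coe, hx] at this
    exact hne.2 ((Nat.prime_dvd_prime_iff_eq hr Nat.prime_three).mp this)
  have hcardN : Nat.card ↥(Subgroup.normalizer ((M : Subgroup G) : Set G)) = 72 := by
    obtain ⟨j, hj⟩ : 9 ∣ (S : Subgroup ↥(Subgroup.normalizer ((M : Subgroup G) : Set G))).index := by
      have : 9 ∣ 8 * (S : Subgroup ↥(Subgroup.normalizer ((M : Subgroup G) : Set G))).index := by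
        rw [e2, ← e3]; exact dvd_mul_right 9 _
      exact (Nat.Coprime.dvd_of_dvd_mul_left (by norm_num) this)
    have hk72 : Nat.card ↥(Subgroup.normalizer ((M : Subgroup G) : Set G)) = 72 * j := by omega
    have hj2 : ¬ 2 ∣ j := fun h => h2 (by rw [hj]; exact Dvd.dvd.mul_left h 9)
    have hj3 : ¬ 3 ∣ j := by
      intro h
      apply h3
      have : ((M : Subgroup G).subgroupOf
        (Subgroup.normalizer ((M : Subgroup G) : Set G))).index = 8 * j := by omega
      rw [this]; exact Dvd.dvd.mul_left h 8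
    have hj1 : j = 1 := by
      by_contra hne
      have hp := Nat.minFac_prime hne
      have hd : j.minFac ∣ Nat.card ↥(Subgroup.normalizer ((M : Subgroup G) : Set G)) := by
        rw [hk72]; exact Dvd.dvd.mul_left (Nat.minFac_dvd j) 72
      rcases hprimes _ hp hd with h | h
      · exact hj2 (h ▸ Nat.minFac_dvd j)
      · exact hj3 (h ▸ Nat.minFac_dvd j)
    omega
  -- (1) `ψ d ∈ M → d = 1`
  have hψM : ∀ d, ψ d ∈ (M : Subgroup G) → d = 1 := by
    intro d hd
    apply hψinj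
    rw [map_one]
    have h8 : ψ d ^ 8 = 1 := by
      rw [← map_pow]
      have : d ^ 8 = 1 := by
        have := pow_card_eq_one' (G := DihedralGroup 4) (x := d)
        rwa [DihedralGroup.nat_card] at this
      rw [this, map_one]
    have h3 : ψ d ^ 3 = 1 := hMel _ hd
    calc ψ d = (ψ d ^ 3) ^ 3 * (ψ d ^ 8)⁻¹ := by group
      _ = 1 := by rw [h3, h8]; simp
  -- elements
  have hlist : ∀ d : DihedralGroup 4, d = 1 ∨ d = DihedralGroup.sr 0 ∨ d = DihedralGroup.sr 2 ∨
      d = DihedralGroup.sr 0 * DihedralGroup.sr 2 ∨ d = DihedralGroup.sr 1 ∨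
      d = DihedralGroup.sr 1 * DihedralGroup.sr 0 ∨ d = DihedralGroup.sr 1 * DihedralGroup.sr 2 ∨
      d = DihedralGroup.sr 1 * (DihedralGroup.sr 0 * DihedralGroup.sr 2) := by decide
  have ht₁ : ψ (DihedralGroup.sr 0) * ψ (DihedralGroup.sr 0) = 1 := by
    rw [← map_mul, show (DihedralGroup.sr 0 * DihedralGroup.sr 0 : DihedralGroup 4) = 1 by decide,
      map_one]
  have ht₂ : ψ (DihedralGroup.sr 2) * ψ (DihedralGroup.sr 2) = 1 := by
    rw [← map_mul, show (DihedralGroup.sr 2 * DihedralGroup.sr 2 : DihedralGroup 4) = 1 by decide,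
      map_one]
  have hw : ψ (DihedralGroup.sr 1) * ψ (DihedralGroup.sr 1) = 1 := by
    rw [← map_mul, show (DihedralGroup.sr 1 * DihedralGroup.sr 1 : DihedralGroup 4) = 1 by decide,
      map_one]
  have h₁₂ : ψ (DihedralGroup.sr 0) * ψ (DihedralGroup.sr 2) =
      ψ (DihedralGroup.sr 2) * ψ (DihedralGroup.sr 0) := by
    rw [← map_mul, ← map_mul, show (DihedralGroup.sr 0 * DihedralGroup.sr 2 : DihedralGroup 4) =
      DihedralGroup.sr 2 * DihedralGroup.sr 0 by decide]
  have hw₁ : ψ (DihedralGroup.sr 1) * ψ (DihedralGroup.sr 0) * (ψ (DihedralGroup.sr 1))⁻¹ =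
      ψ (DihedralGroup.sr 2) := by
    rw [← map_inv, ← map_mul, ← map_mul,
      show (DihedralGroup.sr 1 * DihedralGroup.sr 0 * (DihedralGroup.sr 1)⁻¹ : DihedralGroup 4) =
      DihedralGroup.sr 2 by decide]
  have h2z : ψ (DihedralGroup.sr 2) = ψ (DihedralGroup.sr 0) * ψ (DihedralGroup.r 2) := by
    rw [← map_mul, show (DihedralGroup.sr 0 * DihedralGroup.r 2 : DihedralGroup 4) =
      DihedralGroup.sr 2 by decide]
  have h1z : ψ (DihedralGroup.sr 0) = ψ (DihedralGroup.sr 2) * ψ (DihedralGroup.r 2) := by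
    rw [← map_mul, show (DihedralGroup.sr 2 * DihedralGroup.r 2 : DihedralGroup 4) =
      DihedralGroup.sr 0 by decide]
  -- (3) `z` inverts `M`
  have hz : ∀ d ∈ (M : Subgroup G), ψ (DihedralGroup.r 2) * d * (ψ (DihedralGroup.r 2))⁻¹ = d⁻¹ := by
    let U : Subgroup G := (Subgroup.zpowers (DihedralGroup.r 1 : DihedralGroup 4)).map ψ
    have hU : Nat.card U = 4 := by
      rw [Subgroup.card_map_of_injective hψinj, Nat.card_zpowers, DihedralGroup.orderOf_r_one]
    have hUN : U ≤ Subgroup.normalizer ((M : Subgroup G) : Set G) := by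
      rintro _ ⟨d, -, rfl⟩
      exact hψN d
    obtain ⟨u, huU, hu⟩ := Ix13B3.exists_inverting (M : Subgroup G) U hM9 hMel hCM hUN hU
    obtain ⟨d, hd, rfl⟩ := huU
    obtain ⟨k, rfl⟩ := Subgroup.mem_zpowers_iff.mp hd
    rw [DihedralGroup.r_one_zpow] at hu
    have huu : ψ (DihedralGroup.r (k : ZMod 4)) * ψ (DihedralGroup.r (k : ZMod 4)) ∈
        (M : Subgroup G) := by
      rw [← hCM, Subgroup.mem_centralizer_iff]
      intro y hy
      have h1 := hu y hy
      have h2 := hu y⁻¹ ((M : Subgroup G).inv_mem hy)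
      rw [inv_inv] at h2
      have h3 : ψ (DihedralGroup.r (k : ZMod 4)) * ψ (DihedralGroup.r (k : ZMod 4)) * y *
          (ψ (DihedralGroup.r (k : ZMod 4)) * ψ (DihedralGroup.r (k : ZMod 4)))⁻¹ = y := by
        calc ψ (DihedralGroup.r (k : ZMod 4)) * ψ (DihedralGroup.r (k : ZMod 4)) * y *
            (ψ (DihedralGroup.r (k : ZMod 4)) * ψ (DihedralGroup.r (k : ZMod 4)))⁻¹
            = ψ (DihedralGroup.r (k : ZMod 4)) * (ψ (DihedralGroup.r (k : ZMod 4)) * y *
              (ψ (DihedralGroup.r (k : ZMod 4)))⁻¹) * (ψ (DihedralGroup.r (k : ZMod 4)))⁻¹ := by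
              group
          _ = y := by rw [h1, h2]
      rw [mul_inv_eq_iff_eq_mul] at h3
      exact h3.symm
    rw [← map_mul] at huu
    have hkk := hψM _ huu
    have hcases : ∀ i : ZMod 4, (DihedralGroup.r i * DihedralGroup.r i : DihedralGroup 4) = 1 →
        i = 0 ∨ i = 2 := by decide
    rcases hcases _ hkk with h | h
    · exfalso
      rw [h, show (DihedralGroup.r 0 : DihedralGroup 4) = 1 from rfl, map_one] at hu
      have hbot : (M : Subgroup G) = ⊥ := by
        rw [Subgroup.eq_bot_iff_forall]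
        intro y hy
        apply Ix13B3.eq_one_of_inv_eq hMel hy
        have := hu y hy
        simpa using this
      rw [hbot, Subgroup.card_bot] at hM9
      norm_num at hM9
    · rw [h] at hu
      exact hu
  have hzz : ψ (DihedralGroup.r 2) * ψ (DihedralGroup.r 2) = 1 := by
    rw [← map_mul, show (DihedralGroup.r 2 * DihedralGroup.r 2 : DihedralGroup 4) = 1 by decide,
      map_one]
  -- abbreviations
  obtain ⟨z, hzdef⟩ : ∃ z, z = ψ (DihedralGroup.r 2) := ⟨_, rfl⟩
  obtain ⟨t₁, ht₁def⟩ : ∃ t, t = ψ (DihedralGroup.sr 0) := ⟨_, rfl⟩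
  obtain ⟨t₂, ht₂def⟩ : ∃ t, t = ψ (DihedralGroup.sr 2) := ⟨_, rfl⟩
  obtain ⟨w, hwdef⟩ : ∃ t, t = ψ (DihedralGroup.sr 1) := ⟨_, rfl⟩
  rw [← hzdef] at hz hzz h2z h1z
  rw [← ht₁def] at ht₁ h₁₂ hw₁ h2z h1z
  rw [← ht₂def] at ht₂ h₁₂ hw₁ h2z h1z
  rw [← hwdef] at hw hw₁
  have ht₁N : t₁ ∈ Subgroup.normalizer ((M : Subgroup G) : Set G) := ht₁def ▸ hψN _
  have ht₂N : t₂ ∈ Subgroup.normalizer ((M : Subgroup G) : Set G) := ht₂def ▸ hψN _
  have hwN : w ∈ Subgroup.normalizer ((M : Subgroup G) : Set G) := hwdef ▸ hψN _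
  have ht₁i : t₁⁻¹ = t₁ := inv_eq_of_mul_eq_one_left ht₁
  have ht₂i : t₂⁻¹ = t₂ := inv_eq_of_mul_eq_one_left ht₂
  have hwi : w⁻¹ = w := inv_eq_of_mul_eq_one_left hw
  have hzi : z⁻¹ = z := inv_eq_of_mul_eq_one_left hzz
  have hconjmem : ∀ g ∈ Subgroup.normalizer ((M : Subgroup G) : Set G),
      ∀ x ∈ (M : Subgroup G), g * x * g⁻¹ ∈ (M : Subgroup G) := by
    intro g hg x hx
    exact (Subgroup.mem_normalizer_iff.mp hg x).mp hx
  -- (4) `t₁` does not invert `M`
  have hninv : ∃ x ∈ (M : Subgroup G), t₁ * x * t₁⁻¹ ≠ x⁻¹ := by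
    by_contra h
    push Not at h
    have hmem : t₁ * z ∈ (M : Subgroup G) := by
      rw [← hCM, Subgroup.mem_centralizer_iff]
      intro y hy
      have h1 := hz y hy
      have h2 := h y⁻¹ ((M : Subgroup G).inv_mem hy)
      rw [inv_inv] at h2
      have h3 : t₁ * z * y * (t₁ * z)⁻¹ = y := by
        calc t₁ * z * y * (t₁ * z)⁻¹ = t₁ * (z * y * z⁻¹) * t₁⁻¹ := by group
          _ = y := by rw [h1, h2]
      rw [mul_inv_eq_iff_eq_mul] at h3
      exact h3.symm
    rw [← h2z, ht₂def] at hmem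
    have := hψM _ hmem
    revert this
    decide
  obtain ⟨x, hxM, hx⟩ := hninv
  have hx' : t₁ * x * t₁⁻¹ ∈ (M : Subgroup G) := hconjmem t₁ ht₁N x hxM
  obtain ⟨a, hadef⟩ : ∃ a, a = x * (t₁ * x * t₁⁻¹) := ⟨_, rfl⟩
  have haM : a ∈ (M : Subgroup G) := hadef ▸ (M : Subgroup G).mul_mem hxM hx'
  have ha1 : a ≠ 1 := by
    intro h
    apply hx
    rw [hadef] at h
    exact (eq_inv_of_mul_eq_one_right h)
  have h₁a' : t₁ * a * t₁⁻¹ = a := by
    have : t₁ * a * t₁⁻¹ = (t₁ * x * t₁⁻¹) * x := by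
      rw [hadef]
      calc t₁ * (x * (t₁ * x * t₁⁻¹)) * t₁⁻¹
          = (t₁ * x * t₁⁻¹) * (t₁ * t₁) * x * (t₁ * t₁)⁻¹ := by group
        _ = (t₁ * x * t₁⁻¹) * x := by rw [ht₁]; group
    rw [this, hadef]
    exact hcomm _ hx' _ hxM
  have h₁a : t₁ * a = a * t₁ := by
    have := h₁a'
    rw [mul_inv_eq_iff_eq_mul] at this
    exact this
  have h₂a : t₂ * a * t₂⁻¹ = a⁻¹ := by
    calc t₂ * a * t₂⁻¹ = t₁ * (z * a * z⁻¹) * t₁⁻¹ := by rw [h2z]; group
      _ = (t₁ * a * t₁⁻¹)⁻¹ := by rw [hz a haM]; group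
      _ = a⁻¹ := by rw [h₁a']
  -- (5) `b`
  obtain ⟨b, hbdef⟩ : ∃ b, b = w * a * w⁻¹ := ⟨_, rfl⟩
  have hbM : b ∈ (M : Subgroup G) := hbdef ▸ hconjmem w hwN a haM
  have hb1 : b ≠ 1 := by
    intro h
    apply ha1
    rw [hbdef] at h
    calc a = w⁻¹ * (w * a * w⁻¹) * w := by group
      _ = 1 := by rw [h]; group
  have h₂b' : t₂ * b * t₂⁻¹ = b := by
    rw [← hw₁, hbdef]
    calc w * t₁ * w⁻¹ * (w * a * w⁻¹) * (w * t₁ * w⁻¹)⁻¹ = w * (t₁ * a * t₁⁻¹) * w⁻¹ := by group
      _ = w * a * w⁻¹ := by rw [h₁a']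
  have h₂b : t₂ * b = b * t₂ := by
    have := h₂b'
    rw [mul_inv_eq_iff_eq_mul] at this
    exact this
  have h₁b : t₁ * b * t₁⁻¹ = b⁻¹ := by
    calc t₁ * b * t₁⁻¹ = t₂ * (z * b * z⁻¹) * t₂⁻¹ := by rw [h1z]; group
      _ = (t₂ * b * t₂⁻¹)⁻¹ := by rw [hz b hbM]; group
      _ = b⁻¹ := by rw [h₂b']
  have hba : b ≠ a := by
    intro h
    apply ha1
    apply Ix13B3.eq_one_of_inv_eq hMel haM
    rw [← h₂a, ← h, h₂b']
  have hba' : b ≠ a⁻¹ := by
    intro h
    apply hb1
    apply Ix13B3.eq_one_of_inv_eq hMel hbM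
    have : t₂ * b * t₂⁻¹ = b⁻¹ := by
      rw [h, inv_inv]
      calc t₂ * a⁻¹ * t₂⁻¹ = (t₂ * a * t₂⁻¹)⁻¹ := by group
        _ = a := by rw [h₂a, inv_inv]
    rw [← this, h₂b']
  have hwb : w * b * w⁻¹ = a := by
    rw [hbdef]
    calc w * (w * a * w⁻¹) * w⁻¹ = (w * w) * a * (w * w)⁻¹ := by group
      _ = a := by rw [hw]; group
  -- (7) N = M * ψ(D₈)
  have hinj : Function.Injective (fun p : ↥(M : Subgroup G) × DihedralGroup 4 =>
      (⟨(p.1 : G) * ψ p.2, (Subgroup.normalizer ((M : Subgroup G) : Set G)).mul_mem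
        (hDN p.1.2) (hψN p.2)⟩ : ↥(Subgroup.normalizer ((M : Subgroup G) : Set G)))) := by
    rintro ⟨⟨s, hs⟩, u⟩ ⟨⟨s', hs'⟩, u'⟩ h
    have h' : s * ψ u = s' * ψ u' := congrArg Subtype.val h
    have h1 : ψ (u * u'⁻¹) = s⁻¹ * s' := by
      rw [map_mul, map_inv]
      calc ψ u * (ψ u')⁻¹ = s⁻¹ * (s * ψ u) * (ψ u')⁻¹ := by group
        _ = s⁻¹ * s' := by rw [h']; group
    have h2 : u * u'⁻¹ = 1 := by
      apply hψM
      rw [h1]
      exact (M : Subgroup G).mul_mem ((M : Subgroup G).inv_mem hs) hs'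
    have hu_eq : u = u' := by
      calc u = u * u'⁻¹ * u' := by group
        _ = u' := by rw [h2, one_mul]
    have hs_eq : s = s' := by
      rw [hu_eq] at h'
      exact mul_right_cancel h'
    subst hu_eq; subst hs_eq; rfl
  have hbij := Function.Injective.bijective_of_nat_card_le hinj (by
    rw [Nat.card_prod, hM9, DihedralGroup.nat_card, hcardN])
  refine ⟨a, b, t₁, t₂, w, ⟨haM, hbM, ha1, hb1, hba, hba', ht₁N, ht₂N, hwN, ht₁, ht₂, hw, h₁₂,
    h₁a, h₁b, h₂a, h₂b, hbdef.symm, hwb, hw₁, ?_, hcardN⟩⟩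
  intro n hn
  obtain ⟨⟨⟨s, hs⟩, u⟩, hsu⟩ := hbij.2 ⟨n, hn⟩
  have hsu' : s * ψ u = n := congrArg Subtype.val hsu
  refine ⟨s, hs, ?_⟩
  rcases hlist u with h | h | h | h | h | h | h | h
  · left; rw [← hsu', h, map_one, mul_one]
  · right; left; rw [← hsu', h, ht₁def]
  · right; right; left; rw [← hsu', h, ht₂def]
  · right; right; right; left; rw [← hsu', h, map_mul, ht₁def, ht₂def]
  · right; right; right; right; left; rw [← hsu', h, hwdef]
  · right; right; right; right; right; left; rw [← hsu', h, map_mul, hwdef, ht₁def]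
  · right; right; right; right; right; right; left; rw [← hsu', h, map_mul, hwdef, ht₂def]
  · right; right; right; right; right; right; right
    rw [← hsu', h, map_mul, map_mul, hwdef, ht₁def, ht₂def]

end Cfsg.Agent.Lib.Helper5.TdLoc
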