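import Mathlib
import Cfsg.Prelude.Def_Blocks
import Cfsg.Agent.Lib.Helper6.TdG
import Cfsg.Agent.Lib.Helper6.TdH

/-! # Parity of the multiplicities of the real linear characters of `V₄` and `D₁₂` in a
quaternionic irreducible character (farm-out G1 of S3716 / S3333) -/

set_option autoImplicit false

namespace Cfsg.Agent.Lib.Helper5.TdPar

open Cfsg Cfsg.Agent.Lib.Helper6 Cfsg.Agent.Lib.Helper6.Td
open Matrix

theorem v4_parity {G : Type*} [Group G] [Fintype G] {n : ℕ}
    (ρ : Representation ℂ G (Fin n → ℂ)) [ρ.IsIrreducible]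
    (hq : ∑ g : G, ρ.character (g * g) = -(Nat.card G : ℂ)) (s t : G) (hs : s * s = 1)
    (ht : t * t = 1) (hst : s * t = t * s) :
    ∃ k : ℕ, ρ.character 1 + ρ.character s + ρ.character t + ρ.character (s * t) =
      8 * (k : ℂ) := by
  obtain ⟨X, hXinv, hXu, hXt⟩ := exists_altForm ρ hq
  have hsi : s⁻¹ = s := inv_eq_of_mul_eq_one_left hs
  have hti : t⁻¹ = t := inv_eq_of_mul_eq_one_left ht
  obtain ⟨S, hS⟩ : ∃ S, S = repMat ρ s := ⟨_, rfl⟩
  obtain ⟨T, hT⟩ : ∃ T, T = repMat ρ t := ⟨_, rfl⟩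
  have SS : S * S = 1 := by rw [hS, ← repMat_mul, hs, repMat_one]
  have TT : T * T = 1 := by rw [hT, ← repMat_mul, ht, repMat_one]
  have ST : S * T = T * S := by rw [hS, hT, ← repMat_mul, ← repMat_mul, hst]
  have SX : S * X = X * Sᵀ := by
    have h := hXinv.mul_eq s
    rwa [hsi, ← hS] at h
  have TX : T * X = X * Tᵀ := by
    have h := hXinv.mul_eq t
    rwa [hti, ← hT] at h
  have h₁ : (1 : Matrix (Fin n) (Fin n) ℂ) * 1 = ((1 : ℕ) : ℂ) • (1 : Matrix (Fin n) (Fin n) ℂ) := by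
    simp
  have h₂ : (1 + S) * (1 + S) = ((2 : ℕ) : ℂ) • (1 + S) := by
    calc (1 + S) * (1 + S) = 1 + S + S + S * S := by noncomm_ring
      _ = ((2 : ℕ) : ℂ) • (1 + S) := by rw [SS]; push_cast; module
  have h₃ : (1 + T) * (1 + T) = ((2 : ℕ) : ℂ) • (1 + T) := by
    calc (1 + T) * (1 + T) = 1 + T + T + T * T := by noncomm_ring
      _ = ((2 : ℕ) : ℂ) • (1 + T) := by rw [TT]; push_cast; module
  have h₂₃ : (1 + S) * (1 + T) = (1 + T) * (1 + S) := by
    calc (1 + S) * (1 + T) = 1 + S + T + S * T := by noncomm_ring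
      _ = 1 + S + T + T * S := by rw [ST]
      _ = (1 + T) * (1 + S) := by noncomm_ring
  have x₂ : (1 + S) * X = X * (1 + S)ᵀ := by
    rw [add_mul, one_mul, SX, transpose_add, transpose_one, mul_add, mul_one]
  have x₃ : (1 + T) * X = X * (1 + T)ᵀ := by
    rw [add_mul, one_mul, TX, transpose_add, transpose_one, mul_add, mul_one]
  obtain ⟨hEE, hEX⟩ := three_factor (X := X) 1 2 2 h₁ h₂ h₃ (by simp) (by simp) h₂₃ (by simp)
    x₂ x₃
  obtain ⟨k, hk⟩ := trace_even_of_sq hXt hXu (1 * 2 * 2) (by norm_num) hEE hEX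
  refine ⟨k, ?_⟩
  have hE : (1 * (1 + S) * (1 + T)) = repMat ρ 1 + repMat ρ s + repMat ρ t + repMat ρ (s * t) := by
    rw [repMat_mul, repMat_one, ← hS, ← hT]
    noncomm_ring
  rw [hE] at hk
  simp only [Matrix.trace_add, ← character_eq_trace_repMat] at hk
  rw [hk]
  push_cast
  ring

set_option maxHeartbeats 1600000 in
theorem d12_parity {G : Type*} [Group G] [Fintype G] {n : ℕ}
    (ρ : Representation ℂ G (Fin n → ℂ)) [ρ.IsIrreducible]
    (hq : ∑ g : G, ρ.character (g * g) = -(Nat.card G : ℂ)) (x s t : G) (hx : x * x * x = 1)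
    (hs : s * s = 1) (ht : t * t = 1) (hxs : x * s = s * x) (hst : s * t = t * s)
    (htx : t * x = x * x * t) (ls lt : ℤ) (hls : ls = 1 ∨ ls = -1) (hlt : lt = 1 ∨ lt = -1) :
    ∃ k : ℕ, ρ.character 1 + 2 * ρ.character x +
      (ls : ℂ) * (ρ.character s + 2 * ρ.character (x * s)) + (lt : ℂ) * (3 * ρ.character t) +
      (ls : ℂ) * (lt : ℂ) * (3 * ρ.character (s * t)) = 24 * (k : ℂ) := by
  obtain ⟨X, hXinv, hXu, hXt⟩ := exists_altForm ρ hq
  -- group identities
  have hx' : x * (x * x) = 1 := by rw [← mul_assoc]; exact hx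
  have hx'' : ∀ r, x * (x * (x * r)) = r := fun r => by
    rw [← mul_assoc, ← mul_assoc, hx, one_mul]
  have hs'' : ∀ r, s * (s * r) = r := fun r => by rw [← mul_assoc, hs, one_mul]
  have ht'' : ∀ r, t * (t * r) = r := fun r => by rw [← mul_assoc, ht, one_mul]
  have hsx : s * x = x * s := hxs.symm
  have hsx' : ∀ r, s * (x * r) = x * (s * r) := fun r => by rw [← mul_assoc, hsx, mul_assoc]
  have hts : t * s = s * t := hst.symm
  have hts' : ∀ r, t * (s * r) = s * (t * r) := fun r => by rw [← mul_assoc, hts, mul_assoc]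
  have htx1 : t * x = x * (x * t) := by rw [htx, mul_assoc]
  have htx' : ∀ r, t * (x * r) = x * (x * (t * r)) := fun r => by
    rw [← mul_assoc, htx1, mul_assoc, mul_assoc]
  have hsi : s⁻¹ = s := inv_eq_of_mul_eq_one_left hs
  have hti : t⁻¹ = t := inv_eq_of_mul_eq_one_left ht
  have hxi : x⁻¹ = x * x := inv_eq_of_mul_eq_one_right hx'
  have hxxi : (x * x)⁻¹ = x := inv_eq_of_mul_eq_one_right hx
  have i1 : t * x * t⁻¹ = x * x := by
    rw [hti]; simp only [mul_assoc, htx', ht, mul_one]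
  have i2 : t * (x * s) * t⁻¹ = x * x * s := by
    rw [hti]; simp only [mul_assoc, htx', hts', ht, mul_one]
  have i3 : (x * x) * t * (x * x)⁻¹ = x * t := by
    rw [hxxi]; simp only [mul_assoc, htx1, hx'']
  have i4 : x * t * x⁻¹ = x * x * t := by
    rw [hxi]; simp only [mul_assoc, htx', htx1, hx'']
  have i5 : (x * x) * (s * t) * (x * x)⁻¹ = x * s * t := by
    rw [hxxi]; simp only [mul_assoc, htx1, hsx', hx'']
  have i6 : x * (s * t) * x⁻¹ = x * x * s * t := by
    rw [hxi]; simp only [mul_assoc, htx', htx1, hsx', hx'']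
  have c1 : ρ.character (x * x) = ρ.character x := by
    rw [← i1]; exact Representation.char_conj ρ x t
  have c2 : ρ.character (x * x * s) = ρ.character (x * s) := by
    rw [← i2]; exact Representation.char_conj ρ (x * s) t
  have c3 : ρ.character (x * t) = ρ.character t := by
    rw [← i3]; exact Representation.char_conj ρ t (x * x)
  have c4 : ρ.character (x * x * t) = ρ.character t := by
    rw [← i4]; exact Representation.char_conj ρ t x
  have c5 : ρ.character (x * s * t) = ρ.character (s * t) := by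
    rw [← i5]; exact Representation.char_conj ρ (s * t) (x * x)
  have c6 : ρ.character (x * x * s * t) = ρ.character (s * t) := by
    rw [← i6]; exact Representation.char_conj ρ (s * t) x
  -- matrices
  obtain ⟨A, hA⟩ : ∃ A, A = repMat ρ x := ⟨_, rfl⟩
  obtain ⟨B, hB⟩ : ∃ B, B = repMat ρ (x * x) := ⟨_, rfl⟩
  obtain ⟨S, hS⟩ : ∃ S, S = repMat ρ s := ⟨_, rfl⟩
  obtain ⟨T, hT⟩ : ∃ T, T = repMat ρ t := ⟨_, rfl⟩
  have AA : A * A = B := by rw [hA, hB, ← repMat_mul]
  have AB : A * B = 1 := by rw [hA, hB, ← repMat_mul, hx', repMat_one]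
  have BA : B * A = 1 := by rw [hA, hB, ← repMat_mul, hx, repMat_one]
  have BB : B * B = A := by
    rw [hA, hB, ← repMat_mul]
    congr 1
    simp only [mul_assoc, hx', mul_one]
  have SS : S * S = 1 := by rw [hS, ← repMat_mul, hs, repMat_one]
  have TT : T * T = 1 := by rw [hT, ← repMat_mul, ht, repMat_one]
  have AS : A * S = S * A := by rw [hA, hS, ← repMat_mul, ← repMat_mul, hxs]
  have BS : B * S = S * B := by
    rw [hB, hS, ← repMat_mul, ← repMat_mul]
    congr 1
    simp only [mul_assoc, hsx', hsx]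
  have ST : S * T = T * S := by rw [hS, hT, ← repMat_mul, ← repMat_mul, hst]
  have TA : T * A = B * T := by rw [hA, hB, hT, ← repMat_mul, ← repMat_mul, htx]
  have TB : T * B = A * T := by
    rw [hA, hB, hT, ← repMat_mul, ← repMat_mul]
    congr 1
    simp only [mul_assoc, htx', htx1, hx'']
  have AX : A * X = X * Bᵀ := by
    have h := hXinv.mul_eq x
    rwa [hxi, ← hA, ← hB] at h
  have BX : B * X = X * Aᵀ := by
    have h := hXinv.mul_eq (x * x)
    rwa [hxxi, ← hA, ← hB] at h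
  have SX : S * X = X * Sᵀ := by
    have h := hXinv.mul_eq s
    rwa [hsi, ← hS] at h
  have TX : T * X = X * Tᵀ := by
    have h := hXinv.mul_eq t
    rwa [hti, ← hT] at h
  have hcs : (ls : ℂ) * (ls : ℂ) = 1 := by rcases hls with h | h <;> simp [h]
  have hct : (lt : ℂ) * (lt : ℂ) = 1 := by rcases hlt with h | h <;> simp [h]
  have h₁ : (1 + A + B) * (1 + A + B) = ((3 : ℕ) : ℂ) • (1 + A + B) := by
    calc (1 + A + B) * (1 + A + B)
        = 1 + A + B + (A + A * A + A * B) + (B + B * A + B * B) := by noncomm_ring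
      _ = ((3 : ℕ) : ℂ) • (1 + A + B) := by rw [AA, AB, BA, BB]; push_cast; module
  have h₂ : (1 + (ls : ℂ) • S) * (1 + (ls : ℂ) • S) = ((2 : ℕ) : ℂ) • (1 + (ls : ℂ) • S) := by
    calc (1 + (ls : ℂ) • S) * (1 + (ls : ℂ) • S)
        = 1 + (ls : ℂ) • S + (ls : ℂ) • S + ((ls : ℂ) * (ls : ℂ)) • (S * S) := by
          simp only [mul_add, add_mul, one_mul, mul_one, smul_mul_assoc, mul_smul_comm, smul_smul]
          module
      _ = ((2 : ℕ) : ℂ) • (1 + (ls : ℂ) • S) := by rw [SS, hcs]; push_cast; module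
  have h₃ : (1 + (lt : ℂ) • T) * (1 + (lt : ℂ) • T) = ((2 : ℕ) : ℂ) • (1 + (lt : ℂ) • T) := by
    calc (1 + (lt : ℂ) • T) * (1 + (lt : ℂ) • T)
        = 1 + (lt : ℂ) • T + (lt : ℂ) • T + ((lt : ℂ) * (lt : ℂ)) • (T * T) := by
          simp only [mul_add, add_mul, one_mul, mul_one, smul_mul_assoc, mul_smul_comm, smul_smul]
          module
      _ = ((2 : ℕ) : ℂ) • (1 + (lt : ℂ) • T) := by rw [TT, hct]; push_cast; module
  have h₁₂ : (1 + A + B) * (1 + (ls : ℂ) • S) = (1 + (ls : ℂ) • S) * (1 + A + B) := by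
    simp only [mul_add, add_mul, one_mul, mul_one, smul_mul_assoc, mul_smul_comm, AS, BS]
    module
  have h₁₃ : (1 + A + B) * (1 + (lt : ℂ) • T) = (1 + (lt : ℂ) • T) * (1 + A + B) := by
    simp only [mul_add, add_mul, one_mul, mul_one, smul_mul_assoc, mul_smul_comm, TA, TB]
    module
  have h₂₃ : (1 + (ls : ℂ) • S) * (1 + (lt : ℂ) • T) =
      (1 + (lt : ℂ) • T) * (1 + (ls : ℂ) • S) := by
    simp only [mul_add, add_mul, one_mul, mul_one, smul_mul_assoc, mul_smul_comm, smul_smul, ST]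
    module
  have x₁ : (1 + A + B) * X = X * (1 + A + B)ᵀ := by
    rw [add_mul, add_mul, one_mul, AX, BX, transpose_add, transpose_add, transpose_one, mul_add,
      mul_add, mul_one]
    abel
  have x₂ : (1 + (ls : ℂ) • S) * X = X * (1 + (ls : ℂ) • S)ᵀ := by
    rw [add_mul, one_mul, smul_mul_assoc, SX, transpose_add, transpose_one, transpose_smul, mul_add,
      mul_one, mul_smul_comm]
  have x₃ : (1 + (lt : ℂ) • T) * X = X * (1 + (lt : ℂ) • T)ᵀ := by
    rw [add_mul, one_mul, smul_mul_assoc, TX, transpose_add, transpose_one, transpose_smul, mul_add,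
      mul_one, mul_smul_comm]
  obtain ⟨hEE, hEX⟩ := three_factor (X := X) 3 2 2 h₁ h₂ h₃ h₁₂ h₁₃ h₂₃ x₁ x₂ x₃
  obtain ⟨k, hk⟩ := trace_even_of_sq hXt hXu (3 * 2 * 2) (by norm_num) hEE hEX
  refine ⟨k, ?_⟩
  have r1 : repMat ρ 1 = 1 := repMat_one ρ
  have rxs : repMat ρ (x * s) = A * S := by rw [repMat_mul, ← hA, ← hS]
  have rxxs : repMat ρ (x * x * s) = B * S := by rw [repMat_mul, ← hB, ← hS]
  have rxt : repMat ρ (x * t) = A * T := by rw [repMat_mul, ← hA, ← hT]
  have rxxt : repMat ρ (x * x * t) = B * T := by rw [repMat_mul, ← hB, ← hT]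
  have rst : repMat ρ (s * t) = S * T := by rw [repMat_mul, ← hS, ← hT]
  have rxst : repMat ρ (x * s * t) = A * S * T := by rw [repMat_mul, rxs, ← hT]
  have rxxst : repMat ρ (x * x * s * t) = B * S * T := by rw [repMat_mul, rxxs, ← hT]
  have hE : (1 + A + B) * (1 + (ls : ℂ) • S) * (1 + (lt : ℂ) • T) =
      repMat ρ 1 + repMat ρ x + repMat ρ (x * x) +
      (ls : ℂ) • (repMat ρ s + repMat ρ (x * s) + repMat ρ (x * x * s)) +
      (lt : ℂ) • (repMat ρ t + repMat ρ (x * t) + repMat ρ (x * x * t)) +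
      ((ls : ℂ) * (lt : ℂ)) • (repMat ρ (s * t) + repMat ρ (x * s * t) +
        repMat ρ (x * x * s * t)) := by
    rw [r1, rxs, rxxs, rxt, rxxt, rst, rxst, rxxst, ← hA, ← hB, ← hS, ← hT]
    simp only [mul_add, add_mul, one_mul, mul_one, smul_mul_assoc, mul_smul_comm, smul_add,
      smul_smul]
    module
  rw [hE] at hk
  simp only [Matrix.trace_add, Matrix.trace_smul, smul_eq_mul, ← character_eq_trace_repMat] at hk
  rw [c1, c2, c3, c4, c5, c6] at hk
  push_cast at hk
  linear_combination hk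

end Cfsg.Agent.Lib.Helper5.TdPar
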