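import Mathlib

/-! # From `N(P)/P ≅ D₈` to exponent three and dihedral Sylow 2-subgroups of `N(P)`
(farm-out G6 of S3716 / S3333) -/

set_option autoImplicit false

namespace Cfsg.Agent.Lib.Helper5.TdQuot

theorem exp_and_sylow_of_quot {G : Type*} [Group G] [Finite G] (P : Sylow 3 G)
    (hcard : Nat.card ↥(P : Subgroup G) = 9)
    (hC : Subgroup.centralizer ((P : Subgroup G) : Set G) = (P : Subgroup G))
    (eN : ↥(Subgroup.normalizer ((P : Subgroup G) : Set G)) ⧸
      (P : Subgroup G).subgroupOf (Subgroup.normalizer ((P : Subgroup G) : Set G)) ≃*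
        DihedralGroup 4) :
    (∀ m ∈ (P : Subgroup G), m ^ 3 = 1) ∧
      ∀ S : Sylow 2 ↥(Subgroup.normalizer ((P : Subgroup G) : Set G)),
        Nonempty (↥(S : Subgroup ↥(Subgroup.normalizer ((P : Subgroup G) : Set G))) ≃*
          DihedralGroup 4) := by
  classical
  have hPN : (P : Subgroup G) ≤ Subgroup.normalizer ((P : Subgroup G) : Set G) :=
    Subgroup.le_normalizer
  have hcardP' : Nat.card ((P : Subgroup G).subgroupOf
      (Subgroup.normalizer ((P : Subgroup G) : Set G))) = 9 := by
    rw [← hcard]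
    exact Nat.card_congr (Subgroup.subgroupOfEquivOfLe hPN).toEquiv
  have hcardQ : Nat.card (↥(Subgroup.normalizer ((P : Subgroup G) : Set G)) ⧸
      (P : Subgroup G).subgroupOf (Subgroup.normalizer ((P : Subgroup G) : Set G))) = 8 := by
    rw [Nat.card_congr eN.toEquiv, DihedralGroup.nat_card]
  have hcardN : Nat.card ↥(Subgroup.normalizer ((P : Subgroup G) : Set G)) = 72 := by
    rw [Subgroup.card_eq_card_quotient_mul_card_subgroup ((P : Subgroup G).subgroupOf
      (Subgroup.normalizer ((P : Subgroup G) : Set G))), hcardP', hcardQ]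
  constructor
  · -- exponent three
    by_contra hcon
    push Not at hcon
    obtain ⟨m, hmP, hm3⟩ := hcon
    have hdvd : orderOf m ∣ 9 := by
      rw [← hcard]
      exact Subgroup.orderOf_dvd_natCard _ hmP
    have ho : orderOf m = 9 := by
      obtain ⟨k, hk, hk'⟩ := (Nat.dvd_prime_pow Nat.prime_three).mp
        (show orderOf m ∣ 3 ^ 2 by simpa using hdvd)
      interval_cases k
      · exfalso
        apply hm3
        have : m = 1 := orderOf_eq_one_iff.mp (by simpa using hk')
        rw [this, one_pow]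
      · exfalso
        apply hm3
        have h3 : orderOf m = 3 := by simpa using hk'
        rw [← h3]
        exact pow_orderOf_eq_one m
      · simpa using hk'
    have hzp : Subgroup.zpowers m = (P : Subgroup G) := by
      apply Subgroup.eq_of_le_of_card_ge
      · rw [Subgroup.zpowers_le]; exact hmP
      · rw [Nat.card_zpowers, ho, hcard]
    -- the quotient is commutative
    have hcommQ : ∀ q₁ q₂ : ↥(Subgroup.normalizer ((P : Subgroup G) : Set G)) ⧸
        (P : Subgroup G).subgroupOf (Subgroup.normalizer ((P : Subgroup G) : Set G)),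
        q₁ * q₂ = q₂ * q₁ := by
      intro q₁ q₂
      induction q₁ using QuotientGroup.induction_on with
      | H n₁ =>
      induction q₂ using QuotientGroup.induction_on with
      | H n₂ =>
      rw [← QuotientGroup.mk_mul, ← QuotientGroup.mk_mul, eq_comm, QuotientGroup.eq,
        Subgroup.mem_subgroupOf]
      -- `(n₂ n₁)⁻¹ (n₁ n₂)` centralizes `m`
      have hconj : ∀ n : ↥(Subgroup.normalizer ((P : Subgroup G) : Set G)),
          ∃ i : ℤ, m ^ i = (n : G) * m * (n : G)⁻¹ := by
        intro n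
        have h1 : (n : G) * m * (n : G)⁻¹ ∈ (P : Subgroup G) :=
          (Subgroup.mem_normalizer_iff.mp n.2 m).mp hmP
        exact Subgroup.mem_zpowers_iff.mp (hzp.ge h1)
      obtain ⟨i, hi⟩ := hconj n₁
      obtain ⟨j, hj⟩ := hconj n₂
      have h12 : (n₁ : G) * (n₂ : G) * m * ((n₁ : G) * (n₂ : G))⁻¹ = m ^ (i * j) := by
        calc (n₁ : G) * (n₂ : G) * m * ((n₁ : G) * (n₂ : G))⁻¹
            = (n₁ : G) * ((n₂ : G) * m * (n₂ : G)⁻¹) * (n₁ : G)⁻¹ := by group
          _ = (n₁ : G) * m ^ j * (n₁ : G)⁻¹ := by rw [hj]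
          _ = ((n₁ : G) * m * (n₁ : G)⁻¹) ^ j := by rw [conj_zpow]
          _ = m ^ (i * j) := by rw [← hi, zpow_mul]
      have h21 : (n₂ : G) * (n₁ : G) * m * ((n₂ : G) * (n₁ : G))⁻¹ = m ^ (i * j) := by
        calc (n₂ : G) * (n₁ : G) * m * ((n₂ : G) * (n₁ : G))⁻¹
            = (n₂ : G) * ((n₁ : G) * m * (n₁ : G)⁻¹) * (n₂ : G)⁻¹ := by group
          _ = (n₂ : G) * m ^ i * (n₂ : G)⁻¹ := by rw [hi]
          _ = ((n₂ : G) * m * (n₂ : G)⁻¹) ^ i := by rw [conj_zpow]
          _ = m ^ (i * j) := by rw [← hj, ← zpow_mul, mul_comm]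
      have hz : Commute (((n₂ : G) * (n₁ : G))⁻¹ * ((n₁ : G) * (n₂ : G))) m := by
        have h3 : (n₁ : G) * (n₂ : G) * m * ((n₁ : G) * (n₂ : G))⁻¹ =
            (n₂ : G) * (n₁ : G) * m * ((n₂ : G) * (n₁ : G))⁻¹ := by rw [h12, h21]
        show ((n₂ : G) * (n₁ : G))⁻¹ * ((n₁ : G) * (n₂ : G)) * m =
          m * (((n₂ : G) * (n₁ : G))⁻¹ * ((n₁ : G) * (n₂ : G)))
        calc ((n₂ : G) * (n₁ : G))⁻¹ * ((n₁ : G) * (n₂ : G)) * m
            = ((n₂ : G) * (n₁ : G))⁻¹ * ((n₁ : G) * (n₂ : G) * m *
              ((n₁ : G) * (n₂ : G))⁻¹) * ((n₁ : G) * (n₂ : G)) := by group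
          _ = ((n₂ : G) * (n₁ : G))⁻¹ * ((n₂ : G) * (n₁ : G) * m *
              ((n₂ : G) * (n₁ : G))⁻¹) * ((n₁ : G) * (n₂ : G)) := by rw [h3]
          _ = m * (((n₂ : G) * (n₁ : G))⁻¹ * ((n₁ : G) * (n₂ : G))) := by group
      have hmem : ((n₂ : G) * (n₁ : G))⁻¹ * ((n₁ : G) * (n₂ : G)) ∈
          Subgroup.centralizer ((P : Subgroup G) : Set G) := by
        rw [Subgroup.mem_centralizer_iff]
        intro x hx
        have hx' : x ∈ Subgroup.zpowers m := hzp.ge hx
        obtain ⟨k, rfl⟩ := Subgroup.mem_zpowers_iff.mp hx'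
        exact ((hz.zpow_right k).eq).symm
      rw [hC] at hmem
      simpa using hmem
    have h1 := hcommQ (eN.symm (DihedralGroup.sr 0)) (eN.symm (DihedralGroup.r 1))
    rw [← map_mul, ← map_mul] at h1
    have h2 := eN.symm.injective h1
    revert h2
    decide
  · -- Sylow 2-subgroups of `N`
    intro S
    have : Fact (Nat.Prime 2) := ⟨Nat.prime_two⟩
    have hS8 : Nat.card (S : Subgroup ↥(Subgroup.normalizer ((P : Subgroup G) : Set G))) = 8 := by
      obtain ⟨k, hk⟩ := (S.isPGroup').exists_card_eq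
      have hidx := S.not_dvd_index
      have hmul := Subgroup.card_mul_index
        (S : Subgroup ↥(Subgroup.normalizer ((P : Subgroup G) : Set G)))
      rw [hcardN, hk] at hmul
      have hk6 : k ≤ 6 := by
        by_contra hlt
        push Not at hlt
        have h1 : 2 ^ 7 ≤ 2 ^ k := Nat.pow_le_pow_right (by norm_num) hlt
        have h2 : 0 < (S : Subgroup ↥(Subgroup.normalizer ((P : Subgroup G) : Set G))).index := by
          rcases Nat.eq_zero_or_pos
            (S : Subgroup ↥(Subgroup.normalizer ((P : Subgroup G) : Set G))).index with h | h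
          · rw [h] at hmul; omega
          · exact h
        nlinarith
      rw [hk]
      interval_cases k <;> omega
    let f : ↥(S : Subgroup ↥(Subgroup.normalizer ((P : Subgroup G) : Set G))) →*
        ↥(Subgroup.normalizer ((P : Subgroup G) : Set G)) ⧸
          (P : Subgroup G).subgroupOf (Subgroup.normalizer ((P : Subgroup G) : Set G)) :=
      (QuotientGroup.mk' _).comp
        (S : Subgroup ↥(Subgroup.normalizer ((P : Subgroup G) : Set G))).subtype
    have hdisj : (S : Subgroup ↥(Subgroup.normalizer ((P : Subgroup G) : Set G))) ⊓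
        (P : Subgroup G).subgroupOf (Subgroup.normalizer ((P : Subgroup G) : Set G)) = ⊥ :=
      (Subgroup.disjoint_of_coprime_natCard (by rw [hS8, hcardP']; norm_num)).eq_bot
    have hfinj : Function.Injective f := by
      rw [injective_iff_map_eq_one]
      intro s hs
      have h1 : (s : ↥(Subgroup.normalizer ((P : Subgroup G) : Set G))) ∈
          (P : Subgroup G).subgroupOf (Subgroup.normalizer ((P : Subgroup G) : Set G)) :=
        (QuotientGroup.eq_one_iff _).mp hs
      have h2 : (s : ↥(Subgroup.normalizer ((P : Subgroup G) : Set G))) ∈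
          (S : Subgroup ↥(Subgroup.normalizer ((P : Subgroup G) : Set G))) ⊓
          (P : Subgroup G).subgroupOf (Subgroup.normalizer ((P : Subgroup G) : Set G)) :=
        ⟨s.2, h1⟩
      rw [hdisj, Subgroup.mem_bot] at h2
      exact Subtype.ext h2
    have hfbij : Function.Bijective f :=
      hfinj.bijective_of_nat_card_le (by rw [hcardQ, hS8])
    exact ⟨(MulEquiv.ofBijective f hfbij).trans eN⟩

end Cfsg.Agent.Lib.Helper5.TdQuot
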