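import Mathlib
import Cfsg.Agent.Lib.Helper6.TdP

/-! # The finite search for `N(P) = 3² : D₈` (farm-out F4b of S3716 / S3333) -/

set_option autoImplicit false

namespace Cfsg.Agent.Lib.Helper5.TdSearch

open Cfsg.Agent.Lib.Helper6.Td

/-- the integer conditions used in the search -/
def Chk (g e y y' z : ℤ) : Prop :=
  (1 + y' + z) ≠ 0 ∧ (e + y + z) ≠ 0 ∧ (1 + y + z) ≠ 0 ∧ (e + y' + z) ≠ 0 ∧
  (1 + y' + z) ∣ g ∧ (e + y + z) ∣ g ∧ (1 + y + z) ∣ g ∧ (e + y' + z) ∣ g ∧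
  g * (e * y * y' * z * (1 + y' + z) * (e + y + z) * (1 + y + z) * (e + y' + z)
      + y * y' * z * (1 + y' + z) * (e + y + z) * (1 + y + z) * (e + y' + z)
      + e * y' * z * (1 + y' + z) * (e + y + z) * (1 + y + z) * (e + y' + z)
      + e * y * z * (1 + y' + z) * (e + y + z) * (1 + y + z) * (e + y' + z)
      + 8 * (e * y * y' * (1 + y' + z) * (e + y + z) * (1 + y + z) * (e + y' + z))
      + e * y * y' * z * (e + y + z) * (1 + y + z) * (e + y' + z)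
      + e * y * y' * z * (1 + y' + z) * (1 + y + z) * (e + y' + z)
      + e * y * y' * z * (1 + y' + z) * (e + y + z) * (e + y' + z)
      + e * y * y' * z * (1 + y' + z) * (e + y + z) * (1 + y + z))
    = 648 * (e * y * y' * z * (1 + y' + z) * (e + y + z) * (1 + y + z) * (e + y' + z))

instance instDecidableChk (g e y y' z : ℤ) : Decidable (Chk g e y y' z) := by
  delta Chk; infer_instance

set_option synthInstance.maxSize 1024 in
set_option synthInstance.maxHeartbeats 400000 in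
set_option maxRecDepth 100000 in
lemma search_aux : ∀ k ∈ ({1, 10, 19, 28, 37, 46, 55, 64} : Finset ℤ),
    ∀ a ∈ Finset.Icc (-7 : ℤ) 7, (9 * a + 1) ∣ 72 * k →
    ∀ b ∈ Finset.Icc (-7 : ℤ) 7, (9 * b + 1) ∣ 72 * k →
    ∀ b' ∈ Finset.Icc (-7 : ℤ) 7, (9 * b' + 1) ∣ 72 * k →
    ∀ c ∈ Finset.Icc (-7 : ℤ) 7, (9 * c + 2) ∣ 72 * k →
    Chk (72 * k) (9 * a + 1) (9 * b + 1) (9 * b' + 1) (9 * c + 2) →
    k = 1 ∨ (k = 10 ∧ a = 0 ∧ b = 1 ∧ b' = 1 ∧ c = -2) ∨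
      (k = 10 ∧ a = 1 ∧ b = 1 ∧ b' = 1 ∧ c = -2) ∨
      (k = 28 ∧ a = 0 ∧ b = -1 ∧ b' = -1 ∧ c = -1) := by
  decide +kernel

/-- clearing denominators in the second class equation -/
lemma clear_denoms (E Y Y' Z A B C D g : ℚ) (hE : E ≠ 0) (hY : Y ≠ 0) (hY' : Y' ≠ 0)
    (hZ : Z ≠ 0) (hA : A ≠ 0) (hB : B ≠ 0) (hC : C ≠ 0) (hD : D ≠ 0) (hg : g ≠ 0)
    (h : (1 : ℚ) + 1 / E + 1 / Y + 1 / Y' + 8 / Z + 1 / A + 1 / B + 1 / C + 1 / D = 648 / g) :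
    g * (E * Y * Y' * Z * A * B * C * D
      + Y * Y' * Z * A * B * C * D
      + E * Y' * Z * A * B * C * D
      + E * Y * Z * A * B * C * D
      + 8 * (E * Y * Y' * A * B * C * D)
      + E * Y * Y' * Z * B * C * D
      + E * Y * Y' * Z * A * C * D
      + E * Y * Y' * Z * A * B * D
      + E * Y * Y' * Z * A * B * C)
    = 648 * (E * Y * Y' * Z * A * B * C * D) := by
  have hN : E * Y * Y' * Z * A * B * C * D
      + Y * Y' * Z * A * B * C * D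
      + E * Y' * Z * A * B * C * D
      + E * Y * Z * A * B * C * D
      + 8 * (E * Y * Y' * A * B * C * D)
      + E * Y * Y' * Z * B * C * D
      + E * Y * Y' * Z * A * C * D
      + E * Y * Y' * Z * A * B * D
      + E * Y * Y' * Z * A * B * C =
      ((1 : ℚ) + 1 / E + 1 / Y + 1 / Y' + 8 / Z + 1 / A + 1 / B + 1 / C + 1 / D) *
        (E * Y * Y' * Z * A * B * C * D) := by
    field_simp
  rw [hN, h]
  field_simp

set_option maxHeartbeats 3200000 in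
theorem d8_search (e y y' z : ℤ) (g : ℕ) (hgb : g ≤ 4729) (he9 : e % 9 = 1) (hy9 : y % 9 = 1)
    (hy'9 : y' % 9 = 1) (hz9 : z % 9 = 2) (hpat : SignPat e y y' z)
    (hdiv : e ∣ (g : ℤ) ∧ y ∣ (g : ℤ) ∧ y' ∣ (g : ℤ) ∧ z ∣ (g : ℤ) ∧ (1 + y' + z) ∣ (g : ℤ) ∧
      (e + y + z) ∣ (g : ℤ) ∧ (1 + y + z) ∣ (g : ℤ) ∧ (e + y' + z) ∣ (g : ℤ))
    (hsq : 1 + e ^ 2 + y ^ 2 + y' ^ 2 + z ^ 2 + (1 + y' + z) ^ 2 + (e + y + z) ^ 2 +
      (1 + y + z) ^ 2 + (e + y' + z) ^ 2 ≤ (g : ℤ))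
    (hE1 : 1 / ((1 + y' + z : ℤ) : ℚ) + 1 / ((e + y + z : ℤ) : ℚ) =
      1 / ((1 + y + z : ℤ) : ℚ) + 1 / ((e + y' + z : ℤ) : ℚ))
    (hE2 : (1 : ℚ) + 1 / (e : ℚ) + 1 / (y : ℚ) + 1 / (y' : ℚ) + 8 / (z : ℚ) +
      1 / ((1 + y' + z : ℤ) : ℚ) + 1 / ((e + y + z : ℤ) : ℚ) + 1 / ((1 + y + z : ℤ) : ℚ) +
      1 / ((e + y' + z : ℤ) : ℚ) = 648 / (g : ℚ))
    (hg : 72 ∣ g) (hk : (g / 72) % 9 = 1) :
    g = 72 ∨ (g = 720 ∧ e = 1 ∧ y = 10 ∧ y' = 10 ∧ z = -16) := by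
  obtain ⟨k, rfl⟩ := hg
  have hk' : k % 9 = 1 := by
    rwa [Nat.mul_div_cancel_left k (by norm_num : 0 < 72)] at hk
  have hk65 : k ≤ 65 := by omega
  have hkmem : (k : ℤ) ∈ ({1, 10, 19, 28, 37, 46, 55, 64} : Finset ℤ) := by
    have : k = 1 ∨ k = 10 ∨ k = 19 ∨ k = 28 ∨ k = 37 ∨ k = 46 ∨ k = 55 ∨ k = 64 := by omega
    rcases this with rfl | rfl | rfl | rfl | rfl | rfl | rfl | rfl <;> decide
  have hnz : e ≠ 0 ∧ y ≠ 0 ∧ y' ≠ 0 ∧ z ≠ 0 ∧ 1 + y' + z ≠ 0 ∧ e + y + z ≠ 0 ∧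
      1 + y + z ≠ 0 ∧ e + y' + z ≠ 0 := by
    unfold SignPat at hpat
    omega
  obtain ⟨he0, hy0, hy'0, hz0, hD1, hD2, hD3, hD4⟩ := hnz
  obtain ⟨hde, hdy, hdy', hdz, hdD1, hdD2, hdD3, hdD4⟩ := hdiv
  -- the integer form of the class equation
  have hE2z : ((72 * k : ℕ) : ℤ) *
      (e * y * y' * z * (1 + y' + z) * (e + y + z) * (1 + y + z) * (e + y' + z)
      + y * y' * z * (1 + y' + z) * (e + y + z) * (1 + y + z) * (e + y' + z)
      + e * y' * z * (1 + y' + z) * (e + y + z) * (1 + y + z) * (e + y' + z)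
      + e * y * z * (1 + y' + z) * (e + y + z) * (1 + y + z) * (e + y' + z)
      + 8 * (e * y * y' * (1 + y' + z) * (e + y + z) * (1 + y + z) * (e + y' + z))
      + e * y * y' * z * (e + y + z) * (1 + y + z) * (e + y' + z)
      + e * y * y' * z * (1 + y' + z) * (1 + y + z) * (e + y' + z)
      + e * y * y' * z * (1 + y' + z) * (e + y + z) * (e + y' + z)
      + e * y * y' * z * (1 + y' + z) * (e + y + z) * (1 + y + z))
      = 648 * (e * y * y' * z * (1 + y' + z) * (e + y + z) * (1 + y + z) * (e + y' + z)) := by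
    have hk0 : k ≠ 0 := by omega
    have h := clear_denoms (e : ℚ) (y : ℚ) (y' : ℚ) (z : ℚ) ((1 + y' + z : ℤ) : ℚ)
      ((e + y + z : ℤ) : ℚ) ((1 + y + z : ℤ) : ℚ) ((e + y' + z : ℤ) : ℚ) ((72 * k : ℕ) : ℚ)
      (by exact_mod_cast he0) (by exact_mod_cast hy0) (by exact_mod_cast hy'0)
      (by exact_mod_cast hz0) (by exact_mod_cast hD1) (by exact_mod_cast hD2)
      (by exact_mod_cast hD3) (by exact_mod_cast hD4)
      (by exact_mod_cast (Nat.mul_ne_zero (by norm_num) hk0)) hE2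
    exact_mod_cast h
  -- bounds
  have hgZ : ((72 * k : ℕ) : ℤ) ≤ 4729 := by exact_mod_cast hgb
  have hbe := abs_le_of_sq_le_sq' (show e ^ 2 ≤ 69 ^ 2 by
    nlinarith [sq_nonneg y, sq_nonneg y', sq_nonneg z, sq_nonneg (1 + y' + z),
      sq_nonneg (e + y + z), sq_nonneg (1 + y + z), sq_nonneg (e + y' + z)]) (by norm_num)
  have hby := abs_le_of_sq_le_sq' (show y ^ 2 ≤ 69 ^ 2 by
    nlinarith [sq_nonneg e, sq_nonneg y', sq_nonneg z, sq_nonneg (1 + y' + z),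
      sq_nonneg (e + y + z), sq_nonneg (1 + y + z), sq_nonneg (e + y' + z)]) (by norm_num)
  have hby' := abs_le_of_sq_le_sq' (show y' ^ 2 ≤ 69 ^ 2 by
    nlinarith [sq_nonneg e, sq_nonneg y, sq_nonneg z, sq_nonneg (1 + y' + z),
      sq_nonneg (e + y + z), sq_nonneg (1 + y + z), sq_nonneg (e + y' + z)]) (by norm_num)
  have hbz := abs_le_of_sq_le_sq' (show z ^ 2 ≤ 69 ^ 2 by
    nlinarith [sq_nonneg e, sq_nonneg y, sq_nonneg y', sq_nonneg (1 + y' + z),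
      sq_nonneg (e + y + z), sq_nonneg (1 + y + z), sq_nonneg (e + y' + z)]) (by norm_num)
  obtain ⟨a, rfl⟩ : ∃ a, e = 9 * a + 1 := ⟨e / 9, by omega⟩
  obtain ⟨b, rfl⟩ : ∃ b, y = 9 * b + 1 := ⟨y / 9, by omega⟩
  obtain ⟨b', rfl⟩ : ∃ b', y' = 9 * b' + 1 := ⟨y' / 9, by omega⟩
  obtain ⟨c, rfl⟩ : ∃ c, z = 9 * c + 2 := ⟨z / 9, by omega⟩
  have ha : a ∈ Finset.Icc (-7 : ℤ) 7 := Finset.mem_Icc.mpr (by omega)
  have hb : b ∈ Finset.Icc (-7 : ℤ) 7 := Finset.mem_Icc.mpr (by omega)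
  have hb' : b' ∈ Finset.Icc (-7 : ℤ) 7 := Finset.mem_Icc.mpr (by omega)
  have hc : c ∈ Finset.Icc (-7 : ℤ) 7 := Finset.mem_Icc.mpr (by omega)
  have hcast : ((72 * k : ℕ) : ℤ) = 72 * (k : ℤ) := by push_cast; ring
  rw [hcast] at hde hdy hdy' hdz hdD1 hdD2 hdD3 hdD4 hE2z
  have hres := search_aux (k : ℤ) hkmem a ha hde b hb hdy b' hb' hdy' c hc hdz
    ⟨hD1, hD2, hD3, hD4, hdD1, hdD2, hdD3, hdD4, hE2z⟩
  rcases hres with h | ⟨h1, h2, h3, h4, h5⟩ | ⟨h1, h2, h3, h4, h5⟩ | ⟨h1, h2, h3, h4, h5⟩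
  · left
    have : k = 1 := by exact_mod_cast h
    rw [this]
  · right
    have : k = 10 := by exact_mod_cast h1
    subst this; subst h2; subst h3; subst h4; subst h5
    norm_num
  · exfalso
    subst h2; subst h3; subst h4; subst h5
    unfold SignPat at hpat
    omega
  · exfalso
    subst h2; subst h3; subst h4; subst h5
    unfold SignPat at hpat
    omega

end Cfsg.Agent.Lib.Helper5.TdSearch
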