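import Mathlib
import Cfsg.Prelude
import Cfsg.Agent.Lib.Helper5.TensorFrameDecomp

set_option autoImplicit false
set_option linter.unusedSectionVars false
set_option linter.unusedVariables false
open Cfsg

/-! The stabiliser in `Ω(Q)` over the field with three elements of a tensor decomposition
`O_3 ⊗ O_n` is not maximal. -/

namespace Cfsg.Agent.Lib.Helper5.TensorOmegaFrame

open Matrix Kronecker QuadraticMap Cfsg.Agent.Lib.Helper5.TensorSub
  Cfsg.Agent.Lib.Helper5.TensorFormSub
  Cfsg.Agent.Lib.Helper5.FrameThreeForm Cfsg.Agent.Lib.Helper5.TensorFrameDecomp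
  Cfsg.Agent.Lib.Helper5.CartanDieudonne Cfsg.Agent.Lib.Helper5.Refl
  Cfsg.Agent.Lib.Helper5.OmegaSimple Cfsg.Agent.Lib.Helper5.OrthSingularMax

variable {F : Type*} [Field F] [Fintype F] {ι : Type} [Fintype ι] [DecidableEq ι] {n₂ : ℕ}
  {Q : QuadraticForm F (ι → F)}

theorem polar_bilinear : Cfsg.Geo.IsBilinearForm (polar ⇑Q) where
  add_left := fun x y v => polar_add_left Q x y v
  smul_left := fun c x v => by rw [polar_smul_left, smul_eq_mul]
  add_right := fun v x y => polar_add_right Q v x y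
  smul_right := fun c v x => by rw [polar_smul_right, smul_eq_mul]

/-- a vector of non-zero norm and a non-zero vector orthogonal to it -/
theorem exists_pair (h2 : (2 : F) ≠ 0) (hn₂ : 2 ≤ n₂) {f₂ : (Fin n₂ → F) → (Fin n₂ → F) → F}
    (hf₂ : Cfsg.Geo.IsSymmetricForm f₂) :
    ∃ y₀ y' : Fin n₂ → F, f₂ y₀ y₀ ≠ 0 ∧ y' ≠ 0 ∧ f₂ y₀ y' = 0 := by
  have hb := hf₂.bilinear
  obtain ⟨y₀, hy₀⟩ : ∃ y₀, f₂ y₀ y₀ ≠ 0 := by
    by_contra hcon
    push Not at hcon
    have h1 : (Pi.single (⟨0, by omega⟩ : Fin n₂) (1 : F) : Fin n₂ → F) ≠ 0 := by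
      intro h
      have := congrFun h ⟨0, by omega⟩
      simp at this
    obtain ⟨⟨x, hx⟩, -⟩ := hf₂.nondegenerate _ h1
    apply hx
    have h3 := hcon (x + Pi.single (⟨0, by omega⟩ : Fin n₂) (1 : F))
    rw [hb.add_left, hb.add_right, hb.add_right, hcon, hcon, zero_add, add_zero,
      hf₂.symm (Pi.single _ _) x, ← two_mul] at h3
    exact (mul_eq_zero.mp h3).resolve_left h2
  refine ⟨y₀, ?_⟩
  set e₀ : Fin n₂ → F := Pi.single (⟨0, by omega⟩ : Fin n₂) (1 : F) with he₀
  set e₁ : Fin n₂ → F := Pi.single (⟨1, by omega⟩ : Fin n₂) (1 : F) with he₁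
  by_cases h0 : f₂ y₀ e₀ = 0
  · refine ⟨e₀, hy₀, ?_, h0⟩
    intro h
    have := congrFun h ⟨0, by omega⟩
    simp [he₀] at this
  · refine ⟨e₁ - (f₂ y₀ e₁ / f₂ y₀ e₀) • e₀, hy₀, ?_, ?_⟩
    · intro h
      have := congrFun h ⟨1, by omega⟩
      simp [he₀, he₁] at this
    · rw [sub_right hb, hb.smul_right, div_mul_cancel₀ _ h0, sub_self]

/-- the main theorem -/
theorem not_maximal (H : Hyp Q) (hq : Fintype.card F = 3) (hn₂ : 2 ≤ n₂)
    (e : ι ≃ Fin 3 × Fin n₂) (P : Matrix.GeneralLinearGroup ι F)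
    (f₁ : (Fin 3 → F) → (Fin 3 → F) → F) (f₂ : (Fin n₂ → F) → (Fin n₂ → F) → F)
    (hf₁ : Cfsg.Geo.IsSymmetricForm f₁) (hf₂ : Cfsg.Geo.IsSymmetricForm f₂)
    (hT : Cfsg.Geo.IsTensorFormStructure id (polar ⇑Q) f₁ f₂ e P) :
    ∃ K : Subgroup (Matrix.GeneralLinearGroup ι F),
      Cfsg.Geo.tensorProductSubgroup 3 n₂ e P ⊓ Cfsg.Geo.omegaGL ⇑Q < K ∧
        K < Cfsg.Geo.omegaGL ⇑Q := by
  have h2 : (2 : F) ≠ 0 := Cfsg.Agent.Lib.Helper5.OrthFrameThree.two_ne_zero' hq
  have h3z := Cfsg.Agent.Lib.Helper5.OrthFrameThree.three_eq_zero hq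
  have hn₂0 : 0 < n₂ := by omega
  obtain ⟨c₀, v, hv⟩ := exists_isFrame hq hf₁
  have hT' := hT
  obtain ⟨c, hc0, hc⟩ := hT
  obtain ⟨y₀, y', hy₀, hy'0, hy'⟩ := exists_pair h2 hn₂ hf₂
  have hfin := finrank_blocks e P (n₂ := n₂) hf₁ hv
  have hinter : ∀ {i j : Fin 3}, i ≠ j → ∀ {x : ι → F}, x ∈ blocks e P v i →
      x ∈ blocks e P v j → x = 0 := fun hij _ hi hj =>
    inter_eq_zero e P hf₁ hf₂.bilinear hf₂.nondegenerate hc0 hc hv hij hi hj
  have hform : ∀ (i j : Fin 3) (y z : Fin n₂ → F),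
      polar ⇑Q (blockMap e P (v i) y) (blockMap e P (v j) z) =
        c * ((if i = j then c₀ else 0) * f₂ y z) := by
    intro i j y z
    rw [form_block e P hf₁ hf₂.bilinear hc, hv.gram]
  -- the norm of the basic vectors
  set s : F := c * (c₀ * f₂ y₀ y₀) with hs
  have hs0 : s ≠ 0 := mul_ne_zero hc0 (mul_ne_zero hv.c_ne hy₀)
  have hself : ∀ j, polar ⇑Q (blockMap e P (v j) y₀) (blockMap e P (v j) y₀) = s := by
    intro j
    rw [hform, if_pos rfl]
  have hQb : ∀ j, Q (blockMap e P (v j) y₀) = -s := by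
    intro j
    have h1 := hself j
    rw [polar_self, two_smul] at h1
    linear_combination -h1 + (Q (blockMap e P (v j) y₀)) * h3z
  have hbne : ∀ j, blockMap e P (v j) y₀ ≠ 0 := by
    intro j h
    have := hQb j
    rw [h, map_zero] at this
    exact hs0 (neg_eq_zero.mp this.symm)
  have hb'ne : ∀ j, blockMap e P (v j) y' ≠ 0 := by
    intro j h
    exact hy'0 (blockMap_injective e P (hv.ne_zero hf₁.bilinear j) (h.trans (map_zero _).symm))
  refine ⟨Cfsg.Geo.decompositionStabilizer (blocks e P v) ⊓ Cfsg.Geo.omegaGL ⇑Q,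
    lt_of_le_of_ne ?_ ?_, lt_of_le_of_ne inf_le_right ?_⟩
  · rintro g ⟨hgT, hgS⟩
    refine ⟨tensor_le_stab e P hf₁ hf₂.bilinear hf₂.nondegenerate hv hq hn₂0 hT' g hgT ?_, hgS⟩
    obtain ⟨g', -, rfl⟩ := (mem_omegaGL_iff Q g).mp hgS
    intro u w
    exact polar_act Q g' u w
  · intro heq
    -- a product of two reflections in different blocks
    have ha : Q (blockMap e P (v 0) y₀) ≠ 0 := by rw [hQb]; exact neg_ne_zero.mpr hs0
    have hb : Q (blockMap e P (v 1) y₀) ≠ 0 := by rw [hQb]; exact neg_ne_zero.mpr hs0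
    have hk : ((reflection Q _ ha * reflection Q _ hb : ↥(isometryGroup F ⇑Q)) :
        Matrix.GeneralLinearGroup ι F) ∈
        Cfsg.Geo.decompositionStabilizer (blocks e P v) ⊓ Cfsg.Geo.omegaGL ⇑Q := by
      refine ⟨?_, Cfsg.Agent.Lib.Helper5.OrthFrameThree.refl_pair_mem_omega H ha hb
        ⟨-s, by rw [hQb, hQb]⟩⟩
      refine stab_of_perm hfin _ 1 ?_
      rintro i _ ⟨y, rfl⟩
      rw [Equiv.Perm.one_apply]
      have e1 : ((reflection Q _ ha * reflection Q _ hb : ↥(isometryGroup F ⇑Q)) :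
          Matrix.GeneralLinearGroup ι F).1 *ᵥ blockMap e P (v i) y =
          act Q (reflection Q _ ha) (act Q (reflection Q _ hb) (blockMap e P (v i) y)) := by
        rw [← act_mul]
      rw [e1, act_reflection Q _ hb, hform]
      have hmem : blockMap e P (v i) y - ((Q (blockMap e P (v 1) y₀))⁻¹ *
          (c * ((if (1 : Fin 3) = i then c₀ else 0) * f₂ y₀ y))) • blockMap e P (v 1) y₀ ∈
          blocks e P v i := by
        by_cases hi : (1 : Fin 3) = i
        · subst hi
          exact Submodule.sub_mem _ (mem_blocks e P v 1 y)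
            (Submodule.smul_mem _ _ (mem_blocks e P v 1 y₀))
        · rw [if_neg hi, zero_mul, mul_zero, mul_zero, zero_smul, sub_zero]
          exact mem_blocks e P v i y
      obtain ⟨z, hz⟩ := hmem
      rw [← hz, act_reflection Q _ ha, hform]
      by_cases hi : (0 : Fin 3) = i
      · subst hi
        exact Submodule.sub_mem _ (mem_blocks e P v 0 z)
          (Submodule.smul_mem _ _ (mem_blocks e P v 0 y₀))
      · rw [if_neg hi, zero_mul, mul_zero, mul_zero, zero_smul, sub_zero]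
        exact mem_blocks e P v i z
    rw [← heq] at hk
    obtain ⟨a, b, hab⟩ := (mem_tensor e P _).mp hk.1
    have e1 : ∀ x, ((Phi e P (kron a b) : Matrix.GeneralLinearGroup ι F) : Matrix ι ι F) *ᵥ x =
        act Q (reflection Q _ ha) (act Q (reflection Q _ hb) x) := by
      intro x
      rw [← hab, ← act_mul]
    have h1 : ∀ y, ((Phi e P (kron a b) : Matrix.GeneralLinearGroup ι F) : Matrix ι ι F) *ᵥ
        blockMap e P (v 2) y = blockMap e P (v 2) y := by
      intro y
      rw [e1, act_reflection Q _ hb, hform, if_neg (by decide), zero_mul, mul_zero, mul_zero,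
        zero_smul, sub_zero, act_reflection Q _ ha, hform, if_neg (by decide), zero_mul, mul_zero,
        mul_zero, zero_smul, sub_zero]
    have h0 : ∀ y, ((Phi e P (kron a b) : Matrix.GeneralLinearGroup ι F) : Matrix ι ι F) *ᵥ
        blockMap e P (v 0) y = blockMap e P (v 0) (y - ((-s)⁻¹ * (c * (c₀ * f₂ y₀ y))) • y₀) := by
      intro y
      rw [e1, act_reflection Q _ hb, hform, if_neg (by decide), zero_mul, mul_zero, mul_zero,
        zero_smul, sub_zero, act_reflection Q _ ha, hform, if_pos rfl, hQb, map_sub, map_smul]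
    obtain ⟨ν, hν⟩ := scalar_of_kron e P hn₂0 a b (hv.ne_zero hf₁.bilinear 2)
      (hv.ne_zero hf₁.bilinear 0) _ h1 h0
    have h3 := hν y'
    rw [hy', mul_zero, mul_zero, mul_zero, zero_smul, sub_zero] at h3
    have hν1 : ν = 1 := by
      by_contra hne
      have : (1 - ν) • y' = 0 := by rw [sub_smul, one_smul, ← h3, sub_self]
      rcases smul_eq_zero.mp this with h | h
      · exact hne (sub_eq_zero.mp h).symm
      · exact hy'0 h
    have h4 := hν y₀
    rw [hν1, one_smul, ← hs, sub_eq_self] at h4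
    rcases smul_eq_zero.mp h4 with h | h
    · exact mul_ne_zero (inv_ne_zero (neg_ne_zero.mpr hs0)) hs0 h
    · apply hy₀
      rw [h, zero_right hf₂.bilinear]
  · intro heq
    -- a product of two reflections mixing the blocks
    have hQx : ∀ i j : Fin 3, i ≠ j →
        Q (blockMap e P (v i) y₀ + blockMap e P (v j) y₀) = s := by
      intro i j hij
      rw [quad_add', hQb, hQb, hform, if_neg hij, zero_mul, mul_zero]
      linear_combination (-s) * h3z
    have hx : Q (blockMap e P (v 0) y₀ + blockMap e P (v 1) y₀) ≠ 0 := by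
      rw [hQx 0 1 (by decide)]; exact hs0
    have hy : Q (blockMap e P (v 1) y₀ + blockMap e P (v 2) y₀) ≠ 0 := by
      rw [hQx 1 2 (by decide)]; exact hs0
    have hh : ((reflection Q _ hx * reflection Q _ hy : ↥(isometryGroup F ⇑Q)) :
        Matrix.GeneralLinearGroup ι F) ∈ Cfsg.Geo.omegaGL ⇑Q :=
      Cfsg.Agent.Lib.Helper5.OrthFrameThree.refl_pair_mem_omega H hx hy
        ⟨s, by rw [hQx 0 1 (by decide), hQx 1 2 (by decide)]⟩
    rw [← heq] at hh
    obtain ⟨⟨σ, hσ⟩, -⟩ := hh
    have e1 : ∀ x, ((reflection Q _ hx * reflection Q _ hy : ↥(isometryGroup F ⇑Q)) :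
        Matrix.GeneralLinearGroup ι F).1 *ᵥ x =
        act Q (reflection Q _ hx) (act Q (reflection Q _ hy) x) := by
      intro x
      rw [← act_mul]
    have hfix : act Q (reflection Q _ hx) (act Q (reflection Q _ hy) (blockMap e P (v 0) y')) =
        blockMap e P (v 0) y' := by
      rw [act_reflection Q _ hy, polar_add_left, hform, hform, if_neg (by decide),
        if_neg (by decide), zero_mul, mul_zero, add_zero, mul_zero, zero_smul, sub_zero,
        act_reflection Q _ hx, polar_add_left, hform, hform, if_pos rfl, if_neg (by decide), hy',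
        mul_zero, mul_zero, zero_mul, mul_zero, add_zero, mul_zero, zero_smul, sub_zero]
    have hmove : act Q (reflection Q _ hx) (act Q (reflection Q _ hy) (blockMap e P (v 0) y₀)) =
        -blockMap e P (v 1) y₀ := by
      rw [act_reflection Q _ hy, polar_add_left, hform, hform, if_neg (by decide),
        if_neg (by decide), zero_mul, mul_zero, add_zero, mul_zero, zero_smul, sub_zero,
        act_reflection Q _ hx, polar_add_left, hform, hform, if_pos rfl, if_neg (by decide),
        zero_mul, mul_zero, add_zero, ← hs, hQx 0 1 (by decide), inv_mul_cancel₀ hs0, one_smul]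
      abel
    have hσ0 : σ 0 = 0 := by
      by_contra hne
      have h3 : blockMap e P (v 0) y' ∈ blocks e P v (σ 0) := by
        rw [← hσ 0]
        exact ⟨_, mem_blocks e P v 0 y', by rw [Matrix.toLin'_apply, e1, hfix]⟩
      exact hb'ne 0 (hinter (Ne.symm hne) (mem_blocks e P v 0 y') h3)
    have h4 : -blockMap e P (v 1) y₀ ∈ blocks e P v 0 := by
      have : ((reflection Q _ hx * reflection Q _ hy : ↥(isometryGroup F ⇑Q)) :
          Matrix.GeneralLinearGroup ι F).1 *ᵥ blockMap e P (v 0) y₀ ∈ blocks e P v (σ 0) := by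
        rw [← hσ 0]
        exact ⟨_, mem_blocks e P v 0 y₀, by rw [Matrix.toLin'_apply]⟩
      rwa [e1, hmove, hσ0] at this
    have h5 := hinter (show (0 : Fin 3) ≠ 1 by decide) h4
      (Submodule.neg_mem _ (mem_blocks e P v 1 y₀))
    exact hbne 1 (neg_eq_zero.mp h5)

end Cfsg.Agent.Lib.Helper5.TensorOmegaFrame
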