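import Mathlib
import Cfsg.Prelude
import Cfsg.Agent.Lib.Helper5.TensorFrameDecomp
import Cfsg.Agent.Lib.Helper5.TensorSwap
import Cfsg.Agent.Lib.Helper5.SpDecompMax

set_option autoImplicit false
set_option linter.unusedSectionVars false
set_option linter.unusedVariables false
open Cfsg

/-! The stabiliser in `Sp_{2m}(3)` of a tensor decomposition `Sp ⊗ O_3` is not maximal. -/

namespace Cfsg.Agent.Lib.Helper5.TensorSpFrame

open Matrix Kronecker Cfsg.Agent.Lib.Helper5.TensorSub Cfsg.Agent.Lib.Helper5.TensorFormSub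
  Cfsg.Agent.Lib.Helper5.FrameThreeForm Cfsg.Agent.Lib.Helper5.TensorFrameDecomp
  Cfsg.Agent.Lib.Helper5.SympTv Cfsg.Agent.Lib.Helper5.SpCentres

variable {F : Type*} [Field F] [Fintype F] {m n₁ : ℕ}

theorem symp_bilinear : Cfsg.Geo.IsBilinearForm (sympForm m F) where
  add_left := sympForm_add_left m
  smul_left := sympForm_smul_left m
  add_right := fun v x y => sympForm_add_right m v x y
  smul_right := fun c v x => sympForm_smul_right m c v x

/-- frame in the first factor -/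
theorem not_maximal_first (hq : Fintype.card F = 3) (hn₁ : 0 < n₁)
    (e : (Fin m ⊕ Fin m) ≃ Fin 3 × Fin n₁)
    (P : Matrix.GeneralLinearGroup (Fin m ⊕ Fin m) F)
    (f₁ : (Fin 3 → F) → (Fin 3 → F) → F) (f₂ : (Fin n₁ → F) → (Fin n₁ → F) → F)
    (hf₁ : Cfsg.Geo.IsSymmetricForm f₁) (hf₂ : Cfsg.Geo.IsSymplecticForm f₂)
    (hT : Cfsg.Geo.IsTensorFormStructure id (Cfsg.sympForm m F) f₁ f₂ e P) :
    ∃ K : Subgroup (Matrix.GeneralLinearGroup (Fin m ⊕ Fin m) F),
      Cfsg.Geo.tensorProductSubgroup 3 n₁ e P ⊓ Cfsg.spGL m F < K ∧ K < Cfsg.spGL m F := by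
  obtain ⟨c₀, v, hv⟩ := exists_isFrame hq hf₁
  have hT' := hT
  obtain ⟨c, hc0, hc⟩ := hT
  have hD := isNondegDecomp e P symp_bilinear hf₁ hf₂.bilinear hf₂.nondegenerate hc0 hc hv hn₁
  have hmax := Cfsg.Agent.Lib.Helper5.SpDecompMax.isMaximalIn hD (by
    rintro ⟨-, h⟩; omega)
  refine ⟨Cfsg.Geo.decompositionStabilizer (blocks e P v) ⊓ Cfsg.spGL m F,
    lt_of_le_of_ne ?_ ?_, hmax.1⟩
  · rintro g ⟨hgT, hgS⟩
    exact ⟨tensor_le_stab e P hf₁ hf₂.bilinear hf₂.nondegenerate hv hq hn₁ hT' g hgT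
      ((mem_spGL_iff m g).mp hgS), hgS⟩
  · intro heq
    -- a transvection with centre in the first block
    obtain ⟨y₀, hy₀⟩ : ∃ y₀ : Fin n₁ → F, y₀ ≠ 0 := by
      refine ⟨Pi.single ⟨0, hn₁⟩ 1, ?_⟩
      intro h
      have := congrFun h ⟨0, hn₁⟩
      simp at this
    have hform : ∀ (i j : Fin 3) (y y' : Fin n₁ → F),
        sympForm m F (blockMap e P (v i) y) (blockMap e P (v j) y') =
          c * ((if i = j then c₀ else 0) * f₂ y y') := by
      intro i j y y'
      rw [form_block e P hf₁ hf₂.bilinear hc, hv.gram]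
    have hk : tvGL m (blockMap e P (v 0) y₀) 1 ∈
        Cfsg.Geo.decompositionStabilizer (blocks e P v) ⊓ Cfsg.spGL m F := by
      refine ⟨?_, tvGL_mem m _ _⟩
      refine stab_of_perm (finrank_blocks e P hf₁ hv) _ 1 ?_
      rintro i _ ⟨y, rfl⟩
      rw [tvGL_mulVec, Equiv.Perm.one_apply, hform]
      by_cases hi : i = 0
      · subst hi
        exact Submodule.add_mem _ (mem_blocks e P v 0 y)
          (Submodule.smul_mem _ _ (mem_blocks e P v 0 y₀))
      · rw [if_neg hi, zero_mul, mul_zero, mul_zero, zero_smul, add_zero]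
        exact mem_blocks e P v i y
    rw [← heq] at hk
    obtain ⟨a, b, hab⟩ := (mem_tensor e P _).mp hk.1
    have h1 : ∀ y, ((Phi e P (kron a b) : Matrix.GeneralLinearGroup (Fin m ⊕ Fin m) F) :
        Matrix (Fin m ⊕ Fin m) (Fin m ⊕ Fin m) F) *ᵥ blockMap e P (v 1) y =
        blockMap e P (v 1) y := by
      intro y
      rw [← hab, tvGL_mulVec, hform, if_neg (by decide), zero_mul, mul_zero, mul_zero,
        zero_smul, add_zero]
    have h0 : ∀ y, ((Phi e P (kron a b) : Matrix.GeneralLinearGroup (Fin m ⊕ Fin m) F) :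
        Matrix (Fin m ⊕ Fin m) (Fin m ⊕ Fin m) F) *ᵥ blockMap e P (v 0) y =
        blockMap e P (v 0) (y + (c * (c₀ * f₂ y y₀)) • y₀) := by
      intro y
      rw [← hab, tvGL_mulVec, hform, if_pos rfl, map_add, map_smul, one_mul]
    obtain ⟨ν, hν⟩ := scalar_of_kron e P hn₁ a b (hv.ne_zero hf₁.bilinear 1)
      (hv.ne_zero hf₁.bilinear 0) _ h1 h0
    have h2 := hν y₀
    rw [hf₂.alternating, mul_zero, mul_zero, zero_smul, add_zero] at h2
    have hν1 : ν = 1 := by
      by_contra hne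
      have : (1 - ν) • y₀ = 0 := by rw [sub_smul, one_smul, ← h2, sub_self]
      rcases smul_eq_zero.mp this with h | h
      · exact hne (sub_eq_zero.mp h).symm
      · exact hy₀ h
    obtain ⟨⟨x, hx⟩, -⟩ := hf₂.nondegenerate y₀ hy₀
    have h3 := hν x
    rw [hν1, one_smul, add_eq_left] at h3
    rcases smul_eq_zero.mp h3 with h | h
    · exact mul_ne_zero hc0 (mul_ne_zero hv.c_ne hx) h
    · exact hy₀ h

end Cfsg.Agent.Lib.Helper5.TensorSpFrame
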