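import Mathlib
import Cfsg.Prelude
import Cfsg.Agent.Lib.Helper5.RankOne
import Cfsg.Agent.Lib.Helper5.SpinorNorm
import Cfsg.Agent.Lib.Helper5.ReflGenMat
import Cfsg.Agent.Lib.Helper5.ReflClass

set_option autoImplicit false
open Cfsg

/-! Orthogonal transvections over the field with two elements form a class of 3-transpositions. -/

namespace Cfsg.Agent.Lib.Helper5.ThreeTransOrth

open Matrix QuadraticMap Cfsg.Agent.Lib.Helper5.CartanDieudonne Cfsg.Agent.Lib.Helper5.Refl
  Cfsg.Agent.Lib.Helper5.RankOne Cfsg.Agent.Lib.Helper5.SpinorNorm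
  Cfsg.Agent.Lib.Helper5.ReflClass

section general
variable {ι : Type} [Fintype ι] [DecidableEq ι] {F : Type*} [Field F]
  (Q : QuadraticForm F (ι → F))

/-- an isometry `g` with `g - 1` of rank one is a reflection -/
theorem eq_reflection_of_rank_one (hQ : (polarBilin Q).Nondegenerate)
    (g : ↥(isometryGroup F ⇑Q))
    (h : (((g : Matrix.GeneralLinearGroup ι F) : Matrix ι ι F) - 1).rank = 1) :
    ∃ (u : ι → F) (hu : Q u ≠ 0), g = reflection Q u hu := by
  obtain ⟨u, φ, hu, hφ, hA⟩ := exists_vecMulVec_of_rank_eq_one _ h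
  have hg : ((g : Matrix.GeneralLinearGroup ι F) : Matrix ι ι F) = 1 + Matrix.vecMulVec u φ := by
    rw [← hA]
    abel
  have hgx : ∀ x, act Q g x = x + (φ ⬝ᵥ x) • u := by
    intro x
    unfold act
    rw [hg, one_add_vecMulVec_mulVec]
  have key : ∀ x, (φ ⬝ᵥ x) * ((φ ⬝ᵥ x) * Q u + polar ⇑Q x u) = 0 := by
    intro x
    have h1 := quad_act Q g x
    rw [hgx, quad_add_smul] at h1
    linear_combination h1
  obtain ⟨j, hj⟩ : ∃ j, φ j ≠ 0 := by
    by_contra hcon
    push Not at hcon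
    exact hφ (funext hcon)
  have hb : φ ⬝ᵥ (Pi.single j 1) = φ j := by
    rw [dotProduct_single, mul_one]
  set x0 : ι → F := Pi.single j 1 with hx0
  have hx0ne : φ ⬝ᵥ x0 ≠ 0 := by rw [hb]; exact hj
  have key1 : ∀ x, φ ⬝ᵥ x ≠ 0 → polar ⇑Q x u = -((φ ⬝ᵥ x) * Q u) := by
    intro x hx
    have := key x
    rcases mul_eq_zero.mp this with h0 | h0
    · exact absurd h0 hx
    · linear_combination h0
  have key2 : ∀ x, polar ⇑Q x u = -((φ ⬝ᵥ x) * Q u) := by
    intro x
    by_cases hx : φ ⬝ᵥ x = 0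
    · rw [hx, zero_mul, neg_zero]
      have h1 := key1 (x + x0) (by rw [dotProduct_add, hx, zero_add]; exact hx0ne)
      have h2 := key1 x0 hx0ne
      rw [polar_add_left, dotProduct_add, hx, zero_add, h2] at h1
      linear_combination h1
    · exact key1 x hx
  have hQu : Q u ≠ 0 := by
    intro h0
    apply hu
    apply hQ.2 u
    intro x
    show polar ⇑Q x u = 0
    rw [key2, h0, mul_zero, neg_zero]
  refine ⟨u, hQu, ?_⟩
  apply Subtype.ext
  apply Units.ext
  rw [ext_iff_mulVec]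
  intro x
  show act Q g x = act Q (reflection Q u hQu) x
  rw [hgx, act_reflection, polar_comm, key2]
  rw [sub_eq_add_neg, ← neg_smul]
  congr 2
  field_simp

theorem polarVec_ne_zero (hQ : (polarBilin Q).Nondegenerate) (u : ι → F) (hu : u ≠ 0) :
    polarVec ⇑Q u ≠ 0 := by
  intro h0
  apply hu
  apply hQ.2 u
  intro x
  show polar ⇑Q x u = 0
  rw [polar_comm, ← polarVec_dotProduct, h0, zero_dotProduct]

theorem reflection_mem_rank_one (hQ : (polarBilin Q).Nondegenerate) (u : ι → F) (hu : Q u ≠ 0) :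
    ((((reflection Q u hu : ↥(isometryGroup F ⇑Q)) : Matrix.GeneralLinearGroup ι F) :
      Matrix ι ι F) - 1).rank = 1 := by
  have hu0 : u ≠ 0 := by
    rintro rfl
    exact hu (map_zero Q)
  rw [reflection_coe]
  unfold reflectionMatrix
  have : (1 : Matrix ι ι F) - (Q u)⁻¹ • vecMulVec u (polarVec ⇑Q u) - 1 =
      vecMulVec u ((-(Q u)⁻¹) • polarVec ⇑Q u) := by
    rw [Matrix.vecMulVec_smul, neg_smul]
    abel
  rw [this]
  apply RankOne.rank_vecMulVec _ _ hu0
  intro h0
  rcases smul_eq_zero.mp h0 with h | h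
  · exact inv_ne_zero hu (neg_eq_zero.mp h)
  · exact polarVec_ne_zero Q hQ u hu0 h

theorem reflE_conj (g : ↥(isometryGroup F ⇑Q)) (v : ι → F) :
    g * reflE Q v * g⁻¹ = reflE Q (act Q g v) := by
  by_cases hv : Q v ≠ 0
  · rw [reflE_of_ne Q v hv, reflE_of_ne Q (act Q g v) (by rw [quad_act]; exact hv),
      conj_reflection]
  · have hv' : ¬ Q (act Q g v) ≠ 0 := by rw [quad_act]; exact hv
    unfold reflE
    rw [dif_neg hv, dif_neg hv', mul_one, mul_inv_cancel]

theorem reflE_inv (v : ι → F) : (reflE Q v)⁻¹ = reflE Q v :=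
  inv_eq_of_mul_eq_one_left (reflE_mul_self Q v)

theorem act_reflE (v : ι → F) (hv : Q v ≠ 0) (x : ι → F) :
    act Q (reflE Q v) x = x - ((Q v)⁻¹ * polar ⇑Q v x) • v := by
  rw [reflE_of_ne Q v hv, act_reflection]

end general

section two
variable {ι : Type} [Fintype ι] [DecidableEq ι] (Q : QuadraticForm (ZMod 2) (ι → ZMod 2))

theorem zmod2_cases (a : ZMod 2) : a = 0 ∨ a = 1 := by
  revert a
  decide

theorem eq_one_of_ne_zero {a : ZMod 2} (h : a ≠ 0) : a = 1 :=
  (zmod2_cases a).resolve_left h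

/-- the orthogonal transvections -/
def D : Set ↥(isometryGroup (ZMod 2) ⇑Q) :=
  {g | (((g : Matrix.GeneralLinearGroup ι (ZMod 2)) : Matrix ι ι (ZMod 2)) - 1).rank = 1}

theorem mem_D_iff (hQ : (polarBilin Q).Nondegenerate) (g : ↥(isometryGroup (ZMod 2) ⇑Q)) :
    g ∈ D Q ↔ ∃ u : ι → ZMod 2, Q u = 1 ∧ g = reflE Q u := by
  constructor
  · intro h
    obtain ⟨u, hu, hg⟩ := eq_reflection_of_rank_one Q hQ g h
    exact ⟨u, eq_one_of_ne_zero hu, by rw [hg, reflE_of_ne Q u hu]⟩
  · rintro ⟨u, hu, rfl⟩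
    have hu' : Q u ≠ 0 := by rw [hu]; exact one_ne_zero
    rw [reflE_of_ne Q u hu']
    exact reflection_mem_rank_one Q hQ u hu'

theorem reflE_ne_one (hQ : (polarBilin Q).Nondegenerate) (u : ι → ZMod 2) (hu : Q u = 1) :
    reflE Q u ≠ 1 := by
  intro h
  have h1 : reflE Q u ∈ D Q := (mem_D_iff Q hQ _).mpr ⟨u, hu, rfl⟩
  rw [h] at h1
  have h2 : (((1 : ↥(isometryGroup (ZMod 2) ⇑Q)) : Matrix.GeneralLinearGroup ι (ZMod 2)) :
      Matrix ι ι (ZMod 2)) = 1 := rfl
  have h3 : ((((1 : ↥(isometryGroup (ZMod 2) ⇑Q)) : Matrix.GeneralLinearGroup ι (ZMod 2)) :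
      Matrix ι ι (ZMod 2)) - 1).rank = 1 := h1
  rw [h2, sub_self, Matrix.rank_zero] at h3
  exact zero_ne_one h3

theorem conj_reflE' (u w : ι → ZMod 2) (hu : Q u = 1) :
    reflE Q u * reflE Q w * reflE Q u = reflE Q (w + polar ⇑Q u w • u) := by
  have h := reflE_conj Q (reflE Q u) w
  have hu' : Q u ≠ 0 := by rw [hu]; exact one_ne_zero
  rw [reflE_inv, act_reflE Q u hu', hu, inv_one, one_mul] at h
  rw [h]
  congr 1
  rw [sub_eq_add_neg, ← neg_smul]
  congr 2
  generalize polar ⇑Q u w = a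
  revert a
  decide

theorem isThreeTranspositionSet (hQ : (polarBilin Q).Nondegenerate) :
    IsThreeTranspositionSet (D Q) := by
  have : Fact (Nat.Prime 2) := ⟨Nat.prime_two⟩
  constructor
  · intro d hd
    obtain ⟨u, hu, rfl⟩ := (mem_D_iff Q hQ d).mp hd
    apply orderOf_eq_prime
    · rw [_root_.sq, reflE_mul_self]
    · exact reflE_ne_one Q hQ u hu
  · intro d hd e he
    obtain ⟨u, hu, rfl⟩ := (mem_D_iff Q hQ d).mp hd
    obtain ⟨w, hw, rfl⟩ := (mem_D_iff Q hQ e).mp he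
    rcases zmod2_cases (polar ⇑Q u w) with h0 | h1
    · left
      have h := conj_reflE' Q u w hu
      rw [h0, zero_smul, add_zero] at h
      rw [_root_.sq]
      calc reflE Q u * reflE Q w * (reflE Q u * reflE Q w)
          = (reflE Q u * reflE Q w * reflE Q u) * reflE Q w := by group
        _ = 1 := by rw [h, reflE_mul_self]
    · right
      have h := conj_reflE' Q u w hu
      rw [h1, one_smul] at h
      have h' := conj_reflE' Q w u hw
      rw [polar_comm, h1, one_smul, add_comm] at h'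
      calc (reflE Q u * reflE Q w) ^ 3
          = (reflE Q u * reflE Q w * reflE Q u) * (reflE Q w * reflE Q u * reflE Q w) := by
            rw [pow_succ, pow_succ, pow_one]
            simp only [mul_assoc]
        _ = 1 := by rw [h, h', reflE_mul_self]

theorem closure_D (hQ : (polarBilin Q).Nondegenerate) (h4 : Fintype.card ι ≠ 4) :
    Subgroup.closure (D Q) = ⊤ := by
  rw [eq_top_iff, ← ReflGenMat.reflSubgroup_eq_top Q hQ (fun h => absurd h h4)]
  unfold reflSubgroup
  apply Subgroup.closure_mono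
  rintro g ⟨v, hv, hg⟩
  have : g = reflection Q v hv := by
    apply Subtype.ext
    apply Units.ext
    rw [hg]
    rfl
  rw [this]
  exact reflection_mem_rank_one Q hQ v hv

theorem isThreeTranspositionClass (hQ : (polarBilin Q).Nondegenerate)
    (h4 : Fintype.card ι ≠ 4) (h2 : 2 ≤ Fintype.card ι) : IsThreeTranspositionClass (D Q) := by
  refine ⟨isThreeTranspositionSet Q hQ, ?_, closure_D Q hQ h4⟩
  obtain ⟨e0, he0⟩ := exists_quad_eq Q hQ h2 1 one_ne_zero
  refine ⟨reflE Q e0, (mem_D_iff Q hQ _).mpr ⟨e0, he0, rfl⟩, ?_⟩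
  ext g
  constructor
  · intro hg
    obtain ⟨u, hu, rfl⟩ := (mem_D_iff Q hQ g).mp hg
    have he0' : Q e0 ≠ 0 := by rw [he0]; exact one_ne_zero
    obtain ⟨A, hA⟩ := exists_isom_vec Q hQ e0 u he0' (by rw [he0, hu])
    show IsConj (reflE Q e0) (reflE Q u)
    rw [isConj_iff]
    exact ⟨A, by rw [reflE_conj, hA]⟩
  · intro hg
    have hg' : IsConj (reflE Q e0) g := hg
    rw [isConj_iff] at hg'
    obtain ⟨c, hc⟩ := hg'
    rw [reflE_conj] at hc
    rw [← hc]
    exact (mem_D_iff Q hQ _).mpr ⟨_, by rw [quad_act]; exact he0, rfl⟩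

end two

end Cfsg.Agent.Lib.Helper5.ThreeTransOrth
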