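import Mathlib
import Cfsg.Prelude
import Cfsg.Agent.Lib.Helper5.RankOne
import Cfsg.Agent.Lib.Helper5.SympPerfect
import Cfsg.Agent.Lib.Helper5.SympBridge

set_option autoImplicit false
open Cfsg

/-! Symplectic transvections over the field with two elements form a class of 3-transpositions. -/

namespace Cfsg.Agent.Lib.Helper5.ThreeTransSp

open Matrix Cfsg.Agent.Lib.Helper5.SympTv Cfsg.Agent.Lib.Helper5.SympGen
  Cfsg.Agent.Lib.Helper5.SympPerfect Cfsg.Agent.Lib.Helper5.SympBridge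
  Cfsg.Agent.Lib.Helper5.RankOne

section general
variable {F : Type*} [Field F] (m : ℕ)

/-- a symplectic matrix `g` with `g - 1` of rank one is a transvection -/
theorem eq_tv_of_rank_one (g : symplecticGroup (Fin m) F)
    (h : ((g : Matrix (Fin m ⊕ Fin m) (Fin m ⊕ Fin m) F) - 1).rank = 1) :
    ∃ (u : Fin m ⊕ Fin m → F) (c : F), u ≠ 0 ∧ c ≠ 0 ∧ g = tv m u c := by
  obtain ⟨u, φ, hu, hφ, hA⟩ := exists_vecMulVec_of_rank_eq_one _ h
  have hg : (g : Matrix (Fin m ⊕ Fin m) (Fin m ⊕ Fin m) F) = 1 + Matrix.vecMulVec u φ := by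
    rw [← hA]
    abel
  have hgx : ∀ x, (g : Matrix (Fin m ⊕ Fin m) (Fin m ⊕ Fin m) F) *ᵥ x = x + (φ ⬝ᵥ x) • u := by
    intro x
    rw [hg, one_add_vecMulVec_mulVec]
  have key : ∀ x y, (φ ⬝ᵥ y) * sympForm m F x u = (φ ⬝ᵥ x) * sympForm m F y u := by
    intro x y
    have h1 := sympForm_mulVec m g.2 x y
    rw [hgx, hgx, sympForm_add_left, sympForm_add_right, sympForm_add_right, sympForm_smul_left,
      sympForm_smul_right, sympForm_smul_left, sympForm_smul_right, sympForm_self, mul_zero,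
      mul_zero, add_zero, sympForm_swap m u y] at h1
    linear_combination h1
  obtain ⟨j, hj⟩ : ∃ j, φ j ≠ 0 := by
    by_contra hcon
    push Not at hcon
    exact hφ (funext hcon)
  have hb : φ ⬝ᵥ (Pi.single j 1) = φ j := by
    rw [dotProduct_single, mul_one]
  set y0 : Fin m ⊕ Fin m → F := Pi.single j 1 with hy0
  have hk : sympForm m F y0 u ≠ 0 := by
    intro h0
    apply hu
    apply eq_zero_of_sympForm_right m u
    intro v
    have := key v y0
    rw [hb, h0, mul_zero] at this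
    rcases mul_eq_zero.mp this with h | h
    · exact absurd h hj
    · rw [sympForm_swap, h, neg_zero]
  refine ⟨u, φ j / sympForm m F y0 u, hu, div_ne_zero hj hk, ?_⟩
  apply Subtype.ext
  rw [tv_coe, ext_iff_mulVec]
  intro x
  rw [hgx, sympTransvection_mulVec]
  congr 2
  have := key x y0
  rw [hb] at this
  field_simp
  linear_combination -this

theorem tv_mem_rank_one (u : Fin m ⊕ Fin m → F) (c : F) (hu : u ≠ 0) (hc : c ≠ 0) :
    (((tv m u c : symplecticGroup (Fin m) F) : Matrix (Fin m ⊕ Fin m) (Fin m ⊕ Fin m) F) - 1).rank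
      = 1 := by
  rw [tv_coe]
  unfold sympTransvection
  rw [add_sub_cancel_left, ← Matrix.vecMulVec_smul]
  apply RankOne.rank_vecMulVec
  · exact hu
  · intro h0
    have h0' : J (Fin m) F *ᵥ u = 0 := by
      rcases smul_eq_zero.mp h0 with h | h
      · exact absurd h hc
      · exact h
    replace h0 := h0'
    apply hu
    apply eq_zero_of_sympForm_right m u
    intro v
    rw [sympForm_swap]
    unfold sympForm
    rw [h0, dotProduct_zero, neg_zero]

theorem inv_mulVec_mulVec (g : symplecticGroup (Fin m) F) (v : Fin m ⊕ Fin m → F) :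
    (g⁻¹).1 *ᵥ (g.1 *ᵥ v) = v := by
  rw [Matrix.mulVec_mulVec]
  have : (g⁻¹).1 * g.1 = ((g⁻¹ * g : symplecticGroup (Fin m) F) : Matrix _ _ F) := rfl
  rw [this, inv_mul_cancel]
  exact Matrix.one_mulVec v

theorem mulVec_ne_zero (g : symplecticGroup (Fin m) F) (v : Fin m ⊕ Fin m → F) (hv : v ≠ 0) :
    g.1 *ᵥ v ≠ 0 := by
  intro h
  apply hv
  rw [← inv_mulVec_mulVec m g v, h, Matrix.mulVec_zero]

end general

section two
variable (n : ℕ)

theorem zmod2_cases (a : ZMod 2) : a = 0 ∨ a = 1 := by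
  revert a
  decide

theorem neg_one_eq : (-1 : ZMod 2) = 1 := by decide

/-- the transvections -/
def D : Set (symplecticGroup (Fin n) (ZMod 2)) :=
  {g | ((g : Matrix (Fin n ⊕ Fin n) (Fin n ⊕ Fin n) (ZMod 2)) - 1).rank = 1}

theorem mem_D_iff (g : symplecticGroup (Fin n) (ZMod 2)) :
    g ∈ D n ↔ ∃ u : Fin n ⊕ Fin n → ZMod 2, u ≠ 0 ∧ g = tv n u 1 := by
  constructor
  · intro h
    obtain ⟨u, c, hu, hc, hg⟩ := eq_tv_of_rank_one n g h
    rcases zmod2_cases c with h0 | h1
    · exact absurd h0 hc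
    · exact ⟨u, hu, by rw [hg, h1]⟩
  · rintro ⟨u, hu, rfl⟩
    exact tv_mem_rank_one n u 1 hu one_ne_zero

theorem tv_sq (u : Fin n ⊕ Fin n → ZMod 2) : tv n u 1 * tv n u 1 = 1 := by
  rw [tv_mul]
  have : (1 : ZMod 2) + 1 = 0 := by decide
  rw [this, tv_zero]

theorem tv_inv (u : Fin n ⊕ Fin n → ZMod 2) : (tv n u 1)⁻¹ = tv n u 1 :=
  inv_eq_of_mul_eq_one_left (tv_sq n u)

theorem tv_ne_one (u : Fin n ⊕ Fin n → ZMod 2) (hu : u ≠ 0) : tv n u 1 ≠ 1 := by
  intro h
  have h1 := tv_mem_rank_one n u (1 : ZMod 2) hu one_ne_zero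
  rw [h] at h1
  have : ((1 : symplecticGroup (Fin n) (ZMod 2)) : Matrix (Fin n ⊕ Fin n) (Fin n ⊕ Fin n) (ZMod 2))
      = 1 := rfl
  rw [this, sub_self, Matrix.rank_zero] at h1
  exact zero_ne_one h1

theorem conj_tv' (u w : Fin n ⊕ Fin n → ZMod 2) :
    tv n u 1 * tv n w 1 * tv n u 1 = tv n (w + sympForm n (ZMod 2) w u • u) 1 := by
  have h := conj_tv n (tv n u 1) w 1
  rw [tv_inv, tv_coe, sympTransvection_mulVec, one_mul] at h
  exact h

theorem isThreeTranspositionSet : IsThreeTranspositionSet (D n) := by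
  have : Fact (Nat.Prime 2) := ⟨Nat.prime_two⟩
  constructor
  · intro d hd
    obtain ⟨u, hu, rfl⟩ := (mem_D_iff n d).mp hd
    apply orderOf_eq_prime
    · rw [sq, tv_sq]
    · exact tv_ne_one n u hu
  · intro d hd e he
    obtain ⟨u, hu, rfl⟩ := (mem_D_iff n d).mp hd
    obtain ⟨w, hw, rfl⟩ := (mem_D_iff n e).mp he
    rcases zmod2_cases (sympForm n (ZMod 2) w u) with h0 | h1
    · left
      have h := conj_tv' n u w
      rw [h0, zero_smul, add_zero] at h
      rw [sq]
      calc tv n u 1 * tv n w 1 * (tv n u 1 * tv n w 1)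
          = (tv n u 1 * tv n w 1 * tv n u 1) * tv n w 1 := by group
        _ = 1 := by rw [h, tv_sq]
    · right
      have h := conj_tv' n u w
      rw [h1, one_smul] at h
      have h' := conj_tv' n w u
      have h2 : sympForm n (ZMod 2) u w = 1 := by
        rw [sympForm_swap, h1]
        exact neg_one_eq
      rw [h2, one_smul, add_comm] at h'
      calc (tv n u 1 * tv n w 1) ^ 3
          = (tv n u 1 * tv n w 1 * tv n u 1) * (tv n w 1 * tv n u 1 * tv n w 1) := by
            rw [pow_succ, pow_succ, pow_one]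
            simp only [mul_assoc]
        _ = 1 := by rw [h, h', tv_sq]

theorem closure_D : Subgroup.closure (D n) = ⊤ := by
  rw [eq_top_iff, ← closure_tvSet_eq_top n]
  apply (Subgroup.closure_le _).mpr
  rintro A ⟨w, c, hA⟩
  have hA' : A = tv n w c := Subtype.ext hA
  rw [hA']
  rcases zmod2_cases c with rfl | rfl
  · rw [tv_zero]
    exact one_mem _
  · by_cases hw : w = 0
    · rw [hw, tv_zero_vec]
      exact one_mem _
    · exact Subgroup.subset_closure ((mem_D_iff n _).mpr ⟨w, hw, rfl⟩)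

theorem isThreeTranspositionClass (hn : 1 ≤ n) : IsThreeTranspositionClass (D n) := by
  refine ⟨isThreeTranspositionSet n, ?_, closure_D n⟩
  set e0 : Fin n ⊕ Fin n → ZMod 2 := Pi.single (Sum.inl ⟨0, hn⟩) 1 with he0
  have he0ne : e0 ≠ 0 := by
    intro h
    have := congrFun h (Sum.inl ⟨0, hn⟩)
    rw [he0, Pi.single_eq_same, Pi.zero_apply] at this
    exact one_ne_zero this
  refine ⟨tv n e0 1, (mem_D_iff n _).mpr ⟨e0, he0ne, rfl⟩, ?_⟩
  ext g
  constructor
  · intro hg
    obtain ⟨u, hu, rfl⟩ := (mem_D_iff n g).mp hg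
    obtain ⟨A, hA⟩ := exists_move n e0 u he0ne hu
    show IsConj (tv n e0 1) (tv n u 1)
    rw [isConj_iff]
    exact ⟨A, by rw [conj_tv, hA]⟩
  · intro hg
    have hg' : IsConj (tv n e0 1) g := hg
    rw [isConj_iff] at hg'
    obtain ⟨c, hc⟩ := hg'
    rw [conj_tv] at hc
    rw [← hc]
    exact (mem_D_iff n _).mpr ⟨_, mulVec_ne_zero n c e0 he0ne, rfl⟩

end two

end Cfsg.Agent.Lib.Helper5.ThreeTransSp
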