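import Mathlib
import Cfsg.Prelude.Def_Transfer
import Cfsg.Agent.Lib.Helper6.TvB
import Cfsg.Agent.Lib.Helper7.Ix13B3

/-! # Local structure `N(T) = S₃ × S₃` (second farm-out piece of S3805) -/

set_option autoImplicit false

namespace Cfsg.Agent.Lib.Helper5.TvLoc

open Cfsg.Agent.Lib.Helper7

variable {G : Type*} [Group G]

/-- conjugation by `t` written out, for an element with `t * t = 1` -/
lemma inv_of_sq {t : G} (h : t * t = 1) : t⁻¹ = t := inv_eq_of_mul_eq_one_right h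

/-- a subset of a group contained in `{1, z}` has at most two elements -/
lemma exists_ne_of_card (U : Subgroup G) (hU : Nat.card U = 4) (z : G) :
    ∃ t ∈ U, t ≠ 1 ∧ t ≠ z := by
  classical
  by_contra h
  push Not at h
  have hsub : (U : Set G) ⊆ ({1, z} : Set G) := by
    intro t ht
    by_cases h1 : t = 1
    · left; exact h1
    · right; exact h t ht h1
  have h1 : (U : Set G).ncard ≤ ({1, z} : Set G).ncard :=
    Set.ncard_le_ncard hsub (Set.toFinite _)
  have h2 : ({1, z} : Set G).ncard ≤ 2 := by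
    have := Set.ncard_insert_le (1 : G) ({z} : Set G)
    rw [Set.ncard_singleton] at this
    exact this
  have h3 : (U : Set G).ncard = 4 := by
    rw [← hU]; exact (Nat.card_coe_set_eq (U : Set G)).symm
  omega

/-- four distinct elements of a subgroup of order four exhaust it -/
lemma mem_four (U : Subgroup G) (hU : Nat.card U = 4) {p q r : G}
    (hp : p ∈ U) (hq : q ∈ U) (hr : r ∈ U)
    (hp1 : p ≠ 1) (hq1 : q ≠ 1) (hr1 : r ≠ 1) (hpq : p ≠ q) (hpr : p ≠ r) (hqr : q ≠ r)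
    {u : G} (hu : u ∈ U) : u = 1 ∨ u = p ∨ u = q ∨ u = r := by
  classical
  have : Finite U := Nat.finite_of_card_ne_zero (by rw [hU]; norm_num)
  let S : Finset G := {1, p, q, r}
  have hS : S.card = 4 := by
    have h1 : (1 : G) ∉ ({p, q, r} : Finset G) := by
      simp only [Finset.mem_insert, Finset.mem_singleton, not_or]
      exact ⟨fun h => hp1 h.symm, fun h => hq1 h.symm, fun h => hr1 h.symm⟩
    have h2 : p ∉ ({q, r} : Finset G) := by
      simp only [Finset.mem_insert, Finset.mem_singleton, not_or]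
      exact ⟨hpq, hpr⟩
    have h3 : q ∉ ({r} : Finset G) := by
      simp only [Finset.mem_singleton]
      exact hqr
    show (insert 1 (insert p (insert q ({r} : Finset G)))).card = 4
    rw [Finset.card_insert_of_notMem h1, Finset.card_insert_of_notMem h2,
      Finset.card_insert_of_notMem h3, Finset.card_singleton]
  have hsub : (S : Set G) ⊆ (U : Set G) := by
    intro x hx
    have hx' : x ∈ S := hx
    simp only [S, Finset.mem_insert, Finset.mem_singleton] at hx'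
    rcases hx' with rfl | rfl | rfl | rfl
    · exact U.one_mem
    · exact hp
    · exact hq
    · exact hr
  have hle : (U : Set G).ncard ≤ (S : Set G).ncard := by
    rw [Set.ncard_coe_finset, hS, ← hU]
    exact (Nat.card_coe_set_eq (U : Set G)).symm.le
  have heq : (S : Set G) = (U : Set G) :=
    Set.eq_of_subset_of_ncard_le hsub hle (Set.toFinite _)
  have hu' : u ∈ (S : Set G) := by rw [heq]; exact hu
  have hu'' : u ∈ S := hu'
  simpa only [S, Finset.mem_insert, Finset.mem_singleton] using hu''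

theorem exists_loc {G : Type*} [Group G] [Finite G]
    (T : Sylow 3 G) (hT : Cfsg.IsElementaryAbelian 3 (T : Subgroup G)) (hcard : Nat.card T = 9)
    (hC : Subgroup.centralizer ((T : Subgroup G) : Set G) = T)
    [hn : ((T : Subgroup G).subgroupOf (Subgroup.normalizer ((T : Subgroup G) : Set G))).Normal]
    (hK : IsKleinFour (↥(Subgroup.normalizer ((T : Subgroup G) : Set G)) ⧸
      (T : Subgroup G).subgroupOf (Subgroup.normalizer ((T : Subgroup G) : Set G)))) :
    ∃ a b t₁ t₂ : G, Cfsg.Agent.Lib.Helper6.Tv.Loc T a b t₁ t₂ := by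
  classical
  have hDN : (T : Subgroup G) ≤ Subgroup.normalizer ((T : Subgroup G) : Set G) :=
    Subgroup.le_normalizer
  have hexp : ∀ d ∈ (T : Subgroup G), d ^ 3 = 1 := hT.2
  have hcomm : ∀ x ∈ (T : Subgroup G), ∀ y ∈ (T : Subgroup G), x * y = y * x :=
    Ix13B3.comm_of_card (T : Subgroup G) hcard
  -- (0) |N| = 36
  have hcardT' : Nat.card ((T : Subgroup G).subgroupOf
      (Subgroup.normalizer ((T : Subgroup G) : Set G))) = 9 := by
    rw [← hcard]
    exact Nat.card_congr (Subgroup.subgroupOfEquivOfLe hDN).toEquiv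
  have hcardN : Nat.card (Subgroup.normalizer ((T : Subgroup G) : Set G)) = 36 := by
    rw [Subgroup.card_eq_card_quotient_mul_card_subgroup ((T : Subgroup G).subgroupOf
      (Subgroup.normalizer ((T : Subgroup G) : Set G))), hcardT', hK.card_four]
  -- (1) a subgroup U of order 4 inside N
  have : Fact (Nat.Prime 2) := ⟨Nat.prime_two⟩
  obtain ⟨U0, hU0⟩ := Sylow.exists_subgroup_card_pow_prime (G :=
    ↥(Subgroup.normalizer ((T : Subgroup G) : Set G))) 2 (n := 2)
      (by rw [hcardN]; norm_num)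
  set U : Subgroup G := U0.map (Subgroup.normalizer ((T : Subgroup G) : Set G)).subtype with hUdef
  have hU : Nat.card U = 4 := by
    rw [hUdef, Subgroup.card_map_of_injective
      (Subgroup.subtype_injective _), hU0]; norm_num
  have hUN : U ≤ Subgroup.normalizer ((T : Subgroup G) : Set G) := by
    rw [hUdef]; exact Subgroup.map_subtype_le U0
  have hUT : U ⊓ (T : Subgroup G) = ⊥ :=
    (Subgroup.disjoint_of_coprime_natCard (by rw [hU, hcard]; norm_num)).eq_bot
  have hUT1 : ∀ u : G, u ∈ U → u ∈ (T : Subgroup G) → u = 1 := by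
    intro u hu1 hu2
    have : u ∈ U ⊓ (T : Subgroup G) := ⟨hu1, hu2⟩
    rw [hUT] at this
    exact Subgroup.mem_bot.mp this
  -- (2) U has exponent 2
  have hsq : ∀ u ∈ U, u * u = 1 := by
    intro u hu
    apply hUT1 _ (U.mul_mem hu hu)
    have huN : u ∈ Subgroup.normalizer ((T : Subgroup G) : Set G) := hUN hu
    have h2 : ((⟨u, huN⟩ : ↥(Subgroup.normalizer ((T : Subgroup G) : Set G))) :
        ↥(Subgroup.normalizer ((T : Subgroup G) : Set G)) ⧸
      (T : Subgroup G).subgroupOf (Subgroup.normalizer ((T : Subgroup G) : Set G))) ^ 2 = 1 := by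
      have := Monoid.pow_exponent_eq_one ((⟨u, huN⟩ :
        ↥(Subgroup.normalizer ((T : Subgroup G) : Set G))) :
        ↥(Subgroup.normalizer ((T : Subgroup G) : Set G)) ⧸
        (T : Subgroup G).subgroupOf (Subgroup.normalizer ((T : Subgroup G) : Set G)))
      rwa [hK.exponent_two] at this
    rw [← QuotientGroup.mk_pow, QuotientGroup.eq_one_iff, Subgroup.mem_subgroupOf] at h2
    simpa [pow_two] using h2
  have hUcomm : ∀ x ∈ U, ∀ y ∈ U, x * y = y * x := by
    intro x hx y hy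
    have h1 := hsq x hx
    have h2 := hsq y hy
    have h3 := hsq (x * y) (U.mul_mem hx hy)
    calc x * y = (x * y)⁻¹ := (inv_of_sq h3).symm
      _ = y⁻¹ * x⁻¹ := mul_inv_rev x y
      _ = y * x := by rw [inv_of_sq h1, inv_of_sq h2]
  -- (3) the inverting element z
  obtain ⟨z, hzU, hz⟩ := Ix13B3.exists_inverting (T : Subgroup G) U hcard hexp hC hUN hU
  have hzz : z * z = 1 := hsq z hzU
  -- (4) t₁
  obtain ⟨t₁, ht₁U, ht₁1, ht₁z⟩ := exists_ne_of_card U hU z
  have ht₁N : t₁ ∈ Subgroup.normalizer ((T : Subgroup G) : Set G) := hUN ht₁U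
  have ht₁ : t₁ * t₁ = 1 := hsq t₁ ht₁U
  have ht₁i : t₁⁻¹ = t₁ := inv_of_sq ht₁
  have hzi : z⁻¹ = z := inv_of_sq hzz
  have hconjmem : ∀ x ∈ (T : Subgroup G), t₁ * x * t₁⁻¹ ∈ (T : Subgroup G) := by
    intro x hx
    exact (Subgroup.mem_normalizer_iff.mp ht₁N x).mp hx
  -- t₁ does not centralize T
  have hncent : ∃ y ∈ (T : Subgroup G), t₁ * y * t₁⁻¹ ≠ y := by
    by_contra h
    push Not at h
    apply ht₁1
    apply hUT1 t₁ ht₁U
    rw [← hC, Subgroup.mem_centralizer_iff]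
    intro y hy
    have := h y hy
    rw [mul_inv_eq_iff_eq_mul] at this
    exact this.symm
  -- t₁ does not invert T
  have hninv : ∃ x ∈ (T : Subgroup G), t₁ * x * t₁⁻¹ ≠ x⁻¹ := by
    by_contra h
    push Not at h
    apply ht₁z
    have hmem : t₁ * z ∈ (T : Subgroup G) := by
      rw [← hC, Subgroup.mem_centralizer_iff]
      intro y hy
      have h1 := hz y hy
      have h2 := h y⁻¹ ((T : Subgroup G).inv_mem hy)
      rw [inv_inv] at h2
      have h3 : t₁ * z * y * (t₁ * z)⁻¹ = y := by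
        calc t₁ * z * y * (t₁ * z)⁻¹ = t₁ * (z * y * z⁻¹) * t₁⁻¹ := by group
          _ = y := by rw [h1, h2]
      rw [mul_inv_eq_iff_eq_mul] at h3
      exact h3.symm
    have h1 := hUT1 (t₁ * z) (U.mul_mem ht₁U hzU) hmem
    calc t₁ = t₁ * z * z⁻¹ := by group
      _ = z := by rw [h1, hzi, one_mul]
  obtain ⟨x, hxT, hx⟩ := hninv
  obtain ⟨y, hyT, hy⟩ := hncent
  -- (5) a and b
  have hx' : t₁ * x * t₁⁻¹ ∈ (T : Subgroup G) := hconjmem x hxT
  have hy' : t₁ * y * t₁⁻¹ ∈ (T : Subgroup G) := hconjmem y hyT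
  set a : G := x * (t₁ * x * t₁⁻¹) with hadef
  set b : G := y * (t₁ * y * t₁⁻¹)⁻¹ with hbdef
  have haT : a ∈ (T : Subgroup G) := (T : Subgroup G).mul_mem hxT hx'
  have hbT : b ∈ (T : Subgroup G) :=
    (T : Subgroup G).mul_mem hyT ((T : Subgroup G).inv_mem hy')
  have ha1 : a ≠ 1 := by
    intro h
    apply hx
    exact (eq_inv_of_mul_eq_one_right h)
  have hb1 : b ≠ 1 := by
    intro h
    apply hy
    have := eq_inv_of_mul_eq_one_right h
    exact inv_injective this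
  have h₁a' : t₁ * a * t₁⁻¹ = a := by
    have : t₁ * a * t₁⁻¹ = (t₁ * x * t₁⁻¹) * x := by
      rw [hadef]
      calc t₁ * (x * (t₁ * x * t₁⁻¹)) * t₁⁻¹
          = (t₁ * x * t₁⁻¹) * (t₁ * t₁) * x * (t₁ * t₁)⁻¹ := by group
        _ = (t₁ * x * t₁⁻¹) * x := by rw [ht₁]; group
    rw [this, hadef]
    exact hcomm _ hx' _ hxT
  have h₁a : t₁ * a = a * t₁ := by
    have := h₁a'
    rw [mul_inv_eq_iff_eq_mul] at this
    exact this
  have h₁b : t₁ * b * t₁⁻¹ = b⁻¹ := by
    have h1 : t₁ * b * t₁⁻¹ = (t₁ * y * t₁⁻¹) * y⁻¹ := by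
      rw [hbdef]
      calc t₁ * (y * (t₁ * y * t₁⁻¹)⁻¹) * t₁⁻¹
          = t₁ * y * t₁⁻¹ * (t₁ * t₁) * y⁻¹ * (t₁ * t₁)⁻¹ := by group
        _ = (t₁ * y * t₁⁻¹) * y⁻¹ := by rw [ht₁]; group
    have h2 : b⁻¹ = (t₁ * y * t₁⁻¹) * y⁻¹ := by
      rw [hbdef]; group
    rw [h1, h2]
  have hba : b ≠ a := by
    intro h
    apply hb1
    apply Ix13B3.eq_one_of_inv_eq hexp hbT
    rw [← h₁b, h, h₁a']
  have hba' : b ≠ a⁻¹ := by
    intro h
    apply hb1
    apply Ix13B3.eq_one_of_inv_eq hexp hbT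
    have : t₁ * b * t₁⁻¹ = b := by
      rw [h]
      calc t₁ * a⁻¹ * t₁⁻¹ = (t₁ * a * t₁⁻¹)⁻¹ := by group
        _ = a⁻¹ := by rw [h₁a']
    rw [← h₁b, this]
  -- (6) t₂
  set t₂ : G := t₁ * z with ht₂def
  have ht₂U : t₂ ∈ U := U.mul_mem ht₁U hzU
  have ht₂N : t₂ ∈ Subgroup.normalizer ((T : Subgroup G) : Set G) := hUN ht₂U
  have ht₂ : t₂ * t₂ = 1 := hsq t₂ ht₂U
  have h₁₂ : t₁ * t₂ = t₂ * t₁ := hUcomm t₁ ht₁U t₂ ht₂U
  have h12z : t₁ * t₂ = z := by
    rw [ht₂def, ← mul_assoc, ht₁, one_mul]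
  have h₂a : t₂ * a * t₂⁻¹ = a⁻¹ := by
    calc t₂ * a * t₂⁻¹ = t₁ * (z * a * z⁻¹) * t₁⁻¹ := by rw [ht₂def]; group
      _ = (t₁ * a * t₁⁻¹)⁻¹ := by rw [hz a haT]; group
      _ = a⁻¹ := by rw [h₁a']
  have h₂b' : t₂ * b * t₂⁻¹ = b := by
    calc t₂ * b * t₂⁻¹ = t₁ * (z * b * z⁻¹) * t₁⁻¹ := by rw [ht₂def]; group
      _ = (t₁ * b * t₁⁻¹)⁻¹ := by rw [hz b hbT]; group
      _ = b := by rw [h₁b, inv_inv]
  have h₂b : t₂ * b = b * t₂ := by
    have := h₂b'
    rw [mul_inv_eq_iff_eq_mul] at this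
    exact this
  -- the four elements of U
  have ht₂1 : t₂ ≠ 1 := by
    intro h
    apply ht₁z
    calc t₁ = t₁ * z * z⁻¹ := by group
      _ = z := by rw [← ht₂def, h, hzi, one_mul]
  have hz1 : z ≠ 1 := by
    intro h
    apply ha1
    apply Ix13B3.eq_one_of_inv_eq hexp haT
    have := hz a haT
    rw [h] at this
    simpa using this
  have h12 : t₁ ≠ t₂ := by
    intro h
    apply hz1
    calc z = t₁⁻¹ * (t₁ * z) := by group
      _ = 1 := by rw [← ht₂def, ← h]; group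
  have h1z : t₁ ≠ z := ht₁z
  have h2z : t₂ ≠ z := by
    intro h
    apply ht₁1
    calc t₁ = t₁ * z * z⁻¹ := by group
      _ = 1 := by rw [← ht₂def, h]; group
  -- (7) N = T U
  have hinj : Function.Injective (fun p : ↥(T : Subgroup G) × ↥U =>
      (⟨(p.1 : G) * (p.2 : G), (Subgroup.normalizer ((T : Subgroup G) : Set G)).mul_mem
        (hDN p.1.2) (hUN p.2.2)⟩ : ↥(Subgroup.normalizer ((T : Subgroup G) : Set G)))) := by
    rintro ⟨⟨s, hs⟩, ⟨u, hu⟩⟩ ⟨⟨s', hs'⟩, ⟨u', hu'⟩⟩ h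
    have h' : s * u = s' * u' := congrArg Subtype.val h
    have h1 : u * u'⁻¹ = s⁻¹ * s' := by
      calc u * u'⁻¹ = s⁻¹ * (s * u) * u'⁻¹ := by group
        _ = s⁻¹ * s' := by rw [h']; group
    have h2 : u * u'⁻¹ = 1 := by
      apply hUT1 _ (U.mul_mem hu (U.inv_mem hu'))
      rw [h1]
      exact (T : Subgroup G).mul_mem ((T : Subgroup G).inv_mem hs) hs'
    have hu_eq : u = u' := by
      calc u = u * u'⁻¹ * u' := by group
        _ = u' := by rw [h2, one_mul]
    have hs_eq : s = s' := by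
      rw [hu_eq] at h'
      exact mul_right_cancel h'
    subst hu_eq; subst hs_eq; rfl
  have hbij := Function.Injective.bijective_of_nat_card_le hinj (by
    rw [Nat.card_prod, hcard, hU, hcardN])
  refine ⟨a, b, t₁, t₂, ⟨haT, hbT, ha1, hb1, hba, hba', ht₁N, ht₂N, ht₁, ht₂, h₁₂, h₁a, h₁b,
    h₂a, h₂b, ?_, hcardN⟩⟩
  intro n hn
  obtain ⟨⟨⟨s, hs⟩, ⟨u, hu⟩⟩, hsu⟩ := hbij.2 ⟨n, hn⟩
  have hsu' : s * u = n := congrArg Subtype.val hsu
  refine ⟨s, hs, ?_⟩
  rcases mem_four U hU ht₁U ht₂U hzU ht₁1 ht₂1 hz1 h12 h1z h2z hu with h | h | h | h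
  · left; rw [← hsu', h, mul_one]
  · right; left; rw [← hsu', h]
  · right; right; left; rw [← hsu', h]
  · right; right; right; rw [← hsu', h, h12z]

end Cfsg.Agent.Lib.Helper5.TvLoc
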