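import Mathlib
import Cfsg.Prelude.Def_LieTwisted
import Cfsg.Agent.Lib.Helper5.Tw2E6BN
import Cfsg.Agent.Lib.Helper5.ChevTwistWeyl
import Cfsg.Agent.Lib.Helper5.ChevWCard

set_option autoImplicit false

/-!
The Weyl group of `²E₆(q)` is the Coxeter group of type `F₄`.
-/

namespace Cfsg.Agent.Lib.Helper5.Tw2E6

open Cfsg Cfsg.Lie Cfsg.Agent.Lib.Helper5.ChevSym Cfsg.Agent.Lib.Helper5.ChevStruct

/-- the orbits in the order of the nodes of the diagram `F₄` -/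
def gen6 : Fin 4 → List ℕ := ![[1], [3], [2, 4], [0, 5]]

theorem gen6_mem : ∀ i, gen6 i ∈ orbits := by decide

theorem gen6_surj : ∀ O ∈ orbits, ∃ i, gen6 i = O := by decide

set_option maxRecDepth 1000000 in
theorem gen6_rel_aux : ∀ i j : Fin 4, ∀ r < 72,
    wAct chevE6 (wpow (gen6 i ++ gen6 j) ((CoxeterMatrix.F₄ : CoxeterMatrix (Fin 4)).M i j)) r = r := by
  decide +kernel

theorem gen6_rel (i j : Fin 4) : (wPerm chevE6 hE6 (gen6 i) * wPerm chevE6 hE6 (gen6 j)) ^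
    ((CoxeterMatrix.F₄ : CoxeterMatrix (Fin 4)) i j) = 1 := by
  have hi : Wd chevE6 (gen6 i) := orbsOK6.wd _ (gen6_mem i)
  have hj : Wd chevE6 (gen6 j) := orbsOK6.wd _ (gen6_mem j)
  rw [← wPerm_append, ← wPerm_wpow, ← wPerm_nil chevE6 hE6]
  apply (wPerm_eq_iff chevE6 hE6 _ _ (wd_wpow chevE6 _ (hi.append hj) _) (Wd.nil chevE6)).2
  intro r hr
  exact gen6_rel_aux i j r hr

theorem card_WT6 : Nat.card ↥(WT chevE6 hE6 orbits) = 1152 := by
  rw [card_WT, poincT_E6]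
  decide

end Cfsg.Agent.Lib.Helper5.Tw2E6
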