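import Mathlib
import Cfsg.Agent.Lib.Helper5.TwAutDefs2
import Cfsg.Agent.Lib.Helper1.TwAutT1
import Cfsg.Agent.Lib.Helper1.TwAutA3
import Cfsg.Agent.Lib.Helper1.TwAutB4
import Cfsg.Agent.Lib.Helper9.TwAutC1
import Cfsg.Agent.Lib.Helper9.TwAutC3

set_option autoImplicit false
set_option linter.unusedVariables false
set_option linter.unusedSectionVars false

/-!
# Steinberg's theorem for the twisted groups `³D₄(q)`, `²E₆(q)` (S2129 / S2130 farm): assembly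

Every automorphism of `G1` is, up to an inner automorphism, of the form
`x_{±J}(t) ↦ x_{±J}(c_J^{±1} τ(t))`.  Here with the unit B7 (the negative node subgroups are
fixed) as a hypothesis; `TwAutAsmFinal` discharges it.
-/

namespace Cfsg.Agent.Lib.Helper5.TwAutAsm

open Cfsg Cfsg.Lie Cfsg.Agent.Lib.Helper5.ChevStruct Cfsg.Agent.Lib.Helper5.ChevSym
open Cfsg.Agent.Lib.Helper5.TwAut Cfsg.Agent.Lib.Helper5.RankOneHom

variable {K : Type*} [Field K] [Fintype K] (D : ChevalleyDatum) (hD : D ∈ Seven) (G : GraphData)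
  (hp : checkGraphPerm D G = true) (f : K →+* K) (rho : Equiv.Perm (Fin D.rank))
  (orbs : List (List ℕ)) (G1 : Subgroup (GL D.Idx K)) (m : ℕ)
  (hyp : TwAutHyp D hD G hp f rho orbs G1 m)

/-! ## Assembly -/

/-- the shape of `θ` on the node `J` -/
def NodeForm (θ : ↥G1 ≃* ↥G1) (J : List ℕ) (c : K) (σ : K → K) : Prop :=
  c ≠ 0 ∧ InK f J c ∧
    (∀ t, InK f J t → InK f J (σ t) ∧ (t ≠ 0 → σ t ≠ 0)) ∧ σ 1 = 1 ∧
    (∀ a b, InK f J a → InK f J b → σ (a * b) = σ a * σ b) ∧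
    (∀ (t : K), InK f J t → ∀ g : ↥G1, (g : GL D.Idx K) = xT D hD f J t →
      (θ g : GL D.Idx K) = xT D hD f J (c * σ t)) ∧
    (∀ (t : K), InK f J t → ∀ g : ↥G1, (g : GL D.Idx K) = yT D hD f J t →
      (θ g : GL D.Idx K) = yT D hD f J (c⁻¹ * σ t)) ∧
    (∀ (t : K), t ≠ 0 → InK f J t → ∀ g : ↥G1, (g : GL D.Idx K) = hT D hD f J t →
      (θ g : GL D.Idx K) = hT D hD f J (σ t))

include hyp in
theorem xT_zero' (J : List ℕ) (hJ : J ∈ orbs) : xT D hD f J (0 : K) = 1 := by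
  have h := Helper1.TwAut.xT_add D hD G hp f rho orbs G1 m hyp J hJ 0 0
  rw [add_zero] at h
  exact (mul_eq_left.1 h.symm)

include hyp in
/-- `K_J ⊆ K_{J'}` along a bond -/
theorem inK_of_adj (J J' : List ℕ) (hJ : J ∈ orbs) (hJ' : J' ∈ orbs) (hadj : AdjT D J J') (s : K)
    (hs : InK f J s) : InK f J' s := by
  rcases hadj with ⟨h1, -⟩ | ⟨h1, -⟩
  · unfold InK at hs ⊢
    rw [h1, pow_one] at hs
    have : ∀ n : ℕ, (f ^ n) s = s := by
      intro n
      induction n with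
      | zero => rfl
      | succ n ih => rw [pow_succ, RingHom.mul_def, RingHom.comp_apply, hs, ih]
    exact this _
  · unfold InK at hs ⊢
    rw [← h1]; exact hs

include hyp in
/-- every node has a form -/
theorem exists_nodeForm (θ : ↥G1 ≃* ↥G1)
    (hP : ∀ J ∈ orbs, MapsT G1 θ (rootSetSub D K (posJ D J)) (rootSetSub D K (posJ D J)))
    (hN : ∀ J ∈ orbs, MapsT G1 θ (rootSetSub D K (negJ D J)) (rootSetSub D K (negJ D J)))
    (J : List ℕ) (hJ : J ∈ orbs) :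
    ∃ (c : K) (σ : K → K), NodeForm D hD f G1 θ J c σ := by
  by_cases hfull : J.length = m
  · obtain ⟨c, τ, h1, h2, h3⟩ := Helper9.TwAut.rank_one_full D hD G hp f rho orbs G1 m hyp J hJ hfull θ
      (hP J hJ) (hN J hJ)
    have hall : ∀ a, InK f J a :=
      (Helper1.TwAut.inK_props D hD G hp f rho orbs G1 m hyp J hJ).2.2.2.2 hfull
    refine ⟨(c : K), fun t => τ t, c.ne_zero, hall _, fun t _ => ⟨hall _, fun ht => ?_⟩,
      map_one τ, fun a b _ _ => map_mul τ a b, fun t _ g hg => h1 t g hg, fun t _ g hg => ?_,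
      fun t ht _ g hg => h3 t ht g hg⟩
    · exact (map_ne_zero τ).2 ht
    · have := h2 t g hg
      rwa [Units.val_inv_eq_inv_val] at this
  · have hfix : J.length = 1 := (hyp.hlen J hJ).resolve_right hfull
    obtain ⟨c, σ, h⟩ := Helper9.TwAut.rank_one_fix D hD G hp f rho orbs G1 m hyp J hJ hfix θ (hP J hJ) (hN J hJ)
    exact ⟨c, σ, h⟩

include hyp in
/-- **Steinberg's theorem for the twisted groups**: every automorphism of `G1` is, up to an
inner automorphism, of the form `x_{±J}(t) ↦ x_{±J}(c_J^{±1} τ(t))`. -/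
theorem tw_steinberg_of
    (hB7 : ∀ θ : ↥G1 ≃* ↥G1, MapsT G1 θ (D.posUnipotent K) (D.posUnipotent K) →
      MapsT G1 θ (D.negUnipotent K) (D.negUnipotent K) → ∀ J ∈ orbs,
      MapsT G1 θ (rootSetSub D K (negJ D J)) (rootSetSub D K (negJ D J)))
    (Js : List (List ℕ)) (hJs : ∀ J ∈ Js, J ∈ orbs) (hw : checkW0 D Js.flatten = true)
    (hopp : OppOK D orbs Js.flatten) (J₀ : List ℕ) (hJ₀ : J₀ ∈ orbs) (hJ₀m : J₀.length = m)
    (hlink : Linked D orbs J₀) (θ : ↥G1 ≃* ↥G1) :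
    ∃ (x : ↥G1) (c : List ℕ → K) (τ : K ≃+* K),
      (∀ J ∈ orbs, c J ≠ 0 ∧ InK f J (c J)) ∧
      ∀ J ∈ orbs, ∀ t, InK f J t → ∀ g : ↥G1,
        ((g : GL D.Idx K) = xT D hD f J t →
          ((θ.trans (MulAut.conj x)) g : GL D.Idx K) = xT D hD f J (c J * τ t)) ∧
        ((g : GL D.Idx K) = yT D hD f J t →
          ((θ.trans (MulAut.conj x)) g : GL D.Idx K) = yT D hD f J ((c J)⁻¹ * τ t)) := by
  obtain ⟨x, hU, hV⟩ := Helper1.TwAut.exists_conj_mapsT_pos_neg D hD G hp f rho orbs G1 m hyp θ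
  obtain ⟨θ', hθ'⟩ : ∃ θ' : ↥G1 ≃* ↥G1, θ' = θ.trans (MulAut.conj x) := ⟨_, rfl⟩
  rw [← hθ'] at hU hV
  have hneg : ∀ θ'' : ↥G1 ≃* ↥G1, MapsT G1 θ'' (D.posUnipotent K) (D.posUnipotent K) →
      MapsT G1 θ'' (D.negUnipotent K) (D.negUnipotent K) → ∀ J ∈ orbs,
      MapsT G1 θ'' (rootSetSub D K (negJ D J)) (rootSetSub D K (negJ D J)) :=
    hB7
  have hN := hneg θ' hU hV
  have hP : ∀ J ∈ orbs, MapsT G1 θ' (rootSetSub D K (posJ D J)) (rootSetSub D K (posJ D J)) :=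
    fun J hJ => Helper1.TwAut.mapsT_pos_node D hD G hp f rho orbs G1 m hyp Js hJs hw hopp hneg θ' hU hV J hJ
  have hform := exists_nodeForm D hD G hp f rho orbs G1 m hyp θ' hP hN
  -- the field automorphism of the big node
  obtain ⟨c₀, τ, h01, h02, h03⟩ := Helper9.TwAut.rank_one_full D hD G hp f rho orbs G1 m hyp J₀ hJ₀ hJ₀m θ'
    (hP J₀ hJ₀) (hN J₀ hJ₀)
  -- all nodes have the same field automorphism
  have key : ∀ J, J ∈ orbs → ∀ (c : K) (σ : K → K), NodeForm D hD f G1 θ' J c σ →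
      ∀ s, s ≠ 0 → InK f J s → σ s = τ s := by
    intro J hJ
    refine Relation.ReflTransGen.head_induction_on (hlink J hJ) ?_ ?_
    · -- the node `J₀`
      intro c σ hnf s hs hsK
      obtain ⟨hc, -, -, hσ1, -, hx, -, -⟩ := hnf
      have hone : InK f J₀ 1 := (Helper1.TwAut.inK_props D hD G hp f rho orbs G1 m hyp J₀ hJ₀).2.1
      have e1 := hx 1 hone ⟨_, Helper1.TwAut.xT_mem D hD G hp f rho orbs G1 m hyp J₀ hJ₀ 1 hone⟩ rfl
      rw [h01 1 ⟨_, Helper1.TwAut.xT_mem D hD G hp f rho orbs G1 m hyp J₀ hJ₀ 1 hone⟩ rfl, hσ1,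
        map_one, mul_one, mul_one] at e1
      have hcc : (c₀ : K) = c := Helper1.TwAut.xT_injective D hD G hp f rho orbs G1 m hyp J₀ hJ₀ _ _ e1
      have e2 := hx s hsK ⟨_, Helper1.TwAut.xT_mem D hD G hp f rho orbs G1 m hyp J₀ hJ₀ s hsK⟩ rfl
      rw [h01 s ⟨_, Helper1.TwAut.xT_mem D hD G hp f rho orbs G1 m hyp J₀ hJ₀ s hsK⟩ rfl, hcc] at e2
      have := Helper1.TwAut.xT_injective D hD G hp f rho orbs G1 m hyp J₀ hJ₀ _ _ e2
      exact (mul_left_cancel₀ hc this).symm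
    · -- a bond `A — B`
      intro A B hAB _ ih c σ hnf s hs hsK
      obtain ⟨hA, hB, hadj⟩ := hAB
      obtain ⟨c', σ', hnf'⟩ := hform B hB
      have hsB : InK f B s := inK_of_adj D hD G hp f rho orbs G1 m hyp A B hA hB hadj s hsK
      obtain ⟨-, -, hσK, -, -, -, -, hh⟩ := hnf
      have hnf'' := hnf'
      obtain ⟨hc', -, -, hσ1', hmul', hx', -, -⟩ := hnf'
      have hl := Helper9.TwAut.link_sigma D hD G hp f rho orbs G1 m hyp A B hA hB hadj θ' σ σ' c' hc'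
        (fun t ht htK => ⟨⟨(hσK t htK).2 ht, (hσK t htK).1⟩, hh t ht htK⟩) hx' hσ1' hmul' s hs hsK
      rw [hl]
      exact ih c' σ' hnf'' s hs hsB
  -- assemble
  choose c σ hcσ using fun (J : {J : List ℕ // J ∈ orbs}) => hform J.1 J.2
  classical
  refine ⟨x, fun J => if hJ : J ∈ orbs then c ⟨J, hJ⟩ else 1, τ, ?_, ?_⟩
  · intro J hJ
    beta_reduce
    rw [dif_pos hJ]
    exact ⟨(hcσ ⟨J, hJ⟩).1, (hcσ ⟨J, hJ⟩).2.1⟩
  · intro J hJ t ht g
    beta_reduce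
    rw [dif_pos hJ, ← hθ']
    obtain ⟨hc, hcK, hσK, hσ1, hmul, hx, hy, hh⟩ := hcσ ⟨J, hJ⟩
    have hst : σ ⟨J, hJ⟩ t = τ t := by
      by_cases ht0 : t = 0
      · subst ht0
        have e := hx 0 ht ⟨_, Helper1.TwAut.xT_mem D hD G hp f rho orbs G1 m hyp J hJ 0 ht⟩ rfl
        have h1 : (⟨xT D hD f J 0, Helper1.TwAut.xT_mem D hD G hp f rho orbs G1 m hyp J hJ 0 ht⟩ : ↥G1) = 1 :=
          Subtype.ext (xT_zero' D hD G hp f rho orbs G1 m hyp J hJ)
        rw [h1, map_one] at e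
        have e' : xT D hD f J (c ⟨J, hJ⟩ * σ ⟨J, hJ⟩ 0) = xT D hD f J 0 := by
          rw [xT_zero' D hD G hp f rho orbs G1 m hyp J hJ, ← e]; rfl
        have := Helper1.TwAut.xT_injective D hD G hp f rho orbs G1 m hyp J hJ _ _ e'
        rw [map_zero]
        rcases mul_eq_zero.1 this with h | h
        · exact absurd h hc
        · exact h
      · exact key J hJ _ _ (hcσ ⟨J, hJ⟩) t ht0 ht
    constructor
    · intro hg
      rw [hx t ht g hg, hst]
    · intro hg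
      rw [hy t ht g hg, hst]

end Cfsg.Agent.Lib.Helper5.TwAutAsm
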