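import Mathlib
import Cfsg.Agent.Lib.Helper5.TwAutAsm
import Cfsg.Agent.Lib.Helper2.TwAutB7

set_option autoImplicit false
set_option linter.unusedVariables false
set_option linter.unusedSectionVars false

/-!
# Steinberg's theorem for the twisted groups `³D₄(q)`, `²E₆(q)` (S2129 / S2130 farm)

Every automorphism of `G1` is, up to an inner automorphism, of the form
`x_{±J}(t) ↦ x_{±J}(c_J^{±1} τ(t))`.
-/

namespace Cfsg.Agent.Lib.Helper5.TwAutAsm

open Cfsg Cfsg.Lie Cfsg.Agent.Lib.Helper5.ChevStruct Cfsg.Agent.Lib.Helper5.ChevSym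
open Cfsg.Agent.Lib.Helper5.TwAut Cfsg.Agent.Lib.Helper5.RankOneHom

variable {K : Type*} [Field K] [Fintype K] (D : ChevalleyDatum) (hD : D ∈ Seven) (G : GraphData)
  (hp : checkGraphPerm D G = true) (f : K →+* K) (rho : Equiv.Perm (Fin D.rank))
  (orbs : List (List ℕ)) (G1 : Subgroup (GL D.Idx K)) (m : ℕ)
  (hyp : TwAutHyp D hD G hp f rho orbs G1 m)

include hyp in
/-- **Steinberg's theorem for the twisted groups**: every automorphism of `G1` is, up to an
inner automorphism, of the form `x_{±J}(t) ↦ x_{±J}(c_J^{±1} τ(t))`. -/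
theorem tw_steinberg (hfne : ∃ t : K, f t ≠ t) (hrig : Rigid D orbs)
    (Js : List (List ℕ)) (hJs : ∀ J ∈ Js, J ∈ orbs) (hw : checkW0 D Js.flatten = true)
    (hopp : OppOK D orbs Js.flatten) (J₀ : List ℕ) (hJ₀ : J₀ ∈ orbs) (hJ₀m : J₀.length = m)
    (hlink : Linked D orbs J₀) (θ : ↥G1 ≃* ↥G1) :
    ∃ (x : ↥G1) (c : List ℕ → K) (τ : K ≃+* K),
      (∀ J ∈ orbs, c J ≠ 0 ∧ InK f J (c J)) ∧
      ∀ J ∈ orbs, ∀ t, InK f J t → ∀ g : ↥G1,
        ((g : GL D.Idx K) = xT D hD f J t →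
          ((θ.trans (MulAut.conj x)) g : GL D.Idx K) = xT D hD f J (c J * τ t)) ∧
        ((g : GL D.Idx K) = yT D hD f J t →
          ((θ.trans (MulAut.conj x)) g : GL D.Idx K) = yT D hD f J ((c J)⁻¹ * τ t)) :=
  tw_steinberg_of D hD G hp f rho orbs G1 m hyp
    (fun θ' hU hV J hJ =>
      Helper2.TwAut.mapsT_neg_node D hD G hp f rho orbs G1 m hyp hfne hrig θ' hU hV J hJ)
    Js hJs hw hopp J₀ hJ₀ hJ₀m hlink θ

end Cfsg.Agent.Lib.Helper5.TwAutAsm
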