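import Mathlib
import Cfsg.Prelude
import Cfsg.Agent.Lib.Helper5.HermBasis

set_option autoImplicit false
set_option linter.unusedSectionVars false
set_option linter.unusedVariables false
open Cfsg

/-! Geometry of a non-degenerate unitary form given as a function of two arguments. -/

namespace Cfsg.Agent.Lib.Helper5.UnitaryGeom

open Matrix Module

variable {F : Type*} [Field F] [Fintype F] {n : ℕ} {σ : F ≃+* F}
  (f : (Fin n → F) → (Fin n → F) → F)

/-- the functional `x ↦ f x u` as a vector -/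
def phi (u : Fin n → F) : Fin n → F := fun i => f (Pi.single i 1) u

variable {f} (hf : Cfsg.Geo.IsUnitaryForm σ f)

include hf

theorem f_add_right (v x y : Fin n → F) : f v (x + y) = f v x + f v y := by
  rw [hf.herm, hf.add_left, map_add, ← hf.herm, ← hf.herm]

theorem f_smul_right (c : F) (v x : Fin n → F) : f v (c • x) = σ c * f v x := by
  rw [hf.herm, hf.smul_left, map_mul, ← hf.herm]

theorem f_zero_left (x : Fin n → F) : f 0 x = 0 := by
  have := hf.smul_left 0 0 x
  rw [zero_smul, zero_mul] at this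
  exact this

theorem f_zero_right (x : Fin n → F) : f x 0 = 0 := by
  rw [hf.herm, f_zero_left hf, map_zero]

theorem f_neg_left (x y : Fin n → F) : f (-x) y = -f x y := by
  have := hf.smul_left (-1) x y
  rw [neg_one_smul, neg_one_mul] at this
  exact this

theorem f_neg_right (x y : Fin n → F) : f x (-y) = -f x y := by
  rw [hf.herm, f_neg_left hf, map_neg, ← hf.herm]

theorem f_sub_left (x y z : Fin n → F) : f (x - y) z = f x z - f y z := by
  rw [sub_eq_add_neg, hf.add_left, f_neg_left hf, sub_eq_add_neg]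

theorem f_sub_right (x y z : Fin n → F) : f x (y - z) = f x y - f x z := by
  rw [sub_eq_add_neg, f_add_right hf, f_neg_right hf, sub_eq_add_neg]

theorem f_self_fixed (v : Fin n → F) : σ (f v v) = f v v := (hf.herm v v).symm

theorem f_symm_zero {x y : Fin n → F} (h : f x y = 0) : f y x = 0 := by
  rw [hf.herm, h, map_zero]

theorem f_symm_ne {x y : Fin n → F} (h : f x y ≠ 0) : f y x ≠ 0 := fun h0 =>
  h (f_symm_zero hf h0)

theorem eq_zero_of_forall (u : Fin n → F) (h : ∀ x, f x u = 0) : u = 0 := by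
  by_contra hu
  obtain ⟨x, hx⟩ := (hf.nondegenerate u hu).1
  exact hx (h x)

theorem exists_pair (u : Fin n → F) (hu : u ≠ 0) : ∃ x, f x u ≠ 0 :=
  (hf.nondegenerate u hu).1

theorem phi_dot (u x : Fin n → F) : phi f u ⬝ᵥ x = f x u := by
  let L : (Fin n → F) →ₗ[F] F :=
    { toFun := fun x => f x u
      map_add' := fun x y => hf.add_left x y u
      map_smul' := fun c x => by
        rw [hf.smul_left, RingHom.id_apply, smul_eq_mul] }
  have h1 := LinearMap.pi_apply_eq_sum_univ L x
  have h2 : L x = f x u := rfl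
  rw [← h2, h1]
  unfold phi dotProduct
  apply Finset.sum_congr rfl
  intro i _
  have h3 : (fun j => if i = j then (1 : F) else 0) = Pi.single i 1 := by
    funext j
    rw [Pi.single_apply]
    simp only [eq_comm]
  rw [h3, smul_eq_mul, mul_comm]
  rfl

theorem phi_add (u u' : Fin n → F) : phi f (u + u') = phi f u + phi f u' := by
  funext i
  exact f_add_right hf _ u u'

theorem phi_smul (c : F) (u : Fin n → F) : phi f (c • u) = σ c • phi f u := by
  funext i
  exact f_smul_right hf c _ u

theorem phi_zero : phi f (0 : Fin n → F) = 0 := by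
  funext i
  exact f_zero_right hf _

theorem phi_neg (u : Fin n → F) : phi f (-u) = -phi f u := by
  funext i
  exact f_neg_right hf _ u

theorem phi_injective : Function.Injective (phi f) := by
  intro u u' h
  have : u - u' = 0 := by
    apply eq_zero_of_forall hf
    intro x
    rw [f_sub_right hf, ← phi_dot hf, ← phi_dot hf u', h, sub_self]
  exact sub_eq_zero.mp this

/-- every functional is represented by a vector -/
theorem exists_phi (ψ : Fin n → F) : ∃ u, phi f u = ψ :=
  (Finite.injective_iff_surjective.mp (phi_injective hf)) ψ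

/-- a functional vanishing on the kernel of another one is proportional to it -/
theorem exists_smul_of_ker (u p : Fin n → F) (h : ∀ y, f y u = 0 → f y p = 0) :
    ∃ a : F, p = a • u := by
  by_cases hu : u = 0
  · refine ⟨0, ?_⟩
    rw [zero_smul]
    apply eq_zero_of_forall hf
    intro y
    apply h
    rw [hu, f_zero_right hf]
  obtain ⟨x₀, hx₀⟩ := exists_pair hf u hu
  refine ⟨σ (f x₀ p / f x₀ u), ?_⟩
  have : p - σ (f x₀ p / f x₀ u) • u = 0 := by
    apply eq_zero_of_forall hf
    intro y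
    have h1 := h (y - (f y u / f x₀ u) • x₀) (by
      rw [f_sub_left hf, hf.smul_left, div_mul_cancel₀ _ hx₀, sub_self])
    rw [f_sub_left hf, hf.smul_left, sub_eq_zero] at h1
    rw [f_sub_right hf, f_smul_right hf, hf.involutive, h1]
    field_simp
    ring
  exact sub_eq_zero.mp this

/-- a vector pairing non-trivially with two given non-zero vectors -/
theorem exists_cross (x v : Fin n → F) (hx : x ≠ 0) (hv : v ≠ 0) :
    ∃ z, f z x ≠ 0 ∧ f z v ≠ 0 := by
  obtain ⟨z₁, h₁⟩ := exists_pair hf x hx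
  obtain ⟨z₂, h₂⟩ := exists_pair hf v hv
  by_cases h3 : f z₁ v = 0
  · by_cases h4 : f z₂ x = 0
    · refine ⟨z₁ + z₂, ?_, ?_⟩
      · rw [hf.add_left, h4, add_zero]; exact h₁
      · rw [hf.add_left, h3, zero_add]; exact h₂
    · exact ⟨z₂, h4, h₂⟩
  · exact ⟨z₁, h₁, h3⟩

theorem sigma_ne_id : (σ : F →+* F) ≠ RingHom.id F := by
  intro h
  apply hf.ne_refl
  ext a
  have := congrArg (fun g : F →+* F => g a) h
  exact this

/-- surjectivity of the trace -/
theorem exists_trace (d : F) (hd : σ d = d) : ∃ μ : F, μ ≠ 0 ∧ μ + σ μ = d :=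
  HermWitt.exists_trace (σ := (σ : F →+* F)) (sigma_ne_id hf) hf.involutive d hd

/-- surjectivity of the norm -/
theorem exists_norm (d : F) (hd0 : d ≠ 0) (hd : σ d = d) : ∃ t : F, t * σ t = d :=
  HermBasis.exists_norm (σ := (σ : F →+* F)) (sigma_ne_id hf) hf.involutive d hd0 hd

theorem exists_trace_zero : ∃ θ : F, θ ≠ 0 ∧ θ + σ θ = 0 := exists_trace hf 0 (map_zero σ)

/-- the norm of a sum -/
theorem f_add_self (x y : Fin n → F) :
    f (x + y) (x + y) = f x x + f y y + (f x y + σ (f x y)) := by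
  rw [hf.add_left, f_add_right hf, f_add_right hf, ← hf.herm y x]
  ring


theorem f_smul_smul (a b : F) (x y : Fin n → F) : f (a • x) (b • y) = a * σ b * f x y := by
  rw [hf.smul_left, f_smul_right hf]
  ring

/-- a subspace all of whose vectors are isotropic is totally isotropic -/
theorem polar0 (U : Submodule F (Fin n → F)) (hU : ∀ u ∈ U, f u u = 0)
    (u u' : Fin n → F) (hu : u ∈ U) (hu' : u' ∈ U) : f u u' = 0 := by
  obtain ⟨t, ht⟩ : ∃ t : F, σ t ≠ t := by
    by_contra hcon
    push Not at hcon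
    apply hf.ne_refl
    ext a
    exact hcon a
  have key : ∀ s : F, σ s * f u u' + s * σ (f u u') = 0 := by
    intro s
    have h1 := hU (u + s • u') (U.add_mem hu (U.smul_mem _ hu'))
    rw [f_add_self hf, hU u hu, hU _ (U.smul_mem s hu'), f_smul_right hf, map_mul,
      hf.involutive] at h1
    linear_combination h1
  have h1 := key 1
  have h2 := key t
  rw [map_one, one_mul, one_mul] at h1
  have h3 : (σ t - t) * f u u' = 0 := by linear_combination h2 - t * h1
  rcases mul_eq_zero.mp h3 with h4 | h4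
  · exact absurd (sub_eq_zero.mp h4) ht
  · exact h4

/-- a totally isotropic subspace has at most half the dimension -/
theorem ti_bound (U : Submodule F (Fin n → F)) (hU : ∀ u ∈ U, ∀ u' ∈ U, f u u' = 0) :
    2 * finrank F U ≤ n := by
  classical
  set B₀ : LinearMap.BilinForm F (Fin n → F) :=
    Matrix.toBilin' (1 : Matrix (Fin n) (Fin n) F) with hB₀
  have hB₀app : ∀ x y, B₀ x y = x ⬝ᵥ y := by
    intro x y
    rw [hB₀, Matrix.toBilin'_apply', one_mulVec]
  have hnd : B₀.Nondegenerate :=
    LinearMap.BilinForm.nondegenerate_toBilin'_of_det_ne_zero' _ (by rw [det_one]; exact one_ne_zero)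
  set W := LinearMap.BilinForm.orthogonal B₀ U with hW
  let j : U → W := fun u => ⟨phi f (u : Fin n → F), by
    rw [hW, LinearMap.BilinForm.mem_orthogonal_iff]
    intro x hx
    show B₀ x (phi f (u : Fin n → F)) = 0
    rw [hB₀app, dotProduct_comm, phi_dot hf]
    exact hU x hx u u.2⟩
  have hj : Function.Injective j := by
    intro u u' h
    apply Subtype.ext
    apply phi_injective hf
    exact congrArg Subtype.val h
  have hcard : Nat.card U ≤ Nat.card W := Nat.card_le_card_of_injective j hj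
  rw [Module.natCard_eq_pow_finrank (K := F) (V := U),
    Module.natCard_eq_pow_finrank (K := F) (V := W)] at hcard
  have hF1 : 1 < Nat.card F := by
    rw [Nat.card_eq_fintype_card]
    exact Fintype.one_lt_card
  have h1 : finrank F U ≤ finrank F W := (Nat.pow_le_pow_iff_right hF1).mp hcard
  have h2 := LinearMap.BilinForm.finrank_orthogonal hnd U
  rw [Module.finrank_fintype_fun_eq_card, Fintype.card_fin, ← hW] at h2
  omega

/-- an anisotropic vector orthogonal to few given vectors -/
theorem exists_aniso_perp (k : ℕ) (b : Fin k → (Fin n → F)) (hk : 2 * k < n) :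
    ∃ d, f d d ≠ 0 ∧ ∀ i, f d (b i) = 0 := by
  by_contra hcon
  push Not at hcon
  let ℓ : (Fin n → F) →ₗ[F] (Fin k → F) :=
    { toFun := fun x i => f x (b i)
      map_add' := fun x y => by
        funext i
        exact hf.add_left x y (b i)
      map_smul' := fun c x => by
        funext i
        rw [RingHom.id_apply, Pi.smul_apply, smul_eq_mul]
        exact hf.smul_left c x (b i) }
  set U := LinearMap.ker ℓ with hUdef
  have hUmem : ∀ x, x ∈ U ↔ ∀ i, f x (b i) = 0 := by
    intro x
    rw [hUdef, LinearMap.mem_ker]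
    constructor
    · intro h i
      exact congrFun h i
    · intro h
      funext i
      exact h i
  have hiso : ∀ u ∈ U, f u u = 0 := by
    intro u hu
    by_contra hne
    obtain ⟨i, hi⟩ := hcon u hne
    exact hi ((hUmem u).mp hu i)
  have h1 := ti_bound hf U (fun u hu u' hu' => polar0 hf U hiso u u' hu hu')
  have h2 := LinearMap.finrank_range_add_finrank_ker ℓ
  have h3 : finrank F (LinearMap.range ℓ) ≤ k := by
    have := Submodule.finrank_le (LinearMap.range ℓ)
    rwa [Module.finrank_fintype_fun_eq_card, Fintype.card_fin] at this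
  rw [Module.finrank_fintype_fun_eq_card, Fintype.card_fin, ← hUdef] at h2
  omega

/-- a non-zero isotropic vector orthogonal to few given vectors -/
theorem exists_iso_perp (k : ℕ) (b : Fin k → (Fin n → F)) (hk : 2 * k + 2 < n) :
    ∃ w, w ≠ 0 ∧ f w w = 0 ∧ ∀ i, f w (b i) = 0 := by
  obtain ⟨d₁, hd₁, hd₁b⟩ := exists_aniso_perp hf k b (by omega)
  obtain ⟨d₂, hd₂, hd₂b⟩ := exists_aniso_perp hf (k + 1)
    (Fin.cons d₁ b : Fin (k + 1) → (Fin n → F)) (by omega)
  have h21 : f d₂ d₁ = 0 := by
    have := hd₂b 0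
    rwa [Fin.cons_zero] at this
  have h2b : ∀ i, f d₂ (b i) = 0 := by
    intro i
    have := hd₂b i.succ
    rwa [Fin.cons_succ] at this
  obtain ⟨t, ht⟩ := exists_norm hf (-(f d₁ d₁) / f d₂ d₂)
    (div_ne_zero (neg_ne_zero.mpr hd₁) hd₂) (by
      rw [map_div₀, map_neg, f_self_fixed hf, f_self_fixed hf])
  refine ⟨d₁ + t • d₂, ?_, ?_, ?_⟩
  · intro h0
    have h1 : f (d₁ + t • d₂) d₁ = f d₁ d₁ := by
      rw [hf.add_left, hf.smul_left, h21, mul_zero, add_zero]
    rw [h0, f_zero_left hf] at h1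
    exact hd₁ h1.symm
  · rw [f_add_self hf, f_smul_smul hf, f_smul_right hf, f_symm_zero hf h21, mul_zero, map_zero,
      add_zero, add_zero, ht, div_mul_cancel₀ _ hd₂, add_neg_cancel]
  · intro i
    rw [hf.add_left, hf.smul_left, hd₁b i, h2b i, mul_zero, add_zero]

/-- an isotropic vector orthogonal to `p` and not orthogonal to `x ∉ ⟨p⟩` -/
theorem exists_iso_nonorth (hn : 6 < n) (p x : Fin n → F) (hx : ¬ ∃ a : F, x = a • p) :
    ∃ w, f w w = 0 ∧ f p w = 0 ∧ f x w ≠ 0 := by
  obtain ⟨y, hpy, hxy⟩ : ∃ y, f p y = 0 ∧ f x y ≠ 0 := by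
    by_contra hcon
    push Not at hcon
    apply hx
    apply exists_smul_of_ker hf p x
    intro y hy
    exact f_symm_zero hf (hcon y (f_symm_zero hf hy))
  by_cases hyy : f y y = 0
  · exact ⟨y, hyy, hpy, hxy⟩
  obtain ⟨d, hd, hdb⟩ := exists_aniso_perp hf 3 ![p, x, y] (by omega)
  have hdp : f d p = 0 := hdb 0
  have hdx : f d x = 0 := hdb 1
  have hdy : f d y = 0 := hdb 2
  obtain ⟨t, ht⟩ := exists_norm hf (-(f y y) / f d d)
    (div_ne_zero (neg_ne_zero.mpr hyy) hd) (by
      rw [map_div₀, map_neg, f_self_fixed hf, f_self_fixed hf])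
  refine ⟨y + t • d, ?_, ?_, ?_⟩
  · rw [f_add_self hf, f_smul_smul hf, f_smul_right hf, f_symm_zero hf hdy, mul_zero, map_zero,
      add_zero, add_zero, ht, div_mul_cancel₀ _ hd, add_neg_cancel]
  · rw [f_add_right hf, f_smul_right hf, hpy, f_symm_zero hf hdp, mul_zero, add_zero]
  · rw [f_add_right hf, f_smul_right hf, f_symm_zero hf hdx, mul_zero, add_zero]
    exact hxy

/-- an isotropic vector non-orthogonal to two given orthogonal non-zero vectors, the first of
which is isotropic -/
theorem exists_iso_cross (v w : Fin n → F) (hv0 : v ≠ 0) (hw0 : w ≠ 0) (hv : f v v = 0)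
    (hvw : f v w = 0) : ∃ z, f z z = 0 ∧ f z v ≠ 0 ∧ f z w ≠ 0 := by
  obtain ⟨y, hyv, hyw⟩ := exists_cross hf v w hv0 hw0
  obtain ⟨β, -, hβ⟩ := exists_trace hf (-(f y y)) (by rw [map_neg, f_self_fixed hf])
  refine ⟨y + σ (β / f y v) • v, ?_, ?_, ?_⟩
  · rw [f_add_self hf, f_smul_smul hf, hv, mul_zero, add_zero, f_smul_right hf, hf.involutive,
      div_mul_cancel₀ _ hyv]
    linear_combination hβ
  · rw [hf.add_left, hf.smul_left, hv, mul_zero, add_zero]
    exact hyv
  · rw [hf.add_left, hf.smul_left, hvw, mul_zero, add_zero]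
    exact hyw

/-- adjusting a vector by an isotropic one to an isotropic vector, keeping a pairing non-zero -/
theorem exists_iso_add (y e x₀ : Fin n → F) (he : f e e = 0) (hye : f y e ≠ 0)
    (hx : f x₀ e ≠ 0) :
    ∃ b : F, f (y + b • e) (y + b • e) = 0 ∧ f x₀ (y + b • e) ≠ 0 := by
  obtain ⟨β, -, hβ⟩ := exists_trace hf (-(f y y)) (by rw [map_neg, f_self_fixed hf])
  obtain ⟨θ, hθ0, hθ⟩ := exists_trace_zero hf
  have hiso : ∀ γ : F, γ + σ γ = -(f y y) →
      f (y + σ (γ / f y e) • e) (y + σ (γ / f y e) • e) = 0 := by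
    intro γ hγ
    rw [f_add_self hf, f_smul_smul hf, he, mul_zero, add_zero, f_smul_right hf, hf.involutive,
      div_mul_cancel₀ _ hye]
    linear_combination hγ
  have hval : ∀ γ : F, f x₀ (y + σ (γ / f y e) • e) = f x₀ y + γ / f y e * f x₀ e := by
    intro γ
    rw [f_add_right hf, f_smul_right hf, hf.involutive]
  by_cases h1 : f x₀ (y + σ (β / f y e) • e) = 0
  · refine ⟨σ ((β + θ) / f y e), hiso _ (by rw [map_add]; linear_combination hβ + hθ), ?_⟩
    rw [hval] at h1 ⊢
    intro h2
    have h3 : θ / f y e * f x₀ e = 0 := by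
      rw [add_div, add_mul] at h2
      linear_combination h2 - h1
    rcases mul_eq_zero.mp h3 with h4 | h4
    · rcases div_eq_zero_iff.mp h4 with h5 | h5
      · exact hθ0 h5
      · exact hye h5
    · exact hx h4
  · exact ⟨σ (β / f y e), hiso _ hβ, h1⟩

/-- a subspace containing enough isotropic vectors contains everything -/
theorem span_lemma (S D : Submodule F (Fin n → F)) (x₀ w₀ : Fin n → F) (hx₀S : x₀ ∈ S)
    (hx₀D : x₀ ∈ D) (hw₀S : w₀ ∈ S) (hw₀ : f w₀ w₀ = 0) (hxw : f x₀ w₀ ≠ 0)
    (H : ∀ w ∈ S, f w w = 0 → f x₀ w ≠ 0 → w ∈ D) : S ≤ D := by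
  have hw₀D := H w₀ hw₀S hw₀ hxw
  have key : ∀ y ∈ S, f y w₀ ≠ 0 → y ∈ D := by
    intro y hy hyw
    obtain ⟨b, hb1, hb2⟩ := exists_iso_add hf y w₀ x₀ hw₀ hyw hxw
    have h1 := H (y + b • w₀) (S.add_mem hy (S.smul_mem _ hw₀S)) hb1 hb2
    have : y = (y + b • w₀) - b • w₀ := by abel
    rw [this]
    exact D.sub_mem h1 (D.smul_mem _ hw₀D)
  intro y hy
  by_cases hyw : f y w₀ = 0
  · have h1 := key (y + x₀) (S.add_mem hy hx₀S) (by
      rw [hf.add_left, hyw, zero_add]; exact hxw)
    have : y = (y + x₀) - x₀ := by abel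
    rw [this]
    exact D.sub_mem h1 hx₀D
  · exact key y hy hyw

/-- every vector is a sum of two isotropic vectors -/
theorem exists_iso_decomp (hn : 6 < n) (y : Fin n → F) :
    ∃ v₁ v₂, f v₁ v₁ = 0 ∧ f v₂ v₂ = 0 ∧ y = v₁ + v₂ := by
  by_cases hy : y = 0
  · exact ⟨0, 0, f_zero_left hf 0, f_zero_left hf 0, by rw [hy, add_zero]⟩
  obtain ⟨e, he, -, hye⟩ := exists_iso_nonorth hf hn 0 y (by
    rintro ⟨a, ha⟩
    rw [smul_zero] at ha
    exact hy ha)
  obtain ⟨b, hb, -⟩ := exists_iso_add hf y e y he hye hye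
  refine ⟨y + b • e, -(b • e), hb, ?_, by abel⟩
  rw [f_neg_left hf, f_neg_right hf, f_smul_smul hf, he, mul_zero, neg_zero, neg_zero]

end Cfsg.Agent.Lib.Helper5.UnitaryGeom
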