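import Mathlib
import Cfsg.Prelude
import Cfsg.Agent.Lib.Helper5.UnitaryGeom
import Cfsg.Agent.Lib.Helper5.SpInSLMax

set_option autoImplicit false
set_option linter.unusedSectionVars false
set_option linter.unusedVariables false
open Cfsg

/-! The similarity group of a unitary form is maximal in the special linear group. -/

namespace Cfsg.Agent.Lib.Helper5.UInSLMax

open Matrix Module Cfsg.Agent.Lib.Helper5.TvGL Cfsg.Agent.Lib.Helper5.SLSubspaceMax
  Cfsg.Agent.Lib.Helper5.UnitaryGeom
open Cfsg.Agent.Lib.Helper5.SpInSLMax (tvMat_mul conj_tvMat mkTv mkTv_coe)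

variable {F : Type*} [Field F] [Fintype F] {n : ℕ} {σ : F ≃+* F}
  {f : (Fin n → F) → (Fin n → F) → F} (hf : Cfsg.Geo.IsUnitaryForm σ f)

include hf

/-- the unitary transvections are isometries of determinant one -/
theorem tv_iso (w : Fin n → F) (a : F) (hw : f w w = 0) (ha : a + σ a = 0) (x y : Fin n → F) :
    f (x + (a * f x w) • w) (y + (a * f y w) • w) = f x y := by
  rw [hf.add_left, f_add_right hf, f_add_right hf, f_smul_smul hf, hf.smul_left,
    f_smul_right hf, hw, map_mul, ← hf.herm w y]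
  linear_combination (f x w * f w y) * ha

theorem tv_act (w : Fin n → F) (a : F) (x : Fin n → F) :
    tvMat (a • phi f w) w *ᵥ x = x + (a * f x w) • w := by
  rw [tvMat_mulVec, smul_dotProduct, phi_dot hf, smul_eq_mul]

theorem tv_dot (w : Fin n → F) (a : F) (hw : f w w = 0) : (a • phi f w) ⬝ᵥ w = 0 := by
  rw [smul_dotProduct, phi_dot hf, hw, smul_zero]

theorem tv_mem (w : Fin n → F) (a : F) (hw : f w w = 0) (ha : a + σ a = 0)
    (g : GL (Fin n) F) (hg : (g : Matrix (Fin n) (Fin n) F) = tvMat (a • phi f w) w) :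
    g ∈ Cfsg.Geo.similarityGroup f ⊓ Cfsg.Geo.specialLinear (Fin n) F := by
  rw [Subgroup.mem_inf, mem_specialLinear_iff]
  refine ⟨⟨1, fun x y => ?_⟩, by rw [hg, det_tvMat _ _ (tv_dot hf w a hw)]⟩
  rw [hg, tv_act hf, tv_act hf, tv_iso hf w a hw ha, Units.val_one, one_mul]

omit hf in
/-- partial centre: `M` contains the transvection `x ↦ x + f(x,u) p` -/
def InA (f : (Fin n → F) → (Fin n → F) → F) (M : Subgroup (GL (Fin n) F)) (p u : Fin n → F) :
    Prop :=
  f p u = 0 ∧ ∀ g : GL (Fin n) F, (g : Matrix (Fin n) (Fin n) F) = tvMat (phi f u) p → g ∈ M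

section overgroup
variable {M : Subgroup (GL (Fin n) F)}
  (hPM : Cfsg.Geo.similarityGroup f ⊓ Cfsg.Geo.specialLinear (Fin n) F ≤ M)

theorem inA_zero (p : Fin n → F) : InA f M p 0 := by
  refine ⟨f_zero_right hf p, fun g hg => ?_⟩
  have : g = 1 := by
    apply Units.ext
    rw [hg, phi_zero hf]
    unfold tvMat
    simp
  rw [this]
  exact one_mem M

theorem inA_add {p u u' : Fin n → F} (h1 : InA f M p u) (h2 : InA f M p u') :
    InA f M p (u + u') := by
  refine ⟨by rw [f_add_right hf, h1.1, h2.1, add_zero], fun g hg => ?_⟩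
  have e1 : phi f u ⬝ᵥ p = 0 := by rw [phi_dot hf]; exact h1.1
  have e2 : phi f u' ⬝ᵥ p = 0 := by rw [phi_dot hf]; exact h2.1
  have : g = mkTv (phi f u) p e1 * mkTv (phi f u') p e2 := by
    apply Units.ext
    rw [hg, Units.val_mul, mkTv_coe, mkTv_coe, tvMat_mul _ _ _ e1, phi_add hf]
  rw [this]
  exact M.mul_mem (h1.2 _ rfl) (h2.2 _ rfl)

theorem inA_neg {p u : Fin n → F} (h : InA f M p u) : InA f M p (-u) := by
  refine ⟨by rw [f_neg_right hf, h.1, neg_zero], fun g hg => ?_⟩
  have e1 : phi f u ⬝ᵥ p = 0 := by rw [phi_dot hf]; exact h.1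
  have hmul : g * mkTv (phi f u) p e1 = 1 := by
    apply Units.ext
    have e2 : phi f (-u) ⬝ᵥ p = 0 := by rw [phi_dot hf, f_neg_right hf, h.1, neg_zero]
    rw [Units.val_mul, hg, mkTv_coe, tvMat_mul _ _ _ e2, ← phi_add hf, neg_add_cancel,
      phi_zero hf]
    unfold tvMat
    simp
  have : g = (mkTv (phi f u) p e1)⁻¹ := eq_inv_of_mul_eq_one_left hmul
  rw [this]
  exact M.inv_mem (h.2 _ rfl)

/-- conjugating by an isometry in `M` fixing `p` -/
theorem inA_conj {p u : Fin n → F} (h : InA f M p u) (T : GL (Fin n) F) (hTM : T ∈ M)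
    (hTiso : ∀ x y, f ((T : Matrix (Fin n) (Fin n) F) *ᵥ x)
      ((T : Matrix (Fin n) (Fin n) F) *ᵥ y) = f x y)
    (hTp : (T : Matrix (Fin n) (Fin n) F) *ᵥ p = p) :
    InA f M p ((T : Matrix (Fin n) (Fin n) F) *ᵥ u) := by
  refine ⟨?_, fun g hg => ?_⟩
  · have := hTiso p u
    rw [hTp] at this
    rw [this]
    exact h.1
  · have e1 : phi f u ⬝ᵥ p = 0 := by rw [phi_dot hf]; exact h.1
    have hconj : g = T * mkTv (phi f u) p e1 * T⁻¹ := by
      apply Units.ext
      have hG : ((mkTv (phi f u) p e1 : GL (Fin n) F) : Matrix (Fin n) (Fin n) F) =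
          tvMat (phi f u) p := rfl
      rw [Units.val_mul, Units.val_mul, hG, conj_tvMat, hTp, hg]
      congr 1
      apply dotProduct_eq
      intro x
      rw [phi_dot hf, ← dotProduct_mulVec, phi_dot hf]
      have key := hTiso (((T⁻¹ : GL (Fin n) F) : Matrix (Fin n) (Fin n) F) *ᵥ x) u
      rw [mulVec_mulVec, ← Units.val_mul, mul_inv_cancel, Units.val_one, one_mulVec] at key
      exact key
    rw [hconj]
    exact M.mul_mem (M.mul_mem hTM (h.2 _ rfl)) (M.inv_mem hTM)

include hPM in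
/-- the basic step: moving by a unitary transvection -/
theorem inA_step {p u w : Fin n → F} (h : InA f M p u) (hw : f w w = 0) (hpw : f p w = 0)
    (a : F) (ha : a + σ a = 0) : InA f M p ((a * f u w) • w) := by
  obtain ⟨T, hT⟩ : ∃ T : GL (Fin n) F, T = mkTv (a • phi f w) w (tv_dot hf w a hw) := ⟨_, rfl⟩
  have hTM : T ∈ M := hPM (tv_mem hf w a hw ha T (by rw [hT]; rfl))
  have hTact : ∀ x, (T : Matrix (Fin n) (Fin n) F) *ᵥ x = x + (a * f x w) • w := by
    intro x
    rw [hT, mkTv_coe, tv_act hf]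
  have h1 := inA_conj hf h T hTM (fun x y => by rw [hTact, hTact, tv_iso hf w a hw ha])
    (by rw [hTact, hpw, mul_zero, zero_smul, add_zero])
  rw [hTact] at h1
  have h2 := inA_add hf h1 (inA_neg hf h)
  have e : u + (a * f u w) • w + -u = (a * f u w) • w := by abel
  rw [e] at h2
  exact h2

include hPM in
/-- a direction all of whose multiples are available -/
theorem inA_full_dir {p u w w' : Fin n → F} (h : InA f M p u) (hw : f w w = 0)
    (hw' : f w' w' = 0) (hpw : f p w = 0) (hpw' : f p w' = 0) (hww' : f w w' = 0)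
    (huw' : f u w' = 0) (huw : f u w ≠ 0) (μ : F) : InA f M p (μ • w') := by
  obtain ⟨θ, hθ0, hθ⟩ := exists_trace_zero hf
  set ν : F := μ / (θ * f u w) with hν
  have hiso : f (w + ν • w') (w + ν • w') = 0 := by
    rw [f_add_self hf, hw, f_smul_smul hf, hw', f_smul_right hf, hww', mul_zero, mul_zero,
      map_zero, add_zero, add_zero]
  have hp : f p (w + ν • w') = 0 := by
    rw [f_add_right hf, f_smul_right hf, hpw, hpw', mul_zero, add_zero]
  have h1 := inA_step hf hPM h hiso hp θ hθ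
  have h2 := inA_step hf hPM h hw hpw θ hθ
  rw [f_add_right hf, f_smul_right hf, huw', mul_zero, add_zero] at h1
  have h3 := inA_add hf h1 (inA_neg hf h2)
  have e : (θ * f u w) • (w + ν • w') + -((θ * f u w) • w) = μ • w' := by
    rw [smul_add, smul_smul, hν, mul_div_cancel₀ _ (mul_ne_zero hθ0 huw)]
    abel
  rw [e] at h3
  exact h3

/-- the directions all of whose multiples are available -/
def fullDir (M : Subgroup (GL (Fin n) F)) (p : Fin n → F) : Submodule F (Fin n → F) where
  carrier := {x | ∀ μ : F, InA f M p (μ • x)}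
  add_mem' := by
    intro a b ha hb μ
    rw [smul_add]
    exact inA_add hf (ha μ) (hb μ)
  zero_mem' := by
    intro μ
    rw [smul_zero]
    exact inA_zero hf p
  smul_mem' := by
    intro c x hx μ
    rw [smul_smul]
    exact hx _

theorem mem_fullDir (p x : Fin n → F) : x ∈ fullDir hf M p ↔ ∀ μ : F, InA f M p (μ • x) :=
  Iff.rfl

/-- the orthogonal complement of a vector -/
def perpSub (p : Fin n → F) : Submodule F (Fin n → F) where
  carrier := {y | f p y = 0}
  add_mem' := by
    intro a b ha hb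
    show f p (a + b) = 0
    rw [f_add_right hf, ha, hb, add_zero]
  zero_mem' := f_zero_right hf p
  smul_mem' := by
    intro c x hx
    show f p (c • x) = 0
    rw [f_smul_right hf, hx, mul_zero]

theorem mem_perpSub (p y : Fin n → F) : y ∈ perpSub hf p ↔ f p y = 0 := Iff.rfl

include hPM in
theorem fullDir_of_nonorth {p x w : Fin n → F} (hx : x ∈ fullDir hf M p) (hw : f w w = 0)
    (hpw : f p w = 0) (hxw : f x w ≠ 0) : w ∈ fullDir hf M p := by
  obtain ⟨θ, hθ0, hθ⟩ := exists_trace_zero hf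
  intro μ
  have h1 := inA_step hf hPM (hx (μ / (θ * f x w))) hw hpw θ hθ
  rw [hf.smul_left, ← mul_assoc, mul_comm θ, mul_assoc,
    div_mul_cancel₀ _ (mul_ne_zero hθ0 hxw)] at h1
  exact h1

include hPM in
/-- one full direction outside the centre gives all of them -/
theorem inA_all (hn : 6 < n) {p x₀ : Fin n → F} (hx₀ : x₀ ∈ fullDir hf M p)
    (hpx₀ : f p x₀ = 0) (hnot : ¬ ∃ a : F, x₀ = a • p) (y : Fin n → F) (hy : f p y = 0) :
    InA f M p y := by
  obtain ⟨w₀, hw₀, hpw₀, hxw₀⟩ := exists_iso_nonorth hf hn p x₀ hnot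
  have hle := span_lemma hf (perpSub hf p) (fullDir hf M p) x₀ w₀ hpx₀ hx₀ hpw₀ hw₀ hxw₀
    (fun w hwS hw hxw => fullDir_of_nonorth hf hPM hx₀ hw hwS hxw)
  have := hle hy 1
  rw [one_smul] at this
  exact this

theorem isCentre_of_full {p : Fin n → F} (h : ∀ w, f p w = 0 → InA f M p w) : IsCentre M p := by
  intro ψ hψ g hg
  obtain ⟨u, rfl⟩ := exists_phi hf ψ
  rw [phi_dot hf] at hψ
  exact (h u hψ).2 g hg

omit hf in
/-- the centres of `M` -/
def centreSub (M : Subgroup (GL (Fin n) F)) : Submodule F (Fin n → F) where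
  carrier := {v | IsCentre M v}
  add_mem' := by
    intro a b ha hb
    exact isCentre_add M a b ha hb
  zero_mem' := isCentre_zero M
  smul_mem' := by
    intro c x hx
    exact isCentre_smul M x c hx

include hPM in
theorem isCentre_all (hn : 6 < n) {p : Fin n → F} (hp0 : p ≠ 0) (hp : IsCentre M p) :
    ∀ v, IsCentre M v := by
  obtain ⟨θ, hθ0, hθ⟩ := exists_trace_zero hf
  obtain ⟨w₀, hw₀, -, hpw₀⟩ := exists_iso_nonorth hf hn 0 p (by
    rintro ⟨a, ha⟩
    rw [smul_zero] at ha
    exact hp0 ha)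
  have hle := span_lemma hf ⊤ (centreSub M) p w₀ Submodule.mem_top hp Submodule.mem_top hw₀ hpw₀
    (fun w _ hw hpw => by
      have hTM : mkTv (θ • phi f w) w (tv_dot hf w θ hw) ∈ M :=
        hPM (tv_mem hf w θ hw hθ _ rfl)
      have h1 := isCentre_mulVec M p _ hTM hp
      rw [mkTv_coe, tv_act hf] at h1
      have h2 := isCentre_add M _ _ h1 (isCentre_smul M p (-1) hp)
      have e : p + (θ * f p w) • w + (-1 : F) • p = (θ * f p w) • w := by
        rw [neg_smul, one_smul]; abel
      rw [e] at h2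
      have h3 := isCentre_smul M _ (θ * f p w)⁻¹ h2
      rw [smul_smul, inv_mul_cancel₀ (mul_ne_zero hθ0 hpw), one_smul] at h3
      exact h3)
  intro v
  exact hle (Submodule.mem_top : v ∈ ⊤)

end overgroup

/-- a matrix preserving orthogonality to isotropic vectors is a similarity -/
theorem mem_similarityGroup_of_perp (hn : 6 < n) (g : GL (Fin n) F)
    (h : ∀ x v, f v v = 0 → f x v = 0 → f ((g : Matrix (Fin n) (Fin n) F) *ᵥ x)
      ((g : Matrix (Fin n) (Fin n) F) *ᵥ v) = 0) : g ∈ Cfsg.Geo.similarityGroup f := by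
  have hsurj : ∀ y, ∃ x, (g : Matrix (Fin n) (Fin n) F) *ᵥ x = y := by
    intro y
    refine ⟨((g⁻¹ : GL (Fin n) F) : Matrix (Fin n) (Fin n) F) *ᵥ y, ?_⟩
    rw [mulVec_mulVec, ← Units.val_mul, mul_inv_cancel, Units.val_one, one_mulVec]
  have hinj : ∀ x, (g : Matrix (Fin n) (Fin n) F) *ᵥ x = 0 → x = 0 := by
    intro x hx
    have := congrArg (fun y => ((g⁻¹ : GL (Fin n) F) : Matrix (Fin n) (Fin n) F) *ᵥ y) hx
    simp only [mulVec_mulVec, mulVec_zero] at this
    rwa [← Units.val_mul, inv_mul_cancel, Units.val_one, one_mulVec] at this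
  -- the proportionality factor of each isotropic vector
  have hc : ∀ v, ∃ c : F, f v v = 0 → ∀ x, f ((g : Matrix (Fin n) (Fin n) F) *ᵥ x)
      ((g : Matrix (Fin n) (Fin n) F) *ᵥ v) = c * f x v := by
    intro v
    by_cases hv : f v v = 0
    · obtain ⟨u', hu'⟩ := exists_phi hf
        (phi f ((g : Matrix (Fin n) (Fin n) F) *ᵥ v) ᵥ* (g : Matrix (Fin n) (Fin n) F))
      have hu'' : ∀ x, f x u' = f ((g : Matrix (Fin n) (Fin n) F) *ᵥ x)
          ((g : Matrix (Fin n) (Fin n) F) *ᵥ v) := by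
        intro x
        rw [← phi_dot hf, hu', ← dotProduct_mulVec, phi_dot hf]
      obtain ⟨c, hcv⟩ := exists_smul_of_ker hf v u' (fun y hy => by
        rw [hu'']; exact h y v hv hy)
      refine ⟨σ c, fun _ x => ?_⟩
      rw [← hu'', hcv, f_smul_right hf]
    · exact ⟨0, fun h0 => absurd h0 hv⟩
  choose c hc using hc
  obtain ⟨θ, hθ0, hθ⟩ := exists_trace_zero hf
  have hcc : ∀ v w, f v v = 0 → f w w = 0 → f v w ≠ 0 → c v = c w := by
    intro v w hv hw hvw
    have hwv : f w v ≠ 0 := f_symm_ne hf hvw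
    set b : F := θ / f w v with hb
    have hb0 : σ b ≠ 0 := by
      rw [hb, map_div₀]
      exact div_ne_zero ((map_ne_zero σ).mpr hθ0) ((map_ne_zero σ).mpr hwv)
    have e : σ b * f v w = σ θ := by
      rw [hb, map_div₀, ← hf.herm v w, div_mul_cancel₀ _ hvw]
    have hzz : f (v + b • w) (v + b • w) = 0 := by
      rw [f_add_self hf, hv, f_smul_smul hf, hw, f_smul_right hf, e, hf.involutive, mul_zero,
        add_zero, zero_add]
      linear_combination hθ
    have hz := hc (v + b • w) hzz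
    have h1 := hz w
    rw [mulVec_add, mulVec_smul, f_add_right hf, f_smul_right hf, hc v hv, hc w hw, hw,
      f_add_right hf, f_smul_right hf, hw] at h1
    have h2 := hz v
    rw [mulVec_add, mulVec_smul, f_add_right hf, f_smul_right hf, hc v hv, hc w hw, hv,
      f_add_right hf, f_smul_right hf, hv] at h2
    have h3 : (c v - c (v + b • w)) * f w v = 0 := by linear_combination h1
    have h4 : (c w - c (v + b • w)) * (σ b * f v w) = 0 := by linear_combination h2
    rcases mul_eq_zero.mp h3 with h5 | h5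
    · rcases mul_eq_zero.mp h4 with h6 | h6
      · rw [sub_eq_zero.mp h5, sub_eq_zero.mp h6]
      · exact absurd h6 (mul_ne_zero hb0 hvw)
    · exact absurd h5 hwv
  have hconst : ∀ v w, v ≠ 0 → w ≠ 0 → f v v = 0 → f w w = 0 → c v = c w := by
    intro v w hv0 hw0 hv hw
    by_cases hvw : f v w = 0
    · obtain ⟨z, hz, hzv, hzw⟩ := exists_iso_cross hf v w hv0 hw0 hv hvw
      rw [hcc v z hv hz (f_symm_ne hf hzv), hcc z w hz hw hzw]
    · exact hcc v w hv hw hvw
  obtain ⟨v₀, hv₀0, hv₀, -⟩ := exists_iso_perp hf 0 (fun i => i.elim0) (by omega)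
  have hiso : ∀ v, f v v = 0 → ∀ x, f ((g : Matrix (Fin n) (Fin n) F) *ᵥ x)
      ((g : Matrix (Fin n) (Fin n) F) *ᵥ v) = c v₀ * f x v := by
    intro v hv x
    by_cases hv0 : v = 0
    · rw [hv0, mulVec_zero, f_zero_right hf, f_zero_right hf, mul_zero]
    · rw [hc v hv, hconst v v₀ hv0 hv₀0 hv hv₀]
  have hall : ∀ x y, f ((g : Matrix (Fin n) (Fin n) F) *ᵥ x)
      ((g : Matrix (Fin n) (Fin n) F) *ᵥ y) = c v₀ * f x y := by
    intro x y
    obtain ⟨v₁, v₂, h1, h2, rfl⟩ := exists_iso_decomp hf hn y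
    rw [mulVec_add, f_add_right hf, f_add_right hf, hiso v₁ h1, hiso v₂ h2]
    ring
  have hc0 : c v₀ ≠ 0 := by
    intro h0
    apply hv₀0
    apply hinj
    apply eq_zero_of_forall hf
    intro y
    obtain ⟨x, rfl⟩ := hsurj y
    rw [hall, h0, zero_mul]
  refine ⟨Units.mk0 (c v₀) hc0, fun u v => ?_⟩
  rw [Units.val_mk0]
  exact hall u v

theorem isMaximalIn (hn : 11 ≤ n) :
    Cfsg.Geo.IsMaximalIn (Cfsg.Geo.specialLinear (Fin n) F)
      (Cfsg.Geo.similarityGroup f ⊓ Cfsg.Geo.specialLinear (Fin n) F) := by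
  refine ⟨lt_of_le_of_ne inf_le_right ?_, ?_⟩
  · -- a transvection which is not a similarity
    intro hEq
    set p : Fin n → F := Pi.single ⟨0, by omega⟩ 1 with hp
    set e₁ : Fin n → F := Pi.single ⟨1, by omega⟩ 1 with he₁
    set e₂ : Fin n → F := Pi.single ⟨2, by omega⟩ 1 with he₂
    have hp0 : p ≠ 0 := by
      intro h0
      have := congrFun h0 ⟨0, by omega⟩
      rw [hp, Pi.single_eq_same] at this
      exact one_ne_zero this
    have h01 : (⟨0, by omega⟩ : Fin n) ≠ ⟨1, by omega⟩ := by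
      intro h; have := congrArg Fin.val h; simp at this
    have h12 : (⟨1, by omega⟩ : Fin n) ≠ ⟨2, by omega⟩ := by
      intro h; have := congrArg Fin.val h; simp at this
    have h02 : (⟨0, by omega⟩ : Fin n) ≠ ⟨2, by omega⟩ := by
      intro h; have := congrArg Fin.val h; simp at this
    obtain ⟨u, hpu, hu⟩ : ∃ u, f p u = 0 ∧ ¬ ∃ a : F, u = a • p := by
      by_cases h1 : f p e₁ = 0
      · refine ⟨e₁, h1, ?_⟩
        rintro ⟨a, ha⟩
        have := congrFun ha ⟨1, by omega⟩
        rw [he₁, hp, Pi.single_eq_same, Pi.smul_apply, Pi.single_eq_of_ne h01.symm,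
          smul_zero] at this
        exact one_ne_zero this
      · by_cases h2 : f p e₂ = 0
        · refine ⟨e₂, h2, ?_⟩
          rintro ⟨a, ha⟩
          have := congrFun ha ⟨2, by omega⟩
          rw [he₂, hp, Pi.single_eq_same, Pi.smul_apply, Pi.single_eq_of_ne h02.symm,
            smul_zero] at this
          exact one_ne_zero this
        · refine ⟨e₁ - σ (f p e₁ / f p e₂) • e₂, ?_, ?_⟩
          · rw [f_sub_right hf, f_smul_right hf, hf.involutive, div_mul_cancel₀ _ h2, sub_self]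
          · rintro ⟨a, ha⟩
            have := congrFun ha ⟨1, by omega⟩
            rw [he₁, he₂, hp, Pi.sub_apply, Pi.single_eq_same, Pi.smul_apply, Pi.smul_apply,
              Pi.single_eq_of_ne h12, Pi.single_eq_of_ne h01.symm, smul_zero, smul_zero,
              sub_zero] at this
            exact one_ne_zero this
    have e1 : phi f u ⬝ᵥ p = 0 := by rw [phi_dot hf]; exact hpu
    have hmem : mkTv (phi f u) p e1 ∈ Cfsg.Geo.similarityGroup f ⊓
        Cfsg.Geo.specialLinear (Fin n) F := by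
      rw [hEq, mem_specialLinear_iff, mkTv_coe, det_tvMat _ _ e1]
    obtain ⟨c, hc⟩ := hmem.1
    have hact : ∀ x, ((mkTv (phi f u) p e1 : GL (Fin n) F) : Matrix (Fin n) (Fin n) F) *ᵥ x =
        x + f x u • p := by
      intro x
      rw [mkTv_coe, tvMat_mulVec, phi_dot hf]
    obtain ⟨y, hyu, hpy⟩ : ∃ y, f y u = 0 ∧ f p y ≠ 0 := by
      by_contra hcon
      push Not at hcon
      obtain ⟨a, ha⟩ := exists_smul_of_ker hf u p (fun y hy =>
        f_symm_zero hf (hcon y hy))
      have ha0 : a ≠ 0 := by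
        rintro rfl
        rw [zero_smul] at ha
        exact hp0 ha
      apply hu
      refine ⟨a⁻¹, ?_⟩
      rw [ha, smul_smul, inv_mul_cancel₀ ha0, one_smul]
    have hc1 : (c : F) = 1 := by
      have h1 := hc p y
      rw [hact, hact, hyu, zero_smul, add_zero, hpu, zero_smul, add_zero] at h1
      have h2 : ((c : F) - 1) * f p y = 0 := by linear_combination -h1
      rcases mul_eq_zero.mp h2 with h3 | h3
      · exact sub_eq_zero.mp h3
      · exact absurd h3 hpy
    obtain ⟨y₁, hy₁p, hy₁u⟩ : ∃ y₁, f y₁ p = 0 ∧ f y₁ u ≠ 0 := by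
      by_contra hcon
      push Not at hcon
      exact hu (exists_smul_of_ker hf p u hcon)
    have h1 := hc y y₁
    rw [hact, hact, hyu, zero_smul, add_zero, hc1, one_mul, f_add_right hf,
      f_smul_right hf] at h1
    have h2 : σ (f y₁ u) * f y p = 0 := by linear_combination h1
    rcases mul_eq_zero.mp h2 with h3 | h3
    · exact hy₁u ((map_eq_zero σ).mp h3)
    · exact f_symm_ne hf hpy h3
  · intro M hPM hMS
    by_cases hMP : M ≤ Cfsg.Geo.similarityGroup f ⊓ Cfsg.Geo.specialLinear (Fin n) F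
    · left
      exact le_antisymm hMP hPM
    right
    apply le_antisymm hMS
    apply specialLinear_le (by omega)
    obtain ⟨g, hgM, hgP⟩ := SetLike.not_le_iff_exists.mp hMP
    have hgS : g ∉ Cfsg.Geo.similarityGroup f := fun h => hgP ⟨h, hMS hgM⟩
    obtain ⟨x, v, hvv, hxv, hgxv⟩ : ∃ x v, f v v = 0 ∧ f x v = 0 ∧
        f ((g : Matrix (Fin n) (Fin n) F) *ᵥ x) ((g : Matrix (Fin n) (Fin n) F) *ᵥ v) ≠ 0 := by
      by_contra hcon
      push Not at hcon
      exact hgS (mem_similarityGroup_of_perp hf (by omega) g hcon)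
    obtain ⟨θ, hθ0, hθ⟩ := exists_trace_zero hf
    have hTM : mkTv (θ • phi f v) v (tv_dot hf v θ hvv) ∈ M := hPM (tv_mem hf v θ hvv hθ _ rfl)
    obtain ⟨u, hu⟩ := exists_phi hf
      ((θ • phi f v) ᵥ* ((g⁻¹ : GL (Fin n) F) : Matrix (Fin n) (Fin n) F))
    have hu' : ∀ y, f y u =
        θ * f (((g⁻¹ : GL (Fin n) F) : Matrix (Fin n) (Fin n) F) *ᵥ y) v := by
      intro y
      rw [← phi_dot hf, hu, ← dotProduct_mulVec, smul_dotProduct, phi_dot hf, smul_eq_mul]
    have hginv : ∀ y, ((g⁻¹ : GL (Fin n) F) : Matrix (Fin n) (Fin n) F) *ᵥ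
        ((g : Matrix (Fin n) (Fin n) F) *ᵥ y) = y := by
      intro y
      rw [mulVec_mulVec, ← Units.val_mul, inv_mul_cancel, Units.val_one, one_mulVec]
    obtain ⟨p, hp⟩ : ∃ p, p = (g : Matrix (Fin n) (Fin n) F) *ᵥ v := ⟨_, rfl⟩
    have hA : InA f M p u := by
      refine ⟨by rw [hu', hp, hginv, hvv, mul_zero], fun g' hg' => ?_⟩
      have : g' = g * mkTv (θ • phi f v) v (tv_dot hf v θ hvv) * g⁻¹ := by
        apply Units.ext
        rw [Units.val_mul, Units.val_mul, mkTv_coe, conj_tvMat, hg', hu, hp]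
      rw [this]
      exact M.mul_mem (M.mul_mem hgM hTM) (M.inv_mem hgM)
    have hnot : ¬ ∃ a : F, u = a • p := by
      rintro ⟨a, ha⟩
      have h1 := hu' ((g : Matrix (Fin n) (Fin n) F) *ᵥ x)
      rw [hginv, hxv, mul_zero, ha, f_smul_right hf, hp] at h1
      rcases mul_eq_zero.mp h1 with h2 | h2
      · rw [(map_eq_zero σ).mp h2, zero_smul] at ha
        have hv0 : v = 0 := by
          apply eq_zero_of_forall hf
          intro y
          have h3 := hu' ((g : Matrix (Fin n) (Fin n) F) *ᵥ y)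
          rw [hginv, ha, f_zero_right hf] at h3
          rcases mul_eq_zero.mp h3.symm with h4 | h4
          · exact absurd h4 hθ0
          · exact h4
        apply hgxv
        rw [hv0, mulVec_zero, f_zero_right hf]
      · exact hgxv h2
    have hp0 : p ≠ 0 := by
      intro h0
      apply hgxv
      rw [← hp, h0, f_zero_right hf]
    -- the configuration
    obtain ⟨w, hww, hpw, huw⟩ := exists_iso_nonorth hf (by omega) p u hnot
    obtain ⟨z, hz⟩ := exists_pair hf p hp0
    obtain ⟨w', hw'0, hw', hwb⟩ := exists_iso_perp hf 4 ![p, u, w, z] (by omega)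
    have hw'p : f w' p = 0 := hwb 0
    have hw'u : f w' u = 0 := hwb 1
    have hw'w : f w' w = 0 := hwb 2
    have hw'z : f w' z = 0 := hwb 3
    have hw'not : ¬ ∃ a : F, w' = a • p := by
      rintro ⟨a, ha⟩
      rw [ha, hf.smul_left] at hw'z
      rcases mul_eq_zero.mp hw'z with h1 | h1
      · rw [h1, zero_smul] at ha
        exact hw'0 ha
      · exact f_symm_ne hf hz h1
    have hfull : w' ∈ fullDir hf M p := fun μ =>
      inA_full_dir hf hPM hA hww hw' hpw (f_symm_zero hf hw'p) (f_symm_zero hf hw'w)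
        (f_symm_zero hf hw'u) huw μ
    have hC := isCentre_of_full hf (fun y hy =>
      inA_all hf hPM (by omega) hfull (f_symm_zero hf hw'p) hw'not y hy)
    exact isCentre_all hf hPM (by omega) hp0 hC

end Cfsg.Agent.Lib.Helper5.UInSLMax
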