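import Cfsg.Agent.Lib.Helper8.ZJI0
import Cfsg.Agent.Lib.Helper8.ZJIZ2
import Cfsg.Agent.Lib.Helper2.ZJIC
import Cfsg.Agent.Lib.Helper9.ZJIB
import Cfsg.Agent.Lib.Helper5.ZJIStep4

/-!
# S2756, PIECE H (`ZJ_le_pCore`, `hAL`) and PIECE E (verbatim wrapper) of helper8's plan (helper5)

`good` (piece G) and `inverted_mem_pCore` (piece D) enter as explicit hypotheses.
-/

set_option autoImplicit false
set_option maxHeartbeats 1000000
set_option linter.style.haveILetI false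
set_option linter.unusedVariables false
set_option linter.unusedSectionVars false
open scoped Pointwise commutatorElement
universe u v

namespace Cfsg.Agent.Lib.Helper5.ZJIH

open Cfsg.Agent.Lib.Helper8.ZJI

variable {G : Type u} [Group G] [Finite G] {q : ℕ} [hq : Fact q.Prime]

/-- PIECE E, verbatim up to the explicit hypothesis `hmem` (= `inverted_mem_pCore`, piece D). -/
theorem centralizer_pCore_le (h : MinCE q G)
    (hmem : ∀ {x s : G}, (∃ k : ℕ, orderOf x = q ^ k) → s * x * s⁻¹ = x⁻¹ →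
      x ∈ Cfsg.pCore q G) :
    Subgroup.centralizer (Cfsg.pCore q G : Set G) ≤ Cfsg.pCore q G := by
  obtain ⟨x, s, hx1, hxq, hinv⟩ := h.inv
  exact Cfsg.Agent.Lib.Helper5.ZJI.centralizer_pCore_le q
    (Cfsg.Agent.Lib.Helper2.ZJI.MinCE_hIH h) (Cfsg.Agent.Lib.Helper2.ZJI.MinCE_hplus h)
    (fun N hN hc => by
      haveI := hN
      exact Cfsg.Agent.Lib.Helper9.ZJI.core_prime_eq_bot h N hc)
    x s hx1 (hmem hxq hinv) hinv

/-- a double commutator vanishes when everything happens inside an abelian subgroup -/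
theorem quad_of_le_abelian {B Z A : Subgroup G} (hBA : ∀ b ∈ B, ∀ z ∈ Z, ⁅b, z⁆ ∈ A)
    (hZA : Z ≤ A) (hA : ∀ x ∈ A, ∀ y ∈ A, x * y = y * x) : ⁅⁅B, Z⁆, Z⁆ = ⊥ := by
  rw [Subgroup.commutator_eq_bot_iff_le_centralizer]
  have h1 : ⁅B, Z⁆ ≤ A := Subgroup.commutator_le.mpr hBA
  intro c hc
  rw [Subgroup.mem_centralizer_iff]
  intro z hz
  exact hA z (hZA hz) c (h1 hc)

/-- the common core of step 6: a `q`-subgroup `Ts` containing `A ∈ AA T` with `ZJ Ts` normal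
swallows `ZJ T`. -/
theorem ZJ_le_ZJ_of_sylow (T : Sylow q G) {A Ts : Subgroup G} (hA : A ∈ AA (T : Subgroup G))
    (hTs : IsPGroup q Ts) (hATs : A ≤ Ts) (hZn : (ZJ Ts).Normal) :
    ZJ (T : Subgroup G) ≤ ZJ Ts ∧ A ∈ AA Ts := by
  obtain ⟨T1, hT1⟩ := hTs.exists_le_sylow
  obtain ⟨g, rfl⟩ := MulAction.exists_smul_eq G T T1
  have hmap : ((g • T : Sylow q G) : Subgroup G) =
      (T : Subgroup G).map (MulAut.conj g).toMonoidHom := by
    rw [Sylow.coe_subgroup_smul, Subgroup.pointwise_smul_def]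
    rfl
  have hZ : ZJ ((g • T : Sylow q G) : Subgroup G) =
      (ZJ (T : Subgroup G)).map (MulAut.conj g).toMonoidHom := by
    rw [hmap]
    exact ZJ_map_injOn _ _ ((MulAut.conj g).injective.injOn)
  obtain ⟨hAT, hAc, hAmax⟩ := mem_AA_iff.mp hA
  have hA1 : A ∈ AA ((g • T : Sylow q G) : Subgroup G) := by
    rw [mem_AA_iff]
    refine ⟨hATs.trans hT1, hAc, ?_⟩
    intro B hB hBc
    set B' : Subgroup G := B.map (MulAut.conj g⁻¹).toMonoidHom with hB'
    have hcard : Nat.card B' = Nat.card B :=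
      Subgroup.card_map_of_injective (MulAut.conj g⁻¹).injective
    have hB'T : B' ≤ (T : Subgroup G) := by
      rintro _ ⟨b, hb, rfl⟩
      have hb1 := hB hb
      rw [hmap] at hb1
      obtain ⟨t, ht, rfl⟩ := hb1
      simp only [MulEquiv.coe_toMonoidHom, MulAut.conj_apply]
      have : g⁻¹ * (g * t * g⁻¹) * g⁻¹⁻¹ = t := by group
      rw [this]; exact ht
    have hB'c : ∀ x ∈ B', ∀ y ∈ B', x * y = y * x := comm_map _ hBc
    rw [← hcard]
    exact hAmax B' hB'T hB'c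
  obtain ⟨h1, h2⟩ := ZJ_le_ZJ_of_mem hT1 hA1 hATs
  refine ⟨?_, h2⟩
  intro z hz
  have hz1 : g * z * g⁻¹ ∈ ZJ ((g • T : Sylow q G) : Subgroup G) := by
    rw [hZ]
    exact ⟨z, hz, by simp [MulAut.conj_apply]⟩
  have hz2 := h1 hz1
  have := hZn.conj_mem _ hz2 g⁻¹
  have e : g⁻¹ * (g * z * g⁻¹) * g⁻¹⁻¹ = z := by group
  rwa [e] at this

/-- `KK q P ≤ P` for `P = O_q(G)` when `C_G(P) ≤ P`. -/
theorem KK_pCore_le (hE : Subgroup.centralizer (Cfsg.pCore q G : Set G) ≤ Cfsg.pCore q G) :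
    haveI : (Cfsg.pCore q G).Normal := Cfsg.Agent.Lib.Helper1.pCore_normal q
    KK q (Cfsg.pCore q G) ≤ Cfsg.pCore q G := by
  haveI : (Cfsg.pCore q G).Normal := Cfsg.Agent.Lib.Helper1.pCore_normal q
  apply Cfsg.Agent.Lib.Helper1.le_pCore (KK_normal q _)
  intro k
  have hk : (k : G) ∈ KK q (Cfsg.pCore q G) := k.2
  unfold KK at hk
  rw [Subgroup.mem_comap] at hk
  have hPq : IsPGroup q (Cfsg.pCore q (G ⧸ Subgroup.centralizer (Cfsg.pCore q G : Set G))) :=
    Cfsg.Agent.Lib.Helper1.pCore_isPGroup q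
  obtain ⟨n, hn⟩ := hPq ⟨_, hk⟩
  have hn' : (QuotientGroup.mk' (Subgroup.centralizer (Cfsg.pCore q G : Set G)) (k : G)) ^ q ^ n
      = 1 := by
    have := congrArg Subtype.val hn
    simpa using this
  rw [← map_pow, QuotientGroup.mk'_apply, QuotientGroup.eq_one_iff] at hn'
  have hP := hE hn'
  have hPq' : IsPGroup q (Cfsg.pCore q G) := Cfsg.Agent.Lib.Helper1.pCore_isPGroup q
  obtain ⟨m, hm⟩ := hPq' ⟨_, hP⟩
  have hm' : ((k : G) ^ q ^ n) ^ q ^ m = 1 := by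
    have := congrArg Subtype.val hm
    simpa using this
  refine ⟨n + m, ?_⟩
  apply Subtype.ext
  rw [pow_add, pow_mul]
  simpa using hm'

/-- the shape of `good` (piece G) used as a hypothesis below -/
def GoodHyp (q : ℕ) [Fact q.Prime] (G : Type u) [Group G] [Finite G] : Prop :=
  ∀ (T : Sylow q G) (B : Subgroup G) [B.Normal], IsPGroup q B → ∀ a : G,
    a ∈ (T : Subgroup G) → ⁅⁅B, Subgroup.zpowers a⁆, Subgroup.zpowers a⁆ = ⊥ → a ∉ KK q B →
    ∀ A0 : Subgroup G, A0 ≤ (T : Subgroup G) → (∀ y ∈ A0, y * a = a * y) →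
    ∃ Ts : Subgroup G, IsPGroup q Ts ∧ A0 ≤ Ts ∧ (ZJ Ts).Normal

/-- PIECE H (1): `ZJ T ≤ O_q(G)` (no non-normality hypothesis needed). -/
theorem ZJ_le_pCore (hgood : GoodHyp q G)
    (hE : Subgroup.centralizer (Cfsg.pCore q G : Set G) ≤ Cfsg.pCore q G)
    (T : Sylow q G) : ZJ (T : Subgroup G) ≤ Cfsg.pCore q G := by
  haveI hPn : (Cfsg.pCore q G).Normal := Cfsg.Agent.Lib.Helper1.pCore_normal q
  have hPq : IsPGroup q (Cfsg.pCore q G) := Cfsg.Agent.Lib.Helper1.pCore_isPGroup q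
  by_contra hnot
  obtain ⟨a, haZ, haP⟩ := SetLike.not_le_iff_exists.mp hnot
  obtain ⟨A, hA⟩ := AA_nonempty (T : Subgroup G)
  have haA : a ∈ A := ZJ_le_of_mem hA haZ
  have hAT : A ≤ (T : Subgroup G) := (mem_AA_iff.mp hA).1
  have haT : a ∈ (T : Subgroup G) := ZJ_le _ haZ
  have haKK : a ∉ KK q (Cfsg.pCore q G) := fun hh => haP (KK_pCore_le hE hh)
  have hza : Subgroup.zpowers a ≤ ZJ (T : Subgroup G) := by
    rw [Subgroup.zpowers_le]; exact haZ
  have hquad : ⁅⁅Cfsg.pCore q G, Subgroup.zpowers a⁆, Subgroup.zpowers a⁆ = ⊥ := by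
    apply quad_of_le_abelian (A := ZJ (T : Subgroup G)) _ hza (ZJ_comm _)
    intro b hb z hz
    have hbT : b ∈ (T : Subgroup G) := Cfsg.Agent.Lib.Helper1.pCore_le_sylow q T hb
    have hbN : b ∈ Subgroup.normalizer (ZJ (T : Subgroup G) : Set G) :=
      normalizer_le_normalizer_ZJ _ (Subgroup.le_normalizer hbT)
    rw [commutatorElement_def]
    exact (ZJ (T : Subgroup G)).mul_mem
      ((Subgroup.mem_normalizer_iff.mp hbN z).mp (hza hz))
      ((ZJ (T : Subgroup G)).inv_mem (hza hz))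
  have hcomm : ∀ y ∈ A, y * a = a * y := fun y hy =>
    (commute_of_mem_ZJ_of_mem_AA hA haZ hy).symm
  obtain ⟨Ts, hTsq, hATs, hZn⟩ := hgood T (Cfsg.pCore q G) hPq a haT hquad haKK A hAT hcomm
  obtain ⟨hle, _⟩ := ZJ_le_ZJ_of_sylow T hA hTsq hATs hZn
  have hZq : IsPGroup q (ZJ Ts) := hTsq.to_le (ZJ_le Ts)
  exact haP (Cfsg.Agent.Lib.Helper1.le_pCore hZn hZq (hle haZ))

/-- PIECE H (2): the stability substitute `hAL`. -/
theorem hAL (hgood : GoodHyp q G) (T : Sylow q G) (B : Subgroup G) [B.Normal]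
    (hB : IsPGroup q B)
    (hcl : Subgroup.normalClosure ((ZJ (T : Subgroup G) ⊓ B : Subgroup G) : Set G) = B)
    (A : Subgroup G) (hA : A ∈ AA (T : Subgroup G))
    (hBA : B ≤ Subgroup.normalizer (A : Set G)) : A ≤ KK q B := by
  by_contra hnot
  obtain ⟨a, haA, haK⟩ := SetLike.not_le_iff_exists.mp hnot
  obtain ⟨hAT, hAc, _⟩ := mem_AA_iff.mp hA
  have haT : a ∈ (T : Subgroup G) := hAT haA
  have hza : Subgroup.zpowers a ≤ A := by
    rw [Subgroup.zpowers_le]; exact haA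
  have hquad : ⁅⁅B, Subgroup.zpowers a⁆, Subgroup.zpowers a⁆ = ⊥ := by
    apply quad_of_le_abelian (A := A) _ hza hAc
    intro b hb z hz
    have hbN := hBA hb
    rw [commutatorElement_def]
    exact A.mul_mem ((Subgroup.mem_normalizer_iff.mp hbN z).mp (hza hz)) (A.inv_mem (hza hz))
  have hcomm : ∀ y ∈ A, y * a = a * y := fun y hy => hAc y hy a haA
  obtain ⟨Ts, hTsq, hATs, hZn⟩ := hgood T B hB a haT hquad haK A hAT hcomm
  obtain ⟨hle, hATs'⟩ := ZJ_le_ZJ_of_sylow T hA hTsq hATs hZn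
  have hBZ : B ≤ ZJ Ts := by
    rw [← hcl]
    haveI := hZn
    apply Subgroup.normalClosure_le_normal
    intro z hz
    exact hle hz.1
  apply haK
  apply centralizer_le_KK q B
  rw [Subgroup.mem_centralizer_iff]
  intro b hb
  exact commute_of_mem_ZJ_of_mem_AA hATs' (hBZ hb) haA

/-- PIECE H, verbatim forms (with `good` and `centralizer_pCore_le` as hypotheses). -/
theorem ZJ_le_pCore' (h : MinCE q G) (hgood : GoodHyp q G)
    (hE : Subgroup.centralizer (Cfsg.pCore q G : Set G) ≤ Cfsg.pCore q G)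
    (T : Sylow q G) (hn : ¬ (ZJ (T : Subgroup G)).Normal) :
    ZJ (T : Subgroup G) ≤ Cfsg.pCore q G :=
  ZJ_le_pCore hgood hE T

end Cfsg.Agent.Lib.Helper5.ZJIH
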